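import Cfsg.Statements.S3389


set_option autoImplicit false
open Cfsg

namespace Cfsg.Agent.S3389

open MulAction in
theorem center_dvd {G : Type*} [Group G] [Finite G] {Ω : Type*} [Finite Ω] [MulAction G Ω]
    [FaithfulSMul G Ω] (htr : IsPretransitive G Ω) (g : G) :
    Nat.card (Subgroup.center G) ∣ Nat.card (fixedBy Ω g) := by
  classical
  have hsemi : ∀ z ∈ Subgroup.center G, ∀ a : Ω, z • a = a → z = 1 := by
    intro z hz a ha
    refine FaithfulSMul.eq_of_smul_eq_smul (α := Ω) fun b => ?_
    obtain ⟨h, rfl⟩ := htr.exists_smul_eq a b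
    rw [one_smul, ← mul_smul, ← Subgroup.mem_center_iff.1 hz h, mul_smul, ha]
  let A : SubMulAction (Subgroup.center G) Ω :=
    { carrier := fixedBy Ω g
      smul_mem' := fun z a (ha : g • a = a) => by
        change g • (z : G) • a = (z : G) • a
        rw [← mul_smul, Subgroup.mem_center_iff.1 z.2 g, mul_smul, ha] }
  have hst : ∀ a : A, stabilizer (Subgroup.center G) a = ⊥ := by
    intro a
    rw [eq_bot_iff]
    intro z hz
    have h : (z : G) • (a : Ω) = a := congrArg Subtype.val hz
    exact Subgroup.mem_bot.2 (Subtype.ext (hsemi z z.2 a h))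
  have e := (selfEquivSigmaOrbitsQuotientStabilizer (Subgroup.center G) A)
  have hc : Nat.card A = Nat.card (Quotient (orbitRel (Subgroup.center G) A)) *
      Nat.card (Subgroup.center G) := by
    have : Fintype (Quotient (orbitRel (Subgroup.center G) A)) := Fintype.ofFinite _
    rw [Nat.card_congr e, Nat.card_sigma, Finset.sum_const_nat (m := Nat.card (Subgroup.center G)),
      Finset.card_univ, Nat.card_eq_fintype_card
        (α := Quotient (orbitRel (Subgroup.center G) A))]
    intro q _
    have hi := hst q.out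
    change (stabilizer (Subgroup.center G) q.out).index = _
    rw [hi, Subgroup.index_bot]
  exact ⟨_, (show Nat.card (fixedBy Ω g) = Nat.card A from rfl).trans (hc.trans (mul_comm _ _))⟩

open MulAction in
theorem even_of_fixity_two {G : Type*} [Group G] [Finite G] {Ω : Type*} [Finite Ω]
    [MulAction G Ω] (htr : IsPretransitive G Ω)
    (hfix : ∀ g : G, g ≠ 1 → Nat.card (fixedBy Ω g) ≤ 2)
    (hex : ∃ g : G, g ≠ 1 ∧ Nat.card (fixedBy Ω g) = 2) : 2 ∣ Nat.card G := by
  classical
  by_contra hodd
  obtain ⟨g, hg1, hg2⟩ := hex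
  rw [Nat.card_coe_set_eq] at hg2
  obtain ⟨a, b, hab, hset⟩ := Set.ncard_eq_two.1 hg2
  have hga : g • a = a := by
    have : a ∈ fixedBy Ω g := by rw [hset]; exact Or.inl rfl
    exact this
  have hgb : g • b = b := by
    have : b ∈ fixedBy Ω g := by rw [hset]; exact Or.inr rfl
    exact this
  have three : ∀ x : G, x ≠ 1 → x • a = a → ∀ c d : Ω, c ≠ a → d ≠ a → x • c = c → x • d = d →
      c = d := by
    intro x hx hxa c d hc hd hxc hxd
    by_contra hcd
    have h := hfix x hx
    rw [Nat.card_coe_set_eq] at h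
    have hs : ({a, c, d} : Set Ω) ⊆ fixedBy Ω x := by
      rintro w (rfl | rfl | rfl)
      exacts [hxa, hxc, hxd]
    have := (Set.ncard_le_ncard hs (Set.toFinite _)).trans h
    rw [Set.ncard_insert_of_notMem (by simp [hc.symm, hd.symm]) (Set.toFinite _),
      Set.ncard_pair hcd] at this
    omega
  set M := stabilizer G a with hM
  let T : Ω → Type _ := fun c => {x : M // x ≠ 1 ∧ (x : G) • c = c}
  have key : ∀ c : Ω, (∃ x : G, x ≠ 1 ∧ x • a = a ∧ x • c = c) →
      2 * Nat.card M ≤ 3 * Nat.card ((w : orbit M c) × T (w : Ω)) := by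
    intro c ⟨x, hx, hxa, hxc⟩
    have : Fintype (orbit M c) := Fintype.ofFinite _
    have hw : ∀ w : orbit M c,
        Nat.card (T (w : Ω)) + 1 = Nat.card (stabilizer M c) := by
      rintro ⟨w, m, rfl⟩
      rw [← Nat.card_congr (stabilizerEquivStabilizerOfOrbitRel
        (show orbitRel M Ω (m • c) c from ⟨m, rfl⟩)).toEquiv]
      have e : T (m • c) ≃ {x : stabilizer M (m • c) // x ≠ 1} :=
        { toFun := fun x => ⟨⟨x.1, x.2.2⟩, fun h => x.2.1 (congrArg Subtype.val h)⟩
          invFun := fun x => ⟨x.1.1, fun h => x.2 (Subtype.ext h), x.1.2⟩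
          left_inv := fun x => rfl
          right_inv := fun x => rfl }
      rw [Nat.card_congr e]
      have : Fintype (stabilizer M (m • c)) := Fintype.ofFinite _
      rw [Nat.card_eq_fintype_card, Nat.card_eq_fintype_card, Fintype.card_subtype_compl,
        Fintype.card_subtype_eq]
      exact Nat.sub_add_cancel Fintype.card_pos
    set s := Nat.card (stabilizer M c) with hs
    have hs3 : 3 ≤ s := by
      have h1 : Nontrivial (stabilizer M c) :=
        ⟨⟨⟨⟨x, hxa⟩, hxc⟩, 1, fun h => hx (congrArg (fun y : stabilizer M c => ((y : M) : G)) h)⟩⟩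
      have h2 : 1 < s := Finite.one_lt_card
      have h3 : ¬ 2 ∣ s := fun h => hodd ((h.trans (Subgroup.card_subgroup_dvd_card _)).trans
        (Subgroup.card_subgroup_dvd_card M))
      omega
    have hcard : Nat.card M = Nat.card (orbit M c) * s := by
      rw [hs, Nat.card_coe_set_eq, ← index_stabilizer, Subgroup.index_mul_card]
    rw [hcard, Nat.card_sigma, Finset.sum_const_nat (m := s - 1) (fun w _ => by
      have := hw w; omega), Finset.card_univ, ← Nat.card_eq_fintype_card]
    calc 2 * (Nat.card (orbit M c) * s) = Nat.card (orbit M c) * (2 * s) := by ring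
      _ ≤ Nat.card (orbit M c) * (3 * (s - 1)) := Nat.mul_le_mul_left _ (by omega)
      _ = _ := by ring
  have neA : ∀ c : Ω, c ≠ a → ∀ w ∈ orbit M c, w ≠ a := by
    rintro c hc w ⟨m, rfl⟩ h
    exact hc ((smul_left_cancel (m : G)) (h.trans m.2.symm))
  obtain ⟨h, hh⟩ := htr.exists_smul_eq b a
  set b' := h • a with hb'
  have hb'a : b' ≠ a := fun e => hab ((smul_left_cancel h) (e.trans hh.symm))
  have hb'fix : ∃ x : G, x ≠ 1 ∧ x • a = a ∧ x • b' = b' := by
    refine ⟨h * g * h⁻¹, fun e => hg1 (conj_eq_one_iff.1 e), ?_, ?_⟩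
    · rw [← hh, ← mul_smul, inv_mul_cancel_right, mul_smul, hgb]
    · rw [hb', ← mul_smul, inv_mul_cancel_right, mul_smul, hga]
  by_cases hsame : b' ∈ orbit M b
  · obtain ⟨m, hm⟩ := hsame
    change (m : G) • b = b' at hm
    set u := (m : G)⁻¹ * h with hu
    have hma : (m : G)⁻¹ • a = a := inv_smul_eq_iff.2 m.2.symm
    have hub : u • b = a := by rw [hu, mul_smul, hh, hma]
    have hua : u • a = b := by rw [hu, mul_smul, inv_smul_eq_iff, hm]
    obtain ⟨j, hj⟩ : Odd (orderOf u) := Nat.odd_iff.2 (by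
      have := (Nat.Prime.coprime_iff_not_dvd Nat.prime_two).2 hodd
      have h2 : ¬ 2 ∣ orderOf u := fun h => hodd (h.trans (orderOf_dvd_natCard u))
      omega)
    have hsq : ∀ i : ℕ, u ^ (2 * i) • a = a := by
      intro i
      induction i with
      | zero => simp
      | succ i ih => rw [Nat.mul_succ, pow_add, mul_smul, pow_two, mul_smul, hua, hub, ih]
    have : u • a = a := by
      have h1 := pow_orderOf_eq_one u
      rw [hj, pow_succ'] at h1
      calc u • a = u • u ^ (2 * j) • a := by rw [hsq]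
        _ = a := by rw [← mul_smul, h1, one_smul]
    exact hab (this.symm.trans hua)
  · have k1 := key b ⟨g, hg1, hga, hgb⟩
    have k2 := key b' hb'fix
    let F : ((w : orbit M b) × T (w : Ω)) ⊕ ((w : orbit M b') × T (w : Ω)) → {x : M // x ≠ 1} :=
      Sum.elim (fun p => ⟨p.2.1, p.2.2.1⟩) (fun p => ⟨p.2.1, p.2.2.1⟩)
    have hne : ∀ x : M, x ≠ 1 → (x : G) ≠ 1 := fun x hx e => hx (Subtype.ext e)
    have hF : Function.Injective F := by
      rintro (⟨⟨w, hw⟩, x, hx, hxw⟩ | ⟨⟨w, hw⟩, x, hx, hxw⟩)
        (⟨⟨v, hv⟩, y, hy, hyv⟩ | ⟨⟨v, hv⟩, y, hy, hyv⟩) e <;>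
        simp only [F, Sum.elim_inl, Sum.elim_inr, Subtype.mk.injEq] at e <;> subst e
      · obtain rfl := three x (hne x hx) x.2 w v (neA b hab.symm w hw) (neA b hab.symm v hv) hxw hyv
        rfl
      · obtain rfl := three x (hne x hx) x.2 w v (neA b hab.symm w hw) (neA b' hb'a v hv) hxw hyv
        exact absurd ((orbit_eq_iff.2 hv).symm.trans (orbit_eq_iff.2 hw) ▸ mem_orbit_self b') hsame
      · obtain rfl := three x (hne x hx) x.2 w v (neA b' hb'a w hw) (neA b hab.symm v hv) hxw hyv
        exact absurd ((orbit_eq_iff.2 hw).symm.trans (orbit_eq_iff.2 hv) ▸ mem_orbit_self b') hsame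
      · obtain rfl := three x (hne x hx) x.2 w v (neA b' hb'a w hw) (neA b' hb'a v hv) hxw hyv
        rfl
    have hle := Nat.card_le_card_of_injective F hF
    rw [Nat.card_sum] at hle
    have hlt : Nat.card {x : M // x ≠ 1} < Nat.card M := by
      exact Finite.card_subtype_lt (x := (1 : M)) (by simp)
    omega

/-- Let G be a finite group acting faithfully and transitively on a finite set Ω with fixity k ≥ 1: every non-identity element fixes at most k points and some non-identity element fixes exactly k points. Then |Z(G)| divides k; if k = 2 then |G| is even; and for every prime p > k dividing |G| and every point α, either p does not divide |G_α| or G_α contains a Sylow p-subgroup of G. -/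
theorem result {G : Type*} [Group G] [Finite G] {Ω : Type*} [Fintype Ω] [MulAction G Ω] [FaithfulSMul G Ω]
    (htr : MulAction.IsPretransitive G Ω) (k : ℕ) (hk : 1 ≤ k)
    (hfix : ∀ g : G, g ≠ 1 → Nat.card (MulAction.fixedBy Ω g) ≤ k) (hex : ∃ g : G, g ≠ 1 ∧ Nat.card (MulAction.fixedBy Ω g) = k) :
    Nat.card (Subgroup.center G) ∣ k ∧ (k = 2 → 2 ∣ Nat.card G) ∧
      ∀ (p : ℕ), p.Prime → k < p → p ∣ Nat.card G → ∀ α : Ω,
        ¬ p ∣ Nat.card (MulAction.stabilizer G α) ∨ ¬ p ∣ (MulAction.stabilizer G α).index := by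
  obtain ⟨g, hg1, hgk⟩ := hex
  refine ⟨hgk ▸ center_dvd htr g, fun h => ?_, fun p hp hkp _ α => ?_⟩
  · subst h; exact even_of_fixity_two htr hfix ⟨g, hg1, hgk⟩
  · by_contra hcon
    push Not at hcon
    obtain ⟨h1, h2⟩ := hcon
    have : Fact p.Prime := ⟨hp⟩
    set M := MulAction.stabilizer G α
    obtain ⟨Q⟩ := (inferInstance : Nonempty (Sylow p M))
    set Q' : Subgroup G := (Q : Subgroup M).map M.subtype with hQ'
    have hQ'p : IsPGroup p Q' := Q.2.map _
    obtain ⟨P, hP⟩ := hQ'p.exists_le_sylow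
    have hQ'card : Nat.card Q' = p ^ (Nat.card M).factorization p := by
      rw [hQ', Nat.card_congr (Subgroup.equivMapOfInjective _ _ M.subtype_injective).symm.toEquiv,
        Q.card_eq_multiplicity]
    have hlt : Q' < P := by
      refine lt_of_le_of_ne hP fun e => ?_
      have hPc := P.card_eq_multiplicity
      rw [← e, hQ'card] at hPc
      have := Nat.pow_right_injective hp.two_le hPc
      rw [← M.card_mul_index, Nat.factorization_mul (Nat.card_pos.ne') (Subgroup.index_ne_zero_of_finite),
        Finsupp.add_apply] at this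
      have := (hp.factorization_pos_of_dvd Subgroup.index_ne_zero_of_finite h2)
      omega
    have : Group.IsNilpotent (P : Subgroup G) := P.2.isNilpotent
    have hsub : Q'.subgroupOf P < ⊤ := by
      rw [lt_top_iff_ne_top, Ne, Subgroup.subgroupOf_eq_top]
      exact not_le_of_gt hlt
    have hN := Group.normalizerCondition_of_isNilpotent (G := (P : Subgroup G)) _ hsub
    obtain ⟨x, hxN, hxQ⟩ := SetLike.exists_of_lt hN
    set N := Subgroup.normalizer ((Q'.subgroupOf P : Subgroup (P : Subgroup G)) : Set (P : Subgroup G)) with hNdef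
    obtain ⟨q, hqQ, hq1⟩ : ∃ q ∈ Q', q ≠ 1 := by
      by_contra hh
      push Not at hh
      have hb : Q' = ⊥ := (Subgroup.eq_bot_iff_forall _).2 hh
      rw [hb, Subgroup.card_bot] at hQ'card
      have := hp.factorization_pos_of_dvd Nat.card_pos.ne' h1
      have := Nat.one_lt_pow this.ne' hp.one_lt
      omega
    have horb : MulAction.orbit N α ⊆ MulAction.fixedBy Ω q := by
      rintro _ ⟨⟨n, hn⟩, rfl⟩
      change q • (n : G) • α = (n : G) • α
      have hm : n⁻¹ * ⟨q, hP hqQ⟩ * n ∈ Q'.subgroupOf P :=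
        (Subgroup.mem_normalizer_iff''.1 hn _).1 hqQ
      obtain ⟨m, -, hm⟩ := hm
      have hm' : (n : G)⁻¹ * q * n ∈ M := by
        simp only [Subgroup.coe_mul, Subgroup.coe_inv, Subgroup.coe_subtype] at hm
        exact hm ▸ m.2
      have e : ((n : G)⁻¹ * q * n) • α = α := hm'
      rw [mul_smul, mul_smul, inv_smul_eq_iff] at e
      exact e
    have hNp : IsPGroup p N := P.2.to_subgroup _
    obtain ⟨j, hj⟩ := hNp.card_orbit α
    have hle : Nat.card (MulAction.orbit N α) ≤ k :=
      (Nat.card_mono (Set.toFinite _) horb).trans (hfix q hq1)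
    have hj0 : j = 0 := by
      by_contra hj0
      have := Nat.le_self_pow hj0 p
      omega
    rw [hj0, pow_zero, Nat.card_eq_one_iff_unique] at hj
    have hxM : (x : G) ∈ M := by
      have := hj.1.elim (⟨(x : G) • α, ⟨⟨x, hxN⟩, rfl⟩⟩ : MulAction.orbit N α)
        ⟨α, MulAction.mem_orbit_self α⟩
      exact congrArg Subtype.val this
    -- the subgroup generated by `Q` and `x` is a `p`-subgroup of `M`
    let R : Subgroup G := Q' ⊔ Subgroup.zpowers (x : G)
    have hRM : R ≤ M := sup_le (Subgroup.map_subtype_le _) (Subgroup.zpowers_le.2 hxM)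
    have hRP : R ≤ P := sup_le hP (Subgroup.zpowers_le.2 x.2)
    have hR : IsPGroup p (R.subgroupOf M) :=
      (P.2.to_le hRP).of_equiv (Subgroup.subgroupOfEquivOfLe hRM).symm
    have hQR : (Q : Subgroup M) ≤ R.subgroupOf M := fun y hy =>
      Subgroup.mem_sup_left (Subgroup.mem_map_of_mem _ hy)
    have := Q.3 hR hQR
    apply hxQ
    have hx' : (⟨x, hxM⟩ : M) ∈ (Q : Subgroup M) :=
      this ▸ (Subgroup.mem_sup_right (Subgroup.mem_zpowers _) : (x : G) ∈ R)
    exact Subgroup.mem_map_of_mem M.subtype hx'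

end Cfsg.Agent.S3389
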