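import Cfsg.Statements.S3390
import Cfsg.Agent.Lib.FixityTwoSylow.Pair
-- import your own Cfsg.Agent.* helpers here

set_option autoImplicit false
open Cfsg
open MulAction Cfsg.Agent.Lib.FixityTwoSylow

namespace Cfsg.Agent.S3390

/-- Let G be a finite group acting faithfully and transitively on a finite set Ω with fixity 2 (every non-identity element fixes at most two points, and some fixes exactly two). Let α ∈ Ω and S a Sylow 2-subgroup of G. Then one of the following holds: the stabilizer S_α of α in S is trivial; S is dihedral or semidihedral and either |S_α| = 2 or |S : S_α| = 2; |S| ≥ 4, S has exactly one orbit of size 2 on Ω, every other S-orbit is regular, and G has a normal subgroup of index 2 or of index |S| which is a Frobenius group; or S ≤ G_α. -/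
theorem result {G : Type*} [Group G] [Finite G] {Ω : Type*} [Fintype Ω] [MulAction G Ω] [FaithfulSMul G Ω] (htr : MulAction.IsPretransitive G Ω)
    (hfix : ∀ g : G, g ≠ 1 → Nat.card (MulAction.fixedBy Ω g) ≤ 2) (hex : ∃ g : G, g ≠ 1 ∧ Nat.card (MulAction.fixedBy Ω g) = 2) (α : Ω) (S : Sylow 2 G) :
    (S : Subgroup G) ⊓ MulAction.stabilizer G α = ⊥ ∨
    (((∃ n : ℕ, Nonempty (↥(S : Subgroup G) ≃* DihedralGroup n)) ∨ Cfsg.IsQuasiDihedral ↥(S : Subgroup G)) ∧
       (Nat.card ↥((S : Subgroup G) ⊓ MulAction.stabilizer G α) = 2 ∨ ((S : Subgroup G) ⊓ MulAction.stabilizer G α).relIndex (S : Subgroup G) = 2)) ∨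
    (4 ≤ Nat.card (S : Subgroup G) ∧
       (∃ ω : Ω, Nat.card (MulAction.orbit ↥(S : Subgroup G) ω) = 2 ∧
          ∀ ω' : Ω, ω' ∉ MulAction.orbit ↥(S : Subgroup G) ω → Nat.card (MulAction.orbit ↥(S : Subgroup G) ω') = Nat.card (S : Subgroup G)) ∧
       ∃ N : Subgroup G, N.Normal ∧ (N.index = 2 ∨ N.index = Nat.card (S : Subgroup G)) ∧ (∃ H : Subgroup ↥N, Cfsg.IsFrobeniusComplement H)) ∨
    (S : Subgroup G) ≤ MulAction.stabilizer G α := by
  classical
  haveI := htr
  haveI : Fact (Nat.Prime 2) := ⟨Nat.prime_two⟩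
  have h2 : AtMostTwo G Ω := atMostTwo_of_card hfix
  have h2S : AtMostTwo ↥(S : Subgroup G) Ω := fun g hg a b c ha hb hc =>
    h2 (g : G) (fun h => hg (Subtype.ext h)) a b c ha hb hc
  have hXp : IsPGroup 2 ↥(S : Subgroup G) := S.isPGroup'
  have hsub : ((S : Subgroup G) ⊓ stabilizer G α).subgroupOf (S : Subgroup G) =
      stabilizer ↥(S : Subgroup G) α := by
    ext x
    simp [Subgroup.mem_subgroupOf]
    rfl
  have hcardR : Nat.card ↥((S : Subgroup G) ⊓ stabilizer G α) =
      Nat.card (stabilizer ↥(S : Subgroup G) α) := by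
    rw [← hsub, Nat.card_congr (Subgroup.subgroupOfEquivOfLe inf_le_left).toEquiv]
  by_cases hR : (S : Subgroup G) ⊓ stabilizer G α = ⊥
  · exact Or.inl hR
  obtain ⟨⟨u0, hu0⟩, hu0''⟩ := Subgroup.ne_bot_iff_exists_ne_one.1 hR
  have hu0' : u0 ≠ 1 := fun h => hu0'' (Subtype.ext h)
  obtain ⟨u, hu, hu1⟩ : ∃ u : ↥(S : Subgroup G), u • α = α ∧ u ≠ 1 :=
    ⟨⟨u0, hu0.1⟩, hu0.2, fun h => hu0' (congrArg Subtype.val h)⟩
  haveI : Nontrivial ↥(S : Subgroup G) := ⟨⟨u, 1, hu1⟩⟩
  haveI := hXp.center_nontrivial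
  obtain ⟨k, hk0, hk⟩ := (hXp.to_subgroup (Subgroup.center ↥(S : Subgroup G))).nontrivial_iff_card.1
    inferInstance
  obtain ⟨zc, hzc⟩ := exists_prime_orderOf_dvd_card'
    (G := Subgroup.center ↥(S : Subgroup G)) 2 (by rw [hk]; exact dvd_pow_self 2 (by omega))
  have hzord : orderOf (zc : ↥(S : Subgroup G)) = 2 := by rw [Subgroup.orderOf_coe]; exact hzc
  by_cases hall : ∃ o : Ω, ∀ s : ↥(S : Subgroup G), s • o = o
  · obtain ⟨o, ho⟩ := hall
    refine Or.inr (Or.inr (Or.inr fun s hs => mem_stabilizer_iff.2 ?_))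
    exact case_fixed h2S zc.2 (fun h => by rw [h, orderOf_one] at hzord; omega) ho hu hu1 ⟨s, hs⟩
  by_cases hex' : ∃ z : ↥(S : Subgroup G), orderOf z = 2 ∧ z ∈ Subgroup.center ↥(S : Subgroup G) ∧
      ∃ o : Ω, z • o = o
  · obtain ⟨z, hz, hzm, o, hzo⟩ := hex'
    obtain ⟨s₀, hs₀⟩ : ∃ s : ↥(S : Subgroup G), s • o ≠ o := by
      by_contra! h
      exact hall ⟨o, h⟩
    set o' := s₀ • o with ho'
    have hz1 : z ≠ 1 := fun h => by rw [h, orderOf_one] at hz; omega
    have hcen : ∀ g : ↥(S : Subgroup G), g * z = z * g := fun g => Subgroup.mem_center_iff.1 hzm g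
    have hzS : ∀ s : ↥(S : Subgroup G), z • (s • o) = s • o := fun s => by
      rw [← mul_smul, ← hcen, mul_smul, hzo]
    have horb : ∀ s t : ↥(S : Subgroup G), s • (t • o) = o ∨ s • (t • o) = o' := by
      intro s t
      rw [← mul_smul]
      rcases h2S z hz1 o o' ((s * t) • o) hzo (hzS s₀) (hzS _) with e | e | e
      · exact absurd e.symm hs₀
      · exact Or.inl e.symm
      · exact Or.inr e.symm
    have horb1 : ∀ s : ↥(S : Subgroup G), s • o = o ∨ s • o = o' := fun s => by
      simpa using horb s 1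
    have horbit : orbit ↥(S : Subgroup G) o = {o, o'} := by
      ext p
      simp only [Set.mem_insert_iff, Set.mem_singleton_iff]
      constructor
      · rintro ⟨s, rfl⟩
        exact horb1 s
      · rintro (rfl | rfl)
        · exact mem_orbit_self _
        · exact mem_orbit _ s₀
    by_cases hout : ∃ p : Ω, p ≠ o ∧ p ≠ o' ∧ ∃ r : ↥(S : Subgroup G), r ≠ 1 ∧ r • p = p
    · obtain ⟨p, hp, hp', r, hr1, hr⟩ := hout
      refine Or.inr (Or.inl ⟨(case_pair h2S hXp hz hzm (Ne.symm hs₀) hzo (hzS s₀) horb1 hp hp' hr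
        hr1).1, ?_⟩)
      by_cases hα : α ∈ ({o, o'} : Set Ω)
      · right
        rw [Subgroup.relIndex, hsub, index_stabilizer]
        have : orbit ↥(S : Subgroup G) α = {o, o'} := by
          rw [← horbit, orbit_eq_iff, horbit]
          exact hα
        rw [this, Set.ncard_pair (Ne.symm hs₀)]
      · left
        simp only [Set.mem_insert_iff, Set.mem_singleton_iff, not_or] at hα
        rw [hcardR]
        exact (case_pair h2S hXp hz hzm (Ne.symm hs₀) hzo (hzS s₀) horb1 hα.1 hα.2 hu hu1).2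
    · push Not at hout
      have hstab2 : (stabilizer ↥(S : Subgroup G) o).index = 2 := by
        rw [index_stabilizer, horbit, Set.ncard_pair (Ne.symm hs₀)]
      refine Or.inr (Or.inr (Or.inl ⟨?_, ⟨o, ?_, ?_⟩, ?_⟩))
      · rw [← Subgroup.card_mul_index (stabilizer ↥(S : Subgroup G) o), hstab2]
        have hne : stabilizer ↥(S : Subgroup G) o ≠ ⊥ := fun h => by
          have : z ∈ stabilizer ↥(S : Subgroup G) o := hzo
          rw [h, Subgroup.mem_bot] at this
          exact hz1 this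
        have := Subgroup.one_lt_card_iff_ne_bot _ |>.2 hne
        omega
      · rw [Nat.card_coe_set_eq, horbit, Set.ncard_pair (Ne.symm hs₀)]
      · intro p hp
        rw [horbit, Set.mem_insert_iff, Set.mem_singleton_iff, not_or] at hp
        rw [Nat.card_coe_set_eq, ← index_stabilizer]
        have : stabilizer ↥(S : Subgroup G) p = ⊥ := by
          rw [Subgroup.eq_bot_iff_forall]
          intro s hs
          by_contra hs1
          exact hout p hp.1 hp.2 s hs1 hs
        rw [this, Subgroup.index_bot]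
      · obtain ⟨N, hN, hN2, H, hH⟩ := exists_frobenius (α := Ω) h2 S (o := o) (o' := o')
          (Ne.symm hs₀)
          ⟨(z : G), z.2, fun h => hz1 (Subtype.ext h), hzo⟩ s₀.2 rfl
          (fun s hs => horb1 ⟨s, hs⟩) (fun s hs => horb ⟨s, hs⟩ s₀)
          (fun s hs p hp hs1 => by
            by_contra hcon
            push Not at hcon
            exact hout p hcon.1 hcon.2 ⟨s, hs⟩ (fun h => hs1 (congrArg Subtype.val h)) hp)
        exact ⟨N, hN, Or.inl hN2, H, hH⟩
  · push Not at hex'
    have := case_semiregular h2S hXp hex' hzord zc.2 hu hu1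
    exact Or.inr (Or.inl ⟨this.1, Or.inl (hcardR.trans this.2)⟩)

end Cfsg.Agent.S3390
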