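import Cfsg.Statements.S3391
import Cfsg.Agent.Lib.SzFixity.Main

set_option autoImplicit false
open Cfsg Cfsg.Agent.Lib.LieTwisted.Suzuki

namespace Cfsg.Agent.S3391

/-- Let q = 2^{2m+1} ≥ 8 and let G be isomorphic to the Suzuki group Sz(q). If G acts faithfully and transitively on a finite set Ω with fixity 2 (every non-identity element fixes at most two points, and some fixes exactly two), then either |Ω| = q² + 1 and the action is 2-transitive, or |Ω| = q²(q² + 1) and the point stabilizers have order q − 1. -/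
theorem result {G : Type*} [Group G] [Finite G] (F : Type) [Field F] [Fintype F] (m : ℕ) (hm : 1 ≤ m) (hF : Fintype.card F = 2 ^ (2 * m + 1))
    (e : G ≃* ↥(Cfsg.Lie.Sz F (2 ^ (m + 1)))) {Ω : Type*} [Fintype Ω] [MulAction G Ω] [FaithfulSMul G Ω] (htr : MulAction.IsPretransitive G Ω)
    (hfix : ∀ g : G, g ≠ 1 → Nat.card (MulAction.fixedBy Ω g) ≤ 2) (hex : ∃ g : G, g ≠ 1 ∧ Nat.card (MulAction.fixedBy Ω g) = 2) :
    (Fintype.card Ω = Fintype.card F ^ 2 + 1 ∧ MulAction.IsMultiplyPretransitive G Ω 2) ∨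
    (Fintype.card Ω = Fintype.card F ^ 2 * (Fintype.card F ^ 2 + 1) ∧ ∀ α : Ω, Nat.card (MulAction.stabilizer G α) = Fintype.card F - 1) := by
  have h : IsSzField F m := ⟨hF⟩
  let φ : Cfsg.Sz F m ≃* G := (szEquiv h hm).trans e.symm
  letI : MulAction (Cfsg.Sz F m) Ω := MulAction.compHom Ω φ.toMonoidHom
  have hs : ∀ (x : Cfsg.Sz F m) (ω : Ω), x • ω = φ x • ω := fun _ _ => rfl
  have hfb : ∀ x : Cfsg.Sz F m, MulAction.fixedBy Ω x = MulAction.fixedBy Ω (φ x) := fun _ => rfl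
  have htr' : MulAction.IsPretransitive (Cfsg.Sz F m) Ω := ⟨fun a b => by
    obtain ⟨g, hg⟩ := htr.exists_smul_eq a b
    exact ⟨φ.symm g, by rw [hs, φ.apply_symm_apply, hg]⟩⟩
  have hfa : FaithfulSMul (Cfsg.Sz F m) Ω := ⟨fun {x y} hxy =>
    φ.injective (FaithfulSMul.eq_of_smul_eq_smul fun ω => hxy ω)⟩
  have hfix' : ∀ x : Cfsg.Sz F m, x ≠ 1 → Nat.card (MulAction.fixedBy Ω x) ≤ 2 := fun x hx => by
    rw [hfb]; exact hfix _ fun z => hx (φ.injective (z.trans (map_one φ).symm))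
  have hex' : ∃ x : Cfsg.Sz F m, x ≠ 1 ∧ Nat.card (MulAction.fixedBy Ω x) = 2 := by
    obtain ⟨g, hg, hg2⟩ := hex
    exact ⟨φ.symm g, fun z => hg (by simpa using congrArg φ z), by rw [hfb, φ.apply_symm_apply, hg2]⟩
  rcases Cfsg.Agent.Lib.SzFixity.fixity_two h hm hfix' htr' hfa hex' with ⟨h1, h2⟩ | ⟨h1, h2⟩
  · refine Or.inl ⟨by rw [← Nat.card_eq_fintype_card, h1], MulAction.is_two_pretransitive_iff.2 ?_⟩
    intro a b c d hab hcd
    obtain ⟨x, hx1, hx2⟩ := MulAction.is_two_pretransitive_iff.1 h2 hab hcd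
    exact ⟨φ x, hx1, hx2⟩
  · refine Or.inr ⟨by rw [← Nat.card_eq_fintype_card, h1], fun α => ?_⟩
    rw [← h2 α]
    exact (Nat.card_congr (φ.toEquiv.subtypeEquiv fun x => Iff.rfl)).symm

end Cfsg.Agent.S3391
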