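import Cfsg.Statements.S3399
import Cfsg.Agent.Lib.HalfFixed36.Main

set_option autoImplicit false
open Cfsg

namespace Cfsg.Agent.S3399

/-- Let G be a transitive permutation group of finite degree n and K a nontrivial subgroup of G that is pronormal in G (K and gKg⁻¹ are conjugate inside ⟨K, gKg⁻¹⟩ for every g ∈ G). If K fixes exactly f points, then f ≤ (n − 1)/2, that is, 2f + 1 ≤ n. -/
theorem result (n : ℕ) (G : Subgroup (Equiv.Perm (Fin n)))
    (htrans : ∀ a b : Fin n, ∃ g ∈ G, g a = b)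
    (K : Subgroup (Equiv.Perm (Fin n))) (hKG : K ≤ G) (hK : K ≠ ⊥)
    (hpro : ∀ g ∈ G, ∃ w ∈ K ⊔ K.map (MulAut.conj g).toMonoidHom,
      K.map (MulAut.conj w).toMonoidHom = K.map (MulAut.conj g).toMonoidHom) :
    2 * Nat.card {a : Fin n // ∀ k ∈ K, k a = a} + 1 ≤ n := by
  classical
  let F : Finset (Fin n) := Finset.univ.filter fun a => ∀ k ∈ K, k a = a
  have htr : MulAction.IsPretransitive ↥G (Fin n) :=
    MulAction.IsPretransitive.mk fun a b => by
      obtain ⟨g, hg, e⟩ := htrans a b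
      exact ⟨⟨g, hg⟩, e⟩
  have hF : ∀ a, a ∈ F ↔ ∀ k ∈ K.subgroupOf G, k • a = a := by
    intro a
    simp only [F, Finset.mem_filter, Finset.mem_univ, true_and]
    exact ⟨fun h k hk => h k hk, fun h k hk => h ⟨k, hKG hk⟩ hk⟩
  have hmoved : ∃ z, z ∉ F := by
    by_contra hcon
    push Not at hcon
    refine hK ((Subgroup.eq_bot_iff_forall K).2 fun k hk => Equiv.ext fun a => ?_)
    have := hcon a
    simp only [F, Finset.mem_filter, Finset.mem_univ, true_and] at this
    rw [Equiv.Perm.coe_one, id_eq]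
    exact this k hk
  have hP : HalfFixed36.Pro (K.subgroupOf G) := by
    intro g
    obtain ⟨w, hw, heq⟩ := hpro g g.2
    have hgle : K.map (MulAut.conj (g : Equiv.Perm (Fin n))).toMonoidHom ≤ G := by
      rintro _ ⟨k, hk, rfl⟩
      simp only [MulEquiv.coe_toMonoidHom, MulAut.conj_apply]
      exact mul_mem (mul_mem g.2 (hKG hk)) (inv_mem g.2)
    have hwG : w ∈ G := sup_le hKG hgle hw
    have hmap : ∀ v : G, (K.subgroupOf G).map (MulAut.conj v).toMonoidHom =
        (K.map (MulAut.conj (v : Equiv.Perm (Fin n))).toMonoidHom).subgroupOf G := by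
      intro v
      ext x
      simp only [Subgroup.mem_map, Subgroup.mem_subgroupOf, MulEquiv.coe_toMonoidHom,
        MulAut.conj_apply]
      constructor
      · rintro ⟨k, hk, rfl⟩; exact ⟨(k : Equiv.Perm (Fin n)), hk, rfl⟩
      · rintro ⟨k, hk, hkx⟩; exact ⟨⟨k, hKG hk⟩, hk, Subtype.ext hkx⟩
    refine ⟨⟨w, hwG⟩, ?_, ?_⟩
    · rw [hmap, ← Subgroup.subgroupOf_sup hKG hgle, Subgroup.mem_subgroupOf]
      exact hw
    · rw [hmap, hmap, heq]
  have h := HalfFixed36.half_below (Fintype.card (Fin n) + 1) ↥G (Fin n) (Nat.lt_succ_self _) htr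
    (K.subgroupOf G) F hF hmoved hP
  rw [Fintype.card_fin] at h
  rw [Nat.card_eq_fintype_card, Fintype.card_subtype]
  exact h

end Cfsg.Agent.S3399
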