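import Cfsg.Statements.S3401
import Cfsg.Agent.Lib.Spectrum.TwoTransTwoModFour
set_option autoImplicit false
open Cfsg

namespace Cfsg.Agent.S3401

/-- Let G be a doubly transitive permutation group on a finite set Ω with |Ω| ≡ 2 mod 4 and |Ω| > 2. Then G has a unique minimal normal subgroup M (a nontrivial normal subgroup contained in every nontrivial normal subgroup); M is simple and doubly transitive on Ω, and its centralizer in G is trivial (so G embeds in Aut(M)). -/
theorem result {G : Type*} [Group G] [Finite G] {Ω : Type*} [Fintype Ω] [MulAction G Ω] [FaithfulSMul G Ω]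
    (h2 : MulAction.IsMultiplyPretransitive G Ω 2) (hn : Fintype.card Ω % 4 = 2) (hn2 : 2 < Fintype.card Ω) :
    ∃ M : Subgroup G, M.Normal ∧ M ≠ ⊥ ∧ (∀ N : Subgroup G, N.Normal → N ≠ ⊥ → M ≤ N) ∧
      IsSimpleGroup ↥M ∧ MulAction.IsMultiplyPretransitive ↥M Ω 2 ∧ Subgroup.centralizer (M : Set G) = ⊥ := by
  classical
  have h2' : ∀ a b c d : Ω, a ≠ b → c ≠ d → ∃ g : G, g • a = c ∧ g • b = d :=
    fun a b c d hab hcd => MulAction.is_two_pretransitive_iff.1 h2 hab hcd
  have hcard : Nat.card Ω % 4 = 2 := by rw [Nat.card_eq_fintype_card]; exact hn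
  have h3 : ∀ a b : Ω, ∃ c, c ≠ a ∧ c ≠ b := by
    intro a b
    by_contra hne
    have hsub : (Finset.univ : Finset Ω) ⊆ {a, b} := fun x _ => by
      by_contra hx
      simp only [Finset.mem_insert, Finset.mem_singleton, not_or] at hx
      exact hne ⟨x, hx⟩
    have := (Finset.card_le_card hsub).trans Finset.card_le_two
    rw [Finset.card_univ] at this
    omega
  obtain ⟨M, hM, hMne, hmin⟩ :=
    Cfsg.Agent.Lib.Spectrum.TwoTransTwoModFour.exists_least_normal h2' hcard h3
  have hM2 := Cfsg.Agent.Lib.Spectrum.TwoTransTwoModFour.two_transitive_of_normal h2' hcard hM hMne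
  refine ⟨M, hM, hMne, hmin, ?_, ?_,
    Cfsg.Agent.Lib.Spectrum.TwoTransTwoModFour.centralizer_eq_bot h3 hM2⟩
  · obtain ⟨L, hL, hLne, hLmin⟩ :=
      Cfsg.Agent.Lib.Spectrum.TwoTransTwoModFour.exists_least_normal (G := M) (Ω := Ω)
        (fun a b c d hab hcd => by
          obtain ⟨m, hm, e1, e2⟩ := hM2 a b c d hab hcd
          exact ⟨⟨m, hm⟩, e1, e2⟩) hcard h3
    have hinv : ∀ g : G, L.map (MulAut.conjNormal g : MulAut M).toMonoidHom = L := by
      intro g
      have h1 : L ≤ L.map (MulAut.conjNormal g : MulAut M).toMonoidHom :=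
        hLmin _ (hL.map _ (MulEquiv.surjective _)) (fun hb => hLne (by
          rwa [Subgroup.map_eq_bot_iff_of_injective] at hb
          exact (MulAut.conjNormal g : MulAut M).injective))
      refine (Subgroup.eq_of_le_of_card_ge h1 (le_of_eq ?_)).symm
      exact Subgroup.card_map_of_injective (MulAut.conjNormal g : MulAut M).injective
    have hLG : (L.map M.subtype).Normal := by
      refine ⟨?_⟩
      rintro _ ⟨x, hx, rfl⟩ g
      refine ⟨MulAut.conjNormal g x, ?_, ?_⟩
      · have := Subgroup.mem_map_of_mem (MulAut.conjNormal g : MulAut M).toMonoidHom hx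
        rwa [hinv g] at this
      · simp
    have htop : L = ⊤ := by
      rw [eq_top_iff]
      rintro x -
      have hne' : L.map M.subtype ≠ ⊥ := fun hb => hLne (by
        rwa [Subgroup.map_eq_bot_iff_of_injective _ M.subtype_injective] at hb)
      obtain ⟨y, hy, hyx⟩ := hmin _ hLG hne' x.2
      exact Subtype.ext hyx ▸ hy
    haveI : Nontrivial M := (Subgroup.nontrivial_iff_ne_bot M).2 hMne
    exact ⟨fun N hN => or_iff_not_imp_left.2 fun hb => eq_top_iff.2 (htop ▸ hLmin N hN hb)⟩
  · refine MulAction.is_two_pretransitive_iff.2 fun {a b c d} hab hcd => ?_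
    obtain ⟨m, hm, e1, e2⟩ := hM2 a b c d hab hcd
    exact ⟨⟨m, hm⟩, e1, e2⟩

end Cfsg.Agent.S3401
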