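import Cfsg.Statements.S3406
import Cfsg.Agent.S0348
import Cfsg.Agent.Lib.AutOrbits5.Identify

set_option autoImplicit false
open Cfsg

namespace Cfsg.Agent.S3406

/-- A non-abelian finite simple group on whose elements the full automorphism group has at most five orbits is isomorphic to the alternating group of degree 5 or 6, to PSL(2, 7) or to PSL(2, 8). -/
theorem result {G : Type*} [Group G] [Finite G] [IsSimpleGroup G] (hG : ¬ IsMulCommutative G)
    (h5 : Nat.card (MulAction.orbitRel.Quotient (MulAut G) G) ≤ 5) :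
    Nonempty (G ≃* ↥(alternatingGroup (Fin 5))) ∨ Nonempty (G ≃* ↥(alternatingGroup (Fin 6))) ∨
      (∃ (F : Type) (_ : Field F) (_ : Fintype F), (Fintype.card F = 7 ∨ Fintype.card F = 8) ∧
        Nonempty (G ≃* Matrix.ProjectiveSpecialLinearGroup (Fin 2) F)) := by
  classical
  have hne : ∃ a b : G, a * b ≠ b * a := by
    by_contra hc
    push Not at hc
    exact hG ⟨⟨hc⟩⟩
  rcases S0348.result hne (fun t ht => Lib.AutOrbits5.isPGroup_centralizer hG h5 ht) with
    ⟨F, iF, iT, hF, ⟨i⟩⟩ | ⟨F, iF, iT, hF, ⟨i⟩⟩ | hS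
  · exact Lib.AutOrbits5.of_psl_two hG h5 hF i
  · obtain ⟨e⟩ := Lib.PSL34Orders.exists_fieldEquiv F hF
    obtain ⟨j⟩ := Lib.Golay.PSL34.psl_congr e
    exact (Lib.AutOrbits5.of_psl_three_false h5 (i.trans j)).elim
  · exact (Lib.AutOrbits5.suzuki_false hG h5 hS).elim

end Cfsg.Agent.S3406
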