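import Cfsg.Statements.S3411
import Cfsg.Agent.Lib.TICyclic68.Main

set_option autoImplicit false
open Cfsg

namespace Cfsg.Agent.S3411

/-- Let G be a finite non-abelian simple group. Every cyclic subgroup of G of prime power order is a TI-subgroup (meets each of its conjugates trivially or entirely) if and only if G is isomorphic to PSL_2(F) for a finite field F with more than 3 elements, or to the first Janko group (in its 7-dimensional representation over the field with 11 elements). -/
theorem result {G : Type*} [Group G] [Finite G] [IsSimpleGroup G] (hG : ¬ IsMulCommutative G) :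
    (∀ H : Subgroup G, IsCyclic H → IsPrimePow (Nat.card H) → (∀ g : G, (H).map (MulAut.conj g).toMonoidHom = H ∨ (H).map (MulAut.conj g).toMonoidHom ⊓ H = ⊥)) ↔
    ((∃ (F : Type) (_ : Field F) (_ : Fintype F), 3 < Fintype.card F ∧ Nonempty (G ≃* Matrix.ProjectiveSpecialLinearGroup (Fin 2) F)) ∨ Cfsg.Spor.IsoJ1 G) := by
  refine ⟨fun h => Cfsg.Agent.Lib.TICyclic68.classification hG h, ?_⟩
  rintro (⟨F, hFi, hFf, -, ⟨e⟩⟩ | ⟨⟨e⟩⟩)
  · exact Cfsg.Agent.Lib.TICyclic68.TIP.of_equiv e Cfsg.Agent.Lib.TICyclic68.tip_psl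
  · exact Cfsg.Agent.Lib.TICyclic68.TIP.of_equiv e Cfsg.Agent.Lib.TICyclic68.tip_J1

end Cfsg.Agent.S3411
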