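import Cfsg.Statements.S3412
import Cfsg.Agent.Lib.Spectrum.SLThreeThree
import Cfsg.Agent.Lib.Spectrum.CommGraphPlane
set_option autoImplicit false
open Cfsg

namespace Cfsg.Agent.S3412

/-- Let H be a finite group whose commuting graph (vertices the non-identity elements, two joined when they commute) is isomorphic to that of PSL_3(3): there is a bijection between the non-identity elements of H and of PSL_3(3) under which two elements commute exactly when their images do. Then H ≅ PSL_3(3). -/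
theorem result {H : Type*} [Group H] [Finite H]
    (f : {h : H // h ≠ 1} ≃ {g : Matrix.ProjectiveSpecialLinearGroup (Fin 3) (ZMod 3) // g ≠ 1})
    (hf : ∀ x y : {h : H // h ≠ 1}, (x : H) * y = y * x ↔ ((f x) : Matrix.ProjectiveSpecialLinearGroup (Fin 3) (ZMod 3)) * (f y) = (f y) * (f x)) :
    Nonempty (H ≃* Matrix.ProjectiveSpecialLinearGroup (Fin 3) (ZMod 3)) := by
  classical
  have : Fact (Nat.Prime 3) := ⟨Nat.prime_three⟩
  have : Finite (Matrix.SpecialLinearGroup (Fin 3) (ZMod 3)) :=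
    Nat.finite_of_card_ne_zero (by rw [Cfsg.Agent.Lib.Spectrum.SLThreeThree.card_SL3]; norm_num)
  have hcenter : Subgroup.center (Matrix.SpecialLinearGroup (Fin 3) (ZMod 3)) = ⊥ := by
    apply Subgroup.eq_bot_of_card_eq
    rw [Cfsg.Agent.Lib.Linear.card_center_SL, Fintype.card_fin, Nat.card_zmod]
    rfl
  let j : Matrix.SpecialLinearGroup (Fin 3) (ZMod 3) ≃*
      Matrix.ProjectiveSpecialLinearGroup (Fin 3) (ZMod 3) :=
    ((QuotientGroup.quotientMulEquivOfEq hcenter).trans QuotientGroup.quotientBot).symm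
  obtain ⟨e₀, he₀, hcomm₀⟩ := Cfsg.Agent.Lib.Spectrum.CommGraph.extend f hf
  obtain ⟨e, he1, hcomm⟩ : ∃ e : H ≃ Matrix.SpecialLinearGroup (Fin 3) (ZMod 3), e 1 = 1 ∧
      ∀ x y : H, x * y = y * x ↔ e x * e y = e y * e x := by
    refine ⟨e₀.trans j.symm.toEquiv, by simp [he₀], fun x y => (hcomm₀ x y).trans ?_⟩
    show _ ↔ j.symm (e₀ x) * j.symm (e₀ y) = j.symm (e₀ y) * j.symm (e₀ x)
    rw [← map_mul j.symm, ← map_mul j.symm, j.symm.injective.eq_iff]
  have hH := Cfsg.Agent.Lib.Spectrum.CommGraphPlane.geomTransport e he1 hcomm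
    Cfsg.Agent.Lib.Spectrum.SLThreeThree.geom
  obtain ⟨D⟩ := hH
  have hM := Cfsg.Agent.Lib.Spectrum.SLThreeThree.card_SL3
  have hcard : Nat.card H = 5616 := (Nat.card_congr e).trans hM
  have hy := Cfsg.Agent.Lib.Spectrum.SLThreeThree.singer_self_centralizing
  obtain ⟨hx, hxC⟩ := Cfsg.Agent.Lib.Spectrum.CommGraph.self_centralizing e he1 hcomm
    Cfsg.Agent.Lib.Spectrum.SLThreeThree.orderOf_singer (by norm_num) hy
  obtain ⟨φ⟩ := Cfsg.Agent.Lib.Spectrum.PlaneThree.exists_mulEquiv hcard D hx hxC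
  obtain ⟨ψ⟩ := Cfsg.Agent.Lib.Spectrum.PlaneThree.exists_mulEquiv hM
    Cfsg.Agent.Lib.Spectrum.SLThreeThree.geom
    Cfsg.Agent.Lib.Spectrum.SLThreeThree.orderOf_singer hy
  exact ⟨(φ.trans ψ.symm).trans j⟩

end Cfsg.Agent.S3412
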