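import Cfsg.Statements.S3413
import Cfsg.Agent.Lib.Spectrum.CommM11
import Cfsg.Agent.Lib.Spectrum.CommGraph
import Cfsg.Agent.Lib.Golay.Simple
import Cfsg.Agent.S0420
set_option autoImplicit false
open Cfsg

namespace Cfsg.Agent.S3413

/-- Let H be a finite group whose commuting graph (vertices the non-identity elements, two joined when they commute) is isomorphic to that of the Mathieu group M_11: there is a bijection between the non-identity elements of H and of M_11 under which two elements commute exactly when their images do. Then H ≅ M_11. -/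
theorem result {H : Type*} [Group H] [Finite H]
    (f : {h : H // h ≠ 1} ≃ {g : ↥Cfsg.Spor.M11 // g ≠ 1})
    (hf : ∀ x y : {h : H // h ≠ 1}, (x : H) * y = y * x ↔ ((f x) : ↥Cfsg.Spor.M11) * (f y) = (f y) * (f x)) :
    Nonempty (H ≃* ↥Cfsg.Spor.M11) := by
  classical
  obtain ⟨e, he1, hcomm⟩ := Cfsg.Agent.Lib.Spectrum.CommGraph.extend f hf
  have hcard : Nat.card H = 7920 := by
    rw [Nat.card_congr e, Cfsg.Agent.Lib.Golay.card_spor_M11]
  obtain ⟨y, hy, hyC⟩ := Cfsg.Agent.Lib.Spectrum.CommM11.exists_self_centralizing_eleven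
  obtain ⟨hx, hxC⟩ := Cfsg.Agent.Lib.Spectrum.CommGraph.self_centralizing e he1 hcomm hy (by norm_num) hyC
  haveI := Cfsg.Agent.Lib.Spectrum.CommM11.isSimpleGroup hcard hx hxC
  have hd : Cfsg.Spor.squareDodecad ∈ Cfsg.dodecads := Cfsg.Agent.Lib.Golay.squareDodecad_mem
  have h0 : (some 0 : Cfsg.GolayPt) ∈ Cfsg.Spor.squareDodecad := by
    rw [Cfsg.Agent.Lib.Golay.squareDodecad_eq, Cfsg.Agent.Lib.Golay.mem_setOfMask]; decide +kernel
  obtain ⟨φ⟩ := Cfsg.Agent.S0420.result (G := H) ⟨inferInstance, hcard⟩ _ hd _ h0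
  exact ⟨φ.trans (Cfsg.Agent.Lib.Spectrum.CommGraph.stabEquiv _ _)⟩

end Cfsg.Agent.S3413
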