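import Cfsg.Statements.S3419
import Cfsg.Agent.Lib.Spectrum.Basic
import Cfsg.Agent.Lib.Spectrum.Primes

set_option autoImplicit false
open Cfsg

namespace Cfsg.Agent.S3419

open Cfsg.Agent.Lib.Spectrum

theorem key {G : Type*} [Group G] [Finite G] {n : ℕ}
    (hcard : Nat.card G = Nat.card ↥(alternatingGroup (Fin n)))
    (hspec : Set.range (orderOf : G → ℕ) = Set.range (orderOf : ↥(alternatingGroup (Fin n)) → ℕ))
    (p q b : ℕ) (hn : 5 ≤ n) (hp : p.Prime) (hq : q.Prime) (hq2 : q ≠ 2) (hne : q ≠ p)
    (h2p : n < 2 * p) (hpn : p ≤ n) (hqn : q ≤ n) (hsum : n < p + q) (hq1 : (p - 1) % q ≠ 0)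
    (hb : ¬ q ^ b ∣ n.factorial)
    (hmod : ∀ j, 1 ≤ j → j < b → q ^ j % p ≠ 1) : ¬ Group.IsSolvable G := by
  obtain ⟨hpG, hp2⟩ := Basic.prime_exactly_once (by omega) hp h2p hpn
  rw [← hcard] at hpG hp2
  have h2 := Basic.two_mul_card_alternating n (by omega)
  refine Basic.not_isSolvable_of_independent hp hq hne hpG hp2 ?_ (fun h => hq1 (Nat.mod_eq_zero_of_dvd h))
    (Basic.spectrum_orderOf_ne hspec hp hq (Ne.symm hne) hsum) fun j hj hdj hm => ?_
  · have h3 : q ∣ n.factorial := Nat.dvd_factorial hq.pos hqn
    rw [← h2, ← hcard] at h3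
    exact ((Nat.Prime.dvd_mul hq).1 h3).resolve_left fun h =>
      hq2 ((Nat.prime_dvd_prime_iff_eq hq Nat.prime_two).1 h)
  · refine hmod j hj ?_ (Eq.trans hm (Nat.mod_eq_of_lt hp.one_lt))
    by_contra hle
    exact hb ((pow_dvd_pow q (not_lt.1 hle)).trans (h2 ▸ hcard ▸ hdj.mul_left 2))

/-- Let n ≥ 5 and let G be a finite group with the same order and the same set of element orders as the alternating group of degree n. Then G is not solvable. -/
theorem result {G : Type*} [Group G] [Finite G] (n : ℕ) (hn : 5 ≤ n)
    (hcard : Nat.card G = Nat.card ↥(alternatingGroup (Fin n)))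
    (hspec : Set.range (orderOf : G → ℕ) = Set.range (orderOf : ↥(alternatingGroup (Fin n)) → ℕ)) :
    ¬ Group.IsSolvable G := by
  by_cases h11 : 11 ≤ n
  · obtain ⟨p, q, hp, hq, hpq, h2p, hqn⟩ := Primes.exists_two_primes_half n h11
    refine key hcard hspec q p 2 hn hq hp (by omega) (by omega) (by omega) hqn (by omega) (by omega)
      ?_ ?_ ?_
    · intro h
      obtain ⟨c, hc⟩ := Nat.dvd_of_mod_eq_zero h
      rcases c with _ | _ | c
      · omega
      · rcases hp.eq_two_or_odd with h | h <;> rcases hq.eq_two_or_odd with h' | h' <;> omega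
      · have : p * (c + 1 + 1) ≥ p * 2 := Nat.mul_le_mul_left _ (by omega)
        omega
    · rw [← Basic.two_mul_card_alternating n (by omega)]
      intro hd
      have hcop : (p ^ 2).Coprime 2 := by
        refine Nat.Coprime.pow_left _ ((Nat.coprime_primes hp Nat.prime_two).2 ?_)
        omega
      exact (Basic.prime_exactly_once (by omega) hp h2p (by omega)).2 (hcop.dvd_of_dvd_mul_left hd)
    · intro j h1 h2
      obtain rfl : j = 1 := by omega
      rw [pow_one, Nat.mod_eq_of_lt hpq]
      exact hp.one_lt.ne'
  · have hcases : n = 5 ∨ n = 6 ∨ n = 7 ∨ n = 8 ∨ n = 9 ∨ n = 10 := by omega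
    rcases hcases with rfl | rfl | rfl | rfl | rfl | rfl
    · exact key hcard hspec 5 3 2 (by norm_num) (by norm_num) (by norm_num) (by norm_num) (by norm_num) (by norm_num) (by norm_num) (by norm_num) (by norm_num) (by norm_num) (by decide) (by decide)
    · exact key hcard hspec 5 3 3 (by norm_num) (by norm_num) (by norm_num) (by norm_num) (by norm_num) (by norm_num) (by norm_num) (by norm_num) (by norm_num) (by norm_num) (by decide) (by intro j h1 h2; interval_cases j <;> decide)
    · exact key hcard hspec 7 5 2 (by norm_num) (by norm_num) (by norm_num) (by norm_num) (by norm_num) (by norm_num) (by norm_num) (by norm_num) (by norm_num) (by norm_num) (by decide) (by intro j h1 h2; interval_cases j <;> decide)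
    · exact key hcard hspec 7 5 2 (by norm_num) (by norm_num) (by norm_num) (by norm_num) (by norm_num) (by norm_num) (by norm_num) (by norm_num) (by norm_num) (by norm_num) (by decide) (by intro j h1 h2; interval_cases j <;> decide)
    · exact key hcard hspec 7 5 2 (by norm_num) (by norm_num) (by norm_num) (by norm_num) (by norm_num) (by norm_num) (by norm_num) (by norm_num) (by norm_num) (by norm_num) (by decide) (by intro j h1 h2; interval_cases j <;> decide)
    · exact key hcard hspec 7 5 3 (by norm_num) (by norm_num) (by norm_num) (by norm_num) (by norm_num) (by norm_num) (by norm_num) (by norm_num) (by norm_num) (by norm_num) (by decide) (by intro j h1 h2; interval_cases j <;> decide)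

end Cfsg.Agent.S3419
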