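import Cfsg.Statements.S3420
import Cfsg.Agent.Lib.Spectrum.Basic
import Cfsg.Agent.Lib.Spectrum.Primes

set_option autoImplicit false
open Cfsg

namespace Cfsg.Agent.S3420

open Cfsg.Agent.Lib.Spectrum

theorem not_dvd_pred {n p r : ℕ} (hn : 11 ≤ n) (hp : p.Prime) (hr : r.Prime) (hp2 : p ≤ n)
    (hp1 : n < 2 * p) (hr1 : n < 2 * r) : ¬ r ∣ p - 1 := by
  rintro ⟨c, hc⟩
  rcases c with _ | _ | c
  · have := hp.two_le; omega
  · rcases hp.eq_two_or_odd with h | h <;> rcases hr.eq_two_or_odd with h' | h' <;> omega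
  · have : r * (c + 1 + 1) ≥ r * 2 := Nat.mul_le_mul_left _ (by omega)
    omega

/-- Let n ≥ 11 and let G be a finite group with the same order and the same set of element orders as the alternating group of degree n. Then G has normal subgroups N < H such that H/N is a non-abelian simple group whose order is divisible by every prime p with n/2 < p ≤ n. -/
theorem result {G : Type*} [Group G] [Finite G] (n : ℕ) (hn : 11 ≤ n)
    (hcard : Nat.card G = Nat.card ↥(alternatingGroup (Fin n)))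
    (hspec : Set.range (orderOf : G → ℕ) = Set.range (orderOf : ↥(alternatingGroup (Fin n)) → ℕ)) :
    ∃ (N H : Subgroup G) (_ : N.Normal), H.Normal ∧ N < H ∧
      IsSimpleGroup (↥H ⧸ N.subgroupOf H) ∧ ¬ IsMulCommutative (↥H ⧸ N.subgroupOf H) ∧
      ∀ p : ℕ, p.Prime → n < 2 * p → p ≤ n → p ∣ Nat.card (↥H ⧸ N.subgroupOf H) := by
  obtain ⟨p, q, hp, hq, hpq, h2p, hqn⟩ := Primes.exists_two_primes_half n hn
  have hpn : p ≤ n := by omega
  obtain ⟨hpG, hp2⟩ := Basic.prime_exactly_once (by omega) hp h2p hpn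
  rw [← hcard] at hpG hp2
  obtain ⟨N, H, hN, hH, hlt, hsimp, hpd, hall⟩ := Basic.exists_simple_factor hp hpG hp2
  have hdiv : ∀ r : ℕ, r.Prime → n < 2 * r → r ≤ n → r ∣ Nat.card (↥H ⧸ N.subgroupOf H) := by
    intro r hr h1 h2
    by_cases hrp : r = p
    · exact hrp ▸ hpd
    obtain ⟨hrG, hr2⟩ := Basic.prime_exactly_once (by omega) hr h1 h2
    rw [← hcard] at hrG hr2
    refine hall r hr hrp hrG (not_dvd_pred hn hp hr hpn h2p h1)
      (Basic.spectrum_orderOf_ne hspec hp hr (Ne.symm hrp) (by omega)) fun j hj hdj hmod => ?_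
    obtain rfl : j = 1 := by
      by_contra hne
      exact hr2 ((pow_dvd_pow r (show 2 ≤ j by omega)).trans hdj)
    rw [pow_one] at hmod
    exact not_dvd_pred hn hr hp h2 h1 h2p ((Nat.modEq_iff_dvd' hr.one_lt.le).1 hmod.symm)
  refine ⟨N, H, hN, hH, hlt, hsimp, fun hc => ?_, hdiv⟩
  let _ : CommGroup (↥H ⧸ N.subgroupOf H) :=
    { (inferInstance : Group (↥H ⧸ N.subgroupOf H)) with mul_comm := hc.is_comm.comm }
  have hpr := IsSimpleGroup.prime_card (α := ↥H ⧸ N.subgroupOf H)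
  have e1 := (Nat.prime_dvd_prime_iff_eq hp hpr).1 hpd
  have e2 := (Nat.prime_dvd_prime_iff_eq hq hpr).1 (hdiv q hq (by omega) hqn)
  omega

end Cfsg.Agent.S3420
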