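import Cfsg.Statements.S3431
import Cfsg.Agent.Lib.SameOrderCounts.Search
import Cfsg.Agent.Lib.RecogThree.OrdersFive.Solvable
import Cfsg.Agent.S0228
-- import your own Cfsg.Agent.* helpers here

set_option autoImplicit false
open Cfsg

namespace Cfsg.Agent.S3431

open Cfsg.Agent.Lib Cfsg.Agent.Lib.RecogThree.OrdersFive

/-- The order of an element with fifth power or smaller equal to one. -/
def smallOrd {H : Type*} [Group H] [DecidableEq H] (g : H) : ℕ :=
  if g = 1 then 1 else if g ^ 2 = 1 then 2 else if g ^ 3 = 1 then 3 else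
    if g ^ 4 = 1 then 4 else if g ^ 5 = 1 then 5 else 0

theorem orderOf_eq_smallOrd {H : Type*} [Group H] [DecidableEq H] {g : H} (h : smallOrd g ≠ 0) :
    orderOf g = smallOrd g := by
  unfold smallOrd at h ⊢
  split_ifs at h ⊢ with h1 h2 h3 h4 h5
  · exact orderOf_eq_one_iff.2 h1
  · exact orderOf_eq_prime h2 h1
  · exact orderOf_eq_prime h3 h1
  · haveI : Fact (Nat.Prime 2) := ⟨Nat.prime_two⟩
    exact orderOf_eq_prime_pow (p := 2) (n := 1) (by simpa using h2) (by simpa using h4)
  · haveI : Fact (Nat.Prime 5) := ⟨Nat.prime_five⟩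
    exact orderOf_eq_prime h5 h1
  · exact absurd rfl h

theorem nse_eq {H : Type*} [Group H] [Fintype H] [DecidableEq H] (T : List ℕ) (C : List ℕ)
    (hne : ∀ g : H, smallOrd g ∈ T) (h0 : 0 ∉ T)
    (hC : T.map (fun m => (Finset.univ.filter fun g : H => smallOrd g = m).card) = C)
    (hpos : 0 ∉ C) :
    ∀ x, x ∈ (fun m : ℕ => Nat.card {g : H // orderOf g = m}) '' Set.range (orderOf : H → ℕ) ↔ x ∈ C := by
  have ho : ∀ g : H, orderOf g = smallOrd g := fun g => orderOf_eq_smallOrd fun e => h0 (e ▸ hne g)
  have hc : ∀ m, Nat.card {g : H // orderOf g = m} = (Finset.univ.filter fun g : H => smallOrd g = m).card := by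
    intro m
    rw [Nat.card_eq_fintype_card, Fintype.card_subtype]
    exact congrArg Finset.card (Finset.filter_congr fun g _ => by rw [ho g])
  intro x
  subst hC
  simp only [Set.mem_image, Set.mem_range, List.mem_map, hc]
  constructor
  · rintro ⟨m, ⟨g, rfl⟩, rfl⟩
    exact ⟨_, ho g ▸ hne g, rfl⟩
  · rintro ⟨m, hm, rfl⟩
    refine ⟨m, ?_, rfl⟩
    by_contra hno
    refine hpos (List.mem_map.2 ⟨m, hm, Finset.card_eq_zero.2 (Finset.filter_eq_empty_iff.2 fun g _ e => ?_)⟩)
    exact hno ⟨g, (ho g).trans e⟩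

theorem alt4 : ∀ g : alternatingGroup (Fin 4), smallOrd g ∈ [1, 2, 3] := by decide +kernel

theorem alt4_count : [1, 2, 3].map (fun m =>
    (Finset.univ.filter fun g : alternatingGroup (Fin 4) => smallOrd g = m).card) = [1, 3, 8] := by
  decide +kernel

theorem alt5 : ∀ g : alternatingGroup (Fin 5), smallOrd g ∈ [1, 2, 3, 5] := by decide +kernel

theorem alt5_count : [1, 2, 3, 5].map (fun m =>
    (Finset.univ.filter fun g : alternatingGroup (Fin 5) => smallOrd g = m).card) = [1, 15, 20, 24] := by
  decide +kernel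

theorem alt6 : ∀ g : alternatingGroup (Fin 6), smallOrd g ∈ [1, 2, 3, 4, 5] := by decide +kernel

theorem alt6_count : [1, 2, 3, 4, 5].map (fun m =>
    (Finset.univ.filter fun g : alternatingGroup (Fin 6) => smallOrd g = m).card) = [1, 45, 80, 90, 144] := by
  decide +kernel

def cand4 : List (ℕ × ℕ) := [(3, 2), (4, 2), (6, 2), (8, 4), (12, 4), (16, 8), (24, 8)]

def cand5 : List (ℕ × ℕ) :=
  [(3, 2), (4, 2), (5, 4), (6, 2), (8, 4), (9, 6), (10, 4), (12, 4), (15, 8), (16, 8), (18, 6), (20, 8),
    (24, 8), (25, 20), (30, 8), (36, 12), (45, 24), (50, 20), (72, 24), (90, 24)]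

def cand6 : List (ℕ × ℕ) :=
  [(3, 2), (4, 2), (5, 4), (6, 2), (7, 6), (8, 4), (9, 6), (10, 4), (12, 4), (14, 6), (15, 8), (16, 8),
    (18, 6), (20, 8), (21, 12), (24, 8), (25, 20), (27, 18), (28, 12), (30, 8), (32, 16), (35, 24), (36, 12),
    (40, 16), (42, 12), (45, 24), (48, 16), (50, 20), (54, 18), (56, 24), (60, 16), (63, 36), (70, 24),
    (72, 24), (75, 40), (84, 24), (90, 24), (100, 40), (105, 48), (108, 36), (112, 48), (126, 36), (135, 72),
    (140, 48), (144, 48), (150, 40), (168, 48), (180, 48), (200, 80), (210, 48), (216, 72), (252, 72),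
    (270, 72), (300, 80), (315, 144), (432, 144), (504, 144), (540, 144), (630, 144)]

theorem run4 : SameOrderCounts.go [8] cand4.length cand4 [(1, 1), (2, 3)] = [[(1, 1), (2, 3), (3, 8)]] := by
  decide +kernel

theorem run5 : SameOrderCounts.go [20, 24] cand5.length cand5 [(1, 1), (2, 15)] =
    [[(1, 1), (2, 15), (3, 20), (5, 24)]] := by
  decide +kernel

theorem run6 : SameOrderCounts.go [80, 90, 144] cand6.length cand6 [(1, 1), (2, 45)] =
    [[(1, 1), (2, 45), (3, 80), (4, 90), (5, 144)]] := by
  decide +kernel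

theorem closed4 : SameOrderCounts.Closed [8] [2, 3] cand4 9 := by
  unfold SameOrderCounts.Closed
  decide +kernel

theorem closed5 : SameOrderCounts.Closed [20, 24] [2, 3, 5] cand5 25 := by
  unfold SameOrderCounts.Closed
  decide +kernel

theorem closed6 : SameOrderCounts.Closed [80, 90, 144] [2, 3, 5, 7] cand6 145 := by
  unfold SameOrderCounts.Closed
  decide +kernel

/-- Let n be 4, 5 or 6 and let G be a finite group whose set of sizes of same-order classes (the set of numbers #{g : o(g) = m} over the element orders m of G) equals that of the alternating group of degree n. Then G is isomorphic to that alternating group. -/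
theorem result {G : Type*} [Group G] [Finite G] (n : ℕ) (hn : n = 4 ∨ n = 5 ∨ n = 6)
    (h : ((fun m : ℕ => Nat.card {g : G // orderOf g = m}) '' Set.range (orderOf : G → ℕ)) = ((fun m : ℕ => Nat.card {g : ↥(alternatingGroup (Fin n)) // orderOf g = m}) '' Set.range (orderOf : ↥(alternatingGroup (Fin n)) → ℕ))) :
    Nonempty (G ≃* ↥(alternatingGroup (Fin n))) := by
  rcases hn with rfl | rfl | rfl
  · obtain ⟨hN, hω⟩ := SameOrderCounts.counts_eq closed4 (by norm_num) (by norm_num)
      (fun x => by rw [h]; exact nse_eq [1, 2, 3] [1, 3, 8] alt4 (by decide) alt4_count (by decide) x) run4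
    refine S0228.result hN fun z hz hzc => ?_
    obtain ⟨g, hg⟩ := (hω 3).2 (by decide)
    have h6 := (Commute.orderOf_mul_eq_mul_orderOf_of_coprime
      ((Subgroup.mem_center_iff.1 hzc g).symm : Commute z g) (by rw [hz, hg]; decide))
    rw [hz, hg] at h6
    exact absurd ((hω 6).1 ⟨z * g, h6⟩) (by decide)
  · obtain ⟨hN, hω⟩ := SameOrderCounts.counts_eq closed5 (by norm_num) (by norm_num)
      (fun x => by rw [h]; exact nse_eq [1, 2, 3, 5] [1, 15, 20, 24] alt5 (by decide) alt5_count (by decide) x) run5
    replace hN : Nat.card G = 60 := hN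
    have hs : RecogThree.OrdersFive.Small G := fun g => by
      have := (hω _).1 ⟨g, rfl⟩
      simp only [List.map_cons, List.map_nil, List.mem_cons, List.not_mem_nil, or_false] at this
      omega
    have hns : ¬ Group.IsSolvable G := fun hsol =>
      hs.not_three_primes (by omega) (by omega) (by omega)
    rcases RecogThree.OrdersFive.Small.classify _ rfl hs hns with ⟨-, hcard, -⟩ | ⟨M, hM, hexp, ⟨e⟩⟩
    · omega
    · have hA : Nat.card (G ⧸ M) = 60 := by
        rw [Nat.card_congr e.toEquiv, nat_card_alternatingGroup, Nat.card_fin]; rfl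
      have hM1 : Nat.card M = 1 := by
        have := M.card_eq_card_quotient_mul_card_subgroup
        rw [hN, hA] at this
        omega
      obtain rfl := Subgroup.card_eq_one.1 hM1
      exact ⟨QuotientGroup.quotientBot.symm.trans e⟩
  · obtain ⟨hN, hω⟩ := SameOrderCounts.counts_eq closed6 (by norm_num) (by norm_num)
      (fun x => by rw [h]; exact nse_eq [1, 2, 3, 4, 5] [1, 45, 80, 90, 144] alt6 (by decide) alt6_count (by decide) x) run6
    replace hN : Nat.card G = 360 := hN
    have hs : RecogThree.OrdersFive.Small G := fun g => by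
      have := (hω _).1 ⟨g, rfl⟩
      simp only [List.map_cons, List.map_nil, List.mem_cons, List.not_mem_nil, or_false] at this
      omega
    have hns : ¬ Group.IsSolvable G := fun hsol =>
      hs.not_three_primes (by omega) (by omega) (by omega)
    rcases RecogThree.OrdersFive.Small.classify _ rfl hs hns with ⟨hsimple, hcard, -⟩ | ⟨M, hM, hexp, ⟨e⟩⟩
    · exact S0497.result hcard
    · have hA : Nat.card (G ⧸ M) = 60 := by
        rw [Nat.card_congr e.toEquiv, nat_card_alternatingGroup, Nat.card_fin]; rfl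
      have hM6 : Nat.card M = 6 := by
        have := M.card_eq_card_quotient_mul_card_subgroup
        rw [hN, hA] at this
        omega
      haveI : Fact (Nat.Prime 3) := ⟨Nat.prime_three⟩
      obtain ⟨x, hx⟩ := exists_prime_orderOf_dvd_card' (G := M) 3 (by rw [hM6]; norm_num)
      have hx2 : x ^ 2 = 1 := Subtype.ext (by simpa [pow_two] using hexp _ x.2)
      exact absurd (hx ▸ orderOf_dvd_of_pow_eq_one hx2) (by norm_num)

end Cfsg.Agent.S3431
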