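import Cfsg.Statements.S3433
import Cfsg.Agent.Lib.RecogThree.OrdersFive.Solvable
-- import your own Cfsg.Agent.* helpers here

set_option autoImplicit false
open Cfsg

namespace Cfsg.Agent.S3433

/-- A finite group whose set of element orders is exactly {1, 2, 3, 4, 5} is isomorphic to the alternating group of degree 6, or has a normal elementary abelian 2-subgroup with quotient isomorphic to the alternating group of degree 5. -/
theorem result {G : Type*} [Group G] [Finite G] (h : Set.range (orderOf : G → ℕ) = {k : ℕ | 1 ≤ k ∧ k ≤ 5}) :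
    Nonempty (G ≃* ↥(alternatingGroup (Fin 6))) ∨
      ∃ (N : Subgroup G) (_ : N.Normal), Cfsg.IsElementaryAbelian 2 N ∧ Nonempty (G ⧸ N ≃* ↥(alternatingGroup (Fin 5))) := by
  have hs : Lib.RecogThree.OrdersFive.Small G := fun g => by
    have hg : orderOf g ∈ Set.range (orderOf : G → ℕ) := ⟨g, rfl⟩
    rw [h] at hg
    exact hg.2
  have hdvd : ∀ p : ℕ, 1 ≤ p → p ≤ 5 → p ∣ Nat.card G := fun p h1 h5 => by
    obtain ⟨g, hg⟩ : p ∈ Set.range (orderOf : G → ℕ) := by rw [h]; exact ⟨h1, h5⟩
    exact hg ▸ orderOf_dvd_natCard g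
  have hns : ¬ Group.IsSolvable G := fun hsol =>
    hs.not_three_primes (hdvd 2 (by norm_num) (by norm_num)) (hdvd 3 (by norm_num) (by norm_num))
      (hdvd 5 (by norm_num) (by norm_num))
  rcases Lib.RecogThree.OrdersFive.Small.classify _ rfl hs hns with ⟨hsimple, hcard, -⟩ | ⟨M, hM, hexp, e⟩
  · exact Or.inl (S0497.result hcard)
  · exact Or.inr ⟨M, hM, ⟨⟨⟨fun a b => Subtype.ext
      (Lib.RecogThree.OrdersFive.commute_of_exp_two hexp a.2 b.2)⟩⟩,
      fun a ha => by rw [pow_two]; exact hexp a ha⟩, e⟩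

end Cfsg.Agent.S3433
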