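import Cfsg.Statements.S3437
import Mathlib
import Cfsg.Agent.Lib.SpectrumExt.BinaryOct
import Cfsg.Agent.Lib.SpectrumExt.LThreeThree

set_option autoImplicit false
open Cfsg

namespace Cfsg.Agent.S3437

/-- There is a finite solvable group with exactly the same set of element orders as the simple group PSL(3,3). -/
theorem result {F : Type*} [Field F] [Fintype F] (hF : Fintype.card F = 3) :
    ∃ (H : Type) (_ : Group H) (_ : Fintype H), Group.IsSolvable H ∧
      Set.range (orderOf : H → ℕ) = Set.range (orderOf : Matrix.ProjectiveSpecialLinearGroup (Fin 3) F → ℕ) := by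
  haveI := Cfsg.Agent.Lib.SpectrumExt.BinaryOct.isSolvable_X
  refine ⟨_, inferInstance, Fintype.ofFinite (Cfsg.Agent.Lib.SpectrumExt.Semidirect.Ext
    Cfsg.Agent.Lib.SpectrumExt.BinaryOct.rho), Cfsg.Agent.Lib.SpectrumExt.Semidirect.isSolvable _, ?_⟩
  rw [Cfsg.Agent.Lib.SpectrumExt.BinaryOct.range_orderOf_ext,
    Cfsg.Agent.Lib.SpectrumExt.LThreeThree.range_orderOf F hF]
  ext m
  simp only [Set.mem_union, Set.mem_singleton_iff]
  constructor
  · rintro ((h | h) | rfl)
    exacts [Or.inr (Or.inl h), Or.inl h, Or.inr (Or.inr dvd_rfl)]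
  · rintro (h | h | h)
    exacts [Or.inl (Or.inr h), Or.inl (Or.inl h),
      ((Nat.dvd_prime (by norm_num : Nat.Prime 13)).1 h).elim (fun e => Or.inl (Or.inl (e ▸ one_dvd 8))) Or.inr]

end Cfsg.Agent.S3437
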