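import Cfsg.Statements.S3438
import Mathlib
import Cfsg.Agent.S2366
import Cfsg.Agent.Lib.SpectrumExt.UThreeThree

set_option autoImplicit false
open Cfsg

namespace Cfsg.Agent.S3438

/-- There is a finite solvable group with exactly the same set of element orders as the simple group PSU(3,3) (realised over the field with 9 elements). -/
theorem result {F : Type*} [Field F] [Fintype F] (hF : Fintype.card F = 9) :
    ∃ (H : Type) (_ : Group H) (_ : Fintype H), Group.IsSolvable H ∧ Set.range (orderOf : H → ℕ) = Set.range (orderOf : Cfsg.PSU 3 F 3 → ℕ) := by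
  haveI : Fact (Nat.Prime 3) := ⟨Nat.prime_three⟩
  haveI : CharP F 3 := charP_of_card_eq_prime_pow (p := 3) (f := 2) (by rw [hF]; norm_num)
  haveI hx : Group.IsSolvable Cfsg.Agent.Lib.SpectrumExt.UThreeThree.X := by
    haveI : Group.IsSolvable (Multiplicative (ZMod 8)) := Group.isSolvable_of_comm mul_comm
    exact Cfsg.Agent.Lib.SpectrumExt.Semidirect.isSolvable _
  refine ⟨_, inferInstance, Fintype.ofFinite (Cfsg.Agent.Lib.SpectrumExt.Semidirect.Ext
    Cfsg.Agent.Lib.SpectrumExt.UThreeThree.rho), Cfsg.Agent.Lib.SpectrumExt.Semidirect.isSolvable _, ?_⟩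
  rw [Cfsg.Agent.Lib.SpectrumExt.UThreeThree.range_orderOf_ext,
    Cfsg.Agent.S2366.result 3 (by norm_num) 3 (by rw [hF]; norm_num)]
  ext m
  norm_num
  constructor
  · rintro (rfl | h | h)
    exacts [Or.inr dvd_rfl, Or.inl (Or.inr h), Or.inl (Or.inl (Or.inr h))]
  · rintro (((h | h) | h) | h)
    exacts [Or.inr (Or.inl (h.trans (by norm_num))), Or.inr (Or.inr h), Or.inr (Or.inl h),
      ((Nat.dvd_prime (by norm_num : Nat.Prime 7)).1 h).elim (fun e => Or.inr (Or.inl (e ▸ one_dvd 8))) Or.inl]

end Cfsg.Agent.S3438
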