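import Cfsg.Statements.S3439
import Mathlib
import Cfsg.Agent.Lib.SpectrumExt.PSp4
import Cfsg.Agent.Lib.SpectrumExt.SympThree

set_option autoImplicit false
open Cfsg

namespace Cfsg.Agent.S3439

/-- There is a finite solvable group with exactly the same set of element orders as the simple group PSp(4,3). -/
theorem result {F : Type*} [Field F] [Fintype F] (hF : Fintype.card F = 3) :
    ∃ (H : Type) (_ : Group H) (_ : Fintype H), Group.IsSolvable H ∧ Set.range (orderOf : H → ℕ) = Set.range (orderOf : Cfsg.PSp 2 F → ℕ) := by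
  haveI : Fact (Nat.Prime 3) := ⟨Nat.prime_three⟩
  haveI : CharP F 3 := charP_of_card_eq_prime hF
  refine ⟨Cfsg.Agent.Lib.SpectrumExt.SympThree.H, inferInstance, Fintype.ofFinite _,
    Cfsg.Agent.Lib.SpectrumExt.SympThree.isSolvable_H, ?_⟩
  rw [Cfsg.Agent.Lib.SpectrumExt.SympThree.range_orderOf, Cfsg.Agent.Lib.SpectrumExt.PSp4.range_orderOf 3,
    hF]
  ext m
  simp only [Cfsg.Agent.Lib.SpectrumExt.PSp4.spec, Cfsg.Agent.Lib.SpectrumExt.PSp4.dd, Set.mem_ofPred_eq]
  norm_num
  constructor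
  · rintro (h | h | h)
    exacts [Or.inl h, Or.inr (Or.inr (Or.inr (Or.inr h))), Or.inr (Or.inr (Or.inl h))]
  · rintro (h | h | h | h | h)
    exacts [Or.inl h, Or.inr (Or.inr (h.trans (by norm_num))), Or.inr (Or.inr h),
      Or.inr (Or.inr (h.trans (by norm_num))), Or.inr (Or.inl h)]

end Cfsg.Agent.S3439
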