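import Cfsg.Statements.S3443

set_option autoImplicit false
open Cfsg

namespace Cfsg.Agent.S3443

/-- Let G be a finite group and V a normal elementary abelian subgroup of G (abelian of prime exponent p, possibly trivial). Then the semidirect product V ⋊ G, with G acting on V by conjugation, has exactly the same set of element orders as G. -/
theorem result {G : Type*} [Group G] [Finite G] (V : Subgroup G) [V.Normal] (p : ℕ) (hp : p.Prime)
    (hcomm : ∀ x y : V, x * y = y * x) (hexp : ∀ x : V, x ^ p = 1) :
    Set.range (orderOf : V ⋊[MulAut.conjNormal] G → ℕ) = Set.range (orderOf : G → ℕ) := by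
  classical
  let ψ : V ⋊[MulAut.conjNormal] G →* G :=
    { toFun := fun x => (x.left : G) * x.right
      map_one' := by simp
      map_mul' := fun x y => by
        simp [mul_assoc] }
  have hinj : ∀ x, ψ x = 1 → x.right = 1 → x = 1 := by
    intro x h1 h2
    refine SemidirectProduct.ext ?_ h2
    apply Subtype.ext
    have : (x.left : G) * x.right = 1 := h1
    simpa [h2] using this
  apply Set.Subset.antisymm
  · rintro _ ⟨x, rfl⟩
    let k := orderOf (QuotientGroup.mk (s := V) x.right)
    have hq : (QuotientGroup.mk (s := V) (ψ x)) = QuotientGroup.mk (s := V) x.right := by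
      show ((((x.left : G) * x.right : G)) : G ⧸ V) = _
      rw [QuotientGroup.mk_mul, (QuotientGroup.eq_one_iff (x.left : G)).2 x.left.2, one_mul]
    have key : ∀ g : G, orderOf (QuotientGroup.mk (s := V) g) = k →
        orderOf g = k ∨ orderOf g = k * p := by
      intro g hg
      have h1 : g ^ k ∈ V := by
        rw [← QuotientGroup.eq_one_iff, QuotientGroup.mk_pow, ← hg, pow_orderOf_eq_one]
      have h2 : orderOf g ∣ k * p := by
        apply orderOf_dvd_of_pow_eq_one
        rw [pow_mul]
        simpa using congrArg Subtype.val (hexp ⟨g ^ k, h1⟩)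
      have h3 : k ∣ orderOf g := by
        rw [← hg]
        exact orderOf_map_dvd (QuotientGroup.mk' V) g
      obtain ⟨m, hm⟩ := h3
      have hk0 : 0 < k := orderOf_pos _
      rw [hm] at h2
      have hmp := Nat.dvd_of_mul_dvd_mul_left hk0 h2
      rcases hp.eq_one_or_self_of_dvd m hmp with h | h
      · left; rw [hm, h, mul_one]
      · right; rw [hm, h]
    have hlcm : orderOf x = Nat.lcm (orderOf (ψ x)) (orderOf x.right) := by
      apply Nat.dvd_antisymm
      · apply orderOf_dvd_of_pow_eq_one
        apply hinj
        · rw [map_pow]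
          exact orderOf_dvd_iff_pow_eq_one.1 (Nat.dvd_lcm_left _ _)
        · have : SemidirectProduct.rightHom (x ^ Nat.lcm (orderOf (ψ x)) (orderOf x.right)) = 1 := by
            rw [map_pow]
            exact orderOf_dvd_iff_pow_eq_one.1 (Nat.dvd_lcm_right _ _)
          exact this
      · exact Nat.lcm_dvd (orderOf_map_dvd ψ x)
          (orderOf_map_dvd SemidirectProduct.rightHom x)
    rcases key (ψ x) (by rw [hq]) with ha | ha <;> rcases key x.right rfl with hb | hb
    · exact ⟨x.right, by rw [hlcm, ha, hb, Nat.lcm_self]⟩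
    · refine ⟨x.right, ?_⟩
      rw [hlcm, ha, hb, Nat.lcm_eq_right (Dvd.intro p rfl)]
    · refine ⟨ψ x, ?_⟩
      rw [hlcm, ha, hb, Nat.lcm_eq_left (Dvd.intro p rfl)]
    · exact ⟨x.right, by rw [hlcm, ha, hb, Nat.lcm_self]⟩
  · rintro _ ⟨g, rfl⟩
    exact ⟨SemidirectProduct.inr g, orderOf_injective SemidirectProduct.inr SemidirectProduct.inr_injective g⟩

end Cfsg.Agent.S3443
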