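import Cfsg.Statements.S3444
import Mathlib
import Cfsg.Agent.S3443
import Cfsg.Agent.Lib.Cores.MinNormal

set_option autoImplicit false
open Cfsg

namespace Cfsg.Agent.S3444

/-- A nontrivial normal elementary abelian subgroup. -/
def Good {H : Type} [Group H] (p : ℕ) (V : Subgroup H) : Prop :=
  ∃ (_ : True), V ≠ ⊥ ∧ V.Normal ∧ (∀ a ∈ V, ∀ b ∈ V, a * b = b * a) ∧ ∀ a ∈ V, a ^ p = 1

theorem exists_step (p : ℕ) (hp : p.Prime) (H : Type) [Group H] [Finite H] (V : Subgroup H)
    (hV : Good p V) :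
    ∃ (H' : Type) (_ : Group H') (_ : Finite H') (V' : Subgroup H'), Good p V' ∧
      Nat.card H < Nat.card H' ∧
      Set.range (orderOf : H' → ℕ) = Set.range (orderOf : H → ℕ) := by
  obtain ⟨_, hne, hn, hc, he⟩ := hV
  haveI := hn
  let E := V ⋊[(MulAut.conjNormal : H →* MulAut V)] H
  haveI : Finite E := Finite.of_equiv (V × H) SemidirectProduct.equivProd.symm
  have hi := SemidirectProduct.inl_injective (φ := (MulAut.conjNormal : H →* MulAut V))
  refine ⟨E, inferInstance, inferInstance,
    (SemidirectProduct.inl : V →* E).range, ⟨trivial, ?_, ?_, ?_, ?_⟩, ?_, ?_⟩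
  · intro h
    refine hne ((Subgroup.eq_bot_iff_forall _).2 fun x hx => ?_)
    have : (SemidirectProduct.inl ⟨x, hx⟩ : E) ∈ (SemidirectProduct.inl : V →* E).range := ⟨_, rfl⟩
    rw [h, Subgroup.mem_bot] at this
    have h1 : (⟨x, hx⟩ : V) = 1 := hi (this.trans (map_one _).symm)
    exact congrArg Subtype.val h1
  · rw [SemidirectProduct.range_inl_eq_ker_rightHom]; infer_instance
  · rintro _ ⟨a, rfl⟩ _ ⟨b, rfl⟩
    rw [← map_mul, ← map_mul]
    exact congrArg _ (Subtype.ext (hc a a.2 b b.2))
  · rintro _ ⟨a, rfl⟩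
    rw [← map_pow, show a ^ p = 1 from Subtype.ext (by simpa using he a a.2), map_one]
  · rw [Nat.card_congr SemidirectProduct.equivProd, Nat.card_prod]
    have h1 : 1 < Nat.card V := Finite.one_lt_card_iff_nontrivial.2 ((Subgroup.nontrivial_iff_ne_bot V).2 hne)
    exact lt_mul_of_one_lt_left Nat.card_pos h1
  · exact S3443.result V p hp (fun x y => Subtype.ext (hc x x.2 y y.2))
      (fun x => Subtype.ext (by simpa using he x x.2))

theorem exists_large (p : ℕ) (hp : p.Prime) (N : ℕ) (H₀ : Type) [Group H₀] [Finite H₀]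
    (V : Subgroup H₀) (hV : Good p V) :
    ∃ (H : Type) (_ : Group H) (_ : Fintype H), N < Fintype.card H ∧
      Set.range (orderOf : H → ℕ) = Set.range (orderOf : H₀ → ℕ) := by
  suffices h : ∀ k, ∃ (H : Type) (_ : Group H) (_ : Finite H) (V' : Subgroup H), Good p V' ∧
      k < Nat.card H ∧ Set.range (orderOf : H → ℕ) = Set.range (orderOf : H₀ → ℕ) by
    obtain ⟨H, _, _, _, _, h1, h2⟩ := h N
    letI := Fintype.ofFinite H
    exact ⟨H, inferInstance, inferInstance, by rwa [← Nat.card_eq_fintype_card], h2⟩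
  intro k
  induction k with
  | zero => exact ⟨H₀, inferInstance, inferInstance, V, hV, Nat.card_pos, rfl⟩
  | succ k ih =>
    obtain ⟨H, _, _, V', hV', hk, hr⟩ := ih
    obtain ⟨H', i1, i2, V'', h1, h2, h3⟩ := exists_step p hp H V' hV'
    exact ⟨H', i1, i2, V'', h1, by omega, h3.trans hr⟩


/-- A finite group with a non-trivial solvable normal subgroup is not determined by its set of element orders, not even up to finitely many possibilities: for every bound N there is a finite group of order greater than N with exactly the same set of element orders. -/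
theorem result {G : Type*} [Group G] [Finite G] (K : Subgroup G) [K.Normal] (hK : K ≠ ⊥)
    (hs : Group.IsSolvable K) (N : ℕ) :
    ∃ (H : Type) (_ : Group H) (_ : Fintype H), N < Fintype.card H ∧ Set.range (orderOf : H → ℕ) = Set.range (orderOf : G → ℕ) := by
  classical
  haveI := hs
  obtain ⟨V, hVn, hVK, hV, hVmin⟩ := Lib.Cores.MinNormal.exists_minimal_le hK
  haveI : Group.IsSolvable V := solvable_of_solvable_injective (f := Subgroup.inclusion hVK)
    (Subgroup.inclusion_injective hVK)
  haveI hVc : IsMulCommutative V := Lib.Cores.MinNormal.isMulCommutative_of_solvable hV hVmin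
  obtain ⟨p, hp, hexp⟩ := Lib.Cores.MinNormal.exists_prime_pow_eq_one hV hVmin
  let e : G ≃* Shrink.{0} G := (Shrink.mulEquiv.{0} (α := G)).symm
  obtain ⟨H, i1, i2, h1, h2⟩ := exists_large p hp N (Shrink.{0} G) (V.map e.toMonoidHom)
    ⟨trivial, by
      refine (Subgroup.map_eq_bot_iff_of_injective _ e.injective).not.2 hV,
      Subgroup.Normal.map hVn _ e.surjective, by
      rintro _ ⟨a, ha, rfl⟩ _ ⟨b, hb, rfl⟩
      rw [← map_mul, ← map_mul]
      exact congrArg e (congrArg Subtype.val (mul_comm' (⟨a, ha⟩ : V) ⟨b, hb⟩)), by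
      rintro _ ⟨a, ha, rfl⟩
      rw [← map_pow, hexp a ha, map_one]⟩
  refine ⟨H, i1, i2, h1, h2.trans ?_⟩
  ext n
  constructor
  · rintro ⟨x, rfl⟩; exact ⟨e.symm x, e.symm.orderOf_eq x⟩
  · rintro ⟨x, rfl⟩; exact ⟨e x, e.orderOf_eq x⟩

end Cfsg.Agent.S3444
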