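import Cfsg.Statements.S3448

set_option autoImplicit false
open Cfsg

namespace Cfsg.Agent.S3448

theorem A5_pow_cases : ∀ a : alternatingGroup (Fin 5), a = 1 ∨ a ^ 2 = 1 ∨ a ^ 3 = 1 ∨ a ^ 5 = 1 := by
  decide +kernel

theorem orders_of_pow {H : Type*} [Group H] (a : H) {p : ℕ} (hp : p.Prime) (h : a ^ p = 1) :
    orderOf a = 1 ∨ orderOf a = p :=
  hp.eq_one_or_self_of_dvd _ (orderOf_dvd_of_pow_eq_one h)

theorem A5_orders (a : alternatingGroup (Fin 5)) :
    orderOf a = 1 ∨ orderOf a = 2 ∨ orderOf a = 3 ∨ orderOf a = 5 := by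
  rcases A5_pow_cases a with h | h | h | h
  · left; rw [h, orderOf_one]
  · rcases orders_of_pow a Nat.prime_two h with h' | h' <;> simp [h']
  · rcases orders_of_pow a Nat.prime_three h with h' | h' <;> simp [h']
  · rcases orders_of_pow a Nat.prime_five h with h' | h' <;> simp [h']

theorem A5_exists : (∃ a : alternatingGroup (Fin 5), a ≠ 1 ∧ a ^ 2 = 1) ∧
    (∃ a : alternatingGroup (Fin 5), a ≠ 1 ∧ a ^ 3 = 1) ∧
    (∃ a : alternatingGroup (Fin 5), a ≠ 1 ∧ a ^ 5 = 1) := by
  decide +kernel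

theorem A5_two : ∃ a : alternatingGroup (Fin 5), orderOf a = 2 := by
  obtain ⟨a, h, h'⟩ := A5_exists.1
  exact ⟨a, haveI := Fact.mk Nat.prime_two; orderOf_eq_prime h' h⟩

theorem A5_three : ∃ a : alternatingGroup (Fin 5), orderOf a = 3 := by
  obtain ⟨a, h, h'⟩ := A5_exists.2.1
  exact ⟨a, haveI := Fact.mk Nat.prime_three; orderOf_eq_prime h' h⟩

theorem A5_five : ∃ a : alternatingGroup (Fin 5), orderOf a = 5 := by
  obtain ⟨a, h, h'⟩ := A5_exists.2.2
  exact ⟨a, haveI := Fact.mk Nat.prime_five; orderOf_eq_prime h' h⟩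

/-- The set of element orders of the direct product of two copies of the alternating group of degree 5 is {1, 2, 3, 5, 6, 10, 15}. (It is shared by the direct product of two Frobenius groups of orders 50 and 75, so this direct product is not determined by its element orders.) -/
theorem result : Set.range (orderOf : alternatingGroup (Fin 5) × alternatingGroup (Fin 5) → ℕ) = {1, 2, 3, 5, 6, 10, 15} := by
  classical
  ext n
  constructor
  · rintro ⟨⟨a, b⟩, rfl⟩
    rw [Prod.orderOf_mk]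
    rcases A5_orders a with ha | ha | ha | ha <;> rcases A5_orders b with hb | hb | hb | hb <;>
      rw [ha, hb] <;> decide
  · intro hn
    obtain ⟨a2, h2⟩ := A5_two
    obtain ⟨a3, h3⟩ := A5_three
    obtain ⟨a5, h5⟩ := A5_five
    simp only [Set.mem_insert_iff, Set.mem_singleton_iff] at hn
    rcases hn with rfl | rfl | rfl | rfl | rfl | rfl | rfl
    · exact ⟨1, orderOf_one⟩
    · exact ⟨(a2, 1), by rw [Prod.orderOf_mk, h2, orderOf_one]; rfl⟩
    · exact ⟨(a3, 1), by rw [Prod.orderOf_mk, h3, orderOf_one]; rfl⟩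
    · exact ⟨(a5, 1), by rw [Prod.orderOf_mk, h5, orderOf_one]; rfl⟩
    · exact ⟨(a2, a3), by rw [Prod.orderOf_mk, h2, h3]; rfl⟩
    · exact ⟨(a2, a5), by rw [Prod.orderOf_mk, h2, h5]; rfl⟩
    · exact ⟨(a3, a5), by rw [Prod.orderOf_mk, h3, h5]; rfl⟩

end Cfsg.Agent.S3448
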