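import Cfsg.Statements.S3449
import Cfsg.Agent.S3448

set_option autoImplicit false
open Cfsg

namespace Cfsg.Agent.S3449

/-- The direct product of three copies of the alternating group of degree 5 has exactly the same set of element orders as the cyclic group of order 30, namely the divisors of 30; in particular a direct power of a non-abelian simple group need not be determined by its element orders. -/
theorem result : Set.range (orderOf : alternatingGroup (Fin 5) × alternatingGroup (Fin 5) × alternatingGroup (Fin 5) → ℕ) =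
      Set.range (orderOf : Multiplicative (ZMod 30) → ℕ) := by
  classical
  ext n
  have hz : n ∈ Set.range (orderOf : Multiplicative (ZMod 30) → ℕ) ↔ n ∈ Nat.divisors 30 := by
    constructor
    · rintro ⟨x, rfl⟩
      rw [Nat.mem_divisors]
      refine ⟨?_, by norm_num⟩
      have := orderOf_dvd_card (G := Multiplicative (ZMod 30)) (x := x)
      simpa [ZMod.card] using this
    · intro hn
      rw [Nat.mem_divisors] at hn
      have hgen : orderOf (Multiplicative.ofAdd (1 : ZMod 30)) = 30 := by
        rw [orderOf_ofAdd_eq_addOrderOf, ZMod.addOrderOf_one]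
      refine ⟨Multiplicative.ofAdd (1 : ZMod 30) ^ (30 / n), ?_⟩
      rw [orderOf_pow' _ (by
        have := Nat.le_of_dvd (by norm_num) hn.1
        have h0 : 0 < n := Nat.pos_of_dvd_of_pos hn.1 (by norm_num)
        exact (Nat.div_pos this h0).ne'), hgen,
        Nat.gcd_eq_right (Nat.div_dvd_of_dvd hn.1), Nat.div_div_self hn.1 (by norm_num)]
  rw [hz]
  constructor
  · rintro ⟨⟨a, b, c⟩, rfl⟩
    rw [Prod.orderOf_mk, Prod.orderOf_mk]
    rcases S3448.A5_orders a with ha | ha | ha | ha <;> rcases S3448.A5_orders b with hb | hb | hb | hb <;>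
      rcases S3448.A5_orders c with hc | hc | hc | hc <;>
      rw [ha, hb, hc] <;> decide
  · intro hn
    obtain ⟨a2, h2⟩ := S3448.A5_two
    obtain ⟨a3, h3⟩ := S3448.A5_three
    obtain ⟨a5, h5⟩ := S3448.A5_five
    have hd : Nat.divisors 30 = {1, 2, 3, 5, 6, 10, 15, 30} := by decide
    rw [hd] at hn
    simp only [Finset.mem_insert, Finset.mem_singleton] at hn
    rcases hn with rfl | rfl | rfl | rfl | rfl | rfl | rfl | rfl
    · exact ⟨1, orderOf_one⟩
    · exact ⟨(a2, 1, 1), by simp only [Prod.orderOf_mk, h2, orderOf_one]; rfl⟩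
    · exact ⟨(a3, 1, 1), by simp only [Prod.orderOf_mk, h3, orderOf_one]; rfl⟩
    · exact ⟨(a5, 1, 1), by simp only [Prod.orderOf_mk, h5, orderOf_one]; rfl⟩
    · exact ⟨(a2, a3, 1), by simp only [Prod.orderOf_mk, h2, h3, orderOf_one]; rfl⟩
    · exact ⟨(a2, a5, 1), by simp only [Prod.orderOf_mk, h2, h5, orderOf_one]; rfl⟩
    · exact ⟨(a3, a5, 1), by simp only [Prod.orderOf_mk, h3, h5, orderOf_one]; rfl⟩
    · exact ⟨(a2, a3, a5), by simp only [Prod.orderOf_mk, h2, h3, h5]; rfl⟩

end Cfsg.Agent.S3449
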