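import Cfsg.Statements.S3452
import Mathlib
import Cfsg.Agent.S3444
import Cfsg.Agent.Lib.Induced.Burnside
import Cfsg.Agent.Lib.Linear.Order
import Cfsg.Agent.Lib.SpectrumExt.PGL2
import Cfsg.Agent.Lib.SpectrumExt.CuspModule
import Cfsg.Agent.Lib.SpectrumExt.PGLTwoNine

set_option autoImplicit false
open Cfsg

namespace Cfsg.Agent.S3452

open Cfsg.Agent.Lib.SpectrumExt

theorem small {F : Type*} [Field F] [Fintype F] (h : Fintype.card F = 2 ∨ Fintype.card F = 3) (N : ℕ) :
    ∃ (H : Type) (_ : Group H) (_ : Fintype H), N < Fintype.card H ∧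
      Set.range (orderOf : H → ℕ) = Set.range (orderOf : GL (Fin 2) F ⧸ Subgroup.center (GL (Fin 2) F) → ℕ) := by
  classical
  have hc : Nat.card (GL (Fin 2) F ⧸ Subgroup.center (GL (Fin 2) F)) =
      Fintype.card F * (Fintype.card F - 1) * (Fintype.card F + 1) :=
    (Cfsg.Agent.Lib.Linear.card_PGL_eq_card_SL (ι := Fin 2) (F := F)).trans Cfsg.Agent.Lib.Linear.card_SL_two
  haveI hs : Group.IsSolvable (GL (Fin 2) F ⧸ Subgroup.center (GL (Fin 2) F)) := by
    rcases h with h | h
    · exact Cfsg.Agent.Lib.Induced.Burnside.isSolvable_of_card_eq 2 3 1 1 Nat.prime_two Nat.prime_three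
        (by rw [hc, h]; norm_num)
    · exact Cfsg.Agent.Lib.Induced.Burnside.isSolvable_of_card_eq 2 3 3 1 Nat.prime_two Nat.prime_three
        (by rw [hc, h]; norm_num)
  haveI : Nontrivial (GL (Fin 2) F ⧸ Subgroup.center (GL (Fin 2) F)) :=
    Finite.one_lt_card_iff_nontrivial.1 (by rw [hc]; rcases h with h | h <;> rw [h] <;> norm_num)
  exact Cfsg.Agent.S3444.result (⊤ : Subgroup (GL (Fin 2) F ⧸ Subgroup.center (GL (Fin 2) F))) top_ne_bot
    (solvable_of_solvable_injective (f := Subgroup.subtype _) Subtype.val_injective) N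

/-- For F a finite field whose number of elements is a prime or equals 9, the group PGL(2,F) = GL(2,F)/Z(GL(2,F)) is not determined by its set of element orders: for every bound N there is a finite group of order greater than N with exactly the same set of element orders as PGL(2,F). -/
theorem result {F : Type*} [Field F] [Fintype F] (hF : (Fintype.card F).Prime ∨ Fintype.card F = 9) (N : ℕ) :
    ∃ (H : Type) (_ : Group H) (_ : Fintype H), N < Fintype.card H ∧
      Set.range (orderOf : H → ℕ) = Set.range (orderOf : Matrix.GeneralLinearGroup (Fin 2) F ⧸ Subgroup.center (Matrix.GeneralLinearGroup (Fin 2) F) → ℕ) := by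
  classical
  rcases hF with hp | h9
  · by_cases hsmall : Fintype.card F = 2 ∨ Fintype.card F = 3
    · exact small hsmall N
    · have h5 : 5 ≤ Fintype.card F := by
        have := hp.two_le
        have : Fintype.card F ≠ 4 := fun h => by rw [h] at hp; norm_num at hp
        omega
      generalize hq : Fintype.card F = p at hp h5
      haveI : Fact p.Prime := ⟨hp⟩
      haveI : CharP F p := charP_of_card_eq_prime hq
      have h2 : (2 : F) ≠ 0 := by
        intro h
        have h' : ((2 : ℕ) : F) = 0 := by exact_mod_cast h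
        rw [CharP.cast_eq_zero_iff F p] at h'
        have := Nat.le_of_dvd (by norm_num) h'
        omega
      haveI := CuspModule.nontrivial_cusp (p := p) h5
      obtain ⟨hn, hne, hs⟩ := Semidirect.inl_range_facts (CuspModule.rho p)
      haveI := hn
      obtain ⟨H, i1, i2, h1, h2'⟩ := Cfsg.Agent.S3444.result
        (SemidirectProduct.inl : Multiplicative (CuspModule.cusp p) →* Semidirect.Ext (CuspModule.rho p)).range hne hs N
      refine ⟨H, i1, i2, h1, h2'.trans ?_⟩
      rw [CuspModule.range_orderOf_ext h5, PGL2.range_orderOf p h2, hq]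
  · haveI : Fact (Nat.Prime 3) := ⟨Nat.prime_three⟩
    haveI : CharP F 3 := charP_of_card_eq_prime_pow (p := 3) (f := 2) (by rw [h9]; norm_num)
    have h2 : (2 : F) ≠ 0 := by
      intro h
      have h' : ((2 : ℕ) : F) = 0 := by exact_mod_cast h
      rw [CharP.cast_eq_zero_iff F 3] at h'
      norm_num at h'
    obtain ⟨hn, hne, hs⟩ := Semidirect.inl_range_facts PGLTwoNine.rho
    haveI := hn
    obtain ⟨H, i1, i2, h1, h2'⟩ := Cfsg.Agent.S3444.result
      (SemidirectProduct.inl : Multiplicative PGLTwoNine.mod →* Semidirect.Ext PGLTwoNine.rho).range hne hs N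
    refine ⟨H, i1, i2, h1, h2'.trans ?_⟩
    rw [PGLTwoNine.range_orderOf_ext, PGL2.range_orderOf 3 h2, h9]

end Cfsg.Agent.S3452
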