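import Cfsg.Statements.S3466
import Mathlib
import Cfsg.Agent.S3444
import Cfsg.Agent.S3439
import Cfsg.Agent.Lib.SpectrumExt.HermEven
import Cfsg.Agent.Lib.SpectrumExt.HermOdd
import Cfsg.Agent.Lib.SpectrumExt.TensorThree

set_option autoImplicit false
open Cfsg Cfsg.Agent.Lib.SpectrumExt

namespace Cfsg.Agent.S3466

/-- Let F be a finite field with q ≥ 3 elements such that q is not of the form 3^(2t+1) with t ≥ 1. Then PSp(4,F) is not determined by its set of element orders, not even up to finitely many groups: for every bound N there is a finite group of order greater than N with exactly the same set of element orders as PSp(4,F). -/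
theorem result {F : Type*} [Field F] [Fintype F] (h3 : 3 ≤ Fintype.card F) (hq : ∀ t : ℕ, 1 ≤ t → Fintype.card F ≠ 3 ^ (2 * t + 1)) (N : ℕ) :
    ∃ (H : Type) (_ : Group H) (_ : Fintype H), N < Fintype.card H ∧ Set.range (orderOf : H → ℕ) = Set.range (orderOf : Cfsg.PSp 2 F → ℕ) := by
  classical
  obtain ⟨p, hchar⟩ := CharP.exists F
  obtain ⟨e, hp, hcard⟩ := FiniteField.card F p
  haveI : Fact p.Prime := ⟨hp⟩
  have he : 1 ≤ (e : ℕ) := e.pos
  rw [PSp4.range_orderOf p, hcard]
  rw [hcard] at h3 hq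
  by_cases hthree : p = 3 ∧ (e : ℕ) = 1
  · obtain ⟨rfl, he1⟩ := hthree
    letI : Fintype (ZMod 3) := ZMod.fintype 3
    obtain ⟨H, i1, i2, hsol, hH⟩ := Cfsg.Agent.S3439.result (F := ZMod 3) (by rw [ZMod.card])
    rw [PSp4.range_orderOf 3, ZMod.card] at hH
    haveI : Nontrivial H := by
      by_contra hn
      rw [not_nontrivial_iff_subsingleton] at hn
      obtain ⟨y, hy⟩ : (9 : ℕ) ∈ Set.range (orderOf : H → ℕ) := by
        rw [hH]; exact Or.inr (Or.inr (Or.inr (Or.inr (Or.inl ⟨rfl, dvd_rfl⟩))))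
      rw [Subsingleton.elim y 1, orderOf_one] at hy
      norm_num at hy
    obtain ⟨H', j1, j2, hN, h2⟩ := Cfsg.Agent.S3444.result (⊤ : Subgroup H) top_ne_bot
      (solvable_of_solvable_injective (f := Subgroup.subtype _) Subtype.val_injective) N
    exact ⟨H', j1, j2, hN, by rw [h2, hH, he1, pow_one]⟩
  letI hft : Fintype (GaloisField p (2 * e)) := Fintype.ofFinite _
  have hK : Fintype.card (GaloisField p (2 * e)) = p ^ (2 * (e : ℕ)) := by
    rw [← Nat.card_eq_fintype_card, GaloisField.card p _ (by omega)]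
  rcases (by have := hp.two_le; have : p ≠ 4 := fun h => by rw [h] at hp; norm_num at hp
             omega : p = 2 ∨ p = 3 ∨ 5 ≤ p) with rfl | rfl | h5
  · haveI := HermEven.nontriv (K := GaloisField 2 (2 * e)) (e := (e : ℕ))
    obtain ⟨hn, hne, hs⟩ := Semidirect.inl_range_facts (HermModule.actP 2 (e : ℕ) hK)
    haveI := hn
    obtain ⟨H, i1, i2, h1, h2⟩ := Cfsg.Agent.S3444.result
      (SemidirectProduct.inl : Multiplicative _ →* Semidirect.Ext (HermModule.actP 2 (e : ℕ) hK)).range hne hs N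
    exact ⟨H, i1, i2, h1, by rw [h2, HermEven.range_orderOf hK he]⟩
  · have hev : Even (e : ℕ) := by
      by_contra hodd
      obtain ⟨t, ht⟩ := Nat.not_even_iff_odd.1 hodd
      rcases Nat.eq_zero_or_pos t with rfl | htp
      · exact hthree ⟨rfl, by omega⟩
      · exact hq t htp (by rw [ht])
    obtain ⟨hn, hne, hs⟩ := Semidirect.inl_range_facts (TensorThree.rho (K := GaloisField 3 (2 * e)) (e : ℕ))
    haveI := hn
    obtain ⟨H, i1, i2, h1, h2⟩ := Cfsg.Agent.S3444.result
      (SemidirectProduct.inl : Multiplicative _ →*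
        Semidirect.Ext (TensorThree.rho (K := GaloisField 3 (2 * e)) (e : ℕ))).range hne hs N
    exact ⟨H, i1, i2, h1, by rw [h2, TensorThree.range_orderOf hK he hev]⟩
  · haveI := HermOdd.nontriv (K := GaloisField p (2 * e)) (p := p) (e := (e : ℕ))
    obtain ⟨hn, hne, hs⟩ := Semidirect.inl_range_facts (HermOdd.rho hK)
    haveI := hn
    obtain ⟨H, i1, i2, h1, h2⟩ := Cfsg.Agent.S3444.result
      (SemidirectProduct.inl : Multiplicative _ →* Semidirect.Ext (HermOdd.rho hK)).range hne hs N
    exact ⟨H, i1, i2, h1, by rw [h2, HermOdd.range_orderOf hK h5 he]⟩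

end Cfsg.Agent.S3466
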