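import Cfsg.Statements.S3486
import Cfsg.Agent.Lib.SporJ2.Orders
import Cfsg.Agent.Lib.SpectrumExt.HeartEight
import Cfsg.Agent.S3444

set_option autoImplicit false
open Cfsg

namespace Cfsg.Agent.S3486

/-- The Hall–Janko sporadic group J₂ is not determined by its set of element orders, not even up to finitely many groups: for every bound N there is a finite group of order greater than N with exactly the same set of element orders as J₂. -/
theorem result (N : ℕ) : ∃ (H : Type) (_ : Group H) (_ : Fintype H), N < Fintype.card H ∧ Set.range (orderOf : H → ℕ) = Set.range (orderOf : Cfsg.Spor.J2 → ℕ) := by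
  haveI := Lib.SpectrumExt.HeartEight.module_nontrivial
  obtain ⟨hn, hne, hs⟩ := Lib.SpectrumExt.Semidirect.inl_range_facts Lib.SpectrumExt.HeartEight.rho
  haveI := hn
  obtain ⟨H, i1, i2, h1, h2⟩ := S3444.result (SemidirectProduct.inl :
    Multiplicative Lib.SpectrumExt.HeartEight.heart →* Lib.SpectrumExt.HeartEight.X8).range hne hs N
  refine ⟨H, i1, i2, h1, h2.trans ?_⟩
  rw [Lib.SpectrumExt.HeartEight.range_orderOf_X8, Lib.SporJ2.range_orderOf_J2]
  ext m
  simp [Lib.SpectrumExt.HeartEight.spec, Lib.SporJ2.orders]

end Cfsg.Agent.S3486
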