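import Cfsg.Statements.S3489
import Cfsg.Agent.S2477
import Cfsg.Agent.Lib.SpecA10.Data
-- import your own Cfsg.Agent.* helpers here

set_option autoImplicit false
open Cfsg

namespace Cfsg.Agent.S3489

open Cfsg.Agent.Lib.SpecA10.Data

set_option linter.unusedVariables false
set_option linter.unusedSimpArgs false

/-- entry of a coded matrix -/
def ent (a i j : ℕ) : ℕ := a / 7 ^ (4 * i + j) % 7

/-- entry of a product of coded matrices -/
def pent (a b i j : ℕ) : ℕ :=
  (ent a i 0 * ent b 0 j + ent a i 1 * ent b 1 j + ent a i 2 * ent b 2 j + ent a i 3 * ent b 3 j) % 7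

/-- code of a product -/
def prodC (a b : ℕ) : ℕ :=
  (List.range 16).foldr (fun k acc => pent a b (k / 4) (k % 4) * 7 ^ k + acc) 0

/-- product check -/
def mulOK (a b c : ℕ) : Bool :=
  (List.range 16).all fun k => pent a b (k / 4) (k % 4) == ent c (k / 4) (k % 4)

/-- entrywise equality check -/
def eqC (a b : ℕ) : Bool :=
  (List.range 16).all fun k => ent a (k / 4) (k % 4) == ent b (k / 4) (k % 4)

/-- the coded elements -/
def codes : List ℕ := tbl.map Prod.fst

/-- the six generators (with inverses) -/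
def gens : List ℕ := [g8, g8i, g12, g12i, g10, g10i]

/-- certificate for one element -/
def good : ℕ × List ℕ → Bool
  | (x, ps) =>
    (eqC (ps.getD 0 0) cE) &&
    ((List.range ps.length).all fun k =>
      mulOK (ps.getD k 0) x (if k + 1 < ps.length then ps.getD (k + 1) 0 else cE)) &&
    ([1, 2, 3, 4, 5, 6, 8, 10, 12].contains ps.length) &&
    ((List.range ps.length).all fun k => k == 0 || !(eqC (ps.getD k 0) cE)) &&
    (ps.length == 1 || (List.range 16).all fun e =>
      ((List.range ps.length).foldr (fun k acc => ent (ps.getD k 0) (e / 4) (e % 4) + acc) 0) % 7 == 0) &&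
    (ps.length % 2 == 1 || eqC (ps.getD (ps.length / 2) 0) cZ) &&
    (gens.all fun g => codes.contains (prodC x g) && mulOK x g (prodC x g))

set_option maxRecDepth 100000 in
lemma tbl_good : tbl.all good = true := by decide +kernel

/-- the matrix with a given code -/
def toM (a : ℕ) : Matrix (Fin 4) (Fin 4) (ZMod 7) := Matrix.of fun i j => (ent a i j : ZMod 7)

lemma all16 {f : ℕ → Bool} (h : (List.range 16).all f = true) (i j : Fin 4) :
    f (4 * i + j) = true :=
  List.all_eq_true.mp h _ (List.mem_range.mpr (by omega))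

lemma div_mod4 (i j : Fin 4) : (4 * (i : ℕ) + j) / 4 = i ∧ (4 * (i : ℕ) + j) % 4 = j := by
  constructor <;> omega

lemma toM_mul {a b c : ℕ} (h : mulOK a b c = true) : toM a * toM b = toM c := by
  ext i j
  have h2 := all16 h i j
  rw [(div_mod4 i j).1, (div_mod4 i j).2, beq_iff_eq] at h2
  simp only [toM, Matrix.mul_apply, Fin.sum_univ_four, Matrix.of_apply]
  rw [← h2, pent, ZMod.natCast_mod]
  push_cast
  rfl

lemma toM_eq {a b : ℕ} (h : eqC a b = true) : toM a = toM b := by
  ext i j
  have h2 := all16 h i j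
  rw [(div_mod4 i j).1, (div_mod4 i j).2, beq_iff_eq] at h2
  simp [toM, h2]

lemma eqC_of_toM {a b : ℕ} (h : toM a = toM b) : eqC a b = true := by
  rw [eqC, List.all_eq_true]
  intro k hk
  rw [List.mem_range] at hk
  have h2 := congrFun (congrFun h ⟨k / 4, by omega⟩) ⟨k % 4, by omega⟩
  simp only [toM, Matrix.of_apply] at h2
  rw [beq_iff_eq]
  have h3 := congrArg ZMod.val h2
  have hl : ∀ a i j, ent a i j < 7 := fun a i j => Nat.mod_lt _ (by norm_num)
  rwa [ZMod.val_cast_of_lt (hl _ _ _), ZMod.val_cast_of_lt (hl _ _ _)] at h3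

lemma toM_cE : toM cE = 1 := by decide +kernel

lemma toM_cZ : toM cZ = -1 := by decide +kernel

lemma inv8 : toM g8 * toM g8i = 1 ∧ toM g8i * toM g8 = 1 := by decide +kernel
lemma inv12 : toM g12 * toM g12i = 1 ∧ toM g12i * toM g12 = 1 := by decide +kernel
lemma inv10 : toM g10 * toM g10i = 1 ∧ toM g10i * toM g10 = 1 := by decide +kernel

/-- generator of order 8 -/
def u8 : GL (Fin 4) (ZMod 7) := ⟨toM g8, toM g8i, inv8.1, inv8.2⟩
/-- generator of order 12 -/
def u12 : GL (Fin 4) (ZMod 7) := ⟨toM g12, toM g12i, inv12.1, inv12.2⟩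
/-- generator of order 10 -/
def u10 : GL (Fin 4) (ZMod 7) := ⟨toM g10, toM g10i, inv10.1, inv10.2⟩

/-- the group 2.S5 -/
def QS : Subgroup (GL (Fin 4) (ZMod 7)) := Subgroup.closure {u8, u12, u10}

lemma mem_QS {u : GL (Fin 4) (ZMod 7)} (hu : u ∈ QS) :
    ∃ e ∈ tbl, toM e.1 = (u : Matrix (Fin 4) (Fin 4) (ZMod 7)) := by
  have step : ∀ e ∈ tbl, ∀ g ∈ gens, ∃ e' ∈ tbl, toM e'.1 = toM e.1 * toM g := by
    intro e he g hg
    have h := List.all_eq_true.mp tbl_good e he
    simp only [good, Bool.and_eq_true, List.all_eq_true] at h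
    obtain ⟨hc, hm⟩ := h.2 g hg
    rw [List.contains_iff_mem, codes, List.mem_map] at hc
    obtain ⟨e', he', heq⟩ := hc
    exact ⟨e', he', by rw [heq, toM_mul hm]⟩
  unfold QS at hu
  induction hu using Subgroup.closure_induction_right with
  | one =>
    refine ⟨tbl.head (by decide), List.head_mem _, ?_⟩
    rw [Units.val_one, ← toM_cE]
    exact toM_eq (by decide +kernel)
  | mul_right x _ y hy ih =>
    obtain ⟨e, he, hev⟩ := ih
    rw [Units.val_mul, ← hev]
    rcases hy with rfl | rfl | rfl <;> exact step e he _ (by simp [gens])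
  | mul_inv_cancel x _ y hy ih =>
    obtain ⟨e, he, hev⟩ := ih
    rw [Units.val_mul, ← hev]
    rcases hy with rfl | rfl | rfl <;> exact step e he _ (by simp [gens])

/-- the underlying matrix -/
def mat (q : QS) : Matrix (Fin 4) (Fin 4) (ZMod 7) := (q : GL (Fin 4) (ZMod 7)).val

lemma facts (q : QS) :
    orderOf q ∈ [1, 2, 3, 4, 5, 6, 8, 10, 12] ∧
    (q ≠ 1 → ∑ k ∈ Finset.range (orderOf q),
        mat (q ^ k) = 0) ∧
    (orderOf q % 2 = 0 → mat (q ^ (orderOf q / 2)) = -1) := by
  obtain ⟨⟨x, ps⟩, he, hev⟩ := mem_QS q.2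
  have h := List.all_eq_true.mp tbl_good _ he
  simp only [good, Bool.and_eq_true, List.all_eq_true, Bool.or_eq_true, List.mem_range] at h
  obtain ⟨⟨⟨⟨⟨⟨h0, hstep⟩, hlen⟩, hne⟩, hsum⟩, hhalf⟩, -⟩ := h
  rw [List.contains_iff_mem] at hlen
  have hn : 0 < ps.length := by
    rcases Nat.eq_zero_or_pos ps.length with hh | hh
    · rw [hh] at hlen; simp at hlen
    · exact hh
  have hpow : ∀ k ≤ ps.length, mat (q ^ k) =
      toM (if k < ps.length then ps.getD k 0 else cE) := by
    intro k hk
    induction k with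
    | zero => rw [if_pos hn, toM_eq h0, toM_cE]; simp [mat]
    | succ k ih =>
      rw [pow_succ, mat]
      simp only [Subgroup.coe_mul, Units.val_mul]
      rw [← mat, ih (by omega), ← hev, if_pos (by omega : k < ps.length)]
      exact toM_mul (hstep k (by omega))
  have hord : orderOf q = ps.length := by
    rw [orderOf_eq_iff hn]
    constructor
    · apply Subtype.ext; apply Units.ext
      change mat (q ^ ps.length) = _
      rw [hpow _ le_rfl, if_neg (lt_irrefl _), toM_cE]; simp
    · intro m hm hm0 hq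
      have h2 := hpow m hm.le
      rw [hq, if_pos hm] at h2
      simp only [mat, OneMemClass.coe_one, Units.val_one] at h2
      rw [← toM_cE] at h2
      have h3 := eqC_of_toM h2.symm
      rcases hne m hm with h4 | h4
      · simp only [beq_iff_eq] at h4; omega
      · rw [h3] at h4; exact absurd h4 (by decide)
  rw [hord]
  refine ⟨hlen, fun hq => ?_, fun he => ?_⟩
  · rcases hsum with h4 | h4
    · exfalso
      apply hq
      rw [beq_iff_eq] at h4
      rw [← orderOf_eq_one_iff, hord, h4]
    · rw [Finset.sum_congr rfl (fun k hk => by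
        rw [hpow k (Finset.mem_range.mp hk).le, if_pos (Finset.mem_range.mp hk)])]
      ext i j
      have h5 := h4 (4 * i + j) (by omega)
      rw [(div_mod4 i j).1, (div_mod4 i j).2, beq_iff_eq] at h5
      have key : ∀ n : ℕ, ((((List.range n).foldr
          (fun k acc => ent (ps.getD k 0) i j + acc) 0 : ℕ)) : ZMod 7) =
          ∑ k ∈ Finset.range n, (ent (ps.getD k 0) i j : ZMod 7) := by
        intro n
        rw [show (List.range n).foldr (fun k acc => ent (ps.getD k 0) i j + acc) 0 =
          ((List.range n).map (fun k => ent (ps.getD k 0) i j)).sum from by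
            rw [List.sum, List.foldr_map]]
        rw [Nat.cast_list_sum, List.map_map]
        rfl
      simp only [Matrix.sum_apply, toM, Matrix.of_apply, Matrix.zero_apply]
      rw [← key, ← ZMod.natCast_mod, h5, Nat.cast_zero]
  · rcases hhalf with h4 | h4
    · rw [beq_iff_eq] at h4; omega
    · rw [hpow _ (by omega), if_pos (by omega), toM_eq h4, toM_cZ]

lemma orders_u : orderOf u8 = 8 ∧ orderOf u12 = 12 ∧ orderOf u10 = 10 := by
  have e : ∀ (u : GL (Fin 4) (ZMod 7)) (n : ℕ), u ∈ QS → 0 < n →
      u ^ n = 1 → (∀ m < n, 0 < m → u ^ m ≠ 1) → orderOf u = n := fun u n _ hn h1 h2 =>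
    (orderOf_eq_iff hn).mpr ⟨h1, h2⟩
  refine ⟨?_, ?_, ?_⟩ <;> (rw [orderOf_eq_iff (by norm_num)]; decide +kernel)

/-- the central involution -/
def zQ : QS := ⟨u8, Subgroup.subset_closure (by simp)⟩ ^ 4

lemma zQ_val : ((zQ : GL (Fin 4) (ZMod 7)) : Matrix (Fin 4) (Fin 4) (ZMod 7)) = -1 := by
  decide +kernel

/-- twisted 3-valued functions -/
def W : AddSubgroup (QS → ZMod 3) where
  carrier := {f | ∀ x, f (zQ * x) = - f x}
  zero_mem' := fun x => by simp
  add_mem' := fun {a b} ha hb x => by
    simp only [Pi.add_apply]; rw [ha x, hb x]; ring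
  neg_mem' := fun {a} ha x => by simp only [Pi.neg_apply]; rw [ha x]

/-- the abelian kernel -/
abbrev V (k : ℕ) : Type := (Fin 4 → ZMod 7) × (Fin (k + 1) → W)

/-- the action as additive automorphisms -/
def actV (k : ℕ) (q : QS) : V k ≃+ V k where
  toFun v := ((q : GL (Fin 4) (ZMod 7)).val.mulVec v.1,
    fun i => ⟨fun x => (v.2 i).1 (x * q), fun x => by
      change (v.2 i).1 (zQ * x * q) = _
      rw [mul_assoc]; exact (v.2 i).2 (x * q)⟩)
  invFun v := (((q⁻¹ : QS) : GL (Fin 4) (ZMod 7)).val.mulVec v.1,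
    fun i => ⟨fun x => (v.2 i).1 (x * q⁻¹), fun x => by
      change (v.2 i).1 (zQ * x * q⁻¹) = _
      rw [mul_assoc]; exact (v.2 i).2 (x * q⁻¹)⟩)
  left_inv v := by
    refine Prod.ext ?_ (funext fun i => Subtype.ext (funext fun x => ?_))
    · simp [Matrix.mulVec_mulVec]
    · simp [mul_assoc]
  right_inv v := by
    refine Prod.ext ?_ (funext fun i => Subtype.ext (funext fun x => ?_))
    · simp [Matrix.mulVec_mulVec]
    · simp [mul_assoc]
  map_add' v w := by
    refine Prod.ext ?_ (funext fun i => Subtype.ext (funext fun x => ?_))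
    · simp [Matrix.mulVec_add]
    · rfl

lemma actV_one (k : ℕ) (v : V k) : actV k 1 v = v := by
  refine Prod.ext ?_ (funext fun i => Subtype.ext (funext fun x => ?_))
  · simp [actV]
  · simp [actV]

lemma actV_mul (k : ℕ) (a b : QS) (v : V k) : actV k (a * b) v = actV k a (actV k b v) := by
  refine Prod.ext ?_ (funext fun i => Subtype.ext (funext fun x => ?_))
  · simp [actV, Matrix.mulVec_mulVec]
  · simp [actV, mul_assoc]

/-- the action -/
def phi (k : ℕ) : QS →* MulAut (Multiplicative (V k)) where
  toFun q := AddEquiv.toMultiplicative (actV k q)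
  map_one' := MulEquiv.ext fun v => congrArg Multiplicative.ofAdd (actV_one k _)
  map_mul' a b := MulEquiv.ext fun v => congrArg Multiplicative.ofAdd (actV_mul k a b _)

lemma phi_apply (k : ℕ) (q : QS) (w : Multiplicative (V k)) :
    phi k q w = Multiplicative.ofAdd (actV k q (Multiplicative.toAdd w)) := rfl

/-- the group -/
abbrev HG (k : ℕ) := Multiplicative (V k) ⋊[phi k] QS

instance hgFinite (k : ℕ) : Finite (HG k) := Finite.of_equiv _ SemidirectProduct.equivProd.symm

/-- norm of a kernel element under a group element -/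
def nrm (k : ℕ) (q : QS) (v : V k) (n : ℕ) : V k := ∑ i ∈ Finset.range n, actV k (q ^ i) v

lemma pow_eq (k : ℕ) (x : HG k) (n : ℕ) :
    x ^ n = ⟨Multiplicative.ofAdd (nrm k x.right (Multiplicative.toAdd x.left) n), x.right ^ n⟩ := by
  induction n with
  | zero => simp [nrm]
  | succ n ih =>
    rw [pow_succ, ih]
    apply SemidirectProduct.ext
    · simp only [SemidirectProduct.mul_left, phi_apply, nrm, Finset.sum_range_succ, ofAdd_add]
    · rw [SemidirectProduct.mul_right]; exact (pow_succ _ _).symm

lemma orderOf_eq (k : ℕ) (x : HG k) :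
    orderOf x = orderOf x.right *
      addOrderOf (nrm k x.right (Multiplicative.toAdd x.left) (orderOf x.right)) := by
  have hd : orderOf x.right ∣ orderOf x := orderOf_map_dvd SemidirectProduct.rightHom x
  have hn : 0 < orderOf x.right := orderOf_pos _
  have h2 := orderOf_pow_of_dvd hn.ne' hd
  have e : x ^ orderOf x.right = SemidirectProduct.inl
      (Multiplicative.ofAdd (nrm k x.right (Multiplicative.toAdd x.left) (orderOf x.right))) := by
    rw [pow_eq]
    apply SemidirectProduct.ext
    · simp
    · simp [pow_orderOf_eq_one]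
  rw [e, orderOf_injective _ SemidirectProduct.inl_injective, orderOf_ofAdd_eq_addOrderOf] at h2
  rw [h2, Nat.mul_div_cancel' hd]

lemma nrm_fst (k : ℕ) (q : QS) (v : V k) (n : ℕ) :
    (nrm k q v n).1 = (∑ i ∈ Finset.range n,
      mat (q ^ i)).mulVec v.1 := by
  rw [nrm, Prod.fst_sum, Matrix.sum_mulVec]
  rfl

lemma nrm_snd (k : ℕ) (q : QS) (v : V k) (n : ℕ) (i : Fin (k + 1)) (x : QS) :
    ((nrm k q v n).2 i).1 x = ∑ j ∈ Finset.range n, (v.2 i).1 (x * q ^ j) := by
  rw [nrm, Prod.snd_sum, Finset.sum_apply, AddSubmonoidClass.coe_finsetSum, Finset.sum_apply]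
  rfl

lemma nrm_even (k : ℕ) (q : QS) (v : V k) (he : orderOf q % 2 = 0) :
    nrm k q v (orderOf q) = 0 := by
  have hq1 : q ≠ 1 := fun h => by simp [h] at he
  refine Prod.ext ?_ (funext fun i => Subtype.ext (funext fun x => ?_))
  · rw [nrm_fst, (facts q).2.1 hq1, Matrix.zero_mulVec]; rfl
  · rw [nrm_snd]
    have hz : q ^ (orderOf q / 2) = zQ := by
      apply Subtype.ext; apply Units.ext
      exact ((facts q).2.2 he).trans zQ_val.symm
    have hzc : ∀ y : QS, y * zQ = zQ * y := by
      intro y
      apply Subtype.ext; apply Units.ext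
      simp only [Subgroup.coe_mul, Units.val_mul, zQ_val]
      simp
    rw [show Finset.range (orderOf q) = Finset.range (orderOf q / 2 + orderOf q / 2) by
      congr 1; omega, Finset.sum_range_add, ← Finset.sum_add_distrib]
    apply Finset.sum_eq_zero
    intro j _
    have : (v.2 i).1 (zQ * (x * q ^ j)) = -(v.2 i).1 (x * q ^ j) := (v.2 i).2 _
    rw [pow_add, hz, ← mul_assoc, hzc, mul_assoc, this, add_neg_cancel]

lemma three_smul_W (k : ℕ) (w : Fin (k + 1) → W) : (3 : ℕ) • w = 0 := by
  funext i
  apply Subtype.ext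
  funext x
  change (3 : ℕ) • ((w i).1 x) = 0
  rw [nsmul_eq_mul]
  exact mul_eq_zero_of_left (by decide) _

lemma upper (k : ℕ) (x : HG k) : orderOf x ∈ ({1, 2, 3, 4, 5, 6, 7, 8, 9, 10, 12, 15, 21} : Set ℕ) := by
  rw [orderOf_eq]
  set q := x.right
  set v := Multiplicative.toAdd x.left
  rcases Nat.mod_two_eq_zero_or_one (orderOf q) with he | ho
  · rw [nrm_even k q v he, addOrderOf_zero, mul_one]
    have := (facts q).1
    generalize orderOf q = n at *
    simp only [List.mem_cons, List.mem_nil_iff, or_false] at this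
    rcases this with h | h | h | h | h | h | h | h | h <;> subst h <;> simp
  · by_cases hq : q = 1
    · rw [hq, orderOf_one, one_mul]
      have hdvd : addOrderOf (nrm k (1 : QS) v 1) ∣ 21 := by
        apply addOrderOf_dvd_of_nsmul_eq_zero
        refine Prod.ext ?_ ?_
        · funext i
          change (21 : ℕ) • ((nrm k (1 : QS) v 1).1 i) = 0
          rw [nsmul_eq_mul]
          exact mul_eq_zero_of_left (by decide) _
        · change (21 : ℕ) • ((nrm k (1 : QS) v 1).2) = 0
          rw [show (21 : ℕ) = 7 * 3 from rfl, mul_nsmul', three_smul_W, smul_zero]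
      have h21 : ∀ d ∈ Nat.divisors 21, d = 1 ∨ d = 3 ∨ d = 7 ∨ d = 21 := by decide
      rcases h21 _ (Nat.mem_divisors.mpr ⟨hdvd, by norm_num⟩) with h | h | h | h <;> simp [h]
    · have hdvd : addOrderOf (nrm k q v (orderOf q)) ∣ 3 := by
        apply addOrderOf_dvd_of_nsmul_eq_zero
        refine Prod.ext ?_ ?_
        · change (3 : ℕ) • ((nrm k q v (orderOf q)).1) = 0
          rw [nrm_fst, (facts q).2.1 hq, Matrix.zero_mulVec, smul_zero]
        · exact three_smul_W k _
      have hm := (facts q).1
      have hne : orderOf q ≠ 1 := fun h => hq (orderOf_eq_one_iff.mp h)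
      rcases (Nat.dvd_prime Nat.prime_three).mp hdvd with h | h <;> rw [h] <;>
        generalize orderOf q = n at * <;>
        simp only [List.mem_cons, List.mem_nil_iff, or_false] at hm <;>
        rcases hm with e | e | e | e | e | e | e | e | e <;> subst e <;> simp_all

/-- a twisted delta function -/
noncomputable def delta : W :=
  ⟨fun x => by classical exact (if x = 1 then 1 else if x = zQ then -1 else 0), by
    classical
    intro x
    have hz2 : zQ * zQ = 1 := by
      apply Subtype.ext; apply Units.ext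
      simp [zQ_val]
    have hz1 : zQ ≠ 1 := fun h => by
      have := congrArg (fun q : QS => ((q : GL (Fin 4) (ZMod 7)) : Matrix (Fin 4) (Fin 4) (ZMod 7))) h
      simp only [zQ_val, OneMemClass.coe_one, Units.val_one] at this
      exact absurd this (by decide)
    by_cases h1 : x = 1
    · subst h1; simp [hz1]
    · by_cases h2 : x = zQ
      · subst h2; simp [hz2, hz1]
      · have a : zQ * x ≠ 1 := fun h => h2 (by
          calc x = zQ * zQ * x := by rw [hz2, one_mul]
            _ = zQ := by rw [mul_assoc, h, mul_one])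
        have b : zQ * x ≠ zQ := fun h => h1 (mul_eq_left.mp h)
        simp [h1, h2, a, b]⟩

lemma odd_mem (k : ℕ) (q : QS) (n : ℕ) (hq : orderOf q = n) (hn : n = 3 ∨ n = 5) :
    3 * n ∈ Set.range (orderOf : HG k → ℕ) := by
  classical
  refine ⟨⟨Multiplicative.ofAdd ((0, fun _ => delta) : V k), q⟩, ?_⟩
  rw [orderOf_eq]
  simp only [toAdd_ofAdd]
  rw [mul_comm, hq]
  congr 1
  apply addOrderOf_eq_prime (p := 3)
  · refine Prod.ext ?_ (three_smul_W k _)
    change (3 : ℕ) • _ = (0 : Fin 4 → ZMod 7)
    rw [nrm_fst, Matrix.mulVec_zero, smul_zero]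
  · intro h
    have h2 := congrFun (congrArg Subtype.val (congrFun (congrArg Prod.snd h) 0)) 1
    rw [nrm_snd, Finset.sum_eq_single 0] at h2
    · simp [delta] at h2
    · intro j hj hj0
      have hjn : j < n := Finset.mem_range.mp hj
      have a : q ^ j ≠ 1 := fun h' => by
        have := Nat.le_of_dvd (by omega) (orderOf_dvd_of_pow_eq_one h'); omega
      have b : q ^ j ≠ zQ := fun h' => by
        have h4 : q ^ (2 * j) = 1 := by
          rw [mul_comm, pow_mul, h']
          apply Subtype.ext; apply Units.ext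
          simp [zQ_val, pow_two]
        have := orderOf_dvd_of_pow_eq_one h4
        rw [hq] at this
        have hco : Nat.Coprime n 2 := by rcases hn with rfl | rfl <;> norm_num
        have := Nat.le_of_dvd (by omega) (hco.dvd_of_dvd_mul_left this); omega
      simp [delta, a, b]
    · simp; omega

lemma omega_eq (k : ℕ) :
    Set.range (orderOf : HG k → ℕ) = {1, 2, 3, 4, 5, 6, 7, 8, 9, 10, 12, 15, 21} := by
  refine Set.Subset.antisymm (by rintro _ ⟨x, rfl⟩; exact upper k x) ?_
  have hd : ∀ {m d : ℕ}, m ∈ Set.range (orderOf : HG k → ℕ) → d ∣ m →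
      d ∈ Set.range (orderOf : HG k → ℕ) := by
    rintro m d ⟨g, rfl⟩ hdv
    exact ⟨g ^ (orderOf g / d), orderOf_pow_orderOf_div (orderOf_pos g).ne' hdv⟩
  have hinr : ∀ (u : GL (Fin 4) (ZMod 7)) (hu : u ∈ QS),
      orderOf u ∈ Set.range (orderOf : HG k → ℕ) := fun u hu =>
    ⟨SemidirectProduct.inr ⟨u, hu⟩, by
      rw [orderOf_injective _ SemidirectProduct.inr_injective, Subgroup.orderOf_mk]⟩
  have m8 := hinr u8 (Subgroup.subset_closure (by simp))
  have m12 := hinr u12 (Subgroup.subset_closure (by simp))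
  have m10 := hinr u10 (Subgroup.subset_closure (by simp))
  rw [orders_u.1] at m8
  rw [orders_u.2.1] at m12
  rw [orders_u.2.2] at m10
  let w12 : QS := ⟨u12, Subgroup.subset_closure (by simp)⟩
  let w10 : QS := ⟨u10, Subgroup.subset_closure (by simp)⟩
  have h12 : orderOf w12 = 12 := (Subgroup.orderOf_coe w12).symm.trans orders_u.2.1
  have h10 : orderOf w10 = 10 := (Subgroup.orderOf_coe w10).symm.trans orders_u.2.2
  have m9 := odd_mem k (w12 ^ 4) 3 (by rw [orderOf_pow, h12]; rfl) (Or.inl rfl)
  have m15 := odd_mem k (w10 ^ 2) 5 (by rw [orderOf_pow, h10]; rfl) (Or.inr rfl)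
  have m21 : 21 ∈ Set.range (orderOf : HG k → ℕ) := by
    classical
    refine ⟨⟨Multiplicative.ofAdd ((fun _ => 1, fun _ => delta) : V k), 1⟩, ?_⟩
    rw [orderOf_eq]
    simp only [toAdd_ofAdd, orderOf_one, one_mul]
    have e : nrm k (1 : QS) ((fun _ => 1, fun _ => delta) : V k) 1 =
        ((fun _ => 1, fun _ => delta) : V k) := by
      refine Prod.ext ?_ (funext fun i => Subtype.ext (funext fun x => ?_))
      · rw [nrm_fst]; simp [mat]
      · rw [nrm_snd]; simp
    rw [e, Prod.addOrderOf_mk]
    have a : addOrderOf ((fun _ => 1) : Fin 4 → ZMod 7) = 7 := by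
      have : Fact (Nat.Prime 7) := ⟨by norm_num⟩
      exact addOrderOf_eq_prime (by funext i; simp; rfl) (fun h => by
        have := congrFun h 0; exact absurd this (by decide))
    have b : addOrderOf ((fun _ => delta) : Fin (k + 1) → W) = 3 := by
      refine addOrderOf_eq_prime (three_smul_W k _) (fun h => ?_)
      have := congrFun (congrArg Subtype.val (congrFun h 0)) 1
      simp [delta] at this
    rw [a, b]; rfl
  intro m hm
  simp only [Set.mem_insert_iff, Set.mem_singleton_iff] at hm
  rcases hm with rfl | rfl | rfl | rfl | rfl | rfl | rfl | rfl | rfl | rfl | rfl | rfl | rfl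
  · exact hd m8 (by norm_num)
  · exact hd m8 (by norm_num)
  · exact hd m9 (by norm_num)
  · exact hd m8 (by norm_num)
  · exact hd m10 (by norm_num)
  · exact hd m12 (by norm_num)
  · exact hd m21 (by norm_num)
  · exact m8
  · exact m9
  · exact m10
  · exact m12
  · exact m15
  · exact m21

lemma card_big (k : ℕ) : k < Nat.card (HG k) := by
  classical
  rw [SemidirectProduct.card, Nat.card_congr Multiplicative.toAdd, Nat.card_prod, Nat.card_fun (α := Fin (k + 1)),
    Nat.card_fin]
  have hW : 2 ≤ Nat.card W := by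
    have : Nontrivial W := ⟨delta, 0, fun h => by
      have := congrFun (congrArg Subtype.val h) 1
      simp [delta] at this⟩
    exact Finite.one_lt_card
  calc k < 2 ^ (k + 1) := (Nat.lt_two_pow_self).trans' (by omega)
    _ ≤ Nat.card W ^ (k + 1) := Nat.pow_le_pow_left hW _
    _ ≤ Nat.card (Fin 4 → ZMod 7) * Nat.card W ^ (k + 1) :=
        Nat.le_mul_of_pos_left _ Nat.card_pos
    _ ≤ _ := Nat.le_mul_of_pos_right _ Nat.card_pos

/-- The alternating group of degree 10 is not determined by its set of element orders, not even up to finitely many groups: for every bound N there is a finite group of order greater than N with exactly the same set of element orders as the alternating group of degree 10. -/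
theorem result (N : ℕ) : ∃ (H : Type) (_ : Group H) (_ : Fintype H), N < Fintype.card H ∧ Set.range (orderOf : H → ℕ) = Set.range (orderOf : alternatingGroup (Fin 10) → ℕ) := by
  classical
  have := Fintype.ofFinite (HG N)
  refine ⟨HG N, inferInstance, inferInstance, ?_, ?_⟩
  · rw [← Nat.card_eq_fintype_card]; exact card_big N
  · rw [omega_eq]; exact Cfsg.Agent.S2477.result.symm

end Cfsg.Agent.S3489
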