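import Cfsg.Statements.S3491
import Mathlib
import Cfsg.Agent.S3444
import Cfsg.Agent.Lib.SpectrumExt.AffineSLTwo

set_option autoImplicit false
open Cfsg

namespace Cfsg.Agent.S3491

open Cfsg.Agent.Lib.SpectrumExt.AffineSLTwo

variable {F : Type} [Field F] [Fintype F]

/-- The linear part of an affine map. -/
def linPart (F : Type) [Field F] [Fintype F] : aff F →* Matrix (Fin 2) (Fin 2) F where
  toFun M := !![M.1.1 0 0, M.1.1 0 1; M.1.1 1 0, M.1.1 1 1]
  map_one' := by
    ext i j
    fin_cases i <;> fin_cases j <;> rfl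
  map_mul' a b := by
    show !![(a.1.1 * b.1.1) 0 0, (a.1.1 * b.1.1) 0 1; (a.1.1 * b.1.1) 1 0, (a.1.1 * b.1.1) 1 1] = _
    ext i j
    fin_cases i <;> fin_cases j <;>
      simp [Matrix.mul_apply, Fin.sum_univ_three, b.2.1, b.2.2.1]

theorem exists_large (hF : Fintype.card F = 4) (N : ℕ) :
    ∃ (H : Type) (_ : Group H) (_ : Fintype H), N < Fintype.card H ∧
      Set.range (orderOf : H → ℕ) = Set.range (orderOf : aff F → ℕ) := by
  have hne : (linPart F).ker ≠ ⊥ := by
    intro h
    have hm : mk (1 : F) 0 0 1 1 0 (by ring) ∈ (linPart F).ker := by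
      rw [MonoidHom.mem_ker]
      ext i j
      fin_cases i <;> fin_cases j <;> rfl
    rw [h, Subgroup.mem_bot] at hm
    have h' := congrArg (fun y : aff F => y.1.1 0 2) hm
    exact one_ne_zero (α := F) h'
  have hs : Group.IsSolvable (linPart F).ker := by
    refine Group.isSolvable_of_comm ?_
    rintro ⟨a, ha⟩ ⟨b, hb⟩
    rw [MonoidHom.mem_ker] at ha hb
    have ea := fun i j => congrFun (congrFun ha i) j
    have eb := fun i j => congrFun (congrFun hb i) j
    have a00 : a.1.1 0 0 = 1 := ea 0 0
    have a01 : a.1.1 0 1 = 0 := ea 0 1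
    have a10 : a.1.1 1 0 = 0 := ea 1 0
    have a11 : a.1.1 1 1 = 1 := ea 1 1
    have b00 : b.1.1 0 0 = 1 := eb 0 0
    have b01 : b.1.1 0 1 = 0 := eb 0 1
    have b10 : b.1.1 1 0 = 0 := eb 1 0
    have b11 : b.1.1 1 1 = 1 := eb 1 1
    apply Subtype.ext
    apply Subtype.ext
    apply Subtype.ext
    show a.1.1 * b.1.1 = b.1.1 * a.1.1
    ext i j
    fin_cases i <;> fin_cases j <;>
      simp [Matrix.mul_apply, Fin.sum_univ_three, a00, a01, a10, a11, b00, b01, b10, b11,
        a.2.1, a.2.2.1, a.2.2.2, b.2.1, b.2.2.1, b.2.2.2, add_comm]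
  exact Cfsg.Agent.S3444.result (linPart F).ker hne hs N

/-- The alternating group of degree 6 is not determined by its set of element orders, not even up to finitely many groups: for every bound N there is a finite group of order greater than N with exactly the same set of element orders as the alternating group of degree 6. -/
theorem result (N : ℕ) : ∃ (H : Type) (_ : Group H) (_ : Fintype H), N < Fintype.card H ∧ Set.range (orderOf : H → ℕ) = Set.range (orderOf : alternatingGroup (Fin 6) → ℕ) := by
  letI : Fintype (GaloisField 2 2) := Fintype.ofFinite _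
  have hF : Fintype.card (GaloisField 2 2) = 4 := by
    rw [← Nat.card_eq_fintype_card, GaloisField.card 2 2 two_ne_zero]; norm_num
  rw [range_orderOf_alt_six, ← range_orderOf hF]
  exact exists_large hF N

end Cfsg.Agent.S3491
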