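import Cfsg.Statements.S3493
import Cfsg.Agent.Lib.Cores.MinNormal
import Cfsg.Agent.Lib.RecogThree.ExtremelyPrimitive
-- import your own Cfsg.Agent.* helpers here

set_option autoImplicit false
open Cfsg

namespace Cfsg.Agent.S3493

open Lib.RecogThree.MinNormalFactors Lib.RecogThree.ExtremelyPrimitive

theorem normal_transitive {G Ω : Type*} [Group G] [MulAction G Ω] [FaithfulSMul G Ω]
    [MulAction.IsPreprimitive G Ω] {N : Subgroup G} (hN : N.Normal) (hN1 : N ≠ ⊥) :
    MulAction.IsPretransitive N Ω := by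
  have := hN
  refine MulAction.IsQuasiPreprimitive.isPretransitive_of_normal fun h => hN1 ?_
  rw [Subgroup.eq_bot_iff_forall]
  intro x hx
  refine FaithfulSMul.eq_of_smul_eq_smul (α := Ω) fun b => ?_
  rw [one_smul]
  have hb : b ∈ MulAction.fixedPoints N Ω := h ▸ Set.mem_univ b
  exact hb ⟨x, hx⟩

theorem centralizer_normal {G : Type*} [Group G] {N : Subgroup G} (hN : N.Normal) :
    (Subgroup.centralizer (N : Set G)).Normal := by
  constructor
  intro x hx g
  rw [Subgroup.mem_centralizer_iff] at hx ⊢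
  intro y hy
  have h := hx _ (hN.conj_mem y hy g⁻¹)
  rw [inv_inv] at h
  calc y * (g * x * g⁻¹) = g * ((g⁻¹ * y * g) * x) * g⁻¹ := by group
    _ = g * (x * (g⁻¹ * y * g)) * g⁻¹ := by rw [h]
    _ = g * x * g⁻¹ * y := by group

theorem mem_normalizer_closure {G : Type*} [Group G] (k : G) {S : Set G}
    (h1 : ∀ z ∈ S, k * z * k⁻¹ ∈ S) (h2 : ∀ z ∈ S, k⁻¹ * z * k ∈ S) :
    k ∈ Subgroup.normalizer (Subgroup.closure S : Set G) := by
  have key : ∀ k : G, (∀ z ∈ S, k * z * k⁻¹ ∈ S) →
      ∀ z ∈ Subgroup.closure S, k * z * k⁻¹ ∈ Subgroup.closure S := by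
    intro k hk z hz
    have hle : Subgroup.closure S ≤ (Subgroup.closure S).comap (MulAut.conj k).toMonoidHom :=
      (Subgroup.closure_le _).2 fun z hz => Subgroup.subset_closure (hk z hz)
    exact hle hz
  rw [Subgroup.mem_normalizer_iff]
  refine fun z => ⟨key k h1 z, fun h => ?_⟩
  have := key k⁻¹ (by simpa using h2) _ h
  simpa [mul_assoc] using this

theorem mem_normalizer_iff_cj {G : Type*} [Group G] [Finite G] {M : Subgroup G} {g : G} :
    g ∈ Subgroup.normalizer (M : Set G) ↔ cj M g = M := by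
  constructor
  · exact fun h => cj_eq_of_mem fun x hx => ((Subgroup.mem_normalizer_iff.1 h) x).1 hx
  · intro h
    rw [Subgroup.mem_normalizer_iff]
    intro x
    have h1 : g * x * g⁻¹ ∈ cj M g ↔ g * x * g⁻¹ ∈ M := by rw [h]
    rw [← h1, mem_cj]
    simp [mul_assoc]

section

variable {G Ω : Type*} [Group G] [Finite G] [MulAction G Ω] [FaithfulSMul G Ω]

omit [Finite G] [FaithfulSMul G Ω] in
theorem cj_decomp {N M : Subgroup G} (hN : N.Normal) (hF : Factor N M) {a : Ω}
    (hNt : MulAction.IsPretransitive N Ω) (g : G) :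
    ∃ h ∈ MulAction.stabilizer G a, cj M g = cj M h := by
  obtain ⟨⟨n, hn⟩, hna⟩ := hNt.exists_smul_eq a (g • a)
  change n • a = g • a at hna
  refine ⟨n⁻¹ * g, ?_, ?_⟩
  · rw [MulAction.mem_stabilizer_iff, mul_smul, ← hna, inv_smul_smul]
  · have hk : g⁻¹ * n * g ∈ N := by simpa using hN.conj_mem n hn g⁻¹
    ext z
    rw [mem_cj, mem_cj]
    constructor
    · intro h
      have h1 := hF.normalized _ hk _ h
      simpa [mul_assoc] using h1
    · intro h
      have h1 := hF.normalized _ (N.inv_mem hk) _ h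
      simpa [mul_assoc] using h1

/-- no product action -/
theorem false_of_meet {N M : Subgroup G} (hF : Factor N M) {a : Ω}
    (hco : IsCoatom (MulAction.stabilizer G a))
    (htrans : ∀ b : Ω, ∃ g : G, g • a = b)
    (hcj : ∀ g : G, ∃ h ∈ MulAction.stabilizer G a, cj M g = cj M h)
    (hB : ¬ ∀ g ∈ MulAction.stabilizer G a, cj M g = M)
    (hmax : ∀ b : Ω, b ≠ a → ∀ U : Subgroup G, U ≤ MulAction.stabilizer G a →
      MulAction.stabilizer G a ⊓ MulAction.stabilizer G b ≤ U →
      U = MulAction.stabilizer G a ⊓ MulAction.stabilizer G b ∨ U = MulAction.stabilizer G a)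
    (hMA : ∃ z ∈ M, z • a = a ∧ z ≠ 1) : False := by
  let D : Subgroup G := Subgroup.closure {z | z • a = a ∧ ∃ g, z ∈ cj M g}
  have hDle : D ≤ MulAction.stabilizer G a := (Subgroup.closure_le _).2 fun z hz => hz.1
  have hnormD : Subgroup.normalizer (D : Set G) = MulAction.stabilizer G a := by
    have hle : MulAction.stabilizer G a ≤ Subgroup.normalizer (D : Set G) := by
      intro k hk
      refine mem_normalizer_closure k ?_ ?_ <;>
      · rintro z ⟨hz, g, hg⟩
        refine ⟨?_, ?_⟩
        · first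
          | (rw [mul_smul, mul_smul, inv_smul_eq_iff.2 (MulAction.mem_stabilizer_iff.1 hk).symm, hz,
              MulAction.mem_stabilizer_iff.1 hk])
          | (rw [mul_smul, mul_smul, MulAction.mem_stabilizer_iff.1 hk, hz,
              inv_smul_eq_iff.2 (MulAction.mem_stabilizer_iff.1 hk).symm])
        · first
          | exact ⟨k * g, by rw [mem_cj] at hg ⊢; simpa [mul_assoc] using hg⟩
          | exact ⟨k⁻¹ * g, by rw [mem_cj] at hg ⊢; simpa [mul_assoc] using hg⟩
    rcases lt_or_eq_of_le hle with hlt | heq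
    · exfalso
      have hDn : D.Normal := Subgroup.normalizer_eq_top_iff.1 (hco.2 _ hlt)
      obtain ⟨z, hzM, hza, hz1⟩ := hMA
      have hzD : z ∈ D := Subgroup.subset_closure ⟨hza, 1, mem_cj.2 (by simpa using hzM)⟩
      refine hz1 (FaithfulSMul.eq_of_smul_eq_smul (α := Ω) fun b => ?_)
      obtain ⟨g, rfl⟩ := htrans b
      have h1 : (g⁻¹ * z * g) • a = a := hDle (by simpa using hDn.conj_mem z hzD g⁻¹)
      rw [mul_smul, mul_smul, inv_smul_eq_iff] at h1
      rw [h1, one_smul]
    · exact heq.symm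
  have hcomp : ∀ m ∈ M, ∀ c ∈ others M, (m * c) • a = a → m • a = a := by
    intro m hm c hc h
    suffices m ∈ Subgroup.normalizer (D : Set G) by rw [hnormD] at this; exact this
    have key : ∀ m ∈ M, ∀ c ∈ others M, (m * c) • a = a → ∀ z, z • a = a → ∀ g, z ∈ cj M g →
        (m * z * m⁻¹) • a = a ∧ ∃ g, m * z * m⁻¹ ∈ cj M g := by
      intro m hm c hc h z hz g hg
      by_cases hg' : cj M g = M
      · refine ⟨?_, g, ?_⟩
        · have hzc : c * z = z * c := (hF.commute_others z (hg' ▸ hg) c hc).symm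
          have h2 : (m * c)⁻¹ • a = a := inv_smul_eq_iff.2 h.symm
          have : (m * c * z * (m * c)⁻¹) • a = a := by rw [mul_smul, mul_smul, h2, hz, h]
          rwa [show m * c * z * (m * c)⁻¹ = m * z * m⁻¹ by rw [mul_assoc m c z, hzc]; group] at this
        · rw [hg'] at hg ⊢
          exact M.mul_mem (M.mul_mem hm hg) (M.inv_mem hm)
      · have := hF.commute g hg' m hm z hg
        rw [this, mul_inv_cancel_right]
        exact ⟨hz, g, hg⟩
    refine mem_normalizer_closure m ?_ ?_
    · rintro z ⟨hz, g, hg⟩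
      exact key m hm c hc h z hz g hg
    · rintro z ⟨hz, g, hg⟩
      have h' : (m⁻¹ * c⁻¹) • a = a := by
        rw [show m⁻¹ * c⁻¹ = (m * c)⁻¹ by
            rw [mul_inv_rev, ← hF.commute_others _ (M.inv_mem hm) _ ((others M).inv_mem hc)],
          inv_smul_eq_iff, h]
      simpa using key m⁻¹ (M.inv_mem hm) c⁻¹ ((others M).inv_mem hc) h' z hz g hg
  let B : Subgroup G := MulAction.stabilizer G a ⊓ Subgroup.normalizer (M : Set G)
  have hBne : B ≠ MulAction.stabilizer G a := fun h => hB fun g hg =>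
    mem_normalizer_iff_cj.1 (h.symm.le hg).2
  have hfix : ∀ g ∈ B, ∀ x ∈ M, g • x • a = x • a := by
    intro g hg x hx
    by_cases hxa : x • a = a
    · rw [hxa]; exact hg.1
    have hle : MulAction.stabilizer G a ⊓ MulAction.stabilizer G (x • a) ≤ B := by
      rintro s ⟨hsa, hsb⟩
      refine ⟨hsa, mem_normalizer_iff_cj.2 ?_⟩
      by_contra hs
      refine hxa ?_
      have hy : s * x * s⁻¹ ∈ others M :=
        Subgroup.subset_closure ⟨s, hs, mem_cj.2 (by simpa [mul_assoc] using hx)⟩
      have h1 : (x⁻¹ * (s * x * s⁻¹)) • a = a := by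
        have hsb' : s • x • a = x • a := hsb
        rw [mul_smul, mul_smul, mul_smul, inv_smul_eq_iff.2 (MulAction.mem_stabilizer_iff.1 hsa).symm,
          hsb', inv_smul_smul]
      exact (inv_smul_eq_iff.1 (hcomp x⁻¹ (M.inv_mem hx) _ hy h1)).symm
    rcases hmax _ hxa B inf_le_left hle with h | h
    · exact ((h.le hg).2)
    · exact absurd h hBne
  obtain ⟨z, hzM, hza, hz1⟩ := hMA
  -- the stabiliser in `M` is normal in `M`
  rcases hF.minimal (M ⊓ MulAction.stabilizer G a) inf_le_left (fun m hm x hx => by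
      refine ⟨M.mul_mem (M.mul_mem hm hx.1) (M.inv_mem hm), ?_⟩
      have hxB : x ∈ B := ⟨hx.2, Subgroup.le_normalizer hx.1⟩
      have h1 := hfix x hxB m⁻¹ (M.inv_mem hm)
      change (m * x * m⁻¹) • a = a
      rw [mul_smul, mul_smul, h1, smul_inv_smul]) with h | h
  · exact hz1 (Subgroup.mem_bot.1 (h ▸ (⟨hzM, hza⟩ : z ∈ M ⊓ MulAction.stabilizer G a)))
  · have hMle : M ≤ MulAction.stabilizer G a := inf_eq_left.1 h
    refine hz1 (FaithfulSMul.eq_of_smul_eq_smul (α := Ω) fun b => ?_)
    obtain ⟨g, rfl⟩ := htrans b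
    obtain ⟨k, hk, hgk⟩ := hcj g⁻¹
    have h1 : g⁻¹ * z * g ∈ cj M g⁻¹ := mem_cj.2 (by simpa [mul_assoc] using hzM)
    rw [hgk, mem_cj] at h1
    have h2 := Subgroup.mul_mem _ (Subgroup.mul_mem _ hk (hMle h1)) (Subgroup.inv_mem _ hk)
    have h3 : (g⁻¹ * z * g) • a = a := by simpa [mul_assoc] using h2
    rw [mul_smul, mul_smul, inv_smul_eq_iff] at h3
    rw [h3, one_smul]

/-- the socle is not a proper product acting with diagonal or trivial stabiliser -/
theorem false_of_semiregular_factor {N M : Subgroup G} (hN : N.Normal) (hF : Factor N M) {a : Ω}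
    (hcent : Subgroup.centralizer (N : Set G) = ⊥)
    (hco : IsCoatom (MulAction.stabilizer G a))
    (hNt : MulAction.IsPretransitive N Ω)
    (hB : ¬ ∀ g ∈ MulAction.stabilizer G a, cj M g = M)
    (hsemi : ∀ x ∈ M, x • a = a → x = 1)
    (hmax : ∀ b : Ω, b ≠ a → ∀ U : Subgroup G, U ≤ MulAction.stabilizer G a →
      MulAction.stabilizer G a ⊓ MulAction.stabilizer G b ≤ U →
      U = MulAction.stabilizer G a ⊓ MulAction.stabilizer G b ∨ U = MulAction.stabilizer G a)
    (hmov : ∀ b : Ω, b ≠ a → ¬ MulAction.stabilizer G a ≤ MulAction.stabilizer G b) : False := by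
  classical
  let P : Subgroup G :=
    { carrier := {m | m ∈ M ∧ ∃ c ∈ others M, (m * c) • a = a}
      one_mem' := ⟨M.one_mem, 1, (others M).one_mem, by simp⟩
      mul_mem' := by
        rintro u v ⟨hu, c, hc, h⟩ ⟨hv, d, hd, h'⟩
        refine ⟨M.mul_mem hu hv, c * d, (others M).mul_mem hc hd, ?_⟩
        rw [show u * v * (c * d) = u * c * (v * d) by
          rw [mul_assoc u v, ← mul_assoc v c, hF.commute_others v hv c hc]; group,
          mul_smul, h', h]
      inv_mem' := by
        rintro u ⟨hu, c, hc, h⟩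
        refine ⟨M.inv_mem hu, c⁻¹, (others M).inv_mem hc, ?_⟩
        rw [show u⁻¹ * c⁻¹ = (u * c)⁻¹ by
            rw [mul_inv_rev, ← hF.commute_others _ (M.inv_mem hu) _ ((others M).inv_mem hc)],
          inv_smul_eq_iff, h] }
  by_cases hP : P = ⊥
  · -- the stabiliser in `N` is trivial
    have hNa : ∀ n ∈ N, n • a = a → n = 1 := by
      intro n hn hna
      have hcom : ∀ n ∈ N, n • a = a → ∀ x ∈ M, x * n = n * x := by
        intro n hn hna x hx
        obtain ⟨m, hm, c, hc, rfl⟩ := hF.decomp n hn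
        have hm1 : m = 1 := Subgroup.mem_bot.1 (hP ▸ (⟨hm, c, hc, hna⟩ : m ∈ P))
        rw [hm1, one_mul]
        exact hF.commute_others x hx c hc
      have hcj : ∀ g, ∀ y ∈ cj M g, y * n = n * y := by
        intro g y hy
        obtain ⟨k, hk, hgk⟩ := cj_decomp hN hF (a := a) hNt g
        rw [hgk, mem_cj] at hy
        have hk' : k • a = a := hk
        have h1 := hcom (k⁻¹ * n * k) (by simpa using hN.conj_mem n hn k⁻¹)
          (by rw [mul_smul, mul_smul, hk', hna, inv_smul_eq_iff, hk']) _ hy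
        calc y * n = k * (k⁻¹ * y * k * (k⁻¹ * n * k)) * k⁻¹ := by group
          _ = k * (k⁻¹ * n * k * (k⁻¹ * y * k)) * k⁻¹ := by rw [h1]
          _ = n * y := by group
      have h : n ∈ Subgroup.centralizer (N : Set G) := by
        rw [Subgroup.mem_centralizer_iff]
        intro n' hn'
        obtain ⟨m, hm, c, hc, rfl⟩ := hF.decomp n' hn'
        have h1 : Commute m n := hcom n hn hna m hm
        have hle : others M ≤ Subgroup.centralizer {n} := (Subgroup.closure_le _).2
          fun z ⟨g, _, hz⟩ => Subgroup.mem_centralizer_singleton_iff.2 (hcj g z hz)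
        exact (h1.mul_left (Subgroup.mem_centralizer_singleton_iff.1 (hle hc))).eq
      rwa [hcent, Subgroup.mem_bot] at h
    let B : Subgroup G := MulAction.stabilizer G a ⊓ Subgroup.normalizer (M : Set G)
    have hBne : B ≠ MulAction.stabilizer G a := fun h => hB fun g hg =>
      mem_normalizer_iff_cj.1 (h.symm.le hg).2
    have hBc : ∀ g ∈ B, ∀ x ∈ M, g * x * g⁻¹ = x := by
      intro g hg x hx
      by_cases hx1 : x = 1
      · simp [hx1]
      have hxa : x • a ≠ a := fun h => hx1 (hsemi x hx h)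
      have key : ∀ s ∈ MulAction.stabilizer G a ⊓ MulAction.stabilizer G (x • a),
          s * x * s⁻¹ = x := by
        rintro s ⟨hsa, hsb⟩
        have hsb' : s • x • a = x • a := hsb
        have h1 : (x⁻¹ * (s * x * s⁻¹)) • a = a := by
          rw [mul_smul, mul_smul, mul_smul, inv_smul_eq_iff.2 (MulAction.mem_stabilizer_iff.1 hsa).symm,
            hsb', inv_smul_smul]
        exact (inv_mul_eq_one.1 (hNa _ (N.mul_mem (N.inv_mem (hF.le hx))
          (hN.conj_mem _ (hF.le hx) s)) h1)).symm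
      have hle : MulAction.stabilizer G a ⊓ MulAction.stabilizer G (x • a) ≤ B := by
        intro s hs
        refine ⟨hs.1, mem_normalizer_iff_cj.2 ?_⟩
        by_contra h
        refine hx1 (hF.inter x hx (Subgroup.subset_closure ⟨s, h, mem_cj.2 ?_⟩))
        rw [show s⁻¹ * x * s = s⁻¹ * (s * x * s⁻¹) * s by rw [key s hs]]
        simpa [mul_assoc] using hx
      rcases hmax _ hxa B inf_le_left hle with h | h
      · exact key g (h.le hg)
      · exact absurd h hBne
    obtain ⟨x, hx, hx1⟩ := (Subgroup.ne_bot_iff_exists_ne_one (H := M)).1 hF.ne_bot |>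
      fun ⟨⟨x, hx⟩, h⟩ => (⟨x, hx, fun e => h (Subtype.ext e)⟩ : ∃ x ∈ M, x ≠ 1)
    have := Fintype.ofFinite G
    let S : Finset G := Finset.univ.filter fun z => ∃ g ∈ MulAction.stabilizer G a, g * x * g⁻¹ = z
    have hmemS : ∀ {z}, z ∈ S ↔ ∃ g ∈ MulAction.stabilizer G a, g * x * g⁻¹ = z := by simp [S]
    have hsep : ∀ g ∈ MulAction.stabilizer G a, ∀ h ∈ MulAction.stabilizer G a,
        g * x * g⁻¹ ≠ h * x * h⁻¹ → cj M (h⁻¹ * g) ≠ M := by
      intro g hg h hh hne he
      apply hne
      have h1 := hBc (h⁻¹ * g) ⟨Subgroup.mul_mem _ (Subgroup.inv_mem _ hh) hg,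
        mem_normalizer_iff_cj.2 he⟩ x hx
      calc g * x * g⁻¹ = h * (h⁻¹ * g * x * (h⁻¹ * g)⁻¹) * h⁻¹ := by group
        _ = h * x * h⁻¹ := by rw [h1]
    have comm : (S : Set G).Pairwise (Function.onFun Commute fun z => z) := by
      intro u hu v hv hne
      obtain ⟨g, hg, rfl⟩ := hmemS.1 hu
      obtain ⟨h, hh, rfl⟩ := hmemS.1 hv
      have h1 := hF.commute (h⁻¹ * g) (hsep g hg h hh hne) x hx (h⁻¹ * g * x * (h⁻¹ * g)⁻¹)
        (mem_cj.2 (by simpa [mul_assoc] using hx))
      show g * x * g⁻¹ * (h * x * h⁻¹) = h * x * h⁻¹ * (g * x * g⁻¹)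
      calc g * x * g⁻¹ * (h * x * h⁻¹) = h * ((h⁻¹ * g * x * (h⁻¹ * g)⁻¹) * x) * h⁻¹ := by group
        _ = h * (x * (h⁻¹ * g * x * (h⁻¹ * g)⁻¹)) * h⁻¹ := by rw [h1]
        _ = h * x * h⁻¹ * (g * x * g⁻¹) := by group
    let w := S.noncommProd (fun z => z) comm
    have hfixw : ∀ k ∈ MulAction.stabilizer G a, k * w * k⁻¹ = w := by
      intro k hk
      have key : ∀ (s t : Multiset G), s = t → ∀ hs ht, s.noncommProd hs = t.noncommProd ht := by
        rintro s t rfl _ _; rfl
      have hmap : S.map (MulAut.conj k).toEquiv.toEmbedding = S := by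
        refine Finset.eq_of_subset_of_card_le (fun z hz => ?_) (by rw [Finset.card_map])
        obtain ⟨y, hy, rfl⟩ := Finset.mem_map.1 hz
        obtain ⟨g, hg, rfl⟩ := hmemS.1 hy
        exact hmemS.2 ⟨k * g, Subgroup.mul_mem _ hk hg, by simp [mul_assoc]⟩
      have h1 := Finset.map_noncommProd S (fun z => z) comm (MulAut.conj k)
      rw [MulAut.conj_apply] at h1
      refine h1.trans ?_
      refine key _ _ ?_ _ _
      have := congrArg Finset.val hmap
      rw [Finset.map_val] at this
      exact this.trans (Multiset.map_id' _).symm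
    have hxS : x ∈ S := hmemS.2 ⟨1, Subgroup.one_mem _, by simp⟩
    have hw1 : ∃ c ∈ others M, w = x * c := by
      refine ⟨(S.erase x).noncommProd (fun z => z) (fun u hu v hv => comm
        (Finset.mem_of_mem_erase hu) (Finset.mem_of_mem_erase hv)), ?_, ?_⟩
      · refine Subgroup.noncommProd_mem _ _ fun z hz => ?_
        obtain ⟨hzx, hzS⟩ := Finset.mem_erase.1 hz
        obtain ⟨g, hg, rfl⟩ := hmemS.1 hzS
        refine Subgroup.subset_closure ⟨g, ?_, mem_cj.2 (by simpa [mul_assoc] using hx)⟩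
        have := hsep g hg 1 (Subgroup.one_mem _) (by simpa using hzx)
        simpa using this
      · exact (Finset.mul_noncommProd_erase S hxS (fun z => z) comm).symm
    obtain ⟨c, hc, hwc⟩ := hw1
    have hwN : w ∈ N := hwc ▸ N.mul_mem (hF.le hx) (hF.others_le hc)
    have hwa : w • a = a := by
      by_contra h
      refine hmov _ h fun k hk => ?_
      rw [MulAction.mem_stabilizer_iff, smul_smul, ← mul_inv_cancel_right (k * w) k,
        show k * w * k * k⁻¹ = k * w * k⁻¹ * k by group, hfixw k hk, mul_smul,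
        MulAction.mem_stabilizer_iff.1 hk]
    have hw0 := hNa w hwN hwa
    rw [hwc] at hw0
    exact hx1 (hF.inter x hx (by rw [eq_inv_of_mul_eq_one_left hw0]; exact (others M).inv_mem hc))
  · -- diagonal case
    let R : Subgroup G :=
      { carrier := {n | ∃ p ∈ P, ∃ c ∈ others M, n = p * c}
        one_mem' := ⟨1, P.one_mem, 1, (others M).one_mem, by simp⟩
        mul_mem' := by
          rintro _ _ ⟨u, hu, c, hc, rfl⟩ ⟨v, hv, d, hd, rfl⟩
          refine ⟨u * v, P.mul_mem hu hv, c * d, (others M).mul_mem hc hd, ?_⟩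
          rw [mul_assoc u v, ← mul_assoc v c, hF.commute_others v hv.1 c hc]
          group
        inv_mem' := by
          rintro _ ⟨u, hu, c, hc, rfl⟩
          refine ⟨u⁻¹, P.inv_mem hu, c⁻¹, (others M).inv_mem hc, ?_⟩
          rw [mul_inv_rev, ← hF.commute_others _ (M.inv_mem hu.1) _ ((others M).inv_mem hc)] }
    let Q : Subgroup G := Subgroup.closure
      {z | ∃ g ∈ MulAction.stabilizer G a, ∃ p ∈ P, z = g * p * g⁻¹}
    have hQR : Q ≤ R := by
      refine (Subgroup.closure_le _).2 ?_
      rintro _ ⟨g, hg, p, ⟨hp, c, hc, hpc⟩, rfl⟩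
      by_cases hgM : cj M g = M
      · refine ⟨g * p * g⁻¹, ⟨?_, g * c * g⁻¹, conj_others_le hgM hc, ?_⟩, 1, (others M).one_mem,
          (mul_one _).symm⟩
        · exact hgM ▸ mem_cj.2 (by simpa [mul_assoc] using hp)
        · rw [show g * p * g⁻¹ * (g * c * g⁻¹) = g * (p * c) * g⁻¹ by group, mul_smul, mul_smul,
            inv_smul_eq_iff.2 (MulAction.mem_stabilizer_iff.1 hg).symm, hpc,
            MulAction.mem_stabilizer_iff.1 hg]
      · exact ⟨1, P.one_mem, _, Subgroup.subset_closure
          ⟨g, hgM, mem_cj.2 (by simpa [mul_assoc] using hp)⟩, (one_mul _).symm⟩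
    have hQn : MulAction.stabilizer G a ≤ Subgroup.normalizer (Q : Set G) := by
      intro k hk
      refine mem_normalizer_closure k ?_ ?_
      · rintro _ ⟨g, hg, p, hp, rfl⟩
        exact ⟨k * g, Subgroup.mul_mem _ hk hg, p, hp, by group⟩
      · rintro _ ⟨g, hg, p, hp, rfl⟩
        exact ⟨k⁻¹ * g, Subgroup.mul_mem _ (Subgroup.inv_mem _ hk) hg, p, hp, by group⟩
    have htop : MulAction.stabilizer G a ⊔ Q = ⊤ := by
      refine hco.2 _ (lt_of_le_of_ne le_sup_left fun h => hP ?_)
      rw [Subgroup.eq_bot_iff_forall]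
      intro p hp
      refine hsemi p hp.1 ?_
      have : p ∈ MulAction.stabilizer G a := h.ge (Subgroup.mem_sup_right
        (Subgroup.subset_closure ⟨1, Subgroup.one_mem _, p, hp, by simp⟩))
      exact this
    have hPM : ∀ m ∈ M, m ∈ P := by
      intro m hm
      have h1 : m ∈ ((MulAction.stabilizer G a ⊔ Q : Subgroup G) : Set G) := by
        rw [htop]; trivial
      rw [Subgroup.coe_mul_of_left_le_normalizer_right _ _ hQn] at h1
      obtain ⟨h, hh, q, hq, he⟩ := Set.mem_mul.1 h1
      have hqR : q ∈ R := hQR hq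
      have hqN : q ∈ N := by
        obtain ⟨u, hu, c, hc, rfl⟩ := hqR
        exact N.mul_mem (hF.le hu.1) (hF.others_le hc)
      have hhN : h ∈ N := by
        rw [show h = m * q⁻¹ by rw [← he, mul_inv_cancel_right]]
        exact N.mul_mem (hF.le hm) (N.inv_mem hqN)
      obtain ⟨u, hu, c, hc, hhe⟩ := hF.decomp h hhN
      have hhR : h ∈ R := ⟨u, ⟨hu, c, hc, hhe ▸ hh⟩, c, hc, hhe⟩
      obtain ⟨v, hv, d, hd, hmd⟩ : m ∈ R := he ▸ R.mul_mem hhR hqR
      have := hF.uniq hm (others M).one_mem hv.1 hd (by rw [mul_one]; exact hmd)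
      exact this ▸ hv
    refine false_of_semiregular hF a (MulAction.stabilizer G a ⊓ N) inf_le_left ?_ ?_ ?_ hsemi hmax hmov
    · intro g hg j hj
      exact ⟨Subgroup.mul_mem _ (Subgroup.mul_mem _ hg hj.1) (Subgroup.inv_mem _ hg),
        hN.conj_mem j hj.2 g⟩
    · intro j hj
      obtain ⟨m, hm, c, hc, rfl⟩ := hF.decomp j hj.2
      exact ⟨m, hm, fun y hy => hF.conj_eq hc hy⟩
    · intro m hm
      obtain ⟨-, c, hc, hmc⟩ := hPM m hm
      exact ⟨m * c, ⟨hmc, N.mul_mem (hF.le hm) (hF.others_le hc)⟩, fun y hy => hF.conj_eq hc hy⟩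

end


/-- An extremely primitive permutation group is of affine type or almost simple. Let a finite group G act faithfully and primitively on a finite set Ω with at least two points, in such a way that every point stabilizer acts primitively on each of its own orbits in Ω (an orbit of size one counts as primitive). Then either G has a non-trivial abelian normal subgroup whose elements other than the identity fix no point (affine type), or G has a non-abelian simple normal subgroup with trivial centralizer (almost simple). -/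
theorem result {G : Type*} [Group G] [Finite G] {Ω : Type*} [Fintype Ω] [MulAction G Ω] [FaithfulSMul G Ω] (hΩ : 2 ≤ Fintype.card Ω) (hprim : MulAction.IsPreprimitive G Ω) (hep : ∀ (α : Ω) (ω : Ω), MulAction.IsPreprimitive (MulAction.stabilizer G α) (MulAction.orbit (MulAction.stabilizer G α) ω)) :
    (∃ N : Subgroup G, N.Normal ∧ N ≠ ⊥ ∧ IsMulCommutative N ∧ ∀ ω : Ω, MulAction.stabilizer N ω = ⊥) ∨ (∃ T : Subgroup G, T.Normal ∧ IsSimpleGroup T ∧ ¬ IsMulCommutative T ∧ Subgroup.centralizer (T : Set G) = ⊥) := by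
  classical
  have : Nontrivial Ω := Fintype.one_lt_card_iff_nontrivial.1 (by omega)
  have : Nontrivial G := by
    by_contra hnt
    rw [not_nontrivial_iff_subsingleton] at hnt
    obtain ⟨x, y, hxy⟩ := exists_pair_ne Ω
    obtain ⟨g, hg⟩ := MulAction.exists_smul_eq G x y
    rw [Subsingleton.elim g 1, one_smul] at hg
    exact hxy hg
  obtain ⟨N, hN, hN1, hmin⟩ := Lib.Cores.MinNormal.exists_minimal (G := G)
  have hNt : MulAction.IsPretransitive N Ω := normal_transitive hN hN1
  by_cases hab : IsMulCommutative N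
  · refine Or.inl ⟨N, hN, hN1, hab, fun b => ?_⟩
    rw [Subgroup.eq_bot_iff_forall]
    intro x hx
    have hfix : ∀ c : Ω, (x : G) • c = c := by
      intro c
      obtain ⟨y, rfl⟩ := MulAction.exists_smul_eq N b c
      have hxb : x • b = b := hx
      change x • y • b = y • b
      rw [smul_smul, mul_comm' x y, ← smul_smul, hxb]
    exact Subtype.ext (FaithfulSMul.eq_of_smul_eq_smul (α := Ω) (by simpa using hfix))
  right
  have hNZ : N ⊓ Subgroup.centralizer (N : Set G) = ⊥ := by
    refine (hmin (N ⊓ Subgroup.centralizer (N : Set G))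
      ⟨fun x hx g => ⟨hN.conj_mem x hx.1 g, (centralizer_normal hN).conj_mem x hx.2 g⟩⟩
      inf_le_left).resolve_right fun h => hab ?_
    refine ⟨⟨fun x y => Subtype.ext ?_⟩⟩
    exact Subgroup.mem_centralizer_iff.1 ((inf_eq_left.1 h) y.2) x x.2
  obtain ⟨M, hF⟩ := exists_factor hN hN1 hmin hNZ
  obtain ⟨a⟩ : Nonempty Ω := inferInstance
  have hco : IsCoatom (MulAction.stabilizer G a) :=
    MulAction.IsPreprimitive.isCoatom_stabilizer_of_isPreprimitive G a
  have htrans : ∀ b : Ω, ∃ g : G, g • a = b := fun b => MulAction.exists_smul_eq G a b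
  have hmov : ∀ b : Ω, b ≠ a → ¬ MulAction.stabilizer G a ≤ MulAction.stabilizer G b := by
    intro b hb hle
    obtain ⟨g, rfl⟩ := htrans b
    have hga : g ∉ MulAction.stabilizer G a := hb
    have hn : MulAction.stabilizer G a < Subgroup.normalizer (MulAction.stabilizer G a : Set G) := by
      refine lt_of_le_of_ne Subgroup.le_normalizer fun h => hga (h.ge ?_)
      refine mem_normalizer_iff_cj.2 ?_
      have e : cj (MulAction.stabilizer G a) g = MulAction.stabilizer G (g • a) :=
        (MulAction.stabilizer_smul_eq_stabilizer_map_conj g a).symm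
      rw [e]
      refine (Subgroup.eq_of_le_of_card_ge hle (le_of_eq ?_)).symm
      rw [← e]
      exact (Nat.card_congr (Subgroup.equivMapOfInjective _ _ (MulAut.conj g).injective).toEquiv).symm
    have hAn : (MulAction.stabilizer G a).Normal := Subgroup.normalizer_eq_top_iff.1 (hco.2 _ hn)
    have hA : MulAction.stabilizer G a = ⊥ := by
      rw [Subgroup.eq_bot_iff_forall]
      intro z hz
      refine FaithfulSMul.eq_of_smul_eq_smul (α := Ω) fun c => ?_
      obtain ⟨k, rfl⟩ := htrans c
      have h1 : (k⁻¹ * z * k) • a = a := by simpa using hAn.conj_mem z hz k⁻¹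
      rw [mul_smul, mul_smul, inv_smul_eq_iff] at h1
      rw [h1, one_smul]
    refine hab ⟨⟨fun x y => ?_⟩⟩
    by_cases hx : (x : G) = 1
    · have hx' : x = 1 := Subtype.ext hx
      rw [hx', one_mul, mul_one]
    have htop : Subgroup.zpowers (x : G) = ⊤ := hco.2 _ (by
      rw [hA, bot_lt_iff_ne_bot, Ne, Subgroup.zpowers_eq_bot]; exact hx)
    obtain ⟨i, hi⟩ := Subgroup.mem_zpowers_iff.1 (htop ▸ Subgroup.mem_top (y : G))
    apply Subtype.ext
    show (x : G) * (y : G) = (y : G) * (x : G)
    rw [← hi]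
    exact ((Commute.refl (x : G)).zpow_right i).eq
  have hmax : ∀ b : Ω, b ≠ a → ∀ U : Subgroup G, U ≤ MulAction.stabilizer G a →
      MulAction.stabilizer G a ⊓ MulAction.stabilizer G b ≤ U →
      U = MulAction.stabilizer G a ⊓ MulAction.stabilizer G b ∨ U = MulAction.stabilizer G a := by
    intro b hb U hU hbU
    obtain ⟨g, hga, hgb⟩ := SetLike.not_le_iff_exists.1 (hmov b hb)
    have := hep a b
    have : Nontrivial (MulAction.orbit (MulAction.stabilizer G a) b) :=
      ⟨⟨b, MulAction.mem_orbit_self b⟩, ⟨_, MulAction.mem_orbit b ⟨g, hga⟩⟩,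
        fun h => hgb (MulAction.mem_stabilizer_iff.2 (congrArg Subtype.val h).symm)⟩
    have hc := MulAction.IsPreprimitive.isCoatom_stabilizer_of_isPreprimitive
      (MulAction.stabilizer G a)
      (⟨b, MulAction.mem_orbit_self b⟩ : MulAction.orbit (MulAction.stabilizer G a) b)
    rcases hc.le_iff.1 (show _ ≤ U.subgroupOf (MulAction.stabilizer G a) from fun s hs =>
      hbU ⟨s.2, (congrArg Subtype.val hs : _)⟩) with h | h
    · exact Or.inr (le_antisymm hU (Subgroup.subgroupOf_eq_top.1 h))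
    · refine Or.inl (le_antisymm (fun s hs => ⟨hU hs, ?_⟩) hbU)
      have h1 : (⟨s, hU hs⟩ : MulAction.stabilizer G a) ∈ U.subgroupOf (MulAction.stabilizer G a) := hs
      rw [h] at h1
      exact congrArg Subtype.val (MulAction.mem_stabilizer_iff.1 h1)
  by_cases hC : Subgroup.centralizer (N : Set G) = ⊥
  · by_cases hB : ∀ g ∈ MulAction.stabilizer G a, cj M g = M
    · -- a simple socle
      have hall : ∀ g, cj M g = M := fun g => by
        obtain ⟨k, hk, e⟩ := cj_decomp hN hF (a := a) hNt g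
        rw [e, hB k hk]
      have hoth : others M ≤ ⊥ :=
        (Subgroup.closure_le _).2 fun z ⟨g, hg, _⟩ => absurd (hall g) hg
      have hNM : N = M := le_antisymm (fun n hn => by
        obtain ⟨m, hm, c, hc, rfl⟩ := hF.decomp n hn
        rw [Subgroup.mem_bot.1 (hoth hc), mul_one]
        exact hm) hF.le
      refine ⟨N, hN, ?_, hab, hC⟩
      have : Nontrivial N := (Subgroup.nontrivial_iff_ne_bot N).2 hN1
      refine ⟨fun H hH => ?_⟩
      rcases hF.minimal (H.map N.subtype) ((Subgroup.map_subtype_le H).trans hNM.le) (fun n hn x hx => by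
        obtain ⟨y, hy, rfl⟩ := hx
        exact ⟨_, hH.conj_mem y hy ⟨n, hF.le hn⟩, rfl⟩) with h | h
      · exact Or.inl ((Subgroup.map_eq_bot_iff_of_injective _ N.subtype_injective).1 h)
      · right
        rw [← hNM] at h
        refine Subgroup.map_injective N.subtype_injective ?_
        rw [h, ← MonoidHom.range_eq_map, Subgroup.range_subtype]
    · exfalso
      by_cases hMA : ∃ z ∈ M, z • a = a ∧ z ≠ 1
      · exact false_of_meet hF hco htrans (cj_decomp hN hF hNt) hB hmax hMA
      · push Not at hMA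
        exact false_of_semiregular_factor hN hF hC hco hNt hB hMA hmax hmov
  · exfalso
    have hCn := centralizer_normal hN
    have hCt := normal_transitive (Ω := Ω) hCn hC
    have hsemi : ∀ x ∈ N, x • a = a → x = 1 := by
      intro x hx hxa
      refine FaithfulSMul.eq_of_smul_eq_smul (α := Ω) fun c => ?_
      obtain ⟨⟨y, hy⟩, rfl⟩ := hCt.exists_smul_eq a c
      rw [one_smul]
      change x • y • a = y • a
      rw [smul_smul, Subgroup.mem_centralizer_iff.1 hy x hx, ← smul_smul, hxa]
    refine false_of_semiregular hF a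
      (MulAction.stabilizer G a ⊓ (N ⊔ Subgroup.centralizer (N : Set G))) inf_le_left ?_ ?_ ?_
      (fun x hx => hsemi x (hF.le hx)) hmax hmov
    · intro g hg j hj
      have := hN
      have := hCn
      exact ⟨Subgroup.mul_mem _ (Subgroup.mul_mem _ hg hj.1) (Subgroup.inv_mem _ hg),
        (Subgroup.sup_normal N (Subgroup.centralizer (N : Set G))).conj_mem j hj.2 g⟩
    · intro j hj
      have := hN
      obtain ⟨n, hn, c, hc, rfl⟩ := Set.mem_mul.1
        ((Subgroup.normal_mul N (Subgroup.centralizer (N : Set G))) ▸ (hj.2 : j ∈ ((N ⊔ _ : Subgroup G) : Set G)))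
      obtain ⟨m, hm, d, hd, rfl⟩ := hF.decomp n hn
      refine ⟨m, hm, fun y hy => ?_⟩
      have h1 : c * y * c⁻¹ = y := by
        rw [← Subgroup.mem_centralizer_iff.1 hc y (hF.le hy), mul_inv_cancel_right]
      calc m * d * c * y * (m * d * c)⁻¹ = m * d * (c * y * c⁻¹) * (m * d)⁻¹ := by group
        _ = m * y * m⁻¹ := by rw [h1]; exact hF.conj_eq hd hy
    · intro m hm
      obtain ⟨⟨c, hc⟩, hca⟩ := hCt.exists_smul_eq a (m • a)
      change c • a = m • a at hca
      refine ⟨c⁻¹ * m, ⟨?_, ?_⟩, fun y hy => ?_⟩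
      · show (c⁻¹ * m) • a = a
        rw [mul_smul, ← hca, inv_smul_smul]
      · exact Subgroup.mul_mem _ (Subgroup.mem_sup_right (Subgroup.inv_mem _ hc))
          (Subgroup.mem_sup_left (hF.le hm))
      · have h1 := Subgroup.mem_centralizer_iff.1 hc (m * y * m⁻¹)
          (hF.le (M.mul_mem (M.mul_mem hm hy) (M.inv_mem hm)))
        calc c⁻¹ * m * y * (c⁻¹ * m)⁻¹ = c⁻¹ * (m * y * m⁻¹ * c) := by group
          _ = m * y * m⁻¹ := by rw [h1, inv_mul_cancel_left]


end Cfsg.Agent.S3493
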