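import Cfsg.Statements.S3494
import Cfsg.Agent.Lib.ExtPrim.Basic

set_option autoImplicit false
open Cfsg

namespace Cfsg.Agent.S3494
open scoped Pointwise

/-- Manning's Theorem on extremely primitive groups. Let a finite group G act faithfully and primitively on a finite set Ω with non-trivial point stabilizers, and suppose every point stabilizer G_α acts primitively on each of its orbits. Then G_α acts faithfully on each of its orbits other than {α}: an element of G_α fixing every point of one such orbit is the identity. -/
theorem result {G : Type*} [Group G] [Finite G] {Ω : Type*} [Fintype Ω] [MulAction G Ω] [FaithfulSMul G Ω] (hprim : MulAction.IsPreprimitive G Ω) (hH : ∀ α : Ω, MulAction.stabilizer G α ≠ ⊥) (hep : ∀ (α : Ω) (ω : Ω), MulAction.IsPreprimitive (MulAction.stabilizer G α) (MulAction.orbit (MulAction.stabilizer G α) ω))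
    (α ω : Ω) (hω : ω ≠ α) (h : MulAction.stabilizer G α) (hfix : ∀ x ∈ MulAction.orbit (MulAction.stabilizer G α) ω, h • x = x) : h = 1 := by
  let K : Subgroup G :=
    fixingSubgroup G (insert α (MulAction.orbit (MulAction.stabilizer G α) ω))
  have hle : K ≤ MulAction.stabilizer G α := fun g hg =>
    (mem_fixingSubgroup_iff G).1 hg α (Set.mem_insert _ _)
  have hfixω : K ≤ MulAction.stabilizer G ω := fun g hg =>
    (mem_fixingSubgroup_iff G).1 hg ω (Set.mem_insert_of_mem _ (MulAction.mem_orbit_self ω))
  have hn : MulAction.stabilizer G α ≤ Subgroup.normalizer (K : Set G) := by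
    rw [Subgroup.le_normalizer_iff]
    intro g hg k hk
    refine (mem_fixingSubgroup_iff G).2 fun y hy => ?_
    rcases hy with rfl | hy
    · exact (MulAction.stabilizer G y).mul_mem ((MulAction.stabilizer G y).mul_mem hg (hle hk))
        ((MulAction.stabilizer G y).inv_mem hg)
    · have hy' : g⁻¹ • y ∈ MulAction.orbit (MulAction.stabilizer G α) ω :=
        (MulAction.smul_orbit (⟨g, hg⟩ : MulAction.stabilizer G α)⁻¹ ω) ▸
          Set.smul_mem_smul_set (a := (⟨g, hg⟩ : MulAction.stabilizer G α)⁻¹) hy
      rw [mul_smul, mul_smul, (mem_fixingSubgroup_iff G).1 hk _ (Set.mem_insert_of_mem _ hy'),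
        smul_inv_smul]
  have hK := Lib.ExtPrim.Basic.eq_bot_of_fix hep hH hle hn hω hfixω
  have hmem : (h : G) ∈ K := by
    refine (mem_fixingSubgroup_iff G).2 fun y hy => ?_
    rcases hy with rfl | hy
    · exact h.2
    · exact hfix y hy
  rw [hK, Subgroup.mem_bot] at hmem
  exact Subtype.ext hmem

end Cfsg.Agent.S3494
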