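import Cfsg.Statements.S3495
import Cfsg.Agent.Lib.ExtPrim.Basic
import Cfsg.Agent.Lib.Perm.Basic

set_option autoImplicit false
open Cfsg

namespace Cfsg.Agent.S3495

/-- Let a finite group G act faithfully and primitively on a finite set Ω with non-trivial point stabilizers, each acting primitively on every one of its orbits (an extremely primitive group), and suppose G has an elementary abelian normal p-subgroup N acting regularly on Ω (affine type). Then every non-trivial subgroup M of a point stabilizer G_α that is normal in G_α has the same orbits on Ω as G_α, and normalizes no subgroup of N other than 1 and N. -/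
theorem result {G : Type*} [Group G] [Finite G] {Ω : Type*} [Fintype Ω] [MulAction G Ω] [FaithfulSMul G Ω] (hprim : MulAction.IsPreprimitive G Ω) (hH : ∀ α : Ω, MulAction.stabilizer G α ≠ ⊥) (hep : ∀ (α : Ω) (ω : Ω), MulAction.IsPreprimitive (MulAction.stabilizer G α) (MulAction.orbit (MulAction.stabilizer G α) ω))
    (N : Subgroup G) [N.Normal] (hNc : IsMulCommutative N) (p : ℕ) (hp : p.Prime) (hNp : ∀ n ∈ N, n ^ p = 1)
    (hNtr : MulAction.IsPretransitive N Ω) (hNreg : ∀ ω : Ω, MulAction.stabilizer N ω = ⊥) (α : Ω) (M : Subgroup G) (hM : M ≠ ⊥) (hMle : M ≤ MulAction.stabilizer G α)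
    (hMn : MulAction.stabilizer G α ≤ Subgroup.normalizer (M : Set G)) :
    (∀ ω : Ω, MulAction.orbit M ω = MulAction.orbit (MulAction.stabilizer G α) ω) ∧
    (∀ L : Subgroup G, L ≤ N → M ≤ Subgroup.normalizer (L : Set G) → L = ⊥ ∨ L = N) := by
  have horb : ∀ ω : Ω, MulAction.orbit M ω = MulAction.orbit (MulAction.stabilizer G α) ω :=
    fun ω => Lib.ExtPrim.Basic.orbit_eq hep hH hM hMle hMn ω
  refine ⟨horb, fun L hLN hML => ?_⟩
  have : Nontrivial Ω := Lib.ExtPrim.Basic.nontrivial_of_stabilizer_ne_bot (hH α)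
  have hinj : ∀ a ∈ N, ∀ b ∈ N, a • α = b • α → a = b := by
    intro a ha b hb hab
    have h1 : (⟨b⁻¹ * a, N.mul_mem (N.inv_mem hb) ha⟩ : N) ∈ MulAction.stabilizer N α := by
      show (b⁻¹ * a) • α = α
      rw [mul_smul, hab, inv_smul_smul]
    rw [hNreg α, Subgroup.mem_bot] at h1
    exact (inv_mul_eq_one.1 (congrArg Subtype.val h1)).symm
  have hfixed : ∀ h ∈ MulAction.stabilizer G α, ∀ n : G, (h * n * h⁻¹) • α = h • n • α := by
    intro h hh n
    rw [mul_smul, mul_smul, inv_smul_eq_iff.2 (MulAction.mem_stabilizer_iff.1 hh).symm]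
  have hLH : MulAction.stabilizer G α ≤ Subgroup.normalizer (L : Set G) := by
    rw [Subgroup.le_normalizer_iff]
    intro h hh l hl
    have hmem : h • l • α ∈ MulAction.orbit M (l • α) := by
      rw [horb]; exact ⟨⟨h, hh⟩, rfl⟩
    obtain ⟨⟨m, hm⟩, hml⟩ := hmem
    have hmN : m * l * m⁻¹ ∈ L := (Subgroup.mem_normalizer_iff.1 (hML hm) l).1 hl
    have : h * l * h⁻¹ = m * l * m⁻¹ := by
      refine hinj _ (Subgroup.Normal.conj_mem ‹_› l (hLN hl) h) _ (hLN hmN) ?_
      rw [hfixed h hh, hfixed m (hMle hm)]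
      exact hml.symm
    rw [this]; exact hmN
  rcases (MulAction.IsPreprimitive.isCoatom_stabilizer_of_isPreprimitive G α).le_iff.1
    (le_sup_right : MulAction.stabilizer G α ≤ L ⊔ MulAction.stabilizer G α) with h | h
  · right
    have hLnormal : L.Normal := by
      rw [← Subgroup.normalizer_eq_top_iff, ← top_le_iff, ← h]
      exact sup_le Subgroup.le_normalizer hLH
    by_cases hL : L = ⊥
    · rw [hL, bot_sup_eq] at h
      exact absurd h (MulAction.IsPreprimitive.isCoatom_stabilizer_of_isPreprimitive G α).1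
    have := Lib.Perm.Basic.isPretransitive_of_normal_ne_bot (α := Ω) L hL
    refine le_antisymm hLN fun n hn => ?_
    obtain ⟨⟨l, hl⟩, hla⟩ := MulAction.exists_smul_eq L α (n • α)
    rw [hinj n hn l (hLN hl) hla.symm]; exact hl
  · left
    refine (Subgroup.eq_bot_iff_forall _).2 fun l hl => hinj l (hLN hl) 1 N.one_mem ?_
    rw [one_smul]
    have hle : L ≤ MulAction.stabilizer G α := h ▸ le_sup_left
    exact hle hl

end Cfsg.Agent.S3495
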