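import Cfsg.Statements.S3496
import Cfsg.Agent.Lib.ExtPrim.Suborbit
import Cfsg.Agent.Lib.ExtPrim.EndField
import Cfsg.Agent.Lib.Cores.MinNormal
import Cfsg.Agent.Lib.Perm.Basic
import Cfsg.Agent.S3495

set_option autoImplicit false
open Cfsg

namespace Cfsg.Agent.S3496

/-- The subgroup of a group corresponding to an additive subgroup of its additive copy. -/
def addToSub {K : Type*} [Group K] (B : AddSubgroup (Additive K)) : _root_.Subgroup K where
  carrier := {k | Additive.ofMul k ∈ B}
  one_mem' := B.zero_mem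
  mul_mem' := fun ha hb => B.add_mem ha hb
  inv_mem' := fun ha => B.neg_mem ha

/-- The soluble extremely primitive groups. Let a finite solvable group G act faithfully and primitively on a finite set Ω with p ^ d points (p prime), with non-trivial point stabilizers each acting primitively on every one of its orbits. Then there is a prime q such that every orbit of a point stabilizer G_α other than {α} has exactly q points, q divides p ^ d − 1 but no p ^ i − 1 with 0 < i < d, and G_α has a normal subgroup T of order q with G_α generated by T and one further element and the order of G_α dividing q·d (so G_α is cyclic of order q, or an extension of T by a cyclic group of order dividing d). -/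
theorem result {G : Type*} [Group G] [Finite G] {Ω : Type*} [Fintype Ω] [MulAction G Ω] [FaithfulSMul G Ω] [Group.IsSolvable G] (p d : ℕ) (hp : p.Prime) (hcard : Fintype.card Ω = p ^ d)
    (hprim : MulAction.IsPreprimitive G Ω) (hH : ∀ α : Ω, MulAction.stabilizer G α ≠ ⊥) (hep : ∀ (α : Ω) (ω : Ω), MulAction.IsPreprimitive (MulAction.stabilizer G α) (MulAction.orbit (MulAction.stabilizer G α) ω)) (α : Ω) :
    ∃ q : ℕ, q.Prime ∧ (∀ ω : Ω, ω ≠ α → Nat.card (MulAction.orbit (MulAction.stabilizer G α) ω) = q) ∧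
      q ∣ p ^ d - 1 ∧ (∀ i : ℕ, 0 < i → i < d → ¬ q ∣ p ^ i - 1) ∧
      ∃ T : Subgroup G, T ≤ MulAction.stabilizer G α ∧ MulAction.stabilizer G α ≤ Subgroup.normalizer (T : Set G) ∧ Nat.card T = q ∧
        (∃ h : G, MulAction.stabilizer G α = T ⊔ Subgroup.zpowers h) ∧ Nat.card (MulAction.stabilizer G α) ∣ q * d := by
  have hnt := Lib.ExtPrim.Basic.nontrivial_of_stabilizer_ne_bot (hH α)
  haveI hGnt : Nontrivial G := by
    refine not_subsingleton_iff_nontrivial.1 fun hs => hH α ?_
    exact Subsingleton.elim _ _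
  obtain ⟨N, hNn, hN, hNmin⟩ := Lib.Cores.MinNormal.exists_minimal (G := G)
  obtain ⟨hNc, r, hr, hNr⟩ := Lib.Cores.MinNormal.elementary_of_solvable hN hNmin
  haveI := Lib.Perm.Basic.isPretransitive_of_normal_ne_bot (α := Ω) N hN
  have hNreg : ∀ ω : Ω, MulAction.stabilizer N ω = ⊥ :=
    fun ω => Lib.Perm.Basic.stabilizer_eq_bot_of_comm_transitive N hNc ω
  have hNcard : Nat.card N = p ^ d := by
    rw [Lib.Perm.Basic.card_eq_of_regular α (hNreg α), Nat.card_eq_fintype_card, hcard]
  have hd : d ≠ 0 := by
    rintro rfl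
    have h1 := Fintype.one_lt_card (α := Ω)
    rw [hcard, pow_zero] at h1
    omega
  haveI : Fact p.Prime := ⟨hp⟩
  haveI : Fact r.Prime := ⟨hr⟩
  have hrp : r = p := by
    obtain ⟨e, he⟩ := (Lib.Cores.MinNormal.isPGroup_of_pow_eq_one hNr).exists_card_eq
    have h1 : p ∣ r ^ e := by rw [← he, hNcard]; exact dvd_pow_self p hd
    exact ((Nat.prime_dvd_prime_iff_eq hp hr).1 (hp.dvd_of_dvd_pow h1)).symm
  subst hrp
  set H := MulAction.stabilizer G α with hHdef
  haveI : Nontrivial H := (Subgroup.nontrivial_iff_ne_bot H).2 (hH α)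
  obtain ⟨W, hWn, hW, hWmin⟩ := Lib.Cores.MinNormal.exists_minimal (G := H)
  obtain ⟨hWc, q, hq, hWq⟩ := Lib.Cores.MinNormal.elementary_of_solvable hW hWmin
  let V : Subgroup G := W.map H.subtype
  have hV : V ≠ ⊥ := fun h => hW ((Subgroup.map_eq_bot_iff_of_injective _ H.subtype_injective).1 h)
  have hVle : V ≤ H := Subgroup.map_subtype_le _
  have hVn : H ≤ Subgroup.normalizer (V : Set G) := Lib.ExtPrim.Suborbit.le_normalizer_map_subtype H W
  have hVab : ∀ a ∈ V, ∀ b ∈ V, a * b = b * a := by
    rintro _ ⟨a, ha, rfl⟩ _ ⟨b, hb, rfl⟩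
    exact congrArg (fun z : W => ((z : H) : G)) (mul_comm' (⟨a, ha⟩ : W) ⟨b, hb⟩)
  have h3495 := S3495.result hprim hH hep N hNc r hp hNr inferInstance hNreg α V hV hVle hVn
  let hcg : CommGroup N := { (inferInstance : Group N) with mul_comm := fun a b => mul_comm' a b }
  let ρ : H →* AddMonoid.End (Additive N) :=
    { toFun := fun c => (MulAut.conjNormal (c : G) : MulAut N).toMonoidHom.toAdditive
      map_one' := AddMonoidHom.ext fun x => by
        show Additive.ofMul ((MulAut.conjNormal ((1 : H) : G) : MulAut N) (Additive.toMul x)) = x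
        simp
      map_mul' := fun a c => AddMonoidHom.ext fun x => by
        show Additive.ofMul ((MulAut.conjNormal ((a * c : H) : G) : MulAut N) (Additive.toMul x)) =
          Additive.ofMul ((MulAut.conjNormal (a : G) : MulAut N)
            ((MulAut.conjNormal (c : G) : MulAut N) (Additive.toMul x)))
        simp }
  have hρ : Function.Injective ρ := by
    refine (injective_iff_map_eq_one ρ).2 fun c hc => Subtype.ext ?_
    refine Lib.Perm.Basic.eq_one_of_commute_transitive N (fun t ht => ?_) (a := α) c.2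
    have h2 : (c : G) * t * (c : G)⁻¹ = t :=
      congrArg (fun z => ((Additive.toMul z : N) : G)) (DFunLike.congr_fun hc (Additive.ofMul (⟨t, ht⟩ : N)))
    exact (mul_inv_eq_iff_eq_mul.1 h2).symm
  haveI : Nontrivial N := (Subgroup.nontrivial_iff_ne_bot N).2 hN
  obtain ⟨ω₀, hω₀⟩ := exists_ne α
  obtain ⟨hWcard, hqd, hprim', h, hgen, hHcard⟩ := Lib.ExtPrim.EndField.semilinear (A := Additive N) r d q hq
    hNcard (fun a => congrArg Additive.ofMul
      (Subtype.ext (by simpa using hNr _ (Additive.toMul a).2) : (Additive.toMul a : N) ^ r = 1))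
    ρ hρ W hW (fun a b => mul_comm' a b) (fun a => Subtype.ext (by simpa using hWq a a.2))
    (fun c hc => by
      obtain ⟨w, hw, hwc⟩ := Lib.ExtPrim.Suborbit.centralizer_le hep hH hω₀ hV hVle hVn hVab c.2
        (by rintro _ ⟨v, hv, rfl⟩; exact congrArg Subtype.val (hc v hv))
      exact (Subtype.ext hwc : w = c) ▸ hw)
    (fun B hB => by
      let L : Subgroup G := (addToSub B).map N.subtype
      have hL : V ≤ Subgroup.normalizer (L : Set G) := by
        rw [Subgroup.le_normalizer_iff]
        rintro _ ⟨w, hw, rfl⟩ _ ⟨n, hn, rfl⟩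
        exact ⟨(MulAut.conjNormal (w : G) : MulAut N) n, hB ⟨w, hw⟩ (Additive.ofMul n) hn, rfl⟩
      rcases h3495.2 L (Subgroup.map_subtype_le _) hL with h | h
      · left
        refine (AddSubgroup.eq_bot_iff_forall _).2 fun x hx => ?_
        have : ((Additive.toMul x : N) : G) ∈ L := ⟨Additive.toMul x, hx, rfl⟩
        rw [h, Subgroup.mem_bot] at this
        exact congrArg Additive.ofMul (Subtype.ext this : (Additive.toMul x : N) = 1)
      · right
        refine (AddSubgroup.eq_top_iff' _).2 fun x => ?_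
        have hxL : ((Additive.toMul x : N) : G) ∈ L := by rw [h]; exact (Additive.toMul x).2
        obtain ⟨n, hn, hnx⟩ := hxL
        have hnx' : n = Additive.toMul x := Subtype.ext hnx
        subst hnx'
        exact hn)
  have hVcard : Nat.card V = q := by rw [Subgroup.card_map_of_injective H.subtype_injective, hWcard]
  refine ⟨q, hq, fun ω hω => ?_, hqd, hprim', V, hVle, hVn, hVcard, ⟨h, ?_⟩, hHcard⟩
  · rw [Lib.ExtPrim.Suborbit.card_orbit_eq hep hH hω hV hVle hVn hVab, hVcard]
  · apply le_antisymm
    · intro x hx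
      obtain ⟨i, hi⟩ := hgen ⟨x, hx⟩
      have h1 : x * ((h : G) ^ i)⁻¹ ∈ V := ⟨_, hi, by simp⟩
      have h2 : x = x * ((h : G) ^ i)⁻¹ * (h : G) ^ i := by group
      rw [h2]
      exact Subgroup.mul_mem_sup h1 (Subgroup.zpow_mem _ (Subgroup.mem_zpowers _) i)
    · exact sup_le hVle (Subgroup.zpowers_le.2 h.2)

end Cfsg.Agent.S3496
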