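import Cfsg.Statements.S3497
import Cfsg.Agent.Lib.ExtPrim.Suborbit
import Cfsg.Agent.Lib.Cores.Basic
import Cfsg.Agent.Lib.Cores.MinNormal

set_option autoImplicit false
open Cfsg

namespace Cfsg.Agent.S3497

/-- An action on a `ZMod p`-module of size `p^e` as a linear representation. -/
theorem exists_hom_GL_module {K : Type*} [Group K] (p e : ℕ) [Fact p.Prime] (V : Type*)
    [AddCommGroup V] [Module (ZMod p) V] [Finite V] (he : Nat.card V = p ^ e)
    (T : K →* AddMonoid.End V) :
    ∃ φ : K →* GL (Fin e) (ZMod p), ∀ c : K, φ c = 1 ↔ ∀ v, T c v = v := by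
  have hrank : Module.finrank (ZMod p) V = e := by
    have h : Nat.card V = Nat.card (ZMod p) ^ Module.finrank (ZMod p) V := Module.natCard_eq_pow_finrank
    rw [Nat.card_zmod, he] at h
    exact (Nat.pow_right_injective (Fact.out : p.Prime).two_le h).symm
  let f := LinearMap.toMatrixAlgEquiv (Module.finBasisOfFinrankEq (ZMod p) V hrank)
  let L : K →* Module.End (ZMod p) V :=
    { toFun := fun c => AddMonoidHom.toZModLinearMap p (T c)
      map_one' := LinearMap.ext fun x => by
        show T 1 x = x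
        rw [map_one]; rfl
      map_mul' := fun a c => LinearMap.ext fun x => by
        show T (a * c) x = T a (T c x)
        rw [map_mul]; rfl }
  refine ⟨(Units.map f.toAlgHom.toRingHom.toMonoidHom).comp L.toHomUnits, fun c => ?_⟩
  rw [← Units.val_eq_one]
  show f (L c) = 1 ↔ _
  rw [← map_one f, EmbeddingLike.apply_eq_iff_eq]
  exact ⟨fun h v => LinearMap.congr_fun h v, fun h => LinearMap.ext h⟩

/-- Conjugation on a normal elementary abelian subgroup as a linear representation. -/
theorem exists_hom_GL {K : Type*} [Group K] [Finite K] (p e : ℕ) [Fact p.Prime] (F : Subgroup K)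
    [F.Normal] [IsMulCommutative F] (he : Nat.card F = p ^ e) (hexp : ∀ x ∈ F, x ^ p = 1) :
    ∃ φ : K →* GL (Fin e) (ZMod p), ∀ c : K, φ c = 1 ↔ ∀ v ∈ F, c * v = v * c := by
  let hcg : CommGroup F := { (inferInstance : Group F) with mul_comm := fun a b => mul_comm' a b }
  have hz : ∀ x : Additive F, p • x = 0 := fun x => by
    have h : (Additive.toMul x : F) ^ p = 1 := Subtype.ext (by simpa using hexp _ (Additive.toMul x).2)
    exact congrArg Additive.ofMul h
  let T : K →* AddMonoid.End (Additive F) :=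
    { toFun := fun c => (MulAut.conjNormal c : MulAut F).toMonoidHom.toAdditive
      map_one' := AddMonoidHom.ext fun x => by
        show Additive.ofMul ((MulAut.conjNormal (1 : K) : MulAut F) (Additive.toMul x)) = x
        simp
      map_mul' := fun a c => AddMonoidHom.ext fun x => by
        show Additive.ofMul ((MulAut.conjNormal (a * c) : MulAut F) (Additive.toMul x)) =
          Additive.ofMul ((MulAut.conjNormal a : MulAut F) ((MulAut.conjNormal c : MulAut F) (Additive.toMul x)))
        simp }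
  obtain ⟨φ, hφ⟩ := @exists_hom_GL_module K _ p e _ (Additive F) _ (AddCommGroup.zmodModule hz) _ he T
  refine ⟨φ, fun c => (hφ c).trans ⟨fun h v hv => ?_, fun h x => ?_⟩⟩
  · have h2 : c * v * c⁻¹ = v :=
      congrArg (fun z => ((Additive.toMul z : F) : K)) (h (Additive.ofMul ⟨v, hv⟩))
    exact mul_inv_eq_iff_eq_mul.1 h2
  · refine congrArg Additive.ofMul (Subtype.ext ?_)
    show c * (Additive.toMul x : F) * c⁻¹ = (Additive.toMul x : F)
    rw [h _ (Additive.toMul x).2, mul_inv_cancel_right]

/-- Restrictions on the point stabilizer of an extremely primitive group. Let a finite group G act faithfully and primitively on a finite set Ω with point stabilizers H = G_α whose order is neither 1 nor a prime, each acting primitively on every one of its orbits. Then H has trivial center, the Fitting subgroup F(H) is an elementary abelian p-group for some prime p, and if F(H) ≠ 1 has order p ^ e then p ^ e divides the number of points minus one and H / F(H) embeds in GL_e(p) (there is a homomorphism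 from H to GL_e(p) with kernel exactly F(H)). -/
theorem result {G : Type*} [Group G] [Finite G] {Ω : Type*} [Fintype Ω] [MulAction G Ω] [FaithfulSMul G Ω] (hprim : MulAction.IsPreprimitive G Ω) (hep : ∀ (α : Ω) (ω : Ω), MulAction.IsPreprimitive (MulAction.stabilizer G α) (MulAction.orbit (MulAction.stabilizer G α) ω)) (α : Ω)
    (hH1 : MulAction.stabilizer G α ≠ ⊥) (hHp : ¬ (Nat.card (MulAction.stabilizer G α)).Prime) :
    Subgroup.center (MulAction.stabilizer G α) = ⊥ ∧
    IsMulCommutative (Cfsg.fittingSubgroup (MulAction.stabilizer G α)) ∧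
    ∃ p e : ℕ, p.Prime ∧ Nat.card (Cfsg.fittingSubgroup (MulAction.stabilizer G α)) = p ^ e ∧
      (∀ x ∈ Cfsg.fittingSubgroup (MulAction.stabilizer G α), x ^ p = 1) ∧
      (Cfsg.fittingSubgroup (MulAction.stabilizer G α) ≠ ⊥ →
        p ^ e ∣ Fintype.card Ω - 1 ∧
        ∃ φ : MulAction.stabilizer G α →* GL (Fin e) (ZMod p), φ.ker = Cfsg.fittingSubgroup (MulAction.stabilizer G α)) := by
  have hnt := Lib.ExtPrim.Basic.nontrivial_of_stabilizer_ne_bot hH1
  have hH : ∀ β : Ω, MulAction.stabilizer G β ≠ ⊥ := fun β hb => hH1 (by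
    obtain ⟨g, hg⟩ := MulAction.exists_smul_eq G β α
    rw [← hg, MulAction.stabilizer_smul_eq_stabilizer_map_conj, hb, Subgroup.map_bot])
  obtain ⟨ω, hω⟩ := exists_ne α
  refine ⟨?_, ?_⟩
  · by_contra hZ
    exact hHp (Lib.ExtPrim.Suborbit.prime_card_of_center_ne_bot hep hH hZ)
  set H := MulAction.stabilizer G α with hHdef
  set F := Cfsg.fittingSubgroup H with hFdef
  haveI : F.Characteristic := Lib.Cores.fittingSubgroup_characteristic
  -- abelian normal subgroups of `H` are self-centralising
  have hself : ∀ V : Subgroup H, V.Normal → V ≠ ⊥ → IsMulCommutative V →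
      ∀ c : H, (∀ v ∈ V, c * v = v * c) → c ∈ V := by
    intro V hVn hV hVc c hc
    have hn : H ≤ Subgroup.normalizer (V.map H.subtype : Set G) := by
      rw [Subgroup.le_normalizer_iff]
      rintro g hg _ ⟨v, hv, rfl⟩
      exact ⟨_, hVn.conj_mem v hv ⟨g, hg⟩, rfl⟩
    have hmem : (c : G) ∈ V.map H.subtype := by
      refine Lib.ExtPrim.Suborbit.centralizer_le hep hH hω
        (fun h => hV ((Subgroup.map_eq_bot_iff_of_injective _ H.subtype_injective).1 h))
        (Subgroup.map_subtype_le _) hn ?_ c.2 ?_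
      · rintro _ ⟨a, ha, rfl⟩ _ ⟨b, hb, rfl⟩
        exact congrArg (fun z : V => ((z : H) : G)) (mul_comm' (⟨a, ha⟩ : V) ⟨b, hb⟩)
      · rintro _ ⟨v, hv, rfl⟩
        exact congrArg Subtype.val (hc v hv)
    obtain ⟨v, hv, hvc⟩ := hmem
    exact (Subtype.ext hvc : v = c) ▸ hv
  by_cases hF : F = ⊥
  · haveI : Subsingleton F := by rw [hF]; infer_instance
    refine ⟨⟨⟨fun a b => Subsingleton.elim _ _⟩⟩, 2, 0, Nat.prime_two, ?_, ?_, fun h => absurd hF h⟩
    · rw [hF, Subgroup.card_bot, pow_zero]
    · intro x hx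
      rw [hF, Subgroup.mem_bot] at hx
      simp [hx]
  haveI hFnil : Group.IsNilpotent F := Lib.Cores.fittingSubgroup_isNilpotent
  haveI : Nontrivial F := (Subgroup.nontrivial_iff_ne_bot F).2 hF
  haveI hFn : F.Normal := inferInstance
  let Z : Subgroup H := (Subgroup.center F).map F.subtype
  haveI hZn : Z.Normal := inferInstance
  have hZ : Z ≠ ⊥ := fun h => by
    have h' := (Subgroup.map_eq_bot_iff_of_injective _ F.subtype_injective).1 h
    exact (Group.IsNilpotent.center_ne_bot (G := F)) h'
  have hFc : ∀ a ∈ F, ∀ b ∈ F, a * b = b * a := by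
    have hZc : IsMulCommutative Z := ⟨⟨by
      rintro ⟨_, a, ha, rfl⟩ ⟨_, b, hb, rfl⟩
      exact Subtype.ext (congrArg Subtype.val (Subgroup.mem_center_iff.1 hb a) : ((a : H)) * b = b * a)⟩⟩
    intro a ha b hb
    have hbZ : b ∈ Z := hself Z hZn hZ hZc b (by
      rintro _ ⟨z, hz, rfl⟩
      exact congrArg Subtype.val (Subgroup.mem_center_iff.1 hz ⟨b, hb⟩))
    obtain ⟨z, hz, rfl⟩ := hbZ
    exact congrArg Subtype.val (Subgroup.mem_center_iff.1 hz ⟨a, ha⟩)
  haveI hFcomm : IsMulCommutative F := ⟨⟨fun a b => Subtype.ext (hFc a a.2 b b.2)⟩⟩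
  refine ⟨hFcomm, ?_⟩
  obtain ⟨V, hVn, hVF, hV, hVmin⟩ := Lib.Cores.MinNormal.exists_minimal_le hF
  haveI hVc : IsMulCommutative V :=
    ⟨⟨fun a b => Subtype.ext (hFc a (hVF a.2) b (hVF b.2))⟩⟩
  have hFV : F = V := le_antisymm (fun f hf => hself V hVn hV hVc f
    fun v hv => hFc f hf v (hVF hv)) hVF
  obtain ⟨p, hp, hexp⟩ := Lib.Cores.MinNormal.exists_prime_pow_eq_one hV hVmin
  rw [← hFV] at hexp
  haveI : Fact p.Prime := ⟨hp⟩
  obtain ⟨e, he⟩ := (Lib.Cores.MinNormal.isPGroup_of_pow_eq_one hexp).exists_card_eq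
  refine ⟨p, e, hp, he, hexp, fun _ => ⟨?_, ?_⟩⟩
  · have h := Lib.ExtPrim.Suborbit.card_dvd_card_sub_one hep hH (V := F.map H.subtype)
      (fun h => hF ((Subgroup.map_eq_bot_iff_of_injective _ H.subtype_injective).1 h))
      (Subgroup.map_subtype_le _) (Lib.ExtPrim.Suborbit.le_normalizer_map_subtype H F)
      (by rintro _ ⟨a, ha, rfl⟩ _ ⟨b, hb, rfl⟩
          exact congrArg Subtype.val (hFc a ha b hb))
    rw [Subgroup.card_map_of_injective H.subtype_injective, he, Nat.card_eq_fintype_card] at h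
    exact h
  · obtain ⟨φ, hφ⟩ := exists_hom_GL p e F he hexp
    refine ⟨φ, ?_⟩
    ext c
    rw [MonoidHom.mem_ker, hφ]
    refine ⟨fun h => hFV ▸ hself V hVn hV hVc c fun v hv => h v (hFV.symm ▸ hv), fun hc v hv => hFc c hc v hv⟩

end Cfsg.Agent.S3497
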