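import Cfsg.Statements.S3498
import Mathlib
import Cfsg.Agent.Lib.Frobenius.Nilpotent

set_option autoImplicit false
open Cfsg

namespace Cfsg.Agent.S3498

/-- A maximal subgroup of a finite almost simple group does not have prime order. Here G is almost simple in the sense that it has a non-abelian simple normal subgroup T with trivial centralizer. -/
theorem result {G : Type*} [Group G] [Finite G] (T : Subgroup G) [T.Normal] (hT : IsSimpleGroup T) (hTc : ¬ IsMulCommutative T)
    (hC : Subgroup.centralizer (T : Set G) = ⊥) (H : Subgroup G) (hmax : IsCoatom H) : ¬ (Nat.card H).Prime := by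
  intro hr
  haveI := hT
  haveI : Fact (Nat.card H).Prime := ⟨hr⟩
  have hbot : ∀ K : Subgroup G, K ≤ H → K = ⊥ ∨ K = H := fun K hK => by
    rcases hr.eq_one_or_self_of_dvd _ (Subgroup.card_dvd_of_le hK) with h | h
    · exact Or.inl (Subgroup.card_eq_one.1 h)
    · exact Or.inr (Subgroup.eq_of_le_of_card_ge hK h.ge)
  obtain ⟨h, hh⟩ : ∃ h : H, h ≠ 1 := by
    haveI : Nontrivial H := Finite.one_lt_card_iff_nontrivial.1 hr.one_lt
    exact exists_ne 1
  have hhG : (h : G) ≠ 1 := fun e => hh (Subtype.ext e)
  have hTbot : T ≠ ⊥ := (Subgroup.nontrivial_iff_ne_bot T).1 inferInstance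
  haveI hcycH : IsCyclic H := isCyclic_of_prime_card (p := Nat.card H) rfl
  have hgen : ∀ x : H, ∃ i : ℤ, h ^ i = x := fun x =>
    Subgroup.mem_zpowers_iff.1 (mem_zpowers_of_prime_card (p := Nat.card H) rfl hh)
  have hTH : ¬ T ≤ H := fun hle => by
    rcases hbot T hle with e | e
    · exact hTbot e
    · subst e
      exact hTc IsCyclic.commutative
  have hsup : H ⊔ T = ⊤ := hmax.2 _ (lt_of_le_of_ne le_sup_left fun e => hTH (e ▸ le_sup_right))
  rcases hbot (H ⊓ T) inf_le_left with hint | hint
  · -- `H` acts without fixed points on `T`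
    let φ : T ≃* T := MulAut.conjNormal (h : G)
    have hfix : MonoidHom.FixedPointFree (φ : T →* T) := by
      intro t ht
      have htc : (h : G) * t * (h : G)⁻¹ = t :=
        (MulAut.conjNormal_apply (H := T) (h : G) t).symm.trans (congrArg Subtype.val ht)
      let C : Subgroup G := T ⊓ Subgroup.centralizer (H : Set G)
      have htC : (t : G) ∈ C := by
        refine ⟨t.2, Subgroup.mem_centralizer_iff.2 fun x hx => ?_⟩
        obtain ⟨i, hi⟩ := hgen ⟨x, hx⟩
        have hc : Commute (h : G) (t : G) := mul_inv_eq_iff_eq_mul.1 htc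
        have hx' : x = (h : G) ^ i := by simpa using (congrArg Subtype.val hi).symm
        rw [hx']
        exact hc.zpow_left i
      have hnorm : C ≤ Subgroup.normalizer (H : Set G) :=
        inf_le_right.trans (Subgroup.centralizer_le_normalizer _)
      rcases eq_or_ne (H ⊔ C) H with e | e
      · have h1 : (t : G) ∈ H ⊓ T := ⟨e ▸ Subgroup.mem_sup_right htC, t.2⟩
        rw [hint, Subgroup.mem_bot] at h1
        exact Subtype.ext h1
      · exfalso
        have htop : H ⊔ C = ⊤ := hmax.2 _ (lt_of_le_of_ne le_sup_left (Ne.symm e))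
        have hle : (T : Set G) ⊆ Subgroup.centralizer (H : Set G) := by
          intro x hx
          have hx' : x ∈ ((H ⊔ C : Subgroup G) : Set G) := by rw [htop]; trivial
          rw [sup_comm, Subgroup.coe_mul_of_left_le_normalizer_right C H hnorm] at hx'
          obtain ⟨c, hc, a, ha, rfl⟩ := hx'
          have ha1 : a ∈ H ⊓ T := ⟨ha, by
            have := T.mul_mem (T.inv_mem hc.1) hx
            simpa using this⟩
          rw [hint, Subgroup.mem_bot] at ha1
          rw [ha1]
          simpa using hc.2
        have : (h : G) ∈ Subgroup.centralizer (T : Set G) :=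
          Subgroup.mem_centralizer_iff.2 fun x hx =>
            (Subgroup.mem_centralizer_iff.1 (hle hx) h h.2).symm
        rw [hC, Subgroup.mem_bot] at this
        exact hhG this
    have hper : ∀ x : T, (⇑φ)^[Nat.card H] x = x := by
      intro x
      have hp : (h : G) ^ Nat.card H = 1 := by
        rw [← SubmonoidClass.coe_pow, pow_card_eq_one']; rfl
      have e : (⇑φ)^[Nat.card H] x = (φ ^ Nat.card H) x := by
        generalize Nat.card H = n
        induction n with
        | zero => rfl
        | succ n ih => rw [Function.iterate_succ_apply', ih, pow_succ']; rfl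
      rw [e, show φ ^ Nat.card H = MulAut.conjNormal ((h : G) ^ Nat.card H) from (map_pow _ _ _).symm, hp,
        map_one]
      rfl
    have hnil := Cfsg.Agent.Lib.Frobenius.Nilpotent.isNilpotent_of_fixedPointFree hr φ hfix hper
    exact hTc ⟨⟨fun a b => (IsSimpleGroup.comm_iff_isSolvable.2
      (IsNilpotent.to_isSolvable : Group.IsSolvable T)) a b⟩⟩
  · -- `H ≤ T = ⊤`
    have hHT : H ≤ T := hint ▸ inf_le_right
    have hTtop : T = ⊤ := by rw [← hsup, sup_eq_right.2 hHT]
    have hN : Subgroup.normalizer (H : Set G) = H := by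
      refine le_antisymm (fun x hx => ?_) Subgroup.le_normalizer
      by_contra hxH
      have hlt : H < Subgroup.normalizer (H : Set G) :=
        lt_of_le_of_ne Subgroup.le_normalizer fun e => hxH (e ▸ hx)
      haveI : H.Normal := Subgroup.normalizer_eq_top_iff.1 (hmax.2 _ hlt)
      rcases Subgroup.Normal.eq_bot_or_eq_top (inferInstance : (H.subgroupOf T).Normal) with e | e
      · rw [Subgroup.subgroupOf_eq_bot, disjoint_iff, hint] at e
        exact hhG (by simpa [e] using h.2)
      · rw [Subgroup.subgroupOf_eq_top] at e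
        exact hTH e
    obtain ⟨P, hP⟩ := (IsPGroup.of_card (p := Nat.card H) (n := 1) (by rw [pow_one]) : IsPGroup (Nat.card H) H).exists_le_sylow
    have hPH : (P : Subgroup G) = H := by
      by_contra hne
      have hlt : H.subgroupOf P < ⊤ := lt_top_iff_ne_top.2 fun e =>
        hne (le_antisymm (Subgroup.subgroupOf_eq_top.1 e) hP)
      haveI := P.2.isNilpotent
      obtain ⟨x, hx, hx'⟩ := SetLike.exists_of_lt (normalizerCondition_of_isNilpotent _ hlt)
      apply hx'
      rw [Subgroup.mem_subgroupOf]
      rw [← Subgroup.subgroupOf_normalizer_eq hP] at hx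
      exact hN.le hx
    have hab : Subgroup.normalizer ((P : Subgroup G) : Set G) ≤ Subgroup.centralizer ((P : Subgroup G) : Set G) := by
      rw [hPH, hN]
      intro x hx
      exact Subgroup.mem_centralizer_iff.2 fun y hy =>
        haveI : IsMulCommutative H := IsCyclic.commutative
        congrArg Subtype.val (mul_comm' (⟨y, hy⟩ : H) ⟨x, hx⟩)
    have hc := MonoidHom.ker_transferSylow_isComplement' P hab
    haveI : Nontrivial G := ⟨⟨(h : G), 1, hhG⟩⟩
    haveI : IsSimpleGroup G :=
      IsSimpleGroup.isSimpleGroup_of_surjective (f := T.subtype)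
        (fun g => ⟨⟨g, hTtop ▸ Subgroup.mem_top g⟩, rfl⟩)
    rcases Subgroup.Normal.eq_bot_or_eq_top (inferInstance : (MonoidHom.transferSylow P hab).ker.Normal) with e | e
    · rw [e, Subgroup.isComplement'_bot_left, hPH] at hc
      exact hmax.1 hc
    · rw [e, Subgroup.isComplement'_top_left, hPH] at hc
      exact hhG (by simpa [hc] using h.2)

end Cfsg.Agent.S3498
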