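import Cfsg.Statements.S3501
import Cfsg.Agent.Lib.DerangeClasses.Affine

set_option autoImplicit false
open Cfsg

namespace Cfsg.Agent.S3501

/-- Let a finite group G act faithfully and primitively on a finite set Ω with at least two points, and suppose G is not almost simple (it has no non-abelian simple normal subgroup with trivial centralizer). Then the derangements of G form a single conjugacy class if and only if G is sharply 2-transitive (2-transitive, and no non-identity element fixes two points). -/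
theorem result {G : Type*} [Group G] [Finite G] {Ω : Type*} [Fintype Ω] [MulAction G Ω] [FaithfulSMul G Ω] (hΩ : 2 ≤ Fintype.card Ω) (hprim : MulAction.IsPreprimitive G Ω) (hnas : ¬ ∃ T : Subgroup G, T.Normal ∧ IsSimpleGroup T ∧ ¬ IsMulCommutative T ∧ Subgroup.centralizer (T : Set G) = ⊥) :
    Nat.card {c : ConjClasses G // ∃ g : G, ConjClasses.mk g = c ∧ ∀ ω : Ω, g • ω ≠ ω} = 1 ↔ (MulAction.IsMultiplyPretransitive G Ω 2 ∧ ∀ g : G, g ≠ 1 → ∀ a b : Ω, a ≠ b → g • a = a → g • b ≠ b) := by
  haveI : Nontrivial Ω := Fintype.one_lt_card_iff_nontrivial.1 hΩ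
  constructor
  · intro hκ
    have hconj : ∀ x y : G, (∀ ω : Ω, x • ω ≠ ω) → (∀ ω : Ω, y • ω ≠ ω) → IsConj x y :=
      fun x y hx hy => Lib.DerangeClasses.Affine.isConj_of_card_eq_one hκ hx hy
    obtain ⟨N, hNn, hN, hNc, hNtr, hreg⟩ := Lib.DerangeClasses.Socle.exists_abelian_normal (Ω := Ω)
      (fun x y z hx hy _ => Or.inl (hconj x y hx hy)) hnas
    have hder : ∀ n ∈ N, n ≠ 1 → ∀ ω : Ω, n • ω ≠ ω := fun n hn hn1 ω hω => hn1 (by
      have hm : (⟨n, hn⟩ : N) ∈ MulAction.stabilizer N ω := hω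
      rw [hreg ω, Subgroup.mem_bot] at hm
      exact congrArg Subtype.val hm)
    obtain ⟨n₀, hn₀, hn₀1⟩ := N.ne_bot_iff_exists_ne_one.1 hN |>.elim
      (fun a ha => (⟨a.1, a.2, fun e => ha (Subtype.ext e)⟩ : ∃ x : G, x ∈ N ∧ x ≠ 1))
    have hDle : Lib.RecogThree.Derangements.D G Ω ≤ N := by
      refine (Subgroup.closure_le _).2 fun x hx => ?_
      obtain ⟨g, rfl⟩ := isConj_iff.1 (hconj n₀ x (hder n₀ hn₀ hn₀1) hx)
      exact hNn.conj_mem n₀ hn₀ g
    refine ⟨Lib.DerangeClasses.Affine.two_pretransitive_of_conj N hNc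
      (fun a ha ha1 b hb hb1 => hconj a b (hder a ha ha1) (hder b hb hb1)), ?_⟩
    intro g hg a b hab hga hgb
    exact hder g (hDle (Lib.RecogThree.Derangements.mem_D_of_fixes_two hab hga hgb)) hg a hga
  · rintro ⟨h2, hsharp⟩
    have hfix : ∀ g : G, g ≠ 1 → ∀ a b : Ω, g • a = a → g • b = b → a = b := fun g hg a b ha hb => by
      by_contra hab
      exact hsharp g hg a b hab ha hb
    obtain ⟨x, hx⟩ := Lib.RecogThree.Derangements.exists_derangement (G := G) (Y := Ω)
      (by rw [Nat.card_eq_fintype_card]; omega)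
    suffices hall : ∀ y : G, (∀ ω : Ω, y • ω ≠ ω) → IsConj x y by
      refine Nat.card_eq_one_iff_unique.2 ⟨⟨?_⟩, ⟨⟨ConjClasses.mk x, x, rfl, hx⟩⟩⟩
      rintro ⟨_, a, rfl, ha⟩ ⟨_, b, rfl, hb⟩
      exact Subtype.ext (ConjClasses.mk_eq_mk_iff_isConj.2 ((hall a ha).symm.trans (hall b hb)))
    have hsub : {y : G | IsConj x y} ⊆ {y : G | ∀ ω : Ω, y • ω ≠ ω} := by
      intro y hy ω hω
      obtain ⟨g, rfl⟩ := isConj_iff.1 hy
      refine hx (g⁻¹ • ω) ?_
      rw [mul_smul, mul_smul] at hω
      exact eq_inv_smul_iff.2 hω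
    have hC : Nat.card (Subgroup.centralizer ({x} : Set G)) ≤ Nat.card Ω := by
      obtain ⟨α⟩ := (inferInstance : Nonempty Ω)
      refine Nat.card_le_card_of_injective (fun c => (c : G) • α) fun c d hcd => ?_
      have hc1 : ((d⁻¹ * c : Subgroup.centralizer ({x} : Set G)) : G) = 1 := by
        by_contra hne
        have hfa : ((d : G)⁻¹ * c) • α = α := by rw [mul_smul, inv_smul_eq_iff]; exact hcd
        refine hsharp _ hne α (x • α) (Ne.symm (hx α)) hfa ?_
        show ((d⁻¹ * c : Subgroup.centralizer ({x} : Set G)) : G) • x • α = x • α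
        rw [← mul_smul, ← (Subgroup.mem_centralizer_iff.1 (d⁻¹ * c).2 x rfl), mul_smul]
        exact congrArg (x • ·) hfa
      exact Subtype.ext (inv_mul_eq_one.1 (hc1 : (d : G)⁻¹ * c = 1)).symm
    have hcls := Lib.DerangeClasses.Affine.card_conjugatesOf_mul x
    have hder := Lib.DerangeClasses.Affine.card_derangements (G := G) (Ω := Ω) hfix
    obtain ⟨α⟩ := (inferInstance : Nonempty Ω)
    have hG := Lib.Perm.Basic.card_eq_card_mul_card_stabilizer (G := G) α
    have hH : Nat.card Ω ≤ Nat.card (MulAction.stabilizer G α) + 1 := by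
      classical
      obtain ⟨β, hβ⟩ := exists_ne α
      let f : Option (MulAction.stabilizer G α) → Ω := fun o => o.elim α fun h => (h : G) • β
      have hf : Function.Surjective f := fun y => by
        by_cases hy : y = α
        · exact ⟨none, hy.symm⟩
        · obtain ⟨g, hg1, hg2⟩ : ∃ g : G, g • α = α ∧ g • β = y := (MulAction.is_two_pretransitive_iff.1 h2) hβ.symm (Ne.symm hy)
          exact ⟨some ⟨g, hg1⟩, hg2⟩
      have := Nat.card_le_card_of_surjective f hf
      rwa [Finite.card_option] at this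
    have hle : Nat.card {y : G | ∀ ω : Ω, y • ω ≠ ω} ≤ Nat.card {y : G | IsConj x y} := by
      have hpos : 0 < Nat.card Ω := Nat.card_pos
      refine Nat.le_of_mul_le_mul_right ?_ hpos
      calc Nat.card {y : G | ∀ ω : Ω, y • ω ≠ ω} * Nat.card Ω
          ≤ Nat.card (MulAction.stabilizer G α) * Nat.card Ω := Nat.mul_le_mul_right _ (by omega)
        _ = Nat.card G := by rw [hG, mul_comm]
        _ ≤ _ := by rw [← hcls]; exact Nat.mul_le_mul_left _ hC
    intro y hy
    rw [Nat.card_coe_set_eq, Nat.card_coe_set_eq] at hle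
    have := Set.eq_of_subset_of_ncard_le hsub hle
    exact (this.symm ▸ hy : y ∈ {y : G | IsConj x y})

end Cfsg.Agent.S3501
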