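import Cfsg.Statements.S3504

set_option autoImplicit false
open Cfsg

namespace Cfsg.Agent.S3504

/-- For n ≥ 5, the fixed-point-free permutations of prime order in the symmetric group of degree n form a single conjugacy class if and only if n is a prime power. -/
theorem result (n : ℕ) (hn : 5 ≤ n) :
    Nat.card {c : ConjClasses (Equiv.Perm (Fin n)) // ∃ g : Equiv.Perm (Fin n), ConjClasses.mk g = c ∧ (orderOf g).Prime ∧ ∀ i : Fin n, g i ≠ i} = 1 ↔ IsPrimePow n := by
  classical
  rw [isPrimePow_iff_card_primeFactors_eq_one]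
  suffices Nat.card {c : ConjClasses (Equiv.Perm (Fin n)) //
      ∃ g : Equiv.Perm (Fin n), ConjClasses.mk g = c ∧ (orderOf g).Prime ∧ ∀ i : Fin n, g i ≠ i} =
      n.primeFactors.card by rw [this]
  have hn0 : n ≠ 0 := by omega
  have hex : ∀ p ∈ n.primeFactors, ∃ g : Equiv.Perm (Fin n),
      orderOf g = p ∧ (∀ i : Fin n, g i ≠ i) := by
    intro p hp
    have hpp := Nat.prime_of_mem_primeFactors hp
    obtain ⟨m, hm⟩ := Nat.dvd_of_mem_primeFactors hp
    obtain ⟨g, hg⟩ := (Equiv.Perm.exists_with_cycleType_iff (α := Fin n)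
      (m := Multiset.replicate m p)).2 ⟨by simp [hm, mul_comm],
        fun a ha => (Multiset.eq_of_mem_replicate ha).symm ▸ hpp.two_le⟩
    have hm0 : m ≠ 0 := by rintro rfl; simp at hm; exact hn0 hm
    have hord : orderOf g = p := by
      rw [← Equiv.Perm.lcm_cycleType, hg]
      obtain ⟨m', rfl⟩ := Nat.exists_eq_succ_of_ne_zero hm0
      clear hg hm hm0 g
      induction m' with
      | zero => simp
      | succ k ih => rw [Multiset.replicate_succ, Multiset.lcm_cons, ih]; exact Nat.lcm_self p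
    refine ⟨g, hord, fun i hi => ?_⟩
    have hsupp : g.support = Finset.univ := by
      apply Finset.eq_univ_of_card
      rw [← Equiv.Perm.sum_cycleType, hg, Multiset.sum_replicate, Fintype.card_fin, hm, smul_eq_mul,
        mul_comm]
    exact (Equiv.Perm.mem_support.1 (hsupp ▸ Finset.mem_univ i)) hi
  have huniq : ∀ g : Equiv.Perm (Fin n), (orderOf g).Prime → (∀ i : Fin n, g i ≠ i) →
      g.cycleType = Multiset.replicate (n / orderOf g) (orderOf g) ∧ orderOf g ∣ n := by
    intro g hg hfix
    obtain ⟨k, hk⟩ := Equiv.Perm.cycleType_prime_order hg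
    have hsum := Equiv.Perm.sum_cycleType g
    have hsupp : g.support = Finset.univ := Finset.eq_univ_of_forall fun i => Equiv.Perm.mem_support.2 (hfix i)
    rw [hsupp, hk, Finset.card_univ, Fintype.card_fin, Multiset.sum_replicate, smul_eq_mul] at hsum
    refine ⟨?_, ⟨k + 1, hsum.symm.trans (mul_comm _ _)⟩⟩
    rw [hk]
    congr 1
    exact (Nat.div_eq_of_eq_mul_left hg.pos hsum.symm).symm
  let F : n.primeFactors → {c : ConjClasses (Equiv.Perm (Fin n)) //
      ∃ g : Equiv.Perm (Fin n), ConjClasses.mk g = c ∧ (orderOf g).Prime ∧ ∀ i : Fin n, g i ≠ i} :=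
    fun p => ⟨ConjClasses.mk (hex p.1 p.2).choose, (hex p.1 p.2).choose, rfl,
      by rw [(hex p.1 p.2).choose_spec.1]; exact Nat.prime_of_mem_primeFactors p.2,
      (hex p.1 p.2).choose_spec.2⟩
  have hF : Function.Bijective F := by
    constructor
    · rintro ⟨p, hp⟩ ⟨q, hq⟩ h
      have h1 := congrArg Subtype.val h
      simp only [F, ConjClasses.mk_eq_mk_iff_isConj] at h1
      have h2 := Equiv.Perm.isConj_iff_cycleType_eq.1 h1
      apply Subtype.ext
      show p = q
      rw [← (hex p hp).choose_spec.1, ← (hex q hq).choose_spec.1, ← Equiv.Perm.lcm_cycleType,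
        ← Equiv.Perm.lcm_cycleType, h2]
    · rintro ⟨c, g, rfl, hg, hfix⟩
      obtain ⟨hct, hdvd⟩ := huniq g hg hfix
      have hmem : orderOf g ∈ n.primeFactors := Nat.mem_primeFactors.2 ⟨hg, hdvd, hn0⟩
      refine ⟨⟨orderOf g, hmem⟩, ?_⟩
      apply Subtype.ext
      simp only [F, ConjClasses.mk_eq_mk_iff_isConj, Equiv.Perm.isConj_iff_cycleType_eq]
      obtain ⟨h1, h2⟩ := (hex _ hmem).choose_spec
      rw [hct, (huniq _ (by rw [h1]; exact hg) h2).1, h1]
  rw [← Nat.card_eq_of_bijective F hF, Nat.card_eq_fintype_card, Fintype.card_coe]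

end Cfsg.Agent.S3504
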