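import Cfsg.Statements.S3508
import Mathlib
import Cfsg.Agent.Lib.Perm.Basic

set_option autoImplicit false
open Cfsg

namespace Cfsg.Agent.S3508

theorem nilpotent_pow_eq_zero (p : ℕ) [Fact p.Prime] (m : ℕ) {A : Type*} [AddCommGroup A] [Finite A]
    (hA : Nat.card A = p ^ m) (U : AddMonoid.End A) {M : ℕ} (hM : U ^ M = 0) : U ^ m = 0 := by
  have hp := (Fact.out : p.Prime)
  let R : ℕ → AddSubgroup A := fun k => AddMonoidHom.range ((U ^ k : AddMonoid.End A) : A →+ A)
  have hsucc : ∀ k, R (k + 1) = (R k).map (U : A →+ A) := fun k => by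
    show AddMonoidHom.range ((U ^ (k + 1) : AddMonoid.End A) : A →+ A) = _
    rw [pow_succ']
    exact AddMonoidHom.range_comp _ _
  have hmono : ∀ k, R (k + 1) ≤ R k := by
    intro k
    show AddMonoidHom.range ((U ^ (k + 1) : AddMonoid.End A) : A →+ A) ≤ _
    rw [pow_succ]
    rintro _ ⟨x, rfl⟩
    exact ⟨U x, rfl⟩
  have hstab : ∀ k, R (k + 1) = R k → R k = ⊥ := by
    intro k hk
    have hall : ∀ j, R (k + j) = R k := by
      intro j
      induction j with
      | zero => rfl
      | succ j ih => rw [← Nat.add_assoc, hsucc, ih, ← hsucc, hk]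
    rw [← hall M, eq_bot_iff]
    rintro _ ⟨x, rfl⟩
    show (U ^ (k + M)) x ∈ (⊥ : AddSubgroup A)
    rw [pow_add, hM, mul_zero]
    exact zero_mem _
  have hind : ∀ k, R k = ⊥ ∨ Nat.card (R k) * p ^ k ≤ p ^ m := by
    intro k
    induction k with
    | zero =>
      right
      rw [pow_zero, mul_one]
      exact hA ▸ Nat.card_le_card_of_injective _ Subtype.val_injective
    | succ k ih =>
      by_cases hb : R (k + 1) = ⊥
      · exact Or.inl hb
      right
      have hkb : R k ≠ ⊥ := fun h => hb (le_bot_iff.1 ((hmono k).trans h.le))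
      have hne : R (k + 1) ≠ R k := fun h => hkb (hstab k h)
      obtain ⟨a, -, ha⟩ := (Nat.dvd_prime_pow hp).1 (hA ▸ (R k).card_addSubgroup_dvd_card)
      obtain ⟨b, -, hb'⟩ := (Nat.dvd_prime_pow hp).1 (hA ▸ (R (k + 1)).card_addSubgroup_dvd_card)
      have hlt : Nat.card (R (k + 1)) < Nat.card (R k) := by
        rw [← SetLike.coe_sort_coe, ← SetLike.coe_sort_coe, Nat.card_coe_set_eq, Nat.card_coe_set_eq]
        exact Set.ncard_lt_ncard (SetLike.coe_ssubset_coe.2 (lt_of_le_of_ne (hmono k) hne))
      rw [ha, hb'] at hlt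
      have hab : b + 1 ≤ a := (Nat.pow_lt_pow_iff_right hp.one_lt).1 hlt
      have := ih.resolve_left hkb
      rw [ha] at this
      calc Nat.card (R (k + 1)) * p ^ (k + 1) = p ^ (b + 1) * p ^ k := by rw [hb']; ring
        _ ≤ p ^ a * p ^ k := Nat.mul_le_mul_right _ (Nat.pow_le_pow_right hp.pos hab)
        _ ≤ p ^ m := this
  have hbot : R m = ⊥ := by
    refine (hind m).elim id fun h => ?_
    have hpos : 0 < p ^ m := pow_pos hp.pos m
    have h1 : Nat.card (R m) ≤ 1 := Nat.le_of_mul_le_mul_right (by rw [one_mul]; exact h) hpos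
    haveI := Finite.card_le_one_iff_subsingleton.1 h1
    exact AddSubgroup.eq_bot_of_subsingleton _
  refine AddMonoidHom.ext fun x => ?_
  have hx : (U ^ m) x ∈ R m := ⟨x, rfl⟩
  rw [hbot, AddSubgroup.mem_bot] at hx
  exact hx

theorem geom_and_pow (p m : ℕ) [Fact p.Prime] {A : Type*} [AddCommGroup A] [Finite A]
    (hA : Nat.card A = p ^ m) (hexp : ∀ a : A, p • a = 0) (T : AddMonoid.End A) (r k : ℕ)
    (hk : m ≤ p ^ k - 1) (hT : T ^ p ^ r = 1) :
    (∑ i ∈ Finset.range (p ^ k), T ^ i) = 0 ∧ T ^ p ^ k = 1 := by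
  classical
  have hp := (Fact.out : p.Prime)
  by_cases hm : m = 0
  · subst hm
    haveI : Subsingleton A := Finite.card_le_one_iff_subsingleton.1 (by simp [hA])
    exact ⟨AddMonoidHom.ext fun x => Subsingleton.elim _ _, AddMonoidHom.ext fun x => Subsingleton.elim _ _⟩
  haveI : Nontrivial A := Finite.one_lt_card_iff_nontrivial.1 (hA ▸ Nat.one_lt_pow hm hp.one_lt)
  haveI : Nontrivial (AddMonoid.End A) := by
    obtain ⟨a, ha⟩ := exists_ne (0 : A)
    exact ⟨⟨1, 0, fun h => ha (congrArg (fun f : AddMonoid.End A => f a) h)⟩⟩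
  haveI : CharP (AddMonoid.End A) p := (CharP.charP_iff_prime_eq_zero hp).2
    (AddMonoidHom.ext fun x => by
      show ((p : AddMonoid.End A)) x = (0 : AddMonoid.End A) x
      rw [AddMonoid.End.natCast_apply, hexp]
      rfl)
  let e := Polynomial.eval₂RingHom' (ZMod.castHom (dvd_refl p) (AddMonoid.End A)) T
    (fun a => by
      obtain ⟨i, rfl⟩ := ZMod.natCast_zmod_surjective a
      rw [map_natCast]
      exact Nat.cast_commute i T)
  have hX : e Polynomial.X = T := by simp [e]
  have hgeom : (∑ i ∈ Finset.range (p ^ k), (Polynomial.X : Polynomial (ZMod p)) ^ i) =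
      (Polynomial.X - 1) ^ (p ^ k - 1) := by
    refine mul_right_cancel₀ (b := Polynomial.X - 1) (by
      intro h
      have h' := congrArg Polynomial.natDegree h
      rw [← map_one (Polynomial.C : ZMod p →+* _), Polynomial.natDegree_X_sub_C] at h'
      simp at h') ?_
    rw [geom_sum_mul, ← pow_succ, Nat.sub_add_cancel (Nat.one_le_pow _ _ hp.pos), sub_pow_char_pow,
      one_pow]
  have hpowr : ∀ j, (T - 1) ^ p ^ j = T ^ p ^ j - 1 := fun j => by
    have h1 : e ((Polynomial.X - 1) ^ p ^ j) = e (Polynomial.X ^ p ^ j - 1) := by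
      rw [sub_pow_char_pow, one_pow]
    simpa [map_pow, map_sub, hX] using h1
  have hU : (T - 1) ^ m = 0 := nilpotent_pow_eq_zero p m hA _ (M := p ^ r) (by rw [hpowr, hT, sub_self])
  have hzero : ∀ j, m ≤ j → (T - 1) ^ j = 0 := fun j hj => by
    rw [← Nat.add_sub_cancel' hj, pow_add, hU, zero_mul]
  constructor
  · have h1 := congrArg e hgeom
    simp only [map_sum, map_pow, map_sub, map_one, hX] at h1
    rw [h1, hzero _ hk]
  · have h1 := hpowr k
    rw [hzero _ (hk.trans (Nat.sub_le _ _))] at h1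
    exact (sub_eq_zero.1 h1.symm)


/-- Let a finite group G act faithfully on a set Ω with p ^ m points (p prime) and have an elementary abelian normal p-subgroup N acting regularly on Ω (so G is a group of affine transformations of an m-dimensional space over the field with p elements). If G contains an element of order p ^ r with r ≥ 1, then p ^ (r − 1) ≤ m. In particular an element of order p ^ m forces m ≤ 2, and m ≤ 1 when p is odd. -/
theorem result {G : Type*} [Group G] [Finite G] {Ω : Type*} [Fintype Ω] [MulAction G Ω] [FaithfulSMul G Ω] (p m : ℕ) (hp : p.Prime) (hcard : Fintype.card Ω = p ^ m)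
    (N : Subgroup G) [N.Normal] (hNc : IsMulCommutative N) (hNp : ∀ n ∈ N, n ^ p = 1)
    (hNtr : MulAction.IsPretransitive N Ω) (hNreg : ∀ ω : Ω, MulAction.stabilizer N ω = ⊥)
    (g : G) (r : ℕ) (hr : 1 ≤ r) (hg : orderOf g = p ^ r) :
    p ^ (r - 1) ≤ m ∧ (r = m → m ≤ 2 ∧ (2 < p → m ≤ 1)) := by
  classical
  haveI : Fact p.Prime := ⟨hp⟩
  haveI := hNtr
  haveI : Nonempty Ω := by
    rcases isEmpty_or_nonempty Ω with h | h
    · rw [Fintype.card_eq_zero] at hcard
      exact absurd hcard.symm (pow_ne_zero _ hp.ne_zero)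
    · exact h
  obtain ⟨α⟩ := (inferInstance : Nonempty Ω)
  obtain ⟨n, hn, h, hh, rfl⟩ := Lib.Perm.Basic.exists_eq_mul_stabilizer N α g
  have hN : Nat.card N = p ^ m := by
    rw [Lib.Perm.Basic.card_eq_of_regular α (hNreg α), Nat.card_eq_fintype_card, hcard]
  let hcg : CommGroup N := { (inferInstance : Group N) with mul_comm := fun a b => mul_comm' a b }
  let T : G →* AddMonoid.End (Additive N) :=
    { toFun := fun c => (MulAut.conjNormal c : MulAut N).toMonoidHom.toAdditive
      map_one' := AddMonoidHom.ext fun x => by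
        show Additive.ofMul ((MulAut.conjNormal (1 : G) : MulAut N) (Additive.toMul x)) = x
        simp
      map_mul' := fun a c => AddMonoidHom.ext fun x => by
        show Additive.ofMul ((MulAut.conjNormal (a * c) : MulAut N) (Additive.toMul x)) =
          Additive.ofMul ((MulAut.conjNormal a : MulAut N) ((MulAut.conjNormal c : MulAut N) (Additive.toMul x)))
        simp }
  have hTapp : ∀ (c : G) (x : N), ((Additive.toMul (T c (Additive.ofMul x)) : N) : G) = c * x * c⁻¹ :=
    fun c x => rfl
  have hpow : ∀ k : ℕ, (n * h) ^ k = ((Additive.toMul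
      ((∑ i ∈ Finset.range k, T (h ^ i)) (Additive.ofMul (⟨n, hn⟩ : N))) : N) : G) * h ^ k := by
    intro k
    induction k with
    | zero => simp
    | succ k ih =>
      rw [pow_succ, ih, Finset.sum_range_succ]
      show _ = ((Additive.toMul ((∑ i ∈ Finset.range k, T (h ^ i)) (Additive.ofMul (⟨n, hn⟩ : N))) *
        Additive.toMul (T (h ^ k) (Additive.ofMul (⟨n, hn⟩ : N))) : N) : G) * h ^ (k + 1)
      rw [Subgroup.coe_mul, hTapp, pow_succ]
      group
  have hTinj : ∀ c ∈ MulAction.stabilizer G α, T c = 1 → c = 1 := by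
    intro c hc hT
    refine Lib.Perm.Basic.eq_one_of_commute_transitive N (fun t ht => ?_) (a := α) hc
    have h2 := hTapp c ⟨t, ht⟩
    rw [hT] at h2
    exact (mul_inv_eq_iff_eq_mul.1 h2.symm).symm
  have hA : ∀ x : Additive N, p • x = 0 := fun x =>
    congrArg Additive.ofMul (Subtype.ext (by simpa using hNp _ (Additive.toMul x).2) :
      (Additive.toMul x : N) ^ p = 1)
  -- the order of `h` divides `p ^ r`
  have hh1 : h ^ p ^ r = 1 := by
    have h1 := hpow (p ^ r)
    rw [← hg, pow_orderOf_eq_one, hg] at h1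
    set w := ((Additive.toMul ((∑ i ∈ Finset.range (p ^ r), T (h ^ i)) (Additive.ofMul (⟨n, hn⟩ : N))) : N))
    have h2 : (w : G) • α = α := by
      have h3 := congrArg (· • α) h1
      simp only [one_smul, mul_smul,
        MulAction.mem_stabilizer_iff.1 ((MulAction.stabilizer G α).pow_mem hh _)] at h3
      exact h3.symm
    have h4 : w ∈ MulAction.stabilizer N α := h2
    rw [hNreg α, Subgroup.mem_bot] at h4
    rw [h4, Subgroup.coe_one, one_mul] at h1
    exact h1.symm
  have key : ∀ k, m ≤ p ^ k - 1 → (n * h) ^ p ^ k = 1 := by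
    intro k hk
    obtain ⟨h1, h2⟩ := geom_and_pow p m (A := Additive N) hN hA (T h) r k hk
      (by rw [← map_pow, hh1, map_one])
    have h3 : h ^ p ^ k = 1 := hTinj _ ((MulAction.stabilizer G α).pow_mem hh _) (by rw [map_pow, h2])
    rw [hpow, h3, mul_one]
    simp only [map_pow]
    rw [h1]
    rfl
  have hmain : p ^ (r - 1) ≤ m := by
    by_contra hlt
    push Not at hlt
    have h1 : orderOf (n * h) ∣ p ^ (r - 1) := orderOf_dvd_of_pow_eq_one (key (r - 1) (by omega))
    rw [hg, Nat.pow_dvd_pow_iff_le_right hp.one_lt] at h1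
    omega
  refine ⟨hmain, fun hrm => ?_⟩
  rw [hrm] at hmain
  have h2 : ∀ j, 2 ≤ j → j + 1 < p ^ j := by
    intro j hj
    induction j with
    | zero => omega
    | succ j ih =>
      rcases Nat.lt_or_ge j 2 with hj2 | hj2
      · have hj1 : j = 1 := by omega
        subst hj1
        norm_num
        nlinarith [hp.two_le]
      · have := ih hj2
        rw [pow_succ]
        nlinarith [hp.two_le]
  refine ⟨?_, fun hp3 => ?_⟩
  · by_contra hm
    have := h2 (m - 1) (by omega)
    omega
  · by_contra hm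
    rcases Nat.lt_or_ge m 3 with hm3 | hm3
    · have hm2 : m = 2 := by omega
      subst hm2
      simp at hmain
      omega
    · have := h2 (m - 1) (by omega)
      omega

end Cfsg.Agent.S3508
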