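import Cfsg.Statements.S3511

set_option autoImplicit false
open Cfsg

namespace Cfsg.Agent.S3511

/-- Let a finite group G act faithfully on a set Ω. If every element of G of square-free order has a regular cycle (an orbit of the cyclic group it generates with trivial stabilizer), then every element of G has a regular cycle. -/
theorem result {G : Type*} [Group G] [Finite G] {Ω : Type*} [MulAction G Ω] [FaithfulSMul G Ω]
    (h : ∀ g : G, Squarefree (orderOf g) → ∃ ω : Ω, MulAction.stabilizer (Subgroup.zpowers g) ω = ⊥) (g : G) :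
    ∃ ω : Ω, MulAction.stabilizer (Subgroup.zpowers g) ω = ⊥ := by
  classical
  set n := orderOf g with hn
  have hn0 : n ≠ 0 := (orderOf_pos g).ne'
  set r := n.primeFactors.prod (fun q => q) with hr
  have hrn : r ∣ n := Nat.prod_primeFactors_dvd n
  have hn' : orderOf g ≠ 0 := hn0
  have hm : orderOf (g ^ (n / r)) = r := by
    have hr0 : 0 < r := Finset.prod_pos fun q hq => (Nat.prime_of_mem_primeFactors hq).pos
    rw [orderOf_pow' g (Nat.div_pos (Nat.le_of_dvd (Nat.pos_of_ne_zero hn0) hrn) hr0).ne', ← hn,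
      Nat.gcd_eq_right (Nat.div_dvd_of_dvd hrn), Nat.div_div_self hrn hn0]
  have hsf : Squarefree (orderOf (g ^ (n / r))) := by
    rw [hm, hr]
    refine Finset.squarefree_prod_of_pairwise_isCoprime (fun p hp q hq hpq => ?_)
      (fun p hp => (Nat.prime_of_mem_primeFactors hp).squarefree)
    exact Nat.coprime_iff_isRelPrime.1 ((Nat.coprime_primes (Nat.prime_of_mem_primeFactors hp)
      (Nat.prime_of_mem_primeFactors hq)).2 hpq)
  obtain ⟨ω, hω⟩ := h _ hsf
  refine ⟨ω, ?_⟩
  by_contra hne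
  obtain ⟨⟨x, hxg⟩, hx, hx1⟩ := (Subgroup.ne_bot_iff_exists_ne_one).1 hne |>.elim
    (fun y hy => (⟨y.1, y.2, fun e => hy (Subtype.ext e)⟩ :
      ∃ z : Subgroup.zpowers g, z ∈ MulAction.stabilizer (Subgroup.zpowers g) ω ∧ z ≠ 1))
  have hx1' : x ≠ 1 := fun e => hx1 (Subtype.ext e)
  have hfix : x • ω = ω := hx
  obtain ⟨q, hq, hqd⟩ := Nat.exists_prime_and_dvd (n := orderOf x) (by simpa [orderOf_eq_one_iff] using hx1')
  let y := x ^ (orderOf x / q)
  have hy : orderOf y = q := by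
    have hne0 : orderOf x ≠ 0 := (orderOf_pos x).ne'
    show orderOf (x ^ (orderOf x / q)) = q
    rw [orderOf_pow' x (Nat.div_pos (Nat.le_of_dvd (orderOf_pos x) hqd) hq.pos).ne',
      Nat.gcd_eq_right (Nat.div_dvd_of_dvd hqd), Nat.div_div_self hqd hne0]
  have hyg : y ∈ Subgroup.zpowers g := Subgroup.pow_mem _ hxg _
  have hqn : q ∣ n := hqd.trans (orderOf_dvd_of_mem_zpowers hxg)
  have hqr : q ∣ r := Finset.dvd_prod_of_mem _ (Nat.mem_primeFactors.2 ⟨hq, hqn, hn0⟩)
  obtain ⟨k, hk⟩ := Subgroup.mem_zpowers_iff.1 hyg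
  have hkd : ((n / r : ℕ) : ℤ) ∣ k := by
    have h1 : (n : ℤ) ∣ k * q := by
      rw [hn, orderOf_dvd_iff_zpow_eq_one, zpow_mul, hk, zpow_natCast, ← hy, pow_orderOf_eq_one]
    obtain ⟨a, ha⟩ := hqr
    obtain ⟨b, hb⟩ := hrn
    have hr0 : r ≠ 0 := by intro e; rw [e, zero_mul] at hb; exact hn0 hb
    have : n / r = b := by rw [hb, Nat.mul_div_cancel_left _ (Nat.pos_of_ne_zero hr0)]
    rw [this]
    have h2 : ((b : ℤ) * q) ∣ k * q := by
      refine dvd_trans ?_ h1
      rw [hb, ha]; push_cast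
      exact ⟨a, by ring⟩
    exact Int.dvd_of_mul_dvd_mul_right (by exact_mod_cast hq.ne_zero) h2
  obtain ⟨j, hj⟩ := hkd
  have hymem : y ∈ Subgroup.zpowers (g ^ (n / r)) := by
    refine Subgroup.mem_zpowers_iff.2 ⟨j, ?_⟩
    rw [← hk, hj, zpow_mul, zpow_natCast]
  have hyfix : (⟨y, hymem⟩ : Subgroup.zpowers (g ^ (n / r))) ∈
      MulAction.stabilizer (Subgroup.zpowers (g ^ (n / r))) ω := by
    show y • ω = ω
    exact (MulAction.stabilizer G ω).pow_mem hfix _
  rw [hω, Subgroup.mem_bot] at hyfix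
  have : y = 1 := congrArg Subtype.val hyfix
  rw [this, orderOf_one] at hy
  exact hq.one_lt.ne hy

end Cfsg.Agent.S3511
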