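import Cfsg.Statements.S3514

set_option autoImplicit false
open Cfsg

namespace Cfsg.Agent.S3514

open scoped Pointwise

section

variable {G : Type*} [Group G] [Finite G] {α : Type*} [MulAction G α]

theorem smul_orbit_eq {N X : Subgroup G} (hn : X ≤ Subgroup.normalizer (N : Set G)) (v : α) (x : X) :
    x • MulAction.orbit N v = MulAction.orbit N ((x : G) • v) := by
  have key : ∀ g : G, g ∈ X → ∀ w : α, g • MulAction.orbit N w ⊆ MulAction.orbit N (g • w) := by
    rintro g hg w _ ⟨_, ⟨n, rfl⟩, rfl⟩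
    refine ⟨⟨g * n * g⁻¹, (Subgroup.mem_normalizer_iff.1 (hn hg) _).1 n.2⟩, ?_⟩
    show (g * n * g⁻¹) • g • w = g • (n : G) • w
    simp [mul_smul]
  refine Set.Subset.antisymm (key x x.2 v) ?_
  intro u hu
  have h := key (x : G)⁻¹ (X.inv_mem x.2) ((x : G) • v) (Set.smul_mem_smul_set hu)
  rw [inv_smul_smul] at h
  exact ⟨_, h, smul_inv_smul (x : G) u⟩

theorem card_orbit_eq {N X : Subgroup G} (hle : N ≤ X) (hn : X ≤ Subgroup.normalizer (N : Set G))
    (v : α) : Nat.card (MulAction.orbit X v) =
      Nat.card (MulAction.orbit N v) * Nat.card (MulAction.orbit X (MulAction.orbit N v)) := by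
  let B : Set α := MulAction.orbit N v
  have hle' : MulAction.stabilizer X v ≤ MulAction.stabilizer X B := by
    intro x hx
    rw [MulAction.mem_stabilizer_iff, smul_orbit_eq hn]
    rw [show (x : G) • v = v from hx]
  have horb : MulAction.orbit (MulAction.stabilizer X B) v = B := by
    apply Set.Subset.antisymm
    · rintro _ ⟨⟨x, hx⟩, rfl⟩
      have h1 : x • B = B := hx
      show (x : G) • v ∈ B
      exact h1 ▸ Set.smul_mem_smul_set (a := x) (MulAction.mem_orbit_self v)
    · rintro _ ⟨n, rfl⟩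
      refine ⟨⟨⟨n, hle n.2⟩, ?_⟩, rfl⟩
      rw [MulAction.mem_stabilizer_iff, smul_orbit_eq hn]
      exact MulAction.orbit_smul n v
  have h1 : ((MulAction.stabilizer X v).subgroupOf (MulAction.stabilizer X B)) =
      MulAction.stabilizer (MulAction.stabilizer X B) v := rfl
  have hA := MulAction.index_stabilizer X v
  have hB := MulAction.index_stabilizer X B
  have hC := MulAction.index_stabilizer (MulAction.stabilizer X B) v
  rw [horb, ← h1] at hC
  rw [Nat.card_coe_set_eq, Nat.card_coe_set_eq, Nat.card_coe_set_eq, ← hA, ← hB,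
    ← Subgroup.relIndex_mul_index hle']
  exact congrArg (fun k => k * (MulAction.stabilizer X B).index) hC

theorem card_orbit_dvd {N X : Subgroup G} (hle : N ≤ X) (hn : X ≤ Subgroup.normalizer (N : Set G))
    (v : α) : Nat.card (MulAction.orbit N v) ∣ Nat.card (MulAction.orbit X v) :=
  ⟨_, card_orbit_eq hle hn v⟩

theorem card_orbit_dvd_card (N : Subgroup G) (v : α) :
    Nat.card (MulAction.orbit N v) ∣ Nat.card N := by
  rw [Nat.card_coe_set_eq, ← MulAction.index_stabilizer]
  exact Subgroup.index_dvd_card _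

theorem card_orbit_blocks_dvd {N H : Subgroup G} (hn : H ≤ Subgroup.normalizer (N : Set G)) (v : α) :
    Nat.card (MulAction.orbit (N ⊔ H : Subgroup G) (MulAction.orbit N v)) ∣
      Nat.card (MulAction.orbit H v) := by
  have hNX : N ⊔ H ≤ Subgroup.normalizer (N : Set G) := sup_le Subgroup.le_normalizer hn
  have heq : MulAction.orbit (N ⊔ H : Subgroup G) (MulAction.orbit N v) =
      MulAction.orbit H (MulAction.orbit N v) := by
    apply Set.Subset.antisymm
    · rintro _ ⟨⟨x, hx⟩, rfl⟩
      rw [← SetLike.mem_coe, Subgroup.coe_mul_of_right_le_normalizer_left N H hn] at hx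
      obtain ⟨n, hn', h, hh, rfl⟩ := hx
      refine ⟨⟨h, hh⟩, ?_⟩
      simp only [smul_orbit_eq hn, smul_orbit_eq hNX, mul_smul]
      exact (MulAction.orbit_smul (⟨n, hn'⟩ : N) _).symm
    · rintro _ ⟨h, rfl⟩
      exact ⟨⟨h, le_sup_right (a := N) h.2⟩, rfl⟩
  rw [heq, Nat.card_coe_set_eq, Nat.card_coe_set_eq, ← MulAction.index_stabilizer,
    ← MulAction.index_stabilizer]
  apply Subgroup.index_dvd_of_le
  intro x hx
  rw [MulAction.mem_stabilizer_iff, smul_orbit_eq hn, show (x : G) • v = v from hx]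

end

/-- Let p be a prime, V a finite vector space over the field with p elements, and H a group of linear transformations of V all of whose orbits on V have size coprime to p. (i) Every normal subgroup K of H has all its orbits on V of size coprime to p. (ii) If N is a group of linear transformations of V of order coprime to p that is normalized by H, then the group generated by N and H has all its orbits on V of size coprime to p. -/
theorem result (p : ℕ) [Fact p.Prime] {V : Type*} [AddCommGroup V] [Module (ZMod p) V] [Finite V]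
    (H : Subgroup (V ≃ₗ[ZMod p] V)) (hH : ∀ v : V, ¬ p ∣ Nat.card {u : V | ∃ h ∈ H, h v = u}) :
    (∀ K : Subgroup (V ≃ₗ[ZMod p] V), K ≤ H → H ≤ Subgroup.normalizer (K : Set (V ≃ₗ[ZMod p] V)) →
        ∀ v : V, ¬ p ∣ Nat.card {u : V | ∃ k ∈ K, k v = u}) ∧
    (∀ N : Subgroup (V ≃ₗ[ZMod p] V), ¬ p ∣ Nat.card N → H ≤ Subgroup.normalizer (N : Set (V ≃ₗ[ZMod p] V)) →
        ∀ v : V, ¬ p ∣ Nat.card {u : V | ∃ x ∈ N ⊔ H, x v = u}) := by
  letI : MulAction (V ≃ₗ[ZMod p] V) V :=
    { smul := fun g v => g v, one_smul := fun _ => rfl, mul_smul := fun _ _ _ => rfl }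
  haveI : Finite (V ≃ₗ[ZMod p] V) := Finite.of_injective (fun g => (g : V → V)) DFunLike.coe_injective
  have horb : ∀ (S : Subgroup (V ≃ₗ[ZMod p] V)) (v : V),
      Nat.card {u : V | ∃ h ∈ S, h v = u} = Nat.card (MulAction.orbit S v) := by
    intro S v
    have : {u : V | ∃ h ∈ S, h v = u} = MulAction.orbit S v := by
      ext u
      constructor
      · rintro ⟨h, hh, rfl⟩; exact ⟨⟨h, hh⟩, rfl⟩
      · rintro ⟨⟨h, hh⟩, rfl⟩; exact ⟨h, hh, rfl⟩
    rw [this]
  constructor
  · intro K hKH hn v hp
    apply hH v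
    rw [horb] at hp ⊢
    exact hp.trans (card_orbit_dvd hKH hn v)
  · intro N hN hn v hp
    rw [horb] at hp
    have hNX : N ⊔ H ≤ Subgroup.normalizer (N : Set (V ≃ₗ[ZMod p] V)) :=
      sup_le Subgroup.le_normalizer hn
    rw [card_orbit_eq le_sup_left hNX v] at hp
    rcases (Fact.out : p.Prime).dvd_mul.1 hp with h | h
    · exact hN (h.trans (card_orbit_dvd_card N v))
    · apply hH v
      rw [horb]
      exact h.trans (card_orbit_blocks_dvd hn v)

end Cfsg.Agent.S3514
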