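import Cfsg.Statements.S3515

set_option autoImplicit false
open Cfsg

namespace Cfsg.Agent.S3515
theorem zmod_two_eq_one : ∀ a : ZMod 2, a ≠ 0 → a = 1 := by decide

/-- Every primitive affine permutation group of degree p² is 3-closed. Let p be a prime and G a group of permutations of the plane V = F_p² consisting of affine maps x ↦ Ax + b, containing all translations, and acting primitively on V. Then any permutation σ of V that agrees on every triple of points with some element of G (σ preserves every G-orbit on ordered triples) already lies in G. -/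
theorem result (p : ℕ) [Fact p.Prime] (G : Subgroup (Equiv.Perm (Fin 2 → ZMod p)))
    (haff : (G : Set (Equiv.Perm (Fin 2 → ZMod p))) ⊆ {τ : Equiv.Perm (Fin 2 → ZMod p) | ∃ (A : (Fin 2 → ZMod p) ≃ₗ[ZMod p] (Fin 2 → ZMod p)) (b : Fin 2 → ZMod p), ∀ x, τ x = A x + b})
    (htrans : ∀ b : Fin 2 → ZMod p, ∃ g ∈ G, ∀ x, g x = x + b) (hprim : MulAction.IsPreprimitive G (Fin 2 → ZMod p))
    (σ : Equiv.Perm (Fin 2 → ZMod p)) (hσ : (∀ t : Fin 3 → (Fin 2 → ZMod p), ∃ g ∈ G, ∀ i, σ (t i) = g (t i))) : σ ∈ G := by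
  classical
  have htwo : ∀ q : ZMod p, q ≠ 0 → q ≠ 1 → ∀ u v : Fin 2 → ZMod p,
      σ ((1 - q) • u + q • v) = (1 - q) • σ u + q • σ v := by
    intro q _ _ u v
    obtain ⟨g, hg, hgt⟩ := hσ ![u, v, (1 - q) • u + q • v]
    obtain ⟨A, b, hA⟩ := haff hg
    have h0 := hgt 0; have h1 := hgt 1; have h2 := hgt 2
    simp only [Matrix.cons_val_zero, Matrix.cons_val_one, Matrix.cons_val] at h0 h1 h2
    rw [h2, h0, h1, hA, hA, hA, map_add, map_smul, map_smul]
    module
  obtain ⟨g, hg, hgt⟩ := hσ ![0, ![1, 0], ![0, 1]]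
  suffices σ = g by rw [this]; exact hg
  obtain ⟨A, b, hA⟩ := haff hg
  have e0 := hgt 0; have e1 := hgt 1; have e2 := hgt 2
  simp only [Matrix.cons_val_zero, Matrix.cons_val_one, Matrix.cons_val] at e0 e1 e2
  have hg3 : ∀ q : ZMod p, ∀ u v : Fin 2 → ZMod p,
      g ((1 - q) • u + q • v) = (1 - q) • g u + q • g v := by
    intro q u v
    rw [hA, hA, hA, map_add, map_smul, map_smul]
    module
  have hline : ∀ u v : Fin 2 → ZMod p, σ u = g u → σ v = g v →
      ∀ q : ZMod p, σ ((1 - q) • u + q • v) = g ((1 - q) • u + q • v) := by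
    intro u v hu hv q
    by_cases h0 : q = 0
    · simp [h0, hu]
    by_cases h1 : q = 1
    · simp [h1, hv]
    rw [htwo q h0 h1, hg3, hu, hv]
  have hx : ∀ a : ZMod p, σ ![a, 0] = g ![a, 0] := by
    intro a
    have := hline 0 ![1, 0] e0 e1 a
    have hv : (1 - a) • (0 : Fin 2 → ZMod p) + a • ![1, 0] = ![a, 0] := by
      funext i; fin_cases i <;> simp
    rwa [hv] at this
  have hy : ∀ a : ZMod p, σ ![0, a] = g ![0, a] := by
    intro a
    have := hline 0 ![0, 1] e0 e2 a
    have hv : (1 - a) • (0 : Fin 2 → ZMod p) + a • ![0, 1] = ![0, a] := by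
      funext i; fin_cases i <;> simp
    rwa [hv] at this
  refine Equiv.ext fun x => ?_
  by_cases hx0 : x 0 = 0
  · have : x = ![0, x 1] := by funext i; fin_cases i <;> simp [hx0]
    rw [this]; exact hy _
  by_cases hx1 : x 1 = 0
  · have : x = ![x 0, 0] := by funext i; fin_cases i <;> simp [hx1]
    rw [this]; exact hx _
  by_cases hp2 : p = 2
  · subst hp2
    by_contra hne
    have key : ∀ z : Fin 2 → ZMod 2, z ≠ x → σ z = g z := by
      intro z hz
      have one_of : ∀ a : ZMod 2, a ≠ 0 → a = 1 := zmod_two_eq_one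
      by_cases hz0 : z 0 = 0
      · have : z = ![0, z 1] := by funext i; fin_cases i <;> simp [hz0]
        rw [this]; exact hy _
      by_cases hz1 : z 1 = 0
      · have : z = ![z 0, 0] := by funext i; fin_cases i <;> simp [hz1]
        rw [this]; exact hx _
      exfalso; apply hz
      funext i; fin_cases i
      · exact (one_of _ hz0).trans (one_of _ hx0).symm
      · exact (one_of _ hz1).trans (one_of _ hx1).symm
    have hne' : σ.symm (g x) ≠ x := by
      intro e; apply hne
      calc σ x = σ (σ.symm (g x)) := by rw [e]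
        _ = g x := by simp
    have := key _ hne'
    rw [Equiv.apply_symm_apply] at this
    exact hne' (g.injective this).symm
  obtain ⟨t, ht0, ht1⟩ : ∃ t : ZMod p, t ≠ 0 ∧ 1 - t ≠ 0 := by
    refine ⟨2, ?_, ?_⟩
    · intro h
      have : ((2 : ℕ) : ZMod p) = 0 := by exact_mod_cast h
      rw [ZMod.natCast_eq_zero_iff] at this
      exact hp2 ((Nat.prime_dvd_prime_iff_eq Fact.out Nat.prime_two).1 this)
    · norm_num
  have := hline ![x 0 / (1 - t), 0] ![0, x 1 / t] (hx _) (hy _) t
  have hv : (1 - t) • ![x 0 / (1 - t), 0] + t • ![0, x 1 / t] = x := by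
    funext i; fin_cases i <;> simp [mul_div_cancel₀, ht0, ht1]
  rwa [hv] at this

end Cfsg.Agent.S3515
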