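import Cfsg.Statements.S3516
import Cfsg.Agent.Lib.ThreeClosure.Extend

set_option autoImplicit false
open Cfsg

namespace Cfsg.Agent.S3516

theorem two_ne_zero' {p : ℕ} [Fact p.Prime] (hp : p ≠ 2) : (2 : ZMod p) ≠ 0 := by
  intro h
  have h' : ((2 : ℕ) : ZMod p) = 0 := by exact_mod_cast h
  rw [ZMod.natCast_eq_zero_iff] at h'
  exact hp ((Nat.prime_dvd_prime_iff_eq Fact.out Nat.prime_two).1 h')

/-- A permutation agreeing with an affine map on any three points is affine (odd characteristic). -/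
theorem affine_of_triples {p : ℕ} [Fact p.Prime] {d : ℕ} (hp2 : (2 : ZMod p) ≠ 0)
    (σ : Equiv.Perm (Fin d → ZMod p))
    (hσ : ∀ x y z, ∃ (A : (Fin d → ZMod p) ≃ₗ[ZMod p] (Fin d → ZMod p)) (b : Fin d → ZMod p),
      σ x = A x + b ∧ σ y = A y + b ∧ σ z = A z + b) :
    ∃ (A : (Fin d → ZMod p) ≃ₗ[ZMod p] (Fin d → ZMod p)) (b : Fin d → ZMod p), ∀ x, σ x = A x + b := by
  have hcomb : ∀ (q : ZMod p) x y, σ (q • x + (1 - q) • y) = q • σ x + (1 - q) • σ y := by
    intro q x y
    obtain ⟨A, b, h0, h1, h2⟩ := hσ x y (q • x + (1 - q) • y)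
    rw [h0, h1, h2, map_add, map_smul, map_smul]
    module
  let f : (Fin d → ZMod p) → (Fin d → ZMod p) := fun x => σ x - σ 0
  have hsmul : ∀ (a : ZMod p) x, f (a • x) = a • f x := by
    intro a x
    have := hcomb a x 0
    rw [smul_zero, add_zero] at this
    simp only [f, this]
    module
  have hadd : ∀ x y, f (x + y) = f x + f y := by
    intro x y
    have hh : (2 : ZMod p) * (2 : ZMod p)⁻¹ = 1 := mul_inv_cancel₀ hp2
    have h1 : (1 : ZMod p) - 2⁻¹ = 2⁻¹ := by linear_combination -hh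
    have hm := hcomb (2 : ZMod p)⁻¹ x y
    rw [h1] at hm
    have hxy : x + y = (2 : ZMod p) • ((2 : ZMod p)⁻¹ • x + (2 : ZMod p)⁻¹ • y) := by
      rw [smul_add, smul_smul, smul_smul, hh, one_smul, one_smul]
    rw [hxy, hsmul]
    simp only [f, hm]
    rw [smul_sub, smul_add, smul_smul, smul_smul, hh]
    module
  let L : (Fin d → ZMod p) →ₗ[ZMod p] (Fin d → ZMod p) :=
    { toFun := f, map_add' := hadd, map_smul' := hsmul }
  have hinj : Function.Injective L := fun x y h => σ.injective (sub_left_inj.1 h)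
  refine ⟨LinearEquiv.ofInjectiveEndo L hinj, σ 0, fun x => ?_⟩
  rw [LinearEquiv.coe_ofInjectiveEndo]
  exact (sub_add_cancel (σ x) (σ 0)).symm

/-- An automorphism can be corrected to determinant one without changing it on two vectors. -/
theorem exists_det_one {K : Type*} [Field K] {d : ℕ} (hd : 3 ≤ d)
    (A : (Fin d → K) ≃ₗ[K] (Fin d → K)) (u v : Fin d → K) :
    ∃ S : (Fin d → K) ≃ₗ[K] (Fin d → K),
      LinearMap.det (S : (Fin d → K) →ₗ[K] (Fin d → K)) = 1 ∧ S u = A u ∧ S v = A v := by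
  classical
  let W : Submodule K (Fin d → K) := Submodule.span K (({u, v} : Finset (Fin d → K)) : Set (Fin d → K))
  have hW : W < ⊤ := by
    refine lt_top_iff_ne_top.2 fun h => ?_
    have h1 : Module.finrank K W ≤ 2 :=
      (finrank_span_finset_le_card _).trans Finset.card_le_two
    rw [h, finrank_top, Module.finrank_fin_fun] at h1
    omega
  obtain ⟨φ, hφ, hφW⟩ := Submodule.exists_dual_map_eq_bot_of_lt_top hW inferInstance
  have hker : ∀ x ∈ W, φ x = 0 := fun x hx => by
    have : φ x ∈ Submodule.map φ W := Submodule.mem_map_of_mem hx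
    rwa [hφW, Submodule.mem_bot] at this
  obtain ⟨w, hw⟩ : ∃ w, φ w ≠ 0 := by
    by_contra h
    push Not at h
    exact hφ (LinearMap.ext h)
  set c : K := LinearMap.det (A : (Fin d → K) →ₗ[K] (Fin d → K)) with hc
  have hc0 : c ≠ 0 := (LinearEquiv.isUnit_det' A).ne_zero
  let D := LinearMap.transvection φ (((c⁻¹ - 1) / φ w) • w)
  have hD : LinearMap.det D = c⁻¹ := by
    rw [LinearMap.transvection.det, map_smul, smul_eq_mul, div_mul_cancel₀ _ hw]
    ring
  let C : (Fin d → K) →ₗ[K] (Fin d → K) := (A : (Fin d → K) →ₗ[K] (Fin d → K)) ∘ₗ D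
  have hC : LinearMap.det C = 1 := by rw [LinearMap.det_comp, hD, ← hc, mul_inv_cancel₀ hc0]
  refine ⟨LinearMap.equivOfDetNeZero C (by rw [hC]; exact one_ne_zero), ?_, ?_, ?_⟩
  · exact hC
  · show A (D u) = A u
    have : φ u = 0 := hker u (Submodule.subset_span (by simp))
    simp [D, LinearMap.transvection.apply, this]
  · show A (D v) = A v
    have : φ v = 0 := hker v (Submodule.subset_span (by simp))
    simp [D, LinearMap.transvection.apply, this]

/-- Let p be an odd prime, d ≥ 3, and G a group of affine permutations x ↦ Ax + b of V = F_p^d containing all translations and all maps x ↦ Ax with A of determinant 1. Then the 3-closure of G is the full affine group: a permutation σ of V agrees on every triple of points with some element of G if and only if σ is an affine map. -/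
theorem result (p : ℕ) [Fact p.Prime] (hp : p ≠ 2) (d : ℕ) (hd : 3 ≤ d) (G : Subgroup (Equiv.Perm (Fin d → ZMod p)))
    (haff : (G : Set (Equiv.Perm (Fin d → ZMod p))) ⊆ {τ : Equiv.Perm (Fin d → ZMod p) | ∃ (A : (Fin d → ZMod p) ≃ₗ[ZMod p] (Fin d → ZMod p)) (b : Fin d → ZMod p), ∀ x, τ x = A x + b})
    (htrans : ∀ b : Fin d → ZMod p, ∃ g ∈ G, ∀ x, g x = x + b)
    (hsl : ∀ A : (Fin d → ZMod p) ≃ₗ[ZMod p] (Fin d → ZMod p), LinearMap.det (A : (Fin d → ZMod p) →ₗ[ZMod p] (Fin d → ZMod p)) = 1 → ∃ g ∈ G, ∀ x, g x = A x)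
    (σ : Equiv.Perm (Fin d → ZMod p)) :
    (∀ t : Fin 3 → (Fin d → ZMod p), ∃ g ∈ G, ∀ i, σ (t i) = g (t i)) ↔ σ ∈ {τ : Equiv.Perm (Fin d → ZMod p) | ∃ (A : (Fin d → ZMod p) ≃ₗ[ZMod p] (Fin d → ZMod p)) (b : Fin d → ZMod p), ∀ x, τ x = A x + b} := by
  have hp2 : (2 : ZMod p) ≠ 0 := two_ne_zero' hp
  constructor
  · intro hσ
    exact affine_of_triples hp2 σ fun x y z => by
      obtain ⟨g, hg, hgt⟩ := hσ ![x, y, z]
      obtain ⟨A, b, hA⟩ := haff hg
      refine ⟨A, b, ?_, ?_, ?_⟩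
      · exact (hgt 0).trans (hA _)
      · exact (hgt 1).trans (hA _)
      · exact (hgt 2).trans (hA _)
  · rintro ⟨A, b, hA⟩ t
    obtain ⟨S, hS, h1, h2⟩ := exists_det_one hd A (t 1 - t 0) (t 2 - t 0)
    obtain ⟨g, hg, hgS⟩ := hsl S hS
    obtain ⟨T, hT, hTb⟩ := htrans (A (t 0) + b - S (t 0))
    refine ⟨T * g, G.mul_mem hT hg, fun i => ?_⟩
    rw [Equiv.Perm.mul_apply, hTb, hgS, hA]
    have hi : S (t i - t 0) = A (t i - t 0) := by
      fin_cases i
      · simp
      · exact h1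
      · exact h2
    rw [map_sub, map_sub] at hi
    linear_combination (norm := module) -hi

end Cfsg.Agent.S3516
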