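-- Solution for statement S3517.
import Cfsg.Statements.S3517
import Cfsg.Agent.Lib.ThreeClosure.Extend

set_option autoImplicit false
open Cfsg

namespace Cfsg.Agent.S3517

theorem zmod_two_cases : ∀ a : ZMod 2, a = 0 ∨ a = 1 := by decide

variable {V : Type*} [AddCommGroup V] [Module (ZMod 2) V]

theorem indep_of_distinct {a b c : V} (hab : a ≠ b) (hac : a ≠ c) (hbc : b ≠ c) :
    LinearIndependent (ZMod 2) ![b - a, c - a] := by
  rw [LinearIndependent.pair_iff]
  intro r s hrs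
  rcases zmod_two_cases r with hr | hr <;> rcases zmod_two_cases s with hs | hs <;>
    rw [hr, hs] at hrs ⊢
  · exact ⟨rfl, rfl⟩
  · rw [zero_smul, zero_add, one_smul, sub_eq_zero] at hrs
    exact absurd hrs.symm hac
  · rw [zero_smul, add_zero, one_smul, sub_eq_zero] at hrs
    exact absurd hrs.symm hab
  · exfalso
    rw [one_smul, one_smul, add_eq_zero_iff_eq_neg, ZModModule.neg_eq_self] at hrs
    exact hbc (sub_left_inj.1 hrs)

theorem affine_of_indep [FiniteDimensional (ZMod 2) V] {a b c a' b' c' : V}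
    (hab : a ≠ b) (hac : a ≠ c) (hbc : b ≠ c) (hab' : a' ≠ b') (hac' : a' ≠ c') (hbc' : b' ≠ c') :
    ∃ (A : V ≃ₗ[ZMod 2] V) (w : V), a' = A a + w ∧ b' = A b + w ∧ c' = A c + w := by
  obtain ⟨A, hA⟩ := Lib.ThreeClosure.Extend.exists_equiv_map (indep_of_distinct hab hac hbc)
    (indep_of_distinct hab' hac' hbc')
  have h1 : A (b - a) = b' - a' := hA 0
  have h2 : A (c - a) = c' - a' := hA 1
  rw [map_sub] at h1 h2
  refine ⟨A, a' - A a, (add_sub_cancel _ _).symm, ?_, ?_⟩
  · linear_combination (norm := module) -h1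
  · linear_combination (norm := module) -h2

theorem exists_avoid [Fintype V] (hV : 3 ≤ Fintype.card V) (x y : V) : ∃ z, x ≠ z ∧ y ≠ z := by
  classical
  by_contra h
  push Not at h
  have hsub : (Finset.univ : Finset V) ⊆ {x, y} := fun z _ => by
    rcases eq_or_ne x z with hz | hz
    · rw [hz]; exact Finset.mem_insert_self _ _
    · exact Finset.mem_insert_of_mem (Finset.mem_singleton.2 (h z hz).symm)
  have hc := (Finset.card_le_card hsub).trans Finset.card_le_two
  rw [Finset.card_univ] at hc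
  omega

theorem exists_distinct [Fintype V] (hV : 3 ≤ Fintype.card V) (x y z : V) :
    ∃ a b c : V, a ≠ b ∧ a ≠ c ∧ b ≠ c ∧ (x = a) ∧ (y = a ∨ y = b) ∧ (z = a ∨ z = b ∨ z = c) := by
  by_cases hxy : x = y
  · by_cases hxz : x = z
    · obtain ⟨b, hb, -⟩ := exists_avoid hV x x
      obtain ⟨c, hc, hc'⟩ := exists_avoid hV x b
      exact ⟨x, b, c, hb, hc, hc', rfl, Or.inl hxy.symm, Or.inl hxz.symm⟩
    · obtain ⟨c, hc, hc'⟩ := exists_avoid hV x z
      exact ⟨x, z, c, hxz, hc, hc', rfl, Or.inl hxy.symm, Or.inr (Or.inl rfl)⟩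
  · by_cases hxz : x = z
    · obtain ⟨c, hc, hc'⟩ := exists_avoid hV x y
      exact ⟨x, y, c, hxy, hc, hc', rfl, Or.inr rfl, Or.inl hxz.symm⟩
    · by_cases hyz : y = z
      · obtain ⟨c, hc, hc'⟩ := exists_avoid hV x y
        exact ⟨x, y, c, hxy, hc, hc', rfl, Or.inr rfl, Or.inr (Or.inl hyz.symm)⟩
      · exact ⟨x, y, z, hxy, hxz, hyz, rfl, Or.inr rfl, Or.inr (Or.inr rfl)⟩

theorem three_closure [FiniteDimensional (ZMod 2) V] [Fintype V] (hV : 3 ≤ Fintype.card V)
    (σ : Equiv.Perm V) (x y z : V) :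
    ∃ (A : V ≃ₗ[ZMod 2] V) (w : V), σ x = A x + w ∧ σ y = A y + w ∧ σ z = A z + w := by
  obtain ⟨a, b, c, hab, hac, hbc, hx, hy, hz⟩ := exists_distinct hV x y z
  obtain ⟨A, w, ha, hb, hc⟩ := affine_of_indep hab hac hbc
    (σ.injective.ne hab) (σ.injective.ne hac) (σ.injective.ne hbc)
  refine ⟨A, w, ?_, ?_, ?_⟩
  · rw [hx]; exact ha
  · rcases hy with h | h <;> rw [h] <;> assumption
  · rcases hz with h | h | h <;> rw [h] <;> assumption

/-- For d ≥ 3, the 3-closure of the affine group AGL_d(2) acting on F_2^d is the full symmetric group: every permutation of F_2^d agrees on every ordered triple of points with some affine map (AGL_d(2) is 3-transitive). -/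
theorem result (d : ℕ) (hd : 3 ≤ d) (σ : Equiv.Perm (Fin d → ZMod 2)) (t : Fin 3 → (Fin d → ZMod 2)) :
    ∃ (A : (Fin d → ZMod 2) ≃ₗ[ZMod 2] (Fin d → ZMod 2)) (b : Fin d → ZMod 2), ∀ i, σ (t i) = A (t i) + b := by
  have hV : 3 ≤ Fintype.card (Fin d → ZMod 2) := by
    rw [Fintype.card_fun, ZMod.card, Fintype.card_fin]
    exact le_trans (by norm_num) (Nat.pow_le_pow_right (by norm_num : 2 > 0) hd)
  obtain ⟨A, w, h0, h1, h2⟩ := three_closure hV σ (t 0) (t 1) (t 2)
  refine ⟨A, w, fun i => ?_⟩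
  fin_cases i <;> assumption

end Cfsg.Agent.S3517
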