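import Cfsg.Statements.S3518
import Mathlib
import Cfsg.Agent.Lib.ThreeClosure.Slopes

set_option autoImplicit false
open Cfsg

namespace Cfsg.Agent.S3518

/-- Closures of subgroups of the one-dimensional affine group. Let p be a prime and G a group of permutations of F_p lying in the affine group AGL₁(p) = {x ↦ ax + b, a ≠ 0} and containing all translations. (1) If G is a proper subgroup of AGL₁(p), then G is 2-closed: a permutation of F_p agreeing on every ordered pair of points with some element of G lies in G. (2) Every permutation of F_p agrees on every ordered pair with some element of AGL₁(p) (the 2-closure of AGL₁(p) is the symmetric group). (3) AGL₁(p) is 3-closed: a permutation agreeing on every ordered triple with some affine map is affine. -/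
theorem result (p : ℕ) [Fact p.Prime] (G : Subgroup (Equiv.Perm (ZMod p))) (hG : G ≤ Cfsg.affineGroup (ZMod p))
    (htrans : ∀ b : ZMod p, ∃ g ∈ G, ∀ x, g x = x + b) :
    (G ≠ Cfsg.affineGroup (ZMod p) → ∀ σ : Equiv.Perm (ZMod p), (∀ t : Fin 2 → ZMod p, ∃ g ∈ G, ∀ i, σ (t i) = g (t i)) → σ ∈ G) ∧
    (∀ σ : Equiv.Perm (ZMod p), (∀ t : Fin 2 → ZMod p, ∃ g ∈ Cfsg.affineGroup (ZMod p), ∀ i, σ (t i) = g (t i))) ∧
    (∀ σ : Equiv.Perm (ZMod p), (∀ t : Fin 3 → ZMod p, ∃ g ∈ Cfsg.affineGroup (ZMod p), ∀ i, σ (t i) = g (t i)) → σ ∈ Cfsg.affineGroup (ZMod p)) := by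
  classical
  have hp := (Fact.out : p.Prime)
  refine ⟨?_, ?_, ?_⟩
  · intro hne σ hσ
    let A : Subgroup (ZMod p)ˣ :=
      { carrier := {a | ∃ g ∈ G, ∃ b : ZMod p, ∀ x, g x = (a : ZMod p) * x + b}
        one_mem' := ⟨1, G.one_mem, 0, fun x => by simp⟩
        mul_mem' := by
          rintro a c ⟨g, hg, b, hgb⟩ ⟨h, hh, d, hhd⟩
          refine ⟨g * h, G.mul_mem hg hh, (a : ZMod p) * d + b, fun x => ?_⟩
          rw [Equiv.Perm.mul_apply, hgb, hhd, Units.val_mul]; ring
        inv_mem' := by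
          rintro a ⟨g, hg, b, hgb⟩
          refine ⟨g⁻¹, G.inv_mem hg, -(((a⁻¹ : (ZMod p)ˣ) : ZMod p) * b), fun x => ?_⟩
          apply g.injective
          rw [show g (g⁻¹ x) = x from g.apply_symm_apply x, hgb]
          have h2 : (a : ZMod p) * ((a⁻¹ : (ZMod p)ˣ) : ZMod p) = 1 := by
            rw [← Units.val_mul, mul_inv_cancel, Units.val_one]
          linear_combination (b - x) * h2 }
    have hmemG : ∀ τ : Equiv.Perm (ZMod p), ∀ a ∈ A, ∀ b : ZMod p,
        (∀ x, τ x = (a : ZMod p) * x + b) → τ ∈ G := by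
      rintro τ a ⟨g, hg, c, hgc⟩ b hτ
      obtain ⟨t, ht, htb⟩ := htrans (b - c)
      have : τ = t * g := Equiv.ext fun x => by
        rw [hτ, Equiv.Perm.mul_apply, htb, hgc]; ring
      rw [this]; exact G.mul_mem ht hg
    have hAtop : A ≠ ⊤ := by
      intro h
      refine hne (le_antisymm hG ?_)
      rintro τ ⟨a, b, hτ⟩
      exact hmemG τ a (h ▸ Subgroup.mem_top a) b hτ
    let S : Finset (ZMod p) := ((Finset.univ : Finset (ZMod p)ˣ).filter (· ∈ A)).image Units.val
    have hslope : ∀ x y, x ≠ y → (σ x - σ y) / (x - y) ∈ S := by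
      intro x y hxy
      obtain ⟨g, hg, hgt⟩ := hσ ![x, y]
      obtain ⟨a, b, hab⟩ := hG hg
      have e0 := hgt 0; have e1 := hgt 1
      simp only [Matrix.cons_val_zero, Matrix.cons_val_one, Matrix.cons_val] at e0 e1
      refine Finset.mem_image.2 ⟨a, Finset.mem_filter.2 ⟨Finset.mem_univ _, g, hg, b, hab⟩, ?_⟩
      rw [e0, e1, hab, hab, eq_div_iff (sub_ne_zero.2 hxy)]
      ring
    have hcard : 2 * S.card ≤ p - 1 := by
      have h1 : S.card = Nat.card A := by
        rw [Finset.card_image_of_injective _ Units.val_injective, Nat.card_eq_fintype_card]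
        exact (Fintype.card_subtype _).symm
      have h2 := Subgroup.index_mul_card A
      rw [Nat.card_units, Nat.card_zmod] at h2
      have h3 : A.index ≠ 1 := fun h => hAtop (Subgroup.index_eq_one.1 h)
      have h4 : A.index ≠ 0 := Subgroup.index_ne_zero_of_finite
      calc 2 * S.card = 2 * Nat.card A := by rw [h1]
        _ ≤ A.index * Nat.card A := Nat.mul_le_mul_right _ (by omega)
        _ = p - 1 := h2
    obtain ⟨a, b, hab⟩ := Lib.ThreeClosure.Slopes.affine_of_slopes σ S hslope hcard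
    have := hslope 1 0 one_ne_zero
    rw [hab, hab, show (a * 1 + b - (a * 0 + b)) / (1 - 0) = a by simp] at this
    obtain ⟨u, hu, hua⟩ := Finset.mem_image.1 this
    exact hmemG σ u (Finset.mem_filter.1 hu).2 b (fun x => by rw [hab, hua])
  · intro σ t
    by_cases h : t 0 = t 1
    · exact ⟨Equiv.addRight (σ (t 0) - t 0), ⟨1, σ (t 0) - t 0, fun x => by simp [Equiv.addRight]⟩,
        fun i => by fin_cases i <;> simp [h]⟩
    · have ha : (σ (t 1) - σ (t 0)) / (t 1 - t 0) ≠ 0 :=
        div_ne_zero (sub_ne_zero.2 fun e => h (σ.injective e).symm) (sub_ne_zero.2 (Ne.symm h))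
      let a : ZMod p := (σ (t 1) - σ (t 0)) / (t 1 - t 0)
      let g : Equiv.Perm (ZMod p) := (Equiv.mulLeft₀ a ha).trans (Equiv.addRight (σ (t 0) - a * t 0))
      refine ⟨g, ⟨Units.mk0 a ha, σ (t 0) - a * t 0, fun x => rfl⟩, fun i => ?_⟩
      fin_cases i
      · show σ (t 0) = a * t 0 + (σ (t 0) - a * t 0)
        ring
      · show σ (t 1) = a * t 1 + (σ (t 0) - a * t 0)
        have : a * (t 1 - t 0) = σ (t 1) - σ (t 0) := div_mul_cancel₀ _ (sub_ne_zero.2 (Ne.symm h))
        linear_combination -this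
  · intro σ hσ
    have ha : σ 1 - σ 0 ≠ 0 := sub_ne_zero.2 fun e => one_ne_zero (σ.injective e)
    refine ⟨Units.mk0 _ ha, σ 0, fun x => ?_⟩
    obtain ⟨g, ⟨a, b, hab⟩, hgt⟩ := hσ ![0, 1, x]
    have e0 := hgt 0; have e1 := hgt 1; have e2 := hgt 2
    simp only [Matrix.cons_val_zero, Matrix.cons_val_one, Matrix.cons_val] at e0 e1 e2
    rw [Units.val_mk0, e0, e1, e2, hab, hab, hab]
    ring

end Cfsg.Agent.S3518
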