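import Cfsg.Statements.S3520
import Cfsg.Agent.Lib.DerangeClasses.Affine

set_option autoImplicit false
open Cfsg

namespace Cfsg.Agent.S3520

/-- Let a finite group G act faithfully and primitively on a finite set Ω with at least two points, suppose G is not almost simple (no non-abelian simple normal subgroup with trivial centralizer), and suppose the derangements of G form exactly two conjugacy classes. Then either Ω has 3 points and G has order 3; or G has a non-trivial abelian normal subgroup N acting regularly, every non-identity element of G fixes at most one point (so, when n > 3, G is a Frobenius group with kernel N), the number n of points is odd and a point stabilizer has order (n − 1)/2; or G is 2-transitive with a non-trivial abelian regular normal subgroup and some non-identity element fixes at least two points (a non-Frobenius 2-transitive affine group). -/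
theorem result {G : Type*} [Group G] [Finite G] {Ω : Type*} [Fintype Ω] [MulAction G Ω] [FaithfulSMul G Ω] (hΩ : 2 ≤ Fintype.card Ω) (hprim : MulAction.IsPreprimitive G Ω) (hnas : ¬ ∃ T : Subgroup G, T.Normal ∧ IsSimpleGroup T ∧ ¬ IsMulCommutative T ∧ Subgroup.centralizer (T : Set G) = ⊥)
    (hκ : Nat.card {c : ConjClasses G // ∃ g : G, ConjClasses.mk g = c ∧ ∀ ω : Ω, g • ω ≠ ω} = 2) (α : Ω) :
    (Fintype.card Ω = 3 ∧ Nat.card G = 3) ∨
    ((∃ N : Subgroup G, N.Normal ∧ N ≠ ⊥ ∧ IsMulCommutative N ∧ ∀ ω : Ω, MulAction.stabilizer N ω = ⊥) ∧ (∀ g : G, g ≠ 1 → Nat.card (MulAction.fixedBy Ω g) ≤ 1) ∧ ¬ 2 ∣ Fintype.card Ω ∧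
        2 * Nat.card (MulAction.stabilizer G α) = Fintype.card Ω - 1) ∨
    ((∃ N : Subgroup G, N.Normal ∧ N ≠ ⊥ ∧ IsMulCommutative N ∧ ∀ ω : Ω, MulAction.stabilizer N ω = ⊥) ∧ MulAction.IsMultiplyPretransitive G Ω 2 ∧ ∃ g : G, g ≠ 1 ∧ 2 ≤ Nat.card (MulAction.fixedBy Ω g)) := by
  haveI : Nontrivial Ω := Fintype.one_lt_card_iff_nontrivial.1 hΩ
  classical
  have h3 : ∀ x y z : G, (∀ ω : Ω, x • ω ≠ ω) → (∀ ω : Ω, y • ω ≠ ω) → (∀ ω : Ω, z • ω ≠ ω) →
      IsConj x y ∨ IsConj x z ∨ IsConj y z :=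
    fun x y z hx hy hz => Lib.DerangeClasses.Affine.eq_or_eq_of_card_le_two hκ.le hx hy hz
  obtain ⟨N, hNn, hN, hNc, hNtr, hreg⟩ :=
    Lib.DerangeClasses.Socle.exists_abelian_normal (Ω := Ω) h3 hnas
  have hder : ∀ n ∈ N, n ≠ 1 → ∀ ω : Ω, n • ω ≠ ω := fun n hn hn1 ω hω => hn1 (by
    have hm : (⟨n, hn⟩ : N) ∈ MulAction.stabilizer N ω := hω
    rw [hreg ω, Subgroup.mem_bot] at hm
    exact congrArg Subtype.val hm)
  have hQ : ∃ N : Subgroup G, N.Normal ∧ N ≠ ⊥ ∧ IsMulCommutative N ∧
      ∀ ω : Ω, MulAction.stabilizer N ω = ⊥ := ⟨N, hNn, hN, hNc, hreg⟩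
  obtain ⟨α'⟩ := (inferInstance : Nonempty Ω)
  haveI := hNn
  haveI := hNtr
  obtain ⟨n₀, hn₀, hn₀1⟩ := N.ne_bot_iff_exists_ne_one.1 hN |>.elim
    (fun a ha => (⟨a.1, a.2, fun e => ha (Subtype.ext e)⟩ : ∃ x : G, x ∈ N ∧ x ≠ 1))
  right
  by_cases hfr : ∀ g : G, g ≠ 1 → Nat.card (MulAction.fixedBy Ω g) ≤ 1
  · left
    have hfix : ∀ g : G, g ≠ 1 → ∀ a b : Ω, g • a = a → g • b = b → a = b := fun g hg a b ha hb => by
      have := Finite.card_le_one_iff_subsingleton.1 (hfr g hg)
      exact congrArg Subtype.val (Subsingleton.elim (⟨a, ha⟩ : MulAction.fixedBy Ω g) ⟨b, hb⟩)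
    have hder' := Lib.DerangeClasses.Affine.card_derangements (G := G) (Ω := Ω) hfix
    -- the two classes
    let S := {c : ConjClasses G // ∃ g : G, ConjClasses.mk g = c ∧ ∀ ω : Ω, g • ω ≠ ω}
    obtain ⟨c₁, c₂, hc12, hcu⟩ := Nat.card_eq_two_iff.1 hκ
    obtain ⟨x₁, hx₁, hx₁d⟩ := c₁.2
    obtain ⟨x₂, hx₂, hx₂d⟩ := c₂.2
    have hcls : ∀ x : G, (∀ ω : Ω, x • ω ≠ ω) →
        Nat.card {y : G | IsConj x y} = Nat.card (MulAction.stabilizer G α) := by
      intro x hx
      have hxN := Lib.DerangeClasses.Affine.mem_of_derangement N α hfix hreg hx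
      have hC : Subgroup.centralizer ({x} : Set G) = N := by
        refine le_antisymm (fun c hc => ?_) fun n hn => Subgroup.mem_centralizer_iff.2 fun y hy => by
          rw [Set.mem_singleton_iff] at hy; subst hy
          exact congrArg Subtype.val (mul_comm' (⟨y, hxN⟩ : N) ⟨n, hn⟩)
        obtain ⟨n, hn, h, hh, rfl⟩ := Lib.Perm.Basic.exists_eq_mul_stabilizer N α c
        by_cases h1 : h = 1
        · rw [h1, mul_one]; exact hn
        exfalso
        have hcx : n * h * x = x * (n * h) := (Subgroup.mem_centralizer_iff.1 hc x rfl).symm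
        have hnx : n * x = x * n := congrArg Subtype.val (mul_comm' (⟨n, hn⟩ : N) ⟨x, hxN⟩)
        have hhx : h * x = x * h := by
          apply mul_left_cancel (a := n)
          rw [← mul_assoc, hcx, ← mul_assoc, ← hnx, mul_assoc]
        refine hx α (hfix h h1 _ _ ?_ hh)
        rw [← mul_smul, hhx, mul_smul, MulAction.mem_stabilizer_iff.1 hh]
      have h := Lib.DerangeClasses.Affine.card_conjugatesOf_mul x
      rw [hC, Lib.Perm.Basic.card_eq_card_mul_card_stabilizer (G := G) α,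
        Lib.Perm.Basic.card_eq_of_regular α (hreg α), mul_comm (Nat.card Ω)] at h
      exact Nat.eq_of_mul_eq_mul_right Nat.card_pos h
    have hunion : {x : G | ∀ ω : Ω, x • ω ≠ ω} = {y | IsConj x₁ y} ∪ {y | IsConj x₂ y} := by
      ext y
      constructor
      · intro hy
        have hyc : (⟨ConjClasses.mk y, y, rfl, hy⟩ : S) ∈ ({c₁, c₂} : Set S) := hcu ▸ Set.mem_univ _
        rcases hyc with h | h
        · left; exact ConjClasses.mk_eq_mk_iff_isConj.1 (hx₁.trans (congrArg Subtype.val h).symm)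
        · right; exact ConjClasses.mk_eq_mk_iff_isConj.1 (hx₂.trans (congrArg Subtype.val h).symm)
      · have hcl : ∀ x : G, (∀ ω : Ω, x • ω ≠ ω) → IsConj x y → ∀ ω : Ω, y • ω ≠ ω := by
          intro x hx hy ω hω
          obtain ⟨g, rfl⟩ := isConj_iff.1 hy
          refine hx (g⁻¹ • ω) ?_
          rw [mul_smul, mul_smul] at hω
          exact eq_inv_smul_iff.2 hω
        rintro (h | h)
        · exact hcl x₁ hx₁d h
        · exact hcl x₂ hx₂d h
    have hdisj : Disjoint {y : G | IsConj x₁ y} {y : G | IsConj x₂ y} := by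
      rw [Set.disjoint_left]
      intro y hy1 hy2
      refine hc12 (Subtype.ext ?_)
      rw [← hx₁, ← hx₂]
      exact ConjClasses.mk_eq_mk_iff_isConj.2 ((hy1 : IsConj x₁ y).trans (hy2 : IsConj x₂ y).symm)
    rw [hunion, Nat.card_coe_set_eq, Set.ncard_union_eq hdisj, ← Nat.card_coe_set_eq,
      ← Nat.card_coe_set_eq, hcls x₁ hx₁d, hcls x₂ hx₂d, Nat.card_eq_fintype_card (α := Ω)] at hder'
    refine ⟨hQ, hfr, ?_, by omega⟩
    intro hdvd
    omega
  · right
    push Not at hfr
    obtain ⟨g, hg1, hg2⟩ := hfr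
    refine ⟨hQ, Lib.DerangeClasses.Affine.two_pretransitive_of_conj N hNc ?_, g, hg1, hg2⟩
    intro a ha ha1 b hb hb1
    by_contra hab
    obtain ⟨u, hu⟩ : ∃ u : Ω, g • u = u := by
      have : Nonempty (MulAction.fixedBy Ω g) := (Nat.card_pos_iff.1 (by omega)).1
      obtain ⟨⟨u, hu⟩⟩ := this
      exact ⟨u, hu⟩
    obtain ⟨v, hv, huv⟩ : ∃ v : Ω, g • v = v ∧ u ≠ v := by
      by_contra h
      push Not at h
      haveI : Subsingleton (MulAction.fixedBy Ω g) :=
        ⟨fun s t => Subtype.ext ((h s.1 s.2).symm.trans (h t.1 t.2))⟩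
      have := Finite.card_le_one_iff_subsingleton.2 (inferInstance : Subsingleton (MulAction.fixedBy Ω g))
      omega
    have hDle : Lib.RecogThree.Derangements.D G Ω ≤ N := by
      refine (Subgroup.closure_le _).2 fun x hx => ?_
      rcases h3 a b x (hder a ha ha1) (hder b hb hb1) hx with h | h | h
      · exact absurd h hab
      · obtain ⟨c, rfl⟩ := isConj_iff.1 h
        exact hNn.conj_mem a ha c
      · obtain ⟨c, rfl⟩ := isConj_iff.1 h
        exact hNn.conj_mem b hb c
    exact hder g (hDle (Lib.RecogThree.Derangements.mem_D_of_fixes_two huv hu hv)) hg1 u hu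

end Cfsg.Agent.S3520
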