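import Cfsg.Statements.S3521
import Cfsg.Agent.Lib.ExtremePrim64.Main

set_option autoImplicit false
open Cfsg

namespace Cfsg.Agent.S3521

/-- Let a finite group G that is not solvable act faithfully and primitively on a finite set with p ^ d points (p prime), with a non-trivial abelian normal subgroup acting regularly (affine type) and with non-trivial point stabilizers each acting primitively on every one of its orbits (an insoluble extremely primitive group of affine type). Then p = 2; and if moreover G is not 2-transitive, then a point stabilizer is almost simple (it has a non-abelian simple normal subgroup with trivial centralizer). -/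
theorem result {G : Type*} [Group G] [Finite G] {Ω : Type*} [Fintype Ω] [MulAction G Ω] [FaithfulSMul G Ω] (p d : ℕ) (hp : p.Prime) (hcard : Fintype.card Ω = p ^ d) (hsol : ¬ Group.IsSolvable G)
    (N : Subgroup G) [N.Normal] (hN : N ≠ ⊥) (hNc : IsMulCommutative N) (hNreg : ∀ ω : Ω, MulAction.stabilizer N ω = ⊥)
    (hprim : MulAction.IsPreprimitive G Ω) (hH : ∀ α : Ω, MulAction.stabilizer G α ≠ ⊥) (hep : ∀ (α : Ω) (ω : Ω), MulAction.IsPreprimitive (MulAction.stabilizer G α) (MulAction.orbit (MulAction.stabilizer G α) ω)) (α : Ω) :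
    p = 2 ∧ (¬ MulAction.IsMultiplyPretransitive G Ω 2 → ∃ T : Subgroup (MulAction.stabilizer G α), T.Normal ∧ IsSimpleGroup T ∧ ¬ IsMulCommutative T ∧ Subgroup.centralizer (T : Set (MulAction.stabilizer G α)) = ⊥) := by
  classical
  haveI : Fact p.Prime := ⟨hp⟩
  let H := MulAction.stabilizer G α
  haveI := hNc
  letI : CommGroup N := open IsMulCommutative in inferInstance
  haveI := hprim
  have htr : ∀ (M : Subgroup G), M.Normal → M ≠ ⊥ → ∀ ω : Ω, ∃ m ∈ M, m • α = ω := by
    intro M hM hM1 ω
    haveI := hM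
    have hfix : MulAction.fixedPoints M Ω ≠ Set.univ := fun h => hM1 ((Subgroup.eq_bot_iff_forall M).2
      fun m hm => eq_of_smul_eq_smul (α := Ω) fun a => by
        rw [one_smul]; exact (h ▸ Set.mem_univ a : a ∈ MulAction.fixedPoints M Ω) ⟨m, hm⟩)
    haveI := MulAction.IsQuasiPreprimitive.isPretransitive_of_normal hfix
    obtain ⟨⟨m, hm⟩, h⟩ := MulAction.exists_smul_eq M α ω
    exact ⟨m, hm, h⟩
  have hinjN : ∀ a b : N, (a : G) • α = (b : G) • α → a = b := fun a b h => by
    have : b⁻¹ * a ∈ MulAction.stabilizer N α := by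
      rw [MulAction.mem_stabilizer_iff, mul_smul, inv_smul_eq_iff]
      exact h
    rw [hNreg, Subgroup.mem_bot, inv_mul_eq_one] at this
    exact this.symm
  have hminN : ∀ M : Subgroup G, M.Normal → M ≤ N → M ≠ ⊥ → M = N := fun M hM hle h1 => by
    refine le_antisymm hle fun n hn => ?_
    obtain ⟨m, hm, he⟩ := htr M hM h1 (n • α)
    have := hinjN ⟨m, hle hm⟩ ⟨n, hn⟩ he
    have e : m = n := congrArg Subtype.val this
    exact e ▸ hm
  have hcardN : Nat.card N = p ^ d := by
    rw [← hcard, ← Nat.card_eq_fintype_card]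
    refine Nat.card_congr (Equiv.ofBijective (fun n : N => (n : G) • α) ⟨hinjN, fun ω => ?_⟩)
    obtain ⟨m, hm, h⟩ := htr N inferInstance hN ω
    exact ⟨⟨m, hm⟩, h⟩
  have hexp : ∀ n : N, n ^ p = 1 := by
    let M : Subgroup G := (powMonoidHom p : N →* N).ker.map N.subtype
    have hMn : M.Normal := ⟨by
      rintro _ ⟨n, hn, rfl⟩ g
      refine ⟨⟨g * n * g⁻¹, Subgroup.Normal.conj_mem inferInstance n.1 n.2 g⟩, ?_, rfl⟩
      rw [SetLike.mem_coe, MonoidHom.mem_ker, powMonoidHom_apply] at hn ⊢
      apply Subtype.ext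
      show (g * n * g⁻¹) ^ p = 1
      rw [conj_pow, ← SubgroupClass.coe_pow, hn, Subgroup.coe_one, mul_one, mul_inv_cancel]⟩
    have hd : 0 < d := by
      rcases Nat.eq_zero_or_pos d with h | h
      · refine absurd (Subgroup.card_eq_one.1 (?_ : Nat.card N = 1)) hN
        rw [hcardN, h, pow_zero]
      · exact h
    obtain ⟨n, hn⟩ := exists_prime_orderOf_dvd_card' (G := N) p (hcardN ▸ dvd_pow_self p hd.ne')
    have hM1 : M ≠ ⊥ := fun h => by
      have h' : (n : G) ∈ M := ⟨n, by
        rw [SetLike.mem_coe, MonoidHom.mem_ker, powMonoidHom_apply, ← hn, pow_orderOf_eq_one], rfl⟩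
      rw [h, Subgroup.mem_bot] at h'
      rw [show n = 1 from Subtype.ext h', orderOf_one] at hn
      exact hp.one_lt.ne hn
    intro x
    obtain ⟨y, hy, hyx⟩ : (x : G) ∈ M := (hminN M hMn (Subgroup.map_subtype_le _) hM1).symm ▸ x.2
    rw [← Subtype.ext hyx]
    exact hy
  letI : Module (ZMod p) (Additive N) :=
    AddCommGroup.zmodModule (n := p) (G := Additive N) fun x : Additive N => Additive.toMul.injective (hexp x.toMul)
  let conjA : H → Additive N →+ Additive N := fun h =>
    { toFun := fun x => Additive.ofMul (⟨h.1 * x.toMul.1 * h.1⁻¹,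
        Subgroup.Normal.conj_mem inferInstance _ x.toMul.2 _⟩ : N)
      map_zero' := Additive.toMul.injective (Subtype.ext (by simp))
      map_add' := fun x y => Additive.toMul.injective (Subtype.ext (by
        show h.1 * (x.toMul.1 * y.toMul.1) * h.1⁻¹ = h.1 * x.toMul.1 * h.1⁻¹ * (h.1 * y.toMul.1 * h.1⁻¹)
        group)) }
  let ρ₀ : H → Module.End (ZMod p) (Additive N) := fun h => (conjA h).toZModLinearMap p
  have hρ₀ : ∀ h x, ((ρ₀ h x).toMul : G) = h.1 * (x.toMul : G) * h.1⁻¹ := fun _ _ => rfl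
  let ρ : Representation (ZMod p) H (Additive N) :=
    { toFun := ρ₀
      map_one' := LinearMap.ext fun x => Additive.toMul.injective (Subtype.ext (by
        rw [hρ₀, Module.End.one_apply, Subgroup.coe_one, one_mul, inv_one, mul_one]))
      map_mul' := fun a b => LinearMap.ext fun x => Additive.toMul.injective (Subtype.ext (by
        rw [Module.End.mul_apply, hρ₀, hρ₀, hρ₀, Subgroup.coe_mul]; group)) }
  have hρα : ∀ (h : H) (x : Additive N), ((ρ h x).toMul.1) • α = h.1 • (x.toMul.1 • α) := fun h x => by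
    rw [show ((ρ h x).toMul : G) = _ from hρ₀ h x, mul_smul, mul_smul, inv_smul_eq_iff.2 h.2.symm]
  have hρfix : ∀ (h : H) (x : Additive N), ρ h x = x ↔ h.1 • (x.toMul.1 • α) = x.toMul.1 • α :=
    fun h x => by
      rw [← hρα]
      exact ⟨fun e => by rw [e], fun e => Additive.toMul.injective (hinjN _ _ e)⟩
  have hinj : Function.Injective ρ := (injective_iff_map_eq_one ρ).2 fun h hh => by
    refine Subtype.ext (eq_of_smul_eq_smul (α := Ω) fun ω => ?_)
    obtain ⟨m, hm, rfl⟩ := htr N inferInstance hN ω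
    rw [Subgroup.coe_one, one_smul]
    exact (hρfix h (Additive.ofMul ⟨m, hm⟩)).1 (by rw [hh]; rfl)
  have hirr : ∀ U : Submodule (ZMod p) (Additive N), (∀ h, ∀ u ∈ U, ρ h u ∈ U) → U = ⊥ ∨ U = ⊤ := by
    intro U hU
    let M : Subgroup G := (AddSubgroup.toSubgroup' U.toAddSubgroup).map N.subtype
    have hMn : M.Normal := ⟨by
      rintro _ ⟨x, hx, rfl⟩ g
      obtain ⟨n, hn, hng⟩ := htr N inferInstance hN (g • α)
      have hh : n⁻¹ * g ∈ H := by
        show (n⁻¹ * g) • α = α
        rw [mul_smul, inv_smul_eq_iff, hng]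
      refine ⟨(ρ ⟨_, hh⟩ (Additive.ofMul x)).toMul, hU _ _ hx, ?_⟩
      show n⁻¹ * g * x.1 * (n⁻¹ * g)⁻¹ = g * x.1 * g⁻¹
      have hc := congrArg Subtype.val (mul_comm (⟨n, hn⟩ : N)
        ⟨g * x.1 * g⁻¹, Subgroup.Normal.conj_mem inferInstance _ x.2 g⟩)
      simp only [Subgroup.coe_mul] at hc
      calc n⁻¹ * g * x.1 * (n⁻¹ * g)⁻¹ = n⁻¹ * ((g * x.1 * g⁻¹) * n) := by group
        _ = g * x.1 * g⁻¹ := by rw [← hc, inv_mul_cancel_left]⟩
    by_cases hb : M = ⊥
    · left
      rw [Submodule.eq_bot_iff]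
      intro x hx
      have : (x.toMul : G) ∈ M := ⟨x.toMul, hx, rfl⟩
      rw [hb, Subgroup.mem_bot] at this
      exact Additive.toMul.injective (Subtype.ext this)
    · right
      rw [Submodule.eq_top_iff']
      intro x
      obtain ⟨y, hy, hyx⟩ : (x.toMul : G) ∈ M :=
        (hminN M hMn (Subgroup.map_subtype_le _) hb).symm ▸ x.toMul.2
      have : y = x.toMul := Subtype.ext hyx
      subst this
      exact hy
  have hns : ¬ Group.IsSolvable H := by
    intro hs
    haveI := hs
    haveI : Group.IsSolvable N := Group.isSolvable_of_comm fun a b => hNc.is_comm.comm a b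
    haveI : Group.IsSolvable (G ⧸ N) := by
      refine Group.isSolvable_of_surjective (f := (QuotientGroup.mk' N).comp H.subtype) fun q => ?_
      obtain ⟨g, rfl⟩ := QuotientGroup.mk'_surjective N q
      obtain ⟨n, hn, hng⟩ := htr N inferInstance hN (g • α)
      refine ⟨⟨n⁻¹ * g, by
        show (n⁻¹ * g) • α = α
        rw [mul_smul, inv_smul_eq_iff, hng]⟩, ?_⟩
      simp [(QuotientGroup.eq_one_iff n).2 hn]
    exact hsol (Group.isSolvable_of_ker_le_range N.subtype (QuotientGroup.mk' N) (by simp))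
  have hmax : ∀ v : Additive N, v ≠ 0 → ∃ M : Subgroup H, IsCoatom M ∧ ∀ h, h ∈ M ↔ ρ h v = v := by
    intro v hv
    let ω := v.toMul.1 • α
    haveI := hep α ω
    obtain ⟨h₀, hh₀⟩ : ∃ h : H, h.1 • ω ≠ ω := by
      by_contra! hall
      let U : Submodule (ZMod p) (Additive N) :=
        { carrier := {w | ∀ h, ρ h w = w}
          add_mem' := fun {a b} ha hb h => by rw [map_add, ha h, hb h]
          zero_mem' := fun h => map_zero _
          smul_mem' := fun r a ha h => by rw [map_smul, ha h] }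
      rcases hirr U (fun h u hu h' => by rw [hu h, hu h']) with h | h
      · exact hv ((Submodule.eq_bot_iff U).1 h v fun g => (hρfix g v).2 (hall g))
      · exact hns (Group.isSolvable_of_comm fun a b => hinj (LinearMap.ext fun w => by
          have hw : w ∈ U := h ▸ Submodule.mem_top
          rw [map_mul, map_mul, Module.End.mul_apply, Module.End.mul_apply, hw a, hw b, hw a]))
    haveI : Nontrivial (MulAction.orbit H ω) :=
      ⟨⟨ω, MulAction.mem_orbit_self ω⟩, ⟨h₀ • ω, MulAction.mem_orbit ω h₀⟩, fun e =>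
        hh₀ (congrArg Subtype.val e).symm⟩
    refine ⟨MulAction.stabilizer H (⟨ω, MulAction.mem_orbit_self ω⟩ : MulAction.orbit H ω),
      (MulAction.isCoatom_stabilizer_iff_preprimitive H _).2 inferInstance, fun h => ?_⟩
    rw [hρfix, MulAction.mem_stabilizer_iff]
    exact Subtype.ext_iff
  have X : Cfsg.Agent.Lib.ExtremePrim64.Ext ρ := ⟨hinj, hirr, hns, hmax⟩
  exact ⟨Cfsg.Agent.Lib.ExtremePrim64.p_eq_two X,
    fun _ => Cfsg.Agent.Lib.ExtremePrim64.exists_simple_normal X⟩

end Cfsg.Agent.S3521
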