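import Cfsg.Statements.S3532
import Cfsg.Agent.Lib.RecogThree.FieldFrobenius
import Cfsg.Agent.Lib.RecogThree.PSL2Orders
-- import your own Cfsg.Agent.* helpers here

set_option autoImplicit false
open Cfsg

namespace Cfsg.Agent.S3532

theorem lcm_pairs {p a b m n : ℕ} (hp : p.Prime) (hm : m ∣ p ∨ m ∣ a ∨ m ∣ b)
    (hn : n ∣ p ∨ n ∣ a ∨ n ∣ b) :
    ∃ c d, (c ∣ p ∨ c ∣ b) ∧ (d ∣ p ∨ d ∣ a) ∧ Nat.lcm c d = Nat.lcm m n := by
  rcases hm with hm | hm | hm <;> rcases hn with hn | hn | hn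
  · exact ⟨m, n, Or.inl hm, Or.inl hn, rfl⟩
  · exact ⟨m, n, Or.inl hm, Or.inr hn, rfl⟩
  · exact ⟨n, m, Or.inr hn, Or.inl hm, Nat.lcm_comm n m⟩
  · exact ⟨n, m, Or.inl hn, Or.inr hm, Nat.lcm_comm n m⟩
  · exact ⟨1, Nat.lcm m n, Or.inl (one_dvd _), Or.inr (Nat.lcm_dvd hm hn), Nat.lcm_one_left _⟩
  · exact ⟨n, m, Or.inr hn, Or.inr hm, Nat.lcm_comm n m⟩
  · exact ⟨m, n, Or.inr hm, Or.inl hn, rfl⟩
  · exact ⟨m, n, Or.inr hm, Or.inr hn, rfl⟩
  · exact ⟨Nat.lcm m n, 1, Or.inr (Nat.lcm_dvd hm hn), Or.inl (one_dvd _), Nat.lcm_one_right _⟩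

/-- Let q ≥ 4 be a prime power and L = PSL(2,q). There is a finite solvable group with the same set of element orders as L × L (so L × L is not determined by its spectrum). -/
theorem result {F : Type*} [Field F] [Fintype F] (hF : 4 ≤ Fintype.card F) :
    ∃ (H : Type) (_ : Group H) (_ : Finite H), Group.IsSolvable H ∧
      Set.range (orderOf : H → ℕ) = Set.range (orderOf : Matrix.ProjectiveSpecialLinearGroup (Fin 2) F × Matrix.ProjectiveSpecialLinearGroup (Fin 2) F → ℕ) := by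
  obtain ⟨p, hcp⟩ := CharP.exists F
  obtain ⟨k, hp, hk⟩ := FiniteField.card F p
  have := Fact.mk hp
  set q := Fintype.card F with hq
  set a := (q - 1) / Lib.RecogThree.PSL2Orders.dd q with ha
  set b := (q + 1) / Lib.RecogThree.PSL2Orders.dd q with hb
  have ha' : a ∣ q - 1 := by
    rw [ha]; unfold Lib.RecogThree.PSL2Orders.dd
    split_ifs with h
    · simp
    · exact Nat.div_dvd_of_dvd (by omega)
  have hb' : b ∣ q + 1 := by
    rw [hb]; unfold Lib.RecogThree.PSL2Orders.dd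
    split_ifs with h
    · simp
    · exact Nat.div_dvd_of_dvd (by omega)
  have hb2 : b ∣ p ^ ((k : ℕ) * 2) - 1 := by
    refine hb'.trans ⟨q - 1, ?_⟩
    rw [pow_mul, ← hk, ← Nat.sq_sub_sq, one_pow]
  obtain ⟨K₁, i₁, f₁, hr₁, -, hs₁, -⟩ := Lib.RecogThree.FieldFrobenius.exists_frobenius p a k
    k.ne_zero (hk ▸ ha')
  obtain ⟨K₂, i₂, f₂, hr₂, -, hs₂, -⟩ := Lib.RecogThree.FieldFrobenius.exists_frobenius p b
    ((k : ℕ) * 2) (by simp) hb2
  have := hs₁; have := hs₂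
  refine ⟨K₂ × K₁, inferInstance, inferInstance, inferInstance, ?_⟩
  have hP := Lib.RecogThree.PSL2Orders.range_orderOf (F := F) p
  rw [← hq, ← ha, ← hb] at hP
  ext m
  constructor
  · rintro ⟨⟨x, y⟩, rfl⟩
    have hx : orderOf x ∈ Set.range (orderOf : K₂ → ℕ) := ⟨x, rfl⟩
    have hy : orderOf y ∈ Set.range (orderOf : K₁ → ℕ) := ⟨y, rfl⟩
    rw [hr₂, Set.mem_insert_iff] at hx
    rw [hr₁, Set.mem_insert_iff] at hy
    obtain ⟨u, hu⟩ : ∃ u : Matrix.ProjectiveSpecialLinearGroup (Fin 2) F, orderOf u = orderOf x := by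
      rw [← Set.mem_range, hP]
      rcases hx with h | h
      · exact Or.inl (h ▸ dvd_rfl)
      · exact Or.inr (Or.inr h)
    obtain ⟨v, hv⟩ : ∃ v : Matrix.ProjectiveSpecialLinearGroup (Fin 2) F, orderOf v = orderOf y := by
      rw [← Set.mem_range, hP]
      rcases hy with h | h
      · exact Or.inl (h ▸ dvd_rfl)
      · exact Or.inr (Or.inl h)
    exact ⟨(u, v), by rw [Prod.orderOf, Prod.orderOf, hu, hv]⟩
  · rintro ⟨⟨u, v⟩, rfl⟩
    have h1 : orderOf (u, v).1 ∈ Set.range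
        (orderOf : Matrix.ProjectiveSpecialLinearGroup (Fin 2) F → ℕ) := ⟨u, rfl⟩
    have h2 : orderOf (u, v).2 ∈ Set.range
        (orderOf : Matrix.ProjectiveSpecialLinearGroup (Fin 2) F → ℕ) := ⟨v, rfl⟩
    rw [hP] at h1 h2
    obtain ⟨c, d, hc, hd, hcd⟩ := lcm_pairs hp h1 h2
    obtain ⟨x, hx⟩ : c ∈ Set.range (orderOf : K₂ → ℕ) := by
      rw [hr₂, Set.mem_insert_iff]
      rcases hc with hc | hc
      · rcases (Nat.dvd_prime hp).1 hc with rfl | rfl
        · exact Or.inr (one_dvd _)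
        · exact Or.inl rfl
      · exact Or.inr hc
    obtain ⟨y, hy⟩ : d ∈ Set.range (orderOf : K₁ → ℕ) := by
      rw [hr₁, Set.mem_insert_iff]
      rcases hd with hd | hd
      · rcases (Nat.dvd_prime hp).1 hd with rfl | rfl
        · exact Or.inr (one_dvd _)
        · exact Or.inl rfl
      · exact Or.inr hd
    exact ⟨(x, y), by rw [Prod.orderOf, Prod.orderOf, hx, hy, hcd]⟩


end Cfsg.Agent.S3532
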