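import Cfsg.Statements.S3547
import Cfsg.Agent.Lib.RecogThree.Derangements
-- import your own Cfsg.Agent.* helpers here

set_option autoImplicit false
open Cfsg

namespace Cfsg.Agent.S3547

open MulAction in
theorem rank_formula {G Y : Type*} [Group G] [Finite G] [MulAction G Y] [Finite Y]
    [IsPretransitive G Y] :
    Nat.card (orbitRel.Quotient G (Y × Y)) * (Lib.RecogThree.Derangements.D G Y).index + 1 =
      Nat.card (orbitRel.Quotient ↥(Lib.RecogThree.Derangements.D G Y) (Y × Y)) +
        (Lib.RecogThree.Derangements.D G Y).index := by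
  classical
  have := Fintype.ofFinite G
  have := Fintype.ofFinite Y
  have hB1 := sum_card_fixedBy_eq_card_orbits_mul_card_group G (Y × Y)
  have hB2 := sum_card_fixedBy_eq_card_orbits_mul_card_group
    (↥(Lib.RecogThree.Derangements.D G Y)) (Y × Y)
  have hf : ∀ g : G, g ∉ Lib.RecogThree.Derangements.D G Y →
      Fintype.card (fixedBy (Y × Y) g) = 1 := by
    intro g hg
    have h1 : Fintype.card (fixedBy Y g) = 1 := by
      rw [← Nat.card_eq_fintype_card]
      exact Lib.RecogThree.Derangements.card_fixedBy_eq_one hg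
    have e : fixedBy (Y × Y) g ≃ fixedBy Y g × fixedBy Y g :=
      { toFun := fun z => (⟨z.1.1, congrArg Prod.fst z.2⟩, ⟨z.1.2, congrArg Prod.snd z.2⟩)
        invFun := fun z => ⟨(z.1, z.2), Prod.ext z.1.2 z.2.2⟩
        left_inv := fun _ => rfl
        right_inv := fun _ => rfl }
    rw [Fintype.card_congr e, Fintype.card_prod, h1]
  let F : G → ℕ := fun g => Fintype.card (fixedBy (Y × Y) g)
  let S := Finset.univ.filter (fun g : G => g ∈ Lib.RecogThree.Derangements.D G Y)
  have hsplit : ∑ g ∈ S, F g + ∑ g ∈ Sᶜ, F g = ∑ g, F g := Finset.sum_add_sum_compl S F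
  have hSD : ∑ g ∈ S, F g = ∑ d : ↥(Lib.RecogThree.Derangements.D G Y), F d :=
    Finset.sum_subtype S (by simp [S]) F
  have hSc : ∑ g ∈ Sᶜ, F g = Sᶜ.card := by
    rw [Finset.card_eq_sum_ones]
    exact Finset.sum_congr rfl fun g hg => hf g (by simpa [S] using hg)
  have hScard : S.card = Nat.card ↥(Lib.RecogThree.Derangements.D G Y) := by
    rw [Nat.card_eq_fintype_card, Fintype.card_subtype]
  rw [hSD, hSc, Finset.card_compl, hScard] at hsplit
  have hi := Subgroup.index_mul_card (Lib.RecogThree.Derangements.D G Y)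
  have hq1 : Fintype.card (Quotient (orbitRel G (Y × Y)))
      = Nat.card (orbitRel.Quotient G (Y × Y)) := Nat.card_eq_fintype_card.symm
  have hq2 : Fintype.card (Quotient (orbitRel (↥(Lib.RecogThree.Derangements.D G Y)) (Y × Y)))
      = Nat.card (orbitRel.Quotient ↥(Lib.RecogThree.Derangements.D G Y) (Y × Y)) :=
    Nat.card_eq_fintype_card.symm
  rw [hq1] at hB1; rw [hq2] at hB2
  simp only [← Nat.card_eq_fintype_card] at hB1 hB2 hsplit
  have hF : ∀ g : G, F g = Nat.card (fixedBy (Y × Y) g) := fun g => Nat.card_eq_fintype_card.symm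
  simp only [hF] at hsplit
  have hB2' : ∑ d : ↥(Lib.RecogThree.Derangements.D G Y), Nat.card (fixedBy (Y × Y) (d : G)) =
      Nat.card (orbitRel.Quotient ↥(Lib.RecogThree.Derangements.D G Y) (Y × Y)) *
        Nat.card ↥(Lib.RecogThree.Derangements.D G Y) := hB2
  rw [hB1, hB2'] at hsplit
  have hpos : 0 < Nat.card ↥(Lib.RecogThree.Derangements.D G Y) := Nat.card_pos
  have hle : Nat.card ↥(Lib.RecogThree.Derangements.D G Y) ≤ Nat.card G :=
    Subgroup.card_le_card_group _
  refine Nat.eq_of_mul_eq_mul_right hpos ?_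
  rw [add_mul, add_mul, mul_assoc, hi, one_mul]
  omega

/-- Let G act faithfully and transitively on a finite set Ω, let D be the subgroup generated by the derangements, and let r_G and r_D be the numbers of orbits of G and of D on ordered pairs of points (the permutation ranks). Then r_D − 1 = (r_G − 1)·[G : D]. -/
theorem result {G Ω : Type*} [Group G] [Finite G] [MulAction G Ω] [FaithfulSMul G Ω] [Finite Ω]
    (htrans : MulAction.IsPretransitive G Ω) :
    Nat.card (MulAction.orbitRel.Quotient ↥(Subgroup.closure {g : G | ∀ ω : Ω, g • ω ≠ ω}) (Ω × Ω)) - 1 =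
      (Nat.card (MulAction.orbitRel.Quotient G (Ω × Ω)) - 1) * (Subgroup.closure {g : G | ∀ ω : Ω, g • ω ≠ ω}).index := by
  classical
  have := Fintype.ofFinite G
  have := Fintype.ofFinite Ω
  have key := rank_formula (G := G) (Y := Ω)
  set rG := Nat.card (MulAction.orbitRel.Quotient G (Ω × Ω)) with hrG
  set rD := Nat.card (MulAction.orbitRel.Quotient
    ↥(Lib.RecogThree.Derangements.D G Ω) (Ω × Ω)) with hrD
  change rD - 1 = (rG - 1) * (Lib.RecogThree.Derangements.D G Ω).index
  have hd : 1 ≤ (Lib.RecogThree.Derangements.D G Ω).index :=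
    Nat.one_le_iff_ne_zero.2 Subgroup.index_ne_zero_of_finite
  rw [Nat.sub_one_mul]
  omega


end Cfsg.Agent.S3547
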