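import Cfsg.Statements.S3548
import Cfsg.Agent.Lib.RecogThree.Derangements
-- import your own Cfsg.Agent.* helpers here

set_option autoImplicit false
open Cfsg

namespace Cfsg.Agent.S3548

/-- Let G act faithfully and transitively on a finite set with n ≥ 2 points and let D be the subgroup generated by the derangements. Then the index of D in G divides n − 1, and if it equals n − 1 then n is a prime power. -/
theorem result {G Ω : Type*} [Group G] [Finite G] [MulAction G Ω] [FaithfulSMul G Ω] [Finite Ω]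
    (htrans : MulAction.IsPretransitive G Ω) (hΩ : 2 ≤ Nat.card Ω) :
    (Subgroup.closure {g : G | ∀ ω : Ω, g • ω ≠ ω}).index ∣ Nat.card Ω - 1 ∧
    ((Subgroup.closure {g : G | ∀ ω : Ω, g • ω ≠ ω}).index = Nat.card Ω - 1 → IsPrimePow (Nat.card Ω)) := by
  classical
  have hne : Nonempty Ω := (Nat.card_pos_iff.1 (by omega)).1
  obtain ⟨a⟩ := hne
  refine ⟨Lib.RecogThree.Derangements.index_dvd_card_sub_one a, fun heq => ?_⟩
  change (Lib.RecogThree.Derangements.D G Ω).index = _ at heq
  let D := Lib.RecogThree.Derangements.D G Ω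
  have hDt : MulAction.IsPretransitive D Ω := Lib.RecogThree.Derangements.D_pretransitive G Ω
  have hN : D.Normal := Lib.RecogThree.Derangements.D_normal G Ω
  have horb : ∀ b : Ω, b ≠ a → MulAction.orbit (MulAction.stabilizer G a) b = {a}ᶜ := by
    intro b hb
    refine Set.eq_of_subset_of_ncard_le ?_ ?_
    · rintro _ ⟨g, rfl⟩ (he : (g : G) • b = a)
      exact hb (smul_left_cancel (g : G) (he.trans g.2.symm))
    · rw [Set.ncard_compl, Set.ncard_singleton, ← Nat.card_coe_set_eq, ← heq]
      have : Nonempty (MulAction.orbit (MulAction.stabilizer G a) b) := ⟨⟨b, MulAction.mem_orbit_self b⟩⟩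
      have hpos : 0 < Nat.card (MulAction.orbit (MulAction.stabilizer G a) b) :=
        Nat.card_pos (α := MulAction.orbit (MulAction.stabilizer G a) b)
      exact Nat.le_of_dvd hpos (Lib.RecogThree.Derangements.index_dvd_orbit hb).1
  have hreg : ∀ d : G, d ∈ D → d • a = a → d = 1 := by
    intro d hd hda
    refine FaithfulSMul.eq_of_smul_eq_smul (α := Ω) fun b => ?_
    rw [one_smul]
    by_cases hb : b = a
    · rw [hb, hda]
    · refine (Lib.RecogThree.Derangements.index_dvd_orbit hb).2 ?_ d hd hda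
      rw [heq, horb b hb, Nat.card_coe_set_eq, Set.ncard_compl, Set.ncard_singleton]
  have hcardD : Nat.card D = Nat.card Ω := by
    refine Nat.card_congr (Equiv.ofBijective (fun d : D => (d : G) • a) ⟨fun x y h => ?_, fun b => ?_⟩)
    · have h' : (y : G)⁻¹ * x = 1 :=
        hreg _ (D.mul_mem (D.inv_mem y.2) x.2) (by rw [mul_smul, inv_smul_eq_iff]; exact h)
      exact Subtype.ext (inv_mul_eq_one.1 h').symm
    · exact MulAction.exists_smul_eq D a b
  have hconj : ∀ x y : D, x ≠ 1 → y ≠ 1 → orderOf x = orderOf y := by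
    intro x y hx hy
    have hxa : (x : G) • a ≠ a := fun h => hx (Subtype.ext (hreg _ x.2 h))
    have hya : (y : G) • a ≠ a := fun h => hy (Subtype.ext (hreg _ y.2 h))
    have hmem : (y : G) • a ∈ MulAction.orbit (MulAction.stabilizer G a) ((x : G) • a) := by
      rw [horb _ hxa]; exact hya
    obtain ⟨⟨g, hga⟩, hg⟩ := hmem
    have hg' : g • (x : G) • a = (y : G) • a := hg
    have hga' : g⁻¹ • a = a := by rw [inv_smul_eq_iff]; exact (MulAction.mem_stabilizer_iff.1 hga).symm
    have h1 : (y : G)⁻¹ * (g * x * g⁻¹) = 1 :=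
      hreg _ (D.mul_mem (D.inv_mem y.2) (hN.conj_mem _ x.2 g)) (by
        rw [mul_smul, mul_smul, mul_smul, hga', hg', inv_smul_smul])
    rw [inv_mul_eq_one] at h1
    rw [← Subgroup.orderOf_coe x, ← Subgroup.orderOf_coe y, h1,
      show g * (x : G) * g⁻¹ = MulAut.conj g (x : G) by simp, MulEquiv.orderOf_eq]
  rw [isPrimePow_iff_unique_prime_dvd]
  obtain ⟨p, hp, hpd⟩ := Nat.exists_prime_and_dvd (n := Nat.card Ω) (by omega)
  refine ⟨p, ⟨hp, hpd⟩, fun q ⟨hq, hqd⟩ => ?_⟩
  have := Fact.mk hp; have := Fact.mk hq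
  obtain ⟨x, hx⟩ := exists_prime_orderOf_dvd_card' (G := D) p (hcardD ▸ hpd)
  obtain ⟨y, hy⟩ := exists_prime_orderOf_dvd_card' (G := D) q (hcardD ▸ hqd)
  rw [← hx, ← hy]
  refine hconj y x ?_ ?_
  · rintro rfl; rw [orderOf_one] at hy; exact hq.one_lt.ne hy
  · rintro rfl; rw [orderOf_one] at hx; exact hp.one_lt.ne hx


end Cfsg.Agent.S3548
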