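import Cfsg.Statements.S3549
import Cfsg.Agent.Lib.RecogThree.Derangements
-- import your own Cfsg.Agent.* helpers here

set_option autoImplicit false
open Cfsg

namespace Cfsg.Agent.S3549

open scoped Pointwise

/-- Let G act faithfully, transitively but imprimitively on a finite set with n points, and let D be the subgroup generated by the derangements. Then the index of D in G is at most √n − 1. -/
theorem result {G Ω : Type*} [Group G] [Finite G] [MulAction G Ω] [FaithfulSMul G Ω] [Finite Ω]
    (htrans : MulAction.IsPretransitive G Ω) (himp : ¬ MulAction.IsPreprimitive G Ω) :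
    ((Subgroup.closure {g : G | ∀ ω : Ω, g • ω ≠ ω}).index : ℝ) ≤ Real.sqrt (Nat.card Ω) - 1 := by
  classical
  have hne : Nonempty Ω := by
    by_contra h
    rw [not_nonempty_iff] at h
    exact himp ⟨fun {B} _ => Or.inl (Set.subsingleton_of_subsingleton)⟩
  obtain ⟨a⟩ := hne
  obtain ⟨B, hB, haB, hBs, hBu⟩ : ∃ B : Set Ω, MulAction.IsBlock G B ∧ a ∈ B ∧
      ¬ B.Subsingleton ∧ B ≠ Set.univ := by
    by_contra h
    refine himp ⟨fun {B} hB => ?_⟩
    by_cases hBne : B.Nonempty
    · obtain ⟨b, hb⟩ := hBne
      obtain ⟨g, hg⟩ := MulAction.exists_smul_eq G b a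
      rw [← MulAction.IsTrivialBlock.smul_iff (g := g)]
      by_cases hs : (g • B).Subsingleton
      · exact Or.inl hs
      · exact Or.inr (not_not.1 fun hu => h ⟨_, hB.translate g, hg ▸ Set.smul_mem_smul_set hb, hs, hu⟩)
    · rw [Set.not_nonempty_iff_eq_empty] at hBne
      exact Or.inl (by simp [hBne])
  let d := (Lib.RecogThree.Derangements.D G Ω).index
  -- the action on the block system
  let T := MulAction.orbit G B
  let d' := (Lib.RecogThree.Derangements.D G T).index
  have hT : MulAction.IsPretransitive G T := inferInstance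
  have hmn := hB.ncard_block_mul_ncard_orbit_eq ⟨a, haB⟩
  have hd' : d ∣ d' := by
    refine Subgroup.index_dvd_of_le ?_
    refine (Subgroup.closure_le _).2 fun g hg => Subgroup.subset_closure fun y hy => ?_
    obtain ⟨h, rfl⟩ := MulAction.exists_smul_eq G a y
    refine hg ⟨h • B, MulAction.mem_orbit _ h⟩ (Subtype.ext ?_)
    change g • h • B = h • B
    rw [smul_smul]
    refine (hB.smul_eq_smul_or_disjoint (g * h) h).resolve_right fun hd => ?_
    refine Set.disjoint_left.1 hd (Set.smul_mem_smul_set haB) ?_
    rw [mul_smul, hy]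
    exact Set.smul_mem_smul_set haB
  have hdm : d ∣ Nat.card T - 1 := hd'.trans
    (Lib.RecogThree.Derangements.index_dvd_card_sub_one (G := G)
      (⟨B, MulAction.mem_orbit_self B⟩ : T))
  have hdk : d ∣ B.ncard - 1 := by
    have h := Lib.RecogThree.Derangements.dvd_ncard_of_orbits
      (H := MulAction.stabilizer G a) (B \ {a}) (fun g x hx => by
        have hga : (g : G) • a = a := g.2
        refine ⟨?_, fun he => hx.2 ?_⟩
        · have : (g : G) • B = B := (hB.smul_eq_or_disjoint (g : G)).resolve_right fun hd =>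
            Set.disjoint_left.1 hd (Set.smul_mem_smul_set haB) (hga.symm ▸ haB)
          exact this ▸ Set.smul_mem_smul_set hx.1
        · change (g : G) • x = a at he
          exact smul_left_cancel (g : G) (he.trans hga.symm))
      d (fun x hx => (Lib.RecogThree.Derangements.index_dvd_orbit hx.2).1)
    rwa [Set.ncard_sdiff_singleton_of_mem haB] at h
  have hk2 : 2 ≤ B.ncard := by
    by_contra h
    exact hBs (Set.ncard_le_one_iff_subsingleton.1 (by omega))
  have hm2 : 2 ≤ Nat.card T := by
    by_contra h
    have hTcard : T.ncard ≤ 1 := by rw [← Nat.card_coe_set_eq]; omega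
    apply hBu
    refine Set.eq_univ_of_forall fun y => ?_
    obtain ⟨g, rfl⟩ := MulAction.exists_smul_eq G a y
    have : g • B = B := (Set.ncard_le_one (Set.toFinite _)).1 hTcard _ (MulAction.mem_orbit _ g) _ (MulAction.mem_orbit_self B)
    exact this ▸ Set.smul_mem_smul_set haB
  have h1 : d + 1 ≤ B.ncard := by
    have := Nat.le_of_dvd (by omega) hdk; omega
  have h2 : d + 1 ≤ Nat.card T := by
    have := Nat.le_of_dvd (by omega) hdm; omega
  have h3 : (d + 1) * (d + 1) ≤ Nat.card Ω := by
    rw [← hmn]
    exact Nat.mul_le_mul h1 (by rwa [← Nat.card_coe_set_eq])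
  have h4 : ((d : ℝ) + 1) * ((d : ℝ) + 1) ≤ (Nat.card Ω : ℝ) := by exact_mod_cast h3
  have h5 := Real.abs_le_sqrt (x := (d : ℝ) + 1) (y := (Nat.card Ω : ℝ)) (by nlinarith)
  rw [abs_of_nonneg (by positivity)] at h5
  change (d : ℝ) ≤ _
  linarith


end Cfsg.Agent.S3549
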