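import Cfsg.Statements.S3550
import Cfsg.Agent.Lib.RecogThree.Derangements
import Cfsg.Agent.Lib.DerangeIndex3.Affine
import Cfsg.Agent.Lib.Perm.PrimeDegree
import Cfsg.Agent.Lib.RankThree72.Basic
import Cfsg.Agent.S0675

set_option autoImplicit false
open Cfsg

namespace Cfsg.Agent.S3550

/-- Let G act faithfully and primitively on a finite set with n ≥ 2 points and suppose G has no non-trivial abelian normal subgroup (G is not of affine type). Let D be the subgroup generated by the derangements. Then the index of D in G is at most √n − 1. -/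
theorem result {G Ω : Type*} [Group G] [Finite G] [MulAction G Ω] [FaithfulSMul G Ω] [Finite Ω]
    (hprim : MulAction.IsPreprimitive G Ω) (hΩ : 2 ≤ Nat.card Ω) (hna : ∀ N : Subgroup G, N.Normal → IsMulCommutative ↥N → N = ⊥) :
    ((Subgroup.closure {g : G | ∀ ω : Ω, g • ω ≠ ω}).index : ℝ) ≤ Real.sqrt (Nat.card Ω) - 1 := by
  classical
  haveI : MulAction.IsPretransitive G Ω := hprim.toIsPretransitive
  haveI := Fintype.ofFinite Ω
  haveI : Nontrivial Ω := Finite.one_lt_card_iff_nontrivial.mp hΩ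
  change ((Lib.RecogThree.Derangements.D G Ω).index : ℝ) ≤ _
  set D := Lib.RecogThree.Derangements.D G Ω with hDdef
  suffices h : (D.index + 1) ^ 2 ≤ Nat.card Ω by
    have h' : ((D.index : ℝ) + 1) ^ 2 ≤ (Nat.card Ω : ℝ) := by exact_mod_cast h
    have := Real.le_sqrt_of_sq_le h'
    linarith
  have hS : Lib.DerangeIndex3.Setup.Hyp D Ω :=
    { normal := Lib.RecogThree.Derangements.D_normal G Ω
      trans := Lib.RecogThree.Derangements.D_pretransitive G Ω
      fix := fun g hg => Lib.RecogThree.Derangements.exists_fixed_of_not_mem hg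
      uniq := fun g hg a b ha hb' => by_contra fun hne =>
        hg (Lib.RecogThree.Derangements.mem_D_of_fixes_two hne ha hb') }
  haveI := hS.normal
  haveI := hS.trans
  haveI hfD : FaithfulSMul ↥D Ω :=
    ⟨fun h => Subtype.ext (eq_of_smul_eq_smul h)⟩
  have hnsol : ¬ Group.IsSolvable ↥D := by
    intro hsol
    have hDne : D ≠ ⊥ := by
      intro hbot
      obtain ⟨a, b, hab⟩ := exists_pair_ne Ω
      obtain ⟨d, hd, he⟩ := hS.exists_mem_smul a b
      rw [hbot, Subgroup.mem_bot] at hd
      exact hab (by rw [← he, hd, one_smul])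
    obtain ⟨E, hEn, hEne, -, hEc⟩ := Lib.RankThree72.exists_abelian_normal_le hsol hDne
    exact hEne (hna E hEn ⟨⟨fun x y => Subtype.ext (hEc x x.2 y y.2)⟩⟩)
  obtain ⟨a⟩ : Nonempty Ω := inferInstance
  by_cases hp : (Nat.card Ω).Prime
  · rw [Nat.card_eq_fintype_card] at hp ⊢
    haveI := Fact.mk hp
    set φ := MulAction.toPermHom ↥D Ω with hφ
    haveI : MulAction.IsPretransitive ↥φ.range Ω :=
      ⟨fun x y => by
        obtain ⟨d, hd⟩ := MulAction.exists_smul_eq ↥D x y
        exact ⟨⟨φ d, d, rfl⟩, hd⟩⟩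
    have hns : ¬ Group.IsSolvable ↥φ.range := fun h => by
      haveI := h
      exact hnsol (Group.isSolvable_of_isSolvable_injective (f := φ.rangeRestrict) (fun x y hxy =>
        MulAction.toPerm_injective (congrArg Subtype.val hxy)))
    have h5 := Lib.Perm.PrimeDegree.five_le_of_not_solvable rfl φ.range hns
    have h2 := (S0675.result hp φ.range).resolve_left hns
    obtain ⟨b, hb⟩ := exists_ne a
    have hDtop : D = ⊤ := hS.eq_top_of_two_transitive (Ne.symm hb) fun c e hce => by
      obtain ⟨⟨σ, d, rfl⟩, h1, h3⟩ := MulAction.is_two_pretransitive_iff.mp h2 (Ne.symm hb) hce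
      exact ⟨d, d.2, h1, h3⟩
    rw [hDtop, Subgroup.index_top]
    omega
  by_contra hb
  have h4 : 4 ≤ Nat.card Ω := by
    by_contra hc
    have : Nat.card Ω = 2 ∨ Nat.card Ω = 3 := by omega
    rcases this with h | h <;> exact hp (h ▸ by norm_num)
  have hD : D ≠ ⊤ := fun he => hb (by rw [he, Subgroup.index_top]; omega)
  obtain ⟨q, hq, hqn⟩ := Nat.exists_prime_and_dvd (show Nat.card Ω ≠ 1 by omega)
  haveI := Fact.mk hq
  rcases Lib.DerangeIndex3.Prime.prime_step hS hD a hqn with ⟨e, he, hdvd, hlt, hcong⟩ |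
    ⟨Q, h1, h2, h3, h4', h5, h6, h7⟩
  · refine hb (Lib.DerangeIndex3.Setup.bound_of_dvd ?_ hlt hdvd hcong (hS.index_dvd_card_sub_one a))
    exact le_trans hq.two_le (Nat.le_self_pow (by omega) q)
  · have hsmall : ∀ b : ℕ, b * (b - 1) = Nat.card Ω - 1 → 5 ≤ b := by
      intro b he
      by_contra hc
      have hb4 : b ≤ 4 := by omega
      have hcases : Nat.card Ω = 3 ∨ Nat.card Ω = 7 ∨ Nat.card Ω = 13 := by
        interval_cases b <;> omega
      rcases hcases with h | h | h <;> exact hp (h ▸ by norm_num)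
    obtain ⟨hcomm, hnorm, -⟩ := Lib.DerangeIndex3.Affine.regular_normal
      (q := q) (a := a) ⟨h1, h2, h3, h4', h5, h6, h7⟩ hS hD hΩ hsmall hb
    have htop : Subgroup.normalizer (Q : Set G) = ⊤ := by
      refine top_le_iff.mp ?_
      rw [← show Subgroup.normalizer (Q : Set G) ⊔ D = ⊤ from h6]
      exact sup_le le_rfl hnorm
    have hQ := hna Q (Subgroup.normalizer_eq_top_iff.mp htop)
      ⟨⟨fun x y => Subtype.ext (hcomm x x.2 y y.2)⟩⟩
    rw [hQ, Subgroup.card_bot] at h3
    omega

end Cfsg.Agent.S3550
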