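import Cfsg.Statements.S3554
-- import your own Cfsg.Agent.* helpers here

set_option autoImplicit false
open Cfsg

namespace Cfsg.Agent.S3554

/-- Let G act faithfully and transitively on a finite set and suppose G has a non-trivial cyclic normal subgroup. Then some element of G of prime order fixes no point. -/
theorem result {G Ω : Type*} [Group G] [Finite G] [MulAction G Ω] [FaithfulSMul G Ω] [Finite Ω]
    (htrans : MulAction.IsPretransitive G Ω) (C : Subgroup G) (hC : C.Normal) (hC1 : C ≠ ⊥) (hcyc : IsCyclic ↥C) :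
    ∃ g : G, (orderOf g).Prime ∧ ∀ ω : Ω, g • ω ≠ ω := by
  classical
  have := Fintype.ofFinite G
  obtain ⟨p, hp, hpd⟩ := Nat.exists_prime_and_dvd
    (fun h : Nat.card C = 1 => hC1 ((Subgroup.card_eq_one).1 h))
  have := Fact.mk hp
  obtain ⟨x, hx⟩ := exists_prime_orderOf_dvd_card' p hpd
  have hxo : orderOf (x : G) = p := by rw [Subgroup.orderOf_coe, hx]
  refine ⟨x, by rw [hxo]; exact hp, fun ω hω => ?_⟩
  have hfix : ∀ ψ : Ω, (x : G) • ψ = ψ := by
    intro ψ
    obtain ⟨h, rfl⟩ := MulAction.exists_smul_eq G ω ψ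
    let y : C := ⟨h⁻¹ * x * h, by simpa using hC.conj_mem _ x.2 h⁻¹⟩
    have hy : orderOf y = p := by
      rw [← Subgroup.orderOf_coe, show (y : G) = MulAut.conj h⁻¹ (x : G) by simp [y],
        MulEquiv.orderOf_eq, hxo]
    have hz : Subgroup.zpowers y = Subgroup.zpowers x := by
      obtain ⟨c, hc⟩ := hcyc.exists_generator
      have hxp : ∀ z : C, orderOf z = p → z ∈ Finset.univ.filter (fun u : C => u ^ p = 1) :=
        fun z hz => by simp [← hz, pow_orderOf_eq_one]
      have hcard := IsCyclic.card_pow_eq_one_le (α := C) hp.pos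
      refine Subgroup.eq_of_le_of_card_ge ?_ (by rw [Nat.card_zpowers, Nat.card_zpowers, hx, hy])
      rw [Subgroup.zpowers_le]
      by_contra hny
      have hsub : insert y ((Finset.range p).image (fun i => x ^ i)) ⊆
          Finset.univ.filter (fun u : C => u ^ p = 1) := by
        intro u hu
        rcases Finset.mem_insert.1 hu with rfl | hu
        · exact hxp _ hy
        · obtain ⟨i, -, rfl⟩ := Finset.mem_image.1 hu
          rw [Finset.mem_filter]
          refine ⟨Finset.mem_univ _, ?_⟩
          rw [← pow_mul, mul_comm, pow_mul, ← hx, pow_orderOf_eq_one, one_pow]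
      have h1 := (Finset.card_le_card hsub).trans hcard
      rw [Finset.card_insert_of_notMem, Finset.card_image_of_injOn, Finset.card_range] at h1
      · omega
      · intro i hi j hj hij
        exact pow_injOn_Iio_orderOf (by simpa [hx] using hi) (by simpa [hx] using hj) hij
      · intro hm
        obtain ⟨i, -, hi⟩ := Finset.mem_image.1 hm
        exact hny (hi ▸ Subgroup.npow_mem_zpowers x i)
    obtain ⟨k, hk⟩ : x ∈ Subgroup.zpowers y := hz ▸ Subgroup.mem_zpowers x
    have hk' : ((y : G)) ^ k = (x : G) := by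
      simpa using congrArg Subtype.val hk
    have h' : (x : G) ∈ MulAction.stabilizer G ω := hω
    have h2 : (y : G) ∈ MulAction.stabilizer G (h⁻¹ • ω) := by
      rw [MulAction.mem_stabilizer_iff]
      simp [y, mul_smul, hω]
    have h3 : (x : G) ∈ MulAction.stabilizer G (h⁻¹ • ω) := hk' ▸ zpow_mem h2 k
    have h4 : (y : G) ∈ MulAction.stabilizer G ω := by
      obtain ⟨j, hj⟩ : y ∈ Subgroup.zpowers x := hz.symm ▸ Subgroup.mem_zpowers y
      have : ((x : G)) ^ j = (y : G) := by simpa using congrArg Subtype.val hj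
      exact this ▸ zpow_mem h' j
    rw [MulAction.mem_stabilizer_iff] at h4
    simpa [y, mul_smul, inv_smul_eq_iff] using h4
  have : (x : G) = 1 := FaithfulSMul.eq_of_smul_eq_smul (α := Ω) (by simpa using hfix)
  rw [this, orderOf_one] at hxo
  exact hp.one_lt.ne hxo


end Cfsg.Agent.S3554
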