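import Cfsg.Statements.S3555
import Mathlib

set_option autoImplicit false
open Cfsg

namespace Cfsg.Agent.S3555


open scoped Classical Pointwise

noncomputable section

variable {G Ω : Type*} [Group G] [Fintype G] [MulAction G Ω] [Fintype Ω]

/-- number of fixed points -/
def fx (x : G) : ℕ := (Finset.univ.filter fun a : Ω => x • a = a).card

omit [Fintype G] in
theorem fx_sq (x : G) :
    fx (Ω := Ω) (x * x) =
      (Finset.univ.filter fun p : Ω × Ω => x • p.1 = p.2 ∧ x • p.2 = p.1).card := by
  refine Finset.card_bij (fun a _ => (a, x • a)) ?_ ?_ ?_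
  · intro a ha
    simp only [Finset.mem_filter, Finset.mem_univ, true_and] at ha ⊢
    rwa [smul_smul]
  · intro a _ b _ h
    exact (Prod.mk.inj h).1
  · rintro ⟨a, b⟩ h
    simp only [Finset.mem_filter, Finset.mem_univ, true_and] at h
    refine ⟨a, ?_, ?_⟩
    · simp only [Finset.mem_filter, Finset.mem_univ, true_and]
      rw [mul_smul, h.1, h.2]
    · rw [h.1]

omit [Fintype G] in
theorem fx_mul_fx (x : G) :
    fx (Ω := Ω) x * fx (Ω := Ω) x =
      (Finset.univ.filter fun p : Ω × Ω => x • p.1 = p.1 ∧ x • p.2 = p.2).card := by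
  rw [fx, ← Finset.card_product]
  congr 1
  ext p
  simp

theorem sum_fx_sq_le : ∑ x : G, fx (Ω := Ω) (x * x) ≤ ∑ x : G, fx (Ω := Ω) x * fx (Ω := Ω) x := by
  simp only [fx_sq, fx_mul_fx, Finset.card_filter]
  rw [Finset.sum_comm]
  conv_rhs => rw [Finset.sum_comm]
  simp only [← Finset.card_filter]
  refine Finset.sum_le_sum fun p _ => ?_
  by_cases h : ∃ x₀ : G, x₀ • p.1 = p.2 ∧ x₀ • p.2 = p.1
  · obtain ⟨x₀, h1, h2⟩ := h
    refine Finset.card_le_card_of_injOn (fun x => x₀⁻¹ * x) ?_ ?_
    · intro x hx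
      simp only [Finset.coe_filter, Finset.mem_univ, true_and, Set.mem_setOf_eq] at hx ⊢
      refine ⟨?_, ?_⟩
      · rw [mul_smul, hx.1, inv_smul_eq_iff, h1]
      · rw [mul_smul, hx.2, inv_smul_eq_iff, h2]
    · intro x _ y _ hxy
      exact mul_left_cancel hxy
  · have : (Finset.univ.filter fun x : G => x • p.1 = p.2 ∧ x • p.2 = p.1) = ∅ := by
      ext x
      simp only [Finset.mem_filter, Finset.mem_univ, true_and, Finset.notMem_empty, iff_false]
      exact fun hx => h ⟨x, hx⟩
    simp [this]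

theorem sum_fx (htrans : MulAction.IsPretransitive G Ω) [Nonempty Ω] :
    ∑ x : G, fx (Ω := Ω) x = Fintype.card G := by
  have h := MulAction.sum_card_fixedBy_eq_card_orbits_mul_card_group G Ω
  have h1 : Fintype.card (Quotient (MulAction.orbitRel G Ω)) = 1 := by
    have : Subsingleton (Quotient (MulAction.orbitRel G Ω)) :=
      (MulAction.pretransitive_iff_subsingleton_quotient G Ω).1 htrans
    have : Nonempty (Quotient (MulAction.orbitRel G Ω)) := ⟨Quotient.mk'' (Classical.arbitrary Ω)⟩
    exact Fintype.card_eq_one_iff.2 ⟨Classical.arbitrary _, fun y => Subsingleton.elim _ _⟩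
  rw [h1, one_mul] at h
  rw [← h]
  refine Finset.sum_congr rfl fun x _ => ?_
  rw [fx, ← Fintype.card_subtype]
  exact Fintype.card_congr (Equiv.refl _)

/-- every element fixing a point, other than `1`, fixes exactly one. -/
theorem fx_eq_one_or (htrans : MulAction.IsPretransitive G Ω) [Nonempty Ω]
    (hinv : ∀ g : G, (∀ ω : Ω, g • ω ≠ ω) → g * g = 1) (x : G) (hx : 0 < fx (Ω := Ω) x) :
    fx (Ω := Ω) x = 1 ∨ fx (Ω := Ω) x = Fintype.card Ω := by
  let n : ℤ := Fintype.card Ω
  let f : G → ℤ := fun y => ((fx (Ω := Ω) y : ℤ) - 1) * ((fx (Ω := Ω) y : ℤ) - n)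
  let g : G → ℤ := fun y => (fx (Ω := Ω) (y * y) : ℤ) - fx (Ω := Ω) y
  have hle_n : ∀ y : G, (fx (Ω := Ω) y : ℤ) ≤ n := fun y => by
    simp only [n, fx]
    exact_mod_cast Finset.card_le_univ _
  have hmono : ∀ y : G, fx (Ω := Ω) y ≤ fx (Ω := Ω) (y * y) := fun y => by
    refine Finset.card_le_card fun a ha => ?_
    simp only [Finset.mem_filter, Finset.mem_univ, true_and] at ha ⊢
    rw [mul_smul, ha, ha]
  have hfix : ∀ y : G, 0 < fx (Ω := Ω) y → f y ≤ 0 ∧ 0 ≤ g y := fun y hy => by
    refine ⟨mul_nonpos_of_nonneg_of_nonpos ?_ ?_, ?_⟩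
    · omega
    · have := hle_n y; omega
    · have := hmono y; simp only [g]; omega
  have hpt : ∀ y : G, f y ≤ g y := fun y => by
    by_cases hy : 0 < fx (Ω := Ω) y
    · exact (hfix y hy).1.trans (hfix y hy).2
    · have h0 : fx (Ω := Ω) y = 0 := Nat.eq_zero_of_not_pos hy
      have hd : ∀ ω : Ω, y • ω ≠ ω := fun ω hω => by
        have : ω ∈ (Finset.univ.filter fun a : Ω => y • a = a) := by simp [hω]
        rw [fx, Finset.card_eq_zero] at h0
        rw [h0] at this
        simp at this
      have h1 : (fx (Ω := Ω) (y * y) : ℤ) = n := by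
        rw [hinv y hd]; simp [fx, n]
      simp only [f, g, h0, h1]
      simp
  have hf : ∑ y : G, f y = ∑ y : G, ((fx (Ω := Ω) y : ℤ) * fx (Ω := Ω) y) - Fintype.card G := by
    have hs : ∑ y : G, (fx (Ω := Ω) y : ℤ) = Fintype.card G := by exact_mod_cast sum_fx htrans
    calc ∑ y : G, f y = ∑ y : G, (((fx (Ω := Ω) y : ℤ) * fx (Ω := Ω) y)
          - (n + 1) * (fx (Ω := Ω) y : ℤ) + n) := Finset.sum_congr rfl fun y _ => by simp only [f]; ring
      _ = _ := by
        rw [Finset.sum_add_distrib, Finset.sum_sub_distrib, ← Finset.mul_sum, hs]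
        simp only [Finset.sum_const, Finset.card_univ, nsmul_eq_mul]
        ring
  have hg : ∑ y : G, g y = ∑ y : G, (fx (Ω := Ω) (y * y) : ℤ) - Fintype.card G := by
    have hs : ∑ y : G, (fx (Ω := Ω) y : ℤ) = Fintype.card G := by exact_mod_cast sum_fx htrans
    simp only [g, Finset.sum_sub_distrib, hs]
  have hsum : ∑ y : G, g y ≤ ∑ y : G, f y := by
    rw [hf, hg]
    have : ∑ y : G, (fx (Ω := Ω) (y * y) : ℤ) ≤ ∑ y : G, ((fx (Ω := Ω) y : ℤ) * fx (Ω := Ω) y) := by
      exact_mod_cast sum_fx_sq_le (G := G) (Ω := Ω)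
    omega
  have heq : f x = g x :=
    (Finset.sum_eq_sum_iff_of_le fun y _ => hpt y).1
      (le_antisymm (Finset.sum_le_sum fun y _ => hpt y) hsum) x (Finset.mem_univ x)
  have h0 : f x = 0 := le_antisymm (hfix x hx).1 (heq ▸ (hfix x hx).2)
  rcases mul_eq_zero.1 h0 with h | h
  · left; omega
  · right; simp only [n] at h; omega

end

/-- Let G act faithfully and transitively on a finite set and suppose every element of G fixing no point is an involution. Then either G is an elementary abelian 2-group, or G is a Frobenius group whose Frobenius kernel is an elementary abelian 2-group: G has a Frobenius complement H, and the elements lying in no conjugate of H, together with the identity, pairwise commute and square to the identity. -/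
theorem result {G Ω : Type*} [Group G] [Finite G] [MulAction G Ω] [FaithfulSMul G Ω] [Finite Ω]
    (htrans : MulAction.IsPretransitive G Ω) (hinv : ∀ g : G, (∀ ω : Ω, g • ω ≠ ω) → orderOf g = 2) :
    (IsMulCommutative G ∧ ∀ g : G, g ^ 2 = 1) ∨
    (∃ H : Subgroup G, Cfsg.IsFrobeniusComplement H ∧
      (∀ x ∈ Cfsg.frobeniusKernel H, x ^ 2 = 1) ∧
      ∀ x ∈ Cfsg.frobeniusKernel H, ∀ y ∈ Cfsg.frobeniusKernel H, x * y = y * x) := by
  classical
  have := Fintype.ofFinite G
  have := Fintype.ofFinite Ω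
  have hne : Nonempty Ω := by
    by_contra h
    have := hinv 1 (fun ω => (h ⟨ω⟩).elim)
    simp at this
  have hsq : ∀ g : G, (∀ ω : Ω, g • ω ≠ ω) → g * g = 1 := fun g hg => by
    rw [← pow_two, ← hinv g hg, pow_orderOf_eq_one]
  have hone : ∀ g : G, g ≠ 1 → ∀ a b : Ω, g • a = a → g • b = b → a = b := by
    intro g hg a b ha hb
    have hpos : 0 < fx (Ω := Ω) g := Finset.card_pos.2 ⟨a, by simp [ha]⟩
    rcases fx_eq_one_or htrans hsq g hpos with h | h
    · exact Finset.card_le_one.1 h.le a (by simp [ha]) b (by simp [hb])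
    · refine absurd ?_ hg
      have : (Finset.univ.filter fun a : Ω => g • a = a) = Finset.univ :=
        Finset.eq_univ_of_card _ h
      refine eq_of_smul_eq_smul (α := Ω) fun c => ?_
      have hc : c ∈ (Finset.univ.filter fun a : Ω => g • a = a) := by rw [this]; simp
      simpa using hc
  obtain ⟨a⟩ := hne
  set H := MulAction.stabilizer G a with hH
  by_cases hbot : H = ⊥
  · left
    have hall : ∀ g : G, g * g = 1 := by
      intro g
      by_cases h : ∀ ω : Ω, g • ω ≠ ω
      · exact hsq g h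
      · obtain ⟨c, hc⟩ := not_forall.1 h
        obtain ⟨k, hk⟩ := MulAction.exists_smul_eq G a c
        have hmem : k⁻¹ * g * k ∈ H := by
          rw [hH, MulAction.mem_stabilizer_iff, mul_smul, mul_smul, hk,
            not_not.1 hc, inv_smul_eq_iff, hk]
        rw [hbot, Subgroup.mem_bot] at hmem
        have : g = 1 := by
          have := congrArg (fun z => k * z * k⁻¹) hmem
          simpa [mul_assoc] using this
        simp [this]
    refine ⟨⟨⟨fun x y => ?_⟩⟩, fun g => by rw [pow_two]; exact hall g⟩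
    calc x * y = (x * y)⁻¹ := (inv_eq_of_mul_eq_one_right (hall _)).symm
      _ = y * x := by
        rw [mul_inv_rev, inv_eq_of_mul_eq_one_right (hall x), inv_eq_of_mul_eq_one_right (hall y)]
  · right
    have hconj : ∀ (g x : G), x ∈ MulAut.conj g • H ↔ x • (g • a) = g • a := by
      intro g x
      rw [Subgroup.mem_pointwise_smul_iff_inv_smul_mem, hH, MulAction.mem_stabilizer_iff]
      simp only [MulAut.smul_def, MulAut.conj_inv_apply, mul_smul, inv_smul_eq_iff]
    refine ⟨H, ⟨hbot, ?_, ?_⟩, ?_⟩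
    · intro htop
      apply hbot
      rw [eq_bot_iff]
      intro x _
      rw [Subgroup.mem_bot]
      refine eq_of_smul_eq_smul (α := Ω) fun c => ?_
      have hall : ∀ c : Ω, c = a := fun c => by
        obtain ⟨k, hk⟩ := MulAction.exists_smul_eq G a c
        have : k ∈ H := htop ▸ Subgroup.mem_top k
        rw [← hk]; exact this
      rw [hall (x • c), hall ((1 : G) • c)]
    · intro g hg
      rw [eq_bot_iff]
      intro x hx
      rw [Subgroup.mem_inf, hconj] at hx
      rw [Subgroup.mem_bot]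
      by_contra hx1
      exact hg (hone x hx1 a (g • a) hx.1 hx.2).symm
    have hder : ∀ x ∈ Cfsg.frobeniusKernel H, x = 1 ∨ ∀ ω : Ω, x • ω ≠ ω := by
      rintro x (hx | hx)
      · exact Or.inl hx
      · right
        intro ω
        obtain ⟨k, hk⟩ := MulAction.exists_smul_eq G a ω
        exact fun h => hx k ((hconj k x).2 (hk ▸ h))
    have hk2 : ∀ x ∈ Cfsg.frobeniusKernel H, x * x = 1 := fun x hx =>
      (hder x hx).elim (fun h => by simp [h]) (hsq x)
    refine ⟨fun x hx => by rw [pow_two]; exact hk2 x hx, fun x hx y hy => ?_⟩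
    have hxy : (x * y) * (x * y) = 1 := by
      rcases hder x hx with h | h
      · simp [h, hk2 y hy]
      by_contra hne1
      have hz : x * y ≠ 1 := fun h1 => hne1 (by simp [h1])
      obtain ⟨c, hc⟩ : ∃ c : Ω, (x * y) • c = c := by
        by_contra hh
        exact hne1 (hsq _ fun ω hω => hh ⟨ω, hω⟩)
      have hxi : x⁻¹ = x := inv_eq_of_mul_eq_one_right (hk2 x hx)
      have hyi : y⁻¹ = y := inv_eq_of_mul_eq_one_right (hk2 y hy)
      have hinv' : (x * y)⁻¹ • c = c := inv_smul_eq_iff.2 hc.symm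
      have hxc : (x * y)⁻¹ • (x • c) = x • c := by
        have : (x * y)⁻¹ * x = x * (x * y) := by
          rw [mul_inv_rev, hxi, hyi, ← mul_assoc, hk2 x hx, one_mul, mul_assoc, hk2 x hx, mul_one]
        rw [smul_smul, this, mul_smul, hc]
      exact h c (hone _ (inv_ne_one.2 hz) c (x • c) hinv' hxc).symm
    calc x * y = (x * y)⁻¹ := (inv_eq_of_mul_eq_one_right hxy).symm
      _ = y * x := by
        rw [mul_inv_rev, inv_eq_of_mul_eq_one_right (hk2 x hx), inv_eq_of_mul_eq_one_right (hk2 y hy)]

end Cfsg.Agent.S3555
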