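import Cfsg.Statements.S3556
import Cfsg.Agent.Lib.Cores.MinNormal
import Cfsg.Agent.Lib.RecogThree.Derangements
-- import your own Cfsg.Agent.* helpers here

set_option autoImplicit false
open Cfsg

namespace Cfsg.Agent.S3556

theorem normal_transitive {G Ω : Type*} [Group G] [MulAction G Ω] [FaithfulSMul G Ω]
    [MulAction.IsPreprimitive G Ω] {N : Subgroup G} (hN : N.Normal) (hN1 : N ≠ ⊥) :
    MulAction.IsPretransitive N Ω := by
  have := hN
  refine MulAction.IsQuasiPreprimitive.isPretransitive_of_normal fun h => hN1 ?_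
  rw [Subgroup.eq_bot_iff_forall]
  intro x hx
  refine FaithfulSMul.eq_of_smul_eq_smul (α := Ω) fun b => ?_
  rw [one_smul]
  have hb : b ∈ MulAction.fixedPoints N Ω := h ▸ Set.mem_univ b
  exact hb ⟨x, hx⟩

theorem centralizer_normal {G : Type*} [Group G] {N : Subgroup G} (hN : N.Normal) :
    (Subgroup.centralizer (N : Set G)).Normal := by
  constructor
  intro x hx g
  rw [Subgroup.mem_centralizer_iff] at hx ⊢
  intro y hy
  have h := hx _ (hN.conj_mem y hy g⁻¹)
  rw [inv_inv] at h
  calc y * (g * x * g⁻¹) = g * ((g⁻¹ * y * g) * x) * g⁻¹ := by group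
    _ = g * (x * (g⁻¹ * y * g)) * g⁻¹ := by rw [h]
    _ = g * x * g⁻¹ * y := by group

theorem mem_normalizer_closure {G : Type*} [Group G] (k : G) {S : Set G}
    (h1 : ∀ z ∈ S, k * z * k⁻¹ ∈ S) (h2 : ∀ z ∈ S, k⁻¹ * z * k ∈ S) :
    k ∈ Subgroup.normalizer (Subgroup.closure S : Set G) := by
  have key : ∀ k : G, (∀ z ∈ S, k * z * k⁻¹ ∈ S) →
      ∀ z ∈ Subgroup.closure S, k * z * k⁻¹ ∈ Subgroup.closure S := by
    intro k hk z hz
    have hle : Subgroup.closure S ≤ (Subgroup.closure S).comap (MulAut.conj k).toMonoidHom :=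
      (Subgroup.closure_le _).2 fun z hz => Subgroup.subset_closure (hk z hz)
    exact hle hz
  rw [Subgroup.mem_normalizer_iff]
  refine fun z => ⟨key k h1 z, fun h => ?_⟩
  have := key k⁻¹ (by simpa using h2) _ h
  simpa [mul_assoc] using this

theorem simple_of {G Ω : Type*} [Group G] [Finite G] [MulAction G Ω] [FaithfulSMul G Ω]
    [Finite Ω] [Nontrivial Ω] (hprim : MulAction.IsPreprimitive G Ω) {N : Subgroup G}
    (hN : N.Normal) (hN1 : N ≠ ⊥) (hmin : ∀ M : Subgroup G, M.Normal → M ≤ N → M = ⊥ ∨ M = N)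
    (hNt : MulAction.IsPretransitive N Ω) (hcent : Subgroup.centralizer (N : Set G) = ⊥)
    {p : ℕ} (hp : p.Prime)
    (hder : ∀ g : G, (∀ ω : Ω, g • ω ≠ ω) → ∃ k : ℕ, orderOf g = p ^ k)
    (hab : ¬ IsMulCommutative N) : IsSimpleGroup N := by
  classical
  have := Fact.mk hp
  have : Nontrivial N := (Subgroup.nontrivial_iff_ne_bot N).2 hN1
  obtain ⟨M₁, hM₁n, hM₁1, hM₁min⟩ := Lib.Cores.MinNormal.exists_minimal (G := N)
  let M : Subgroup G := M₁.map N.subtype
  have hMle : M ≤ N := Subgroup.map_subtype_le M₁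
  have hM1 : M ≠ ⊥ := fun h => hM₁1 ((Subgroup.map_eq_bot_iff_of_injective _ N.subtype_injective).1 h)
  have hMn : ∀ n ∈ N, ∀ x ∈ M, n * x * n⁻¹ ∈ M := by
    rintro n hn _ ⟨x, hx, rfl⟩
    exact ⟨_, hM₁n.conj_mem x hx ⟨n, hn⟩, rfl⟩
  have hMmin : ∀ Y : Subgroup G, Y ≤ M → (∀ n ∈ N, ∀ x ∈ Y, n * x * n⁻¹ ∈ Y) → Y = ⊥ ∨ Y = M := by
    intro Y hY hYn
    rcases hM₁min (Y.subgroupOf N) ⟨fun x hx n => hYn n n.2 x hx⟩ (fun x hx => by
      obtain ⟨x', hx', he⟩ := hY hx
      exact Subtype.ext he ▸ hx') with h | h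
    · left
      rw [Subgroup.subgroupOf_eq_bot] at h
      exact disjoint_self.1 (h.mono_right (hY.trans hMle))
    · right
      rw [← Subgroup.map_subgroupOf_eq_of_le (hY.trans hMle), h]
  -- conjugates of M
  let cj : G → Subgroup G := fun g => M.map (MulAut.conj g).toMonoidHom
  have hcj : ∀ g z, z ∈ cj g ↔ g⁻¹ * z * g ∈ M := by
    intro g z
    constructor
    · rintro ⟨x, hx, rfl⟩
      simpa [mul_assoc] using hx
    · intro h
      exact ⟨_, h, by simp [mul_assoc]⟩
  have hcjN : ∀ g, cj g ≤ N := by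
    intro g z hz
    have := hN.conj_mem _ (hMle ((hcj g z).1 hz)) g
    simpa [mul_assoc] using this
  have hcjn : ∀ g, ∀ n ∈ N, ∀ z ∈ cj g, n * z * n⁻¹ ∈ cj g := by
    intro g n hn z hz
    rw [hcj] at hz ⊢
    have h := hMn (g⁻¹ * n * g) (by simpa using hN.conj_mem n hn g⁻¹) _ hz
    simpa [mul_assoc] using h
  have hdis : ∀ g, cj g ≠ M → ∀ x ∈ M, ∀ y ∈ cj g, x * y = y * x := by
    intro g hg
    have hinter : M ⊓ cj g = ⊥ := by
      refine (hMmin _ inf_le_left fun n hn x hx => ⟨hMn n hn x hx.1, hcjn g n hn x hx.2⟩).resolve_right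
        fun h => hg ?_
      have hle : M ≤ cj g := inf_eq_left.1 h
      refine (Subgroup.eq_of_le_of_card_ge hle (le_of_eq ?_)).symm
      exact (Nat.card_congr (M.equivMapOfInjective _ (MulAut.conj g).injective).toEquiv).symm
    intro x hx y hy
    have h1 : x * y * x⁻¹ * y⁻¹ ∈ M ⊓ cj g := by
      refine ⟨?_, (cj g).mul_mem (hcjn g x (hMle hx) y hy) ((cj g).inv_mem hy)⟩
      have := hMn y (hcjN g hy) x⁻¹ (M.inv_mem hx)
      have := M.mul_mem hx this
      simpa [mul_assoc] using this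
    rw [hinter, Subgroup.mem_bot] at h1
    calc x * y = (x * y * x⁻¹ * y⁻¹) * (y * x) := by group
      _ = y * x := by rw [h1, one_mul]
  let C : Subgroup G := Subgroup.closure {z | ∃ g, cj g ≠ M ∧ z ∈ cj g}
  have hCN : C ≤ N := (Subgroup.closure_le _).2 fun z ⟨g, _, hz⟩ => hcjN g hz
  have hcomm : ∀ x ∈ M, ∀ c ∈ C, x * c = c * x := by
    intro x hx c hc
    have hle : C ≤ Subgroup.centralizer {x} := (Subgroup.closure_le _).2 fun z ⟨g, hg, hz⟩ =>
      Subgroup.mem_centralizer_singleton_iff.2 (hdis g hg x hx z hz).symm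
    exact (Subgroup.mem_centralizer_singleton_iff.1 (hle hc)).symm
  have hdec : ∀ n ∈ N, ∃ m ∈ M, ∃ c ∈ C, n = m * c := by
    have hle : Subgroup.normalClosure (M : Set G) ≤ M ⊔ C := by
      refine (Subgroup.closure_le _).2 fun z hz => ?_
      obtain ⟨x, hx, hxz⟩ := Group.mem_conjugatesOfSet_iff.1 hz
      obtain ⟨g, rfl⟩ := isConj_iff.1 hxz
      by_cases hg : cj g = M
      · exact Subgroup.mem_sup_left (hg ▸ (hcj g _).2 (by simpa [mul_assoc] using hx))
      · exact Subgroup.mem_sup_right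
          (Subgroup.subset_closure ⟨g, hg, (hcj g _).2 (by simpa [mul_assoc] using hx)⟩)
    have hNle : N ≤ M ⊔ C := by
      refine le_trans (le_of_eq ?_) hle
      refine ((hmin _ Subgroup.normalClosure_normal
        (Subgroup.normalClosure_le_normal hMle)).resolve_left fun h => hM1 ?_).symm
      exact le_bot_iff.1 (h ▸ Subgroup.le_normalClosure)
    intro n hn
    have hn' : n ∈ Subgroup.closure ((M : Set G) ∪ C) := by
      rw [Subgroup.closure_union, Subgroup.closure_eq, Subgroup.closure_eq]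
      exact hNle hn
    clear hn
    induction hn' using Subgroup.closure_induction with
    | mem x hx =>
      rcases hx with hx | hx
      · exact ⟨x, hx, 1, C.one_mem, (mul_one x).symm⟩
      · exact ⟨1, M.one_mem, x, hx, (one_mul x).symm⟩
    | one => exact ⟨1, M.one_mem, 1, C.one_mem, (one_mul 1).symm⟩
    | mul x y _ _ hx hy =>
      obtain ⟨m, hm, c, hc, rfl⟩ := hx
      obtain ⟨m', hm', c', hc', rfl⟩ := hy
      refine ⟨m * m', M.mul_mem hm hm', c * c', C.mul_mem hc hc', ?_⟩
      rw [mul_assoc m c, ← mul_assoc c m', ← hcomm m' hm' c hc]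
      group
    | inv x _ hx =>
      obtain ⟨m, hm, c, hc, rfl⟩ := hx
      refine ⟨m⁻¹, M.inv_mem hm, c⁻¹, C.inv_mem hc, ?_⟩
      rw [hcomm m hm c hc, mul_inv_rev]
  have huniq : ∀ x ∈ M, x ∈ C → x = 1 := by
    intro x hx hxC
    have : x ∈ Subgroup.centralizer (N : Set G) := by
      rw [Subgroup.mem_centralizer_iff]
      intro n hn
      obtain ⟨m, hm, c, hc, rfl⟩ := hdec n hn
      rw [mul_assoc, ← hcomm x hx c hc, ← mul_assoc, hcomm m hm x hxC, mul_assoc]
    rwa [hcent, Subgroup.mem_bot] at this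
  have hMab : ¬ ∀ x : M, ∃ k : ℕ, orderOf (x : G) = p ^ k := by
    intro h
    have hMp : IsPGroup p M := fun x => by
      obtain ⟨k, hk⟩ := h x
      exact ⟨k, by rw [← hk, Subgroup.orderOf_coe, pow_orderOf_eq_one]⟩
    have : Nontrivial M := (Subgroup.nontrivial_iff_ne_bot M).2 hM1
    have hz := hMp.center_nontrivial
    have hZ : (Subgroup.center M).map M.subtype = M := by
      refine (hMmin _ (Subgroup.map_subtype_le _) ?_).resolve_left fun h => ?_
      · rintro n hn _ ⟨z, hz, rfl⟩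
        refine ⟨⟨_, hMn n hn z z.2⟩, ?_, rfl⟩
        obtain ⟨m, hm, c, hc, rfl⟩ := hdec n hn
        have h1 : m * c * (z : G) * (m * c)⁻¹ = (z : G) := by
          rw [mul_assoc m c, ← hcomm _ z.2 c hc]
          have hzm : (z : G) * m = m * z :=
            (congrArg Subtype.val (Subgroup.mem_center_iff.1 hz ⟨m, hm⟩)).symm
          rw [← mul_assoc, ← hzm]
          group
        have h2 : (⟨m * c * (z : G) * (m * c)⁻¹, hMn _ hn z z.2⟩ : M) = z := Subtype.ext h1
        rw [h2]; exact hz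
      · rw [Subgroup.map_eq_bot_iff_of_injective _ M.subtype_injective] at h
        exact (Subgroup.nontrivial_iff_ne_bot _).1 hz h
    have hMc : ∀ x ∈ M, ∀ y ∈ M, x * y = y * x := by
      intro x hx y hy
      have hx' : x ∈ (Subgroup.center M).map M.subtype := hZ.symm ▸ hx
      obtain ⟨z, hz', rfl⟩ := hx'
      exact (congrArg Subtype.val (Subgroup.mem_center_iff.1 hz' ⟨y, hy⟩)).symm
    have hMcent : M ≤ Subgroup.centralizer (N : Set G) := by
      intro x hx
      rw [Subgroup.mem_centralizer_iff]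
      intro n hn
      obtain ⟨m, hm, c, hc, rfl⟩ := hdec n hn
      rw [mul_assoc, ← hcomm x hx c hc, ← mul_assoc, hMc m hm x hx, mul_assoc]
    exact hM1 (le_bot_iff.1 (hcent ▸ hMcent))
  obtain ⟨a⟩ : Nonempty Ω := inferInstance
  have htrans : ∀ b : Ω, ∃ n ∈ N, n • a = b := fun b => by
    obtain ⟨⟨n, hn⟩, h⟩ := MulAction.exists_smul_eq N a b
    exact ⟨n, hn, h⟩
  -- M meets the stabiliser
  have hMA : ∃ z ∈ M, z • a = a ∧ z ≠ 1 := by
    by_contra h
    push Not at h
    refine hMab fun x => ?_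
    by_cases hx : (x : G) = 1
    · exact ⟨0, by simp [hx]⟩
    refine hder _ fun b hb => ?_
    obtain ⟨n, hn, rfl⟩ := htrans b
    have h1 := h (n⁻¹ * x * n) (by simpa using hMn n⁻¹ (N.inv_mem hn) x x.2)
      (by rw [mul_smul, mul_smul, hb, inv_smul_smul])
    exact hx (by simpa [mul_assoc, inv_mul_eq_one] using h1)
  let D : Subgroup G := Subgroup.closure {z | z • a = a ∧ ∃ g, z ∈ cj g}
  have hDle : D ≤ MulAction.stabilizer G a := (Subgroup.closure_le _).2 fun z hz => hz.1
  have hMcj : cj 1 = M := by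
    ext z; simp [hcj]
  have hnormD : Subgroup.normalizer (D : Set G) = MulAction.stabilizer G a := by
    have hco : IsCoatom (MulAction.stabilizer G a) := MulAction.IsPreprimitive.isCoatom_stabilizer_of_isPreprimitive G a
    have hle : MulAction.stabilizer G a ≤ Subgroup.normalizer (D : Set G) := by
      intro k hk
      refine mem_normalizer_closure k ?_ ?_ <;>
      · rintro z ⟨hz, g, hg⟩
        refine ⟨?_, ?_⟩
        · first
          | (rw [mul_smul, mul_smul, inv_smul_eq_iff.2 (MulAction.mem_stabilizer_iff.1 hk).symm, hz,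
              MulAction.mem_stabilizer_iff.1 hk])
          | (rw [mul_smul, mul_smul, MulAction.mem_stabilizer_iff.1 hk, hz,
              inv_smul_eq_iff.2 (MulAction.mem_stabilizer_iff.1 hk).symm])
        · first
          | exact ⟨k * g, by rw [hcj] at hg ⊢; simpa [mul_assoc] using hg⟩
          | exact ⟨k⁻¹ * g, by rw [hcj] at hg ⊢; simpa [mul_assoc] using hg⟩
    rcases lt_or_eq_of_le hle with hlt | heq
    · exfalso
      have hDn : D.Normal := Subgroup.normalizer_eq_top_iff.1 (hco.2 _ hlt)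
      obtain ⟨z, hzM, hza, hz1⟩ := hMA
      have hzD : z ∈ D := Subgroup.subset_closure ⟨hza, 1, hMcj.symm ▸ hzM⟩
      refine hz1 (FaithfulSMul.eq_of_smul_eq_smul (α := Ω) fun b => ?_)
      obtain ⟨g, rfl⟩ := MulAction.exists_smul_eq G a b
      have h1 : (g⁻¹ * z * g) • a = a := hDle (by simpa using hDn.conj_mem z hzD g⁻¹)
      rw [mul_smul, mul_smul, inv_smul_eq_iff] at h1
      rw [h1, one_smul]
    · exact heq.symm
  -- the M-component of an element of the stabiliser lies in the stabiliser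
  have hcomp : ∀ m ∈ M, ∀ c ∈ C, (m * c) • a = a → m • a = a := by
    intro m hm c hc h
    suffices m ∈ Subgroup.normalizer (D : Set G) by rw [hnormD] at this; exact this
    have key : ∀ m ∈ M, ∀ c ∈ C, (m * c) • a = a → ∀ z, z • a = a → ∀ g, z ∈ cj g →
        (m * z * m⁻¹) • a = a ∧ ∃ g, m * z * m⁻¹ ∈ cj g := by
      intro m hm c hc h z hz g hg
      refine ⟨?_, g, hcjn g m (hMle hm) z hg⟩
      by_cases hg' : cj g = M
      · have hzc : c * z = z * c := (hcomm z (hg' ▸ hg) c hc).symm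
        have h2 : (m * c)⁻¹ • a = a := inv_smul_eq_iff.2 h.symm
        have : (m * c * z * (m * c)⁻¹) • a = a := by rw [mul_smul, mul_smul, h2, hz, h]
        rwa [show m * c * z * (m * c)⁻¹ = m * z * m⁻¹ by rw [mul_assoc m c z, hzc]; group] at this
      · have := hdis g hg' m hm z hg
        rwa [this, mul_inv_cancel_right]
    refine mem_normalizer_closure m ?_ ?_
    · rintro z ⟨hz, g, hg⟩
      exact key m hm c hc h z hz g hg
    · rintro z ⟨hz, g, hg⟩
      have h' : (m⁻¹ * c⁻¹) • a = a := by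
        rw [show m⁻¹ * c⁻¹ = (m * c)⁻¹ by rw [mul_inv_rev, ← hcomm _ (M.inv_mem hm) _ (C.inv_mem hc)],
          inv_smul_eq_iff, h]
      simpa using key m⁻¹ (M.inv_mem hm) c⁻¹ (C.inv_mem hc) h' z hz g hg
  -- a derangement of M on the M-orbit of a
  obtain ⟨x, hxM, hx⟩ : ∃ x ∈ M, ∀ m ∈ M, x • m • a ≠ m • a := by
    have hcard : 1 < Nat.card (MulAction.orbit M a) := by
      rw [Finite.one_lt_card_iff_nontrivial]
      by_contra hh
      rw [not_nontrivial_iff_subsingleton] at hh
      have hfix : ∀ m ∈ M, m • a = a := fun m hm =>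
        congrArg Subtype.val (Subsingleton.elim
          (⟨(⟨m, hm⟩ : M) • a, MulAction.mem_orbit _ _⟩ : MulAction.orbit M a)
          ⟨a, MulAction.mem_orbit_self a⟩)
      obtain ⟨z, hzM, -, hz1⟩ := hMA
      refine hz1 (FaithfulSMul.eq_of_smul_eq_smul (α := Ω) fun b => ?_)
      obtain ⟨n, hn, rfl⟩ := htrans b
      have h1 := hfix _ (by simpa using hMn n⁻¹ (N.inv_mem hn) z hzM : n⁻¹ * z * n ∈ M)
      rw [mul_smul, mul_smul, inv_smul_eq_iff] at h1
      rw [h1, one_smul]
    obtain ⟨x, hx⟩ := Lib.RecogThree.Derangements.exists_derangement (G := M)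
      (Y := MulAction.orbit M a) hcard
    exact ⟨x, x.2, fun m hm h => hx ⟨_, MulAction.mem_orbit a (⟨m, hm⟩ : M)⟩ (Subtype.ext h)⟩
  have hxc : ∀ c ∈ C, ∀ b : Ω, (x * c) • b ≠ b := by
    intro c hc b hb
    obtain ⟨n, hn, rfl⟩ := htrans b
    obtain ⟨m, hm, c', hc', rfl⟩ := hdec n hn
    have hxm : c'⁻¹ * (m⁻¹ * x * m) = (m⁻¹ * x * m) * c'⁻¹ :=
      (hcomm _ (M.mul_mem (M.mul_mem (M.inv_mem hm) hxM) hm) _ (C.inv_mem hc')).symm
    have e : (m * c')⁻¹ * (x * c) * (m * c') = (m⁻¹ * x * m) * (c'⁻¹ * c * c') := by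
      have e1 : c * (m * c') = m * (c * c') := by rw [← mul_assoc, ← hcomm m hm c hc, mul_assoc]
      calc (m * c')⁻¹ * (x * c) * (m * c') = c'⁻¹ * (m⁻¹ * x) * (c * (m * c')) := by group
        _ = c'⁻¹ * (m⁻¹ * x * m) * (c * c') := by rw [e1]; group
        _ = _ := by rw [hxm]; group
    have h1 : ((m * c')⁻¹ * (x * c) * (m * c')) • a = a := by
      rw [mul_smul, mul_smul, hb, inv_smul_smul]
    rw [e] at h1
    have h2 := hcomp _ (M.mul_mem (M.mul_mem (M.inv_mem hm) hxM) hm) _
      (C.mul_mem (C.mul_mem (C.inv_mem hc') hc) hc') h1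
    rw [mul_smul, mul_smul, inv_smul_eq_iff] at h2
    exact hx m hm h2
  by_cases hC : C = ⊥
  · have hNM : N = M := le_antisymm (fun n hn => by
      obtain ⟨m, hm, c, hc, rfl⟩ := hdec n hn
      rw [hC, Subgroup.mem_bot] at hc
      rwa [hc, mul_one]) hMle
    refine ⟨fun H hH => ?_⟩
    rcases hMmin (H.map N.subtype) ((Subgroup.map_subtype_le H).trans hNM.le) (fun n hn x hx => by
      obtain ⟨y, hy, rfl⟩ := hx
      exact ⟨_, hH.conj_mem y hy ⟨n, hn⟩, rfl⟩) with h | h
    · exact Or.inl ((Subgroup.map_eq_bot_iff_of_injective _ N.subtype_injective).1 h)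
    · right
      rw [← hNM] at h
      refine Subgroup.map_injective N.subtype_injective ?_
      rw [h, ← MonoidHom.range_eq_map, Subgroup.range_subtype]
  · exfalso
    obtain ⟨g, hg⟩ : ∃ g, cj g ≠ M := by
      by_contra h
      push Not at h
      exact hC (le_bot_iff.1 ((Subgroup.closure_le _).2 fun z ⟨g, hg, _⟩ => absurd (h g) hg))
    refine hMab fun y => ?_
    have hyC : g * (y : G) * g⁻¹ ∈ C :=
      Subgroup.subset_closure ⟨g, hg, (hcj g _).2 (by simpa [mul_assoc] using y.2)⟩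
    obtain ⟨k, hk⟩ := hder _ (hxc _ hyC)
    have hpow : (g * (y : G) * g⁻¹) ^ p ^ k = 1 := by
      have h1 : x ^ p ^ k * (g * (y : G) * g⁻¹) ^ p ^ k = 1 := by
        rw [← (show Commute x (g * (y : G) * g⁻¹) from hcomm x hxM _ hyC).mul_pow, ← hk,
          pow_orderOf_eq_one]
      have h2 : x ^ p ^ k = 1 := huniq _ (M.pow_mem hxM _)
        (by rw [eq_inv_of_mul_eq_one_left h1]; exact C.inv_mem (C.pow_mem hyC _))
      rwa [h2, one_mul] at h1
    obtain ⟨j, -, hj⟩ := (Nat.dvd_prime_pow hp).1 (orderOf_dvd_of_pow_eq_one hpow)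
    refine ⟨j, ?_⟩
    rwa [show g * (y : G) * g⁻¹ = MulAut.conj g (y : G) from (MulAut.conj_apply g _).symm,
      MulEquiv.orderOf_eq] at hj

/-- Let G act faithfully and primitively on a finite set with at least two points, and suppose that for some fixed prime p every element of G fixing no point has order a power of p. Then G is of affine type (it has a regular normal subgroup that is an elementary abelian r-group for some prime r) or almost simple (it has a non-abelian simple normal subgroup with trivial centralizer). -/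
theorem result {G Ω : Type*} [Group G] [Finite G] [MulAction G Ω] [FaithfulSMul G Ω] [Finite Ω]
    (hprim : MulAction.IsPreprimitive G Ω) (hΩ : 2 ≤ Nat.card Ω) (p : ℕ) (hp : p.Prime)
    (hder : ∀ g : G, (∀ ω : Ω, g • ω ≠ ω) → ∃ k : ℕ, orderOf g = p ^ k) :
    (∃ (N : Subgroup G) (r : ℕ), r.Prime ∧ N.Normal ∧ Cfsg.IsElementaryAbelian r N ∧
      MulAction.IsPretransitive N Ω ∧ ∀ a : Ω, MulAction.stabilizer N a = ⊥) ∨
    (∃ T : Subgroup G, T.Normal ∧ IsSimpleGroup ↥T ∧ ¬ IsMulCommutative ↥T ∧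
      Subgroup.centralizer (T : Set G) = ⊥) := by
  classical
  have hΩ' : Nontrivial Ω := Finite.one_lt_card_iff_nontrivial.1 (by omega)
  have : Nontrivial G := by
    by_contra hnt
    rw [not_nontrivial_iff_subsingleton] at hnt
    obtain ⟨x, y, hxy⟩ := exists_pair_ne Ω
    obtain ⟨g, hg⟩ := MulAction.exists_smul_eq G x y
    rw [Subsingleton.elim g 1, one_smul] at hg
    exact hxy hg
  obtain ⟨N, hN, hN1, hmin⟩ := Lib.Cores.MinNormal.exists_minimal (G := G)
  have hNt : MulAction.IsPretransitive N Ω := normal_transitive hN hN1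
  obtain ⟨a⟩ : Nonempty Ω := inferInstance
  by_cases hab : IsMulCommutative N
  · obtain ⟨r, hr, hexp⟩ := Lib.Cores.MinNormal.exists_prime_pow_eq_one hN1 hmin
    refine Or.inl ⟨N, r, hr, hN, ⟨hab, hexp⟩, hNt, fun b => ?_⟩
    rw [Subgroup.eq_bot_iff_forall]
    intro x hx
    have hfix : ∀ c : Ω, (x : G) • c = c := by
      intro c
      obtain ⟨y, rfl⟩ := MulAction.exists_smul_eq N b c
      have hxb : x • b = b := hx
      change x • y • b = y • b
      rw [smul_smul, mul_comm' x y, ← smul_smul, hxb]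
    exact Subtype.ext (FaithfulSMul.eq_of_smul_eq_smul (α := Ω) (by simpa using hfix))
  · right
    have hcent : Subgroup.centralizer (N : Set G) = ⊥ := by
      by_contra hC
      have hCn : (Subgroup.centralizer (N : Set G)).Normal := centralizer_normal hN
      have hCt := normal_transitive (Ω := Ω) hCn hC
      -- then N is semiregular, hence a p-group
      have hder' : ∀ x ∈ N, x ≠ 1 → ∀ b : Ω, x • b ≠ b := by
        intro x hx hx1 b hb
        refine hx1 (FaithfulSMul.eq_of_smul_eq_smul (α := Ω) fun c => ?_)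
        obtain ⟨⟨y, hy⟩, rfl⟩ := hCt.exists_smul_eq b c
        rw [one_smul]
        change x • y • b = y • b
        rw [smul_smul, Subgroup.mem_centralizer_iff.1 hy x hx, ← smul_smul, hb]
      have := Fact.mk hp
      have hNp : IsPGroup p N := by
        intro x
        by_cases hx : x = 1
        · exact ⟨0, by simp [hx]⟩
        · obtain ⟨k, hk⟩ := hder (x : G) (hder' _ x.2 fun h => hx (Subtype.ext h))
          exact ⟨k, by rw [← hk, Subgroup.orderOf_coe, pow_orderOf_eq_one]⟩
      have : Group.IsSolvable N := by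
        have := hNp.isNilpotent
        infer_instance
      exact hab (Lib.Cores.MinNormal.isMulCommutative_of_solvable hN1 hmin)
    exact ⟨N, hN, simple_of hprim hN hN1 hmin hNt hcent hp hder hab, hab, hcent⟩


end Cfsg.Agent.S3556
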