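import Cfsg.Statements.S3557
import Cfsg.Agent.Lib.PGroups.Omega

set_option autoImplicit false
open Cfsg

namespace Cfsg.Agent.S3557

/-- Let G act faithfully and transitively on a finite set with 2p² points, p a prime, and suppose G is 2-closed: every permutation of the set which, on each ordered pair of points, agrees with some element of G, is itself induced by an element of G. Then some element of G of prime order fixes no point. -/
theorem result {G Ω : Type*} [Group G] [Finite G] [MulAction G Ω] [FaithfulSMul G Ω] [Finite Ω]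
    (htrans : MulAction.IsPretransitive G Ω) (p : ℕ) (hp : p.Prime) (hcard : Nat.card Ω = 2 * p ^ 2)
    (hcl : ∀ σ : Equiv.Perm Ω, (∀ a b : Ω, ∃ g : G, σ a = g • a ∧ σ b = g • b) → ∃ g : G, ∀ a : Ω, σ a = g • a) :
    ∃ g : G, (orderOf g).Prime ∧ ∀ ω : Ω, g • ω ≠ ω := by
  classical
  have := Fact.mk hp
  obtain ⟨P⟩ : Nonempty (Sylow p G) := inferInstance
  let Q : Subgroup G := ↑P
  have hQ : IsPGroup p Q := P.2
  have hp0 : 0 < p ^ 2 := pow_pos hp.pos 2
  obtain ⟨e, he⟩ := hQ.exists_card_eq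
  -- every orbit of `Q` has at least `p ^ 2` points
  have horb : ∀ u : Ω, ∃ k, 2 ≤ k ∧ Nat.card (MulAction.orbit Q u) = p ^ k := by
    intro u
    have hG : Nat.card Ω * Nat.card (MulAction.stabilizer G u) = Nat.card G := by
      rw [← MulAction.index_stabilizer_of_transitive G u]
      exact (MulAction.stabilizer G u).index_mul_card
    have hQu : Nat.card (MulAction.stabilizer Q u) ∣ Nat.card (MulAction.stabilizer G u) := by
      let f : MulAction.stabilizer Q u →* MulAction.stabilizer G u :=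
        { toFun := fun x => ⟨((x : Q) : G), x.2⟩
          map_one' := rfl
          map_mul' := fun _ _ => rfl }
      refine Subgroup.card_dvd_of_injective f fun x y hxy => ?_
      exact Subtype.ext (Subtype.ext (congrArg Subtype.val hxy :))
    obtain ⟨j, hj⟩ := (hQ.to_subgroup (MulAction.stabilizer Q u)).exists_card_eq
    obtain ⟨k, hk⟩ := hQ.card_orbit u
    have h1 : p ^ (2 + j) ∣ Nat.card G := by
      rw [← hG, hcard, pow_add]
      exact mul_dvd_mul (dvd_mul_left _ _) (hj ▸ hQu)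
    have he' : 2 + j ≤ e := by
      have h2 := (hp.pow_dvd_iff_le_factorization Nat.card_pos.ne').1 h1
      have h3 := P.card_eq_multiplicity
      rw [show Nat.card ↥(P : Subgroup G) = p ^ e from he] at h3
      rwa [Nat.pow_right_injective hp.two_le h3]
    refine ⟨k, ?_, hk⟩
    have h4 := (MulAction.stabilizer Q u).index_mul_card
    rw [MulAction.index_stabilizer, ← Nat.card_coe_set_eq, hk, hj, he, ← pow_add] at h4
    have := Nat.pow_right_injective hp.two_le h4
    omega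
  -- a central element of order `p`
  have hntriv : Nontrivial Q := by
    obtain ⟨a⟩ : Nonempty Ω := (Nat.card_pos_iff.1 (by rw [hcard]; omega)).1
    obtain ⟨k, hk, hka⟩ := horb a
    by_contra h
    rw [not_nontrivial_iff_subsingleton] at h
    have : Subsingleton (MulAction.orbit Q a) := ⟨fun ⟨_, x, hx⟩ ⟨_, y, hy⟩ =>
      Subtype.ext (hx.symm.trans ((congrArg (fun w : Q => w • a) (Subsingleton.elim x y)).trans hy))⟩
    have h1 : Nat.card (MulAction.orbit Q a) ≤ 1 := Finite.card_le_one_iff_subsingleton.2 this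
    have := Nat.one_lt_pow (show k ≠ 0 by omega) hp.one_lt
    omega
  obtain ⟨z, hzp⟩ : ∃ z : Subgroup.center Q, orderOf z = p := by
    have := hQ.center_nontrivial
    obtain ⟨n, hn0, hn⟩ := (hQ.to_subgroup (Subgroup.center Q)).nontrivial_iff_card.1 this
    exact exists_prime_orderOf_dvd_card' p (hn ▸ dvd_pow_self p (by omega))
  have hzord : orderOf ((z : Q) : G) = p := by rw [Subgroup.orderOf_coe, Subgroup.orderOf_coe, hzp]
  have hzc : ∀ (h : Q) (u : Ω), (h : G) • ((z : Q) : G) • u = ((z : Q) : G) • (h : G) • u := by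
    intro h u
    rw [smul_smul, smul_smul, ← Subgroup.coe_mul, ← Subgroup.coe_mul,
      Subgroup.mem_center_iff.1 z.2 h]
  by_cases hfix : ∀ ω : Ω, ((z : Q) : G) • ω ≠ ω
  · exact ⟨_, by rw [hzord]; exact hp, hfix⟩
  push Not at hfix
  obtain ⟨a, hza⟩ := hfix
  let Δ₁ := MulAction.orbit Q a
  have hz₁ : ∀ u ∈ Δ₁, ((z : Q) : G) • u = u := by
    rintro _ ⟨h, rfl⟩
    change _ • (h : G) • a = (h : G) • a
    rw [← hzc, hza]
  obtain ⟨b, hb⟩ : ∃ b : Ω, ((z : Q) : G) • b ≠ b := by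
    refine not_forall.1 fun h => ?_
    have : ((z : Q) : G) = 1 := FaithfulSMul.eq_of_smul_eq_smul (α := Ω) fun u => by rw [h u, one_smul]
    rw [this, orderOf_one] at hzord
    exact hp.one_lt.ne hzord
  let Δ₂ := MulAction.orbit Q b
  have hz₂ : ∀ u ∈ Δ₂, ((z : Q) : G) • u ≠ u := by
    rintro _ ⟨h, rfl⟩ he'
    change _ • (h : G) • b = (h : G) • b at he'
    rw [← hzc] at he'
    exact hb (MulAction.injective (h : G) he')
  have hdisj : Disjoint Δ₁ Δ₂ := Set.disjoint_left.2 fun u h1 h2 => hz₂ u h2 (hz₁ u h1)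
  obtain ⟨k₁, hk₁, hc₁⟩ := horb a
  obtain ⟨k₂, hk₂, hc₂⟩ := horb b
  have hsum : Δ₁.ncard + Δ₂.ncard ≤ 2 * p ^ 2 := by
    rw [← Set.ncard_union_eq hdisj, ← hcard]
    exact Set.ncard_le_card _
  rw [Nat.card_coe_set_eq] at hc₁ hc₂
  have hl₁ : p ^ 2 ≤ Δ₁.ncard := (Nat.pow_le_pow_right hp.pos hk₁).trans hc₁.ge
  have hl₂ : p ^ 2 ≤ Δ₂.ncard := (Nat.pow_le_pow_right hp.pos hk₂).trans hc₂.ge
  have huniv : ∀ u, u ∈ Δ₁ ∨ u ∈ Δ₂ := by
    have : Δ₁ ∪ Δ₂ = Set.univ := Set.eq_of_subset_of_ncard_le (Set.subset_univ _)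
      (by rw [Set.ncard_univ, hcard, Set.ncard_union_eq hdisj]; omega)
    exact fun u => (Set.ext_iff.1 this u).2 (Set.mem_univ u)
  -- the kernel on the blocks in `Δ₂`
  let K : Subgroup Q := MulAction.stabilizer Q b ⊔ Subgroup.zpowers (z : Q)
  have hzn : (Subgroup.zpowers (z : Q)).Normal := by
    refine ⟨fun x hx g => ?_⟩
    have : x ∈ Subgroup.center Q := Subgroup.zpowers_le.2 z.2 hx
    rwa [Subgroup.mem_center_iff.1 this g, mul_inv_cancel_right]
  have hK : ∀ k ∈ K, ∃ i : ℤ, (k : G) • b = (((z : Q) : G) ^ i) • b := by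
    intro k hk
    obtain ⟨s, hs, w, hw, rfl⟩ := Subgroup.mem_sup_of_normal_right.1 hk
    obtain ⟨i, rfl⟩ := Subgroup.mem_zpowers_iff.1 hw
    refine ⟨i, ?_⟩
    rw [Subgroup.mem_center_iff.1 ((Subgroup.center Q).zpow_mem z.2 i) s, Subgroup.coe_mul, mul_smul,
      Subgroup.coe_zpow]
    exact congrArg _ (MulAction.mem_stabilizer_iff.1 hs)
  have hKidx : K.index = 1 ∨ K.index = p := by
    have hlt : MulAction.stabilizer Q b < K := lt_of_le_of_ne le_sup_left fun h => hb
      (MulAction.mem_stabilizer_iff.1 (h ▸ Subgroup.mem_sup_right (Subgroup.mem_zpowers (z : Q)) :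
        (z : Q) ∈ MulAction.stabilizer Q b))
    obtain ⟨i, hi⟩ := hQ.index K
    have h1 := Subgroup.relIndex_mul_index hlt.le
    have h2 : (MulAction.stabilizer Q b).index = p ^ 2 := by
      rw [MulAction.index_stabilizer]
      show Δ₂.ncard = p ^ 2
      omega
    have h3 : (MulAction.stabilizer Q b).relIndex K ≠ 1 := fun h =>
      hlt.not_ge (Subgroup.relIndex_eq_one.1 h)
    rw [h2] at h1
    obtain ⟨j, hj⟩ : ∃ j, (MulAction.stabilizer Q b).relIndex K = p ^ j := by
      obtain ⟨j, -, hj⟩ := (Nat.dvd_prime_pow hp).1 (h1 ▸ dvd_mul_right _ _)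
      exact ⟨j, hj⟩
    rw [hi, hj, ← pow_add] at h1
    have := Nat.pow_right_injective hp.two_le h1
    have hj0 : j ≠ 0 := fun h => h3 (by rw [hj, h, pow_zero])
    rcases Nat.eq_zero_or_pos i with h | h
    · left; rw [hi, h, pow_zero]
    · right; rw [hi, show i = 1 by omega, pow_one]
  have hKn : K.Normal := by
    rcases hKidx with h | h
    · rw [Subgroup.index_eq_one.1 h]; infer_instance
    · refine Subgroup.normal_of_index_eq_minFac_card ?_
      rw [h, he, Nat.Prime.pow_minFac hp]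
      intro h0
      have := K.index_dvd_card
      rw [h, he, h0, pow_zero, Nat.dvd_one] at this
      exact hp.one_lt.ne' this
  -- the kernel on `Δ₁`
  let L : Subgroup Q := (MulAction.toPermHom Q Δ₁).ker
  have hLmem : ∀ l : Q, l ∈ L ↔ ∀ u ∈ Δ₁, (l : G) • u = u := by
    intro l
    rw [MonoidHom.mem_ker, Equiv.ext_iff]
    exact ⟨fun h u hu => congrArg Subtype.val (h ⟨u, hu⟩), fun h u => Subtype.ext (h u u.2)⟩
  have hmap : K.map (QuotientGroup.mk' L) ≠ ⊥ := by
    intro h
    rw [Subgroup.map_eq_bot_iff, QuotientGroup.ker_mk'] at h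
    have hKs : K ≤ MulAction.stabilizer Q a := fun k hk =>
      MulAction.mem_stabilizer_iff.2 ((hLmem k).1 (h hk) a (MulAction.mem_orbit_self a))
    have h1 := Nat.le_of_dvd (Nat.pos_of_ne_zero K.index_ne_zero_of_finite)
      (Subgroup.index_dvd_of_le hKs)
    rw [MulAction.index_stabilizer] at h1
    have h2 : p < p ^ 2 := lt_self_pow₀ hp.one_lt (by norm_num)
    have h3 : Δ₁.ncard ≤ K.index := h1
    have := hp.one_lt
    omega
  obtain ⟨Z, hZK, hZc, -, hZp⟩ := Cfsg.Agent.Lib.PGroups.exists_central_card_prime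
    (hQ.to_quotient L) (K.map (QuotientGroup.mk' L)) hmap
  obtain ⟨x', hx'⟩ := exists_prime_orderOf_dvd_card' (G := Z) p (by rw [hZp])
  obtain ⟨x, hxK, hx⟩ := Subgroup.mem_map.1 (hZK x'.2)
  have hx1 : x ∉ L := fun h => by
    have : (x' : Q ⧸ L) = 1 := by rw [← hx]; exact (QuotientGroup.eq_one_iff x).2 h
    rw [← Subgroup.orderOf_coe, this, orderOf_one] at hx'
    exact hp.one_lt.ne hx'
  have hxc : ∀ h : Q, ∀ u ∈ Δ₁, (x : G) • (h : G) • u = (h : G) • (x : G) • u := by
    intro h u hu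
    have hmem : (h * x)⁻¹ * (x * h) ∈ L := by
      rw [← QuotientGroup.eq_one_iff]
      have hc := Subgroup.mem_center_iff.1 (hZc x'.2) (h : Q ⧸ L)
      rw [← hx] at hc
      simp only [QuotientGroup.mk'_apply] at hc
      rw [QuotientGroup.mk_mul, QuotientGroup.mk_inv, QuotientGroup.mk_mul, QuotientGroup.mk_mul, hc,
        inv_mul_cancel]
    have h' := (hLmem _).1 hmem u hu
    rw [Subgroup.coe_mul, mul_smul, Subgroup.coe_inv, inv_smul_eq_iff, Subgroup.coe_mul,
      Subgroup.coe_mul, mul_smul, mul_smul] at h'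
    exact h'
  have hxp : ∀ u ∈ Δ₁, ((x : G) ^ p) • u = u := by
    intro u hu
    have hmem : x ^ p ∈ L := by
      rw [← QuotientGroup.eq_one_iff, QuotientGroup.mk_pow]
      rw [QuotientGroup.mk'_apply] at hx
      rw [hx, ← Subgroup.coe_pow, ← hx', pow_orderOf_eq_one, Subgroup.coe_one]
    have h' := (hLmem _).1 hmem u hu
    rwa [Subgroup.coe_pow] at h'
  have hxne : ∀ u ∈ Δ₁, (x : G) • u ≠ u := by
    rintro _ ⟨h, rfl⟩ hhu
    refine hx1 ((hLmem x).2 ?_)
    rintro _ ⟨h', rfl⟩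
    change (x : G) • (h : G) • a = (h : G) • a at hhu
    change (x : G) • (h' : G) • a = (h' : G) • a
    rw [hxc h a (MulAction.mem_orbit_self a)] at hhu
    rw [hxc h' a (MulAction.mem_orbit_self a), MulAction.injective (h : G) hhu]
  have hinv₁ : ∀ (h : Q), ∀ u ∈ Δ₁, (h : G) • u ∈ Δ₁ := fun h u hu =>
    MulAction.mem_orbit_of_mem_orbit h hu
  have hinv₂ : ∀ (h : Q), ∀ u ∈ Δ₂, (h : G) • u ∈ Δ₂ := fun h u hu =>
    MulAction.mem_orbit_of_mem_orbit h hu
  let f : Ω → Ω := fun u => if u ∈ Δ₁ then (x : G) • u else ((z : Q) : G) • u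
  have hf₁ : ∀ u ∈ Δ₁, f u = (x : G) • u := fun u hu => if_pos hu
  have hf₂ : ∀ u ∈ Δ₂, f u = ((z : Q) : G) • u := fun u hu =>
    if_neg fun h => Set.disjoint_left.1 hdisj h hu
  have hfinj : Function.Injective f := by
    intro u v huv
    rcases huniv u with hu | hu <;> rcases huniv v with hv | hv
    · rw [hf₁ u hu, hf₁ v hv] at huv; exact MulAction.injective _ huv
    · rw [hf₁ u hu, hf₂ v hv] at huv
      exact (Set.disjoint_left.1 hdisj (hinv₁ x u hu) (huv ▸ hinv₂ z v hv)).elim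
    · rw [hf₂ u hu, hf₁ v hv] at huv
      exact (Set.disjoint_left.1 hdisj (huv ▸ hinv₁ x v hv) (hinv₂ z u hu)).elim
    · rw [hf₂ u hu, hf₂ v hv] at huv; exact MulAction.injective _ huv
  -- agreement on pairs
  have hmix : ∀ u ∈ Δ₁, ∀ v ∈ Δ₂, ∃ g : G, f u = g • u ∧ f v = g • v := by
    intro u hu v hv
    obtain ⟨h, rfl⟩ := hv
    obtain ⟨i, hi⟩ := hK (h⁻¹ * x * h) (by
      have := hKn.conj_mem x hxK h⁻¹
      rwa [inv_inv] at this)
    have hxv : (x : G) • (h : G) • b = (((z : Q) : G) ^ i) • (h : G) • b := by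
      rw [Subgroup.coe_mul, Subgroup.coe_mul, Subgroup.coe_inv, mul_smul, mul_smul, inv_smul_eq_iff] at hi
      rw [hi, smul_smul, smul_smul, ← Subgroup.coe_zpow, ← Subgroup.coe_mul, ← Subgroup.coe_mul,
        Subgroup.mem_center_iff.1 ((Subgroup.center Q).zpow_mem z.2 i) h]
    refine ⟨((z : Q) : G) ^ (1 - i) * (x : G), ?_, ?_⟩
    · rw [hf₁ u hu, mul_smul]
      symm
      have hzu := hz₁ _ (hinv₁ x u hu)
      exact (Subgroup.zpow_mem (MulAction.stabilizer G ((x : G) • u)) hzu (1 - i) :)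
    · rw [hf₂ _ (MulAction.mem_orbit b h), mul_smul]
      change _ = _ • (x : G) • (h : G) • b
      rw [hxv, smul_smul, ← zpow_add, sub_add_cancel, zpow_one]
      rfl
  obtain ⟨g, hg⟩ := hcl (Equiv.ofBijective f (Finite.injective_iff_bijective.1 hfinj)) fun u v => by
    simp only [Equiv.ofBijective_apply]
    rcases huniv u with hu | hu <;> rcases huniv v with hv | hv
    · exact ⟨x, hf₁ u hu, hf₁ v hv⟩
    · exact hmix u hu v hv
    · obtain ⟨g, h1, h2⟩ := hmix v hv u hu
      exact ⟨g, h2, h1⟩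
    · exact ⟨_, hf₂ u hu, hf₂ v hv⟩
  simp only [Equiv.ofBijective_apply] at hg
  have hne : ∀ u, g • u ≠ u := fun u => by
    rw [← hg u]
    rcases huniv u with hu | hu
    · rw [hf₁ u hu]; exact hxne u hu
    · rw [hf₂ u hu]; exact hz₂ u hu
  refine ⟨g, ?_, hne⟩
  have hgn₁ : ∀ (n : ℕ), ∀ u ∈ Δ₁, g ^ n • u = (x : G) ^ n • u := by
    intro n
    induction n with
    | zero => intro u _; simp
    | succ n ih =>
      intro u hu
      rw [pow_succ, mul_smul, ← hg u, hf₁ u hu, ih _ (hinv₁ x u hu), pow_succ, mul_smul]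
  have hgn₂ : ∀ (n : ℕ), ∀ u ∈ Δ₂, g ^ n • u = ((z : Q) : G) ^ n • u := by
    intro n
    induction n with
    | zero => intro u _; simp
    | succ n ih =>
      intro u hu
      rw [pow_succ, mul_smul, ← hg u, hf₂ u hu, ih _ (hinv₂ z u hu), pow_succ, mul_smul]
  have hgp : g ^ p = 1 := FaithfulSMul.eq_of_smul_eq_smul (α := Ω) fun u => by
    rw [one_smul]
    rcases huniv u with hu | hu
    · rw [hgn₁ p u hu, hxp u hu]
    · rw [hgn₂ p u hu, ← hzord, pow_orderOf_eq_one, one_smul]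
  have hg1 : g ≠ 1 := fun h => hne a (by rw [h, one_smul])
  rw [orderOf_eq_prime hgp hg1]
  exact hp

end Cfsg.Agent.S3557
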