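import Cfsg.Statements.S3560
-- import your own Cfsg.Agent.* helpers here

set_option autoImplicit false
open Cfsg

namespace Cfsg.Agent.S3560

open scoped Pointwise

/-- differ in exactly one coordinate -/
def Adj {ι A : Type*} (u v : ι → A) : Prop := ∃ i, u i ≠ v i ∧ ∀ j, j ≠ i → u j = v j

theorem adj_piCongr {ι A : Type*} (π : ι → Equiv.Perm A) (u v : ι → A) :
    Adj (Equiv.piCongrRight π u) (Equiv.piCongrRight π v) ↔ Adj u v := by
  simp [Adj]

theorem adj_comp {ι A : Type*} (σ : Equiv.Perm ι) (u v : ι → A) :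
    Adj (u ∘ σ) (v ∘ σ) ↔ Adj u v := by
  constructor
  · rintro ⟨i, hi, h⟩
    exact ⟨σ i, hi, fun j hj => by
      simpa using h (σ.symm j) (by rwa [Ne, Equiv.symm_apply_eq])⟩
  · rintro ⟨i, hi, h⟩
    exact ⟨σ.symm i, by simpa using hi, fun j hj => h (σ j) (by rwa [Ne, ← Equiv.eq_symm_apply])⟩

theorem exists_map_adj {ι A : Type*} {u v u' v' : ι → A} (h : Adj u v) (h' : Adj u' v') :
    ∃ s : Equiv.Perm (ι → A), (∀ x y, Adj (s x) (s y) ↔ Adj x y) ∧ s u = u' ∧ s v = v' := by
  classical
  obtain ⟨i, hi, hu⟩ := h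
  obtain ⟨j, hj, hu'⟩ := h'
  let σ : Equiv.Perm ι := Equiv.swap i j
  have key : ∀ l, ∃ π : Equiv.Perm A, π (u (σ l)) = u' l ∧ π (v (σ l)) = v' l := by
    intro l
    rcases eq_or_ne l j with rfl | hl
    · let π₁ := Equiv.swap (u i) (u' l)
      refine ⟨π₁.trans (Equiv.swap (π₁ (v i)) (v' l)), ?_, ?_⟩
      · simp only [σ, Equiv.swap_apply_right, Equiv.trans_apply]
        rw [Equiv.swap_apply_left]
        refine Equiv.swap_apply_of_ne_of_ne ?_ hj
        intro he
        have : π₁ (u i) = π₁ (v i) := by rw [Equiv.swap_apply_left]; exact he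
        exact hi (π₁.injective this)
      · simp [σ]
    · have hne : σ l ≠ i := by
        intro he
        apply hl
        have h1 := congrArg σ he
        simpa [σ] using h1
      refine ⟨Equiv.swap (u (σ l)) (u' l), Equiv.swap_apply_left _ _, ?_⟩
      rw [← hu (σ l) hne, ← hu' l hl, Equiv.swap_apply_left]
  choose π hπu hπv using key
  let c : Equiv.Perm (ι → A) :=
    { toFun := fun x => x ∘ σ
      invFun := fun x => x ∘ σ
      left_inv := fun x => by funext l; simp [σ]
      right_inv := fun x => by funext l; simp [σ] }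
  exact ⟨c.trans (Equiv.piCongrRight π),
    fun x y => (adj_piCongr π _ _).trans (adj_comp σ x y), funext hπu, funext hπv⟩

/-- Let K be a finite group isomorphic to a direct product of r ≥ 2 groups all of the same order m ≥ 3. Then K is not a B-group: there is a primitive but not doubly transitive permutation group (on some finite set) containing a regular subgroup isomorphic to K. -/
theorem result {K : Type*} [Group K] [Finite K] {ι : Type*} [Fintype ι] (F : ι → Type*) [∀ i, Group (F i)]
    (hr : 2 ≤ Fintype.card ι) (m : ℕ) (hm : 3 ≤ m) (hcard : ∀ i, Nat.card (F i) = m) (e : K ≃* (∀ i, F i)) :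
    ∃ (n : ℕ) (G R : Subgroup (Equiv.Perm (Fin n))), R ≤ G ∧ Nonempty (↥R ≃* K) ∧
      MulAction.IsPretransitive ↥R (Fin n) ∧ (∀ a : Fin n, MulAction.stabilizer ↥R a = ⊥) ∧
      MulAction.IsPreprimitive ↥G (Fin n) ∧ ¬ MulAction.IsMultiplyPretransitive ↥G (Fin n) 2 := by
  classical
  have hFfin : ∀ i, Finite (F i) := fun i => Nat.finite_of_card_ne_zero (by rw [hcard i]; omega)
  have hK : Nat.card (∀ i, F i) = m ^ Fintype.card ι := by
    rw [Nat.card_pi, Finset.prod_congr rfl fun i _ => hcard i, Finset.prod_const, Finset.card_univ]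
  let A := Fin m
  let X := ι → A
  have hX : Nat.card X = m ^ Fintype.card ι := by
    simp [X, A, Nat.card_eq_fintype_card]
  let eK : K ≃ X := e.toEquiv.trans (Equiv.piCongrRight fun i =>
    (Finite.equivFinOfCardEq (hcard i)))
  let f : Fin (m ^ Fintype.card ι) ≃ X := (Finite.equivFinOfCardEq hX).symm
  let G : Subgroup (Equiv.Perm (Fin (m ^ Fintype.card ι))) :=
    { carrier := {s | ∀ a b, Adj (f (s a)) (f (s b)) ↔ Adj (f a) (f b)}
      one_mem' := fun _ _ => Iff.rfl
      mul_mem' := fun {s t} hs ht a b => (hs (t a) (t b)).trans (ht a b)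
      inv_mem' := fun {s} hs a b => by
        have := hs (s⁻¹ a) (s⁻¹ b)
        simp only [Equiv.Perm.coe_inv, Equiv.apply_symm_apply] at this
        exact this.symm }
  let φ : K →* Equiv.Perm (Fin (m ^ Fintype.card ι)) :=
    ((f.trans eK.symm).symm.permCongrHom.toMonoidHom).comp (MulAction.toPermHom K K)
  have hφ : ∀ k a, φ k a = f.symm (eK (k * eK.symm (f a))) := fun _ _ => rfl
  have hφinj : Function.Injective φ := by
    intro k l h
    have h' := Equiv.congr_fun h (f.symm (eK 1))
    simp only [hφ, Equiv.apply_symm_apply, Equiv.symm_apply_apply, mul_one,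
      EmbeddingLike.apply_eq_iff_eq] at h'
    exact h'
  have hconv : ∀ s : Equiv.Perm X, (∀ u v, Adj (s u) (s v) ↔ Adj u v) →
      f.symm.permCongr s ∈ G := by
    intro s hs a b
    simpa using hs (f a) (f b)
  have hφG : φ.range ≤ G := by
    rintro _ ⟨k, rfl⟩
    have : φ k = f.symm.permCongr (Equiv.piCongrRight fun i =>
        (Finite.equivFinOfCardEq (hcard i)).permCongr (Equiv.mulLeft (e k i))) := by
      refine Equiv.ext fun a => ?_
      simp only [hφ, Equiv.permCongr_apply, Equiv.symm_symm]
      congr 1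
      funext i
      simp [eK, Equiv.piCongrRight, Pi.map_apply]
    rw [this]
    exact hconv _ (adj_piCongr _)
  have hRt : MulAction.IsPretransitive φ.range (Fin (m ^ Fintype.card ι)) := by
    refine ⟨fun a b => ⟨⟨φ (eK.symm (f b) * (eK.symm (f a))⁻¹), ⟨_, rfl⟩⟩, ?_⟩⟩
    change φ _ a = b
    rw [hφ]
    simp
  have hGt : MulAction.IsPretransitive G (Fin (m ^ Fintype.card ι)) := by
    refine ⟨fun a b => ?_⟩
    obtain ⟨g, hg⟩ := hRt.exists_smul_eq a b
    exact ⟨⟨g, hφG g.2⟩, hg⟩
  refine ⟨m ^ Fintype.card ι, G, φ.range, hφG, ⟨(MonoidHom.ofInjective hφinj).symm⟩, hRt, ?_, ?_, ?_⟩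
  · intro a
    rw [Subgroup.eq_bot_iff_forall]
    rintro ⟨_, k, rfl⟩ hk
    have hk' : φ k a = a := hk
    rw [hφ, Equiv.symm_apply_eq, ← Equiv.eq_symm_apply, mul_eq_right] at hk'
    subst hk'
    exact Subtype.ext φ.map_one
  · have : Nonempty X := ⟨fun _ => ⟨0, by omega⟩⟩
    have : Nonempty (Fin (m ^ Fintype.card ι)) := f.nonempty
    obtain ⟨a⟩ := this
    refine MulAction.IsPreprimitive.of_isTrivialBlock_base a fun {B} haB hB => ?_
    by_cases hs : B.Subsingleton
    · exact Or.inl hs
    right
    obtain ⟨b, hbB, hba⟩ : ∃ b ∈ B, b ≠ a := by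
      by_contra h
      push Not at h
      exact hs fun u hu v hv => (h u hu).trans (h v hv).symm
    have hstab : ∀ (g : G) (u : Fin (m ^ Fintype.card ι)), u ∈ B → (g : Equiv.Perm _) u ∈ B →
        ∀ v ∈ B, (g : Equiv.Perm _) v ∈ B := by
      intro g u hu hgu v hv
      have hgB : g • B = B := (hB.smul_eq_or_disjoint g).resolve_right fun hd =>
        Set.disjoint_left.1 hd (Set.smul_mem_smul_set hu) hgu
      exact hgB ▸ Set.smul_mem_smul_set (a := g) hv
    obtain ⟨i, hi⟩ : ∃ i, f b i ≠ f a i := by
      by_contra h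
      push Not at h
      exact hba (f.injective (funext h))
    obtain ⟨c, hc1, hc2⟩ : ∃ c : A, c ≠ f b i ∧ c ≠ f a i :=
      (by
        obtain ⟨c, -, hc⟩ := Finset.exists_mem_notMem_of_card_lt_card (s := {f b i, f a i})
          (t := (Finset.univ : Finset A))
          (lt_of_le_of_lt Finset.card_le_two (by simp [A]; omega))
        exact ⟨c, fun h => hc (by simp [h]), fun h => hc (by simp [h])⟩)
    let sw : Equiv.Perm X := Equiv.piCongrRight
      (Function.update (fun _ => Equiv.refl A) i (Equiv.swap (f b i) c))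
    have hsa : sw (f a) = f a := by
      funext j
      rcases eq_or_ne j i with rfl | hj
      · simp [sw, Equiv.piCongrRight, Pi.map_apply, Equiv.swap_apply_of_ne_of_ne hi.symm hc2.symm]
      · simp [sw, Equiv.piCongrRight, Pi.map_apply, hj]
    have hb' : f.symm (sw (f b)) ∈ B := by
      have := hstab ⟨_, hconv sw (adj_piCongr _)⟩ a haB (by simpa [hsa] using haB) b hbB
      simpa using this
    have hadj : Adj (f b) (sw (f b)) :=
      ⟨i, by simpa [sw, Equiv.piCongrRight, Pi.map_apply] using hc1.symm, fun j hj => by simp [sw, Equiv.piCongrRight, Pi.map_apply, hj]⟩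
    have hclosed : ∀ u v : X, f.symm u ∈ B → Adj u v → f.symm v ∈ B := by
      intro u v hu huv
      obtain ⟨s, hs, hsu, hsv⟩ := exists_map_adj hadj huv
      have h1 := hstab ⟨_, hconv s hs⟩ b hbB (by simpa [hsu] using hu) _ hb'
      simpa [hsv] using h1
    refine Set.eq_univ_of_forall fun v => ?_
    have hall : ∀ T : Finset ι, ∀ w : X, (∀ j ∉ T, w j = f a j) → f.symm w ∈ B := by
      intro T
      induction T using Finset.induction_on with
      | empty =>
        intro w hw
        have : w = f a := funext fun j => hw j (Finset.notMem_empty j)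
        simpa [this] using haB
      | insert j T hj ih =>
        intro w hw
        rcases eq_or_ne (w j) (f a j) with h | h
        · exact ih w fun l hl => by
            rcases eq_or_ne l j with rfl | hlj
            · exact h
            · exact hw l (by simp [hl, hlj])
        · refine hclosed (Function.update w j (f a j)) w (ih _ fun l hl => ?_) ⟨j, ?_, fun l hl => ?_⟩
          · rcases eq_or_ne l j with rfl | hlj
            · simp
            · simpa [hlj] using hw l (by simp [hl, hlj])
          · simpa using h.symm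
          · simp [hl]
    simpa using hall Finset.univ (f v) fun j hj => absurd (Finset.mem_univ j) hj
  · intro h2
    obtain ⟨i, j, hij⟩ := Fintype.exists_pair_of_one_lt_card (α := ι) (by omega)
    let z : X := fun _ => ⟨0, by omega⟩
    let o : A := ⟨1, by omega⟩
    let u : X := Function.update z i o
    let w : X := Function.update u j o
    have hzo : z i ≠ o := by simp [z, o, A, Fin.ext_iff]
    have hzu : z ≠ u := fun h => hzo (by simpa [u] using congrFun h i)
    have hzw : z ≠ w := fun h => hzo (by simpa [u, w, hij] using congrFun h i)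
    have hadj : Adj z u := ⟨i, by simpa [u] using hzo, fun l hl => by simp [u, hl]⟩
    have hnadj : ¬ Adj z w := by
      rintro ⟨l, -, hl⟩
      rcases eq_or_ne l i with rfl | hli
      · have := hl j hij.symm
        simp [w, z, o, A, Fin.ext_iff] at this
      · have := hl i hli.symm
        simp [w, u, hij, z, o, A, Fin.ext_iff] at this
    obtain ⟨g, hga, hgb⟩ : ∃ g : G, g • f.symm z = f.symm z ∧ g • f.symm u = f.symm w :=
      MulAction.is_two_pretransitive_iff.1 h2 (f.symm.injective.ne hzu) (f.symm.injective.ne hzw)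
    have := (g.2 (f.symm z) (f.symm u)).2 (by simpa using hadj)
    simp only [Subgroup.smul_def, Equiv.Perm.smul_def] at hga hgb
    rw [hga, hgb] at this
    exact hnadj (by simpa using this)


end Cfsg.Agent.S3560
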