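import Cfsg.Statements.S3571
import Cfsg.Agent.Lib.AltDerange.Core
import Cfsg.Agent.Lib.AltDerange.Six
import Cfsg.Agent.Lib.Alternating.Aut

set_option autoImplicit false
open Cfsg

namespace Cfsg.Agent.S3571

/-- An almost simple group with socle `A_m`, `m ≠ 6`, is a permutation group of degree `m`. -/
theorem exists_embedding {G : Type*} [Group G] (T : Subgroup G) [T.Normal]
    (hTc : Subgroup.centralizer (T : Set G) = ⊥) {m : ℕ} (hm : 5 ≤ m) (h6 : m ≠ 6)
    (eT : ↥T ≃* ↥(alternatingGroup (Fin m))) :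
    ∃ ψ : G →* Equiv.Perm (Fin m), Function.Injective ψ ∧
      ∀ t : ↥T, ψ (t : G) = (eT t : Equiv.Perm (Fin m)) := by
  have hinj : Function.Injective
      (MulAut.conjNormal : Equiv.Perm (Fin m) →* MulAut ↥(alternatingGroup (Fin m))) :=
    Cfsg.Agent.Lib.Alternating.conjNormal_injective (by simp; omega)
  have hsur := Cfsg.Agent.Lib.Alternating.conjNormal_surjective (α := Fin m) (by simp; omega) (by simpa using h6)
  let E := MulEquiv.ofBijective _ ⟨hinj, hsur⟩
  let Φ : G →* MulAut ↥(alternatingGroup (Fin m)) :=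
    (MulAut.congr eT).toMonoidHom.comp (MulAut.conjNormal (H := T))
  have hΦ : ∀ g a, Φ g a = eT (MulAut.conjNormal g (eT.symm a)) := fun g a => rfl
  have happly : ∀ g, (MulAut.conjNormal (E.symm (Φ g)) : MulAut ↥(alternatingGroup (Fin m))) = Φ g :=
    fun g => E.apply_symm_apply (Φ g)
  refine ⟨E.symm.toMonoidHom.comp Φ, ?_, fun t => hinj ?_⟩
  · rw [← MonoidHom.ker_eq_bot_iff, eq_bot_iff]
    intro g hg
    have h0 : E.symm (Φ g) = 1 := hg
    rw [← hTc, Subgroup.mem_centralizer_iff]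
    intro t ht
    have h1 := happly g
    rw [h0, map_one] at h1
    have h2 := hΦ g (eT ⟨t, ht⟩)
    rw [← h1, MulEquiv.symm_apply_apply, MulAut.one_apply] at h2
    have h3 := congrArg Subtype.val (eT.injective h2)
    rw [MulAut.conjNormal_apply] at h3
    exact (mul_inv_eq_iff_eq_mul.1 h3.symm).symm
  · show MulAut.conjNormal (E.symm (Φ (t : G))) = _
    rw [happly]
    ext a : 1
    rw [hΦ]
    refine Subtype.ext ?_
    have : MulAut.conjNormal (t : G) (eT.symm a) = t * eT.symm a * t⁻¹ := Subtype.ext (by simp)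
    rw [this, map_mul, map_mul, map_inv, MulEquiv.apply_symm_apply, MulAut.conjNormal_apply]
    simp

/-- Let G be an almost simple group whose socle is an alternating group of degree m ≥ 5 (G has a normal subgroup T isomorphic to that alternating group with trivial centralizer), acting faithfully and primitively on a finite set Ω with at least two points, and let r be the largest prime divisor of the number of points. Then G contains an element of order r fixing no point. -/
theorem result {G Ω : Type*} [Group G] [Finite G] [MulAction G Ω] [FaithfulSMul G Ω] [Finite Ω]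
    (T : Subgroup G) (hT : T.Normal) (hTc : Subgroup.centralizer (T : Set G) = ⊥) (m : ℕ) (hm : 5 ≤ m)
    (eT : ↥T ≃* ↥(alternatingGroup (Fin m))) (hprim : MulAction.IsPreprimitive G Ω) (hΩ : 2 ≤ Nat.card Ω)
    (r : ℕ) (hr : r.Prime) (hrd : r ∣ Nat.card Ω) (hmax : ∀ s : ℕ, s.Prime → s ∣ Nat.card Ω → s ≤ r) :
    ∃ g : G, orderOf g = r ∧ ∀ ω : Ω, g • ω ≠ ω := by
  classical
  haveI := hT
  haveI := hprim
  haveI : Nontrivial Ω := Finite.one_lt_card_iff_nontrivial.1 (by omega)
  have hA5 : IsSimpleGroup ↥(alternatingGroup (Fin m)) := alternatingGroup.isSimpleGroup (by simp; omega)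
  have hTne : T ≠ ⊥ := fun h => by
    have hsub : Subsingleton ↥T := by subst h; infer_instance
    haveI := hA5
    exact not_subsingleton ↥(alternatingGroup (Fin m)) eT.symm.toEquiv.subsingleton
  have hTtr : MulAction.IsPretransitive ↥T Ω := MulAction.IsQuasiPreprimitive.isPretransitive_of_normal (by
    intro h
    refine hTne (eq_bot_iff.2 fun t ht => FaithfulSMul.eq_of_smul_eq_smul (α := Ω) fun ω => ?_)
    rw [one_smul]
    exact (MulAction.mem_fixedPoints.1 (h ▸ Set.mem_univ ω) : ∀ n : ↥T, n • ω = ω) ⟨t, ht⟩)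
  rcases eq_or_ne m 6 with rfl | h6
  · obtain ⟨g, hg, hg'⟩ := Cfsg.Agent.Lib.AltDerange.exists_derangement_six (Ω := Ω) eT hΩ hr hrd hmax
    exact ⟨g, by rw [Subgroup.orderOf_coe, hg], hg'⟩
  obtain ⟨ψ, hψ, hψT⟩ := exists_embedding T hTc hm h6 eT
  obtain ⟨ω₀⟩ := (inferInstance : Nonempty Ω)
  have hP : alternatingGroup (Fin m) ≤ ψ.range := fun a ha =>
    ⟨(eT.symm ⟨a, ha⟩ : G), by rw [hψT, MulEquiv.apply_symm_apply]⟩
  set S := MulAction.stabilizer G ω₀ with hS
  have hrel : (S.map ψ).relIndex ψ.range = Nat.card Ω := by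
    rw [MonoidHom.range_eq_map, Subgroup.relIndex_map_map_of_injective _ _ hψ, Subgroup.relIndex_top_right,
      MulAction.index_stabilizer_of_transitive]
  have hcoatom : IsCoatom S := MulAction.IsPreprimitive.isCoatom_stabilizer_of_isPreprimitive G ω₀
  have hmaxK : ∀ K, S.map ψ ≤ K → K ≤ ψ.range → K ≠ ψ.range → K = S.map ψ := by
    intro K hK hKP hne
    have h1 : S ≤ K.comap ψ := Subgroup.map_le_iff_le_comap.1 hK
    rcases hcoatom.le_iff.1 h1 with h | h
    · exact absurd (le_antisymm hKP fun x hx => by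
        obtain ⟨g, rfl⟩ := hx
        have : g ∈ K.comap ψ := h ▸ Subgroup.mem_top g
        exact this) hne
    · exact (le_antisymm (fun x hx => by
        obtain ⟨g, rfl⟩ := hKP hx
        exact ⟨g, h ▸ (show g ∈ K.comap ψ from hx), rfl⟩) hK)
  have hnA : ¬ alternatingGroup (Fin m) ≤ S.map ψ := by
    intro h
    refine hTne (eq_bot_iff.2 fun t ht => FaithfulSMul.eq_of_smul_eq_smul (α := Ω) fun ω => ?_)
    have hTS : T ≤ S := fun x hx => by
      obtain ⟨y, hy, e⟩ := h (eT ⟨x, hx⟩).2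
      rw [← hψT ⟨x, hx⟩] at e
      have e2 : y = x := hψ e
      exact e2 ▸ hy
    obtain ⟨c, hc⟩ := MulAction.exists_smul_eq ↥T ω₀ ω
    have hω : ω = ω₀ := by rw [← hc]; exact hTS c.2
    rw [hω, one_smul]
    exact hTS ht
  obtain ⟨σ, hσ, hord, hder⟩ := Cfsg.Agent.Lib.AltDerange.exists_derangement hm ψ.range (S.map ψ) hP
    (Subgroup.map_le_range _ _) hmaxK hnA hr (hrel.symm ▸ hrd) (fun s hs hd => hmax s hs (hrel ▸ hd))
  obtain ⟨g, rfl⟩ := hσ
  refine ⟨g, by rw [← orderOf_injective ψ hψ, hord], fun ω hω => ?_⟩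
  obtain ⟨c, hc⟩ := MulAction.exists_smul_eq G ω ω₀
  refine hder (ψ c) ⟨c, rfl⟩ ⟨c * g * c⁻¹, ?_, by simp⟩
  rw [SetLike.mem_coe, hS, MulAction.mem_stabilizer_iff, ← hc, smul_smul, inv_mul_cancel_right, mul_smul, hω]

end Cfsg.Agent.S3571
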