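import Cfsg.Statements.S3573
-- import your own Cfsg.Agent.* helpers here

set_option autoImplicit false
open Cfsg

namespace Cfsg.Agent.S3573

open Equiv in
theorem exists_invariant (n k r : ℕ) (hr : r.Prime) (hkn : k ≤ n) (h : k % r ≤ n % r)
    (σ : Equiv.Perm (Fin n)) (hσ : orderOf σ = r) :
    ∃ s : Finset (Fin n), s.card = k ∧ s.image σ = s := by
  classical
  have := Fact.mk hr
  obtain ⟨j, hj⟩ := Equiv.Perm.cycleType_prime_order (σ := σ) (hσ.symm ▸ hr)
  rw [hσ] at hj
  have hsupp : σ.support.card = (j + 1) * r := by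
    rw [← Equiv.Perm.sum_cycleType, hj, Multiset.sum_replicate, smul_eq_mul]
  have hfac : σ.cycleFactorsFinset.card = j + 1 := by
    have := congrArg Multiset.card hj
    rwa [Equiv.Perm.cycleType_def, Multiset.card_map, Multiset.card_replicate] at this
  have hle : (j + 1) * r ≤ n := by
    rw [← hsupp]; simpa using Finset.card_le_univ σ.support
  have hbound : k - min (j + 1) (k / r) * r ≤ n - (j + 1) * r := by
    rcases le_total (j + 1) (k / r) with hh | hh
    · rw [min_eq_left hh]; omega
    · rw [min_eq_right hh, ← Nat.mod_eq_sub_div_mul]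
      refine h.trans ?_
      have hh2 : (j + 1) ≤ n / r := (Nat.le_div_iff_mul_le hr.pos).2 hle
      have hh3 := Nat.mul_le_mul_right r hh2
      rw [Nat.mod_eq_sub_div_mul]
      omega
  obtain ⟨S, hS, hScard⟩ := Finset.exists_subset_card_eq
    (s := σ.cycleFactorsFinset) (n := min (j + 1) (k / r)) (by rw [hfac]; exact min_le_left _ _)
  obtain ⟨T, hT, hTcard⟩ := Finset.exists_subset_card_eq (s := σ.supportᶜ)
    (n := k - min (j + 1) (k / r) * r) (by
      rw [Finset.card_compl, hsupp, Fintype.card_fin]; exact hbound)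
  have hcs : ∀ c ∈ S, c.support.card = r := by
    intro c hc
    have : c.support.card ∈ σ.cycleType := by
      rw [Equiv.Perm.cycleType_def, Multiset.mem_map]
      exact ⟨c, hS hc, rfl⟩
    rw [hj] at this
    exact Multiset.eq_of_mem_replicate this
  have hU : (S.biUnion Equiv.Perm.support).card = min (j + 1) (k / r) * r := by
    rw [Finset.card_biUnion, Finset.sum_congr rfl hcs, Finset.sum_const, hScard, smul_eq_mul]
    intro a ha b hb hab
    exact (σ.cycleFactorsFinset_pairwise_disjoint (hS ha) (hS hb) hab).disjoint_support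
  have hdisj : Disjoint (S.biUnion Equiv.Perm.support) T := by
    rw [Finset.disjoint_left]
    intro x hx hxT
    obtain ⟨c, hc, hxc⟩ := Finset.mem_biUnion.1 hx
    exact Finset.mem_compl.1 (hT hxT) (Equiv.Perm.mem_cycleFactorsFinset_support_le (hS hc) hxc)
  refine ⟨S.biUnion Equiv.Perm.support ∪ T, ?_, Finset.eq_of_subset_of_card_le ?_ ?_⟩
  · rw [Finset.card_union_of_disjoint hdisj, hU, hTcard]
    have : min (j + 1) (k / r) * r ≤ k :=
      (Nat.mul_le_mul_right r (min_le_right _ _)).trans (Nat.div_mul_le_self k r)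
    omega
  · intro y hy
    obtain ⟨x, hx, rfl⟩ := Finset.mem_image.1 hy
    rcases Finset.mem_union.1 hx with hx | hx
    · obtain ⟨c, hc, hxc⟩ := Finset.mem_biUnion.1 hx
      refine Finset.mem_union_left _ (Finset.mem_biUnion.2 ⟨c, hc, ?_⟩)
      rw [← (Equiv.Perm.mem_cycleFactorsFinset_iff.1 (hS hc)).2 x hxc]
      exact Equiv.Perm.apply_mem_support.2 hxc
    · refine Finset.mem_union_right _ ?_
      rwa [Equiv.Perm.notMem_support.1 (Finset.mem_compl.1 (hT hx))]
  · rw [Finset.card_image_of_injective _ σ.injective]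

open Equiv in
theorem necessary (n k r : ℕ) (hr : r.Prime) (hrn : r ≤ n)
    (h : ∀ σ : Equiv.Perm (Fin n), orderOf σ = r → ∃ s : Finset (Fin n), s.card = k ∧ s.image σ = s) :
    k % r ≤ n % r := by
  classical
  have := Fact.mk hr
  obtain ⟨σ, hσ⟩ := (Equiv.Perm.exists_with_cycleType_iff (α := Fin n)
    (m := Multiset.replicate (n / r) r)).2 ⟨by simp [Nat.div_mul_le_self],
      fun a ha => Multiset.eq_of_mem_replicate ha ▸ hr.two_le⟩
  have hnr : n / r ≠ 0 := (Nat.div_pos hrn hr.pos).ne'
  have ho : orderOf σ = r := by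
    rw [← Equiv.Perm.lcm_cycleType, hσ]
    refine Nat.dvd_antisymm (Multiset.lcm_dvd.2 fun a ha => (Multiset.eq_of_mem_replicate ha).symm ▸ dvd_rfl) ?_
    exact Multiset.dvd_lcm (Multiset.mem_replicate.2 ⟨hnr, rfl⟩)
  obtain ⟨s, hs, himg⟩ := h σ ho
  have hinv : ∀ x, σ x ∈ s ↔ x ∈ s := by
    intro x
    constructor
    · intro hx
      rw [← himg, Finset.mem_image] at hx
      obtain ⟨y, hy, hyx⟩ := hx
      exact σ.injective hyx ▸ hy
    · exact fun hx => himg ▸ Finset.mem_image_of_mem σ hx
  let τ : Equiv.Perm {x // x ∈ s} := σ.subtypePerm hinv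
  have hτ : τ ^ r ^ 1 = 1 := by
    have : σ ^ r = 1 := ho ▸ pow_orderOf_eq_one σ
    ext x
    simp [τ, Equiv.Perm.subtypePerm_pow, this]
  have h1 := Equiv.Perm.card_compl_support_modEq hτ
  rw [Fintype.card_coe, hs] at h1
  have h2 : τ.supportᶜ.card ≤ σ.supportᶜ.card := by
    refine Finset.card_le_card_of_injOn (fun x => (x : Fin n)) ?_ Subtype.val_injective.injOn
    intro x hx
    simpa [τ, Subtype.ext_iff] using hx
  have h3 : σ.supportᶜ.card = n % r := by
    rw [Finset.card_compl, ← Equiv.Perm.sum_cycleType, hσ, Multiset.sum_replicate, smul_eq_mul,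
      Fintype.card_fin, Nat.mod_eq_sub_div_mul]
  rw [← h1]
  exact (Nat.mod_le _ _).trans (h3 ▸ h2)

/-- Let 1 ≤ k with 2k < n and consider the symmetric group of degree n acting on the k-subsets of an n-set. Let r be a prime dividing the number C(n,k) of k-subsets. If r is odd, then every permutation of order r fixes some k-subset if and only if r ≤ k and the remainder of k modulo r is at most the remainder of n modulo r. If r = 2, then every involution fixes some k-subset if and only if k is even or n is odd. -/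
theorem result (n k : ℕ) (hk : 1 ≤ k) (hkn : 2 * k < n) (r : ℕ) (hr : r.Prime) (hrd : r ∣ Nat.choose n k) :
    (r ≠ 2 → ((∀ σ : Equiv.Perm (Fin n), orderOf σ = r → ∃ s : Finset (Fin n), s.card = k ∧ s.image σ = s) ↔
      (r ≤ k ∧ k % r ≤ n % r))) ∧
    (r = 2 → ((∀ σ : Equiv.Perm (Fin n), orderOf σ = 2 → ∃ s : Finset (Fin n), s.card = k ∧ s.image σ = s) ↔
      (Even k ∨ Odd n))) := by
  have hrn : r ≤ n := by
    by_contra h
    have h1 : r ∣ n.factorial := by
      rw [← Nat.choose_mul_factorial_mul_factorial (show k ≤ n by omega), mul_assoc]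
      exact dvd_mul_of_dvd_left hrd _
    exact h ((Nat.Prime.dvd_factorial hr).1 h1)
  have key : (∀ σ : Equiv.Perm (Fin n), orderOf σ = r → ∃ s : Finset (Fin n), s.card = k ∧ s.image σ = s) ↔
      k % r ≤ n % r := by
    constructor
    · exact fun h => necessary n k r hr hrn h
    · exact fun h σ hσ => exists_invariant n k r hr (by omega) h σ hσ
  refine ⟨fun _ => key.trans ⟨fun h => ⟨?_, h⟩, fun h => h.2⟩, ?_⟩
  · by_contra hlt
    have := Fact.mk hr
    have hl := Choose.choose_modEq_choose_mod_mul_choose_div_nat (p := r) (n := n) (k := k)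
    rw [Nat.mod_eq_of_lt (show k < r by omega), Nat.div_eq_of_lt (show k < r by omega),
      Nat.choose_zero_right, mul_one] at hl
    rw [Nat.mod_eq_of_lt (show k < r by omega)] at h
    have hd : r ∣ Nat.choose (n % r) k := (Nat.modEq_zero_iff_dvd).1
      (hl.symm.trans (Nat.modEq_zero_iff_dvd.2 hrd))
    have h1 : r ∣ (n % r).factorial := by
      rw [← Nat.choose_mul_factorial_mul_factorial h, mul_assoc]
      exact dvd_mul_of_dvd_left hd _
    exact absurd ((Nat.Prime.dvd_factorial hr).1 h1) (Nat.not_le.2 (Nat.mod_lt _ hr.pos))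
  · rintro rfl
    refine key.trans ?_
    rw [Nat.even_iff, Nat.odd_iff]
    omega


end Cfsg.Agent.S3573
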