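import Cfsg.Statements.S3575
import Cfsg.Agent.Lib.RecogThree.PartitionFixed

set_option autoImplicit false
open Cfsg

namespace Cfsg.Agent.S3575

/-- Let a, b ≥ 2 and consider the symmetric group of degree a·b acting on the partitions of an (a·b)-set into b parts of size a (encoded as maps onto a b-element set all of whose fibres have a elements; a permutation fixes such a partition when it permutes the fibres). Let r be a prime dividing the number (ab)!/((a!)^b·b!) of such partitions, and let ℓ and k be the remainders of a and b modulo r. Then every permutation of order r fixes some such partition if and only if r ≤ a and one of the following holds: ℓ = 0; or k = 0 and ℓ = 1; or ℓ and k are non-zero, k·ℓ < r, and either b < r or (k + r)·ℓ ≤ k·a + r. -/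
theorem result (a b : ℕ) (ha : 2 ≤ a) (hb : 2 ≤ b) (r : ℕ) (hr : r.Prime)
    (hrd : r ∣ (a * b).factorial / (a.factorial ^ b * b.factorial)) :
    (∀ σ : Equiv.Perm (Fin (a * b)), orderOf σ = r →
        ∃ f : Fin (a * b) → Fin b, (∀ j : Fin b, Nat.card {x : Fin (a * b) // f x = j} = a) ∧
          ∃ π : Equiv.Perm (Fin b), ∀ x : Fin (a * b), f (σ x) = π (f x)) ↔
      (r ≤ a ∧ (a % r = 0 ∨ (b % r = 0 ∧ a % r = 1) ∨
        (a % r ≠ 0 ∧ b % r ≠ 0 ∧ (b % r) * (a % r) < r ∧ (b < r ∨ (b % r + r) * (a % r) ≤ (b % r) * a + r)))) := by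
  classical
  have := Fact.mk hr
  have hn : r ≤ a * b := by
    rw [mul_comm a b, ← Nat.uniformBell_eq_div b (by omega : a ≠ 0)] at hrd
    have h := Nat.uniformBell_mul_eq b (n := a) (by omega)
    have h2 : r ∣ (b * a).factorial := h ▸ (hrd.mul_right _).mul_right _
    rw [mul_comm a b]
    exact (Nat.Prime.dvd_factorial hr).1 h2
  rw [← Lib.RecogThree.PartitionFixed.numeric hr.pos ha hb hn]
  constructor
  · intro h s hs hsn
    obtain ⟨σ, h1, h2⟩ := Lib.RecogThree.PartitionFixed.exists_perm_support (X := Fin (a * b)) hr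
      (k := s) (by rwa [Fintype.card_fin])
    have hne : σ ≠ 1 := fun h0 => by
      rw [h0, Equiv.Perm.support_one, Finset.card_empty] at h2
      rcases Nat.mul_eq_zero.1 h2.symm with h0 | h0
      · exact hr.ne_zero h0
      · omega
    obtain ⟨f, hf, π, hπ⟩ := h σ (orderOf_eq_prime h1 hne)
    exact Lib.RecogThree.PartitionFixed.good_of_fixed hr (by omega) σ h1 h2 f hf π hπ
  · intro h σ hσ
    have h1 : σ ^ r = 1 := hσ ▸ pow_orderOf_eq_one σ
    obtain ⟨s, hs⟩ := Lib.RecogThree.PartitionFixed.dvd_card_support hr h1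
    refine Lib.RecogThree.PartitionFixed.fixable hr (h s ?_ ?_) σ h1 hs
    · by_contra h0
      obtain rfl : s = 0 := by omega
      rw [mul_zero, Finset.card_eq_zero, Equiv.Perm.support_eq_empty_iff] at hs
      rw [hs, orderOf_one] at hσ
      exact hr.one_lt.ne hσ
    · rw [← hs]
      exact (Finset.card_le_univ _).trans (Fintype.card_fin _).le

end Cfsg.Agent.S3575
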