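import Cfsg.Statements.S3580
import Cfsg.Agent.Lib.SylowFix.Count
set_option autoImplicit false
open Cfsg

namespace Cfsg.Agent.S3580

/-- Let G act faithfully and transitively on a finite set Ω, let p be an odd prime dividing the order of G and P a Sylow p-subgroup of G. Then the number of orbits of P on Ω is at most (p/(2p − 1))·(number of points). -/
theorem result {G Ω : Type*} [Group G] [Finite G] [MulAction G Ω] [FaithfulSMul G Ω] [Finite Ω]
    (htrans : MulAction.IsPretransitive G Ω) (p : ℕ) [Fact p.Prime] (hp2 : p ≠ 2) (hpG : p ∣ Nat.card G)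
    (P : Sylow p G) :
    (2 * p - 1) * Nat.card (MulAction.orbitRel.Quotient ↥(P : Subgroup G) Ω) ≤ p * Nat.card Ω := by
  classical
  have : Fintype Ω := Fintype.ofFinite Ω
  set K := Lib.SylowFix.pcl p (⊤ : Subgroup G) with hKdef
  have hKn : K.Normal := Subgroup.normalizer_eq_top_iff.mp
    (top_le_iff.mp (Lib.SylowFix.le_normalizer_pcl (⊤ : Subgroup G)))
  have hPK : (P : Subgroup G) ≤ K := Lib.SylowFix.sylow_le_pcl le_top
  have hn : Lib.SylowFix.NoFix ↥K (Finset.univ : Finset Ω) := by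
    intro x _
    by_contra hcon
    push Not at hcon
    refine P.ne_bot_of_dvd_card hpG (eq_bot_iff.mpr fun g hg => ?_)
    refine Subgroup.mem_bot.mpr (eq_of_smul_eq_smul fun y : Ω => ?_)
    obtain ⟨a, rfl⟩ := htrans.exists_smul_eq x y
    have h := hcon ⟨a⁻¹ * g * a, by simpa using hKn.conj_mem g (hPK hg) a⁻¹⟩
    rw [one_smul]
    calc g • a • x = a • (a⁻¹ * g * a) • x := by rw [← mul_smul, ← mul_smul]; group
      _ = a • x := by rw [show (a⁻¹ * g * a) • x = x from h]
  have hb := Lib.SylowFix.le_of_nonneg _ _ (Lib.SylowFix.nonneg (Lib.SylowFix.gen_pcl (⊤ : Subgroup G))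
    (P.subtype hPK) (Finset.univ : Finset Ω) (fun _ _ _ => Finset.mem_univ _) hn)
  have efix : Lib.SylowFix.fixSet ((P.subtype hPK : Sylow p ↥K) : Subgroup ↥K) (Finset.univ : Finset Ω) =
      Lib.SylowFix.fixSet (P : Subgroup G) (Finset.univ : Finset Ω) := by
    ext y
    simp only [Lib.SylowFix.mem_fixSet, Sylow.coe_subtype, Subgroup.mem_subgroupOf]
    exact ⟨fun h => ⟨h.1, fun g hg => h.2 ⟨g, hPK hg⟩ hg⟩, fun h => ⟨h.1, fun g hg => h.2 g hg⟩⟩
  rw [efix, Finset.card_univ, ← Nat.card_eq_fintype_card] at hb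
  set F := Lib.SylowFix.fixSet (P : Subgroup G) (Finset.univ : Finset Ω) with hFdef
  -- count the orbits
  let π : Ω → MulAction.orbitRel.Quotient ↥(P : Subgroup G) Ω := fun x => Quotient.mk'' x
  have hQ : Fintype (MulAction.orbitRel.Quotient ↥(P : Subgroup G) Ω) := Fintype.ofFinite _
  have hsum : Fintype.card Ω = ∑ q : MulAction.orbitRel.Quotient ↥(P : Subgroup G) Ω,
      ((Finset.univ : Finset Ω).filter (fun x => π x = q)).card := by
    rw [← Finset.card_univ]
    exact Finset.card_eq_sum_card_fiberwise fun x _ => Finset.mem_univ _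
  have hle : ∀ q : MulAction.orbitRel.Quotient ↥(P : Subgroup G) Ω,
      p ≤ ((Finset.univ : Finset Ω).filter (fun x => π x = q)).card + (if q ∈ F.image π then p - 1 else 0) := by
    intro q
    induction q using Quotient.inductionOn' with
    | h x =>
      by_cases hx : ∀ g ∈ (P : Subgroup G), g • x = x
      · rw [if_pos (Finset.mem_image.mpr ⟨x, Lib.SylowFix.mem_fixSet.mpr ⟨Finset.mem_univ _, hx⟩, rfl⟩)]
        have : 0 < ((Finset.univ : Finset Ω).filter (fun z => π z = Quotient.mk'' x)).card :=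
          Finset.card_pos.mpr ⟨x, Finset.mem_filter.mpr ⟨Finset.mem_univ _, rfl⟩⟩
        omega
      · refine le_trans (Lib.SylowFix.exists_p_translates P hx fun g hg => ?_) (Nat.le_add_right _ _)
        exact Finset.mem_filter.mpr ⟨Finset.mem_univ _, Quotient.sound' ⟨⟨g, hg⟩, rfl⟩⟩
  have h3 : p * Fintype.card (MulAction.orbitRel.Quotient ↥(P : Subgroup G) Ω) ≤
      Fintype.card Ω + F.card * (p - 1) := by
    have h := Finset.sum_le_sum fun q (_ : q ∈ (Finset.univ : Finset _)) => hle q
    rw [Finset.sum_const, Finset.card_univ, smul_eq_mul, Finset.sum_add_distrib, ← hsum,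
      ← Finset.sum_filter, Finset.sum_const, smul_eq_mul] at h
    rw [mul_comm]
    refine h.trans (Nat.add_le_add_left (Nat.mul_le_mul_right _ ?_) _)
    exact le_trans (Finset.card_le_card fun q hq => (Finset.mem_filter.mp hq).2) Finset.card_image_le
  rw [← Nat.card_eq_fintype_card, ← Nat.card_eq_fintype_card] at h3
  generalize Nat.card (MulAction.orbitRel.Quotient ↥(P : Subgroup G) Ω) = o at h3 ⊢
  generalize Nat.card Ω = m at h3 hb ⊢
  obtain ⟨r, rfl⟩ : ∃ r, p = r + 1 := ⟨p - 1, by have := (Fact.out : p.Prime).pos; omega⟩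
  refine Nat.le_of_mul_le_mul_left ?_ r.succ_pos
  rw [show 2 * (r + 1) - 1 = 2 * r + 1 by omega] at hb ⊢
  rw [Nat.add_sub_cancel] at hb h3
  nlinarith [Nat.mul_le_mul_left (2 * r + 1) h3, Nat.mul_le_mul_left r hb]

end Cfsg.Agent.S3580
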