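import Cfsg.Statements.S3598
import Cfsg.Agent.Lib.PSLDegrees81.Facts
import Cfsg.Agent.Lib.PSLDegrees81.Key
import Cfsg.Agent.Lib.PSLDegrees81.Transfer
import Cfsg.Agent.Lib.Spectrum.SL25Recognition
import Cfsg.Agent.S0252

set_option autoImplicit false
open Cfsg

namespace Cfsg.Agent.S3598

/-- Let p be a prime and F a field with p² elements. If a finite group G has, for every d, the same number of irreducible complex characters of degree d as PSL(2,F) (the same first column of the character table, with multiplicities), then G is isomorphic to PSL(2,F). -/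
theorem result {F : Type*} [Field F] [Fintype F] (p : ℕ) (hp : p.Prime)
    (hF : Fintype.card F = p ^ 2) {G : Type*} [Group G] [Finite G]
    (h : ∀ d : ℕ, Nat.card {χ : Cfsg.IrrCharacter G // (χ : G → ℂ) 1 = (d : ℂ)} =
      Nat.card {χ : Cfsg.IrrCharacter (Matrix.ProjectiveSpecialLinearGroup (Fin 2) F) // (χ : Matrix.ProjectiveSpecialLinearGroup (Fin 2) F → ℂ) 1 = (d : ℂ)}) :
    Nonempty (G ≃* Matrix.ProjectiveSpecialLinearGroup (Fin 2) F) := by
  classical
  have hq4 : 4 ≤ Fintype.card F := hF ▸ Nat.pow_le_pow_left hp.two_le 2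
  obtain ⟨e, he⟩ := Cfsg.Agent.Lib.PSLDegrees81.exists_degree_equiv h
  have hcard := Cfsg.Agent.Lib.PSLDegrees81.card_eq_of_degree_equiv e he
  have hlin1 : Nat.card {χ : Cfsg.IrrCharacter G // (χ : G → ℂ) 1 = 1} = 1 := by
    have := h 1
    simp only [Nat.cast_one] at this
    rw [this, Cfsg.Agent.Lib.PSLDegrees81.psl_card_deg_one hq4]
  rcases hp.eq_two_or_odd with rfl | hodd
  · have h4 : Fintype.card F = 4 := hF
    rw [Cfsg.Agent.Lib.Linear.card_PSL_two_of_even (by rw [h4]; decide), h4] at hcard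
    have hperf : commutator G = ⊤ :=
      Subgroup.index_eq_one.1 (Cfsg.Agent.Lib.Characters.Linear.card_linear.symm.trans hlin1)
    have hns : ¬ Group.IsSolvable G := fun hs => by
      haveI : Nontrivial G := Finite.one_lt_card_iff_nontrivial.1 (by rw [hcard]; norm_num)
      exact (IsSolvable.commutator_lt_top_of_nontrivial (G := G)).ne hperf
    obtain ⟨a⟩ := Cfsg.Agent.Lib.Spectrum.nonempty_equiv_a5_of_card_sixty
      (hcard.trans (by norm_num)) hns
    obtain ⟨b⟩ := Cfsg.Agent.S0252.result h4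
    exact ⟨a.trans b.symm⟩
  have hp2 : p ≠ 2 := by omega
  have ho : Odd (Fintype.card F) := hF ▸ (hp.odd_of_ne_two hp2).pow
  have hmod : Fintype.card F % 4 = 1 := by
    rw [hF, Nat.pow_mod]
    have : p % 4 = 1 ∨ p % 4 = 3 := by omega
    rcases this with h4 | h4 <;> rw [h4]
  have hsub := (Nat.card_eq_one_iff_unique.1 hlin1).1
  have H : Cfsg.Agent.Lib.PSLDegrees81.DegHyp p G :=
    { prime := hp
      odd := hp2
      card := by
        have e2 : (p ^ 2) ^ 2 - 1 = (p ^ 2 + 1) * (p ^ 2 - 1) := by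
          have := Nat.sq_sub_sq (p ^ 2) 1
          rwa [one_pow] at this
        rw [hcard, Cfsg.Agent.Lib.Linear.two_mul_card_PSL_two_of_odd ho, hF, e2, mul_assoc,
          mul_comm (p ^ 2 + 1)]
      linear := fun χ hχ => congrArg Subtype.val
        (@Subsingleton.elim _ hsub ⟨χ, hχ⟩ ⟨Cfsg.Agent.Lib.Characters.Basic.oneChar G, rfl⟩)
      deg := fun χ => by
        have := Cfsg.Agent.Lib.PSLDegrees81.psl_deg_cases hmod (e χ) (d := Cfsg.charDegree (χ : G → ℂ))
          (by rw [Cfsg.Agent.Lib.BlocksChars5.Basic.apply_one, he])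
        rw [hF] at this
        exact this }
  exact H.toHyp.nonempty_mulEquiv hF

end Cfsg.Agent.S3598
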