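import Cfsg.Statements.S3599
import Cfsg.Agent.Lib.RecogThree.FieldFrobenius
-- import your own Cfsg.Agent.* helpers here

set_option autoImplicit false
open Cfsg

namespace Cfsg.Agent.S3599

/-- the elements killed by `p` form a normal subgroup -/
def HasSyl (G : Type*) [Group G] (p : ℕ) : Prop :=
  ∃ N : Subgroup G, N.Normal ∧ ∀ x, x ∈ N ↔ x ^ p = 1

theorem fin_two_cases : ∀ a b : Fin 2, a ≠ b → (a = 0 ∧ b = 1) ∨ (a = 1 ∧ b = 0) := by decide

theorem HasSyl.of_equiv {G H : Type*} [Group G] [Group H] (e : G ≃* H) {p : ℕ}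
    (h : HasSyl G p) : HasSyl H p := by
  obtain ⟨N, hN, hx⟩ := h
  refine ⟨N.comap e.symm.toMonoidHom, hN.comap _, fun x => ?_⟩
  rw [Subgroup.mem_comap, hx, MulEquiv.coe_toMonoidHom, ← map_pow, EmbeddingLike.map_eq_one_iff]

theorem HasSyl.subgroup {G : Type*} [Group G] {p : ℕ} (h : HasSyl G p) (H : Subgroup G) :
    HasSyl H p := by
  obtain ⟨N, hN, hx⟩ := h
  refine ⟨N.subgroupOf H, hN.subgroupOf H, fun x => ?_⟩
  rw [Subgroup.mem_subgroupOf, hx, ← SubmonoidClass.coe_pow, OneMemClass.coe_eq_one]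

theorem HasSyl.quotient {G : Type*} [Group G] {p : ℕ} (hp : p.Prime)
    (hord : ∀ g : G, p ∣ orderOf g → ¬ p * p ∣ orderOf g)
    (h : HasSyl G p) (N : Subgroup G) [N.Normal] : HasSyl (G ⧸ N) p := by
  obtain ⟨S, hS, hx⟩ := h
  refine ⟨S.map (QuotientGroup.mk' N), hS.map _ (QuotientGroup.mk'_surjective N), fun y => ?_⟩
  constructor
  · rintro ⟨x, hxS, rfl⟩
    rw [← map_pow, (hx x).1 hxS, map_one]
  · intro hy
    obtain ⟨x, rfl⟩ := QuotientGroup.mk'_surjective N y
    by_cases hd : p ∣ orderOf x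
    · obtain ⟨l, hl⟩ := hd
      have hcop : Nat.Coprime l p := by
        refine (Nat.Coprime.symm ?_)
        rw [Nat.Prime.coprime_iff_not_dvd hp]
        intro hpl
        exact hord x ⟨l, hl⟩ (hl ▸ mul_dvd_mul_left p hpl)
      obtain ⟨m, hm1, hm2⟩ := Nat.chineseRemainder hcop 0 1
      refine ⟨x ^ m, (hx _).2 ?_, ?_⟩
      · rw [← pow_mul, ← orderOf_dvd_iff_pow_eq_one, hl, mul_comm]
        exact mul_dvd_mul_right (Nat.modEq_zero_iff_dvd.1 hm1) _
      · rw [map_pow, pow_eq_pow_mod m hy, show m % p = 1 % p from hm2, ← pow_eq_pow_mod 1 hy, pow_one]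
    · refine ⟨1, S.one_mem, ?_⟩
      rw [map_one]
      have h1 : orderOf (QuotientGroup.mk' N x) ∣ p.gcd (orderOf x) :=
        Nat.dvd_gcd (orderOf_dvd_of_pow_eq_one hy) (orderOf_map_dvd _ x)
      rw [(Nat.Prime.coprime_iff_not_dvd hp).2 hd, Nat.dvd_one, orderOf_eq_one_iff] at h1
      exact h1.symm

variable {s : ℕ} (p : Fin s → Fin 2 → ℕ)

theorem not_dvd_val (hp : ∀ j i, (p j i).Prime)
    (hinj : ∀ j i j' i', p j i = p j' i' → j = j' ∧ i = i') {m : ℕ}
    (hm : m ∈ {m : ℕ | ∃ c : Fin s → ℕ, (∀ j, c j = 1 ∨ c j = p j 0 ∨ c j = p j 1) ∧ m = ∏ j, c j})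
    (j : Fin s) : ¬ p j 0 * p j 1 ∣ m ∧ ∀ i, ¬ p j i * p j i ∣ m := by
  obtain ⟨c, hc, rfl⟩ := hm
  have hdvd : ∀ l i, p l i ∣ ∏ j, c j → c l = p l i := by
    intro l i hd
    obtain ⟨l', -, hl'⟩ := (Prime.dvd_finsetProd_iff (hp l i).prime c).1 hd
    rcases hc l' with h | h | h
    · rw [h] at hl'; exact absurd (Nat.dvd_one.1 hl') (hp l i).ne_one
    · rw [h, Nat.prime_dvd_prime_iff_eq (hp l i) (hp l' 0)] at hl'
      obtain ⟨rfl, rfl⟩ := hinj _ _ _ _ hl'
      exact h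
    · rw [h, Nat.prime_dvd_prime_iff_eq (hp l i) (hp l' 1)] at hl'
      obtain ⟨rfl, rfl⟩ := hinj _ _ _ _ hl'
      exact h
  refine ⟨fun h => ?_, fun i h => ?_⟩
  · have h0 := hdvd j 0 (dvd_of_mul_right_dvd h)
    have h1 := hdvd j 1 (dvd_of_mul_left_dvd h)
    have := (hinj j 0 j 1 (h0.symm.trans h1)).2
    exact absurd this (by decide)
  · have h0 := hdvd j i (dvd_of_mul_right_dvd h)
    rw [← Finset.mul_prod_erase Finset.univ c (Finset.mem_univ j), h0] at h
    have h2 : p j i ∣ ∏ l ∈ Finset.univ.erase j, c l := Nat.dvd_of_mul_dvd_mul_left (hp j i).pos h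
    obtain ⟨l, hl, hl'⟩ := (Prime.dvd_finsetProd_iff (hp j i).prime c).1 h2
    have hlj : l ≠ j := (Finset.mem_erase.1 hl).1
    rcases hc l with h | h | h
    · rw [h] at hl'; exact absurd (Nat.dvd_one.1 hl') (hp j i).ne_one
    · rw [h, Nat.prime_dvd_prime_iff_eq (hp j i) (hp l 0)] at hl'
      exact hlj (hinj _ _ _ _ hl').1.symm
    · rw [h, Nat.prime_dvd_prime_iff_eq (hp j i) (hp l 1)] at hl'
      exact hlj (hinj _ _ _ _ hl').1.symm

theorem no_two (hp : ∀ j i, (p j i).Prime)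
    (hinj : ∀ j i j' i', p j i = p j' i' → j = j' ∧ i = i') {G : Type*} [Group G] [Finite G]
    (hG : Set.range (orderOf : G → ℕ) =
      {m : ℕ | ∃ c : Fin s → ℕ, (∀ j, c j = 1 ∨ c j = p j 0 ∨ c j = p j 1) ∧ m = ∏ j, c j})
    (j : Fin s) (h0 : HasSyl G (p j 0)) (h1 : HasSyl G (p j 1)) : False := by
  have hex : ∀ i, ∃ x : G, orderOf x = p j i := by
    intro i
    rw [← Set.mem_range, hG]
    refine ⟨Function.update (fun _ => 1) j (p j i), fun l => ?_, ?_⟩
    · rcases eq_or_ne l j with rfl | hl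
      · rcases Fin.exists_fin_two.1 ⟨i, rfl⟩ with h | h
        · subst h; simp
        · subst h; simp
      · simp [hl]
    · simp [Finset.prod_update_of_mem]
  obtain ⟨x, hx⟩ := hex 0
  obtain ⟨y, hy⟩ := hex 1
  obtain ⟨A, hA, hA'⟩ := h0
  obtain ⟨B, hB, hB'⟩ := h1
  have hne : p j 0 ≠ p j 1 := fun h => absurd (hinj _ _ _ _ h).2 (by decide)
  have hdis : Disjoint A B := by
    rw [Subgroup.disjoint_def]
    intro z hz hz'
    have h := Nat.dvd_gcd (orderOf_dvd_of_pow_eq_one ((hA' z).1 hz))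
      (orderOf_dvd_of_pow_eq_one ((hB' z).1 hz'))
    rwa [(Nat.coprime_primes (hp j 0) (hp j 1)).2 hne, Nat.dvd_one, orderOf_eq_one_iff] at h
  have hcomm : Commute x y := Subgroup.commute_of_normal_of_disjoint A B hA hB hdis x y
    ((hA' x).2 (hx ▸ pow_orderOf_eq_one x)) ((hB' y).2 (hy ▸ pow_orderOf_eq_one y))
  have hxy := hcomm.orderOf_mul_eq_mul_orderOf_of_coprime
    (by rw [hx, hy]; exact (Nat.coprime_primes (hp j 0) (hp j 1)).2 hne)
  have hmem : orderOf (x * y) ∈ Set.range (orderOf : G → ℕ) := ⟨_, rfl⟩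
  rw [hG] at hmem
  refine (not_dvd_val p hp hinj hmem j).1 ?_
  rw [hxy, hx, hy]

theorem exists_product (hp : ∀ j i, (p j i).Prime)
    (hinj : ∀ j i j' i', p j i = p j' i' → j = j' ∧ i = i') (a : Fin s → Fin 2) :
    ∃ (G : Type) (_ : Group G) (_ : Finite G), Set.range (orderOf : G → ℕ) =
      {m : ℕ | ∃ c : Fin s → ℕ, (∀ j, c j = 1 ∨ c j = p j 0 ∨ c j = p j 1) ∧ m = ∏ j, c j} ∧
      ∀ j, HasSyl G (p j (a j)) := by
  classical
  have hK : ∀ j, ∃ (K : Type) (_ : Group K) (_ : Finite K),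
      (∀ m : ℕ, m ∈ Set.range (orderOf : K → ℕ) ↔ (m = 1 ∨ m = p j 0 ∨ m = p j 1)) ∧
      HasSyl K (p j (a j)) := by
    intro j
    have := Fact.mk (hp j (a j))
    obtain ⟨b, hb, hab⟩ : ∃ b, (({a j, b} : Set (Fin 2)) = {0, 1}) ∧ a j ≠ b := by
      rcases Fin.exists_fin_two.1 ⟨a j, rfl⟩ with h | h
      · exact ⟨1, by rw [h], by rw [h]; decide⟩
      · exact ⟨0, by rw [h, Set.pair_comm], by rw [h]; decide⟩
    have hd : p j b ∣ p j (a j) ^ (p j b - 1) - 1 := by
      have hcop : (p j (a j)).Coprime (p j b) :=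
        (Nat.coprime_primes (hp j (a j)) (hp j b)).2 fun h => hab (hinj _ _ _ _ h).2
      have := Nat.ModEq.pow_totient hcop
      rw [Nat.totient_prime (hp j b)] at this
      exact (Nat.modEq_iff_dvd' (Nat.one_le_pow _ _ (hp j (a j)).pos)).1 this.symm
    obtain ⟨K, iK, iF, hr, -, -, hN⟩ := Lib.RecogThree.FieldFrobenius.exists_frobenius
      (p j (a j)) (p j b) (p j b - 1) (by have := (hp j b).two_le; omega) hd
    refine ⟨K, iK, iF, fun m => ?_, hN⟩
    rw [hr, Set.mem_insert_iff, Set.mem_ofPred_eq, Nat.dvd_prime (hp j b)]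
    have h01 : ∀ i : Fin 2, i = a j ∨ i = b := by
      intro i
      have : i ∈ ({a j, b} : Set (Fin 2)) := by
        rw [hb]; rcases Fin.exists_fin_two.1 ⟨i, rfl⟩ with h | h <;> simp [h]
      simpa using this
    constructor
    · rintro (rfl | rfl | rfl)
      · rcases Fin.exists_fin_two.1 ⟨a j, rfl⟩ with h | h <;> simp [h]
      · simp
      · rcases Fin.exists_fin_two.1 ⟨b, rfl⟩ with h | h <;> simp [h]
    · rintro (rfl | rfl | rfl)
      · exact Or.inr (Or.inl rfl)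
      · rcases h01 0 with h | h <;> rw [← h] <;> simp
      · rcases h01 1 with h | h <;> rw [← h] <;> simp
  choose K iK iF hKo hKN using hK
  have hval : ∀ (x : ∀ j, K j) (j : Fin s),
      orderOf (x j) = 1 ∨ orderOf (x j) = p j 0 ∨ orderOf (x j) = p j 1 :=
    fun x j => (hKo j _).1 ⟨x j, rfl⟩
  have hord : ∀ x : (∀ j, K j), orderOf x = ∏ j, orderOf (x j) := by
    intro x
    refine Nat.dvd_antisymm ?_ ?_
    · refine orderOf_dvd_of_pow_eq_one (funext fun j => ?_)
      rw [Pi.pow_apply, Pi.one_apply, ← orderOf_dvd_iff_pow_eq_one]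
      exact Finset.dvd_prod_of_mem (fun l => orderOf (x l)) (Finset.mem_univ j)
    · refine Fintype.prod_dvd_of_isRelPrime
        (fun l l' hll => Nat.coprime_iff_isRelPrime.1 ?_) fun j => orderOf_map_dvd (Pi.evalMonoidHom K j) x
      rcases hval x l with h | h | h <;> rcases hval x l' with h' | h' | h' <;>
        simp only [h, h', Nat.coprime_one_left_iff, Nat.coprime_one_right_iff] <;>
        exact (Nat.coprime_primes (hp _ _) (hp _ _)).2 fun e => hll (hinj _ _ _ _ e).1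
  refine ⟨∀ j, K j, inferInstance, inferInstance, ?_, fun j => ?_⟩
  · ext m
    constructor
    · rintro ⟨x, rfl⟩
      exact ⟨fun j => orderOf (x j), hval x, hord x⟩
    · rintro ⟨c, hc, rfl⟩
      choose x hx using fun j => (hKo j (c j)).2 (hc j)
      exact ⟨x, by rw [hord]; simp [hx]⟩
  · choose N hN hN' using hKN
    refine ⟨(Subgroup.pi Set.univ (fun l => if h : l = j then (h ▸ N j) else ⊥)), ?_, ?_⟩
    · constructor
      intro x hx g
      rw [Subgroup.mem_pi] at hx ⊢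
      intro l hl
      have := hx l hl
      rcases eq_or_ne l j with rfl | hlj
      · simp only [dif_pos] at this ⊢
        exact (hN l).conj_mem _ this (g l)
      · simp only [dif_neg hlj, Subgroup.mem_bot] at this ⊢
        simp [this]
    · intro x
      rw [Subgroup.mem_pi]
      constructor
      · intro hx
        funext l
        have := hx l (Set.mem_univ l)
        rcases eq_or_ne l j with rfl | hlj
        · simp only [dif_pos] at this
          exact (hN' l _).1 this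
        · simp only [dif_neg hlj, Subgroup.mem_bot] at this
          simp [this]
      · intro hx l _
        rcases eq_or_ne l j with rfl | hlj
        · simp only [dif_pos]
          exact (hN' l _).2 (congrFun hx l)
        · simp only [dif_neg hlj, Subgroup.mem_bot]
          have h := orderOf_dvd_of_pow_eq_one (congrFun hx l)
          rw [← orderOf_eq_one_iff]
          rcases hval x l with h' | h' | h'
          · exact h'
          all_goals
            rw [h', Nat.prime_dvd_prime_iff_eq (hp _ _) (hp _ _)] at h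
            exact absurd (hinj _ _ _ _ h).1 hlj

theorem exists_critical (hp : ∀ j i, (p j i).Prime)
    (hinj : ∀ j i j' i', p j i = p j' i' → j = j' ∧ i = i') (a : Fin s → Fin 2) :
    ∃ (G : Type) (_ : Group G) (_ : Fintype G),
      Set.range (orderOf : G → ℕ) =
        {m : ℕ | ∃ c : Fin s → ℕ, (∀ j, c j = 1 ∨ c j = p j 0 ∨ c j = p j 1) ∧ m = ∏ j, c j} ∧
      (∀ (H : Subgroup G) (N : Subgroup ↥H) [N.Normal], (H ≠ ⊤ ∨ N ≠ ⊥) →
        Set.range (orderOf : (↥H ⧸ N) → ℕ) ≠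
          {m : ℕ | ∃ c : Fin s → ℕ, (∀ j, c j = 1 ∨ c j = p j 0 ∨ c j = p j 1) ∧ m = ∏ j, c j}) ∧
      ∀ j, HasSyl G (p j (a j)) := by
  classical
  let P : ℕ → Prop := fun n => ∃ (G : Type) (_ : Group G) (_ : Finite G), Nat.card G = n ∧
      Set.range (orderOf : G → ℕ) =
        {m : ℕ | ∃ c : Fin s → ℕ, (∀ j, c j = 1 ∨ c j = p j 0 ∨ c j = p j 1) ∧ m = ∏ j, c j} ∧
      ∀ j, HasSyl G (p j (a j))
  have hP : ∃ n, P n := by
    obtain ⟨G, iG, iF, h1, h2⟩ := exists_product p hp hinj a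
    exact ⟨_, G, iG, iF, rfl, h1, h2⟩
  obtain ⟨G, iG, iF, hcard, hr, hS⟩ := Nat.find_spec hP
  refine ⟨G, iG, Fintype.ofFinite G, hr, fun H N hN hne he => ?_, hS⟩
  have hord : ∀ j, ∀ g : ↥H, p j (a j) ∣ orderOf g → ¬ p j (a j) * p j (a j) ∣ orderOf g := by
    intro j g _
    have hmem : orderOf (g : G) ∈ Set.range (orderOf : G → ℕ) := ⟨_, rfl⟩
    rw [hr] at hmem
    rw [← Subgroup.orderOf_coe]
    exact (not_dvd_val p hp hinj hmem j).2 _
  have hmin := Nat.find_min' hP (m := Nat.card (↥H ⧸ N))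
    ⟨↥H ⧸ N, inferInstance, inferInstance, rfl, he,
      fun j => ((hS j).subgroup H).quotient (hp _ _) (hord j) N⟩
  rw [← hcard] at hmin
  have h1 := Subgroup.index_mul_card N
  have h2 := Subgroup.card_le_card_group H
  rw [Subgroup.index_eq_card] at h1
  have h3 : 0 < Nat.card N := Nat.card_pos
  have h4 : 0 < Nat.card (↥H ⧸ N) := Nat.card_pos
  rcases hne with hne | hne
  · have : Nat.card ↥H < Nat.card G := lt_of_le_of_ne h2 fun h => hne (Subgroup.eq_top_of_card_eq H h)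
    nlinarith
  · have : 1 < Nat.card N := by
      rcases Nat.lt_or_ge 1 (Nat.card N) with h | h
      · exact h
      · exact absurd ((Subgroup.card_eq_one).1 (by omega)) hne
    nlinarith

/-- A finite group is critical with respect to a set Ω of natural numbers when its set of element orders is Ω while no proper section H/N (H a subgroup, N normal in H, (H, N) ≠ (whole group, 1)) has Ω as its set of element orders. Let s ≥ 1 and let p(j,0), p(j,1) (j < s) be 2s pairwise distinct primes, and let Ω be the set of all products c(0)·…·c(s−1) with each c(j) ∈ {1, p(j,0), p(j,1)}. Then there are 2^s pairwise non-isomorphic finite groups critical with respect to Ω. -/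
theorem result (s : ℕ) (hs : 1 ≤ s) (p : Fin s → Fin 2 → ℕ)
    (hp : ∀ j i, (p j i).Prime) (hinj : ∀ j i j' i', p j i = p j' i' → j = j' ∧ i = i') :
    ∃ (G : Fin (2 ^ s) → Type) (_ : ∀ a, Group (G a)) (_ : ∀ a, Fintype (G a)),
      (∀ a b, a ≠ b → ¬ Nonempty (G a ≃* G b)) ∧
      ∀ a, Set.range (orderOf : (G a) → ℕ) = {m : ℕ | ∃ c : Fin s → ℕ, (∀ j, c j = 1 ∨ c j = p j 0 ∨ c j = p j 1) ∧ m = ∏ j, c j} ∧
      ∀ (H : Subgroup (G a)) (N : Subgroup ↥H) [N.Normal], (H ≠ ⊤ ∨ N ≠ ⊥) → Set.range (orderOf : (↥H ⧸ N) → ℕ) ≠ {m : ℕ | ∃ c : Fin s → ℕ, (∀ j, c j = 1 ∨ c j = p j 0 ∨ c j = p j 1) ∧ m = ∏ j, c j} := by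
  classical
  have hsel : ∃ a : Fin (2 ^ s) ≃ (Fin s → Fin 2), True :=
    ⟨finFunctionFinEquiv.symm, trivial⟩
  obtain ⟨sel, -⟩ := hsel
  choose G iG iF hG using fun t : Fin (2 ^ s) => exists_critical p hp hinj (sel t)
  refine ⟨G, iG, iF, fun a b hab => ?_, fun a => ⟨(hG a).1, (hG a).2.1⟩⟩
  rintro ⟨e⟩
  obtain ⟨j, hj⟩ := Function.ne_iff.1 (sel.injective.ne hab)
  have h1 := (hG a).2.2 j
  have h2 := HasSyl.of_equiv e.symm ((hG b).2.2 j)
  refine no_two p hp hinj (hG a).1 j ?_ ?_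
  · rcases (fin_two_cases (sel a j) (sel b j) hj) with ⟨h0, h0'⟩ | ⟨h0, h0'⟩
    · exact h0 ▸ h1
    · exact h0' ▸ h2
  · rcases (fin_two_cases (sel a j) (sel b j) hj) with ⟨h0, h0'⟩ | ⟨h0, h0'⟩
    · exact h0' ▸ h2
    · exact h0 ▸ h1


end Cfsg.Agent.S3599
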