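import Cfsg.Statements.S3600
import Cfsg.Agent.Lib.RecogThree.OrdersFive.Affine
-- import your own Cfsg.Agent.* helpers here

set_option autoImplicit false
open Cfsg

namespace Cfsg.Agent.S3600

/-- A finite group is critical with respect to a set Ω of natural numbers when its set of element orders is Ω while no proper section has Ω as its set of element orders. A finite group critical with respect to {1, 2, 3, 4, 5} (the set of element orders of the alternating group of degree 6) is isomorphic either to the alternating group of degree 6 or to the affine group F² ⋊ SL(2,F) over the field F with four elements (realised as the matrices of SL(3,F) with last row (0, 0, 1)). -/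
theorem result {G : Type*} [Group G] [Finite G]
    (hcrit : Set.range (orderOf : G → ℕ) = ({1, 2, 3, 4, 5} : Set ℕ) ∧
      ∀ (H : Subgroup G) (N : Subgroup ↥H) [N.Normal], (H ≠ ⊤ ∨ N ≠ ⊥) → Set.range (orderOf : (↥H ⧸ N) → ℕ) ≠ ({1, 2, 3, 4, 5} : Set ℕ)) :
    Nonempty (G ≃* alternatingGroup (Fin 6)) ∨
      ∃ (F : Type) (_ : Field F) (_ : Fintype F), Fintype.card F = 4 ∧
        Nonempty (G ≃* ↥(Subgroup.closure {M : Matrix.SpecialLinearGroup (Fin 3) F |
          (M : Matrix (Fin 3) (Fin 3) F) 2 0 = 0 ∧ (M : Matrix (Fin 3) (Fin 3) F) 2 1 = 0 ∧ (M : Matrix (Fin 3) (Fin 3) F) 2 2 = 1})) := by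
  obtain ⟨hω, hsec⟩ := hcrit
  have hs : Lib.RecogThree.OrdersFive.Small G := fun g => by
    have hg : orderOf g ∈ Set.range (orderOf : G → ℕ) := ⟨g, rfl⟩
    rw [hω] at hg
    simp only [Set.mem_insert_iff, Set.mem_singleton_iff] at hg
    omega
  have hel : ∀ p : ℕ, p ∈ ({1, 2, 3, 4, 5} : Set ℕ) → ∃ g : G, orderOf g = p := fun p hp => by
    rw [← hω] at hp; exact hp
  have hdvd : ∀ p : ℕ, p ∈ ({1, 2, 3, 4, 5} : Set ℕ) → p ∣ Nat.card G := fun p hp => by
    obtain ⟨g, hg⟩ := hel p hp
    exact hg ▸ orderOf_dvd_natCard g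
  have hns : ¬ Group.IsSolvable G := fun hsol =>
    hs.not_three_primes (hdvd 2 (by simp)) (hdvd 3 (by simp)) (hdvd 5 (by simp))
  rcases Lib.RecogThree.OrdersFive.Small.classify _ rfl hs hns with ⟨hsimple, hcard, -⟩ | ⟨M, hM, hexp, ⟨e⟩⟩
  · exact Or.inl (S0497.result hcard)
  refine Or.inr ⟨Lib.RecogThree.OrdersFive.GF4, inferInstance, inferInstance,
    Lib.RecogThree.OrdersFive.GF4.card_eq, ?_⟩
  have hM1 : M ≠ ⊥ := by
    rintro rfl
    obtain ⟨g, hg⟩ := hel 4 (by simp)
    let f : G ≃* Lib.RecogThree.OrdersFive.A5 := (QuotientGroup.quotientBot (G := G)).symm.trans e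
    have h1 : orderOf (f g) = 4 := by rw [MulEquiv.orderOf_eq, hg]
    have key : ∀ p : Lib.RecogThree.OrdersFive.A5, p ^ 4 = 1 → p ^ 2 = 1 := by decide +kernel
    have h2 := orderOf_dvd_of_pow_eq_one (key (f g) (h1 ▸ pow_orderOf_eq_one (f g)))
    rw [h1] at h2
    norm_num at h2
  obtain ⟨iso⟩ := hs.affine_of_critical hexp hM1 e fun H ⟨g, hgH, hg4⟩ hsurj => by
    by_contra hne
    refine hsec H ⊥ (Or.inl hne) ?_
    have hH : ∀ n : ℕ, n ∈ ({1, 2, 3, 4, 5} : Set ℕ) → ∃ x : G, x ∈ H ∧ orderOf x = n := by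
      have hpr : ∀ r : ℕ, r.Prime → r ≠ 2 → r ∣ 60 → ∃ x : G, x ∈ H ∧ orderOf x = r := by
        intro r hr hr2 hr60
        have := Fact.mk hr
        obtain ⟨p, hp⟩ := exists_prime_orderOf_dvd_card' (G := Lib.RecogThree.OrdersFive.A5) r
          (by rw [Lib.RecogThree.OrdersFive.card_A5]; exact hr60)
        obtain ⟨x, hxH, hx⟩ := hsurj p
        refine ⟨x, hxH, ?_⟩
        have hd : r ∣ orderOf x := by
          rw [← hp, ← hx]
          exact orderOf_map_dvd (e.toMonoidHom.comp (QuotientGroup.mk' M)) x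
        have h5 := hs x
        have hpos := orderOf_pos x
        have h3 : 3 ≤ r := by have := hr.two_le; omega
        obtain ⟨j, hj⟩ := hd
        rcases j with _ | _ | j
        · omega
        · omega
        · have : r * 2 ≤ r * (j + 1 + 1) := Nat.mul_le_mul_left _ (by omega)
          omega
      intro n hn
      rcases hn with rfl | rfl | rfl | rfl | rfl
      · exact ⟨1, H.one_mem, orderOf_one⟩
      · refine ⟨g ^ 2, H.pow_mem hgH 2, ?_⟩
        rw [orderOf_pow_of_dvd (by norm_num) (by rw [hg4]; norm_num), hg4]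
      · exact hpr 3 Nat.prime_three (by norm_num) (by norm_num)
      · exact ⟨g, hgH, hg4⟩
      · exact hpr 5 Nat.prime_five (by norm_num) (by norm_num)
    refine Set.Subset.antisymm ?_ fun n hn => ?_
    · rintro n ⟨x, rfl⟩
      rw [← MulEquiv.orderOf_eq (QuotientGroup.quotientBot (G := ↥H)) x]
      rw [← Subgroup.orderOf_coe]
      set y : G := ((QuotientGroup.quotientBot (G := ↥H) x : ↥H) : G)
      have hy : orderOf y ∈ Set.range (orderOf : G → ℕ) := ⟨y, rfl⟩
      rwa [hω] at hy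
    · obtain ⟨x, hxH, hx⟩ := hH n hn
      refine ⟨(QuotientGroup.quotientBot (G := ↥H)).symm ⟨x, hxH⟩, ?_⟩
      rw [MulEquiv.orderOf_eq, Subgroup.orderOf_mk, hx]
  refine ⟨iso.trans (MulEquiv.subgroupCongr ?_)⟩
  exact (Subgroup.closure_eq _).symm

end Cfsg.Agent.S3600
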