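import Cfsg.Statements.S3619
-- import your own Cfsg.Agent.* helpers here

set_option autoImplicit false
open Cfsg

namespace Cfsg.Agent.S3619

open scoped Pointwise

/-- Let G act faithfully on a finite set in such a way that every non-trivial normal subgroup of G is transitive (G is quasiprimitive). Let Γ be a subset with more than one point and not the whole set, such that the pointwise stabilizer of the complement of Γ acts transitively on Γ (a Jordan set). If that pointwise stabilizer acts primitively on Γ, then G is k-fold transitive where k is one more than the number of points outside Γ (the Jordan set is a trivial one). -/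
theorem result {G Ω : Type*} [Group G] [Finite G] [MulAction G Ω] [FaithfulSMul G Ω] [Finite Ω]
    (hqp : ∀ N : Subgroup G, N.Normal → N ≠ ⊥ → MulAction.IsPretransitive ↥N Ω)
    (Γ : Set Ω) (hΓ1 : 1 < Γ.ncard) (hΓ2 : Γ.ncard < Nat.card Ω)
    (hJ : MulAction.IsPretransitive ↥(fixingSubgroup G Γᶜ) ↥(SubMulAction.ofFixingSubgroup G Γᶜ))
    (hJp : MulAction.IsPreprimitive ↥(fixingSubgroup G Γᶜ) ↥(SubMulAction.ofFixingSubgroup G Γᶜ)) :
    MulAction.IsMultiplyPretransitive G Ω (Nat.card Ω - Γ.ncard + 1) := by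
  classical
  let J := fixingSubgroup G Γᶜ
  let S := SubMulAction.ofFixingSubgroup G Γᶜ
  have hmem : ∀ x : Ω, x ∈ S ↔ x ∈ Γ := fun x => by
    simp [S, SubMulAction.mem_ofFixingSubgroup_iff]
  obtain ⟨x, hx, y, hy, hxy⟩ := (Set.one_lt_ncard (Set.toFinite Γ)).1 hΓ1
  obtain ⟨j, hj⟩ := MulAction.exists_smul_eq J (⟨x, (hmem x).2 hx⟩ : S) ⟨y, (hmem y).2 hy⟩
  have hjxy : (j : G) • x = y := congrArg Subtype.val hj
  have htop : (⊤ : Subgroup G) ≠ ⊥ := by
    intro h
    have : (j : G) = 1 := Subgroup.mem_bot.1 (h ▸ Subgroup.mem_top (j : G))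
    rw [this, one_smul] at hjxy
    exact hxy hjxy
  have hG : MulAction.IsPretransitive G Ω := by
    refine ⟨fun u v => ?_⟩
    obtain ⟨g, hg⟩ := (hqp ⊤ inferInstance htop).exists_smul_eq u v
    exact ⟨g, hg⟩
  have hprimG : MulAction.IsPreprimitive G Ω := by
    refine MulAction.IsPreprimitive.of_isTrivialBlock_base x fun {B} hxB hB => ?_
    by_contra htriv
    simp only [MulAction.IsTrivialBlock, not_or] at htriv
    obtain ⟨hBs, hBu⟩ := htriv
    have hfix : ∀ g ∈ J, ∀ z, z ∉ Γ → g • z = z := fun g hg z hz =>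
      (mem_fixingSubgroup_iff G).1 hg z hz
    have hΓB : Γ ⊆ B := by
      have hblk : MulAction.IsBlock J ((fun z : S => (z : Ω)) ⁻¹' B) := by
        rw [MulAction.isBlock_iff_smul_eq_or_disjoint]
        intro g
        rcases hB.smul_eq_or_disjoint (g : G) with h | h
        · left
          ext z
          rw [Set.mem_smul_set_iff_inv_smul_mem, Set.mem_preimage, Set.mem_preimage]
          conv_rhs => rw [← h, Set.mem_smul_set_iff_inv_smul_mem]
          exact Iff.rfl
        · right
          rw [Set.disjoint_left]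
          intro z hz hz'
          rw [Set.mem_smul_set_iff_inv_smul_mem, Set.mem_preimage] at hz
          exact Set.disjoint_left.1 h (Set.mem_smul_set_iff_inv_smul_mem.2 hz) hz'
      rcases hJp.isTrivialBlock_of_isBlock hblk with h | h
      · exfalso
        obtain ⟨z, hzB, hzx⟩ : ∃ z ∈ B, z ≠ x := by
          by_contra h'
          push Not at h'
          exact hBs fun a ha b hb => (h' a ha).trans (h' b hb).symm
        have hzΓ : z ∉ Γ := fun hzΓ => hzx (congrArg Subtype.val
          (h (x := ⟨z, (hmem z).2 hzΓ⟩) hzB (y := ⟨x, (hmem x).2 hx⟩) hxB))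
        have hjB : (j : G) • B = B := (hB.smul_eq_or_disjoint (j : G)).resolve_right fun hd =>
          Set.disjoint_left.1 hd (Set.smul_mem_smul_set hzB) (by rw [hfix _ j.2 z hzΓ]; exact hzB)
        have hyB : y ∈ B := hjxy ▸ hjB ▸ Set.smul_mem_smul_set hxB
        exact hxy (congrArg Subtype.val
          (h (x := ⟨x, (hmem x).2 hx⟩) hxB (y := ⟨y, (hmem y).2 hy⟩) hyB))
      · intro z hz
        have h' : (⟨z, (hmem z).2 hz⟩ : S) ∈ (fun z : S => (z : Ω)) ⁻¹' B := h ▸ Set.mem_univ _
        exact h'
    let K : Subgroup G := (MulAction.toPermHom G (MulAction.orbit G B)).ker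
    have hK : ∀ g : G, g ∈ K ↔ ∀ h : G, g • h • B = h • B := by
      intro g
      rw [MonoidHom.mem_ker, Equiv.ext_iff]
      exact ⟨fun hg h => congrArg Subtype.val (hg ⟨h • B, MulAction.mem_orbit _ h⟩),
        fun hg ⟨_, h, rfl⟩ => Subtype.ext (hg h)⟩
    have hjK : (j : G) ∈ K := by
      rw [hK]
      intro h
      rcases hB.smul_eq_or_disjoint h with he | hd
      · rw [he]
        refine (hB.smul_eq_or_disjoint (j : G)).resolve_right fun hd' => ?_
        exact Set.disjoint_left.1 hd' (Set.smul_mem_smul_set hxB) (hjxy ▸ hΓB hy)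
      · refine Set.ext fun z => ?_
        have hout : ∀ z ∈ h • B, z ∉ Γ := fun z hz hzΓ => Set.disjoint_left.1 hd hz (hΓB hzΓ)
        constructor
        · rintro ⟨w, hw, rfl⟩
          change (j : G) • w ∈ h • B
          rw [hfix _ j.2 w (hout w hw)]; exact hw
        · intro hz
          exact ⟨z, hz, hfix _ j.2 z (hout z hz)⟩
    have hKne : K ≠ ⊥ := by
      intro h
      have : (j : G) = 1 := Subgroup.mem_bot.1 (h ▸ hjK)
      rw [this, one_smul] at hjxy
      exact hxy hjxy
    have hKt := hqp K (MonoidHom.normal_ker _) hKne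
    refine hBu (Set.eq_univ_of_forall fun z => ?_)
    obtain ⟨⟨k, hk⟩, hkz⟩ := hKt.exists_smul_eq x z
    have hkB : k • B = B := by simpa using (hK k).1 hk 1
    exact hkz ▸ hkB ▸ Set.smul_mem_smul_set hxB
  obtain ⟨n, hn⟩ : ∃ n, Γᶜ.ncard = n + 1 := by
    refine ⟨Γᶜ.ncard - 1, ?_⟩
    have := Set.ncard_add_ncard_compl Γ; omega
  have hsum := Set.ncard_add_ncard_compl Γ
  have := (hprimG.isMultiplyPreprimitive hn (by omega) hJp).isMultiplyPretransitive
  rwa [show Nat.card Ω - Γ.ncard + 1 = n + 2 by omega]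


end Cfsg.Agent.S3619
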