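import Cfsg.Statements.S3627
import Cfsg.Agent.Lib.RecogThree.J1Orders
import Cfsg.Agent.Lib.RecogThree.FieldFrobenius
-- import your own Cfsg.Agent.* helpers here

set_option autoImplicit false
open Cfsg

namespace Cfsg.Agent.S3627

/-- the five odd primes -/
def ell : Fin 5 → ℕ := ![3, 5, 7, 11, 19]

theorem ell_dvd : ∀ i : Fin 5, ell i ∣ 43890 := by decide +kernel
theorem two_dvd_div : ∀ i : Fin 5, 2 ∣ 43890 / ell i := by decide +kernel
theorem ell_dvd_div : ∀ i j : Fin 5, i ≠ j → ell i ∣ 43890 / ell j := by decide +kernel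
theorem div_not_dvd : ∀ j : Fin 5, ¬ 43890 ∣ 43890 / ell j := by decide +kernel
theorem ell_dvd_half : ∀ i : Fin 5, ell i ∣ 21945 := by decide +kernel

theorem prime_cases {l : ℕ} (hl : l.Prime) (hd : l ∣ 43890) :
    l = 2 ∨ l = 3 ∨ l = 5 ∨ l = 7 ∨ l = 11 ∨ l = 19 := by
  have key : ∀ p : ℕ, p.Prime → l ∣ p → l = p := fun p hp h => (Nat.prime_dvd_prime_iff_eq hl hp).1 h
  rw [show (43890 : ℕ) = 2 * 3 * 5 * 7 * 11 * 19 by norm_num] at hd
  rcases hl.dvd_mul.1 hd with h | h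
  · rcases hl.dvd_mul.1 h with h | h
    · rcases hl.dvd_mul.1 h with h | h
      · rcases hl.dvd_mul.1 h with h | h
        · rcases hl.dvd_mul.1 h with h | h
          · exact Or.inl (key 2 (by norm_num) h)
          · exact Or.inr (Or.inl (key 3 (by norm_num) h))
        · exact Or.inr (Or.inr (Or.inl (key 5 (by norm_num) h)))
      · exact Or.inr (Or.inr (Or.inr (Or.inl (key 7 (by norm_num) h))))
    · exact Or.inr (Or.inr (Or.inr (Or.inr (Or.inl (key 11 (by norm_num) h)))))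
  · exact Or.inr (Or.inr (Or.inr (Or.inr (Or.inr (key 19 (by norm_num) h)))))

theorem lcm_four : ∀ a ∈ ([6, 7, 10, 11, 15, 19] : List ℕ), ∀ b ∈ ([6, 7, 10, 11, 15, 19] : List ℕ),
    ∀ c ∈ ([6, 7, 10, 11, 15, 19] : List ℕ), ∀ d ∈ ([6, 7, 10, 11, 15, 19] : List ℕ),
      Nat.lcm a (Nat.lcm b (Nat.lcm c d)) ∣ 43890 ∧ Nat.lcm a (Nat.lcm b (Nat.lcm c d)) ≠ 43890 := by
  decide +kernel

theorem cover (l : ℕ) (h : l = 2 ∨ l = 3 ∨ l = 5 ∨ l = 7 ∨ l = 11 ∨ l = 19) :
    ∃ a ∈ ([6, 7, 10, 11, 15, 19] : List ℕ), ∃ b ∈ ([6, 7, 10, 11, 15, 19] : List ℕ),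
    ∃ c ∈ ([6, 7, 10, 11, 15, 19] : List ℕ), ∃ d ∈ ([6, 7, 10, 11, 15, 19] : List ℕ),
      43890 / l ∣ Nat.lcm a (Nat.lcm b (Nat.lcm c d)) := by
  rcases h with rfl | rfl | rfl | rfl | rfl | rfl
  · exact ⟨15, by simp, 7, by simp, 11, by simp, 19, by simp, by decide +kernel⟩
  · exact ⟨10, by simp, 7, by simp, 11, by simp, 19, by simp, by decide +kernel⟩
  · exact ⟨6, by simp, 7, by simp, 11, by simp, 19, by simp, by decide +kernel⟩
  · exact ⟨6, by simp, 10, by simp, 11, by simp, 19, by simp, by decide +kernel⟩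
  · exact ⟨6, by simp, 10, by simp, 7, by simp, 19, by simp, by decide +kernel⟩
  · exact ⟨6, by simp, 10, by simp, 7, by simp, 11, by simp, by decide +kernel⟩

theorem range_eq {Γ : Type*} [Group Γ] [Finite Γ]
    (h1 : ∀ x : Γ, orderOf x ∣ 43890 ∧ orderOf x ≠ 43890)
    (h2 : ∀ l : ℕ, l.Prime → l ∣ 43890 → ∃ x : Γ, 43890 / l ∣ orderOf x) :
    Set.range (orderOf : Γ → ℕ) = {m | m ∣ 43890 ∧ m ≠ 43890} := by
  ext m
  constructor
  · rintro ⟨x, rfl⟩; exact h1 x
  · rintro ⟨⟨k, hk⟩, hne⟩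
    have hk1 : k ≠ 1 := fun h => hne (by rw [hk, h, mul_one])
    obtain ⟨l, hl, j, rfl⟩ := Nat.exists_prime_and_dvd hk1
    obtain ⟨x, hx⟩ := h2 l hl (hk ▸ Dvd.intro (m * j) (by ring))
    have hml : m ∣ orderOf x := by
      refine Nat.dvd_trans ?_ hx
      rw [hk, show m * (l * j) = l * (m * j) by ring, Nat.mul_div_cancel_left _ hl.pos]
      exact Dvd.intro j rfl
    obtain ⟨i, hi⟩ := hml
    have hpos : 0 < orderOf x := orderOf_pos x
    have hi0 : 0 < i := Nat.pos_of_ne_zero fun h => by rw [h, mul_zero] at hi; omega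
    exact ⟨x ^ i, by rw [orderOf_pow, hi, Nat.gcd_eq_right (Dvd.intro_left m rfl),
      Nat.mul_div_cancel _ hi0]⟩

/-- Let J be the first Janko group. Then there are finite groups of arbitrarily large order with exactly the same set of element orders as J × J × J × J. -/
theorem result (N : ℕ) : ∃ (H : Type) (_ : Group H) (_ : Fintype H), N < Fintype.card H ∧
      Set.range (orderOf : H → ℕ) = Set.range (orderOf : ↥Cfsg.Spor.J1 × ↥Cfsg.Spor.J1 × ↥Cfsg.Spor.J1 × ↥Cfsg.Spor.J1 → ℕ) := by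
  classical
  have hl : ∀ i : Fin 5, (ell i).Prime := by decide +kernel
  have := Fact.mk Nat.prime_two
  have hK : ∀ i : Fin 5, ∃ (K : Type) (_ : Group K) (_ : Finite K),
      Set.range (orderOf : K → ℕ) = insert 2 {m | m ∣ ell i} ∧ N < Nat.card K := by
    intro i
    have hd : ell i ∣ 2 ^ ((ell i - 1) * (N + 1)) - 1 := by
      have hcop : Nat.Coprime 2 (ell i) := by
        rw [Nat.coprime_primes Nat.prime_two (hl i)]
        revert i; decide +kernel
      have h := (Nat.ModEq.pow_totient hcop).pow (N + 1)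
      rw [Nat.totient_prime (hl i), ← pow_mul, one_pow] at h
      exact (Nat.modEq_iff_dvd' (Nat.one_le_pow _ _ Nat.zero_lt_two)).1 h.symm
    have h2 := (hl i).two_le
    obtain ⟨K, iK, fK, hr, hcard, -, -⟩ := Lib.RecogThree.FieldFrobenius.exists_frobenius 2 (ell i)
      ((ell i - 1) * (N + 1)) (Nat.mul_ne_zero (by omega) (by omega)) hd
    refine ⟨K, iK, fK, hr, lt_of_lt_of_le ?_ hcard⟩
    refine lt_of_lt_of_le Nat.lt_two_pow_self (Nat.pow_le_pow_right (by omega) ?_)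
    exact le_trans (Nat.le_succ N) (Nat.le_mul_of_pos_left _ (by omega))
  choose K iK fK hKr hKN using hK
  have := Fintype.ofFinite (∀ i, K i)
  refine ⟨∀ i, K i, inferInstance, inferInstance, ?_, ?_⟩
  · rw [← Nat.card_eq_fintype_card, Nat.card_pi]
    refine lt_of_lt_of_le (hKN 0) ?_
    exact Nat.le_of_dvd (Finset.prod_pos fun i _ => Nat.card_pos) (Finset.dvd_prod_of_mem _ (Finset.mem_univ _))
  have hJ : Finite ↥Cfsg.Spor.J1 := inferInstance
  rw [range_eq (Γ := ↥Cfsg.Spor.J1 × ↥Cfsg.Spor.J1 × ↥Cfsg.Spor.J1 × ↥Cfsg.Spor.J1) ?_ ?_,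
    range_eq (Γ := ∀ i, K i) ?_ ?_]
  · -- witness: orders
    intro x
    have hx : ∀ i, orderOf (x i) = 2 ∨ orderOf (x i) ∣ ell i := fun i => by
      have h : orderOf (x i) ∈ Set.range (orderOf : K i → ℕ) := ⟨x i, rfl⟩
      rwa [hKr i] at h
    have hdvd : ∀ m : ℕ, (∀ i, orderOf (x i) ∣ m) → orderOf x ∣ m := fun m hm =>
      orderOf_dvd_of_pow_eq_one (funext fun i => orderOf_dvd_iff_pow_eq_one.1 (hm i))
    refine ⟨hdvd _ fun i => ?_, fun hN => ?_⟩
    · rcases hx i with h | h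
      · rw [h]; decide
      · exact h.trans (ell_dvd i)
    · have hall : ∀ j, orderOf (x j) = ell j := by
        intro j
        by_contra hj
        have hd : orderOf x ∣ 43890 / ell j := hdvd _ fun i => by
          rcases hx i with h | h
          · rw [h]; exact two_dvd_div j
          · rcases eq_or_ne i j with rfl | hij
            · rw [((Nat.dvd_prime (hl i)).1 h).resolve_right hj]; exact one_dvd _
            · exact h.trans (ell_dvd_div i j hij)
        rw [hN] at hd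
        exact div_not_dvd j hd
      have hd : orderOf x ∣ 21945 := hdvd _ fun i => by
        rw [hall i]; exact ell_dvd_half i
      rw [hN] at hd; norm_num at hd
  · -- witness: existence
    intro l hl' hld
    have hex : ∀ i, ∀ m ∈ ({2, ell i} : Finset ℕ), ∃ y : K i, orderOf y = m := by
      intro i m hm
      rw [← Set.mem_range, hKr i]
      rcases Finset.mem_insert.1 hm with rfl | hm
      · exact Or.inl rfl
      · exact Or.inr (by rw [Finset.mem_singleton.1 hm]; exact dvd_rfl)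
    choose y hy using fun i => hex i (if ell i = l then 2 else ell i) (by split_ifs <;> simp)
    refine ⟨y, ?_⟩
    have hdvd : ∀ i, (if ell i = l then 2 else ell i) ∣ orderOf y := fun i =>
      hy i ▸ orderOf_map_dvd (Pi.evalMonoidHom K i) y
    have hl6 := prime_cases hl' hld
    have hkey : ∀ i, ell i ≠ l → ell i ∣ orderOf y := fun i hi => by
      have := hdvd i; rwa [if_neg hi] at this
    have h2 : ∀ i, ell i = l → 2 ∣ orderOf y := fun i hi => by
      have := hdvd i; rwa [if_pos hi] at this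
    have cp : ∀ a b : ℕ, Nat.gcd a b = 1 → a ∣ orderOf y → b ∣ orderOf y → a * b ∣ orderOf y :=
      fun a b h ha hb => Nat.Coprime.mul_dvd_of_dvd_of_dvd h ha hb
    rcases hl6 with rfl | rfl | rfl | rfl | rfl | rfl
    · exact cp (3 * 5 * 7 * 11) 19 (by norm_num) (cp (3 * 5 * 7) 11 (by norm_num) (cp (3 * 5) 7 (by norm_num)
        (cp 3 5 (by norm_num) (hkey 0 (by decide)) (hkey 1 (by decide))) (hkey 2 (by decide))) (hkey 3 (by decide))) (hkey 4 (by decide))
    · exact cp (2 * 5 * 7 * 11) 19 (by norm_num) (cp (2 * 5 * 7) 11 (by norm_num) (cp (2 * 5) 7 (by norm_num)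
        (cp 2 5 (by norm_num) (h2 0 rfl) (hkey 1 (by decide))) (hkey 2 (by decide))) (hkey 3 (by decide))) (hkey 4 (by decide))
    · exact cp (2 * 3 * 7 * 11) 19 (by norm_num) (cp (2 * 3 * 7) 11 (by norm_num) (cp (2 * 3) 7 (by norm_num)
        (cp 2 3 (by norm_num) (h2 1 rfl) (hkey 0 (by decide))) (hkey 2 (by decide))) (hkey 3 (by decide))) (hkey 4 (by decide))
    · exact cp (2 * 3 * 5 * 11) 19 (by norm_num) (cp (2 * 3 * 5) 11 (by norm_num) (cp (2 * 3) 5 (by norm_num)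
        (cp 2 3 (by norm_num) (h2 2 rfl) (hkey 0 (by decide))) (hkey 1 (by decide))) (hkey 3 (by decide))) (hkey 4 (by decide))
    · exact cp (2 * 3 * 5 * 7) 19 (by norm_num) (cp (2 * 3 * 5) 7 (by norm_num) (cp (2 * 3) 5 (by norm_num)
        (cp 2 3 (by norm_num) (h2 3 rfl) (hkey 0 (by decide))) (hkey 1 (by decide))) (hkey 2 (by decide))) (hkey 4 (by decide))
    · exact cp (2 * 3 * 5 * 7) 11 (by norm_num) (cp (2 * 3 * 5) 7 (by norm_num) (cp (2 * 3) 5 (by norm_num)
        (cp 2 3 (by norm_num) (h2 4 rfl) (hkey 0 (by decide))) (hkey 1 (by decide))) (hkey 2 (by decide))) (hkey 3 (by decide))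
  · -- J1 powers: orders
    rintro ⟨a, b, c, d⟩
    obtain ⟨ea, ha, ha'⟩ := Lib.RecogThree.J1Orders.exists_exponent a
    obtain ⟨eb, hb, hb'⟩ := Lib.RecogThree.J1Orders.exists_exponent b
    obtain ⟨ec, hc, hc'⟩ := Lib.RecogThree.J1Orders.exists_exponent c
    obtain ⟨ed, hd, hd'⟩ := Lib.RecogThree.J1Orders.exists_exponent d
    obtain ⟨h1, h2⟩ := lcm_four ea ha eb hb ec hc ed hd
    have hle : orderOf (a, b, c, d) ∣ Nat.lcm ea (Nat.lcm eb (Nat.lcm ec ed)) := by
      rw [Prod.orderOf, Prod.orderOf, Prod.orderOf]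
      exact Nat.lcm_dvd (ha'.trans (Nat.dvd_lcm_left _ _))
        ((Nat.lcm_dvd (hb'.trans (Nat.dvd_lcm_left _ _))
          ((Nat.lcm_dvd (hc'.trans (Nat.dvd_lcm_left _ _)) (hd'.trans (Nat.dvd_lcm_right _ _))).trans
            (Nat.dvd_lcm_right _ _))).trans (Nat.dvd_lcm_right _ _))
    exact ⟨hle.trans h1, fun he => h2 (Nat.dvd_antisymm h1 (he ▸ hle))⟩
  · -- J1 powers: existence
    intro l hl' hld
    obtain ⟨ea, ha, eb, hb, ec, hc, ed, hd, h⟩ := cover l (prime_cases hl' hld)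
    obtain ⟨a, rfl⟩ := Lib.RecogThree.J1Orders.exists_orderOf ea ha
    obtain ⟨b, rfl⟩ := Lib.RecogThree.J1Orders.exists_orderOf eb hb
    obtain ⟨c, rfl⟩ := Lib.RecogThree.J1Orders.exists_orderOf ec hc
    obtain ⟨d, rfl⟩ := Lib.RecogThree.J1Orders.exists_orderOf ed hd
    refine ⟨(a, b, c, d), ?_⟩
    rw [Prod.orderOf, Prod.orderOf, Prod.orderOf]
    exact h


end Cfsg.Agent.S3627
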