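import Cfsg.Statements.S3633
import Cfsg.Agent.Lib.PrimeGraph.Three

set_option autoImplicit false
open Cfsg

namespace Cfsg.Agent.S3633

/-- Let G be a finite group and ρ a set of at least three prime divisors of the order of G that are pairwise non-adjacent in the prime graph (no element of order rs for distinct r, s ∈ ρ). Then at most one prime of ρ divides the order of any given solvable normal subgroup of G; in particular G is not solvable. -/
theorem result {G : Type*} [Group G] [Finite G] (ρ : Finset ℕ) (hρ : 3 ≤ ρ.card) (hc : ((∀ r ∈ ρ, r.Prime ∧ r ∣ Nat.card G) ∧ (∀ r ∈ ρ, ∀ s ∈ ρ, r ≠ s → ¬ ∃ x : G, orderOf x = r * s)))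
    (K : Subgroup G) [K.Normal] (hK : Group.IsSolvable ↥K) :
    (∀ r ∈ ρ, ∀ s ∈ ρ, r ∣ Nat.card ↥K → s ∣ Nat.card ↥K → r = s) ∧ ¬ Group.IsSolvable G := by
  obtain ⟨hpr, hno⟩ := hc
  have key : ∀ r ∈ ρ, ∀ s ∈ ρ, r ≠ s → ∃ t ∈ ρ, r ≠ t ∧ s ≠ t := by
    intro r hr s hs hrs
    have : ((ρ.erase r).erase s).Nonempty := by
      rw [← Finset.card_pos, Finset.card_erase_of_mem (Finset.mem_erase.2 ⟨hrs.symm, hs⟩),
        Finset.card_erase_of_mem hr]
      omega
    obtain ⟨t, ht⟩ := this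
    simp only [Finset.mem_erase] at ht
    exact ⟨t, ht.2.2, ht.2.1.symm, ht.1.symm⟩
  have hN : ∀ r ∈ ρ, ∀ s ∈ ρ, r ≠ s → ¬ Lib.PrimeGraph.Three.HasOrder G (r * s) := hno
  refine ⟨fun r hr s hs hrK hsK => ?_, ?_⟩
  · by_contra hrs
    obtain ⟨t, ht, hrt, hst⟩ := key r hr s hs hrs
    exact Lib.PrimeGraph.Three.not_two_in_solvable (hpr r hr).1 (hpr s hs).1 (hpr t ht).1 hrs hrt hst
      K hK hrK hsK (hpr t ht).2 (hN r hr s hs hrs) (hN r hr t ht hrt) (hN s hs t ht hst)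
  · obtain ⟨r, hr, s, hs, hrs⟩ := Finset.one_lt_card.1 (show 1 < ρ.card by omega)
    obtain ⟨t, ht, hrt, hst⟩ := key r hr s hs hrs
    exact Lib.PrimeGraph.Three.not_isSolvable_of_three (hpr r hr).1 (hpr s hs).1 (hpr t ht).1 hrs hrt
      hst (hpr r hr).2 (hpr s hs).2 (hpr t ht).2 (hN r hr s hs hrs) (hN r hr t ht hrt)
      (hN s hs t ht hst)

end Cfsg.Agent.S3633
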