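import Cfsg.Statements.S3639
import Cfsg.Agent.Lib.PrimeGraph.Unbounded
-- import your own Cfsg.Agent.* helpers here

set_option autoImplicit false
open Cfsg

namespace Cfsg.Agent.S3639

open Matrix Cfsg.Lie

variable {F : Type*} [Field F]

/-- adjoint with respect to the antidiagonal form -/
def adj4 (g : Matrix (Fin 4) (Fin 4) F) : Matrix (Fin 4) (Fin 4) F :=
  Matrix.of fun i j => g j.rev i.rev

theorem col_rel {g : GL (Fin 4) F} (hg : g ∈ Sp4 F) (i j : Fin 4) :
    g.1 0 i * g.1 3 j + g.1 1 i * g.1 2 j + g.1 2 i * g.1 1 j + g.1 3 i * g.1 0 j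
      = if i.rev = j then 1 else 0 := by
  have h := hg (Pi.single i 1) (Pi.single j 1)
  simp only [Units.coeHom_apply, Matrix.mulVec_single, altForm4] at h
  simp at h
  rw [h]
  fin_cases i <;> fin_cases j <;> simp [Pi.single_apply, Fin.rev]

theorem adj4_mul {g : GL (Fin 4) F} (hg : g ∈ Sp4 F) : adj4 g.1 * g.1 = 1 := by
  ext i j
  have h := col_rel hg i.rev j
  rw [Fin.rev_rev] at h
  simp only [Matrix.mul_apply, adj4, Matrix.of_apply, Fin.sum_univ_four, Matrix.one_apply]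
  rw [← h]
  simp [Fin.rev]
  ring

theorem row_rel {g : GL (Fin 4) F} (hg : g ∈ Sp4 F) (i j : Fin 4) :
    g.1 i 0 * g.1 j 3 + g.1 i 1 * g.1 j 2 + g.1 i 2 * g.1 j 1 + g.1 i 3 * g.1 j 0
      = if i.rev = j then 1 else 0 := by
  have h0 : g.1 * adj4 g.1 = 1 := mul_eq_one_comm.1 (adj4_mul hg)
  have h := congrFun (congrFun h0 i) j.rev
  simp only [Matrix.mul_apply, adj4, Matrix.of_apply, Fin.sum_univ_four, Matrix.one_apply,
    Fin.rev_rev] at h
  simp [Fin.rev] at h
  rw [h]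
  fin_cases i <;> fin_cases j <;> simp [Fin.rev]

theorem binet (g h : Matrix (Fin 4) (Fin 4) F) (k l i j : Fin 4) :
    (g * h) k i * (g * h) l j - (g * h) l i * (g * h) k j =
      (g k 0 * g l 1 - g l 0 * g k 1) * (h 0 i * h 1 j - h 1 i * h 0 j)
    + (g k 0 * g l 2 - g l 0 * g k 2) * (h 0 i * h 2 j - h 2 i * h 0 j)
    + (g k 1 * g l 3 - g l 1 * g k 3) * (h 1 i * h 3 j - h 3 i * h 1 j)
    + (g k 2 * g l 3 - g l 2 * g k 3) * (h 2 i * h 3 j - h 3 i * h 2 j)
    + (g k 0 * g l 3 - g l 0 * g k 3) * (h 0 i * h 3 j - h 3 i * h 0 j)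
    + (g k 1 * g l 2 - g l 1 * g k 2) * (h 1 i * h 2 j - h 2 i * h 1 j) := by
  simp only [Matrix.mul_apply, Fin.sum_univ_four]
  ring

variable [CharP F 2]

theorem pair_ne (p : Fin 4) : (pairOf p).1.rev ≠ (pairOf p).2 := by
  revert p; decide

theorem star4_mul {g h : GL (Fin 4) F} (hg : g ∈ Sp4 F) (hh : h ∈ Sp4 F) :
    star4 (g.1 * h.1) = star4 g.1 * star4 h.1 := by
  have h2 : (2 : F) = 0 := CharTwo.two_eq_zero
  ext p r
  have hu := row_rel hg (pairOf p).1 (pairOf p).2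
  have hv := col_rel hh (pairOf r).1 (pairOf r).2
  rw [if_neg (pair_ne p)] at hu
  rw [if_neg (pair_ne r)] at hv
  set k := (pairOf p).1 with hk
  set l := (pairOf p).2 with hl
  set i := (pairOf r).1 with hi
  set j := (pairOf r).2 with hj
  have e : star4 (g.1 * h.1) p r = (g.1 * h.1) k i * (g.1 * h.1) l j
      - (g.1 * h.1) l i * (g.1 * h.1) k j := rfl
  rw [e, binet, Matrix.mul_apply, Fin.sum_univ_four]
  change _ = (g.1 k 0 * g.1 l 1 - g.1 l 0 * g.1 k 1) * (h.1 0 i * h.1 1 j - h.1 1 i * h.1 0 j)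
    + (g.1 k 0 * g.1 l 2 - g.1 l 0 * g.1 k 2) * (h.1 0 i * h.1 2 j - h.1 2 i * h.1 0 j)
    + (g.1 k 1 * g.1 l 3 - g.1 l 1 * g.1 k 3) * (h.1 1 i * h.1 3 j - h.1 3 i * h.1 1 j)
    + (g.1 k 2 * g.1 l 3 - g.1 l 2 * g.1 k 3) * (h.1 2 i * h.1 3 j - h.1 3 i * h.1 2 j)
  simp only [CharTwo.sub_eq_add]
  linear_combination (g.1 k 0 * g.1 l 3 + g.1 l 0 * g.1 k 3) * hv
    + (h.1 1 i * h.1 2 j + h.1 2 i * h.1 1 j) * hu
    - (g.1 k 0 * g.1 l 3 + g.1 l 0 * g.1 k 3) * (h.1 1 i * h.1 2 j + h.1 2 i * h.1 1 j) * h2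

/-- membership condition of the Suzuki group -/
def SzSet (F : Type*) [Field F] (m : ℕ) (g : GL (Fin 4) F) : Prop :=
  g ∈ Sp4 F ∧ star4 g.1 = g.1.map (fun x => x ^ (2 ^ (m + 1)))

omit [CharP F 2] in
theorem star4_one : star4 (1 : Matrix (Fin 4) (Fin 4) F) = 1 := by
  ext p r
  fin_cases p <;> fin_cases r <;> simp [star4, pairOf, Matrix.one_apply]

theorem mem_szSet [Finite F] {m : ℕ} {g : GL (Fin 4) F} (hg : g ∈ Sz F (2 ^ (m + 1))) :
    SzSet F m g := by
  have hmul : ∀ a b, SzSet F m a → SzSet F m b → SzSet F m (a * b) := by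
    rintro a b ⟨ha, ha'⟩ ⟨hb, hb'⟩
    refine ⟨mul_mem ha hb, ?_⟩
    rw [Units.val_mul, star4_mul ha hb, ha', hb']
    exact (Matrix.map_mul (f := iterateFrobenius F 2 (m + 1))).symm
  have hone : SzSet F m 1 := by
    refine ⟨one_mem _, ?_⟩
    rw [Units.val_one, star4_one]
    exact (Matrix.map_one (iterateFrobenius F 2 (m + 1)) (map_zero _) (map_one _)).symm
  let M : Submonoid (GL (Fin 4) F) := ⟨⟨{g | SzSet F m g}, fun {a b} => hmul a b⟩, hone⟩
  induction hg using Subgroup.closure_induction with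
  | mem x hx => exact hx
  | one => exact hone
  | mul a b _ _ ha hb => exact hmul a b ha hb
  | inv a _ ha =>
    have hfo : IsOfFinOrder a := isOfFinOrder_of_finite a
    have h : a⁻¹ = a ^ (orderOf a - 1) := by
      rw [inv_eq_iff_mul_eq_one, ← pow_succ', Nat.sub_add_cancel hfo.orderOf_pos,
        pow_orderOf_eq_one]
    rw [h]
    exact pow_mem (S := M) ha _

theorem K_sq {g : GL (Fin 4) F} (hg : g ∈ Sp4 F) :
    (g.1 + adj4 g.1) * (g.1 + adj4 g.1) + g.1.trace • (g.1 + adj4 g.1)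
      = (star4 g.1).trace • 1 := by
  have h2 : (2 : F) = 0 := CharTwo.two_eq_zero
  have hR := row_rel hg 0 3
  have hC := col_rel hg 0 3
  rw [if_pos (by decide)] at hR hC
  ext i j
  simp only [Matrix.trace, Matrix.diag, Fin.sum_univ_four, Matrix.add_apply, Matrix.smul_apply,
    Matrix.mul_apply, adj4, Matrix.of_apply, smul_eq_mul, star4]
  fin_cases i <;> fin_cases j <;>
    simp [Matrix.one_apply, pairOf, Fin.rev, CharTwo.sub_eq_add, CharTwo.add_self_eq_zero] <;>
    grobner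

theorem pow_four_eq_one {m : ℕ} [Finite F] {g : GL (Fin 4) F} (hg : g ∈ Sz F (2 ^ (m + 1)))
    {v : Fin 4 → F} (hv : v ≠ 0) (hfix : g.1 *ᵥ v = v) : g ^ 4 = 1 := by
  obtain ⟨hsp, hstar⟩ := mem_szSet hg
  set A := g.1 with hA
  set B := adj4 A with hB
  have hBA : B * A = 1 := adj4_mul hsp
  have hAB : A * B = 1 := mul_eq_one_comm.1 hBA
  have hBv : B *ᵥ v = v := by
    conv_lhs => rw [← hfix]
    rw [Matrix.mulVec_mulVec, hBA, Matrix.one_mulVec]
  have hKv : (A + B) *ᵥ v = 0 := by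
    rw [Matrix.add_mulVec, hfix, hBv]; ext; simp [CharTwo.add_self_eq_zero]
  have hK : (A + B) * (A + B) + A.trace • (A + B) = (star4 A).trace • (1 : Matrix (Fin 4) (Fin 4) F) :=
    K_sq hsp
  have htr : (star4 A).trace = 0 := by
    have := congrArg (· *ᵥ v) hK
    simp only [Matrix.add_mulVec, ← Matrix.mulVec_mulVec, Matrix.smul_mulVec] at this
    rw [hfix, hBv] at this
    have hvv : v + v = 0 := by ext; simp [CharTwo.add_self_eq_zero]
    simp only [hvv, Matrix.mulVec_zero, smul_zero, add_zero, Matrix.one_mulVec] at this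
    rcases smul_eq_zero.1 this.symm with h | h
    · exact h
    · exact absurd h hv
  have hta : A.trace = 0 := by
    rw [hstar] at htr
    have : iterateFrobenius F 2 (m + 1) A.trace = 0 := by
      simp only [Matrix.trace, Matrix.diag, Matrix.map_apply] at htr
      rw [Matrix.trace, map_sum, ← htr]
      rfl
    rwa [map_eq_zero] at this
  rw [htr, hta, zero_smul, zero_smul, add_zero] at hK
  apply Units.ext
  rw [Units.val_pow_eq_pow_val, Units.val_one]
  have h4 : A ^ 4 + (1 : Matrix (Fin 4) (Fin 4) F) = 0 := by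
    have hsq : (A * A + 1) * (A * A + 1) = 0 := by
      have e : A * A + 1 = A * (A + B) := by rw [mul_add, hAB]
      have hc : (A + B) * A = A * (A + B) := by rw [add_mul, mul_add, hBA, hAB]
      rw [e, mul_assoc, ← mul_assoc (A + B) A, hc, mul_assoc A (A + B), hK, mul_zero, mul_zero]
    have hxx : ∀ X : Matrix (Fin 4) (Fin 4) F, X + X = 0 := fun X => by
      ext; simp [CharTwo.add_self_eq_zero]
    calc A ^ 4 + 1 = A ^ 4 + 1 + (A * A + A * A) := by rw [hxx, add_zero]
      _ = (A * A + 1) * (A * A + 1) := by noncomm_ring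
      _ = 0 := hsq
  ext i j
  have := congrFun (congrFun h4 i) j
  rwa [Matrix.add_apply, Matrix.zero_apply, CharTwo.add_eq_zero] at this

/-- the action on the natural module -/
def natAct (G : Subgroup (GL (Fin 4) F)) : G →* MulAut (Multiplicative (Fin 4 → F)) where
  toFun g :=
    { toFun := fun v => Multiplicative.ofAdd (g.1.1 *ᵥ Multiplicative.toAdd v)
      invFun := fun v => Multiplicative.ofAdd ((g⁻¹).1.1 *ᵥ Multiplicative.toAdd v)
      left_inv := fun v => by simp [Matrix.mulVec_mulVec]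
      right_inv := fun v => by simp [Matrix.mulVec_mulVec]
      map_mul' := fun v w => by simp [Matrix.mulVec_add] }
  map_one' := by ext v; simp
  map_mul' a b := by ext v; simp [Matrix.mulVec_mulVec]

theorem exists_involution (F : Type*) [Field F] [CharP F 2] (m : ℕ) :
    ∃ g : ↥(Sz F (2 ^ (m + 1))), orderOf g = 2 := by
  let J : Matrix (Fin 4) (Fin 4) F := Matrix.of fun i j => if i.rev = j then 1 else 0
  have hJ : J * J = 1 := by
    ext i j; fin_cases i <;> fin_cases j <;> simp [J, Matrix.mul_apply, Fin.sum_univ_four, Fin.rev]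
  let u : GL (Fin 4) F := ⟨J, J, hJ, hJ⟩
  have hu : u ∈ Sz F (2 ^ (m + 1)) := by
    refine Subgroup.subset_closure ⟨?_, ?_⟩
    · intro a b
      simp [u, J, altForm4, Matrix.mulVec, dotProduct, Fin.sum_univ_four, Fin.rev]
      ring
    · ext p r
      fin_cases p <;> fin_cases r <;>
        simp [u, J, star4, pairOf, Fin.rev, CharTwo.sub_eq_add]
  refine ⟨⟨u, hu⟩, ?_⟩
  haveI := Fact.mk Nat.prime_two
  refine orderOf_eq_prime ?_ ?_
  · ext1; rw [sq]; exact Units.ext hJ
  · intro h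
    have := congrFun (congrFun (congrArg (fun g : ↥(Sz F (2 ^ (m + 1))) => g.1.1) h) 0) 0
    simp [u, J, Fin.rev] at this

/-- Let S be the Suzuki group over the field with q = 2^(2m+1) ≥ 8 elements. Then there are finite groups of arbitrarily large order with the same prime graph as S. -/
theorem result {F : Type*} [Field F] [Fintype F] {m : ℕ} (hm : 1 ≤ m) (hF : Fintype.card F = 2 ^ (2 * m + 1)) (N : ℕ) :
    ∃ (H : Type) (_ : Group H) (_ : Fintype H), N < Fintype.card H ∧ ((∀ r : ℕ, r.Prime → (r ∣ Nat.card ↥(Cfsg.Lie.Sz F (2 ^ (m + 1))) ↔ r ∣ Nat.card H)) ∧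
      (∀ r s : ℕ, r.Prime → s.Prime → r ≠ s → ((∃ x : ↥(Cfsg.Lie.Sz F (2 ^ (m + 1))), orderOf x = r * s) ↔ (∃ y : H, orderOf y = r * s)))) := by
  haveI : CharP F 2 := by
    haveI := Fact.mk Nat.prime_two
    exact charP_of_card_eq_prime_pow hF
  haveI := Fact.mk Nat.prime_two
  obtain ⟨z, hz⟩ := exists_involution F m
  haveI : Nontrivial (Multiplicative (Fin 4 → F)) := Multiplicative.instNontrivial
  obtain ⟨H, i1, i2, h1, h2, h3⟩ :=
    Lib.PrimeGraph.Unbounded.exists_large_same_graph Nat.prime_two (by simpa [hz] using orderOf_dvd_natCard z)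
      (M := Multiplicative (Fin 4 → F))
      (fun v => ⟨1, by rw [pow_one, sq]; ext; simp [CharTwo.add_self_eq_zero]⟩)
      (natAct (Cfsg.Lie.Sz F (2 ^ (m + 1)))) (fun q hq hq2 g hg v hv hv1 => by
        exfalso
        have hfix : g.1.1 *ᵥ Multiplicative.toAdd v = Multiplicative.toAdd v :=
          congrArg Multiplicative.toAdd hv
        have h4 := pow_four_eq_one g.2 (v := Multiplicative.toAdd v) (fun h => hv1 h) hfix
        have h4' : g ^ 4 = 1 := Subtype.ext h4
        have hd := orderOf_dvd_of_pow_eq_one h4'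
        rw [hg] at hd
        exact hq2 ((Nat.prime_dvd_prime_iff_eq hq Nat.prime_two).1
          (hq.dvd_of_dvd_pow (show q ∣ 2 ^ 2 from hd)))) N
  exact ⟨H, i1, i2, by rwa [Nat.card_eq_fintype_card] at h1, h2, h3⟩

end Cfsg.Agent.S3639
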