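import Cfsg.Statements.S3643
import Cfsg.Agent.Lib.RecogThree.M12.Graph.Reduction
import Cfsg.Agent.Lib.RecogThree.M12.Graph.Four
import Cfsg.Agent.Lib.RecogThree.M12.Graph.Degrees12

set_option autoImplicit false
open Cfsg

namespace Cfsg.Agent.S3643

/-- Let G be a finite group of the same order as the Mathieu group M₁₂ whose character degree graph equals that of M₁₂ (same primes dividing some irreducible complex character degree, same pairs of distinct primes whose product divides some degree). Then G is isomorphic to M₁₂ or to the direct product of the alternating group of degree 4 with M₁₁. -/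
theorem result {G : Type*} [Group G] [Finite G] (hcard : Nat.card G = Nat.card ↥Cfsg.Spor.M12) (hΔ : Cfsg.degreePrimes G = Cfsg.degreePrimes ↥Cfsg.Spor.M12 ∧ Cfsg.degreeGraph G = Cfsg.degreeGraph ↥Cfsg.Spor.M12) :
    Nonempty (G ≃* ↥Cfsg.Spor.M12) ∨ Nonempty (G ≃* alternatingGroup (Fin 4) × ↥Cfsg.Spor.M11) := by
  rw [Cfsg.Agent.Lib.Golay.card_spor_M12] at hcard
  haveI := Cfsg.Agent.Lib.Golay.isSimple_spor_M12
  haveI : Finite ↥Cfsg.Spor.M12 :=
    Nat.finite_of_card_ne_zero (by rw [Cfsg.Agent.Lib.Golay.card_spor_M12]; norm_num)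
  obtain ⟨h55, h33⟩ := Cfsg.Agent.Lib.RecogThree.M12.Graph.Degrees12.exists_degrees
    (G := ↥Cfsg.Spor.M12) Cfsg.Agent.Lib.Golay.card_spor_M12
  have transfer : ∀ p q : ℕ, p.Prime → q.Prime → p ≠ q →
      (∃ χ : Cfsg.IrrCharacter ↥Cfsg.Spor.M12, p * q ∣ Cfsg.charDegree (χ : ↥Cfsg.Spor.M12 → ℂ)) →
      ∃ χ : Cfsg.IrrCharacter G, ∃ d : ℕ, (χ : G → ℂ) 1 = d ∧ p * q ∣ d := by
    intro p q hp hq hne hex
    obtain ⟨χ₀, h₀⟩ := hex
    have hadj : (Cfsg.degreeGraph G).Adj p q := by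
      rw [hΔ.2]
      exact ⟨hne, hp, hq, _, ⟨χ₀, rfl⟩, h₀⟩
    obtain ⟨-, -, -, d, ⟨χ, rfl⟩, hd⟩ := hadj
    exact ⟨χ, _, (Cfsg.Agent.Lib.H80.ClassMult.deg_spec χ).2, hd⟩
  obtain ⟨χ, hχ⟩ := transfer 5 11 (by norm_num) (by norm_num) (by norm_num) h55
  obtain ⟨χ', hχ'⟩ := transfer 3 11 (by norm_num) (by norm_num) (by norm_num) h33
  rcases Cfsg.Agent.Lib.RecogThree.M12.Graph.Reduction.cases_of_55 hcard χ hχ with e | ⟨D, hDn, hDs, hD⟩
  · exact Or.inl e
  · haveI := hDn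
    haveI := hDs
    exact Or.inr (Cfsg.Agent.Lib.RecogThree.M12.Graph.Four.equiv_product hcard D hD χ' hχ')

end Cfsg.Agent.S3643
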