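import Cfsg.Statements.S3648
import Cfsg.Agent.Lib.NsePGL46.Count
import Cfsg.Agent.Lib.NsePGL46.Structure
import Cfsg.Agent.Lib.NsePGL46.Sharp
import Cfsg.Agent.Lib.NsePGL46.Pgl
import Cfsg.Agent.Lib.SharpThree.Exists
import Cfsg.Agent.Lib.SharpThree.PGL

set_option autoImplicit false
open Cfsg

namespace Cfsg.Agent.S3648

open Cfsg.Agent.Lib

universe u v w

/-- A frame for a sharply triply transitive action on `q + 1` points, `q = p ^ n`. -/
theorem exists_frame_pow {X : Type u} {α : Type v} [Group X] [MulAction X α] [Finite α]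
    [FaithfulSMul X α] {p n : ℕ} (hp : p.Prime) (hn : 0 < n)
    (h3 : MulAction.IsMultiplyPretransitive X α 3)
    (hsharp : ∀ t : Fin 3 ↪ α, MulAction.stabilizer X t = ⊥) (hα : Nat.card α = p ^ n + 1) :
    ∃ (V : Type u) (_ : AddCommGroup V) (_ : SharpThree.Frame X α V),
      (∀ v : V, p • v = 0) ∧ Nat.card V = p ^ n := by
  let := Fintype.ofFinite α
  have h2 : 2 < Fintype.card α := by
    rw [← Nat.card_eq_fintype_card, hα]
    have h1 := hp.two_le
    have h2 := Nat.le_self_pow hn.ne' p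
    omega
  obtain ⟨a, b, c, hab, hac, hbc⟩ := Fintype.two_lt_card_iff.1 h2
  obtain ⟨s, hsa, hsb, hsc⟩ :=
    SharpThree.exists_of_trans (G := X) h3 a b c b a c hab hac hbc hab.symm hbc hac
  obtain ⟨r, j, V, _, F, hr, hj, hexp, hcard, -⟩ :=
    SharpThree.exists_frame (G := X) h3 hsharp hab hac hbc s hsa hsb hsc
  obtain rfl : r = p := by
    have h : r ∣ p ^ n := by
      rw [show p ^ n = r ^ j by omega]; exact dvd_pow_self r (by omega)
    exact (Nat.prime_dvd_prime_iff_eq hr hp).1 (hr.dvd_of_dvd_pow h)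
  exact ⟨V, inferInstance, F, hexp, by have := F.card_V; omega⟩

theorem nonempty_pglMapEquiv {K : Type u} {L : Type v} [Field K] [Field L] (e : K ≃+* L) :
    Nonempty (Matrix.ProjGenLinGroup (Fin 2) K ≃* Matrix.ProjGenLinGroup (Fin 2) L) :=
  ⟨MonoidHom.toMulEquiv (Matrix.ProjGenLinGroup.map e.toRingHom)
    (Matrix.ProjGenLinGroup.map e.symm.toRingHom)
    (by rw [← Matrix.ProjGenLinGroup.map_comp]; simp)
    (by rw [← Matrix.ProjGenLinGroup.map_comp]; simp)⟩

/-- The counts in `PGL₂(q)`. -/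
theorem pgl_counts {F : Type u} [Field F] [Fintype F] {p n : ℕ} [Fact p.Prime] (hn : 0 < n)
    (hp2 : p ≠ 2) (hF : Fintype.card F = p ^ n) :
    NsePGL46.num (Matrix.ProjGenLinGroup (Fin 2) F) 2 = (p ^ n) ^ 2 ∧
      NsePGL46.num (Matrix.ProjGenLinGroup (Fin 2) F) p = (p ^ n) ^ 2 - 1 ∧
      ∀ k, k ≠ 1 → k ≠ p → p ^ n ∣ NsePGL46.num (Matrix.ProjGenLinGroup (Fin 2) F) k := by
  have : Finite (Matrix.ProjGenLinGroup (Fin 2) F) :=
    Finite.of_surjective _ Matrix.ProjGenLinGroup.mk_surjective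
  obtain ⟨h3, hfix⟩ := And.intro
    (Linear.isMultiplyPretransitive_three_PGL (F := F)) (Linear.eq_one_of_fix_three (F := F))
  have hα : Nat.card (Projectivization F (Fin 2 → F)) = p ^ n + 1 := by
    rw [Projectivization.card_of_finrank_two F (Fin 2 → F) (by simp), Nat.card_eq_fintype_card, hF]
  have hfin : Finite (Projectivization F (Fin 2 → F)) := inferInstance
  have : FaithfulSMul (Matrix.ProjGenLinGroup (Fin 2) F) (Projectivization F (Fin 2 → F)) := by
    refine ⟨fun {g h} e => ?_⟩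
    let := Fintype.ofFinite (Projectivization F (Fin 2 → F))
    have h2 : 2 < Fintype.card (Projectivization F (Fin 2 → F)) := by
      rw [← Nat.card_eq_fintype_card, hα]
      have h1 := (Fact.out : p.Prime).two_le
      have h2 := Nat.le_self_pow hn.ne' p
      omega
    obtain ⟨a, b, c, hab, hac, hbc⟩ := Fintype.two_lt_card_iff.1 h2
    refine (inv_mul_eq_one.1 (hfix (h⁻¹ * g) a b c hab hac hbc ?_ ?_ ?_)).symm
    all_goals rw [mul_smul, e, inv_smul_smul]
  obtain ⟨V, _, Fr, hexp, hV⟩ := exists_frame_pow (Fact.out : p.Prime) hn h3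
    (fun t => (Subgroup.eq_bot_iff_forall _).2 fun g hg => hfix g (t 0) (t 1) (t 2)
      (t.injective.ne (by decide)) (t.injective.ne (by decide)) (t.injective.ne (by decide))
      (congrArg (fun e : Fin 3 ↪ Projectivization F (Fin 2 → F) => e 0) hg)
      (congrArg (fun e : Fin 3 ↪ Projectivization F (Fin 2 → F) => e 1) hg)
      (congrArg (fun e : Fin 3 ↪ Projectivization F (Fin 2 → F) => e 2) hg)) hα
  have hpq : p ∣ p ^ n := dvd_pow_self p hn.ne'
  refine ⟨?_, NsePGL46.Sharp.num_p (F := Fr) hexp hV hpq,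
    fun k h1 hk => NsePGL46.Sharp.num_other (F := Fr) hexp hV h1 hk⟩
  rw [NsePGL46.num, NsePGL46.card_pgl_involutions, hF]
  intro h
  obtain ⟨c, hc⟩ := CharP.exists F
  obtain ⟨m, hcp, hcard⟩ := FiniteField.card F c
  have h' : (c : ℕ) ∣ 2 := (CharP.cast_eq_zero_iff F c 2).1 (by exact_mod_cast h)
  have hc2 : c = 2 := (Nat.prime_dvd_prime_iff_eq hcp Nat.prime_two).1 h'
  rw [hc2, hF] at hcard
  exact hp2 ((Nat.prime_dvd_prime_iff_eq (Fact.out : p.Prime) Nat.prime_two).1
    ((Fact.out : p.Prime).dvd_of_dvd_pow (hcard ▸ hpq)))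

theorem recognise {F : Type u} [Field F] [Fintype F] (hodd : Odd (Fintype.card F))
    {G : Type v} [Group G] [Finite G]
    (hcard : Nat.card G = Nat.card (Matrix.ProjGenLinGroup (Fin 2) F))
    (hnse : {c : ℕ | 0 < c ∧ ∃ n : ℕ, c = NsePGL46.num G n} =
      {c : ℕ | 0 < c ∧ ∃ n : ℕ, c = NsePGL46.num (Matrix.ProjGenLinGroup (Fin 2) F) n}) :
    Nonempty (G ≃* Matrix.ProjGenLinGroup (Fin 2) F) := by
  classical
  obtain ⟨p, hchar⟩ := CharP.exists F
  obtain ⟨m, hp, hF⟩ := FiniteField.card F p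
  have : Fact p.Prime := ⟨hp⟩
  set n : ℕ := (m : ℕ) with hn_def
  have hn : 0 < n := m.pos
  have hp2 : p ≠ 2 := fun h => by
    rw [hF, h, Nat.odd_pow_iff hn.ne'] at hodd
    exact absurd hodd (by decide)
  have : Finite (Matrix.ProjGenLinGroup (Fin 2) F) :=
    Finite.of_surjective _ Matrix.ProjGenLinGroup.mk_surjective
  have hq : 1 < p ^ n := Nat.one_lt_pow hn.ne' hp.one_lt
  obtain ⟨x2, xp, xo⟩ := pgl_counts hn hp2 hF
  have hcX : Nat.card (Matrix.ProjGenLinGroup (Fin 2) F) = p ^ n * ((p ^ n) ^ 2 - 1) := by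
    rw [Linear.card_PGL_eq_card_SL, Linear.card_SL_two, hF]
    rw [show (p ^ n) ^ 2 - 1 = (p ^ n + 1) * (p ^ n - 1) by rw [← Nat.sq_sub_sq, one_pow]]
    ring
  have hmem : ∀ k, 0 < NsePGL46.num G k →
      ∃ l, NsePGL46.num G k = NsePGL46.num (Matrix.ProjGenLinGroup (Fin 2) F) l := fun k hk =>
    ((Set.ext_iff.1 hnse _).1 ⟨hk, k, rfl⟩).2
  have H : NsePGL46.CountHyp G p (p ^ n) := by
    refine ⟨hcard.trans hcX, fun k hk => ?_, fun k hk => ?_, ?_⟩
    · obtain ⟨l, hl⟩ := hmem k hk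
      rw [hl]
      by_cases h1 : l = 1
      · exact Or.inl (by rw [h1, NsePGL46.num_one])
      by_cases h2 : l = p
      · exact Or.inr (Or.inl (by rw [h2, xp]))
      exact Or.inr (Or.inr (xo l h1 h2))
    · obtain ⟨l, hl⟩ := hmem k hk.pos
      rw [hl] at hk ⊢
      rcases lt_trichotomy l 2 with hl2 | rfl | hl2
      · interval_cases l
        · exfalso
          obtain ⟨g, hg⟩ := NsePGL46.num_pos_iff.1 hk.pos
          exact (orderOf_pos g).ne' hg
        · exact Or.inl NsePGL46.num_one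
      · exact Or.inr x2
      · exact absurd (NsePGL46.even_num hl2) (Nat.not_even_iff_odd.2 hk)
    · have h := (Set.ext_iff.1 hnse ((p ^ n) ^ 2)).2 ⟨by positivity, 2, x2.symm⟩
      obtain ⟨-, k, hk⟩ := h
      exact ⟨k, hk.symm⟩
  obtain ⟨g2, gp, giso⟩ := NsePGL46.isolation hp2 hn rfl H
  have HI : NsePGL46.IsoHyp G p (p ^ n) := by
    refine ⟨H.card, gp, giso, fun P => Nat.dvd_antisymm ?_ (P.pow_dvd_card_of_pow_dvd_card
      (H.card ▸ dvd_mul_right _ _))⟩
    obtain ⟨k, hk⟩ := P.2.exists_card_eq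
    have hd : Nat.card P ∣ p ^ n * ((p ^ n) ^ 2 - 1) := H.card ▸ Subgroup.card_subgroup_dvd_card _
    refine (Nat.Coprime.dvd_of_dvd_mul_right ?_ hd)
    rw [hk]
    refine Nat.Coprime.pow_left k (hp.coprime_iff_not_dvd.2 fun h => ?_)
    have h1 : p ∣ (p ^ n) ^ 2 := dvd_pow (dvd_pow_self p hn.ne') two_ne_zero
    have := Nat.dvd_sub h1 h
    rw [Nat.sub_sub_self (Nat.one_le_pow _ _ (by omega))] at this
    exact hp.not_dvd_one this
  obtain ⟨h3, hsharp, hfaith⟩ := HI.sharp hp2 hq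
  have hS := HI.card_sylow hp2 hq
  obtain ⟨V, _, Fr, hexp, hV⟩ := exists_frame_pow hp hn h3 hsharp hS
  have h2 := NsePGL46.Sharp.num_two (F := Fr) hexp hV hp2
  rw [g2, pow_two] at h2
  have hN := Nat.eq_of_mul_eq_mul_left (show 0 < p ^ n by omega) h2
  have := Fr.finite_H
  have hH := Fr.card_H
  have hswap : ∀ h : Fr.H, Fr.swap h = h⁻¹ := by
    intro h
    have hb := (Nat.bijective_iff_injective_and_card
      (Subtype.val : {h : Fr.H // Fr.swap h = h⁻¹} → Fr.H)).2 ⟨Subtype.val_injective, by omega⟩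
    obtain ⟨⟨h', hh⟩, rfl⟩ := hb.2 h
    exact hh
  have hcomm : ∀ g h : Fr.H, g * h = h * g := fun g h => by
    calc g * h = Fr.swap (g * h)⁻¹ := by rw [hswap, inv_inv]
      _ = Fr.swap h⁻¹ * Fr.swap g⁻¹ := by rw [mul_inv_rev, map_mul]
      _ = h * g := by rw [hswap, hswap, inv_inv, inv_inv]
  obtain ⟨K, _, _, hK, ⟨e⟩⟩ := Fr.nonempty_iso_pgl hcomm hswap
  have hKF : Fintype.card K = Fintype.card F := by omega
  obtain ⟨e'⟩ := nonempty_pglMapEquiv (FiniteField.ringEquivOfCardEq hKF)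
  exact ⟨e.trans e'⟩

/-- For a finite group X let nse(X) be the set of values of the function 'number of elements of order k' over the element orders k that occur. Let F be a finite field of odd order q > 3 and P = PGL(2, F) = GL(2, F) modulo its centre. If G is a finite group with the same order as P and nse(G) = nse(P), then G is isomorphic to P. -/
theorem result {F : Type*} [Field F] [Fintype F] (hodd : Odd (Fintype.card F)) (h3 : 3 < Fintype.card F)
    {G : Type*} [Group G] [Finite G] (hcard : Nat.card G = Nat.card (GL (Fin 2) F ⧸ Subgroup.center (GL (Fin 2) F)))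
    (hnse : {c : ℕ | 0 < c ∧ ∃ n : ℕ, c = Nat.card {g : G // orderOf g = n}} = {c : ℕ | 0 < c ∧ ∃ n : ℕ, c = Nat.card {g : (GL (Fin 2) F ⧸ Subgroup.center (GL (Fin 2) F)) // orderOf g = n}}) :
    Nonempty (G ≃* (GL (Fin 2) F ⧸ Subgroup.center (GL (Fin 2) F))) := by
  exact recognise hodd hcard hnse

end Cfsg.Agent.S3648
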