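import Cfsg.Statements.S3662
import Cfsg.Agent.Lib.G24.Spectrum
import Cfsg.Agent.Lib.G24.Transport
import Mathlib.FieldTheory.Finite.GaloisField

set_option autoImplicit false
open Cfsg

namespace Cfsg.Agent.S3662

open Cfsg.Agent.Lib.G24

/-- The prime graph of a finite group has the prime divisors of its order as vertices, two distinct primes p, q being joined when the group has an element of order pq; two groups have the same prime graph when they have the same prime divisors and the same joined pairs. Let F be the field with 4 elements and L the Chevalley group of type G₂ over F. There are finite groups of arbitrarily large order with the same prime graph as L. -/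
theorem result {F : Type*} [Field F] [Fintype F] (hF : Fintype.card F = 4) (N : ℕ) :
    ∃ (H : Type) (_ : Group H) (_ : Finite H), N < Nat.card H ∧
      ((∀ p : ℕ, p.Prime → (p ∣ Nat.card ↥(Cfsg.Lie.chevG2.group F) ↔ p ∣ Nat.card H)) ∧
      (∀ p q : ℕ, p.Prime → q.Prime → p ≠ q → ((∃ g : ↥(Cfsg.Lie.chevG2.group F), orderOf g = p * q) ↔ (∃ g : H, orderOf g = p * q)))) := by
  haveI := finite_Hk N
  obtain ⟨f⟩ : Nonempty (F ≃+* K4) :=
    ⟨FiniteField.ringEquivOfCardEq (hF.trans K4.card_eq.symm)⟩
  let e : ↥(Cfsg.Lie.chevG2.group F) ≃* G6 :=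
    (Transport.groupEquiv Cfsg.Lie.chevG2 f).trans equivGroup.symm
  have hc : Nat.card ↥(Cfsg.Lie.chevG2.group F) = 251596800 :=
    (Nat.card_congr e.toEquiv).trans card_G6
  refine ⟨Hk N, inferInstance, inferInstance, ?_, fun p hp => ?_, fun p q hp hq hpq => ?_⟩
  · rw [card_Hk]
    exact lt_of_lt_of_le (Nat.lt_pow_self (by norm_num)) (Nat.le_mul_of_pos_right _ (by norm_num))
  · rw [hc]; exact dvd_card_iff hp N
  · rw [← pq_iff N hp hq hpq]
    exact ⟨fun ⟨g, hg⟩ => ⟨e g, by rw [MulEquiv.orderOf_eq, hg]⟩,
      fun ⟨g, hg⟩ => ⟨e.symm g, by rw [MulEquiv.orderOf_eq, hg]⟩⟩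

end Cfsg.Agent.S3662
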