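import Cfsg.Statements.S3664
import Cfsg.Agent.Lib.Sp63.PSp
import Cfsg.Agent.Lib.Sz8.Group
import Cfsg.Agent.Lib.PrimeGraph.Unbounded

set_option autoImplicit false
open Cfsg

namespace Cfsg.Agent.S3664

open Cfsg.Agent.Lib

theorem exists_equiv (F : Type*) [Field F] [Fintype F] (hF : Fintype.card F = 3) :
    Nonempty (Sp63.Sp ≃* Matrix.symplecticGroup (Fin 3) F) := by
  let φ : Sp63.F3 ≃+* F := FiniteField.ringEquivOfCardEq (K := Sp63.F3) (K' := F) (by rw [ZMod.card, hF])
  have hJ : (Matrix.J (Fin 3) Sp63.F3).map φ = Matrix.J (Fin 3) F := by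
    ext i j
    rcases i with i | i <;> rcases j with j | j <;> simp [Matrix.J, Matrix.one_apply, apply_ite φ]
  have hJ' : (Matrix.J (Fin 3) F).map φ.symm = Matrix.J (Fin 3) Sp63.F3 := by
    rw [← hJ, Matrix.map_map]; ext i j; simp
  refine ⟨{ toFun := fun A => ⟨A.1.map φ, ?_⟩
            invFun := fun A => ⟨A.1.map φ.symm, ?_⟩
            left_inv := fun A => Subtype.ext (by ext i j; simp)
            right_inv := fun A => Subtype.ext (by ext i j; simp)
            map_mul' := fun A B => Subtype.ext (by simp [Matrix.map_mul]) }⟩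
  · rw [SymplecticGroup.mem_iff, ← hJ, ← Matrix.transpose_map, ← Matrix.map_mul, ← Matrix.map_mul,
      SymplecticGroup.mem_iff.1 A.2]
  · rw [SymplecticGroup.mem_iff, ← hJ', ← Matrix.transpose_map, ← Matrix.map_mul, ← Matrix.map_mul,
      SymplecticGroup.mem_iff.1 A.2]

/-- the graph-defining group `2^48:(Sz(8):3)` -/
abbrev G' : Type := Sz8.Mod ⋊[Sz8.modAct] Sz8.G

instance gpFinite : Finite G' := Finite.of_equiv _ SemidirectProduct.equivProd.symm

theorem card_Mod : Nat.card Sz8.Mod = 2 ^ 48 := by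
  rw [Nat.card_congr (Multiplicative.toAdd : Sz8.Mod ≃ Matrix (Fin 4) (Fin 4) Sz8.K8)]
  show Nat.card (Fin 4 → Fin 4 → Sz8.K8) = _
  rw [Nat.card_pi, Finset.prod_const, Finset.card_univ, Fintype.card_fin, Nat.card_pi, Finset.prod_const,
    Finset.card_univ, Fintype.card_fin, Nat.card_eq_fintype_card, Sz8.card_k8]
  norm_num

theorem card_G' : Nat.card G' = 2 ^ 48 * 87360 := by
  rw [SemidirectProduct.card, card_Mod, Sz8.card_G]

theorem isPGroup_Mod : IsPGroup 2 Sz8.Mod := IsPGroup.of_card card_Mod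

theorem prime_dvd_G' {r : ℕ} (hr : r.Prime) :
    r ∣ Nat.card G' ↔ r = 2 ∨ r = 3 ∨ r = 5 ∨ r = 7 ∨ r = 13 := by
  rw [card_G', show 87360 = 2 ^ 6 * 3 * 5 * 7 * 13 by norm_num]
  constructor
  · intro h
    rcases (Nat.Prime.dvd_mul hr).1 h with h | h
    · exact Or.inl ((Nat.prime_dvd_prime_iff_eq hr (by norm_num)).1 (hr.dvd_of_dvd_pow h))
    rcases (Nat.Prime.dvd_mul hr).1 h with h | h
    · rcases (Nat.Prime.dvd_mul hr).1 h with h | h
      · rcases (Nat.Prime.dvd_mul hr).1 h with h | h
        · rcases (Nat.Prime.dvd_mul hr).1 h with h | h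
          · exact Or.inl ((Nat.prime_dvd_prime_iff_eq hr (by norm_num)).1 (hr.dvd_of_dvd_pow h))
          · exact Or.inr (Or.inl ((Nat.prime_dvd_prime_iff_eq hr (by norm_num)).1 h))
        · exact Or.inr (Or.inr (Or.inl ((Nat.prime_dvd_prime_iff_eq hr (by norm_num)).1 h)))
      · exact Or.inr (Or.inr (Or.inr (Or.inl ((Nat.prime_dvd_prime_iff_eq hr (by norm_num)).1 h))))
    · exact Or.inr (Or.inr (Or.inr (Or.inr ((Nat.prime_dvd_prime_iff_eq hr (by norm_num)).1 h))))
  · rintro (rfl | rfl | rfl | rfl | rfl) <;> norm_num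

theorem fac_G {p a : ℕ} (hp : p.Prime) (h1 : p * a = 87360) (h2 : ¬ p ∣ a) :
    (Nat.card Sz8.G).factorization p = 1 := by
  rw [Sz8.card_G, ← h1, Nat.factorization_mul hp.ne_zero (by rintro rfl; simp at h2),
    Finsupp.add_apply, hp.factorization_self, Nat.factorization_eq_zero_of_not_dvd h2]

theorem ker_two_pow {z : G'} (hz : SemidirectProduct.rightHom z = 1) : z ^ 2 = 1 := by
  have hl : z = SemidirectProduct.inl z.left := by
    rw [← SemidirectProduct.inl_left_mul_inr_right z]
    rw [show z.right = 1 from hz, map_one, mul_one]; simp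
  rw [hl, ← map_pow]
  convert map_one (SemidirectProduct.inl : Sz8.Mod →* G')
  obtain ⟨A, hA⟩ := Multiplicative.ofAdd.surjective z.left
  rw [← hA, ← ofAdd_nsmul]
  refine congrArg Multiplicative.ofAdd ?_
  ext i j
  show (2 • A) i j = 0
  rw [Matrix.smul_apply, two_nsmul]
  exact add_eq_zero_iff_eq_neg.2 rfl

/-- elements of order `p * r` with `p` the order of a self-centralising element -/
theorem engine {p a r : ℕ} (hp : p.Prime) (h1 : p * a = 87360) (h2 : ¬ p ∣ a) (hp2 : p ≠ 2) (g : Sz8.N)
    (hg : orderOf g = p) (hcen : ∀ y : Sz8.G, Commute (SemidirectProduct.inl g) y → y ^ p = 1)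
    (hr : r.Prime) (hrp : r ≠ p) {x : G'} (hx : orderOf x = p * r) :
    r = 2 ∧ ∃ (z : Sz8.Mod) (k : Sz8.G), z ≠ 1 ∧
      Sz8.modAct (SemidirectProduct.inl g) (Sz8.modAct k z) = Sz8.modAct k z := by
  haveI := Fact.mk hp
  set π : G' →* Sz8.G := SemidirectProduct.rightHom with hπ
  set u := x ^ r with hu
  have hou : orderOf u = p := by
    rw [hu, orderOf_pow_of_dvd hr.ne_zero (hx ▸ dvd_mul_left r p), hx, Nat.mul_div_cancel _ hr.pos]
  have hopi : orderOf (π u) = p := by
    refine orderOf_eq_prime (by rw [← map_pow, ← hou, pow_orderOf_eq_one, map_one]) fun h => ?_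
    have := orderOf_dvd_of_pow_eq_one (ker_two_pow h)
    rw [hou] at this
    exact hp2 ((Nat.prime_dvd_prime_iff_eq hp Nat.prime_two).1 this)
  have hcomm : Commute (π u) (π x) := ((Commute.refl x).pow_left r).map π
  obtain ⟨h, hh⟩ := Sp63.commute_conj (fac_G hp h1 h2) hopi (b := SemidirectProduct.inl g)
    (by rw [Sz8.orderG, hg]) hcomm
  have hxp : π x ^ p = 1 := by
    have h3 := hcen _ hh
    rw [conj_pow] at h3
    exact conj_eq_one_iff.1 h3
  set z := x ^ p with hz
  have hzr : orderOf z = r := by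
    rw [hz, orderOf_pow_of_dvd hp.ne_zero (hx ▸ dvd_mul_right p r), hx, Nat.mul_div_cancel_left _ hp.pos]
  have hzk : π z = 1 := by rw [hz, map_pow, hxp]
  have hr2 : r = 2 := by
    have := orderOf_dvd_of_pow_eq_one (ker_two_pow hzk)
    rw [hzr] at this
    exact (Nat.prime_dvd_prime_iff_eq hr Nat.prime_two).1 this
  have hzl : z = SemidirectProduct.inl z.left := by
    rw [← SemidirectProduct.inl_left_mul_inr_right z]
    rw [show z.right = 1 from hzk, map_one, mul_one]; simp
  have hz1 : z.left ≠ 1 := by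
    intro h0
    rw [hzl, h0, map_one, orderOf_one] at hzr
    exact hr.ne_one hzr.symm
  have hfix : Sz8.modAct (π u) z.left = z.left := by
    have hc : Commute u z := (Commute.refl x).pow_pow r p
    have := congrArg SemidirectProduct.left hc.eq
    rw [SemidirectProduct.mul_left, SemidirectProduct.mul_left, show z.right = 1 from hzk, map_one,
      MulAut.one_apply, mul_comm z.left] at this
    exact mul_left_cancel this
  have huj : ∀ (j : ℤ), Sz8.modAct (π u ^ j) z.left = z.left := by
    intro j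
    let S : Subgroup Sz8.G :=
      { carrier := {y | Sz8.modAct y z.left = z.left}
        one_mem' := by simp
        mul_mem' := fun {a b} ha hb => by
          show Sz8.modAct (a * b) z.left = z.left
          rw [map_mul, MulAut.mul_apply, hb, ha]
        inv_mem' := fun {a} ha => by
          show Sz8.modAct a⁻¹ z.left = z.left
          rw [map_inv, MulAut.inv_apply, MulEquiv.symm_apply_eq, ha] }
    exact S.zpow_mem (show π u ∈ S from hfix) j
  refine ⟨hr2, z.left, ?_⟩
  let P : Sylow p Sz8.G := Sylow.ofCard (Subgroup.zpowers (π u))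
    (by rw [Nat.card_zpowers, hopi, fac_G hp h1 h2, pow_one])
  let Q : Sylow p Sz8.G := Sylow.ofCard (Subgroup.zpowers (SemidirectProduct.inl g))
    (by rw [Nat.card_zpowers, Sz8.orderG, hg, fac_G hp h1 h2, pow_one])
  obtain ⟨k, hk⟩ := MulAction.exists_smul_eq Sz8.G P Q
  have hb : (SemidirectProduct.inl g : Sz8.G) ∈ ((k • P : Sylow p Sz8.G) : Subgroup Sz8.G) := by
    rw [hk]; exact Subgroup.mem_zpowers _
  rw [Sylow.smul_def] at hb
  obtain ⟨w, hw, hwb⟩ := hb
  obtain ⟨j, rfl⟩ := Subgroup.mem_zpowers_iff.1 (show w ∈ Subgroup.zpowers (π u) from hw)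
  refine ⟨k, hz1, ?_⟩
  have hwb' : k * π u ^ j * k⁻¹ = SemidirectProduct.inl g := hwb
  rw [← hwb', map_mul, map_mul, MulAut.mul_apply, MulAut.mul_apply, map_inv, MulAut.inv_apply,
    MulEquiv.symm_apply_apply, huj]

theorem not_thirteen {r : ℕ} (hr : r.Prime) (hr13 : r ≠ 13) : ¬ ∃ x : G', orderOf x = 13 * r := by
  rintro ⟨x, hx⟩
  obtain ⟨-, z, k, hz, hfix⟩ := engine (a := 6720) (by norm_num) (by norm_num) (by norm_num) (by norm_num)
    Sz8.g13 Sz8.order13 (fun y => Sz8.cenG13) hr hr13 hx
  exact hz ((Sz8.modAct k).map_eq_one_iff.1 (Sz8.fixed13 hfix))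

theorem not_seven {r : ℕ} (hr : r.Prime) (hr7 : r ≠ 7) (hr2 : r ≠ 2) : ¬ ∃ x : G', orderOf x = 7 * r := by
  rintro ⟨x, hx⟩
  exact hr2 (engine (a := 12480) (by norm_num) (by norm_num) (by norm_num) (by norm_num)
    Sz8.g7 Sz8.order7 (fun y => Sz8.cenG7) hr hr7 hx).1

theorem exists_double {p : ℕ} (hp : p.Prime) (hp2 : p ≠ 2) (g : Sz8.N) (hg : orderOf g = p)
    (X : Sz8.Mod) (hX : X ≠ 1) (hfix : Sz8.modAct (SemidirectProduct.inl g) X = X) :
    ∃ x : G', orderOf x = 2 * p := by
  set a : G' := SemidirectProduct.inl X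
  set b : G' := SemidirectProduct.inr (SemidirectProduct.inl g)
  have ha : orderOf a = 2 := by
    haveI : Fact (Nat.Prime 2) := ⟨Nat.prime_two⟩
    exact orderOf_eq_prime (ker_two_pow (SemidirectProduct.rightHom_inl _)) fun h =>
      hX (SemidirectProduct.inl_injective (h.trans (map_one _).symm))
  have hb : orderOf b = p := by
    rw [orderOf_injective _ SemidirectProduct.inr_injective, Sz8.orderG, hg]
  have hc : Commute a b := by
    have h := SemidirectProduct.inl_aut (φ := Sz8.modAct) (SemidirectProduct.inl g) X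
    rw [hfix, map_inv] at h
    exact eq_mul_inv_iff_mul_eq.1 h
  refine ⟨a * b, ?_⟩
  rw [hc.orderOf_mul_eq_mul_orderOf_of_coprime (by
    rw [ha, hb]; exact (Nat.coprime_primes Nat.prime_two hp).2 hp2.symm), ha, hb]

theorem exists_ten : ∃ x : G', orderOf x = 10 :=
  exists_double Nat.prime_five (by norm_num) Sz8.g5 Sz8.order5 _
    (fun h => absurd (Multiplicative.ofAdd.injective h) (by decide +kernel)) Sz8.fix5

theorem exists_fourteen : ∃ x : G', orderOf x = 14 :=
  exists_double (p := 7) (by norm_num) (by norm_num) Sz8.g7 Sz8.order7 _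
    (fun h => absurd (Multiplicative.ofAdd.injective h) (by decide +kernel)) Sz8.fix7

theorem exists_from_G {n : ℕ} (h : ∃ x : Sz8.G, orderOf x = n) : ∃ x : G', orderOf x = n := by
  obtain ⟨x, hx⟩ := h
  exact ⟨SemidirectProduct.inr x, by rw [orderOf_injective _ SemidirectProduct.inr_injective, hx]⟩

theorem edge_iff {r s : ℕ} (hr : r.Prime) (hs : s.Prime) (hrs : r ≠ s) :
    (∃ x : G', orderOf x = r * s) ↔ r * s = 6 ∨ r * s = 10 ∨ r * s = 14 ∨ r * s = 15 := by
  constructor
  · rintro ⟨x, hx⟩
    have hr' := (prime_dvd_G' hr).1 ((Dvd.intro s hx.symm).trans (orderOf_dvd_natCard x))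
    have hs' := (prime_dvd_G' hs).1 ((Dvd.intro_left r hx.symm).trans (orderOf_dvd_natCard x))
    have h1 := fun (t : ℕ) (ht : t.Prime) (a : t ≠ 7) (b : t ≠ 2) (e : r * s = 7 * t) =>
      not_seven ht a b ⟨x, hx.trans e⟩
    have h2 := fun (t : ℕ) (ht : t.Prime) (a : t ≠ 13) (e : r * s = 13 * t) =>
      not_thirteen ht a ⟨x, hx.trans e⟩
    rcases hr' with rfl | rfl | rfl | rfl | rfl <;> rcases hs' with rfl | rfl | rfl | rfl | rfl
    all_goals first
      | exact absurd rfl hrs
      | (norm_num; done)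
      | (refine (h1 3 Nat.prime_three (by decide) (by decide) ?_).elim; norm_num; done)
      | (refine (h1 5 Nat.prime_five (by decide) (by decide) ?_).elim; norm_num; done)
      | (refine (h2 2 Nat.prime_two (by decide) ?_).elim; norm_num; done)
      | (refine (h2 3 Nat.prime_three (by decide) ?_).elim; norm_num; done)
      | (refine (h2 5 Nat.prime_five (by decide) ?_).elim; norm_num; done)
      | (refine (h2 7 (by decide) (by decide) ?_).elim; norm_num; done)
  · rintro (h | h | h | h) <;> rw [h]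
    · exact exists_from_G Sz8.exists_six
    · exact exists_ten
    · exact exists_fourteen
    · exact exists_from_G Sz8.exists_fifteen


/-- The prime graph of a finite group has the prime divisors of its order as vertices, two distinct primes p, q being joined when the group has an element of order pq; two groups have the same prime graph when they have the same prime divisors and the same joined pairs. Let F be the field with 3 elements and L = PSp(6,F). There are finite groups of arbitrarily large order with the same prime graph as L (a prime graph shared by the orthogonal groups Ω₇(3) and PΩ⁺₈(3)). -/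
theorem result {F : Type*} [Field F] [Fintype F] (hF : Fintype.card F = 3) (N : ℕ) :
    ∃ (H : Type) (_ : Group H) (_ : Finite H), N < Nat.card H ∧
      ((∀ p : ℕ, p.Prime → (p ∣ Nat.card (Cfsg.PSp 3 F) ↔ p ∣ Nat.card H)) ∧
      (∀ p q : ℕ, p.Prime → q.Prime → p ≠ q → ((∃ g : (Cfsg.PSp 3 F), orderOf g = p * q) ↔ (∃ g : H, orderOf g = p * q)))) := by
  obtain ⟨e⟩ := exists_equiv F hF
  have hmap : (Subgroup.center Sp63.Sp).map e.toMonoidHom = Subgroup.center (Matrix.symplecticGroup (Fin 3) F) :=
    Symplectic.map_center_eq e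
  let E : Sp63.Q ≃* Cfsg.PSp 3 F := QuotientGroup.congr _ _ e hmap
  let act : G' →* MulAut Sz8.Mod := Sz8.modAct.comp SemidirectProduct.rightHom
  haveI : Nontrivial Sz8.Mod := Finite.one_lt_card_iff_nontrivial.1 (by rw [card_Mod]; norm_num)
  obtain ⟨H, iG, iF, hN, h1, h2⟩ := PrimeGraph.Unbounded.exists_large_same_graph
    (p := 2) Nat.prime_two ((prime_dvd_G' Nat.prime_two).2 (Or.inl rfl)) isPGroup_Mod act (by
      intro q hq hq2 g hg m hfix hm
      rcases (prime_dvd_G' hq).1 (hg ▸ orderOf_dvd_natCard g) with rfl | rfl | rfl | rfl | rfl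
      · exact absurd rfl hq2
      · exact (edge_iff Nat.prime_two Nat.prime_three (by norm_num)).2 (Or.inl rfl)
      · exact (edge_iff Nat.prime_two Nat.prime_five (by norm_num)).2 (Or.inr (Or.inl rfl))
      · exact (edge_iff Nat.prime_two hq (by norm_num)).2 (Or.inr (Or.inr (Or.inl rfl)))
      · exfalso
        haveI := Fact.mk hq
        refine not_thirteen Nat.prime_two (by norm_num) ⟨SemidirectProduct.inl m * g, ?_⟩
        have hc : Commute (SemidirectProduct.inl m : G') g := by
          apply SemidirectProduct.ext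
          · rw [SemidirectProduct.mul_left, SemidirectProduct.mul_left, SemidirectProduct.left_inl,
              SemidirectProduct.right_inl, map_one, MulAut.one_apply,
              show Sz8.modAct g.right m = m from hfix, mul_comm]
          · simp
        have h2' : orderOf (SemidirectProduct.inl m : G') = 2 :=
          orderOf_eq_prime (ker_two_pow (SemidirectProduct.rightHom_inl _)) fun h =>
            hm (SemidirectProduct.inl_injective (h.trans (map_one _).symm))
        rw [hc.orderOf_mul_eq_mul_orderOf_of_coprime (by rw [h2', hg]; norm_num), h2', hg]) N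
  refine ⟨H, iG, Finite.of_fintype _, hN, fun p hp => ?_, fun p q hp hq hpq => ?_⟩
  · rw [← Nat.card_congr E.toEquiv, Sp63.prime_dvd_Q hp, ← prime_dvd_G' hp]
    exact h1 p hp
  · rw [← h2 p q hp hq hpq, edge_iff hp hq hpq, ← Sp63.edge_iff hp hq hpq]
    exact ⟨fun ⟨x, hx⟩ => ⟨E.symm x, by rw [E.symm.orderOf_eq, hx]⟩,
      fun ⟨x, hx⟩ => ⟨E x, by rw [E.orderOf_eq, hx]⟩⟩

end Cfsg.Agent.S3664
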