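import Cfsg.Statements.S3669
import Cfsg.Agent.S0494
import Cfsg.Agent.Lib.SmallGroups.Counting
import Cfsg.Agent.Lib.Clifford.Ito
import Cfsg.Agent.Lib.Characters.Transitive
import Cfsg.Agent.Lib.Coprime.Glauberman

set_option autoImplicit false
open Cfsg

namespace Cfsg.Agent.S3669

open Subgroup Cfsg.Agent.Lib
open scoped Pointwise

theorem five_sylow_one_of_card_thirty {X : Type*} [Group X] [Finite X] (hX : Nat.card X = 30) :
    Nat.card (Sylow 5 X) = 1 := by
  haveI := Fact.mk (by norm_num : Nat.Prime 5)
  haveI := Fact.mk (by norm_num : Nat.Prime 3)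
  have h5 : Nat.card (Sylow 5 X) ∣ 6 := SmallGroups.Sylow.card_sylow_dvd (p := 5) (a := 1) (m := 6) (by rw [hX]; norm_num) (by norm_num)
  have h3 : Nat.card (Sylow 3 X) ∣ 10 := SmallGroups.Sylow.card_sylow_dvd (p := 3) (a := 1) (m := 10) (by rw [hX]; norm_num) (by norm_num)
  have m5 := SmallGroups.Sylow.card_sylow_mod (p := 5) (G := X)
  have m3 := SmallGroups.Sylow.card_sylow_mod (p := 3) (G := X)
  have c5 : ∀ P : Sylow 5 X, Nat.card ↥(P : Subgroup X) = 5 := fun P => by
    simpa using SmallGroups.Sylow.card_sylow_eq (p := 5) P (a := 1) (m := 6) (by rw [hX]; norm_num) (by norm_num)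
  have c3 : ∀ P : Sylow 3 X, Nat.card ↥(P : Subgroup X) = 3 := fun P => by
    simpa using SmallGroups.Sylow.card_sylow_eq (p := 3) P (a := 1) (m := 10) (by rw [hX]; norm_num) (by norm_num)
  by_contra hne
  have h6 : Nat.card (Sylow 5 X) = 6 := by
    rcases Nat.lt_or_ge (Nat.card (Sylow 5 X)) 6 with h | h
    · interval_cases (Nat.card (Sylow 5 X)) <;> omega
    · exact le_antisymm (Nat.le_of_dvd (by norm_num) h5) h
  have h3' : Nat.card (Sylow 3 X) = 1 ∨ Nat.card (Sylow 3 X) = 10 := by
    have := Nat.le_of_dvd (by norm_num) h3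
    interval_cases (Nat.card (Sylow 3 X)) <;> omega
  rcases h3' with h | h
  · haveI : Subsingleton (Sylow 3 X) := (Nat.card_eq_one_iff_unique.1 h).1
    obtain ⟨Q⟩ := (inferInstance : Nonempty (Sylow 3 X))
    obtain ⟨P⟩ := (inferInstance : Nonempty (Sylow 5 X))
    haveI hQn : (Q : Subgroup X).Normal := Sylow.normal_of_subsingleton Q
    set K := (P : Subgroup X) ⊔ (Q : Subgroup X) with hK
    have hKc : Nat.card K = 15 := by
      rw [hK, Coprime.card_sup_of_disjoint le_normalizer_of_normal
        (disjoint_iff.2 (Coprime.inf_eq_bot_of_coprime (by rw [c5, c3]; norm_num))), c5, c3]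
    have hPK : (P : Subgroup X) ≤ K := le_sup_left
    haveI hsub : Subsingleton (Sylow 5 K) := by
      have h1 : Nat.card (Sylow 5 K) ∣ 3 := SmallGroups.Sylow.card_sylow_dvd (p := 5) (a := 1) (m := 3) (by rw [hKc]; norm_num) (by norm_num)
      have h2 := SmallGroups.Sylow.card_sylow_mod (p := 5) (G := K)
      have h3 := Nat.le_of_dvd (by norm_num) h1
      have h4 : Nat.card (Sylow 5 K) = 1 := by interval_cases (Nat.card (Sylow 5 K)) <;> omega
      exact (Nat.card_eq_one_iff_unique.1 h4).1
    have hn : ((P.subtype hPK : Sylow 5 K) : Subgroup K).Normal := Sylow.normal_of_subsingleton _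
    have hle : K ≤ normalizer ((P : Subgroup X) : Set X) :=
      (normal_subgroupOf_iff_le_normalizer hPK).1 hn
    have hd := Subgroup.card_dvd_of_le hle
    have hi := SmallGroups.Sylow.card_normalizer_mul (p := 5) P
    rw [h6, hX] at hi
    rw [hKc] at hd
    have := Nat.le_of_dvd Nat.card_pos hd
    omega
  · have e5 := SmallGroups.Counting.card_orderOf_eq_prime c5
    have e3 := SmallGroups.Counting.card_orderOf_eq_prime c3
    rw [h6] at e5
    rw [h] at e3
    have hle : Nat.card ({g : X // orderOf g = 5} ⊕ {g : X // orderOf g = 3}) ≤ Nat.card X :=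
      Nat.card_le_card_of_injective (Sum.elim Subtype.val Subtype.val) (by
        rintro (⟨a, ha⟩ | ⟨a, ha⟩) (⟨b, hb⟩ | ⟨b, hb⟩) hab
        · exact congrArg _ (Subtype.ext hab)
        · simp only [Sum.elim_inl, Sum.elim_inr] at hab; subst hab; omega
        · simp only [Sum.elim_inl, Sum.elim_inr] at hab; subst hab; omega
        · exact congrArg _ (Subtype.ext hab))
    rw [Nat.card_sum, e5, e3, hX] at hle
    omega

section Sixty

variable {G : Type*} [Group G] [Finite G] (hG : Nat.card G = 60)

include hG

theorem sylow5 : (∀ P : Sylow 5 G, Nat.card ↥(P : Subgroup G) = 5) ∧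
    (Nat.card (Sylow 5 G) = 1 ∨ Nat.card (Sylow 5 G) = 6) := by
  haveI := Fact.mk (by norm_num : Nat.Prime 5)
  refine ⟨fun P => ?_, ?_⟩
  · simpa using SmallGroups.Sylow.card_sylow_eq (p := 5) P (a := 1) (m := 12) (by rw [hG]; norm_num) (by norm_num)
  have h5 : Nat.card (Sylow 5 G) ∣ 12 := SmallGroups.Sylow.card_sylow_dvd (p := 5) (a := 1) (m := 12) (by rw [hG]; norm_num) (by norm_num)
  have := Nat.le_of_dvd (by norm_num) h5
  have m5 := SmallGroups.Sylow.card_sylow_mod (p := 5) (G := G)
  interval_cases (Nat.card (Sylow 5 G)) <;> omega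

theorem isSimple_of_six (h6 : Nat.card (Sylow 5 G) = 6) : IsSimpleGroup G := by
  haveI := Fact.mk (by norm_num : Nat.Prime 5)
  haveI := Fact.mk (by norm_num : Nat.Prime 3)
  obtain ⟨c5, -⟩ := sylow5 hG
  obtain ⟨P⟩ := (inferInstance : Nonempty (Sylow 5 G))
  have hNP : Nat.card ↥(normalizer ((P : Subgroup G) : Set G)) = 10 := by
    have := SmallGroups.Sylow.card_normalizer_mul (p := 5) P
    rw [h6, hG] at this
    omega
  haveI : Nontrivial G := Finite.one_lt_card_iff_nontrivial.1 (by omega)
  refine ⟨fun N hN => ?_⟩
  haveI := hN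
  have hNd : Nat.card N ∣ 60 := hG ▸ N.card_subgroup_dvd_card
  by_contra hc
  rw [not_or] at hc
  have hN1 : 1 < Nat.card N := N.one_lt_card_iff_ne_bot.2 hc.1
  have hN60 : Nat.card N < 60 := lt_of_le_of_ne (Nat.le_of_dvd (by norm_num) hNd)
    fun h => hc.2 (Subgroup.eq_top_of_card_eq _ (h.trans hG.symm))
  by_cases h5N : 5 ∣ Nat.card N
  · -- all elements of order 5 lie in N
    have hall : ∀ g : G, orderOf g = 5 → g ∈ N := by
      intro g hg
      by_contra hgN
      obtain ⟨⟨a, ha⟩, hao⟩ := exists_prime_orderOf_dvd_card' 5 h5N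
      rw [← Subgroup.orderOf_coe] at hao
      have hp : IsPGroup 5 (zpowers g) := IsPGroup.of_card (n := 1) (by rw [Nat.card_zpowers, hg, pow_one])
      have hpa : IsPGroup 5 (zpowers a) := IsPGroup.of_card (n := 1) (by rw [Nat.card_zpowers, hao, pow_one])
      obtain ⟨R, hR⟩ := hp.exists_le_sylow
      obtain ⟨S, hS⟩ := hpa.exists_le_sylow
      have eR : zpowers g = R := eq_of_le_of_card_ge hR (by rw [c5, Nat.card_zpowers, hg])
      have eS : zpowers a = S := eq_of_le_of_card_ge hS (by rw [c5, Nat.card_zpowers, hao])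
      obtain ⟨x, hx⟩ := MulAction.exists_smul_eq G S R
      have hgS : g ∈ MulAut.conj x • (S : Subgroup G) := by
        have : ((x • S : Sylow 5 G) : Subgroup G) = MulAut.conj x • (S : Subgroup G) := rfl
        rw [← this, hx, ← eR]; exact mem_zpowers g
      rw [← eS] at hgS
      have : MulAut.conj x • zpowers a ≤ N := by
        rintro _ ⟨z, hz, rfl⟩
        exact hN.conj_mem z (zpowers_le.2 ha hz) x
      exact hgN (this hgS)
    have e5 := SmallGroups.Counting.card_orderOf_eq_prime c5
    rw [h6] at e5
    have hle : Nat.card {g : G // orderOf g = 5} + 1 ≤ Nat.card N := by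
      have := Nat.card_le_card_of_injective
        (Sum.elim (fun g : {g : G // orderOf g = 5} => (⟨g.1, hall g.1 g.2⟩ : N)) (fun _ : Unit => 1)) (by
          rintro (⟨a, ha⟩ | a) (⟨b, hb⟩ | b) hab
          · exact congrArg _ (Subtype.ext (congrArg Subtype.val hab :))
          · have : a = 1 := congrArg Subtype.val hab
            subst this; simp at ha
          · have : (1 : G) = b := congrArg Subtype.val hab
            subst this; simp at hb
          · rfl)
      simpa [Nat.card_sum] using this
    rw [e5] at hle
    have h30 : Nat.card N = 30 := by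
      obtain ⟨k, hk⟩ := hNd
      rcases Nat.lt_or_ge k 3 with h | h
      · interval_cases k <;> omega
      · have := Nat.mul_le_mul_left (Nat.card N) h; omega
    have h1 := five_sylow_one_of_card_thirty h30
    have hPN : (P : Subgroup G) ≤ N := fun g hg => by
      by_cases hg1 : g = 1
      · exact hg1 ▸ one_mem N
      · have := Subgroup.orderOf_dvd_natCard _ hg
        rw [c5] at this
        exact hall g (((Nat.dvd_prime (by norm_num)).1 this).resolve_left (mt orderOf_eq_one_iff.1 hg1))
    haveI : Subsingleton (Sylow 5 N) := (Nat.card_eq_one_iff_unique.1 h1).1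
    have hn : ((P.subtype hPN : Sylow 5 N) : Subgroup N).Normal := Sylow.normal_of_subsingleton _
    have hle2 : N ≤ normalizer ((P : Subgroup G) : Set G) := (normal_subgroupOf_iff_le_normalizer hPN).1 hn
    have := Nat.le_of_dvd Nat.card_pos (Subgroup.card_dvd_of_le hle2)
    omega
  · have hcop : (Nat.card ↥(P : Subgroup G)).Coprime (Nat.card N) := by
      rw [c5]; exact (by norm_num : Nat.Prime 5).coprime_iff_not_dvd.2 h5N
    haveI : Group.IsSolvable ↥(P : Subgroup G) := Coprime.isSolvable_of_isPGroup P.2
    -- no subgroup of order 15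
    have h15 : ∀ K : Subgroup G, (P : Subgroup G) ≤ K → Nat.card K ≠ 15 := by
      intro K hPK hKc
      haveI : Subsingleton (Sylow 5 K) := by
        have h1 : Nat.card (Sylow 5 K) ∣ 3 := SmallGroups.Sylow.card_sylow_dvd (p := 5) (a := 1) (m := 3) (by rw [hKc]; norm_num) (by norm_num)
        have h2 := SmallGroups.Sylow.card_sylow_mod (p := 5) (G := K)
        have h3 := Nat.le_of_dvd (by norm_num) h1
        have h4 : Nat.card (Sylow 5 K) = 1 := by interval_cases (Nat.card (Sylow 5 K)) <;> omega
        exact (Nat.card_eq_one_iff_unique.1 h4).1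
      have hn : ((P.subtype hPK : Sylow 5 K) : Subgroup K).Normal := Sylow.normal_of_subsingleton _
      have hle : K ≤ normalizer ((P : Subgroup G) : Set G) := (normal_subgroupOf_iff_le_normalizer hPK).1 hn
      have hd := Subgroup.card_dvd_of_le hle
      rw [hKc, hNP] at hd
      omega
    by_cases h3N : 3 ∣ Nat.card N
    · obtain ⟨Q, hQ⟩ := Coprime.exists_invariant_sylow (A := (P : Subgroup G)) (K := N)
        le_normalizer_of_normal hcop (Or.inl inferInstance) 3
      set Q' : Subgroup G := (Q : Subgroup N).map N.subtype with hQ'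
      have hQc : Nat.card Q' = 3 := by
        rw [hQ', Coprime.card_sylow_map]
        have h1 : (Nat.card N).factorization 3 ≤ 1 := by
          by_contra hgt
          have h9 : 3 ^ 2 ∣ Nat.card N :=
            ((by norm_num : Nat.Prime 3).pow_dvd_iff_le_factorization Nat.card_pos.ne').2 (by omega)
          have := h9.trans hNd
          norm_num at this
        have h2 : 0 < (Nat.card N).factorization 3 :=
          (by norm_num : Nat.Prime 3).factorization_pos_of_dvd Nat.card_pos.ne' h3N
        rw [show (Nat.card N).factorization 3 = 1 by omega, pow_one]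
      refine h15 ((P : Subgroup G) ⊔ Q') le_sup_left ?_
      rw [Coprime.card_sup_of_disjoint hQ
        (disjoint_iff.2 (Coprime.inf_eq_bot_of_coprime (by rw [c5, hQc]; norm_num))), c5, hQc]
    · -- order 2 or 4
      have hPN : (P : Subgroup G) ⊓ N = ⊥ := Coprime.inf_eq_bot_of_coprime hcop
      have hN24 : Nat.card N = 2 ∨ Nat.card N = 4 := by
        have hle : Nat.card N ≤ 60 := hN60.le
        interval_cases hh : Nat.card N <;> omega
      set K := (P : Subgroup G) ⊔ N with hK
      have hKc : Nat.card K = 5 * Nat.card N := by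
        rw [hK, Coprime.card_sup_of_disjoint le_normalizer_of_normal (disjoint_iff.2 hPN), c5]
      have hPK : (P : Subgroup G) ≤ K := le_sup_left
      haveI : Subsingleton (Sylow 5 K) := by
        have h1 : Nat.card (Sylow 5 K) ∣ Nat.card N := SmallGroups.Sylow.card_sylow_dvd (p := 5) (a := 1) (m := Nat.card N) (by rw [hKc, pow_one]) h5N
        have h2 := SmallGroups.Sylow.card_sylow_mod (p := 5) (G := K)
        have h3 := Nat.le_of_dvd Nat.card_pos h1
        have h4 : Nat.card (Sylow 5 K) = 1 := by omega
        exact (Nat.card_eq_one_iff_unique.1 h4).1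
      have hn : ((P.subtype hPK : Sylow 5 K) : Subgroup K).Normal := Sylow.normal_of_subsingleton _
      have hle : K ≤ normalizer ((P : Subgroup G) : Set G) := (normal_subgroupOf_iff_le_normalizer hPK).1 hn
      have hd := Subgroup.card_dvd_of_le hle
      rw [hKc, hNP] at hd
      rcases hN24 with h2 | h4
      · -- the quotient has order 30
        have hq : Nat.card (G ⧸ N) = 30 := by
          have := Subgroup.card_eq_card_quotient_mul_card_subgroup N
          rw [hG, h2] at this; omega
        have h1 := five_sylow_one_of_card_thirty hq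
        haveI : Subsingleton (Sylow 5 (G ⧸ N)) := (Nat.card_eq_one_iff_unique.1 h1).1
        set P' := P.mapSurjective (QuotientGroup.mk'_surjective N) with hP'
        haveI : (P' : Subgroup (G ⧸ N)).Normal := Sylow.normal_of_subsingleton P'
        have hKn : K.Normal := by
          have : K = ((P' : Subgroup (G ⧸ N))).comap (QuotientGroup.mk' N) := by
            show K = ((P : Subgroup G).map (QuotientGroup.mk' N)).comap (QuotientGroup.mk' N)
            rw [comap_map_eq, QuotientGroup.ker_mk']
          rw [this]
          exact Normal.comap inferInstance _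
        have hKc' : Nat.card K = 10 := by rw [hKc, h2]
        have hKN : K = normalizer ((P : Subgroup G) : Set G) :=
          eq_of_le_of_card_ge hle (by rw [hNP, hKc'])
        have : normalizer (normalizer ((P : Subgroup G) : Set G) : Set G) = normalizer ((P : Subgroup G) : Set G) :=
          P.normalizer_normalizer
        rw [← hKN] at this
        rw [normalizer_eq_top] at this
        have := congrArg (fun H : Subgroup G => Nat.card H) this
        simp only [Subgroup.card_top] at this
        omega
      · rw [h4] at hd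
        have := Nat.le_of_dvd (by norm_num) hd
        omega

theorem five_mem_degreePrimes (h6 : Nat.card (Sylow 5 G) = 6) : 5 ∈ Cfsg.degreePrimes G := by
  haveI := Fact.mk (by norm_num : Nat.Prime 5)
  obtain ⟨c5, -⟩ := sylow5 hG
  have key : ∀ P R S : Sylow 5 G, R ≠ P → S ≠ P → ∃ x : G, x • P = P ∧ x • R = S := by
    intro P R S hR hS
    classical
    haveI := Fintype.ofFinite (Sylow 5 G)
    set O := MulAction.orbit (P : Subgroup G) R with hO
    have hcard : O.ncard ∣ 5 := by
      rw [hO, ← MulAction.index_stabilizer]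
      refine (Subgroup.index_dvd_card _).trans ?_
      rw [c5]
    have hne1 : O.ncard ≠ 1 := by
      intro h1
      obtain ⟨T, hT⟩ := Set.ncard_eq_one.1 h1
      apply hR
      have hle : (P : Subgroup G) ≤ normalizer ((R : Subgroup G) : Set G) := by
        intro x hx
        apply Sylow.smul_eq_iff_mem_normalizer.1
        have h1 : (⟨x, hx⟩ : (P : Subgroup G)) • R ∈ O := MulAction.mem_orbit _ _
        have h2 : R ∈ O := MulAction.mem_orbit_self R
        rw [hT, Set.mem_singleton_iff] at h1 h2
        exact h1.trans h2.symm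
      have := (inf_eq_left.2 hle).symm.trans (P.2.inf_normalizer_sylow R)
      have h2 : (P : Subgroup G) ≤ R := this.le.trans inf_le_right
      exact (Sylow.ext (eq_of_le_of_card_ge h2 (by rw [c5, c5]))).symm
    have h5 : O.ncard = 5 := ((Nat.dvd_prime (by norm_num)).1 hcard).resolve_left hne1
    have hOeq : O = {P}ᶜ := by
      refine Set.eq_of_subset_of_ncard_le ?_ ?_ (Set.toFinite _)
      · rintro T ⟨x, rfl⟩ hT
        rw [Set.mem_singleton_iff] at hT
        have hxP : (x : G) • P = P := Sylow.smul_eq_iff_mem_normalizer.2 (le_normalizer x.2)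
        exact hR (smul_left_cancel (x : G) (hT.trans hxP.symm))
      · have := Set.ncard_compl ({P} : Set (Sylow 5 G))
        rw [Set.ncard_singleton, h6] at this
        omega
    have : S ∈ O := hOeq ▸ hS
    obtain ⟨x, hx⟩ := this
    exact ⟨x, Sylow.smul_eq_iff_mem_normalizer.2 (le_normalizer x.2), hx⟩
  have h2t : MulAction.IsMultiplyPretransitive G (Sylow 5 G) 2 := by
    rw [MulAction.is_two_pretransitive_iff]
    intro a b c d hab hcd
    obtain ⟨g, hg⟩ := MulAction.exists_smul_eq G a c
    obtain ⟨x, hx1, hx2⟩ := key c (g • b) d (fun h => hab (smul_left_cancel g (hg.trans h.symm)))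
      hcd.symm
    exact ⟨x * g, by rw [mul_smul, hg, hx1], by rw [mul_smul, hx2]⟩
  have hirr := (Characters.Transitive.isIrrCharacter_iff (Sylow 5 G) (by omega)).2 h2t
  refine ⟨by norm_num, 5, ⟨⟨_, hirr⟩, ?_⟩, dvd_rfl⟩
  simp only [Cfsg.charDegree, Characters.Transitive.permChar, MulAction.fixedBy, one_smul]
  simp only [Set.setOf_true, Nat.card_univ, h6]
  norm_num

theorem six_of_five_mem (h : 5 ∈ Cfsg.degreePrimes G) : Nat.card (Sylow 5 G) = 6 := by
  haveI := Fact.mk (by norm_num : Nat.Prime 5)
  obtain ⟨c5, h16⟩ := sylow5 hG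
  refine h16.resolve_left fun h1 => ?_
  haveI : Subsingleton (Sylow 5 G) := (Nat.card_eq_one_iff_unique.1 h1).1
  obtain ⟨P⟩ := (inferInstance : Nonempty (Sylow 5 G))
  haveI : (P : Subgroup G).Normal := Sylow.normal_of_subsingleton P
  haveI := IsPGroup.isMulCommutative_of_card_eq_prime_sq (p := 5) (G := G)
  obtain ⟨-, d, ⟨χ, hχ⟩, hd⟩ := h
  haveI : IsCyclic ↥(P : Subgroup G) := isCyclic_of_prime_card (c5 P)
  obtain ⟨e, he, hedvd⟩ := Clifford.Ito.degree_dvd_index (P : Subgroup G) (fun a ha b hb => by
    letI := IsCyclic.commGroup (α := ↥(P : Subgroup G))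
    exact congrArg Subtype.val (mul_comm (⟨a, ha⟩ : (P : Subgroup G)) ⟨b, hb⟩)) χ
  have : d = e := by
    rw [← hχ]
    simp [Cfsg.charDegree, he]
  subst this
  have hi : (P : Subgroup G).index = 12 := by
    simpa using SmallGroups.Sylow.index_sylow_eq (p := 5) P (a := 1) (m := 12) (by rw [hG]; norm_num) (by norm_num)
  rw [hi] at hedvd
  have := hd.trans hedvd
  omega


end Sixty

/-- The character degree graph of a finite group has as vertices the primes dividing some irreducible complex character degree, two distinct primes being joined when their product divides some irreducible character degree; two groups have the same character degree graph when they have the same vertices and the same joined pairs. A finite group of order 60 with the same character degree graph as the alternating group A₅ (whose character degrees are 1, 3, 4, 5, so the graph has vertices 2, 3, 5 and no edges) is isomorphic to A₅. -/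
theorem result {G : Type*} [Group G] [Finite G] (hcard : Nat.card G = 60)
    (hΓ : Cfsg.degreePrimes G = Cfsg.degreePrimes (alternatingGroup (Fin 5)) ∧ Cfsg.degreeGraph G = Cfsg.degreeGraph (alternatingGroup (Fin 5))) : Nonempty (G ≃* alternatingGroup (Fin 5)) := by
  haveI : IsSimpleGroup (alternatingGroup (Fin 5)) := alternatingGroup.isSimpleGroup_five
  have hA : Nat.card (alternatingGroup (Fin 5)) = 60 := by
    rw [Nat.card_eq_fintype_card]
    have := two_mul_card_alternatingGroup (α := Fin 5)
    simp [Fintype.card_perm, Nat.factorial] at this ⊢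
    omega
  have hA6 : Nat.card (Sylow 5 (alternatingGroup (Fin 5))) = 6 := by
    haveI := Fact.mk (by norm_num : Nat.Prime 5)
    refine (sylow5 hA).2.resolve_left fun h1 => ?_
    haveI : Subsingleton (Sylow 5 (alternatingGroup (Fin 5))) := (Nat.card_eq_one_iff_unique.1 h1).1
    obtain ⟨P⟩ := (inferInstance : Nonempty (Sylow 5 (alternatingGroup (Fin 5))))
    have hc := (sylow5 hA).1 P
    rcases (Sylow.normal_of_subsingleton P).eq_bot_or_eq_top with h | h
    · rw [h, Subgroup.card_bot] at hc; omega
    · rw [h, Subgroup.card_top, hA] at hc; omega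
  have h5 : 5 ∈ Cfsg.degreePrimes G := hΓ.1 ▸ five_mem_degreePrimes hA hA6
  haveI := isSimple_of_six hcard (six_of_five_mem hcard h5)
  exact Cfsg.Agent.S0494.result hcard

end Cfsg.Agent.S3669
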