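import Cfsg.Statements.S3670
import Cfsg.Agent.Lib.U33.Chars
import Cfsg.Agent.Lib.Unitary.Transvection
import Cfsg.Agent.Lib.Clifford.Basic
import Cfsg.Agent.Lib.DegreeBounds.Basic

set_option autoImplicit false
open Cfsg

namespace Cfsg.Agent.S3670

open Cfsg.Agent.Lib

/-- the abelian normal part -/
abbrev A0 : Type := (ZMod 2 × ZMod 2 × ZMod 2) × (ZMod 3 × ZMod 3) × ZMod 2

/-- an automorphism of order 42 -/
def T : AddAut A0 :=
  { toFun := fun a => ((a.1.2.2, a.1.1 + a.1.2.2, a.1.2.1), (-a.2.1.1 - a.2.1.2, -a.2.1.2), a.2.2)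
    invFun := fun a => ((a.1.2.1 - a.1.1, a.1.2.2, a.1.1), (-a.2.1.1 + a.2.1.2, -a.2.1.2), a.2.2)
    left_inv := by decide +kernel
    right_inv := by decide +kernel
    map_add' := by decide +kernel }

/-- the exponent (mod 6) of the linear character -/
def phi (a : A0) : Nat := 3 * a.1.1.val + 2 * a.2.1.1.val

def iter : Nat → A0 → A0
  | 0, a => a
  | n + 1, a => T (iter n a)

theorem iter_42 : ∀ a : A0, iter 42 a = a := by decide +kernel

theorem iter_moves : ∀ j : Fin 42, j.val ≠ 0 → ∃ a : A0, phi (iter j.val a) % 6 ≠ phi a % 6 := by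
  decide +kernel

theorem phi_hom : ∀ a b : A0, phi (a + b) % 6 = (phi a + phi b) % 6 := by decide +kernel

/-- `T` as a multiplicative automorphism -/
def Tm : MulAut (Multiplicative A0) := AddEquiv.toMultiplicative T

theorem Tm_pow : ∀ (n : Nat) (a : Multiplicative A0),
    (Tm ^ n) a = Multiplicative.ofAdd (iter n (Multiplicative.toAdd a))
  | 0, a => by simp [iter]
  | n + 1, a => by
    rw [pow_succ', MulAut.mul_apply, Tm_pow n a]
    rfl

theorem order_T : orderOf Tm = 42 := by
  refine (orderOf_eq_iff (by norm_num)).2 ⟨?_, fun m hm hm0 h => ?_⟩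
  · refine MulEquiv.ext fun a => ?_
    rw [Tm_pow, iter_42]
    rfl
  · obtain ⟨a, ha⟩ := iter_moves ⟨m, hm⟩ (by simp; omega)
    have h2 := congrArg (fun f : MulAut (Multiplicative A0) => f (Multiplicative.ofAdd a)) h
    simp only [Tm_pow, MulAut.one_apply] at h2
    exact ha (by rw [show iter m a = a from Multiplicative.ofAdd.injective h2])

/-- the solvable group -/
abbrev H : Type := Multiplicative A0 ⋊[(Subgroup.zpowers Tm).subtype] ↥(Subgroup.zpowers Tm)

instance hFinite : Finite H := Finite.of_equiv _ SemidirectProduct.equivProd.symm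

noncomputable instance hFintype : Fintype H := Fintype.ofFinite H

theorem card_H : Nat.card H = 6048 := by
  rw [SemidirectProduct.card, Nat.card_zpowers, order_T, Nat.card_eq_fintype_card,
    show Fintype.card (Multiplicative A0) = 144 by simp [Fintype.card_prod, ZMod.card]]

theorem solvable_H : Group.IsSolvable H := by
  haveI := Fintype.ofFinite (Subgroup.zpowers Tm)
  exact solvable_of_ker_le_range (SemidirectProduct.inl : Multiplicative A0 →* H)
    (SemidirectProduct.rightHom : H →* Subgroup.zpowers Tm)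
    (by rw [SemidirectProduct.range_inl_eq_ker_rightHom])

theorem exists_deg_42 : ∃ χ : IrrCharacter H, 42 ∣ charDegree (χ : H → ℂ) := by
  set N : Subgroup H := (SemidirectProduct.inl : Multiplicative A0 →* H).range with hN
  haveI : N.Normal := by rw [hN, SemidirectProduct.range_inl_eq_ker_rightHom]; infer_instance
  letI := Fintype.ofFinite N
  let ω : ℂ := Complex.exp (2 * Real.pi * Complex.I / (6 : ℕ))
  have hω : IsPrimitiveRoot ω 6 := Complex.isPrimitiveRoot_exp 6 (by norm_num)
  have hmod : ∀ n : ℕ, ω ^ n = ω ^ (n % 6) := fun n => pow_eq_pow_mod _ hω.pow_eq_one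
  let l0 : Multiplicative A0 →* ℂˣ := MonoidHom.toHomUnits
    { toFun := fun a => ω ^ phi (Multiplicative.toAdd a)
      map_one' := by simp [phi]
      map_mul' := fun a b => by
        show ω ^ phi (Multiplicative.toAdd a + Multiplicative.toAdd b) = _
        rw [← pow_add, hmod, phi_hom, ← hmod] }
  let e : Multiplicative A0 ≃* N := MonoidHom.ofInjective SemidirectProduct.inl_injective
  let θ : IrrCharacter N := Characters.Linear.linChar (l0.comp e.symm.toMonoidHom)
  have hθ : ∀ a, (θ : N → ℂ) (e a) = ω ^ phi (Multiplicative.toAdd a) := fun a => by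
    show ((l0 (e.symm (e a)) : ℂˣ) : ℂ) = _
    rw [e.symm_apply_apply]
    rfl
  have hI : Clifford.Basic.inertia N (θ : N → ℂ) = N := by
    apply le_antisymm _ (Clifford.Basic.le_inertia N (Characters.Generalized.isClassFunction
      (Characters.Generalized.of_isCharacter (Characters.Basic.isCharacter_irr θ))))
    intro g hg
    rw [hN, SemidirectProduct.range_inl_eq_ker_rightHom]
    show g.right = 1
    obtain ⟨j, hj⟩ : ∃ j : ℕ, (g.right : MulAut (Multiplicative A0)) = Tm ^ j := by
      obtain ⟨j, hj⟩ := (isOfFinOrder_of_finite Tm).mem_powers_iff_mem_zpowers.2 g.right.2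
      exact ⟨j, hj.symm⟩
    rw [← pow_mod_orderOf, order_T] at hj
    by_contra hne
    have hj0 : j % 42 ≠ 0 := fun h0 => hne (Subtype.ext (by rw [hj, h0, pow_zero]; rfl))
    obtain ⟨a, ha⟩ := iter_moves ⟨j % 42, Nat.mod_lt _ (by norm_num)⟩ hj0
    apply ha
    have h := congrFun (Clifford.Basic.mem_inertia N |>.1 hg) (e (Multiplicative.ofAdd a))
    rw [Clifford.Basic.conjC_apply] at h
    have he : (⟨g * (e (Multiplicative.ofAdd a) : H) * g⁻¹, Subgroup.Normal.conj_mem inferInstance _
        (e (Multiplicative.ofAdd a)).2 g⟩ : N) = e ((Tm ^ (j % 42)) (Multiplicative.ofAdd a)) := by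
      apply Subtype.ext
      show g * SemidirectProduct.inl (Multiplicative.ofAdd a) * g⁻¹ = SemidirectProduct.inl _
      apply SemidirectProduct.ext
      · simp [hj, mul_comm]
      · simp
    rw [he, hθ, hθ, Tm_pow] at h
    rw [hmod, hmod (phi _)] at h
    exact hω.pow_inj (Nat.mod_lt _ (by norm_num)) (Nat.mod_lt _ (by norm_num)) h
  have hne : Cfsg.indFun N (θ : N → ℂ) ≠ 0 := by
    intro h0
    have := congrFun h0 1
    rw [Induced.Basic.indFun_one, Pi.zero_apply] at this
    rcases mul_eq_zero.1 this with h | h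
    · exact Nat.cast_ne_zero.2 N.index_ne_zero_of_finite h
    · exact Clifford.Basic.degree_pos θ.2 h
  obtain ⟨χ, hχ⟩ := Clifford.Basic.exists_constituent
    (Induced.Character.isCharacter_indFun N (Characters.Basic.isCharacter_irr θ)) hne
  rw [Induced.Basic.frobenius_reciprocity N _ (Characters.Generalized.isClassFunction
      (Characters.Generalized.of_isCharacter (Characters.Basic.isCharacter_irr χ)))] at hχ
  have hχ' := Clifford.Basic.classInner_ne_zero_symm hχ
  have hd := Clifford.Basic.clifford_degree N χ.2 θ hχ'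
  rw [hI, show (θ : N → ℂ) 1 = 1 from by
    show ((l0.comp e.symm.toMonoidHom) 1 : ℂˣ).val = 1
    rw [map_one]; rfl, mul_one] at hd
  have hidx : N.index = 42 := by
    have h := N.card_mul_index
    rw [← Nat.card_congr e.toEquiv, card_H, Nat.card_eq_fintype_card,
      show Fintype.card (Multiplicative A0) = 144 by simp [Fintype.card_prod, ZMod.card]] at h
    omega
  obtain ⟨z, hz⟩ := Characters.Generalized.exists_classInner_int
    (Characters.Generalized.of_isCharacter (Characters.Basic.isCharacter_comp N.subtype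
      (Characters.Basic.isCharacter_irr χ)))
    (Characters.Generalized.of_isCharacter (Characters.Basic.isCharacter_irr θ))
  rw [DegreeBounds.Basic.charDegree_irr, hidx, show Cfsg.classInner (fun n : N => (χ : H → ℂ) n) θ
    = (z : ℂ) from hz] at hd
  have hd' : (charDegree (χ : H → ℂ) : ℤ) = z * 42 := by exact_mod_cast hd
  exact ⟨χ, Int.natCast_dvd_natCast.1 ⟨z, by rw [hd']; push_cast; ring⟩⟩

theorem prime_dvd_6048 {p : ℕ} (hp : p.Prime) (h : p ∣ 6048) : p = 2 ∨ p = 3 ∨ p = 7 := by
  rw [show 6048 = 2 ^ 5 * 3 ^ 3 * 7 by norm_num] at h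
  rcases (Nat.Prime.dvd_mul hp).1 h with h | h
  · rcases (Nat.Prime.dvd_mul hp).1 h with h | h
    · exact Or.inl ((Nat.prime_dvd_prime_iff_eq hp (by norm_num)).1 (hp.dvd_of_dvd_pow h))
    · exact Or.inr (Or.inl ((Nat.prime_dvd_prime_iff_eq hp (by norm_num)).1 (hp.dvd_of_dvd_pow h)))
  · exact Or.inr (Or.inr ((Nat.prime_dvd_prime_iff_eq hp (by norm_num)).1 h))

theorem graph_complete {X : Type*} [Group X] [Finite X] (hX : Nat.card X = 6048)
    (h6 : ∃ d ∈ charDegrees X, 6 ∣ d) (h14 : ∃ d ∈ charDegrees X, 14 ∣ d)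
    (h21 : ∃ d ∈ charDegrees X, 21 ∣ d) :
    degreePrimes X = {2, 3, 7} ∧ ∀ p q : ℕ, (degreeGraph X).Adj p q ↔
      p ≠ q ∧ (p = 2 ∨ p = 3 ∨ p = 7) ∧ (q = 2 ∨ q = 3 ∨ q = 7) := by
  have hsub : ∀ d ∈ charDegrees X, d ∣ 6048 := by
    rintro d ⟨χ, rfl⟩
    rw [← hX]
    exact DegreeBounds.Basic.charDegree_dvd χ
  constructor
  · ext p
    simp only [Set.mem_insert_iff, Set.mem_singleton_iff]
    constructor
    · rintro ⟨hp, d, hd, hpd⟩
      exact prime_dvd_6048 hp (hpd.trans (hsub d hd))
    · intro hp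
      obtain ⟨d, hd, h⟩ := h6
      obtain ⟨d', hd', h'⟩ := h14
      rcases hp with rfl | rfl | rfl
      · exact ⟨by norm_num, d, hd, (dvd_trans (by norm_num) h)⟩
      · exact ⟨by norm_num, d, hd, (dvd_trans (by norm_num) h)⟩
      · exact ⟨by norm_num, d', hd', (dvd_trans (by norm_num) h')⟩
  · intro p q
    constructor
    · rintro ⟨hpq, hp, hq, d, hd, h⟩
      exact ⟨hpq, prime_dvd_6048 hp (((dvd_mul_right p q).trans h).trans (hsub d hd)),
        prime_dvd_6048 hq (((dvd_mul_left q p).trans h).trans (hsub d hd))⟩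
    · rintro ⟨hpq, hp, hq⟩
      have A : ∀ k, k ∣ 6 ∨ k ∣ 14 ∨ k ∣ 21 → ∃ d ∈ charDegrees X, k ∣ d := by
        rintro k (h | h | h)
        exacts [h6.imp fun d hd => ⟨hd.1, h.trans hd.2⟩, h14.imp fun d hd => ⟨hd.1, h.trans hd.2⟩,
          h21.imp fun d hd => ⟨hd.1, h.trans hd.2⟩]
      rcases hp with rfl | rfl | rfl <;> rcases hq with rfl | rfl | rfl <;>
        first
        | exact absurd rfl hpq
        | exact ⟨hpq, by norm_num, by norm_num, A _ (by norm_num)⟩

theorem exists_equiv (F : Type*) [Field F] [Fintype F] (hF : Fintype.card F = 9) :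
    Nonempty (U33.G ≃* SU 3 F 3) := by
  let φ : U33.K9 ≃+* F := FiniteField.ringEquivOfCardEq (K := U33.K9) (K' := F)
    (by rw [U33.card_k9, hF]; norm_num)
  let Φ : Matrix.SpecialLinearGroup (Fin 3) U33.K9 ≃* Matrix.SpecialLinearGroup (Fin 3) F :=
    MulEquiv.ofBijective (Matrix.SpecialLinearGroup.map (φ : U33.K9 →+* F)) ⟨fun a b h => by
      ext i j
      exact φ.injective (congrArg (fun m : Matrix.SpecialLinearGroup (Fin 3) F => (m : Matrix _ _ F) i j) h),
     fun m => ⟨Matrix.SpecialLinearGroup.map (φ.symm : F →+* U33.K9) m, by ext i j; simp⟩⟩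
  have key : ∀ g, Φ g ∈ SU 3 F 3 ↔ g ∈ SU 3 U33.K9 3 := by
    intro g
    have hmul : ∀ u, (slToMat 3 F (Φ g)).mulVec (fun i => φ (u i)) =
        fun i => φ ((slToMat 3 U33.K9 g).mulVec u i) := by
      intro u; funext i
      simp [Φ, Matrix.mulVec, dotProduct, map_sum]
      rfl
    have hf : ∀ u v : Fin 3 → U33.K9,
        hermForm 3 F 3 (fun i => φ (u i)) (fun i => φ (v i)) = φ (hermForm 3 U33.K9 3 u v) := by
      intro u v; simp [hermForm, map_sum]
    constructor
    · intro h u v
      apply φ.injective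
      rw [← hf, ← hf, ← hmul, ← hmul]
      exact h _ _
    · intro h u v
      have hu : u = fun i => φ (φ.symm (u i)) := by simp
      have hv : v = fun i => φ (φ.symm (v i)) := by simp
      rw [hu, hv, hmul, hmul, hf, hf, h]
  exact ⟨(Φ.subgroupMap (SU 3 U33.K9 3)).trans (MulEquiv.subgroupCongr (by
    ext x
    constructor
    · rintro ⟨g, hg, rfl⟩; exact (key g).2 hg
    · intro hx; exact ⟨Φ.symm x, (key _).1 (by simpa using hx), by simp⟩))⟩


/-- The character degree graph of a finite group has as vertices the primes dividing some irreducible complex character degree, two distinct primes being joined when their product divides some irreducible character degree; two groups have the same character degree graph when they have the same vertices and the same joined pairs. Let F be the field with 9 elements and L = PSU(3,3) realised over F (order 6048). There is a finite solvable group of order 6048 with the same character degree graph as L; so L is not determined by its order together with its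 character degree graph. -/
theorem result {F : Type*} [Field F] [Fintype F] (hF : Fintype.card F = 9) :
    ∃ (H : Type) (_ : Group H) (_ : Fintype H), Group.IsSolvable H ∧ Nat.card H = 6048 ∧ Cfsg.degreePrimes H = Cfsg.degreePrimes (Cfsg.PSU 3 F 3) ∧ Cfsg.degreeGraph H = Cfsg.degreeGraph (Cfsg.PSU 3 F 3) := by
  have hF' : Fintype.card F = 3 ^ 2 := by rw [hF]; norm_num
  obtain ⟨e⟩ := exists_equiv F hF
  have hbot : Subgroup.center (SU 3 F 3) = ⊥ := by
    apply Subgroup.eq_bot_of_card_eq
    rw [Unitary.card_center_SU hF' (by norm_num)]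
    norm_num
  let E2 : U33.G ≃* PSU 3 F 3 :=
    e.trans ((QuotientGroup.quotientMulEquivOfEq hbot).trans QuotientGroup.quotientBot).symm
  haveI : Finite (PSU 3 F 3) := Finite.of_equiv _ E2.toEquiv
  have hcard : Nat.card (PSU 3 F 3) = 6048 := by rw [← Nat.card_congr E2.toEquiv, U33.card_G]
  have tr : ∀ d : ℕ, (∃ χ : IrrCharacter U33.G, (χ : U33.G → ℂ) 1 = (d : ℂ)) →
      ∃ d' ∈ charDegrees (PSU 3 F 3), d ∣ d' := by
    rintro d ⟨χ, h⟩
    refine ⟨d, ⟨⟨_, Characters.Basic.isIrrCharacter_comp E2.symm.toMonoidHom E2.symm.surjective χ.2⟩, ?_⟩, dvd_rfl⟩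
    simp [charDegree, h]
  obtain ⟨hP1, hP2⟩ := graph_complete hcard (tr 6 U33.exists_deg_six) (tr 14 U33.exists_deg_fourteen)
    (tr 21 U33.exists_deg_twentyone)
  obtain ⟨χ, hχ⟩ := exists_deg_42
  have tH : ∀ d : ℕ, d ∣ 42 → ∃ d' ∈ charDegrees H, d ∣ d' := fun d hd => ⟨_, ⟨χ, rfl⟩, hd.trans hχ⟩
  obtain ⟨hH1, hH2⟩ := graph_complete card_H (tH 6 (by norm_num)) (tH 14 (by norm_num))
    (tH 21 (by norm_num))
  refine ⟨H, inferInstance, inferInstance, solvable_H, card_H, by rw [hP1, hH1], ?_⟩
  ext p q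
  rw [hP2, hH2]

end Cfsg.Agent.S3670
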