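import Cfsg.Statements.S3678
import Cfsg.Agent.Lib.PrimeGraph.SL2

set_option autoImplicit false
open Cfsg

namespace Cfsg.Agent.S3678

open Cfsg.Agent.Lib.PrimeGraph.SL2 Matrix

theorem zmod7_pw : ∀ t : ZMod 7, ∃ n ∈ [2, 3, 4, 7], (pw t n).1 = 0 := by decide

theorem psl7_pow {F : Type*} [Field F] [Fintype F] (hF : Fintype.card F = 7)
    (x : Matrix.ProjectiveSpecialLinearGroup (Fin 2) F) : ∃ n ∈ [2, 3, 4, 7], x ^ n = 1 := by
  haveI := Fact.mk (by norm_num : Nat.Prime 7)
  let e : ZMod 7 ≃+* F := ZMod.ringEquivOfPrime F (by norm_num) hF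
  obtain ⟨g, rfl⟩ := QuotientGroup.mk'_surjective _ x
  obtain ⟨n, hn, hpw⟩ := zmod7_pw (e.symm g.1.trace)
  refine ⟨n, hn, ?_⟩
  have h : (pw g.1.trace n).1 = 0 := by
    have := map_pw e.toRingHom (e.symm g.1.trace) n
    simp only [RingEquiv.toRingHom_eq_coe, RingEquiv.coe_toRingHom, RingEquiv.apply_symm_apply] at this
    rw [this, hpw, map_zero]
  rw [← map_pow, QuotientGroup.mk'_apply, QuotientGroup.eq_one_iff]
  exact pow_mem_center_of_pw g h

theorem sl8_pow {F : Type*} [Field F] [Fintype F] [CharP F 2] (hF : Fintype.card F = 8)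
    (g : Matrix.SpecialLinearGroup (Fin 2) F) : ∃ n ∈ [2, 3, 7, 9], g ^ n = 1 := by
  have h2 : (2 : F) = 0 := CharTwo.two_eq_zero
  set t := g.1.trace with ht
  have h8 : t ^ 8 = t := hF ▸ FiniteField.pow_card t
  have hp : ∀ n, pw t n = (0, 1) → g ^ n = 1 := fun n h => pow_eq_one_of_pw g h
  by_cases ht0 : t = 0
  · exact ⟨2, by simp, hp 2 (by simp [pw, ht0, CharTwo.neg_eq])⟩
  by_cases ht1 : t = 1
  · exact ⟨3, by simp, hp 3 (by simp [pw, ht1, CharTwo.neg_eq, CharTwo.add_self_eq_zero])⟩
  have hprod : (t * (t - 1)) * ((t ^ 3 + t + 1) * (t ^ 3 + t ^ 2 + 1)) = 0 := by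
    grobner
  rcases mul_eq_zero.1 hprod with h | h
  · rcases mul_eq_zero.1 h with h | h
    · exact absurd h ht0
    · exact absurd (sub_eq_zero.1 h) ht1
  rcases mul_eq_zero.1 h with h | h
  · refine ⟨9, by simp, hp 9 ?_⟩
    simp only [pw, Prod.mk.injEq, CharTwo.neg_eq]
    constructor <;> grobner
  · refine ⟨7, by simp, hp 7 ?_⟩
    simp only [pw, Prod.mk.injEq, CharTwo.neg_eq]
    constructor <;> grobner


/-- The prime graph of a finite group has the prime divisors of its order as vertices, two distinct primes p, q being joined when the group has an element of order pq; two groups have the same prime graph when they have the same prime divisors and the same joined pairs. Let F be the field with 7 elements. There are finite groups of arbitrarily large order with the same prime graph as PSL(2,F) (the graph on {2, 3, 7} with no edges, which is also the prime graph of PSL(2,8)). -/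
theorem result {F : Type*} [Field F] [Fintype F] (hF : Fintype.card F = 7) (N : ℕ) :
    ∃ (H : Type) (_ : Group H) (_ : Finite H), N < Nat.card H ∧
      ((∀ p : ℕ, p.Prime → (p ∣ Nat.card (Matrix.ProjectiveSpecialLinearGroup (Fin 2) F) ↔ p ∣ Nat.card H)) ∧
      (∀ p q : ℕ, p.Prime → q.Prime → p ≠ q → ((∃ g : (Matrix.ProjectiveSpecialLinearGroup (Fin 2) F), orderOf g = p * q) ↔ (∃ g : H, orderOf g = p * q)))) := by
  haveI := Fact.mk Nat.prime_two
  let K := GaloisField 2 3
  letI : Fintype K := Fintype.ofFinite K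
  have hK : Fintype.card K = 8 := by
    rw [← Nat.card_eq_fintype_card]; exact (GaloisField.card 2 3 (by norm_num)).trans (by norm_num)
  obtain ⟨H, i1, i2, h1, h2, h3⟩ := large_same_graph (F := K) N
  refine ⟨H, i1, inferInstance, h1, fun p hp => ?_, fun p q hp hq hpq => ?_⟩
  · rw [← h2 p hp]
    have c7 : Nat.card (Matrix.ProjectiveSpecialLinearGroup (Fin 2) F) = 168 := by
      have a := Lib.Linear.card_SL_eq_gcd_mul_card_PSL (F := F) (ι := Fin 2)
      have b := Lib.Linear.sub_one_mul_card_SL (F := F) 2 (by norm_num)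
      rw [Nat.card_eq_fintype_card (α := F), hF, Fintype.card_fin] at a
      rw [hF, a, Fin.prod_univ_two] at b
      norm_num at b
      omega
    have c8 : Nat.card (Matrix.SpecialLinearGroup (Fin 2) K) = 504 := by
      have b := Lib.Linear.sub_one_mul_card_SL (F := K) 2 (by norm_num)
      rw [hK, Fin.prod_univ_two] at b
      norm_num at b
      omega
    rw [c7, c8]
    constructor <;> intro h
    · exact h.trans (by norm_num : 168 ∣ 504)
    · rcases (Nat.Prime.dvd_mul hp).1 (show p ∣ 168 * 3 by norm_num; exact h) with h | h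
      · exact h
      · exact h.trans (by norm_num)
  · rw [← h3 p q hp hq hpq]
    exact iff_of_false (no_orderOf _ (psl7_pow hF) (by simp; decide +kernel) hp hq hpq)
      (no_orderOf _ (sl8_pow hK) (by simp; decide +kernel) hp hq hpq)

end Cfsg.Agent.S3678
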