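import Cfsg.Statements.S3680
import Cfsg.Agent.Lib.Perm.Basic
import Cfsg.Agent.Lib.CharSimple
import Cfsg.Agent.Lib.Cores.MinNormal

set_option autoImplicit false
open Cfsg

namespace Cfsg.Agent.S3680

open MulAction Cfsg.Agent.Lib

/-- minimal normal -/
def IsMinN {G : Type*} [Group G] (V : Subgroup G) : Prop :=
  V.Normal ∧ V ≠ ⊥ ∧ ∀ M : Subgroup G, M.Normal → M ≤ V → M = ⊥ ∨ M = V

theorem power_of_minimal {G : Type*} [Group G] [Finite G] {V : Subgroup G} (hV : IsMinN V) :
    ∃ (T : Type) (_ : Group T) (m : ℕ), 1 ≤ m ∧ IsSimpleGroup T ∧ Nonempty (V ≃* (Fin m → T)) := by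
  haveI := hV.1
  haveI : Nontrivial V := (Subgroup.nontrivial_iff_ne_bot V).2 hV.2.1
  obtain ⟨S, n, _, hSs, hn, ⟨e⟩⟩ := CharSimple.exists_mulEquiv_pi_of_charSimple V fun H hH => by
    haveI : (H.map V.subtype).Normal := inferInstance
    rcases hV.2.2 (H.map V.subtype) inferInstance (Subgroup.map_subtype_le H) with h | h
    · exact Or.inl ((Subgroup.map_eq_bot_iff_of_injective _ V.subtype_injective).1 h)
    · exact Or.inr (Subgroup.map_injective V.subtype_injective (h.trans (by
        rw [← MonoidHom.range_eq_map, Subgroup.range_subtype])))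
  haveI : Small.{0} S := Countable.toSmall S
  refine ⟨Shrink.{0} S, inferInstance, n, hn, ?_, ⟨e.trans ⟨?_, ?_⟩⟩⟩
  · haveI : Nontrivial (Shrink.{0} S) := (equivShrink S).symm.nontrivial
    exact IsSimpleGroup.isSimpleGroup_of_surjective (Shrink.mulEquiv.symm : S ≃* Shrink.{0} S).toMonoidHom
      (Shrink.mulEquiv.symm : S ≃* Shrink.{0} S).surjective
  · exact Equiv.arrowCongr (Equiv.refl _) (equivShrink S)
  · intro x y; funext i; exact (Shrink.mulEquiv.symm : S ≃* Shrink.{0} S).map_mul _ _


/-- The socle of a finite primitive permutation group. Let a finite group G act faithfully and primitively on a set Ω, and let N be the subgroup generated by the minimal normal subgroups of G. Then either N is an elementary abelian p-group for some prime p and acts regularly on Ω (transitively with trivial point stabilizers), or N is isomorphic to a direct product of m ≥ 1 copies of a non-abelian simple group. -/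
theorem result {G Ω : Type*} [Group G] [Finite G] [MulAction G Ω] [FaithfulSMul G Ω] [Finite Ω]
    (hprim : MulAction.IsPreprimitive G Ω) (N : Subgroup G)
    (hN : N = sSup {V : Subgroup G | V.Normal ∧ V ≠ ⊥ ∧ ∀ M : Subgroup G, M.Normal → M ≤ V → M = ⊥ ∨ M = V}) :
    (∃ p : ℕ, p.Prime ∧ IsMulCommutative N ∧ (∀ x : N, x ^ p = 1) ∧
      MulAction.IsPretransitive N Ω ∧ ∀ ω : Ω, MulAction.stabilizer N ω = ⊥) ∨
    (∃ (T : Type) (_ : Group T) (m : ℕ), 1 ≤ m ∧ IsSimpleGroup T ∧ ¬ IsMulCommutative T ∧ Nonempty (N ≃* (Fin m → T))) := by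
  haveI := hprim
  rcases subsingleton_or_nontrivial G with hG | hG
  · left
    refine ⟨2, Nat.prime_two, ⟨⟨fun a b => Subsingleton.elim _ _⟩⟩, fun x => Subsingleton.elim _ _,
      ⟨fun a b => ?_⟩, fun ω => Subsingleton.elim _ _⟩
    obtain ⟨g, hg⟩ := exists_smul_eq G a b
    exact ⟨1, by rw [one_smul, ← hg, Subsingleton.elim g 1, one_smul]⟩
  obtain ⟨V, hVn, hV1, hVmin⟩ := Cores.MinNormal.exists_minimal (G := G)
  have hVm : IsMinN V := ⟨hVn, hV1, hVmin⟩
  haveI := hVn
  haveI := Perm.Basic.isPretransitive_of_normal_ne_bot (α := Ω) V hV1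
  haveI : Nonempty Ω := by
    by_contra h
    rw [not_nonempty_iff] at h
    exact not_subsingleton G ⟨fun a b => eq_of_smul_eq_smul fun x : Ω => h.elim x⟩
  let a : Ω := Classical.arbitrary Ω
  set C := Subgroup.centralizer (V : Set G) with hC
  haveI hCn : C.Normal := Subgroup.normal_centralizer
  have hother : ∀ W, IsMinN W → W ≠ V → W ≤ C := by
    intro W hW hne
    haveI := hW.1
    have hinf : W ⊓ V = ⊥ := by
      rcases hW.2.2 (W ⊓ V) inferInstance inf_le_left with h | h
      · exact h
      · exfalso
        rcases hVmin W hW.1 (inf_eq_left.1 h) with h' | h'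
        exacts [hW.2.1 h', hne h']
    intro w hw
    rw [hC, Subgroup.mem_centralizer_iff]
    intro v hv
    exact (Subgroup.commute_of_normal_of_disjoint W V hW.1 hVn (disjoint_iff.2 hinf) w v hw hv).symm.eq
  have hreg : ∀ T : Subgroup G, T ≤ C → ∀ x : Ω, stabilizer T x = ⊥ := fun T hT x =>
    Perm.Basic.stabilizer_eq_bot_of_le_centralizer V hT x
  by_cases hab : IsMulCommutative V
  · left
    obtain ⟨p, hp, hexp⟩ := Cores.MinNormal.exists_prime_pow_eq_one hV1 hVmin
    have hVC : V ≤ C := Subgroup.le_centralizer_iff_isMulCommutative.2 hab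
    have hCV : C = V := by
      haveI := Perm.Basic.isPretransitive_of_le (α := Ω) hVC
      refine (Subgroup.eq_of_le_of_card_ge hVC ?_).symm
      rw [Perm.Basic.card_eq_of_regular a (hreg C le_rfl a),
        Perm.Basic.card_eq_of_regular a (hreg V hVC a)]
    have hNV : N = V := by
      rw [hN]
      refine le_antisymm (sSup_le fun W hW => ?_) (le_sSup hVm)
      by_cases hne : W = V
      · exact hne.le
      · exact hCV ▸ hother W hW hne
    subst hNV
    exact ⟨p, hp, hab, fun x => Subtype.ext (hexp x x.2), inferInstance, hreg N hVC⟩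
  · right
    obtain ⟨T, iT, m, hm, hTs, ⟨e⟩⟩ := power_of_minimal hVm
    have hTna : ¬ IsMulCommutative T := fun h => hab ⟨⟨fun x y => e.injective (by
      rw [map_mul, map_mul]; funext i; exact h.is_comm.comm _ _)⟩⟩
    have hCV : C ⊓ V = ⊥ := by
      rcases hVmin (C ⊓ V) inferInstance inf_le_right with h | h
      · exact h
      · exact absurd (Subgroup.le_centralizer_iff_isMulCommutative.1 (h.symm.le.trans inf_le_left)) hab
    by_cases hC1 : C = ⊥
    · refine ⟨T, iT, m, hm, hTs, hTna, ⟨(MulEquiv.subgroupCongr ?_).trans e⟩⟩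
      rw [hN]
      refine le_antisymm (sSup_le fun W hW => ?_) (le_sSup hVm)
      by_cases hne : W = V
      · exact hne.le
      · exact absurd (le_bot_iff.1 (hC1 ▸ hother W hW hne)) hW.2.1
    · haveI := Perm.Basic.isPretransitive_of_normal_ne_bot (α := Ω) C hC1
      have hCreg := hreg C le_rfl a
      have hcomm : ∀ c ∈ C, ∀ v ∈ V, c * v = v * c := fun c hc v hv =>
        (Subgroup.mem_centralizer_iff.1 hc v hv).symm
      have hVreg := (Perm.Basic.regular_of_commuting_transitive C V hcomm a).2
      have hCm : IsMinN C := ⟨hCn, hC1, fun M hM hMC => by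
        by_cases hM1 : M = ⊥
        · exact Or.inl hM1
        · haveI := hM
          haveI := Perm.Basic.isPretransitive_of_normal_ne_bot (α := Ω) M hM1
          refine Or.inr (Subgroup.eq_of_le_of_card_ge hMC ?_)
          rw [Perm.Basic.card_eq_of_regular a hCreg,
            Perm.Basic.card_eq_of_regular a (hreg M hMC a)]⟩
      have hNVC : N = V ⊔ C := by
        rw [hN]
        refine le_antisymm (sSup_le fun W hW => ?_) (sup_le (le_sSup hVm) (le_sSup hCm))
        by_cases hne : W = V
        · exact hne ▸ le_sup_left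
        · exact (hother W hW hne).trans le_sup_right
      let eC := Perm.Basic.regularEquiv a hCreg
      let φ : V → C := fun v => eC.symm ((v : G)⁻¹ • a)
      have hφ : ∀ v : V, (φ v : G) • a = (v : G)⁻¹ • a := fun v =>
        (Perm.Basic.regularEquiv_apply a hCreg (φ v)).symm.trans (eC.apply_symm_apply _)
      have hmul : ∀ v w, φ (v * w) = φ v * φ w := fun v w => eC.injective <| by
        show (φ (v * w) : G) • a = ((φ v : G) * (φ w : G)) • a
        rw [hφ, mul_smul, hφ w, smul_smul, hcomm _ (φ v).2 _ (inv_mem w.2), mul_smul, hφ v,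
          smul_smul, Subgroup.coe_mul, mul_inv_rev]
      have hbij : Function.Bijective φ := by
        refine (eC.symm.bijective.comp ⟨fun v w h => ?_, fun x => ?_⟩)
        · have := (Perm.Basic.smul_bijective_of_regular a hVreg).1
            (a₁ := v⁻¹) (a₂ := w⁻¹) h
          exact inv_injective this
        · obtain ⟨v, hv⟩ := exists_smul_eq V a x
          refine ⟨v⁻¹, ?_⟩
          show ((v⁻¹ : V) : G)⁻¹ • a = x
          rw [InvMemClass.coe_inv, inv_inv]; exact hv
      let eVC : V ≃* C := { Equiv.ofBijective φ hbij with map_mul' := hmul }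
      have hcm : ∀ (v : V) (c : C), Commute (V.subtype v) (C.subtype c) := fun v c => (hcomm c c.2 v v.2).symm
      let f := V.subtype.noncommCoprod C.subtype hcm
      have hf : Function.Injective f := (MonoidHom.noncommCoprod_injective _ _ _).2
        ⟨Subtype.val_injective, Subtype.val_injective, by
          simpa using disjoint_iff.2 ((inf_comm V C).trans hCV)⟩
      have hfr : f.range = N := by
        show (V.subtype.noncommCoprod C.subtype hcm).range = N
        rw [MonoidHom.noncommCoprod_range, Subgroup.range_subtype, Subgroup.range_subtype, hNVC]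
      let e2 : (Fin m → T) × (Fin m → T) ≃* (Fin (m + m) → T) :=
        { toFun := fun x i => Sum.elim x.1 x.2 (finSumFinEquiv.symm i)
          invFun := fun x => (fun j => x (finSumFinEquiv (Sum.inl j)), fun j => x (finSumFinEquiv (Sum.inr j)))
          left_inv := fun x => by
            apply Prod.ext <;> funext j <;> simp only [Equiv.symm_apply_apply, Sum.elim_inl, Sum.elim_inr]
          right_inv := fun x => by
            funext i
            obtain ⟨j, rfl⟩ := finSumFinEquiv.surjective i
            cases j <;> simp only [Equiv.symm_apply_apply, Sum.elim_inl, Sum.elim_inr]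
          map_mul' := fun x y => by
            funext i
            show Sum.elim (x * y).1 (x * y).2 (finSumFinEquiv.symm i) =
              Sum.elim x.1 x.2 (finSumFinEquiv.symm i) * Sum.elim y.1 y.2 (finSumFinEquiv.symm i)
            rcases finSumFinEquiv.symm i with j | j <;> rfl }
      exact ⟨T, iT, m + m, by omega, hTs, hTna, ⟨((MonoidHom.ofInjective hf).trans
        (MulEquiv.subgroupCongr hfr)).symm.trans ((e.prodCongr (eVC.symm.trans e)).trans e2)⟩⟩

end Cfsg.Agent.S3680
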