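import Cfsg.Statements.S3683
import Cfsg.Agent.Lib.Perm.Basic

set_option autoImplicit false
open Cfsg

namespace Cfsg.Agent.S3683

open MulAction

theorem stab_eq_bot {G Ω : Type*} [Group G] [Finite G] [MulAction G Ω] [FaithfulSMul G Ω]
    (hprim : IsPreprimitive G Ω) (a b : Ω) (hab : a ≠ b) (hfix : ∀ g : G, g • a = a → g • b = b) :
    stabilizer G a = ⊥ := by
  haveI := hprim
  haveI : Nontrivial Ω := ⟨⟨a, b, hab⟩⟩
  obtain ⟨g, hg⟩ := exists_smul_eq G a b
  have hle : stabilizer G a ≤ stabilizer G b := fun h hh => hfix h hh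
  have heq : stabilizer G a = stabilizer G b := by
    refine Subgroup.eq_of_le_of_card_ge hle (le_of_eq ?_)
    exact Nat.card_congr (stabilizerEquivStabilizer hg.symm).symm.toEquiv
  have hgn : g ∈ Subgroup.normalizer (stabilizer G a : Set G) := by
    rw [Subgroup.mem_normalizer_iff]
    intro h
    show h ∈ stabilizer G a ↔ g * h * g⁻¹ ∈ stabilizer G a
    conv_rhs => rw [heq, ← hg, Cfsg.Agent.Lib.Perm.Basic.mem_stabilizer_smul_iff]
    simp [mul_assoc]
  have hco := IsPreprimitive.isCoatom_stabilizer_of_isPreprimitive G a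
  have hlt : stabilizer G a < Subgroup.normalizer (stabilizer G a : Set G) := by
    refine lt_of_le_of_ne Subgroup.le_normalizer fun h => hab ?_
    rw [← h] at hgn
    exact (mem_stabilizer_iff.1 hgn).symm.trans hg
  haveI hn : (stabilizer G a).Normal := Subgroup.normalizer_eq_top_iff.1 (hco.2 _ hlt)
  rw [Subgroup.eq_bot_iff_forall]
  intro h hh
  refine eq_of_smul_eq_smul fun x : Ω => ?_
  obtain ⟨k, rfl⟩ := exists_smul_eq G a x
  rw [one_smul]
  exact Cfsg.Agent.Lib.Perm.Basic.mem_stabilizer_smul_iff.2 (by simpa using hn.conj_mem h hh k⁻¹)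


/-- Let a finite group G act faithfully and primitively on a set Ω, and suppose the stabilizer of a point a fixes a second point b ≠ a (a suborbit of length 1 other than {a}). Then the stabilizer of a is trivial and G is cyclic of prime order. -/
theorem result {G Ω : Type*} [Group G] [Finite G] [MulAction G Ω] [FaithfulSMul G Ω] [Finite Ω]
    (hprim : MulAction.IsPreprimitive G Ω) (a b : Ω) (hab : a ≠ b) (hfix : ∀ g : G, g • a = a → g • b = b) :
    MulAction.stabilizer G a = ⊥ ∧ IsCyclic G ∧ (Nat.card G).Prime := by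
  have hbot := stab_eq_bot hprim a b hab hfix
  haveI := hprim
  haveI : Nontrivial Ω := ⟨⟨a, b, hab⟩⟩
  have hco := IsPreprimitive.isCoatom_stabilizer_of_isPreprimitive G a
  rw [hbot] at hco
  have hcard : Nat.card G ≠ 1 := fun h => by
    haveI := (Nat.card_eq_one_iff_unique.1 h).1
    obtain ⟨g, hg⟩ := exists_smul_eq G a b
    rw [Subsingleton.elim g 1, one_smul] at hg
    exact hab hg
  obtain ⟨p, hp, hpd⟩ := Nat.exists_prime_and_dvd hcard
  haveI := Fact.mk hp
  obtain ⟨x, hx⟩ := exists_prime_orderOf_dvd_card' p hpd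
  have hx1 : x ≠ 1 := fun h => hp.ne_one (by rw [← hx, h, orderOf_one])
  have htop : Subgroup.zpowers x = ⊤ := hco.2 _ (bot_lt_iff_ne_bot.2 (by simp [hx1]))
  have hGp : Nat.card G = p := by rw [← Subgroup.card_top (G := G), ← htop, Nat.card_zpowers, hx]
  exact ⟨hbot, isCyclic_of_prime_card hGp, hGp ▸ hp⟩

end Cfsg.Agent.S3683
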