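import Cfsg.Statements.S3684
import Cfsg.Agent.Lib.Perm.Basic
import Cfsg.Agent.Lib.Involutions.Basic

set_option autoImplicit false
open Cfsg

namespace Cfsg.Agent.S3684

open MulAction


/-- Let a finite group G act faithfully and primitively on a set Ω, and suppose the stabilizer of a point a has an orbit of length 2. Then the stabilizer of a has order 2 and G is isomorphic to the dihedral group of order 2p for some prime p. -/
theorem result {G Ω : Type*} [Group G] [Finite G] [MulAction G Ω] [FaithfulSMul G Ω] [Finite Ω]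
    (hprim : MulAction.IsPreprimitive G Ω) (a b : Ω) (h2 : Nat.card (MulAction.orbit (MulAction.stabilizer G a) b) = 2) :
    Nat.card (MulAction.stabilizer G a) = 2 ∧ ∃ p : ℕ, p.Prime ∧ Nonempty (G ≃* DihedralGroup p) := by
  haveI := hprim
  haveI := Fact.mk Nat.prime_two
  set A := stabilizer G a with hA
  set B := stabilizer G b with hB
  have hab : a ≠ b := by
    intro h
    subst h
    have : orbit A a = {a} := by
      ext x
      simp only [Set.mem_singleton_iff, mem_orbit_iff]
      exact ⟨fun ⟨g, hg⟩ => hg ▸ g.2, fun h => ⟨1, by rw [one_smul, h]⟩⟩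
    rw [this, Nat.card_coe_set_eq, Set.ncard_singleton] at h2
    omega
  haveI : Nontrivial Ω := ⟨⟨a, b, hab⟩⟩
  obtain ⟨g₀, hg₀⟩ := exists_smul_eq G a b
  have hcAB : Nat.card A = Nat.card B := Nat.card_congr (stabilizerEquivStabilizer hg₀.symm).toEquiv
  set D := A ⊓ B with hD
  have hiA : (stabilizer A b).index = 2 := by
    rw [index_stabilizer, ← Nat.card_coe_set_eq]; exact h2
  have hDA : D.relIndex A = 2 := by
    rw [← hiA, Subgroup.relIndex]
    congr 1
    ext x
    simp only [Subgroup.mem_subgroupOf, hD, Subgroup.mem_inf, mem_stabilizer_iff, hB]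
    exact ⟨fun h => h.2, fun h => ⟨x.2, h⟩⟩
  have hcA : Nat.card D * 2 = Nat.card A := by
    rw [← hDA, ← Subgroup.relIndex_bot_left, ← Subgroup.relIndex_bot_left,
      Subgroup.relIndex_mul_relIndex _ _ _ bot_le inf_le_left]
  have hDB : D.relIndex B = 2 := by
    have h : Nat.card D * D.relIndex B = Nat.card D * 2 := by
      rw [hcA, hcAB, ← Subgroup.relIndex_bot_left, ← Subgroup.relIndex_bot_left,
        Subgroup.relIndex_mul_relIndex _ _ _ bot_le inf_le_right]
    exact Nat.eq_of_mul_eq_mul_left Nat.card_pos h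
  have hnA : A ≤ Subgroup.normalizer (D : Set G) :=
    (Subgroup.normal_subgroupOf_iff_le_normalizer inf_le_left).1 (Subgroup.normal_of_index_eq_two hDA)
  have hnB : B ≤ Subgroup.normalizer (D : Set G) :=
    (Subgroup.normal_subgroupOf_iff_le_normalizer inf_le_right).1 (Subgroup.normal_of_index_eq_two hDB)
  have hco := IsPreprimitive.isCoatom_stabilizer_of_isPreprimitive G a
  have hsup : A ⊔ B = ⊤ := by
    refine hco.2 _ (lt_of_le_of_ne le_sup_left fun h => ?_)
    have hBA : B ≤ A := (le_sup_right : B ≤ A ⊔ B).trans h.symm.le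
    have : D = B := inf_eq_right.2 hBA
    rw [this, Subgroup.relIndex_self] at hDB
    omega
  haveI hDn : D.Normal := Subgroup.normalizer_eq_top_iff.1 (top_le_iff.1 (hsup ▸ sup_le hnA hnB))
  have hDbot : D = ⊥ := by
    rw [Subgroup.eq_bot_iff_forall]
    intro h hh
    refine eq_of_smul_eq_smul fun x : Ω => ?_
    obtain ⟨k, rfl⟩ := exists_smul_eq G a x
    rw [one_smul]
    exact Cfsg.Agent.Lib.Perm.Basic.mem_stabilizer_smul_iff.2 (by simpa [hA] using (hDn.conj_mem h hh k⁻¹).1)
  have hA2 : Nat.card A = 2 := by rw [← hcA, hDbot, Subgroup.card_bot, one_mul]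
  have hB2 : Nat.card B = 2 := hcAB ▸ hA2
  obtain ⟨⟨s, hs⟩, hso⟩ := exists_prime_orderOf_dvd_card' (G := A) 2 hA2.symm.dvd
  obtain ⟨⟨t, ht⟩, hto⟩ := exists_prime_orderOf_dvd_card' (G := B) 2 hB2.symm.dvd
  rw [← Subgroup.orderOf_coe] at hso hto
  have hAs : Subgroup.zpowers s = A :=
    Subgroup.eq_of_le_of_card_ge (Subgroup.zpowers_le.2 hs) (by rw [Nat.card_zpowers, hso, hA2])
  have hBt : Subgroup.zpowers t = B :=
    Subgroup.eq_of_le_of_card_ge (Subgroup.zpowers_le.2 ht) (by rw [Nat.card_zpowers, hto, hB2])
  have hst : Subgroup.closure ({s, t} : Set G) = ⊤ := by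
    rw [← top_le_iff, ← hsup, ← hAs, ← hBt, sup_le_iff, Subgroup.zpowers_le, Subgroup.zpowers_le]
    exact ⟨Subgroup.subset_closure (by simp), Subgroup.subset_closure (by simp)⟩
  have hss : s * s = 1 := Lib.Involutions.Basic.invol_mul_self hso
  have htt : t * t = 1 := Lib.Involutions.Basic.invol_mul_self hto
  refine ⟨hA2, orderOf (s * t), ?_, ⟨?_⟩⟩
  · -- primality from maximality of A
    have hne : s ≠ t := fun h => by
      have : D = A := inf_eq_left.2 (hAs ▸ Subgroup.zpowers_le.2 (h ▸ ht))
      rw [this, hA2] at hcA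
      omega
    have hn1 : orderOf (s * t) ≠ 1 := fun h => hne (by
      have h' := orderOf_eq_one_iff.1 h
      calc s = s * (t * t) := by rw [htt, mul_one]
        _ = s * t * t := by group
        _ = t := by rw [h', one_mul])
    obtain ⟨p, hp, hpd⟩ := Nat.exists_prime_and_dvd hn1
    by_contra hnp
    obtain ⟨c, hc⟩ := hpd
    set r := (s * t) ^ p with hr
    have hinv : s * r * s = r⁻¹ := by
      have h1 := Lib.Involutions.Basic.invert_zpow hss
        (Lib.Involutions.Basic.invert_mul hss htt) (p : ℤ)
      simpa [hr] using h1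
    set t' := s * r with ht'
    have ht's : t' * t' = 1 := by
      rw [ht', show s * r * (s * r) = (s * r * s) * r by group, hinv, inv_mul_cancel]
    have hc0 : 0 < c := by
      rcases Nat.eq_zero_or_pos c with h | h
      · rw [h, mul_zero] at hc; exact absurd hc (orderOf_pos _).ne'
      · exact h
    have hc1 : 1 < c := by
      by_contra h
      have : c = 1 := by omega
      rw [this, mul_one] at hc
      exact hnp (hc ▸ hp)
    have hro : orderOf r = c := by
      rw [hr, orderOf_pow_of_dvd hp.ne_zero ⟨c, hc⟩, hc, Nat.mul_div_cancel_left _ hp.pos]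
    have ht'o : orderOf t' = 2 := by
      refine orderOf_eq_prime (by rw [sq]; exact ht's) fun h => ?_
      have hsr : r = s := by
        have : s * (s * r) = s * 1 := by rw [← ht', h]
        rwa [← mul_assoc, hss, one_mul, mul_one] at this
      exact Lib.Involutions.Basic.left_ne_zpow hso hto (p : ℤ) (by rw [zpow_natCast, ← hr, hsr])
    have hcl : Subgroup.closure ({s, t'} : Set G) = ⊤ := by
      refine hco.2 _ (lt_of_le_of_ne (hAs.symm.le.trans (Subgroup.zpowers_le.2 (Subgroup.subset_closure (by simp))))
        fun h => ?_)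
      have h1 : Nat.card (Subgroup.closure ({s, t'} : Set G)) = Nat.card A :=
        congrArg (fun H : Subgroup G => Nat.card H) h.symm
      rw [Lib.Involutions.Basic.card_closure_pair hso ht'o, hA2] at h1
      rw [show s * t' = r by rw [ht', ← mul_assoc, hss, one_mul], hro] at h1
      omega
    have h1 : Nat.card (Subgroup.closure ({s, t'} : Set G)) = Nat.card (Subgroup.closure ({s, t} : Set G)) := by
      rw [hcl, hst]
    rw [Lib.Involutions.Basic.card_closure_pair hso ht'o, Lib.Involutions.Basic.card_closure_pair hso hto,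
      show s * t' = r by rw [ht', ← mul_assoc, hss, one_mul], hro, hc] at h1
    have := hp.two_le
    nlinarith
  · have e := Lib.Involutions.Basic.closurePairEquiv hso hto
    exact Subgroup.topEquiv.symm.trans ((MulEquiv.subgroupCongr hst.symm).trans e)

end Cfsg.Agent.S3684
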