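import Cfsg.Statements.S3687
import Cfsg.Agent.Lib.SuborbitAlt.Main

set_option autoImplicit false
open Cfsg

namespace Cfsg.Agent.S3687
open Cfsg.Agent.Lib.ThompsonWielandt Cfsg.Agent.Lib.SuborbitAlt

/-- Let a finite group G act faithfully and primitively on a set Ω, let a and b be points such that the orbit Δ of b under the stabilizer H of a has d ≥ 6 elements, and suppose that the permutation group induced by H on Δ contains the alternating group of Δ (the image of H in the symmetric group of Δ has index at most 2) while H does not act faithfully on Δ. Then either H induces exactly the alternating group of Δ and H is isomorphic to the direct product of the alternating groups of degrees d and d - 1; or H induces the full symmetric group of Δ and H is isomorphic to one of: the direct product of the symmetric groups of degrees d and d - 1, the direct product of the symmetric group of degree d with the alternating group of degree d - 1, or the subgroup of the direct product of the symmetric groups of degrees d and d - 1 consisting of the pairs of permutations with equal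 signs. -/
theorem result {G Ω : Type*} [Group G] [Finite G] [MulAction G Ω] [FaithfulSMul G Ω] [Finite Ω]
    (hprim : MulAction.IsPreprimitive G Ω) (a b : Ω) (d : ℕ) (hd : Nat.card (MulAction.orbit (MulAction.stabilizer G a) b) = d) (h6 : 6 ≤ d)
    (halt : (MulAction.toPermHom (MulAction.stabilizer G a) (MulAction.orbit (MulAction.stabilizer G a) b)).range.index ≤ 2)
    (hunf : ¬ Function.Injective (MulAction.toPermHom (MulAction.stabilizer G a) (MulAction.orbit (MulAction.stabilizer G a) b))) :
    ((MulAction.toPermHom (MulAction.stabilizer G a) (MulAction.orbit (MulAction.stabilizer G a) b)).range.index = 2 ∧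
      Nonempty (MulAction.stabilizer G a ≃* alternatingGroup (Fin d) × alternatingGroup (Fin (d - 1)))) ∨
    ((MulAction.toPermHom (MulAction.stabilizer G a) (MulAction.orbit (MulAction.stabilizer G a) b)).range = ⊤ ∧
      (Nonempty (MulAction.stabilizer G a ≃* Equiv.Perm (Fin d) × Equiv.Perm (Fin (d - 1))) ∨
       Nonempty (MulAction.stabilizer G a ≃* Equiv.Perm (Fin d) × alternatingGroup (Fin (d - 1))) ∨
       Nonempty (MulAction.stabilizer G a ≃* ((Equiv.Perm.sign.comp (MonoidHom.fst (Equiv.Perm (Fin d)) (Equiv.Perm (Fin (d - 1))))) *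
         (Equiv.Perm.sign.comp (MonoidHom.snd (Equiv.Perm (Fin d)) (Equiv.Perm (Fin (d - 1)))))).ker))) := by
  obtain ⟨hp, hd'⟩ := pair_of_suborbit hprim a b hd (by omega)
  set H := MulAction.stabilizer G a with hHdef
  set K := MulAction.stabilizer G b with hKdef
  set t := MulAction.toPermHom H (MulAction.orbit H b) with ht
  have hker : ∀ x : ↥H, t x = 1 ↔ (x : G) ∈ kern H K := by
    intro x
    constructor
    · intro hx
      refine mem_coreIn.2 ⟨x.2, fun h hh => ⟨H.mul_mem (H.mul_mem hh x.2) (H.inv_mem hh), ?_⟩⟩
      have h1 := congrArg (fun e : Equiv.Perm (MulAction.orbit H b) =>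
        ((e ⟨(⟨h⁻¹, H.inv_mem hh⟩ : H) • b, MulAction.mem_orbit b _⟩ : MulAction.orbit H b) : Ω)) hx
      have h2' : (x : G) • h⁻¹ • b = h⁻¹ • b := h1
      show (h * x * h⁻¹) • b = b
      rw [mul_smul, mul_smul, h2', smul_inv_smul]
    · intro hx
      refine Equiv.ext fun y => Subtype.ext ?_
      obtain ⟨y, h, rfl⟩ := y
      have h1 := ((mem_coreIn.1 hx).2 (h : G)⁻¹ (H.inv_mem h.2)).2
      have h2 : ((h : G)⁻¹ * x * (h : G)⁻¹⁻¹) • b = b := h1
      show (x : G) • (h : G) • b = (h : G) • b
      rw [inv_inv, mul_smul, mul_smul, inv_smul_eq_iff] at h2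
      exact h2
  have hidx := Subgroup.card_mul_index t.range
  rw [ker_rel_eq (K := K) t hker, Nat.card_perm, hd] at hidx
  have hg : Giant H K d := ⟨hd', by
    rw [← hidx, mul_comm 2]; exact Nat.mul_le_mul_left _ halt⟩
  have hne : kern H K ≠ ⊥ := fun h => hunf ((injective_iff_map_eq_one t).2 fun x hx => by
    have := (hker x).1 hx
    rw [h, Subgroup.mem_bot] at this
    exact Subtype.ext this)
  have hpos : 0 < (kern H K).relIndex H := Nat.pos_of_ne_zero Subgroup.index_ne_zero_of_finite
  rcases stabilizer_structure hp hg h6 hne with ⟨h1, h2⟩ | ⟨h1, h2⟩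
  · refine .inl ⟨Nat.eq_of_mul_eq_mul_left hpos ?_, h2⟩
    rw [hidx, ← h1, mul_comm]
  · refine .inr ⟨Subgroup.index_eq_one.1 (Nat.eq_of_mul_eq_mul_left hpos ?_), ?_⟩
    · rw [hidx, mul_one, h1]
    · exact h2.imp id .inr

end Cfsg.Agent.S3687
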