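import Cfsg.Statements.S3693
import Cfsg.Agent.Lib.ThompsonWielandt.Bound

set_option autoImplicit false
open Cfsg

namespace Cfsg.Agent.S3693
open Cfsg.Agent.Lib.ThompsonWielandt MulAction Cfsg.Agent.Lib

/-- Let a finite group G act faithfully and primitively on a set Ω, let a and b be points such that the orbit Δ of b under the stabilizer H of a has length d ≥ 2, and consider the permutation group induced on Δ by the elements of H fixing b. If that induced group has trivial Fitting subgroup (no non-trivial nilpotent normal subgroup), then the two-point stabilizer of a and b has trivial Fitting subgroup and the order of H divides d! · ((d - 1)!)^d. -/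
theorem result {G Ω : Type*} [Group G] [Finite G] [MulAction G Ω] [FaithfulSMul G Ω] [Finite Ω]
    (hprim : MulAction.IsPreprimitive G Ω) (a b : Ω) (d : ℕ) (hd : Nat.card (MulAction.orbit (MulAction.stabilizer G a) b) = d) (h2 : 2 ≤ d)
    (hF : Cfsg.fittingSubgroup ↥(((MulAction.stabilizer G b).subgroupOf (MulAction.stabilizer G a)).map (MulAction.toPermHom (MulAction.stabilizer G a) (MulAction.orbit (MulAction.stabilizer G a) b))) = ⊥) :
    Cfsg.fittingSubgroup ↥(MulAction.stabilizer G a ⊓ MulAction.stabilizer G b) = ⊥ ∧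
      Nat.card (MulAction.stabilizer G a) ∣ Nat.factorial d * (Nat.factorial (d - 1)) ^ d := by
  obtain ⟨hp, hd'⟩ := pair_of_suborbit hprim a b hd h2
  set H := stabilizer G a with hHdef
  set K := stabilizer G b with hKdef
  set H1 := coreIn H (H ⊓ K) with hH1
  have hX : ∀ p : ℕ, p.Prime → pCoreOf p (H ⊓ K) = ⊥ := by
    intro p hpp
    haveI := Fact.mk hpp
    set X := pCoreOf p (H ⊓ K) with hXdef
    have hXJ : X ≤ H ⊓ K := CharP.pCoreOf_le p _
    have hXn : H ⊓ K ≤ Subgroup.normalizer (X : Set G) := CharP.le_normalizer_pCoreOf p _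
    have hXp : IsPGroup p X := CharP.isPGroup_pCoreOf p _
    set f := toPermHom H (orbit H b) with hf
    set M := (K.subgroupOf H).map f with hM
    have hle : (X.subgroupOf H).map f ≤ M := Subgroup.map_mono fun x hx => (hXJ hx).2
    haveI : (((X.subgroupOf H).map f).subgroupOf M).Normal := by
      refine (Subgroup.normal_subgroupOf_iff_le_normalizer hle).2 ?_
      refine le_trans (Subgroup.map_mono ?_) (Subgroup.le_normalizer_map f)
      intro x hx
      rw [Subgroup.mem_normalizer_iff]
      intro y
      exact Subgroup.mem_normalizer_iff.1 (hXn ⟨x.2, hx⟩) y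
    have hp1 : IsPGroup p ↥(((X.subgroupOf H).map f).subgroupOf M) := by
      have h1 : IsPGroup p ↥(X.subgroupOf H) := hXp.comap_subtype
      exact (h1.map f).comap_subtype
    have hsub : ((X.subgroupOf H).map f).subgroupOf M = ⊥ := by
      refine le_bot_iff.1 ?_
      rw [← hF]
      exact (Cores.le_pCore hp1).trans (Cores.pCore_le_fittingSubgroup p)
    have hker : ∀ x ∈ X.subgroupOf H, f x = 1 := by
      intro x hx
      have hy : (⟨f x, hle ⟨x, hx, rfl⟩⟩ : M) ∈ ((X.subgroupOf H).map f).subgroupOf M := ⟨x, hx, rfl⟩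
      rw [hsub, Subgroup.mem_bot] at hy
      exact congrArg Subtype.val hy
    have hXH1 : X ≤ H1 := by
      intro x hx
      refine mem_coreIn.2 ⟨(hXJ hx).1, fun h hh => ⟨H.mul_mem (H.mul_mem hh (hXJ hx).1) (H.inv_mem hh), ?_⟩⟩
      have h1 := congrArg (fun e : Equiv.Perm (orbit H b) =>
        ((e ⟨(⟨h⁻¹, H.inv_mem hh⟩ : H) • b, mem_orbit b _⟩ : orbit H b) : Ω)) (hker ⟨x, (hXJ hx).1⟩ hx)
      have h2' : x • h⁻¹ • b = h⁻¹ • b := h1
      show (h * x * h⁻¹) • b = b
      rw [mul_smul, mul_smul, h2', smul_inv_smul]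
    have hXH : H ≤ Subgroup.normalizer (X : Set G) := by
      have e : X = pCoreOf p H1 := le_antisymm
        (CharP.le_pCoreOf hXp hXH1 ((coreIn_le_right _ _).trans hXn))
        (CharP.le_pCoreOf (CharP.isPGroup_pCoreOf p H1) ((CharP.pCoreOf_le p H1).trans (coreIn_le_right _ _))
          (inf_le_left.trans ?_))
      · rw [e]
        refine (Subgroup.normal_subgroupOf_iff_le_normalizer ((CharP.pCoreOf_le p H1).trans (coreIn_le _ _))).1 ?_
        haveI : (H1.subgroupOf H).Normal :=
          (Subgroup.normal_subgroupOf_iff_le_normalizer (coreIn_le _ _)).2 (le_normalizer_coreIn _ _)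
        have e2 : (pCoreOf p H1).subgroupOf H = (pCore p ↥(H1.subgroupOf H)).map (H1.subgroupOf H).subtype := by
          rw [← Cores.map_pCore_equiv (Subgroup.subgroupOfEquivOfLe (coreIn_le H (H ⊓ K))).symm,
            Subgroup.map_map]
          apply Subgroup.map_injective H.subtype_injective
          rw [Subgroup.map_subgroupOf_eq_of_le ((CharP.pCoreOf_le p H1).trans (coreIn_le _ _)), Subgroup.map_map]
          rfl
        rw [e2]
        infer_instance
      · intro h hh
        rw [Subgroup.mem_normalizer_iff_map_conj_eq]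
        have hn := Subgroup.mem_normalizer_iff_map_conj_eq.1 (le_normalizer_coreIn H (H ⊓ K) hh)
        have e3 := Cores.map_pCore_equiv (p := p)
          ((H1.equivMapOfInjective (MulAut.conj h).toMonoidHom (MulAut.conj h).injective).trans
            (MulEquiv.subgroupCongr hn))
        conv_rhs => rw [pCoreOf, ← e3, Subgroup.map_map]
        rw [pCoreOf, Subgroup.map_map]
        rfl
    by_contra hne
    have hXV : X ≤ pCoreOf p H := CharP.le_pCoreOf hXp (hXJ.trans inf_le_left) hXH
    have hWV := hp.card_pCoreOf p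
    set W := pCoreOf p K with hWdef
    have hW : W ≠ ⊥ := fun h => hne (le_bot_iff.1 (hXV.trans (le_of_eq
      (Subgroup.card_eq_one.1 (by rw [← hWV]; exact Subgroup.card_eq_one.2 h)))))
    have hXW : X ≤ Subgroup.normalizer (W : Set G) :=
      (hXJ.trans inf_le_right).trans (CharP.le_normalizer_pCoreOf p K)
    have hS : IsPGroup p (X ⊔ W : Subgroup G) :=
      hXp.to_sup_of_normal_right' (CharP.isPGroup_pCoreOf p K) hXW
    have hWX : W ≤ X := by
      by_contra hc
      obtain ⟨s, hs, hsX, hsn⟩ := exists_normalizer_gt hS le_sup_left fun h => hc (le_sup_right.trans h)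
      rw [← SetLike.mem_coe, Subgroup.coe_mul_of_left_le_normalizer_right _ _ hXW] at hs
      obtain ⟨x, hx, w, hw, rfl⟩ := hs
      have hsH : x * w ∈ H := hp.locH X (hXJ.trans inf_le_left) hne hXH hsn
      have hwH : w ∈ H := by simpa using H.mul_mem (H.inv_mem (hXJ hx).1) hsH
      have hwJ : W ⊓ H ≤ X := CharP.le_pCoreOf ((CharP.isPGroup_pCoreOf p K).to_le inf_le_left)
        (fun y hy => ⟨hy.2, CharP.pCoreOf_le p K hy.1⟩)
        (fun y hy => Subgroup.inf_normalizer_le_normalizer_inf
          ⟨CharP.le_normalizer_pCoreOf p K hy.2, Subgroup.le_normalizer hy.1⟩)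
      exact hsX (X.mul_mem hx (hwJ ⟨hw, hwH⟩))
    have heq : W = pCoreOf p H := Subgroup.eq_of_le_of_card_ge (hWX.trans hXV) hWV.ge
    exact hW (hp.eq_bot ((hWX.trans hXJ).trans inf_le_left) (CharP.pCoreOf_le p K)
      (heq ▸ CharP.le_normalizer_pCoreOf p H) (CharP.le_normalizer_pCoreOf p K))
  refine ⟨?_, hp.card_dvd_of_eq_bot hd' ?_⟩
  · rw [Cores.fittingSubgroup_eq_iSup_pCore]
    exact le_bot_iff.1 (iSup_le fun q =>
      ((Subgroup.map_eq_bot_iff_of_injective _ (H ⊓ K).subtype_injective).1 (hX q q.2)).le)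
  · by_contra hz
    push Not at hz
    obtain ⟨p, hpp, hP, -, -⟩ := hp.thompson_wielandt hz.1 hz.2
    refine hz.1 (le_bot_iff.1 (le_trans ?_ (hX p hpp).le))
    exact CharP.le_pCoreOf hP (secondKernel_le_inf H K) (inf_le_left.trans (le_normalizer_secondKernel H K))

end Cfsg.Agent.S3693
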