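import Cfsg.Statements.S3696
import Mathlib

set_option autoImplicit false
open Cfsg

namespace Cfsg.Agent.S3696

open MulAction

/-- two-term weighted AM-GM over `ℕ` -/
theorem amgm (m u r s : ℕ) :
    m ^ r * u ^ s * (r + s) ^ (r + s) ≤ r ^ r * s ^ s * (m + u) ^ (r + s) := by
  rcases Nat.eq_zero_or_pos r with rfl | hr
  · simp only [pow_zero, one_mul, zero_add]
    rw [mul_comm]
    exact Nat.mul_le_mul_left _ (Nat.pow_le_pow_left (by omega) s)
  rcases Nat.eq_zero_or_pos s with rfl | hs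
  · simp only [pow_zero, mul_one, add_zero]
    rw [mul_comm]
    exact Nat.mul_le_mul_left _ (Nat.pow_le_pow_left (by omega) r)
  have hk : (0 : ℝ) < r + s := by positivity
  have hrR : (0 : ℝ) < r := by exact_mod_cast hr
  have hsR : (0 : ℝ) < s := by exact_mod_cast hs
  have h := Real.geom_mean_le_arith_mean2_weighted (w₁ := r / (r + s)) (w₂ := s / (r + s))
    (p₁ := (m : ℝ) / r) (p₂ := (u : ℝ) / s) (by positivity) (by positivity) (by positivity)
    (by positivity) (by field_simp)
  have hR : (r : ℝ) / (r + s) * ((m : ℝ) / r) + (s : ℝ) / (r + s) * ((u : ℝ) / s) =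
      ((m : ℝ) + u) / (r + s) := by field_simp
  rw [hR] at h
  have h2 := pow_le_pow_left₀ (by positivity) h (r + s)
  rw [mul_pow, ← Real.rpow_mul_natCast (by positivity), ← Real.rpow_mul_natCast (by positivity),
    Nat.cast_add, div_mul_cancel₀ _ hk.ne', div_mul_cancel₀ _ hk.ne', Real.rpow_natCast,
    Real.rpow_natCast, div_pow, div_pow, div_pow, div_mul_div_comm,
    div_le_div_iff₀ (by positivity) (by positivity)] at h2
  exact_mod_cast (by rw [mul_comm (((r : ℝ) ^ r) * (s : ℝ) ^ s)]; exact h2 :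
    (m : ℝ) ^ r * (u : ℝ) ^ s * ((r : ℝ) + s) ^ (r + s) ≤ (r : ℝ) ^ r * (s : ℝ) ^ s * ((m : ℝ) + u) ^ (r + s))

theorem rpow_self_le {p r : ℕ} (hp : 2 ≤ p) (hr : 1 ≤ r) {m : ℕ} (hm : p ^ r ≤ m) :
    r ^ r * m ≤ m ^ r := by
  obtain ⟨j, rfl⟩ : ∃ j, r = j + 1 := ⟨r - 1, by omega⟩
  have h1 : j + 1 ≤ 2 ^ j := Nat.lt_two_pow_self
  have h2 : (j + 1) ^ (j + 1) ≤ m ^ j := by
    calc (j + 1) ^ (j + 1) ≤ (2 ^ j) ^ (j + 1) := Nat.pow_le_pow_left h1 _
      _ = (2 ^ (j + 1)) ^ j := by rw [← pow_mul, ← pow_mul, mul_comm]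
      _ ≤ m ^ j := Nat.pow_le_pow_left ((Nat.pow_le_pow_left hp _).trans hm) _
  calc (j + 1) ^ (j + 1) * m ≤ m ^ j * m := Nat.mul_le_mul_right _ h2
    _ = m ^ (j + 1) := (pow_succ m j).symm

variable {Ω : Type*} [Fintype Ω] [DecidableEq Ω] {p : ℕ}

/-- elements killed by `p` in an abelian subgroup -/
def sock (p : ℕ) (B : Subgroup (Equiv.Perm Ω)) (hc : ∀ x ∈ B, ∀ y ∈ B, x * y = y * x) :
    Subgroup (Equiv.Perm Ω) where
  carrier := {x | x ∈ B ∧ x ^ p = 1}
  one_mem' := ⟨one_mem B, one_pow p⟩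
  mul_mem' := fun {x y} hx hy => ⟨mul_mem hx.1 hy.1, by
    rw [(show Commute x y from hc x hx.1 y hy.1).mul_pow, hx.2, hy.2, one_mul]⟩
  inv_mem' := fun {x} hx => ⟨inv_mem hx.1, by rw [inv_pow, hx.2, inv_one]⟩

theorem main (hp : p.Prime) :
    ∀ (N : ℕ) (B : Subgroup (Equiv.Perm Ω)), Nat.card B ≤ N → IsPGroup p B →
      (hc : ∀ x ∈ B, ∀ y ∈ B, x * y = y * x) → ∀ (U : Finset Ω),
      (∀ g ∈ B, ∀ x ∈ U, g x ∈ U) → (∀ g ∈ B, ∀ x ∉ U, g x = x) →
      ∀ k, Nat.card (sock p B hc) = p ^ k → Nat.card B * k ^ k ≤ U.card ^ k := by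
  haveI := Fact.mk hp
  intro N
  induction N with
  | zero => intro B h; exact absurd h (by have := Nat.card_pos (α := B); omega)
  | succ N ih =>
    intro B hN hB hc U hU hfix k hk
    by_cases hB1 : B = ⊥
    · subst hB1
      have h1 : sock p (⊥ : Subgroup (Equiv.Perm Ω)) hc = ⊥ := le_bot_iff.1 fun x hx => hx.1
      rw [h1, Subgroup.card_bot] at hk
      have hk0 : k = 0 := by
        rcases Nat.eq_zero_or_pos k with h | h
        · exact h
        · exact absurd hk.symm (Nat.one_lt_pow h.ne' hp.one_lt).ne'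
      subst hk0
      simp
    haveI := (Subgroup.nontrivial_iff_ne_bot B).2 hB1
    obtain ⟨n, hn, hcard⟩ := hB.nontrivial_iff_card.1 inferInstance
    obtain ⟨⟨e, heB⟩, heo⟩ := exists_prime_orderOf_dvd_card' (G := B) p (hcard ▸ dvd_pow_self p hn.ne')
    rw [← Subgroup.orderOf_coe] at heo
    obtain ⟨x, hx⟩ : ∃ x, e x ≠ x := by
      by_contra h
      push Not at h
      have : e = 1 := Equiv.ext h
      subst this
      rw [orderOf_one] at heo
      exact hp.ne_one heo.symm
    have hxU : x ∈ U := by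
      by_contra h
      exact hx (hfix e heB x h)
    set B' := B ⊓ stabilizer (Equiv.Perm Ω) x with hB'
    have hB'c : ∀ a ∈ B', ∀ b ∈ B', a * b = b * a := fun a ha b hb => hc a ha.1 b hb.1
    set S := sock p B hc with hS
    set S' := sock p B' hB'c with hS'
    have hS'eq : S' = S ⊓ stabilizer (Equiv.Perm Ω) x := by
      ext g
      exact ⟨fun h => ⟨⟨h.1.1, h.2⟩, h.1.2⟩, fun h => ⟨⟨h.1.1, h.2⟩, h.1.2⟩⟩
    have hB'p : IsPGroup p B' := hB.to_le inf_le_left
    obtain ⟨k', hk'⟩ := IsPGroup.iff_card.1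
      (hB'p.to_le (fun g (hg : g ∈ S') => hg.1))
    have hlt : S' < S := by
      rw [hS'eq]
      refine lt_of_le_of_ne inf_le_left fun h => hx ?_
      have hmem : e ∈ S := ⟨heB, heo ▸ pow_orderOf_eq_one e⟩
      rw [← h] at hmem
      exact hmem.2
    have hkk : k' < k := by
      by_contra hge
      push Not at hge
      refine hlt.ne (Subgroup.eq_of_le_of_card_ge hlt.le ?_)
      rw [hk', hk]
      exact Nat.pow_le_pow_right hp.pos hge
    classical
    set O : Finset Ω := (orbit B x).toFinset with hO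
    have hm : (stabilizer B x).index = O.card := by
      rw [index_stabilizer, hO, Set.ncard_eq_toFinset_card']
    have hstab : stabilizer B x = B'.subgroupOf B := by
      ext g
      simp only [Subgroup.mem_subgroupOf, hB', Subgroup.mem_inf, mem_stabilizer_iff]
      exact ⟨fun h => ⟨g.2, h⟩, fun h => h.2⟩
    have hBB' : Nat.card B = Nat.card B' * O.card := by
      rw [← hm, hstab, ← Subgroup.relIndex, ← Subgroup.relIndex_bot_left, ← Subgroup.relIndex_bot_left,
        Subgroup.relIndex_mul_relIndex _ _ _ bot_le inf_le_left]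
    have hOU : O ⊆ U := by
      intro y hy
      rw [hO, Set.mem_toFinset] at hy
      obtain ⟨g, rfl⟩ := hy
      exact hU g g.2 x hxU
    have hinvO : ∀ g ∈ B', ∀ y ∈ O, g y = y := by
      intro g hg y hy
      rw [hO, Set.mem_toFinset] at hy
      obtain ⟨b, rfl⟩ := hy
      show g ((b : Equiv.Perm Ω) x) = (b : Equiv.Perm Ω) x
      rw [← Equiv.Perm.mul_apply, hc g hg.1 b b.2, Equiv.Perm.mul_apply,
        show g x = x from hg.2]
    have hlt' : Nat.card B' < Nat.card B := by
      have hO2 : 1 < O.card := by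
        refine Finset.one_lt_card.2 ⟨x, ?_, e x, ?_, hx.symm⟩
        · rw [hO, Set.mem_toFinset]; exact mem_orbit_self x
        · rw [hO, Set.mem_toFinset]; exact mem_orbit x (⟨e, heB⟩ : B)
      rw [hBB']
      exact lt_mul_of_one_lt_right Nat.card_pos hO2
    have hih := ih B' (by omega) hB'p hB'c (U \ O) (fun g hg y hy => ?_) (fun g hg y hy => ?_) k' hk'
    rotate_left
    · rw [Finset.mem_sdiff] at hy ⊢
      refine ⟨hU g hg.1 y hy.1, fun h => hy.2 ?_⟩
      have h1 := hinvO g hg _ h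
      rwa [g.injective h1] at h
    · by_cases hyO : y ∈ O
      · exact hinvO g hg y hyO
      · exact hfix g hg.1 y (fun h => hy (Finset.mem_sdiff.2 ⟨h, hyO⟩))
    -- socle drop at most the orbit
    have hdrop : p ^ (k - k') ≤ O.card := by
      have h1 : S'.relIndex S ≤ B'.relIndex B := by
        rw [hS'eq, hB', Subgroup.inf_relIndex_left, Subgroup.inf_relIndex_left]
        exact Subgroup.relIndex_le_of_le_right (fun g hg => hg.1) (fun h0 => Subgroup.index_ne_zero_of_finite h0)
      have h2 : S'.relIndex S = p ^ (k - k') := by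
        have h3 : Nat.card S' * S'.relIndex S = Nat.card S := by
          rw [← Subgroup.relIndex_bot_left, ← Subgroup.relIndex_bot_left,
            Subgroup.relIndex_mul_relIndex _ _ _ bot_le hlt.le]
        rw [hk', hk, show k = k' + (k - k') by omega, pow_add] at h3
        have := Nat.eq_of_mul_eq_mul_left (pow_pos hp.pos k') h3
        simpa using this
      rw [← h2, ← hm, hstab]
      exact h1
    set m := O.card with hmdef
    set u := (U \ O).card with hu
    set r := k - k' with hr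
    have hkr : k = r + k' := by omega
    have hUc : U.card = m + u := by
      rw [hu, hmdef, Finset.card_sdiff_of_subset hOU]
      have := Finset.card_le_card hOU
      omega
    have hkey : (Nat.card B * k ^ k) * (r ^ r * k' ^ k') ≤ U.card ^ k * (r ^ r * k' ^ k') := by
      calc (Nat.card B * k ^ k) * (r ^ r * k' ^ k')
          = (r ^ r * m) * (Nat.card B' * k' ^ k') * k ^ k := by rw [hBB']; ring
        _ ≤ m ^ r * u ^ k' * k ^ k := by
            gcongr
            exact rpow_self_le hp.two_le (by omega) hdrop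
        _ ≤ r ^ r * k' ^ k' * (m + u) ^ k := by rw [hkr]; exact amgm m u r k'
        _ = U.card ^ k * (r ^ r * k' ^ k') := by rw [hUc]; ring
    refine Nat.le_of_mul_le_mul_right hkey ?_
    refine Nat.mul_pos (pow_pos (by omega) r) ?_
    rcases Nat.eq_zero_or_pos k' with h | h
    · rw [h]; norm_num
    · exact pow_pos h _


/-- Let p be a prime, Ω a finite set with n ≥ p elements, and A an abelian p-subgroup of the symmetric group on Ω whose elements of order dividing p number p^k (so k is the rank of A). Then |A| · k^k ≤ n^k, that is, |A| ≤ (n/k)^k. -/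
theorem result {Ω : Type*} [Fintype Ω] [DecidableEq Ω]
    (p : ℕ) (hp : p.Prime) (hn : p ≤ Fintype.card Ω) (A : Subgroup (Equiv.Perm Ω)) (hA : IsPGroup p A) (hab : IsMulCommutative A)
    (k : ℕ) (hk : Nat.card {x : A // x ^ p = 1} = p ^ k) :
    Nat.card A * k ^ k ≤ Fintype.card Ω ^ k := by
  have hc : ∀ x ∈ A, ∀ y ∈ A, x * y = y * x := fun x hx y hy =>
    congrArg Subtype.val (hab.is_comm.comm (⟨x, hx⟩ : A) ⟨y, hy⟩)
  have e : Nat.card (sock p A hc) = p ^ k := by
    rw [← hk]
    refine Nat.card_congr ⟨fun x => ⟨⟨x.1, x.2.1⟩, Subtype.ext x.2.2⟩,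
      fun x => ⟨x.1.1, x.1.2, congrArg Subtype.val x.2⟩, fun x => rfl, fun x => rfl⟩
  have h := main hp (Nat.card A) A le_rfl hA hc Finset.univ (fun _ _ _ _ => Finset.mem_univ _)
    (fun _ _ x hx => absurd (Finset.mem_univ x) hx) k e
  rwa [Finset.card_univ] at h

end Cfsg.Agent.S3696
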