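import Cfsg.Statements.S3703
import Cfsg.Agent.Lib.Frobenius.Basic
import Cfsg.Agent.Lib.Coprime.Glauberman
import Cfsg.Agent.Lib.Coprime.Commutator
import Cfsg.Agent.Lib.Coprime.Generation

set_option autoImplicit false
open Cfsg

namespace Cfsg.Agent.S3703

open Subgroup
open scoped Pointwise commutatorElement

/-- Averaging in an abelian module of a Frobenius group. -/
theorem fixed_of_norm_trivial {L W : Type*} [Group L] [CommGroup W] [Finite W]
    (ρ : L →* MulAut W) (Q : Subgroup L) [Finite Q] (h : L) (m : ℕ) (hm : 0 < m)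
    (hcop : (Nat.card Q).Coprime (Nat.card W))
    (hnorm : ∀ i, ∀ x ∈ Q, h ^ i * x * (h ^ i)⁻¹ ∈ Q)
    (hfpf : ∀ i, 0 < i → i < m → ∀ x ∈ Q, x * h ^ i = h ^ i * x → x = 1)
    (hN : ∀ v : W, ∏ i ∈ Finset.range m, ρ (h ^ i) v = 1) : ∀ x ∈ Q, ∀ v : W, ρ x v = v := by
  classical
  haveI := Fintype.ofFinite Q
  intro z hz v
  have hbij : ∀ i, 0 < i → i < m → ∀ v : W,
      ∏ x : Q, ρ ((x : L) * h ^ i * (x : L)⁻¹) v = ∏ y : Q, ρ ((y : L) * h ^ i) v := by
    intro i hi him v
    let f : Q → Q := fun x => ⟨(x : L) * (h ^ i * (x : L)⁻¹ * (h ^ i)⁻¹), mul_mem x.2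
      (hnorm i _ (inv_mem x.2))⟩
    have hf : Function.Bijective f := by
      rw [← Finite.injective_iff_bijective]
      intro x y hxy
      have e : (x : L) * (h ^ i * (x : L)⁻¹ * (h ^ i)⁻¹) = (y : L) * (h ^ i * (y : L)⁻¹ * (h ^ i)⁻¹) :=
        congrArg Subtype.val hxy
      have e2 : ((y : L)⁻¹ * x) * h ^ i = h ^ i * ((y : L)⁻¹ * x) := by
        calc ((y : L)⁻¹ * x) * h ^ i
            = (y : L)⁻¹ * ((x : L) * (h ^ i * (x : L)⁻¹ * (h ^ i)⁻¹)) * h ^ i * x := by group
          _ = (y : L)⁻¹ * ((y : L) * (h ^ i * (y : L)⁻¹ * (h ^ i)⁻¹)) * h ^ i * x := by rw [e]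
          _ = h ^ i * ((y : L)⁻¹ * x) := by group
      have := hfpf i hi him _ (mul_mem (inv_mem y.2) x.2) e2
      exact Subtype.ext (inv_mul_eq_one.1 this).symm
    refine Fintype.prod_bijective f hf _ _ fun x => ?_
    congr 2
    simp only [f]
    group
  obtain ⟨k, rfl⟩ : ∃ k, m = k + 1 := ⟨m - 1, by omega⟩
  -- the two double sums
  have h1 : ∏ x : Q, ∏ i ∈ Finset.range (k + 1), ρ ((x : L) * h ^ i * (x : L)⁻¹) v = 1 := by
    refine Finset.prod_eq_one fun x _ => ?_
    simp only [map_mul, MulAut.mul_apply]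
    rw [← map_prod (ρ (x : L)), hN, map_one]
  have h2 : ∏ y : Q, ∏ i ∈ Finset.range (k + 1), ρ ((y : L) * h ^ i) v = 1 := by
    refine Finset.prod_eq_one fun x _ => ?_
    simp only [map_mul, MulAut.mul_apply]
    rw [← map_prod (ρ (x : L)), hN, map_one]
  rw [Finset.prod_comm, Finset.prod_range_succ'] at h1 h2
  have e : ∏ i ∈ Finset.range k, ∏ x : Q, ρ ((x : L) * h ^ (i + 1) * (x : L)⁻¹) v =
      ∏ i ∈ Finset.range k, ∏ y : Q, ρ ((y : L) * h ^ (i + 1)) v :=
    Finset.prod_congr rfl fun i hi => hbij (i + 1) (by omega) (by have := Finset.mem_range.1 hi; omega) v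
  rw [e] at h1
  have e2 : v ^ Nat.card Q = ∏ y : Q, ρ (y : L) v := by
    have := h1.trans h2.symm
    simpa [Nat.card_eq_fintype_card] using mul_left_cancel this
  have e3 : ρ z (v ^ Nat.card Q) = v ^ Nat.card Q := by
    rw [e2, map_prod]
    refine Fintype.prod_bijective (fun y : Q => (⟨z, hz⟩ : Q) * y) (Group.mulLeft_bijective _) _ _ ?_
    intro y
    rw [← MulAut.mul_apply, ← map_mul]
    rfl
  rw [map_pow] at e3
  exact (powCoprime hcop.symm).injective (by simpa [powCoprime] using e3)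

variable {G : Type*} [Group G] [Finite G]

/-- conjugation action of the normalizer on the abelianization of a subgroup -/
noncomputable def abAct (U : Subgroup G) :
    ↥(normalizer (U : Set G)) →* MulAut (Abelianization ↥U) where
  toFun g := (U.normalizerMonoidHom g).abelianizationCongr
  map_one' := by
    rw [map_one]
    refine MulEquiv.ext fun x => QuotientGroup.induction_on x fun u => ?_
    rfl
  map_mul' a b := by
    rw [map_mul]
    refine MulEquiv.ext fun x => QuotientGroup.induction_on x fun u => ?_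
    rfl

theorem centralizes_of_no_big_order {p : ℕ} [Fact p.Prime] (Q : Subgroup G) (h : G) (m : ℕ)
    (hm : 0 < m) (hhm : h ^ m = 1) (hhQ : h ∈ normalizer (Q : Set G))
    (hfpf : ∀ i, 0 < i → i < m → ∀ x ∈ Q, x * h ^ i = h ^ i * x → x = 1)
    (hcop : ¬ p ∣ Nat.card Q) :
    ∀ (n : ℕ) (U : Subgroup G), Nat.card U ≤ n → IsPGroup p U → Q ≤ normalizer (U : Set G) →
      h ∈ normalizer (U : Set G) → (∀ u ∈ U, (u * h) ^ m = 1) → Q ≤ centralizer (U : Set G) := by
  intro n
  induction n with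
  | zero => intro U hU; exact absurd hU (by have := Nat.card_pos (α := U); omega)
  | succ n ih =>
    intro U hn hU hQU hhU hpow
    by_cases hU1 : U = ⊥
    · subst hU1
      intro x _
      rw [mem_centralizer_iff]
      intro y hy
      rw [SetLike.mem_coe, mem_bot] at hy
      rw [hy, one_mul, mul_one]
    have hcopU : ∀ V ≤ U, (Nat.card Q).Coprime (Nat.card V) := by
      intro V hV
      obtain ⟨a, ha⟩ := IsPGroup.iff_card.1 (hU.to_le hV)
      rw [ha]
      exact Nat.Coprime.pow_right a ((Fact.out : p.Prime).coprime_iff_not_dvd.2 hcop).symm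
    set V : Subgroup G := ⁅U, U⁆ with hV
    have hVU : V ≤ U := commutator_le.2 fun a ha b hb => by
      rw [commutatorElement_def]
      exact mul_mem (mul_mem (mul_mem ha hb) (inv_mem ha)) (inv_mem hb)
    have hVmap : V = (commutator ↥U).map U.subtype := by
      rw [commutator_def, map_commutator, ← MonoidHom.range_eq_map, range_subtype]
    have hNV : normalizer (U : Set G) ≤ normalizer (V : Set G) := by
      intro g hg
      rw [mem_normalizer_iff_map_conj_eq] at hg ⊢
      rw [hV, map_commutator, hg]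
    have hVlt : Nat.card V < Nat.card U := by
      refine lt_of_le_of_ne (Nat.le_of_dvd Nat.card_pos (card_dvd_of_le hVU)) fun he => ?_
      haveI : Nontrivial U := (nontrivial_iff_ne_bot U).2 hU1
      haveI : Group.IsSolvable ↥U := by
        haveI : Group.IsNilpotent ↥U := hU.isNilpotent
        infer_instance
      refine (Group.IsSolvable.commutator_lt_top_of_nontrivial ↥U).ne ?_
      apply map_injective U.subtype_injective
      rw [← hVmap, ← MonoidHom.range_eq_map, range_subtype]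
      exact eq_of_le_of_card_ge hVU he.ge
    have hQV := ih V (by omega) (hU.to_le hVU) (hQU.trans hNV) (hNV hhU)
      (fun u hu => hpow u (hVU hu))
    -- the action on the abelianization
    let N := normalizer (U : Set G)
    let h' : N := ⟨h, hhU⟩
    have hnorm : ∀ i, ∀ x ∈ Q.subgroupOf N, h' ^ i * x * (h' ^ i)⁻¹ ∈ Q.subgroupOf N := by
      intro i x hx
      rw [mem_subgroupOf] at hx ⊢
      push_cast
      exact (mem_normalizer_iff.1 (pow_mem hhQ i) _).1 hx
    have hnormW : ∀ v : Abelianization ↥U, ∏ i ∈ Finset.range m, abAct U (h' ^ i) v = 1 := by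
      intro v
      obtain ⟨⟨u, hu⟩, rfl⟩ := QuotientGroup.mk_surjective v
      have key : ∀ j, ∃ w : ↥U, (u * h) ^ j = (w : G) * h ^ j ∧
          Abelianization.of w = ∏ i ∈ Finset.range j, abAct U (h' ^ i) (Abelianization.of ⟨u, hu⟩) := by
        intro j
        induction j with
        | zero => exact ⟨1, by simp, by simp⟩
        | succ j ihj =>
          obtain ⟨w, hw, hw'⟩ := ihj
          refine ⟨w * U.normalizerMonoidHom (h' ^ j) ⟨u, hu⟩, ?_, ?_⟩
          · rw [pow_succ, hw, pow_succ h j]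
            simp only [Subgroup.coe_mul, normalizerMonoidHom_apply_apply_coe, SubmonoidClass.coe_pow, h']
            group
          · rw [map_mul, hw', Finset.prod_range_succ]
            rfl
      obtain ⟨w, hw, hw'⟩ := key m
      rw [hpow u hu, hhm, mul_one] at hw
      have : w = 1 := Subtype.ext hw.symm
      rw [this, map_one] at hw'
      exact hw'.symm
    have hfix := fixed_of_norm_trivial (abAct U) (Q.subgroupOf N) h' m hm ?_ hnorm ?_ hnormW
    rotate_left
    · rw [Nat.card_congr (subgroupOfEquivOfLe hQU).toEquiv]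
      exact Nat.Coprime.coprime_dvd_right (card_quotient_dvd_card _) (hcopU U le_rfl)
    · intro i hi him x hx he
      refine Subtype.ext (hfpf i hi him x (mem_subgroupOf.1 hx) ?_)
      have := congrArg Subtype.val he
      simpa using this
    refine Cfsg.Agent.Lib.Coprime.le_centralizer_of_series (N := V) (hcopU V hVU) ?_ ?_
    · rw [commutator_le]
      intro u hu x hx
      have h1 := hfix ⟨x, hQU hx⟩ (mem_subgroupOf.2 hx) (Abelianization.of ⟨u, hu⟩)
      have h2 : U.normalizerMonoidHom ⟨x, hQU hx⟩ ⟨u, hu⟩ * (⟨u, hu⟩ : U)⁻¹ ∈ commutator ↥U := by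
        have e : Abelianization.of (U.normalizerMonoidHom ⟨x, hQU hx⟩ ⟨u, hu⟩) =
            Abelianization.of (⟨u, hu⟩ : U) := h1
        have e1 : Abelianization.of (U.normalizerMonoidHom ⟨x, hQU hx⟩ ⟨u, hu⟩ * (⟨u, hu⟩ : U)⁻¹) = 1 := by
          rw [map_mul, map_inv, e, mul_inv_cancel]
        exact (QuotientGroup.eq_one_iff _).1 e1
      have h3 : x * u * x⁻¹ * u⁻¹ ∈ V := by
        rw [hVmap]
        exact ⟨_, h2, by simp⟩
      rw [show ⁅u, x⁆ = (x * u * x⁻¹ * u⁻¹)⁻¹ by rw [commutatorElement_def]; group]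
      exact inv_mem h3
    · rw [commutator_eq_bot_iff_le_centralizer, le_centralizer_iff]
      exact hQV

omit [Finite G] in
theorem order_step [Finite G] (N : Subgroup G) {g : G} {m : ℕ} (hm : m ∣ orderOf g)
    (hgm : g ^ m ∈ N) (hne : g ^ m ≠ 1) :
    ∃ p : ℕ, p.Prime ∧ p ∣ Nat.card N ∧ ∃ x : G, orderOf x = p * m := by
  obtain ⟨p, hp, hpd⟩ := Nat.exists_prime_and_dvd (fun h => hne (orderOf_eq_one_iff.1 h))
  have hm0 : m ≠ 0 := fun h => (orderOf_pos g).ne' (Nat.eq_zero_of_zero_dvd (h ▸ hm))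
  have he : orderOf (g ^ m) = orderOf g / m := orderOf_pow_of_dvd hm0 hm
  refine ⟨p, hp, hpd.trans (Subgroup.orderOf_dvd_natCard N hgm), ?_⟩
  rw [he] at hpd
  obtain ⟨c, hc⟩ := hpd
  have hog : orderOf g = p * m * c := by
    rw [← Nat.div_mul_cancel hm, hc]; ring
  have hc0 : c ≠ 0 := fun h => (orderOf_pos g).ne' (by rw [hog, h, mul_zero])
  refine ⟨g ^ c, ?_⟩
  rw [orderOf_pow_of_dvd hc0 (hog ▸ dvd_mul_left c _), hog, Nat.mul_div_cancel _ (Nat.pos_of_ne_zero hc0)]

open Cfsg.Agent.Lib in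
theorem main (N : Subgroup G) [N.Normal]
    (Fb Hb : Subgroup (G ⧸ N)) [Fb.Normal] (hHb : Cfsg.IsFrobeniusComplement Hb)
    (hker : Cfsg.frobeniusKernel Hb = (Fb : Set (G ⧸ N)))
    (hcyc : IsCyclic Hb) (hcop : (Nat.card Fb).Coprime (Nat.card N))
    (hnot : ¬ Fb ≤ (Subgroup.centralizer (N : Set G)).map (QuotientGroup.mk' N)) :
    ∃ p : ℕ, p.Prime ∧ p ∣ Nat.card N ∧ ∃ g : G, orderOf g = p * Nat.card Hb := by
  classical
  set π := QuotientGroup.mk' N with hπ
  set C := (Subgroup.centralizer (N : Set G)).map π with hC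
  set m := Nat.card Hb with hm
  haveI : Group.IsSolvable ↥Hb := Group.isSolvable_of_comm fun a b => by
    letI := IsCyclic.commGroup (α := ↥Hb); exact mul_comm a b
  have hFH : Fb ⊓ Hb = ⊥ := by
    rw [eq_bot_iff_forall]
    rintro x ⟨hx, hxH⟩
    replace hx : x ∈ (Fb : Set (G ⧸ N)) := hx
    rw [← hker] at hx
    rcases hx with h | h
    · exact h
    · exact absurd (by simpa using hxH) (h 1)
  have hcopFH : (Nat.card Hb).Coprime (Nat.card Fb) := by
    refine Nat.coprime_of_dvd fun r hr hrH hrF => ?_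
    haveI := Fact.mk hr
    obtain ⟨⟨z, hz⟩, hzo⟩ := exists_prime_orderOf_dvd_card' r hrH
    rw [← Subgroup.orderOf_coe] at hzo
    have hz1 : z ≠ 1 := fun h => hr.ne_one (by subst h; rw [← hzo, orderOf_one])
    letI : MulAction (zpowers z) Fb :=
      MulAction.compHom Fb ((MulAut.conjNormal : (G ⧸ N) →* MulAut Fb).comp (zpowers z).subtype)
    have hp : IsPGroup r (zpowers z) := IsPGroup.of_card (n := 1) (by rw [Nat.card_zpowers, hzo, pow_one])
    have h1 : (1 : Fb) ∈ MulAction.fixedPoints (zpowers z) Fb := fun g =>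
      map_one (MulAut.conjNormal (g : G ⧸ N))
    obtain ⟨b, hb, hb1⟩ := hp.exists_fixed_point_of_prime_dvd_card_of_fixed_point Fb hrF h1
    have hcom : z * (b : G ⧸ N) * z⁻¹ = b := by
      have := congrArg Subtype.val (hb ⟨z, mem_zpowers z⟩)
      rw [← MulAut.conjNormal_apply (H := Fb) z b]
      exact this
    have hbH : (b : G ⧸ N) ∈ Hb := Frobenius.mem_of_commute hHb hz hz1 (mul_inv_eq_iff_eq_mul.1 hcom)
    exact hb1 (Subtype.ext ((eq_bot_iff_forall _).1 hFH _ ⟨b.2, hbH⟩)).symm
  -- an invariant Sylow of the kernel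
  obtain ⟨q, hq, hbad⟩ : ∃ q : ℕ, q.Prime ∧ ∀ R : Sylow q Fb, ¬ (R : Subgroup Fb).map Fb.subtype ≤ C := by
    by_contra hc
    push Not at hc
    exact hnot (Coprime.le_of_forall_sylow fun p hp => hc p hp)
  haveI := Fact.mk hq
  obtain ⟨R0, hR0⟩ := Coprime.exists_invariant_sylow (A := Hb) (K := Fb)
    le_normalizer_of_normal hcopFH (Or.inl inferInstance) q
  set R : Subgroup (G ⧸ N) := (R0 : Subgroup Fb).map Fb.subtype with hR
  have hRF : R ≤ Fb := map_subtype_le _
  have hRC : ¬ R ≤ C := hbad R0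
  have hRq : IsPGroup q R := R0.2.map _
  have hqF : q ∣ Nat.card Fb := by
    by_contra h
    obtain ⟨k, hk⟩ := IsPGroup.iff_card.1 hRq
    rcases k with _ | k
    · rw [pow_zero, card_eq_one] at hk
      exact hRC (hk.le.trans bot_le)
    · exact h ((hk ▸ dvd_pow_self q k.succ_ne_zero : q ∣ Nat.card R).trans (card_dvd_of_le hRF))
  have hqN : ¬ q ∣ Nat.card N := fun h =>
    hq.ne_one (Nat.eq_one_of_dvd_coprimes hcop hqF h)
  -- lift to a Sylow subgroup of the preimage
  set M : Subgroup G := R.comap π with hM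
  obtain ⟨Q0⟩ := (inferInstance : Nonempty (Sylow q M))
  set Q : Subgroup G := (Q0 : Subgroup M).map M.subtype with hQ
  have hQM : Q ≤ M := map_subtype_le _
  have hQq : IsPGroup q Q := Q0.2.map _
  have hQN : Q ⊓ N = ⊥ := by
    refine Coprime.inf_eq_bot_of_coprime ?_
    obtain ⟨k, hk⟩ := IsPGroup.iff_card.1 hQq
    rw [hk]
    exact Nat.Coprime.pow_left _ (hq.coprime_iff_not_dvd.2 hqN)
  have hcM : Nat.card M = Nat.card N * Nat.card R := by
    have h := Subgroup.relIndex_bot_left (G := G) M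
    rw [← h, ← Subgroup.relIndex_mul_relIndex ⊥ N M bot_le
      (fun x hx => by rw [hM, mem_comap, show π x = 1 from (QuotientGroup.eq_one_iff x).2 hx]; exact one_mem R),
      Subgroup.relIndex_bot_left]
    congr 1
    have e := relIndex_comap (f := π) (⊥ : Subgroup (G ⧸ N)) M
    rw [MonoidHom.comap_bot, hπ, QuotientGroup.ker_mk'] at e
    rw [e, hM, map_comap_eq_self_of_surjective (QuotientGroup.mk'_surjective N), relIndex_bot_left]
  have hQmap : Q.map π = R := by
    refine eq_of_le_of_card_ge (map_le_iff_le_comap.2 hQM) ?_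
    have hinj : Function.Injective (π.comp Q.subtype) := by
      rw [injective_iff_map_eq_one]
      intro x hx
      exact Subtype.ext ((eq_bot_iff_forall _).1 hQN _ ⟨x.2, (QuotientGroup.eq_one_iff _).1 hx⟩)
    have h1 : Nat.card (Q.map π) = Nat.card Q := by
      rw [Nat.card_congr (MonoidHom.ofInjective hinj).toEquiv, MonoidHom.range_comp, range_subtype]
    rw [h1]
    obtain ⟨k, hk⟩ := IsPGroup.iff_card.1 hRq
    have h2 : q ^ k ∣ Nat.card Q := by
      rw [hQ, Coprime.card_sylow_map]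
      refine pow_dvd_pow q ((hq.pow_dvd_iff_le_factorization Nat.card_pos.ne').1 ?_)
      rw [hcM, hk]
      exact dvd_mul_left _ _
    rw [hk]
    exact Nat.le_of_dvd Nat.card_pos h2
  obtain ⟨hb, hbgen⟩ := IsCyclic.exists_generator (α := ↥Hb)
  have hob : orderOf (hb : G ⧸ N) = m := by
    rw [Subgroup.orderOf_coe]; exact orderOf_eq_card_of_forall_mem_zpowers hbgen
  obtain ⟨g1, hg1⟩ := QuotientGroup.mk'_surjective N (hb : G ⧸ N)
  have hg1M : g1 ∈ normalizer (M : Set G) := by
    rw [mem_normalizer_iff]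
    intro x
    show π x ∈ R ↔ π (g1 * x * g1⁻¹) ∈ R
    rw [map_mul, map_mul, map_inv, hπ, hg1]
    exact mem_normalizer_iff.1 (hR0 hb.2) _
  obtain ⟨h2, hh2Q, hh2π⟩ : ∃ g : G, g ∈ normalizer (Q : Set G) ∧ π g = (hb : G ⧸ N) := by
    obtain ⟨Q1, hQ1⟩ := Coprime.exists_sylow_of_card (p := q) (H := MulAut.conj g1 • Q)
      ((Subgroup.pointwise_smul_le_pointwise_smul_iff.mpr hQM).trans_eq
        (Coprime.conj_smul_eq_self_of_mem_normalizer hg1M))
      (by rw [Coprime.card_conj_smul, hQ, Coprime.card_sylow_map])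
    obtain ⟨k, hk, hkc⟩ := Coprime.exists_conj_sylow_map Q1 Q0
    have hQ1' : (Q1 : Subgroup M).map M.subtype = MulAut.conj g1 • Q := hQ1
    rw [hQ1', ← hQ, ← Coprime.conj_smul_mul] at hkc
    obtain ⟨x, hxQ, n, hn, rfl⟩ : ∃ x ∈ Q, ∃ n ∈ N, k = x * n := by
      refine Coprime.exists_mul_of_mem_sup le_normalizer_of_normal ?_
      have : π k ∈ Q.map π := hQmap ▸ hk
      rw [← mem_comap, comap_map_eq, hπ, QuotientGroup.ker_mk'] at this
      exact this
    refine ⟨n * g1, Coprime.mem_normalizer_of_conj_smul_eq ?_, ?_⟩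
    · have e : MulAut.conj x⁻¹ • MulAut.conj (x * n * g1) • Q = MulAut.conj (n * g1) • Q := by
        rw [← Coprime.conj_smul_mul]; congr 2; group
      rw [← e, hkc]
      exact Coprime.conj_smul_eq_self_of_mem_normalizer (le_normalizer (inv_mem hxQ))
    · rw [map_mul, show π n = 1 from (QuotientGroup.eq_one_iff n).2 hn, one_mul, hπ, hg1]
  -- a prime where Q acts nontrivially
  have hQnc : ¬ Q ≤ centralizer (N : Set G) := fun h => hRC (hQmap ▸ map_mono h)
  haveI hQsolv : Group.IsSolvable ↥Q := Coprime.isSolvable_of_isPGroup hQq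
  have hcopQN : (Nat.card Q).Coprime (Nat.card N) := by
    obtain ⟨k, hk⟩ := IsPGroup.iff_card.1 hQq
    rw [hk]
    exact Nat.Coprime.pow_left _ (hq.coprime_iff_not_dvd.2 hqN)
  obtain ⟨p, hp, S0, hS0, hS0c⟩ : ∃ p : ℕ, p.Prime ∧ ∃ S0 : Sylow p N,
      Q ≤ normalizer (((S0 : Subgroup N).map N.subtype : Subgroup G) : Set G) ∧
      ¬ Q ≤ centralizer (((S0 : Subgroup N).map N.subtype : Subgroup G) : Set G) := by
    by_contra hc
    push Not at hc
    refine hQnc (le_centralizer_iff.1 (Coprime.le_of_forall_sylow fun p hp => ?_))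
    haveI := Fact.mk hp
    obtain ⟨S0, hS0⟩ := Coprime.exists_invariant_sylow (A := Q) (K := N)
      le_normalizer_of_normal hcopQN (Or.inl inferInstance) p
    exact ⟨S0, le_centralizer_iff.1 (hc p hp S0 hS0)⟩
  haveI := Fact.mk hp
  set S : Subgroup G := (S0 : Subgroup N).map N.subtype with hS
  obtain ⟨h, hhQ, hhS, hhπ⟩ : ∃ h : G, h ∈ normalizer (Q : Set G) ∧ h ∈ normalizer (S : Set G) ∧
      π h = (hb : G ⧸ N) := by
    obtain ⟨S1, hS1⟩ := Coprime.exists_sylow_of_card (p := p) (H := MulAut.conj h2 • S)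
      ((Subgroup.pointwise_smul_le_pointwise_smul_iff.mpr (map_subtype_le _)).trans_eq
        (Coprime.conj_smul_eq_self_of_mem_normalizer (le_normalizer_of_normal (K := (⊤ : Subgroup G)) (mem_top h2))))
      (by rw [Coprime.card_conj_smul, hS, Coprime.card_sylow_map])
    have hS1' : (S1 : Subgroup N).map N.subtype = MulAut.conj h2 • S := hS1
    have hS1inv : Q ≤ normalizer (((S1 : Subgroup N).map N.subtype : Subgroup G) : Set G) := by
      rw [hS1']
      intro x hx
      refine Coprime.mem_normalizer_of_conj_smul_eq ?_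
      have hx' : h2⁻¹ * x * h2 ∈ Q := by
        have := (mem_normalizer_iff.1 (inv_mem hh2Q) x).1 hx
        simpa using this
      calc MulAut.conj x • MulAut.conj h2 • S
          = MulAut.conj h2 • MulAut.conj (h2⁻¹ * x * h2) • S := by
            rw [← Coprime.conj_smul_mul, ← Coprime.conj_smul_mul]; congr 2; group
        _ = MulAut.conj h2 • S := by rw [Coprime.conj_smul_eq_self_of_mem_normalizer (hS0 hx')]
    obtain ⟨c, hc, hcc⟩ := Coprime.exists_conj_invariant_sylow le_normalizer_of_normal hcopQN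
      (Or.inl inferInstance) S1 S0 hS1inv hS0
    rw [hS1', ← Coprime.conj_smul_mul] at hcc
    refine ⟨c * h2, mul_mem (centralizer_le_normalizer _ hc.2) hh2Q,
      Coprime.mem_normalizer_of_conj_smul_eq hcc, ?_⟩
    rw [map_mul, show π c = 1 from (QuotientGroup.eq_one_iff c).2 hc.1, one_mul, hh2π]
  -- elements of the coset
  have hgen : ∀ g : G, π g = (hb : G ⧸ N) → m ∣ orderOf g ∧ g ^ m ∈ N := by
    intro g hg
    refine ⟨hob ▸ hg ▸ orderOf_map_dvd π g, (QuotientGroup.eq_one_iff _).1 ?_⟩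
    show π (g ^ m) = 1
    rw [map_pow, hg, ← hob, pow_orderOf_eq_one]
  by_contra hcon
  have hone : ∀ g : G, π g = (hb : G ⧸ N) → g ^ m = 1 := fun g hg => by
    by_contra hne
    exact hcon (order_step N (hgen g hg).1 (hgen g hg).2 hne)
  have hmpos : 0 < m := Nat.card_pos
  refine hS0c (centralizes_of_no_big_order (p := p) Q h m hmpos (hone h hhπ) hhQ ?_ ?_
    (Nat.card S) S le_rfl (S0.2.map _) hS0 hhS (fun u hu => hone _ ?_))
  · intro i hi him x hx hcomm
    have hxF : π x ∈ Fb := hRF (hQmap ▸ mem_map_of_mem π hx)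
    have hpow : (hb : G ⧸ N) ^ i ≠ 1 := fun h0 => by
      have := Nat.le_of_dvd hi (hob ▸ orderOf_dvd_of_pow_eq_one h0)
      omega
    have hcom' : (hb : G ⧸ N) ^ i * π x = π x * (hb : G ⧸ N) ^ i := by
      rw [← hhπ, ← map_pow, ← map_mul, ← map_mul, hcomm]
    have hxH : π x ∈ Hb := Frobenius.mem_of_commute hHb (pow_mem hb.2 i) hpow hcom'
    have : π x = 1 := (eq_bot_iff_forall _).1 hFH _ ⟨hxF, hxH⟩
    exact (eq_bot_iff_forall _).1 hQN _ ⟨hx, (QuotientGroup.eq_one_iff x).1 this⟩
  · intro hpQ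
    obtain ⟨k, hk⟩ := IsPGroup.iff_card.1 hQq
    have := (Nat.prime_dvd_prime_iff_eq hp hq).1 (hp.dvd_of_dvd_pow (hk ▸ hpQ))
    subst this
    refine hS0c ?_
    have : S = ⊥ := by
      rw [← card_eq_one, hS, Coprime.card_sylow_map, Nat.factorization_eq_zero_of_not_dvd hqN, pow_zero]
    rw [this]
    intro x _
    rw [mem_centralizer_iff]
    intro y hy
    rw [SetLike.mem_coe, mem_bot] at hy
    rw [hy, one_mul, mul_one]
  · rw [map_mul, show π u = 1 from (QuotientGroup.eq_one_iff u).2 (map_subtype_le _ hu), one_mul, hhπ]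


/-- Let N be a normal subgroup of the finite group G such that G/N is a Frobenius group with kernel F and cyclic complement H, where the order of F is coprime to that of N and F is not contained in the image of C_G(N) in G/N. Then G has an element of order p·#H for some prime p dividing the order of N. (A standard tool in recognising groups by their element orders.) -/
theorem result {G : Type*} [Group G] [Finite G] (N : Subgroup G) [N.Normal]
    (Fb Hb : Subgroup (G ⧸ N)) [Fb.Normal] (hHb : Cfsg.IsFrobeniusComplement Hb) (hker : Cfsg.frobeniusKernel Hb = (Fb : Set (G ⧸ N)))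
    (hcyc : IsCyclic Hb) (hcop : (Nat.card Fb).Coprime (Nat.card N))
    (hnot : ¬ Fb ≤ (Subgroup.centralizer (N : Set G)).map (QuotientGroup.mk' N)) :
    ∃ p : ℕ, p.Prime ∧ p ∣ Nat.card N ∧ ∃ g : G, orderOf g = p * Nat.card Hb := by
  exact main N Fb Hb hHb hker hcyc hcop hnot

end Cfsg.Agent.S3703
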