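import Cfsg.Statements.S3704
import Mathlib

set_option autoImplicit false
open Cfsg

namespace Cfsg.Agent.S3704

open MulAction Matrix

theorem injective_of_mul_eq {ι : Type*} [Fintype ι] [DecidableEq ι] (M : Matrix ι ι ℚ) (a b : ℚ)
    (ha : 0 < a) (hb : 0 ≤ b)
    (h : ∀ i j, ∑ x, M x i * M x j = (if i = j then a else 0) + b) :
    Function.Injective (fun v : ι → ℚ => fun i => ∑ x, M x i * v x) := by
  have hinj : Function.Injective M.mulVec := by
    intro v w hvw
    have hz : M *ᵥ (v - w) = 0 := by rw [Matrix.mulVec_sub, hvw, sub_self]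
    set u := v - w with hu
    have h1 : ∀ i, a * u i + b * ∑ j, u j = 0 := by
      intro i
      have h2 : ∑ x, M x i * (M *ᵥ u) x = 0 := by simp [hz]
      simp only [Matrix.mulVec, dotProduct, Finset.mul_sum] at h2
      rw [Finset.sum_comm] at h2
      calc a * u i + b * ∑ j, u j = ∑ j, ((if i = j then a else 0) + b) * u j := by
            simp [add_mul, Finset.sum_add_distrib, Finset.mul_sum]
        _ = ∑ j, ∑ x, M x i * (M x j * u j) := by
            refine Finset.sum_congr rfl fun j _ => ?_
            rw [← h, Finset.sum_mul]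
            exact Finset.sum_congr rfl fun x _ => mul_assoc _ _ _
        _ = 0 := h2
    have h3 : (a + b * Fintype.card ι) * ∑ j, u j = 0 := by
      have := Finset.sum_eq_zero (s := Finset.univ) fun i _ => h1 i
      rw [Finset.sum_add_distrib, ← Finset.mul_sum, Finset.sum_const, Finset.card_univ, nsmul_eq_mul] at this
      linarith [this]
    have hpos : 0 < a + b * Fintype.card ι := by positivity
    have hs : ∑ j, u j = 0 := (mul_eq_zero.1 h3).resolve_left hpos.ne'
    have : u = 0 := funext fun i => by
      have := h1 i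
      rw [hs, mul_zero, add_zero] at this
      exact (mul_eq_zero.1 this).resolve_left ha.ne'
    exact sub_eq_zero.1 this
  have hu : IsUnit Mᵀ := (Matrix.isUnit_transpose M).2 (Matrix.mulVec_injective_iff_isUnit.1 hinj)
  have := Matrix.mulVec_injective_iff_isUnit.2 hu
  exact this

variable {G Ω : Type*} [Group G] [MulAction G Ω]

open Classical in
/-- incidence of points in translates of an orbit -/
noncomputable def inc (H : Subgroup G) (O : MulAction.orbitRel.Quotient H Ω) (g : G) (w : Ω) : ℚ :=
  if (Quotient.mk'' (g⁻¹ • w) : MulAction.orbitRel.Quotient H Ω) = O then 1 else 0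

theorem inc_mul_right (H : Subgroup G) (O : MulAction.orbitRel.Quotient H Ω) (g h : G) (hh : h ∈ H)
    (w : Ω) : inc H O (g * h) w = inc H O g w := by
  have e : (Quotient.mk'' ((g * h)⁻¹ • w) : MulAction.orbitRel.Quotient H Ω) =
      Quotient.mk'' (g⁻¹ • w) := by
    refine Quotient.eq''.2 ?_
    rw [MulAction.orbitRel_apply, _root_.mul_inv_rev, mul_smul]
    exact ⟨(⟨h, hh⟩ : H)⁻¹, rfl⟩
  unfold inc
  rw [e]


/-- Let G be a finite group acting faithfully and 2-transitively on a finite set Ω of size n, and let H be a subgroup of index n in G which is not transitive on Ω and fixes no point of Ω. Then H has exactly two orbits on Ω. -/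
theorem result {G Ω : Type*} [Group G] [Finite G] [MulAction G Ω] [FaithfulSMul G Ω] [Finite Ω] (h2 : MulAction.IsMultiplyPretransitive G Ω 2) (H : Subgroup G) (hidx : H.index = Nat.card Ω) (hnt : ¬ MulAction.IsPretransitive H Ω) (hfix : ∀ a : Ω, ∃ h : H, h • a ≠ a) : Nat.card (MulAction.orbitRel.Quotient H Ω) = 2 := by
  classical
  haveI := Fintype.ofFinite G
  haveI := Fintype.ofFinite Ω
  haveI : IsPretransitive G Ω := isPretransitive_of_is_two_pretransitive
  haveI : Fintype (G ⧸ H) := Fintype.ofFinite _
  set Q := MulAction.orbitRel.Quotient H Ω with hQ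
  -- two orbits exist
  have hne2 : ∃ O P : Q, O ≠ P := by
    by_contra hc
    push Not at hc
    exact hnt ⟨fun x y => by
      have := hc (Quotient.mk'' y) (Quotient.mk'' x)
      exact (MulAction.orbitRel_apply.1 (Quotient.eq''.1 this))⟩
  obtain ⟨O₁, O₂, hO⟩ := hne2
  rw [Nat.card_eq_fintype_card]
  have h2le : 2 ≤ Fintype.card Q := Fintype.one_lt_card_iff.2 ⟨O₁, O₂, hO⟩
  by_contra hne
  obtain ⟨A, B, C, hAB, hAC, hBC⟩ := (Fintype.two_lt_card_iff (α := Q)).1 (by omega)
  -- reps
  have hcardE : Fintype.card (G ⧸ H) = Fintype.card Ω := by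
    rw [← Nat.card_eq_fintype_card, ← Nat.card_eq_fintype_card, ← hidx, Subgroup.index]
  let e : Ω ≃ G ⧸ H := Fintype.equivOfCardEq hcardE.symm
  let S : Q → Q → Ω → Ω → ℚ := fun O P v w => ∑ x : G ⧸ H, inc H O (Quotient.out x) v * inc H P (Quotient.out x) w
  have hS : ∀ O P (g : G) v w, S O P (g • v) (g • w) = S O P v w := by
    intro O P g v w
    refine (Fintype.sum_bijective (fun x : G ⧸ H => g • x) (MulAction.bijective g) _ _ fun x => ?_).symm
    obtain ⟨k, hk⟩ : ∃ k ∈ H, Quotient.out (g • x) = (g * Quotient.out x) * k := by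
      refine ⟨(g * Quotient.out x)⁻¹ * Quotient.out (g • x), QuotientGroup.eq.1 ?_, by group⟩
      show ((g * Quotient.out x : G) : G ⧸ H) = ((Quotient.out (g • x) : G) : G ⧸ H)
      rw [show ((Quotient.out (g • x) : G) : G ⧸ H) = g • x from Quotient.out_eq _]
      conv_rhs => rw [← show ((Quotient.out x : G) : G ⧸ H) = x from Quotient.out_eq _]
      rfl
    show inc H O (Quotient.out x) v * inc H P (Quotient.out x) w =
      inc H O (Quotient.out (g • x)) (g • v) * inc H P (Quotient.out (g • x)) (g • w)
    rw [hk.2, inc_mul_right _ _ _ _ hk.1, inc_mul_right _ _ _ _ hk.1]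
    simp [inc, smul_smul]
  -- constants
  have hΩ : ∃ v w : Ω, v ≠ w := by
    induction O₁ using Quotient.inductionOn' with
    | h v => induction O₂ using Quotient.inductionOn' with
      | h w => exact ⟨v, w, fun h => hO (h ▸ rfl)⟩
  obtain ⟨v₀, w₀, hvw⟩ := hΩ
  have h2t : ∀ {a b c d : Ω}, a ≠ b → c ≠ d → ∃ g : G, g • a = c ∧ g • b = d :=
    MulAction.is_two_pretransitive_iff.1 h2
  have hoff : ∀ O P v w, v ≠ w → S O P v w = S O P v₀ w₀ := fun O P v w h => by
    obtain ⟨g, rfl, rfl⟩ := h2t hvw h
    exact hS O P g v₀ w₀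
  have hdiag : ∀ O P v, S O P v v = S O P v₀ v₀ := fun O P v => by
    obtain ⟨g, rfl⟩ := exists_smul_eq G v₀ v
    exact hS O P g v₀ v₀
  have h01 : ∀ (O : Q) (g : G) (w : Ω), inc H O g w = 1 ∨ inc H O g w = 0 := fun O g w => by
    unfold inc; split_ifs <;> simp
  have hdisj : ∀ O P : Q, O ≠ P → ∀ g w, inc H O g w * inc H P g w = 0 := fun O P h g w => by
    unfold inc
    split_ifs with h1 h2 <;> simp
    exact h (h1.symm.trans h2)
  set b := S A A v₀ w₀ with hb
  set a := S A A v₀ v₀ - b with ha
  have hb0 : 0 ≤ b := Finset.sum_nonneg fun x _ =>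
    mul_nonneg (by rcases h01 A (Quotient.out x) v₀ with h | h <;> simp [h])
      (by rcases h01 A (Quotient.out x) w₀ with h | h <;> simp [h])
  have hnn : ∀ x : G ⧸ H, ∀ v w, 0 ≤ inc H A (Quotient.out x) v - inc H A (Quotient.out x) v * inc H A (Quotient.out x) w := by
    intro x v w
    rcases h01 A (Quotient.out x) v with h | h <;> rcases h01 A (Quotient.out x) w with h' | h' <;> simp [h, h']
  have hsub : ∀ v w, S A A v v - S A A v w = ∑ x : G ⧸ H, (inc H A (Quotient.out x) v - inc H A (Quotient.out x) v * inc H A (Quotient.out x) w) := by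
    intro v w
    simp only [S, ← Finset.sum_sub_distrib]
    refine Finset.sum_congr rfl fun x _ => ?_
    rcases h01 A (Quotient.out x) v with h | h <;> simp [h]
  have hrep : ∀ O : Q, ∃ (x : G ⧸ H) (u : Ω), inc H O (Quotient.out x) u = 1 := by
    intro O
    induction O using Quotient.inductionOn' with
    | h u => exact ⟨((1 : G) : G ⧸ H), (Quotient.out ((1 : G) : G ⧸ H)) • u, by simp [inc]⟩
  have ha0 : 0 < a := by
    by_contra hle
    push Not at hle
    -- every coset containing a point contains all points
    obtain ⟨x, u, hu⟩ := hrep A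
    have key : ∀ w, inc H A (Quotient.out x) w = 1 := by
      intro w
      by_cases huw : u = w
      · exact huw ▸ hu
      have h0 : S A A u u - S A A u w ≤ 0 := by rw [hdiag, hoff A A u w huw]; exact hle
      rw [hsub] at h0
      have := (Finset.sum_eq_zero_iff_of_nonneg fun y _ => hnn y u w).1
        (le_antisymm h0 (Finset.sum_nonneg fun y _ => hnn y u w)) x (Finset.mem_univ x)
      rw [hu, one_mul, sub_eq_zero] at this
      exact this.symm
    induction B using Quotient.inductionOn' with
    | h w =>
      have := key ((Quotient.out x) • w)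
      simp only [inc, inv_smul_smul] at this
      split_ifs at this with h
      · exact hAB h.symm
      · exact zero_ne_one this
  -- the matrices
  let M : Q → Matrix Ω Ω ℚ := fun O => Matrix.of fun i w => inc H O (Quotient.out (e i)) w
  have hM : ∀ O P v w, ∑ i, M O i v * M P i w = S O P v w := fun O P v w =>
    Fintype.sum_equiv e _ _ fun i => rfl
  have hMA : ∀ v w, ∑ i, M A i v * M A i w = (if v = w then a else 0) + b := by
    intro v w
    rw [hM]
    by_cases h : v = w
    · rw [if_pos h, ← h, hdiag, ha, sub_add_cancel]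
    · rw [if_neg h, zero_add, hoff A A v w h]
  have hinj := injective_of_mul_eq (M A) a b ha0 hb0 hMA
  -- k = orbit size
  set k : ℚ := ∑ i, M A i v₀ with hk
  have hksum : ∀ v, ∑ i, M A i v = k := fun v => by
    have : ∀ u, ∑ i, M A i u = S A A u u := fun u => by
      rw [← hM]
      refine Finset.sum_congr rfl fun i _ => ?_
      rcases h01 A (Quotient.out (e i)) u with h | h <;> simp [M, h]
    rw [hk, this, this, hdiag]
  have hk0 : k ≠ 0 := by
    have : k = S A A v₀ v₀ := by
      rw [hk, ← hM]
      refine Finset.sum_congr rfl fun i _ => ?_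
      rcases h01 A (Quotient.out (e i)) v₀ with h | h <;> simp [M, h]
    rw [this, show S A A v₀ v₀ = a + b by rw [ha]; ring]
    positivity
  -- c = the cross term
  set c := S A B v₀ w₀ with hc
  set α := -c / a with hα
  set β := (c - α * b) / k with hβ
  have hcol : ∀ w, (fun i => M B i w) = fun i => α * M A i w + β := by
    intro w
    apply hinj
    funext v
    show ∑ i, M A i v * M B i w = ∑ i, M A i v * (α * M A i w + β)
    simp only [mul_add, Finset.sum_add_distrib]
    rw [hM, ← Finset.sum_mul, hksum]
    have e1 : ∑ i, M A i v * (α * M A i w) = α * ((if v = w then a else 0) + b) := by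
      rw [← hMA, Finset.mul_sum]
      exact Finset.sum_congr rfl fun i _ => by ring
    rw [e1]
    by_cases h : v = w
    · subst h
      have : S A B v v = 0 := Finset.sum_eq_zero fun x _ => hdisj A B hAB _ _
      rw [this, if_pos rfl, hβ, hα]
      field_simp
      ring
    · rw [if_neg h, zero_add, hoff A B v w h, ← hc, hβ]
      field_simp
      ring
  obtain ⟨i0, hi0⟩ := e.surjective ((1 : G) : G ⧸ H)
  have val : ∀ (O : Q) (u : Ω),
      M O i0 ((Quotient.out ((1 : G) : G ⧸ H)) • u) = if (Quotient.mk'' u : Q) = O then 1 else 0 := fun O u => by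
    simp [M, hi0, inc]
  induction A using Quotient.inductionOn' with
  | h uA => induction B using Quotient.inductionOn' with
    | h uB => induction C using Quotient.inductionOn' with
      | h uC =>
        have eA := congrFun (hcol ((Quotient.out ((1 : G) : G ⧸ H)) • uA)) i0
        have eB := congrFun (hcol ((Quotient.out ((1 : G) : G ⧸ H)) • uB)) i0
        have eC := congrFun (hcol ((Quotient.out ((1 : G) : G ⧸ H)) • uC)) i0
        simp only [val, if_neg hAB, if_neg (Ne.symm hAB), if_neg (Ne.symm hAC), if_neg (Ne.symm hBC),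
          if_true] at eA eB eC
        linarith

end Cfsg.Agent.S3704
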