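import Cfsg.Statements.S3707
import Mathlib.GroupTheory.GroupAction.Jordan

set_option autoImplicit false
open Cfsg

namespace Cfsg.Agent.S3707
open MulAction

section
variable (G : Type*) {Ω : Type*} [Group G] [MulAction G Ω]

/-- The pointwise stabilizer of the complement of `J` is transitive on `J`. -/
def IsJordan (J : Set Ω) : Prop :=
  ∀ x ∈ J, ∀ y ∈ J, ∃ g : G, (∀ z ∉ J, g • z = z) ∧ g • x = y

variable {G}

theorem isJordan_image {J : Set Ω} (h : IsJordan G J) (k : G) : IsJordan G ((k • ·) '' J) := by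
  rintro _ ⟨x, hx, rfl⟩ _ ⟨y, hy, rfl⟩
  obtain ⟨g, hg, hgx⟩ := h x hx y hy
  refine ⟨k * g * k⁻¹, fun z hz => ?_, ?_⟩
  · rw [mul_smul, mul_smul, hg _ (fun hm => hz ⟨_, hm, smul_inv_smul k z⟩), smul_inv_smul]
  · simp only [mul_smul, inv_smul_smul, hgx]

theorem isJordan_union {J J' : Set Ω} (h : IsJordan G J) (h' : IsJordan G J') {w : Ω} (hw : w ∈ J)
    (hw' : w ∈ J') : IsJordan G (J ∪ J') := by
  have key : ∀ x ∈ J ∪ J', ∃ g : G, (∀ z ∉ J ∪ J', g • z = z) ∧ g • x = w := by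
    rintro x (hx | hx)
    · obtain ⟨g, hg, hgx⟩ := h x hx w hw
      exact ⟨g, fun z hz => hg z fun hz' => hz (Or.inl hz'), hgx⟩
    · obtain ⟨g, hg, hgx⟩ := h' x hx w hw'
      exact ⟨g, fun z hz => hg z fun hz' => hz (Or.inr hz'), hgx⟩
  intro x hx y hy
  obtain ⟨g, hg, hgx⟩ := key x hx
  obtain ⟨k, hk, hky⟩ := key y hy
  refine ⟨k⁻¹ * g, fun z hz => ?_, ?_⟩
  · rw [mul_smul, hg z hz, inv_smul_eq_iff, hk z hz]
  · rw [mul_smul, hgx, inv_smul_eq_iff, hky]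

theorem two_pretransitive [Finite Ω] (hprim : IsPreprimitive G Ω) {Γ : Set Ω} (h1 : 1 < Γ.ncard)
    (hne : Γ.ncard < Nat.card Ω) (htr : IsJordan G Γ) : IsMultiplyPretransitive G Ω 2 := by
  have hsum := Set.ncard_add_ncard_compl Γ
  refine hprim.is_two_pretransitive (s := Γᶜ) (n := Γᶜ.ncard - 1) (by omega) (by omega) ⟨?_⟩
  rintro ⟨x, hx⟩ ⟨y, hy⟩
  obtain ⟨g, hg, hgx⟩ := htr x (by simpa [SubMulAction.mem_ofFixingSubgroup_iff] using hx) y
    (by simpa [SubMulAction.mem_ofFixingSubgroup_iff] using hy)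
  exact ⟨⟨g, (mem_fixingSubgroup_iff G).2 fun z hz => hg z hz⟩, Subtype.ext hgx⟩

/-- Two points out of a Jordan set of co-size two: three-fold transitivity. -/
theorem three_pretransitive [Finite Ω] (h2 : IsMultiplyPretransitive G Ω 2) {J : Set Ω} (hJ : IsJordan G J)
    (hc : Jᶜ.ncard = 2) : IsMultiplyPretransitive G Ω 3 := by
  obtain ⟨x0, y0, hxy, hJc⟩ := Set.ncard_eq_two.1 hc
  rw [isMultiplyPretransitive_iff]
  intro x y
  have hx01 : x 0 ≠ x 1 := x.injective.ne (by decide)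
  have hy01 : y 0 ≠ y 1 := y.injective.ne (by decide)
  obtain ⟨g, hg0, hg1⟩ := is_two_pretransitive_iff.1 h2 hx01 hy01
  obtain ⟨h, hh0, hh1⟩ := is_two_pretransitive_iff.1 h2 hxy hy01
  have hmem : ∀ z : Ω, z ≠ y 0 → z ≠ y 1 → z ∈ (h • ·) '' J := by
    intro z hz0 hz1
    refine ⟨h⁻¹ • z, ?_, smul_inv_smul h z⟩
    by_contra hn
    have : h⁻¹ • z ∈ ({x0, y0} : Set Ω) := hJc ▸ hn
    rcases this with e | e
    · exact hz0 (by rw [← hh0, ← e, smul_inv_smul])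
    · exact hz1 (by rw [← hh1, ← Set.mem_singleton_iff.1 e, smul_inv_smul])
  have hout : ∀ z, z = x0 ∨ z = y0 → h • z ∉ (h • ·) '' J := by
    rintro z hz ⟨w, hw, e⟩
    rw [smul_left_cancel_iff] at e
    have : z ∈ Jᶜ := by rw [hJc]; simpa using hz
    exact this (e ▸ hw)
  obtain ⟨k, hk, hkx⟩ := isJordan_image hJ h (g • x 2)
    (hmem _ (by rw [← hg0]; simp [smul_left_cancel_iff, x.injective.eq_iff])
      (by rw [← hg1]; simp [smul_left_cancel_iff, x.injective.eq_iff])) (y 2)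
    (hmem _ (by simp [y.injective.eq_iff]) (by simp [y.injective.eq_iff]))
  refine ⟨k * g, DFunLike.ext _ _ fun i => ?_⟩
  rw [Function.Embedding.smul_apply, mul_smul]
  fin_cases i
  · show k • g • x 0 = y 0
    rw [hg0]; exact hk _ (hh0 ▸ hout x0 (Or.inl rfl))
  · show k • g • x 1 = y 1
    rw [hg1]; exact hk _ (hh1 ▸ hout y0 (Or.inr rfl))
  · exact hkx

/-- A Jordan set of at most half of the points gives one of co-size two. -/
theorem exists_cosize_two [Finite Ω] (h2t : IsMultiplyPretransitive G Ω 2) {Γ : Set Ω} (h1 : 1 < Γ.ncard)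
    (h2 : 2 * Γ.ncard ≤ Nat.card Ω) (htr : IsJordan G Γ) :
    ∃ J : Set Ω, IsJordan G J ∧ Jᶜ.ncard = 2 := by
  classical
  have two : ∀ (a b c d : Ω), a ≠ b → c ≠ d → ∃ g : G, g • a = c ∧ g • b = d :=
    fun a b c d h h' => is_two_pretransitive_iff.1 h2t h h'
  have hΓc := Set.ncard_add_ncard_compl Γ
  obtain ⟨J, ⟨hJ, hJc⟩, hmin⟩ := ((Set.toFinite {J : Set Ω | IsJordan G J ∧ 2 ≤ Jᶜ.ncard})).exists_minimalFor
    (fun J => Jᶜ.ncard) _ ⟨Γ, htr, by omega⟩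
  refine ⟨J, hJ, le_antisymm ?_ hJc⟩
  by_contra h3
  push Not at h3
  have hJsum := Set.ncard_add_ncard_compl J
  have hcard : ∀ (S : Set Ω) (g : G), ((g • ·) '' S).ncard = S.ncard :=
    fun S g => Set.ncard_image_of_injective S (MulAction.injective g)
  have hmax : ∀ J' : Set Ω, IsJordan G J' → (∃ a ∈ J', a ∈ J) → (∃ a ∈ J', a ∉ J) →
      (Jᶜ \ J').ncard ≤ 1 := by
    rintro J' hJ' ⟨a, ha', ha⟩ ⟨c, hc', hc⟩
    by_contra hcon
    push Not at hcon
    have hlt : (J ∪ J')ᶜ.ncard < Jᶜ.ncard := by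
      refine Set.ncard_lt_ncard ⟨Set.compl_subset_compl.2 Set.subset_union_left, fun hsub => ?_⟩
      exact hsub hc (Or.inr hc')
    have hge : 2 ≤ (J ∪ J')ᶜ.ncard := by
      rw [Set.compl_union, ← Set.diff_eq]; omega
    exact absurd (hmin ⟨isJordan_union hJ hJ' ha ha', hge⟩ hlt.le) (not_le.2 hlt)
  obtain ⟨p, hp⟩ : Jᶜ.Nonempty := Set.nonempty_of_ncard_ne_zero (by omega)
  obtain ⟨e1, he1, e2, he2, he12⟩ := (Set.one_lt_ncard Γ.toFinite).1 h1
  have hJne : J.Nonempty := by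
    rcases J.eq_empty_or_nonempty with hE | hE
    · exfalso
      have hu : Jᶜ.ncard ≤ Γᶜ.ncard := by
        by_contra hlt
        push Not at hlt
        exact absurd (hmin ⟨htr, by omega⟩ hlt.le) (not_le.2 hlt)
      rw [hE, Set.compl_empty, Set.ncard_univ] at hu
      omega
    · exact hE
  obtain ⟨a, ha⟩ := hJne
  -- the co-size is at most `m`, and `J` is at least half
  have hkm : Jᶜ.ncard ≤ Γ.ncard := by
    obtain ⟨g, hga, hgp⟩ := two e1 e2 a p he12 (fun e => hp (e ▸ ha))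
    have hl := hmax _ (isJordan_image htr g) ⟨a, ⟨e1, he1, hga⟩, ha⟩ ⟨p, ⟨e2, he2, hgp⟩, hp⟩
    have h4 : (Jᶜ ∩ (g • ·) '' Γ).ncard ≤ Γ.ncard - 1 := by
      have h5 : Jᶜ ∩ (g • ·) '' Γ ⊆ ((g • ·) '' Γ) \ {a} := fun z hz => ⟨hz.2, fun e => hz.1 ((Set.mem_singleton_iff.1 e) ▸ ha)⟩
      refine (Set.ncard_le_ncard h5).trans ?_
      rw [Set.ncard_diff_singleton_of_mem (show a ∈ (g • ·) '' Γ from ⟨e1, he1, hga⟩), hcard]
    have h6 := Set.ncard_inter_add_ncard_diff_eq_ncard Jᶜ ((g • ·) '' Γ)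
    omega
  -- two translates of the complement meet in at most one point
  have hline : ∀ (g : G) (z1 z2 : Ω), z1 ≠ z2 → z1 ∈ Jᶜ → z2 ∈ Jᶜ → g • z1 ∈ Jᶜ → g • z2 ∈ Jᶜ →
      ∀ z, g • z ∈ Jᶜ ↔ z ∈ Jᶜ := by
    intro g z1 z2 hz hz1 hz2 hgz1 hgz2 z
    by_cases hsub : ∀ x ∈ Jᶜ, g • x ∈ Jᶜ
    · have heq : (g • ·) '' Jᶜ = Jᶜ :=
        Set.eq_of_subset_of_ncard_le (fun _ ⟨x, hx, e⟩ => e ▸ hsub x hx) (hcard Jᶜ g).ge
      refine ⟨fun hgz => ?_, hsub z⟩
      rw [← heq] at hgz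
      obtain ⟨x, hx, e⟩ := hgz
      exact (MulAction.injective g e) ▸ hx
    · exfalso
      push Not at hsub
      obtain ⟨x, hx, hgx⟩ := hsub
      have hmeetJ : ∃ b ∈ (g • ·) '' J, b ∈ J := by
        by_contra hcon
        push Not at hcon
        have hs : (g • ·) '' J ⊆ Jᶜ := fun b hb => hcon b hb
        have := Set.ncard_le_ncard hs
        rw [hcard] at this
        have he := Set.eq_of_subset_of_ncard_le hs (by rw [hcard]; omega)
        obtain ⟨w, hw, e⟩ : g • z1 ∈ (g • ·) '' J := he ▸ hgz1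
        exact hz1 ((MulAction.injective g e) ▸ hw)
      have hmeetC : ∃ b ∈ (g • ·) '' J, b ∉ J := by
        by_contra hcon
        push Not at hcon
        have he := Set.eq_of_subset_of_ncard_le (show (g • ·) '' J ⊆ J from fun b hb => hcon b hb) (hcard J g).ge
        obtain ⟨w, hw, e⟩ : g • x ∈ (g • ·) '' J := by rw [he]; exact not_not.1 hgx
        exact hx ((MulAction.injective g e) ▸ hw)
      have hl := hmax _ (isJordan_image hJ g) hmeetJ hmeetC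
      have h5 : ({g • z1, g • z2} : Set Ω) ⊆ Jᶜ \ ((g • ·) '' J) := by
        rintro b (rfl | rfl)
        · exact ⟨hgz1, fun ⟨w, hw, e⟩ => hz1 ((MulAction.injective g e) ▸ hw)⟩
        · exact ⟨hgz2, fun ⟨w, hw, e⟩ => hz2 ((MulAction.injective g e) ▸ hw)⟩
      have h6 := Set.ncard_le_ncard h5
      rw [Set.ncard_pair (fun e => hz (MulAction.injective g e))] at h6
      omega
  -- no translate of `Γ` lies in `Jᶜ`
  have hnotin : ∀ g : G, ¬ (∀ x ∈ Γ, g • x ∈ Jᶜ) := by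
    intro g hg
    have heq : (g • ·) '' Γ = Jᶜ :=
      Set.eq_of_subset_of_ncard_le (fun _ ⟨x, hx, e⟩ => e ▸ hg x hx) (by rw [hcard]; exact hkm)
    have hJor : IsJordan G Jᶜ := heq ▸ isJordan_image htr g
    obtain ⟨p', hp', r, hr, hpr⟩ := (Set.one_lt_ncard Jᶜ.toFinite).1 (show 1 < Jᶜ.ncard by omega)
    obtain ⟨h, hhp, hhr⟩ := two p' r p' a hpr (fun e => hp' (e ▸ ha))
    obtain ⟨t, ht, htp⟩ := hJor p' hp' r hr
    -- the other points of the line `h • Jᶜ` lie in `J`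
    have hfix : ∀ x ∈ Jᶜ, x ≠ p' → h • x ∈ J := by
      intro x hx hxp
      by_contra hcon
      have := (hline h p' x (Ne.symm hxp) hp' hx (hhp.symm ▸ hp') hcon r).2 hr
      rw [hhr] at this
      exact this ha
    obtain ⟨u, hu, hup, hur⟩ : ∃ u ∈ Jᶜ, u ≠ p' ∧ u ≠ r := by
      by_contra hcon
      push Not at hcon
      have hs : Jᶜ ⊆ {p', r} := fun u hu => by
        by_cases hup : u = p'
        · exact Or.inl hup
        · exact Or.inr (hcon u hu hup)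
      have := (Set.ncard_le_ncard hs).trans_eq (Set.ncard_pair hpr)
      omega
    have hx1 : ∀ x ∈ Jᶜ, x ≠ p' → (h⁻¹ * t * h) • x = x := by
      intro x hx hxp
      rw [mul_smul, mul_smul, ht _ (fun hm => hm (hfix x hx hxp)), inv_smul_smul]
    have := (hline (h⁻¹ * t * h) r u (Ne.symm hur) hr hu
      (by rw [hx1 r hr (Ne.symm hpr)]; exact hr) (by rw [hx1 u hu hup]; exact hu) p').2 hp'
    rw [mul_smul, mul_smul, hhp, htp] at this
    -- `h⁻¹ • r` is in `Jᶜ`, so `r` lies on the line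
    rcases eq_or_ne (h⁻¹ • r) p' with e | e
    · exact hpr (by rw [inv_smul_eq_iff, hhp] at e; exact e.symm)
    · have := hfix _ this e
      rw [smul_inv_smul] at this
      exact hr this
  -- lines through a point of `Γ` and a point outside
  obtain ⟨x0, hx0⟩ : Γ.Nonempty := Set.nonempty_of_ncard_ne_zero (by omega)
  obtain ⟨c1, hc1, c2, hc2, hc12⟩ := (Set.one_lt_ncard Jᶜ.toFinite).1 (show 1 < Jᶜ.ncard by omega)
  have hch : ∀ y, y ∉ Γ → ∃ g : G, g • c1 = x0 ∧ g • c2 = y ∧ ∃ c ∈ Jᶜ, c ≠ c1 ∧ c ≠ c2 ∧ g • c ∈ Γ := by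
    intro y hy
    obtain ⟨g, hg1, hg2⟩ := two c1 c2 x0 y hc12 (fun e => hy (e ▸ hx0))
    refine ⟨g, hg1, hg2, ?_⟩
    have hmeetC : ∃ b ∈ (g⁻¹ • ·) '' Γ, b ∉ J :=
      ⟨c1, ⟨x0, hx0, inv_smul_eq_iff.2 hg1.symm⟩, hc1⟩
    have hmeetJ : ∃ b ∈ (g⁻¹ • ·) '' Γ, b ∈ J := by
      by_contra hcon
      push Not at hcon
      exact hnotin g⁻¹ fun x hx => hcon _ ⟨x, hx, rfl⟩
    have hl := hmax _ (isJordan_image htr g⁻¹) hmeetJ hmeetC
    by_contra hcon
    push Not at hcon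
    have hs : Jᶜ \ {c1} ⊆ Jᶜ \ ((g⁻¹ • ·) '' Γ) := by
      rintro c ⟨hc, hcc1⟩
      refine ⟨hc, fun ⟨x, hx, e⟩ => ?_⟩
      have e' : g • c = x := by rw [← e]; exact smul_inv_smul g x
      by_cases hcc2 : c = c2
      · subst hcc2; exact hy (hg2.symm ▸ e'.symm ▸ hx)
      · exact hcon c hc hcc1 hcc2 (e'.symm ▸ hx)
    have := (Set.ncard_le_ncard hs).trans hl
    rw [Set.ncard_diff_singleton_of_mem hc1] at this
    omega
  choose g hg1 hg2 c hc hcc1 hcc2 hcΓ using hch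
  have hinj : ∀ y (hy : y ∉ Γ) y' (hy' : y' ∉ Γ), g y hy • c y hy = g y' hy' • c y' hy' → y = y' := by
    intro y hy y' hy' e
    set γ := (g y' hy')⁻¹ * g y hy with hγ
    have hb1 : γ • c1 = c1 := by rw [hγ, mul_smul, hg1, inv_smul_eq_iff, hg1]
    have hb2 : γ • c y hy = c y' hy' := by rw [hγ, mul_smul, e, inv_smul_smul]
    have h3 := (hline γ c1 (c y hy) (Ne.symm (hcc1 y hy)) hc1 (hc y hy) (hb1.symm ▸ hc1)
      (hb2.symm ▸ hc y' hy') c2).2 hc2
    by_contra hne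
    have hval : g y' hy' • γ • c2 = y := by rw [hγ, mul_smul, hg2, smul_inv_smul]
    have hmeetC : ∃ b ∈ ((g y' hy')⁻¹ • ·) '' Γ, b ∉ J :=
      ⟨c1, ⟨x0, hx0, inv_smul_eq_iff.2 (hg1 y' hy').symm⟩, hc1⟩
    have hmeetJ : ∃ b ∈ ((g y' hy')⁻¹ • ·) '' Γ, b ∈ J := by
      by_contra hcon
      push Not at hcon
      exact hnotin (g y' hy')⁻¹ fun x hx => hcon _ ⟨x, hx, rfl⟩
    have hl := hmax _ (isJordan_image htr (g y' hy')⁻¹) hmeetJ hmeetC
    have h5 : ({γ • c2, c2} : Set Ω) ⊆ Jᶜ \ (((g y' hy')⁻¹ • ·) '' Γ) := by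
      rintro b (rfl | rfl)
      · exact ⟨h3, fun ⟨x, hx, ex⟩ => hy (by rw [← hval, ← ex]; simpa using hx)⟩
      · exact ⟨hc2, fun ⟨x, hx, ex⟩ => hy' (by rw [← hg2 y' hy', ← ex]; simpa using hx)⟩
    have h6 := Set.ncard_le_ncard h5
    rw [Set.ncard_pair (fun ee => hne (by rw [← hval, ee, hg2]))] at h6
    omega
  have h7 : Γᶜ.ncard ≤ (Γ \ {x0}).ncard :=
    Set.ncard_le_ncard_of_injOn (fun y => if hy : y ∈ Γ then x0 else g y hy • c y hy)
      (fun y hy => by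
        have hy' : y ∉ Γ := hy
        simp only [dif_neg hy']
        refine ⟨hcΓ y hy', fun e => hcc1 y hy' ?_⟩
        rw [Set.mem_singleton_iff, ← hg1 y hy', smul_left_cancel_iff] at e
        exact e)
      (fun y hy y' hy' e => by
        have h' : y ∉ Γ := hy
        have h'' : y' ∉ Γ := hy'
        simp only [dif_neg h', dif_neg h''] at e
        exact hinj y h' y' h'' e)
  rw [Set.ncard_diff_singleton_of_mem hx0] at h7
  omega

end


/-- Let G be a finite primitive permutation group on Ω of degree n and Γ ⊂ Ω a subset with 1 < #Γ ≤ n/2 such that the pointwise stabilizer of Ω ∖ Γ is transitive on Γ. Then G is 3-transitive on Ω. -/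
theorem result {G Ω : Type*} [Group G] [Finite G] [MulAction G Ω] [FaithfulSMul G Ω] [Finite Ω] (hprim : MulAction.IsPreprimitive G Ω) (Γ : Set Ω) (h1 : 1 < Γ.ncard) (h2 : 2 * Γ.ncard ≤ Nat.card Ω) (htr : ∀ x ∈ Γ, ∀ y ∈ Γ, ∃ g : G, (∀ z ∉ Γ, g • z = z) ∧ g • x = y) : MulAction.IsMultiplyPretransitive G Ω 3 := by
  have h2t := two_pretransitive hprim h1 (by omega) htr
  obtain ⟨J, hJ, hJc⟩ := exists_cosize_two h2t h1 h2 htr
  exact three_pretransitive h2t hJ hJc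

end Cfsg.Agent.S3707
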