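import Cfsg.Statements.S3711
import Cfsg.Agent.Lib.Phan.Two

set_option autoImplicit false
open Cfsg

namespace Cfsg.Agent.S3711

/-- Recognition of unitary groups over the field with 4 elements from a weak Phan system. Let F be a field with 4 elements and n ≥ 4. Let G be a group with subgroups U_0, …, U_{n−1}, each isomorphic to SU(2, 4), and, for consecutive indices, subgroups V_{i,i+1} in which U_i and U_{i+1} form a standard pair (via an isomorphism from SU(3, 4) or PSU(3, 4) carrying the block-diagonal subgroups, or their images, onto U_i and U_{i+1}); suppose U_i and U_j commute elementwise whenever the indices differ by at least 2, that G is generated by the U_i and the V_{i,i+1}, that for each i the subgroup generated by V_{i,i+1} and V_{i+1,i+2} is a homomorphic image of SU(4, 4), that U_i and V_{j,j+1} commute elementwise whenever i ≤ j − 2 or i ≥ j + 3, and that V_{i,i+1} and V_{k,k+1} commute elementwise whenever k ≥ i +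 3. Then G is a homomorphic image of SU(n+1, 4). (G is not assumed finite.) -/
theorem result {G : Type*} [Group G] (n : ℕ) (hn : 4 ≤ n)
    (F : Type*) [Field F] [Fintype F] (hF : Fintype.card F = 4)
    (U : Fin n → Subgroup G) (e : ∀ i, ↥(Cfsg.SU 2 F 2) ≃* ↥(U i))
    (V : Fin n → Fin n → Subgroup G)
    (h1 : ∀ i j : Fin n, (i : ℕ) + 2 ≤ j → ∀ x ∈ U i, ∀ y ∈ U j, x * y = y * x)
    (h2 : ∀ i j : Fin n, (i : ℕ) + 1 = j → Cfsg.IsStandardUnitaryPair (V i j) (U i) (U j) F 2)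
    (hgen : (⨆ i, U i) ⊔ (⨆ (i : Fin n) (j : Fin n) (_ : (i : ℕ) + 1 = j), V i j) = ⊤)
    (h4 : ∀ i j k : Fin n, (i : ℕ) + 1 = j → (j : ℕ) + 1 = k →
      ∃ g : ↥(Cfsg.SU 4 F 2) →* ↥(V i j ⊔ V j k), Function.Surjective g)
    (h5 : ∀ i j k : Fin n, (j : ℕ) + 1 = k → ((i : ℕ) + 2 ≤ j ∨ (k : ℕ) + 2 ≤ i) →
      ∀ x ∈ U i, ∀ y ∈ V j k, x * y = y * x)
    (h6 : ∀ i j k l : Fin n, (i : ℕ) + 1 = j → (k : ℕ) + 1 = l → (j : ℕ) + 2 ≤ k →
      ∀ x ∈ V i j, ∀ y ∈ V k l, x * y = y * x) :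
    ∃ f : ↥(Cfsg.SU (n + 1) F 2) →* G, Function.Surjective f := by
  replace hF : Fintype.card F = 2 ^ 2 := hF
  obtain ⟨W, hW⟩ := Cfsg.Agent.Lib.Phan.exists_windows_fin hF U V h1
    fun i j hij => Cfsg.Agent.Lib.Phan.exists_isPair hF (h2 i j hij)
  have hpair : ∀ a, a + 2 < n → Function.Injective (W.ψ a) ∧ Function.Injective (W.ψ (a + 1)) := fun a ha =>
    Cfsg.Agent.Lib.Phan.Small.injective_of_neighbour hF (hW a (by omega)).1 (hW (a + 1) (by omega)).1
      (fun x => W.agree a (by omega) x)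
      (fun x y => W.comm a (a + 1) 0 1 (by omega) le_rfl (by omega) (by omega) (by omega) x y)
  have hfour : W.Four := fun a ha => by
    obtain ⟨g, hr⟩ : ∃ g : Cfsg.SU 4 F 2 →* G,
        g.range = V ⟨a, by omega⟩ ⟨a + 1, by omega⟩ ⊔ V ⟨a + 1, by omega⟩ ⟨a + 2, by omega⟩ := by
      obtain ⟨g, hg⟩ := h4 ⟨a, by omega⟩ ⟨a + 1, by omega⟩ ⟨a + 2, by omega⟩ rfl rfl
      exact ⟨(Subgroup.subtype _).comp g, by
        rw [MonoidHom.range_comp, MonoidHom.range_eq_top.2 hg, ← MonoidHom.range_eq_map,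
          Subgroup.range_subtype]⟩
    obtain ⟨ia, ib⟩ := hpair a (by omega)
    obtain ⟨f, hf0, hf1⟩ := Cfsg.Agent.Lib.Phan.Rigid.exists_four_of hF
      (Cfsg.Agent.Lib.Phan.Small.ok_two (G := G) hF) (ψa := W.ψ a) (ψb := W.ψ (a + 1))
      (fun x => W.agree a ha x) (fun x y => W.comm a (a + 1) 0 1 (by omega) le_rfl (by omega) (by omega)
        (by omega) x y) ia ib g
      (by rw [hr, (hW a (by omega)).2]; exact le_sup_left)
      (by rw [hr, (hW (a + 1) (by omega)).2]; exact le_sup_right)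
    refine ⟨f, fun i hi x => ?_⟩
    rcases Nat.le_one_iff_eq_zero_or_eq_one.1 hi with rfl | rfl
    · exact hf0 x
    · exact hf1 x
  have memU : ∀ a k, ∀ hk : k ≤ 1, ∀ ha : a + 1 < n, ∀ x,
      W.ψ a (Cfsg.Agent.Lib.Phan.win 3 2 k x) ∈ U ⟨a + k, by omega⟩ := by
    intro a k hk ha x
    rcases Nat.le_one_iff_eq_zero_or_eq_one.1 hk with rfl | rfl
    · show _ ∈ U ⟨a, by omega⟩
      rw [← (hW a ha).1.low]; exact ⟨x, rfl⟩
    · rw [← (hW a ha).1.high]; exact ⟨x, rfl⟩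
  have memV : ∀ a, ∀ ha : a + 1 < n, ∀ x, W.ψ a x ∈ V ⟨a, by omega⟩ ⟨a + 1, ha⟩ := by
    intro a ha x
    rw [← (hW a ha).2]; exact ⟨x, rfl⟩
  have h3 : W.Comm3 := by
    refine ⟨fun a b i hi ha hab hb g y => ?_, fun a b j hj hab hb x h => ?_, fun a b hab hb x y => ?_⟩
    · exact h5 _ _ _ rfl (Or.inl (by simpa using hab)) _ (memU a i hi (by omega) g) _
        (memV b (by omega) y)
    · exact (h5 ⟨b + j, by omega⟩ ⟨a, by omega⟩ ⟨a + 1, by omega⟩ rfl
        (Or.inr (by show a + 1 + 2 ≤ b + j; omega)) _ (memU b j hj (by omega) h) _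
        (memV a (by omega) x)).symm
    · exact h6 _ _ _ _ rfl rfl (by simpa using hab) _ (memV a (by omega) x) _ (memV b (by omega) y)
  obtain ⟨f, hf⟩ := W.exists_hom_of_four hF (by omega) hfour (Or.inr h3)
  exact ⟨f, Cfsg.Agent.Lib.Phan.surjective_of_windows (by omega) U V W hW hgen hf⟩

end Cfsg.Agent.S3711
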