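import Cfsg.Statements.S3713
import Cfsg.Agent.Lib.SpAmalgam.Main

set_option autoImplicit false
open Cfsg

namespace Cfsg.Agent.S3713
open Cfsg.Agent.Lib.SpAmalgam

/-- A presentation of the symplectic group as the universal completion of an amalgam of small subgroups. Let F be a field with more than two elements, n ≥ 2, and Sp the group of 2n × 2n matrices over F preserving the standard alternating form, acting on column vectors; write e_k, f_k for the standard basis vectors of the two halves (a hyperbolic basis). For each k let S_k be the subgroup of Sp fixing e_l and f_l for all l ≠ k (a copy of SL(2, F) on the plane of e_k, f_k), and for each i with i + 1 < n let M_i be the subgroup fixing every e_l and fixing f_l for all l other than i, i+1 (an abelian group isomorphic to the additive group of F³). Then Sp is the universal completion of the amalgam formed by the S_k, the M_i and the subgroups generated by two of them: for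 every group H and homomorphisms σ_k : S_k → H, μ_i : M_i → H such that for each pair of these subgroups some homomorphism on the subgroup they generate restricts to the given ones, there is exactly one homomorphism Sp → H restricting to every σ_k and μ_i. -/
theorem result
    (F : Type*) [Field F] (hF : ∃ a : F, a ≠ 0 ∧ a ≠ 1) (n : ℕ) (hn : 2 ≤ n)
    (S M : Fin n → Subgroup ↥(Matrix.symplecticGroup (Fin n) F))
    (hS : ∀ j : Fin n, S j = Subgroup.closure {A : ↥(Matrix.symplecticGroup (Fin n) F) | ∀ k : Fin n, k ≠ j →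
      ((A : ↥(Matrix.symplecticGroup (Fin n) F)) : Matrix (Fin n ⊕ Fin n) (Fin n ⊕ Fin n) F).mulVec (Pi.single (Sum.inl k) (1 : F)) = (Pi.single (Sum.inl k) (1 : F)) ∧ ((A : ↥(Matrix.symplecticGroup (Fin n) F)) : Matrix (Fin n ⊕ Fin n) (Fin n ⊕ Fin n) F).mulVec (Pi.single (Sum.inr k) (1 : F)) = (Pi.single (Sum.inr k) (1 : F))})
    (hM : ∀ i : Fin n, (i : ℕ) + 1 < n → M i = Subgroup.closure {A : ↥(Matrix.symplecticGroup (Fin n) F) |
      (∀ k : Fin n, ((A : ↥(Matrix.symplecticGroup (Fin n) F)) : Matrix (Fin n ⊕ Fin n) (Fin n ⊕ Fin n) F).mulVec (Pi.single (Sum.inl k) (1 : F)) = (Pi.single (Sum.inl k) (1 : F))) ∧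
        ∀ k : Fin n, (k : ℕ) ≠ i → (k : ℕ) ≠ (i : ℕ) + 1 → ((A : ↥(Matrix.symplecticGroup (Fin n) F)) : Matrix (Fin n ⊕ Fin n) (Fin n ⊕ Fin n) F).mulVec (Pi.single (Sum.inr k) (1 : F)) = (Pi.single (Sum.inr k) (1 : F))})
    {H : Type*} [Group H] (σ : ∀ j : Fin n, ↥(S j) →* H) (μ : ∀ i : Fin n, ↥(M i) →* H)
    (hSS : ∀ j l : Fin n, j ≠ l → ∃ Ψ : ↥(S j ⊔ S l) →* H,
      (∀ (g : ↥(Matrix.symplecticGroup (Fin n) F)) (hg : g ∈ S j), Ψ ⟨g, Subgroup.mem_sup_left hg⟩ = σ j ⟨g, hg⟩) ∧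
        (∀ (g : ↥(Matrix.symplecticGroup (Fin n) F)) (hg : g ∈ S l), Ψ ⟨g, Subgroup.mem_sup_right hg⟩ = σ l ⟨g, hg⟩))
    (hMM : ∀ i i' : Fin n, i ≠ i' → (i : ℕ) + 1 < n → (i' : ℕ) + 1 < n → ∃ Ψ : ↥(M i ⊔ M i') →* H,
      (∀ (g : ↥(Matrix.symplecticGroup (Fin n) F)) (hg : g ∈ M i), Ψ ⟨g, Subgroup.mem_sup_left hg⟩ = μ i ⟨g, hg⟩) ∧
        (∀ (g : ↥(Matrix.symplecticGroup (Fin n) F)) (hg : g ∈ M i'), Ψ ⟨g, Subgroup.mem_sup_right hg⟩ = μ i' ⟨g, hg⟩))
    (hMS : ∀ i j : Fin n, (i : ℕ) + 1 < n → ∃ Ψ : ↥(M i ⊔ S j) →* H,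
      (∀ (g : ↥(Matrix.symplecticGroup (Fin n) F)) (hg : g ∈ M i), Ψ ⟨g, Subgroup.mem_sup_left hg⟩ = μ i ⟨g, hg⟩) ∧
        (∀ (g : ↥(Matrix.symplecticGroup (Fin n) F)) (hg : g ∈ S j), Ψ ⟨g, Subgroup.mem_sup_right hg⟩ = σ j ⟨g, hg⟩)) :
    ∃! Φ : ↥(Matrix.symplecticGroup (Fin n) F) →* H,
      (∀ (j : Fin n) (g : ↥(Matrix.symplecticGroup (Fin n) F)) (hg : g ∈ S j), Φ g = σ j ⟨g, hg⟩) ∧
        (∀ (i : Fin n), (i : ℕ) + 1 < n → ∀ (g : ↥(Matrix.symplecticGroup (Fin n) F)) (hg : g ∈ M i), Φ g = μ i ⟨g, hg⟩) := by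
  classical
  have eS : ∀ j, S j = Sx j := fun j => by rw [hS j]; exact Subgroup.closure_eq (Sx j)
  have eM : ∀ i : Fin n, (i : ℕ) + 1 < n → M i = Mx i := fun i hi => by rw [hM i hi]; exact Subgroup.closure_eq (Mx i)
  let sh : Fin n → SpG F n → H := fun j g => if h : g ∈ S j then σ j ⟨g, h⟩ else 1
  let mh : Fin n → SpG F n → H := fun i g => if h : g ∈ M i then μ i ⟨g, h⟩ else 1
  have sh_eq : ∀ j g (h : g ∈ S j), sh j g = σ j ⟨g, h⟩ := fun j g h => dif_pos h
  have mh_eq : ∀ i g (h : g ∈ M i), mh i g = μ i ⟨g, h⟩ := fun i g h => dif_pos h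
  have ext : ∀ (K : Subgroup (SpG F n)) (Ψ : ↥K →* H),
      IsHomOn K (fun g => if h : g ∈ K then Ψ ⟨g, h⟩ else 1) := fun K Ψ a ha b hb => by
    simp only [dif_pos ha, dif_pos hb, dif_pos (K.mul_mem ha hb)]
    exact map_mul Ψ ⟨a, ha⟩ ⟨b, hb⟩
  let A : Amal F n H :=
    { sh := sh
      mh := mh
      ss := fun j l hne => by
        obtain ⟨Ψ, h1, h2⟩ := hSS j l hne
        refine ⟨fun g => if h : g ∈ S j ⊔ S l then Ψ ⟨g, h⟩ else 1, ?_, fun g hg => ?_, fun g hg => ?_⟩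
        · rw [← eS j, ← eS l]; exact ext _ Ψ
        · rw [← eS j] at hg
          simp only []; rw [dif_pos (Subgroup.mem_sup_left hg), h1 g hg, sh_eq j g hg]
        · rw [← eS l] at hg
          simp only []; rw [dif_pos (Subgroup.mem_sup_right hg), h2 g hg, sh_eq l g hg]
      mm := fun i i' hne hi hi' => by
        obtain ⟨Ψ, h1, h2⟩ := hMM i i' hne hi hi'
        refine ⟨fun g => if h : g ∈ M i ⊔ M i' then Ψ ⟨g, h⟩ else 1, ?_, fun g hg => ?_, fun g hg => ?_⟩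
        · rw [← eM i hi, ← eM i' hi']; exact ext _ Ψ
        · rw [← eM i hi] at hg
          simp only []; rw [dif_pos (Subgroup.mem_sup_left hg), h1 g hg, mh_eq i g hg]
        · rw [← eM i' hi'] at hg
          simp only []; rw [dif_pos (Subgroup.mem_sup_right hg), h2 g hg, mh_eq i' g hg]
      ms := fun i j hi => by
        obtain ⟨Ψ, h1, h2⟩ := hMS i j hi
        refine ⟨fun g => if h : g ∈ M i ⊔ S j then Ψ ⟨g, h⟩ else 1, ?_, fun g hg => ?_, fun g hg => ?_⟩
        · rw [← eM i hi, ← eS j]; exact ext _ Ψ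
        · rw [← eM i hi] at hg
          simp only []; rw [dif_pos (Subgroup.mem_sup_left hg), h1 g hg, mh_eq i g hg]
        · rw [← eS j] at hg
          simp only []; rw [dif_pos (Subgroup.mem_sup_right hg), h2 g hg, sh_eq j g hg]
      homS := fun j => by rw [← eS j]; exact ext _ (σ j)
      homM := fun i hi => by rw [← eM i hi]; exact ext _ (μ i) }
  obtain ⟨P, hP⟩ := exists_good A hF 0 (Nat.zero_le n)
  have top : ∀ g : SpG F n, g ∈ Gk 0 := fun g => by rw [Gk_zero]; trivial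
  refine ⟨MonoidHom.mk' P fun a b => hP.hom a (top a) b (top b), ⟨fun j g hg => ?_, fun i hi g hg => ?_⟩, ?_⟩
  · show P g = _
    rw [hP.onS j (Nat.zero_le _) g (eS j ▸ hg)]
    exact sh_eq j g hg
  · show P g = _
    rw [hP.onM i (Nat.zero_le _) hi g (eM i hi ▸ hg)]
    exact mh_eq i g hg
  · rintro Φ' ⟨h1, h2⟩
    refine MonoidHom.eq_of_eqOn_dense (s := genSet 0) (eq_top_iff.2 fun g _ => hP.gen 0 le_rfl (top g)) ?_
    rintro g (⟨j, -, hg⟩ | ⟨i, -, hi, hg⟩)
    · show Φ' g = P g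
      rw [hP.onS j (Nat.zero_le _) g hg, h1 j g (eS j ▸ hg)]
      exact (sh_eq j g (eS j ▸ hg)).symm
    · show Φ' g = P g
      rw [hP.onM i (Nat.zero_le _) hi g hg, h2 i hi g (eM i hi ▸ hg)]
      exact (mh_eq i g (eM i hi ▸ hg)).symm

end Cfsg.Agent.S3713
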