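import Cfsg.Statements.S3718
import Cfsg.Agent.Lib.CITSuzuki.Classification
import Cfsg.Agent.Lib.CITSuzuki.Lists
import Cfsg.Agent.Lib.OneComposite.Endgame
import Cfsg.Agent.Lib.OneComposite.PSLOdd
import Cfsg.Agent.S0204
-- import your own Cfsg.Agent.* helpers here

set_option autoImplicit false
open Cfsg

namespace Cfsg.Agent.S3718

/-- Let G be a finite simple group whose set of element orders contains at most one composite number (at most one element order that is neither 1 nor a prime). Then G is cyclic of prime order, or isomorphic to PSL₂(q) for q ∈ {5, 7, 8, 9, 11, 13, 16}, to PSL₃(4), to the Suzuki group Sz(8), to PSL₂(3ⁿ) with (3ⁿ − 1)/2 and (3ⁿ + 1)/4 both prime, or to PSL₂(2ⁿ) with 2ⁿ − 1 and (2ⁿ + 1)/3 both prime. -/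
theorem result {G : Type*} [Group G] [Finite G] [IsSimpleGroup G]
    (h1 : {n : ℕ | n ∈ Set.range (orderOf : G → ℕ) ∧ 1 < n ∧ ¬ n.Prime}.Subsingleton) :
    (Nat.card G).Prime ∨
    (∃ (F : Type) (_ : Field F) (_ : Fintype F), (Fintype.card F = 5 ∨ Fintype.card F = 7 ∨ Fintype.card F = 8 ∨ Fintype.card F = 9 ∨
        Fintype.card F = 11 ∨ Fintype.card F = 13 ∨ Fintype.card F = 16) ∧ Nonempty (G ≃* Matrix.ProjectiveSpecialLinearGroup (Fin 2) F)) ∨
    (∃ (F : Type) (_ : Field F) (_ : Fintype F), Fintype.card F = 4 ∧ Nonempty (G ≃* Matrix.ProjectiveSpecialLinearGroup (Fin 3) F)) ∨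
    (∃ (F : Type) (_ : Field F) (_ : Fintype F), Fintype.card F = 8 ∧ Nonempty (G ≃* ↥(Cfsg.Lie.Sz F 4))) ∨
    (∃ (F : Type) (_ : Field F) (_ : Fintype F), ∃ n r s : ℕ, r.Prime ∧ s.Prime ∧ 3 ^ n - 1 = 2 * r ∧ 3 ^ n + 1 = 4 * s ∧
        Fintype.card F = 3 ^ n ∧ Nonempty (G ≃* Matrix.ProjectiveSpecialLinearGroup (Fin 2) F)) ∨
    (∃ (F : Type) (_ : Field F) (_ : Fintype F), ∃ n r : ℕ, (2 ^ n - 1).Prime ∧ r.Prime ∧ 2 ^ n + 1 = 3 * r ∧
        Fintype.card F = 2 ^ n ∧ Nonempty (G ≃* Matrix.ProjectiveSpecialLinearGroup (Fin 2) F)) := by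
  classical
  by_cases hna : ∀ a b : G, a * b = b * a
  · haveI : IsMulCommutative G := ⟨⟨hna⟩⟩
    letI : CommGroup G := { (inferInstance : Group G) with mul_comm := hna }
    exact Or.inl (IsSimpleGroup.prime_card (α := G))
  push Not at hna
  have hG : ¬ IsMulCommutative G := fun h => by
    obtain ⟨a, b, hab⟩ := hna
    exact hab (h.is_comm.comm a b)
  refine Or.inr ?_
  by_cases hex : ∀ q : ℕ, q.Prime → q ≠ 2 → ¬ ∃ x : G, orderOf x = 2 * q
  · rcases Lib.CITSuzuki.Lists.comp_list Lib.CITSuzuki.simpleCITClass hna h1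
      (Lib.CITReduce.isCIT_of_forall hex) with r | r | r | r
    · exact Or.inl r
    · exact Or.inr (Or.inl r)
    · exact Or.inr (Or.inr (Or.inl r))
    · exact Or.inr (Or.inr (Or.inr (Or.inr r)))
  push Not at hex
  obtain ⟨p, hp, hp2, x, hx⟩ := hex
  have h := Lib.OneComposite.Two.of_oneComp h1 hp hp2 hx
  haveI : Fact (Nat.Prime 2) := ⟨Nat.prime_two⟩
  obtain ⟨T⟩ : Nonempty (Sylow 2 G) := inferInstance
  obtain ⟨E, hE⟩ := Cfsg.Agent.S0204.result (G := G) fun hc => hG hc.isMulCommutative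
  have h4d : 2 ^ 2 ∣ Nat.card (T : Subgroup G) :=
    T.pow_dvd_card_of_pow_dvd_card (by
      have := E.card_subgroup_dvd_card
      rwa [hE.card_four] at this)
  have h4 : 4 ≤ Nat.card (T : Subgroup G) := Nat.le_of_dvd Nat.card_pos h4d
  obtain ⟨k, hk⟩ := IsPGroup.iff_card.1 T.2
  rcases (show Nat.card (T : Subgroup G) = 4 ∨ 8 ≤ Nat.card (T : Subgroup G) by
    rw [hk] at h4 ⊢
    rcases Nat.lt_or_ge k 3 with hk3 | hk3
    · interval_cases k <;> simp at h4 ⊢
    · exact Or.inr ((show 8 = 2 ^ 3 by norm_num) ▸ Nat.pow_le_pow_right (by norm_num) hk3)) with hT | hT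
  · rcases h.four_cases T hT hG with hc | ⟨F, iF, iT, hodd, ⟨e⟩⟩
    · exact (h.false_of_coreNormal T hc h4).elim
    · have h4F := Lib.CITSuzuki.Lists.five_le_of_simple hna e
      have h5 : 5 ≤ Fintype.card F := by
        obtain ⟨j, hj⟩ := hodd
        omega
      rcases h.psl_odd (fun g hg ho => by_contra fun hnp => by
          have h1' : 1 < orderOf g := lt_of_le_of_ne (orderOf_pos g) (Ne.symm (mt orderOf_eq_one_iff.1 hg))
          have := h1 ⟨⟨g, rfl⟩, h1', hnp⟩ ⟨⟨x, hx⟩, by have := hp.two_le; omega, Nat.not_prime_mul (by norm_num) hp.ne_one⟩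
          rw [this] at ho
          exact Nat.not_even_iff_odd.2 ho (even_two_mul p)) hodd h5 e with hq | ⟨n, r, s, hr, hs, e1, e2, e3⟩
      · exact Or.inl ⟨F, iF, iT, by omega, ⟨e⟩⟩
      · exact Or.inr (Or.inr (Or.inr (Or.inl ⟨F, iF, iT, n, r, s, hr, hs, e1, e2, e3, ⟨e⟩⟩)))
  · exact (h.false_of_coreNormal T (h.coreNormal_of_eight T hT) h4).elim

end Cfsg.Agent.S3718
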