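import Cfsg.Statements.S3726
import Cfsg.Agent.Lib.ConstFix25.Main
import Cfsg.Agent.Lib.Zassenhaus.AbelianCases
import Cfsg.Agent.Lib.BenderSuzuki.Zassenhaus
import Cfsg.Agent.Lib.RankOneIdent.Suzuki.Main
import Cfsg.Agent.S0344

set_option autoImplicit false
open Cfsg

namespace Cfsg.Agent.S3726

open MulAction Cfsg.Agent.Lib.Zassenhaus in
/-- Simple Zassenhaus groups are `PSL₂(F)` or Suzuki groups, up to isomorphism. -/
private theorem classify {G Ω : Type*} [Group G] [Finite G] [MulAction G Ω] [Finite Ω]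
    (hZ : Cfsg.IsZassenhausGroup G Ω) [IsSimpleGroup G] :
    (∃ (F : Type) (_ : Field F) (_ : Fintype F), Nonempty (G ≃* Matrix.ProjectiveSpecialLinearGroup (Fin 2) F)) ∨
    Cfsg.Lie.IsoSuzuki G := by
  obtain ⟨a, b, hab⟩ : ∃ a b : Ω, a ≠ b := by
    obtain ⟨g, hg, c, d, hcd, -⟩ := hZ.2.2.2.1
    exact ⟨c, d, hcd⟩
  rcases Nat.even_or_odd (Nat.card ↥(stabilizer G a ⊓ stabilizer G b)) with hde | hdo
  · obtain ⟨F, fF, ffF, -, h⟩ := Cfsg.Agent.S0344.result hZ hab hde
    exact Or.inl ⟨F, fF, ffF, h⟩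
  obtain ⟨U, hU⟩ := exists_regKernel hZ hab
  rcases Nat.even_or_odd (Nat.card Ω) with hne | hno
  · obtain ⟨hcard, hcyc, hinv⟩ := even_degree hZ hab hU hne hdo
    have hm := RegKernel.card_add_one hab hU
    have hA := RegKernel.toAbKernel hZ hab hU (comm_of_card hZ hab hU hdo (by omega))
    obtain ⟨F, fF, ffF, -, h⟩ := iso_psl_of_odd hZ hab hA hdo hcard hcyc hinv
    exact Or.inl ⟨F, fF, ffF, h⟩
  rcases odd_degree hZ hab hU hno with hd | ⟨hU2, hna, -⟩
  · obtain ⟨F, fF, ffF, -, -, h⟩ := Cfsg.Agent.Lib.BenderSuzuki.psl_of_sharp_card hZ hab hno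
      (sharply_of_card hZ hab hd).1
    exact Or.inl ⟨F, fF, ffF, h⟩
  · exact Or.inr (Cfsg.Agent.Lib.RankOneIdent.Suzuki.isoSuzuki hZ hab hU hU2 hna)

/-- Let a finite group G act faithfully and 2-transitively on a finite set Ω, and suppose there is an involution t of G, fixing exactly i points, such that every non-identity element of the centralizer of t also fixes exactly i points. Then G is isomorphic to PSL₂(q) for some finite field of order q, or to a Suzuki group Sz(q) (q = 2^(2m+1) ≥ 8), or G has a normal subgroup acting regularly on Ω. -/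
theorem result {G Ω : Type*} [Group G] [Finite G] [Fintype Ω] [MulAction G Ω] [FaithfulSMul G Ω]
    (h2 : MulAction.IsMultiplyPretransitive G Ω 2) (i : ℕ) (t : G) (ht : orderOf t = 2)
    (hti : Nat.card {x : Ω // t • x = x} = i)
    (hC : ∀ g : G, Commute g t → g ≠ 1 → Nat.card {x : Ω // g • x = x} = i) :
    (∃ (F : Type) (_ : Field F) (_ : Fintype F), Nonempty (G ≃* Matrix.ProjectiveSpecialLinearGroup (Fin 2) F)) ∨
    Cfsg.Lie.IsoSuzuki G ∨
    (∃ R : Subgroup G, R.Normal ∧ (∀ x y : Ω, ∃ r ∈ R, r • x = y) ∧ ∀ x : Ω, ∀ r ∈ R, r • x = x → r = 1) := by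
  obtain hR | ⟨hZ, hsimp⟩ :=
    (Cfsg.Agent.Lib.ConstFix25.setting h2 ht (i := i) fun g hg hg1 => hC g hg hg1).regular_or_zassenhaus
  · exact Or.inr (Or.inr hR)
  · exact (classify hZ).imp_right Or.inl

end Cfsg.Agent.S3726
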