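import Cfsg.Statements.S3733

set_option autoImplicit false
open Cfsg

namespace Cfsg.Agent.S3733

open scoped Classical in
/-- conjugate of `v` by `a` inside `V` (junk `1` off the normalizer). -/
noncomputable def conjIn {G : Type*} [Group G] (V : Subgroup G) (v : V) (a : G) : V :=
  if h : a ∈ Subgroup.normalizer (V : Set G) then ⟨a * v * a⁻¹, (h v).1 v.2⟩ else 1

theorem coe_conjIn {G : Type*} [Group G] (V : Subgroup G) (v : V) {a : G}
    (h : a ∈ Subgroup.normalizer (V : Set G)) : (conjIn V v a : G) = a * v * a⁻¹ := by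
  rw [conjIn, dif_pos h]

/-- Let A and V be subgroups of a finite group with V abelian and nontrivial and A normalizing V. Suppose a nonempty finite family of proper subgroups of A partitions A: every non-identity element of A lies in exactly one member. If the number of members minus one is coprime to the order of V, then some member B of the family has a non-identity fixed point on V, that is V ∩ C(B) ≠ 1. -/
theorem result {G : Type*} [Group G] [Finite G] (A V : Subgroup G) (hVab : IsMulCommutative V) (hV : V ≠ ⊥) (hAV : A ≤ Subgroup.normalizer (V : Set G)) (𝒜 : Finset (Subgroup G)) (hne : 𝒜.Nonempty) (hprop : ∀ B ∈ 𝒜, B < A) (hpart : ∀ a ∈ A, a ≠ 1 → ∃! B, B ∈ 𝒜 ∧ a ∈ B) (hk : (𝒜.card - 1).Coprime (Nat.card V)) : ∃ B ∈ 𝒜, V ⊓ Subgroup.centralizer (B : Set G) ≠ ⊥ := by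
  classical
  by_contra hcon
  push Not at hcon
  letI : CommGroup V := { (inferInstance : Group V) with mul_comm := hVab.is_comm.comm }
  haveI := Fintype.ofFinite G
  obtain ⟨v, hv1⟩ := Subgroup.ne_bot_iff_exists_ne_one.1 hV
  apply hv1
  let fs : Subgroup G → Finset G := fun B => Finset.univ.filter (· ∈ B)
  let f := conjIn V v
  have hf1 : f 1 = v := by ext; simp [f, coe_conjIn V v (one_mem _)]
  have hfix : ∀ B : Subgroup G, B ≤ A →
      ((∏ b ∈ fs B, f b : V) : G) ∈ Subgroup.centralizer (B : Set G) := by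
    intro B hBA
    rw [Subgroup.mem_centralizer_iff]
    intro c hc
    have hcN := hAV (hBA hc)
    let φ : V →* V :=
    { toFun := fun w => ⟨c * w * c⁻¹, (hcN w).1 w.2⟩
      map_one' := by ext; simp
      map_mul' := fun x y => by ext; simp [mul_assoc] }
    have h1 : φ (∏ b ∈ fs B, f b) = ∏ b ∈ fs B, f b := by
      rw [map_prod]
      refine Finset.prod_equiv (Equiv.mulLeft c) (fun b => ?_) fun b hb => ?_
      · simp only [fs, Finset.mem_filter, Finset.mem_univ, true_and, Equiv.coe_mulLeft]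
        exact (B.mul_mem_cancel_left hc).symm
      · simp only [fs, Finset.mem_filter, Finset.mem_univ, true_and] at hb
        ext
        simp only [f, Equiv.coe_mulLeft, coe_conjIn V v (hAV (hBA (mul_mem hc hb))), φ,
          MonoidHom.coe_mk, OneHom.coe_mk, coe_conjIn V v (hAV (hBA hb))]
        group
    have h2 : c * ((∏ b ∈ fs B, f b : V) : G) * c⁻¹ = ((∏ b ∈ fs B, f b : V) : G) :=
      congrArg Subtype.val h1
    exact mul_inv_eq_iff_eq_mul.1 h2
  have hB1 : ∀ B ∈ 𝒜, ∏ b ∈ fs B, f b = 1 := by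
    intro B hB
    ext
    rw [Subgroup.coe_one, ← Subgroup.mem_bot, ← hcon B hB, Subgroup.mem_inf]
    exact ⟨(∏ b ∈ fs B, f b).2, hfix B (hprop B hB).le⟩
  have hA1 : ∏ b ∈ fs A, f b = 1 := by
    obtain ⟨B, hB⟩ := hne
    ext
    rw [Subgroup.coe_one, ← Subgroup.mem_bot, ← hcon B hB, Subgroup.mem_inf]
    exact ⟨(∏ b ∈ fs A, f b).2,
      Subgroup.centralizer_le (hprop B hB).le (hfix A le_rfl)⟩
  have hsplit : ∀ B : Subgroup G, ∏ b ∈ fs B, f b = v * ∏ b ∈ (fs B).erase 1, f b := by
    intro B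
    rw [← hf1, Finset.mul_prod_erase _ _ (by simp [fs])]
  have hdisj : (𝒜 : Set (Subgroup G)).PairwiseDisjoint fun B => (fs B).erase 1 := by
    intro B hB C hC hne'
    rw [Function.onFun, Finset.disjoint_left]
    intro a ha ha'
    simp only [fs, Finset.mem_erase, Finset.mem_filter, Finset.mem_univ, true_and] at ha ha'
    exact hne' ((hpart a ((hprop B hB).le ha.2) ha.1).unique ⟨hB, ha.2⟩ ⟨hC, ha'.2⟩)
  have hU : 𝒜.biUnion (fun B => (fs B).erase 1) = (fs A).erase 1 := by
    ext a
    simp only [Finset.mem_biUnion, fs, Finset.mem_erase, Finset.mem_filter, Finset.mem_univ, true_and]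
    constructor
    · rintro ⟨B, hB, ha1, ha⟩; exact ⟨ha1, (hprop B hB).le ha⟩
    · rintro ⟨ha1, ha⟩
      obtain ⟨B, ⟨hB, haB⟩, -⟩ := hpart a ha ha1
      exact ⟨B, hB, ha1, haB⟩
  have hprod := Finset.prod_eq_one hB1
  simp only [hsplit, Finset.prod_mul_distrib, Finset.prod_const] at hprod
  rw [← Finset.prod_biUnion hdisj, hU] at hprod
  rw [hsplit] at hA1
  have hk1 : v ^ (𝒜.card - 1) = 1 := by
    have h2 : 𝒜.card = 𝒜.card - 1 + 1 := (Nat.sub_add_cancel hne.card_pos).symm
    rw [h2, pow_succ, mul_assoc, hA1, mul_one] at hprod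
    exact hprod
  rw [← orderOf_eq_one_iff]
  exact Nat.eq_one_of_dvd_coprimes hk (orderOf_dvd_of_pow_eq_one hk1) (orderOf_dvd_natCard v)

end Cfsg.Agent.S3733
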