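import Cfsg.Statements.S3734
import Cfsg.Agent.Lib.Coprime.Generation

set_option autoImplicit false
open Cfsg

namespace Cfsg.Agent.S3734

open Subgroup Cfsg.Agent.Lib.Coprime
open scoped Pointwise commutatorElement

/-- Let A and G be subgroups of a finite group with A abelian, A normalizing G and the orders of A and G coprime. Then G is generated by the fixed-point subgroups C_G(B) of those subgroups B of A for which A/B is cyclic (that is, A = ⟨B, a⟩ for some a), and [G, A] is generated by the commutator subgroups [C_G(B), A] over the same subgroups B. -/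
theorem result {X : Type*} [Group X] [Finite X] (A G : Subgroup X) (hAab : IsMulCommutative A) (hAG : A ≤ Subgroup.normalizer (G : Set X)) (hcop : (Nat.card A).Coprime (Nat.card G)) : (⨆ B ∈ {B : Subgroup X | B ≤ A ∧ ∃ a ∈ A, B ⊔ Subgroup.zpowers a = A}, G ⊓ Subgroup.centralizer (B : Set X)) = G ∧ (⨆ B ∈ {B : Subgroup X | B ≤ A ∧ ∃ a ∈ A, B ⊔ Subgroup.zpowers a = A}, ⁅G ⊓ Subgroup.centralizer (B : Set X), A⁆) = ⁅G, A⁆ := by
  have h1 := iSup_centralizer_cyclic_quotient_eq (A := A) (K := G) hAG hcop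
  refine ⟨h1, ?_⟩
  set S : Set (Subgroup X) := {B : Subgroup X | B ≤ A ∧ ∃ a ∈ A, B ⊔ Subgroup.zpowers a = A}
    with hS
  set H := ⨆ B ∈ S, ⁅G ⊓ Subgroup.centralizer (B : Set X), A⁆ with hH
  set C := G ⊓ centralizer (A : Set X) with hC
  refine le_antisymm (iSup₂_le fun B _ => commutator_mono inf_le_left le_rfl) ?_
  have hA : ∀ B ∈ S, A ≤ normalizer ((G ⊓ centralizer (B : Set X) : Subgroup X) : Set X) := by
    intro B hB
    refine le_normalizer_inf hAG (le_trans ?_ le_normalizer)
    intro a ha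
    rw [mem_centralizer_iff]
    intro b hb
    exact congrArg Subtype.val (hAab.is_comm.comm (⟨b, hB.1 hb⟩ : A) ⟨a, ha⟩)
  have hN : ∀ K : Subgroup X, (∀ B ∈ S, K ≤ normalizer
      ((⁅G ⊓ centralizer (B : Set X), A⁆ : Subgroup X) : Set X)) → K ≤ normalizer (H : Set X) := by
    intro K hK g hg
    apply mem_normalizer_of_conj_smul_eq
    simp only [hH, conj_smul_eq_map, Subgroup.map_iSup]
    refine iSup_congr fun B => iSup_congr fun hB => ?_
    rw [← conj_smul_eq_map]
    exact conj_smul_eq_self_of_mem_normalizer (hK B hB hg)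
  have hAH : A ≤ normalizer (H : Set X) := hN A fun B _ => right_le_normalizer_commutator _ A
  have hCH : C ≤ normalizer (H : Set X) := hN C fun B hB =>
    le_trans (inf_le_inf_left _ (centralizer_le hB.1)) (left_le_normalizer_commutator _ A)
  have hG : G ≤ C ⊔ H := by
    rw [← h1]
    refine iSup₂_le fun B hB => ?_
    have hc : (Nat.card A).Coprime (Nat.card (G ⊓ centralizer (B : Set X) : Subgroup X)) :=
      hcop.coprime_dvd_right (card_dvd_of_le inf_le_left)
    rw [← commutator_sup_centralizer (hA B hB) hc (Or.inl (isSolvable_of_isMulCommutative A))]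
    exact sup_le (le_sup_of_le_right (le_iSup₂_of_le B hB le_rfl))
      (le_sup_of_le_left (inf_le_inf_right _ inf_le_left))
  rw [commutator_le]
  intro g hg a ha
  have hg' : g ∈ (C : Set X) * (H : Set X) := by
    rw [← coe_mul_of_left_le_normalizer_right C H hCH]
    exact hG hg
  obtain ⟨c, hc, h, hh, rfl⟩ := hg'
  have hca : a * c = c * a := mem_centralizer_iff.mp (mem_inf.mp hc).2 a ha
  have e : ⁅c * h, a⁆ = (c * h * c⁻¹) * (c * (a * h⁻¹ * a⁻¹) * c⁻¹) := by
    simp only [commutatorElement_def]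
    calc c * h * a * (c * h)⁻¹ * a⁻¹ = c * h * a * h⁻¹ * (a * c)⁻¹ := by group
      _ = c * h * a * h⁻¹ * (c * a)⁻¹ := by rw [hca]
      _ = _ := by group
  rw [e]
  exact mul_mem ((mem_normalizer_iff.mp (hCH hc) h).mp hh)
    ((mem_normalizer_iff.mp (hCH hc) _).mp ((mem_normalizer_iff.mp (hAH ha) _).mp (inv_mem hh)))

end Cfsg.Agent.S3734
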