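import Cfsg.Statements.S3735

set_option autoImplicit false
open Cfsg
open scoped Pointwise commutatorElement

namespace Cfsg.Agent.S3735



/-- Clifford's Theorem for actions on finite abelian groups, first part. Let H and V be subgroups of a finite group with V abelian and H normalizing V, and let A be a normal subgroup of H. If every H-invariant subgroup of V has an H-invariant complement in V, then every A-invariant subgroup of V has an A-invariant complement in V. -/
theorem result {G : Type*} [Group G] [Finite G] (H A V : Subgroup G) (hVab : IsMulCommutative V) (hHV : H ≤ Subgroup.normalizer (V : Set G)) (hAH : A ≤ H) (hAn : H ≤ Subgroup.normalizer (A : Set G)) (hss : ∀ U : Subgroup G, U ≤ V → H ≤ Subgroup.normalizer (U : Set G) → ∃ W : Subgroup G, W ≤ V ∧ H ≤ Subgroup.normalizer (W : Set G) ∧ U ⊓ W = ⊥ ∧ U ⊔ W = V) (U : Subgroup G) (hUV : U ≤ V) (hAU : A ≤ Subgroup.normalizer (U : Set G)) : ∃ W : Subgroup G, W ≤ V ∧ A ≤ Subgroup.normalizer (W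 : Set G) ∧ U ⊓ W = ⊥ ∧ U ⊔ W = V := by
  classical
  have hcomm : ∀ x ∈ V, ∀ y ∈ V, x * y = y * x := fun x hx y hy =>
    congrArg Subtype.val (hVab.is_comm.comm ⟨x, hx⟩ ⟨y, hy⟩)
  have hnorm : ∀ X Y : Subgroup G, X ≤ V → Y ≤ V → X ≤ Subgroup.normalizer (Y : Set G) := by
    intro X Y hX hY
    rw [Subgroup.le_normalizer_iff]
    intro x hx y hy
    rw [hcomm x (hX hx) y (hY hy), mul_inv_cancel_right]
    exact hy
  let Min : Set (Subgroup G) := {M | M ≤ V ∧ A ≤ Subgroup.normalizer (M : Set G) ∧ M ≠ ⊥ ∧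
    ∀ L : Subgroup G, L ≤ M → A ≤ Subgroup.normalizer (L : Set G) → L = ⊥ ∨ L = M}
  have hmin : ∀ W : Subgroup G, W ≤ V → A ≤ Subgroup.normalizer (W : Set G) → W ≠ ⊥ →
      ∃ M ∈ Min, M ≤ W := by
    intro W hWV hAW hW0
    obtain ⟨M, ⟨hMW, hAM, hM0⟩, hM⟩ := ({M : Subgroup G | M ≤ W ∧ A ≤ Subgroup.normalizer (M : Set G) ∧
      M ≠ ⊥}.toFinite).exists_minimal ⟨W, le_rfl, hAW, hW0⟩
    refine ⟨M, ⟨hMW.trans hWV, hAM, hM0, fun L hL hAL => or_iff_not_imp_left.2 fun hL0 => ?_⟩, hMW⟩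
    exact le_antisymm hL (hM ⟨hL.trans hMW, hAL, hL0⟩ hL)
  have hconjA : ∀ h ∈ H, A.map (MulAut.conj h).toMonoidHom = A := fun h hh =>
    Subgroup.mem_normalizer_iff_map_conj_eq.1 (hAn hh)
  have hMinH : ∀ h ∈ H, ∀ M ∈ Min, M.map (MulAut.conj h).toMonoidHom ∈ Min := by
    intro h hh M ⟨hMV, hAM, hM0, hM⟩
    have key : ∀ g ∈ H, ∀ L : Subgroup G, A ≤ Subgroup.normalizer (L : Set G) →
        A ≤ Subgroup.normalizer (L.map (MulAut.conj g).toMonoidHom : Set G) := by
      intro g hg L hL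
      conv_lhs => rw [← hconjA g hg]
      exact (Subgroup.map_mono hL).trans (Subgroup.le_normalizer_map _)
    refine ⟨?_, key h hh M hAM, ?_, ?_⟩
    · rw [← Subgroup.mem_normalizer_iff_map_conj_eq.1 (hHV hh)]; exact Subgroup.map_mono hMV
    · rw [Ne, Subgroup.map_eq_bot_iff_of_injective _ (MulAut.conj h).injective]; exact hM0
    · intro L hL hAL
      have hinv : ∀ L : Subgroup G,
          (L.map (MulAut.conj h⁻¹).toMonoidHom).map (MulAut.conj h).toMonoidHom = L := by
        intro L; rw [Subgroup.map_map]; convert Subgroup.map_id L using 2; ext; simp [mul_assoc]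
      have h1 : L.map (MulAut.conj h⁻¹).toMonoidHom ≤ M := by
        rw [← Subgroup.map_le_map_iff_of_injective (f := (MulAut.conj h).toMonoidHom)
          (MulAut.conj h).injective, hinv]
        exact hL
      rcases hM _ h1 (key h⁻¹ (inv_mem hh) L hAL) with e | e
      · left; rw [← hinv L, e, Subgroup.map_bot]
      · right; rw [← hinv L, e]
  have hSn : H ≤ Subgroup.normalizer ((sSup Min : Subgroup G) : Set G) := by
    intro h hh
    rw [Subgroup.mem_normalizer_iff_map_conj_eq]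
    apply le_antisymm
    · rw [Subgroup.map_le_iff_le_comap, sSup_le_iff]
      intro M hM
      rw [← Subgroup.map_le_iff_le_comap]
      exact le_sSup (hMinH h hh M hM)
    · rw [sSup_le_iff]
      intro M hM
      have h1 := hMinH h⁻¹ (inv_mem hh) M hM
      calc M = (M.map (MulAut.conj h⁻¹).toMonoidHom).map (MulAut.conj h).toMonoidHom := by
            rw [Subgroup.map_map]; conv_lhs => rw [← Subgroup.map_id M]
            congr 1; ext; simp [mul_assoc]
        _ ≤ _ := Subgroup.map_mono (le_sSup h1)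
  obtain ⟨T, hTV, hHT, hST, hSTV⟩ := hss _ (sSup_le fun M hM => hM.1) hSn
  have hS : sSup Min = V := by
    by_cases hT : T = ⊥
    · rw [← hSTV, hT, sup_bot_eq]
    · exfalso
      obtain ⟨M, hM, hMT⟩ := hmin T hTV (hAH.trans hHT) hT
      exact hM.2.2.1 (eq_bot_iff.2 (hST ▸ le_inf (le_sSup hM) hMT))
  obtain ⟨W, ⟨hWV, hAW, hUW⟩, hW⟩ := ({W : Subgroup G | W ≤ V ∧ A ≤ Subgroup.normalizer (W : Set G) ∧
      U ⊓ W = ⊥}.toFinite).exists_maximal ⟨⊥, bot_le, by rw [Subgroup.le_normalizer_iff]; intro a _ k hk; rw [Subgroup.mem_bot] at hk ⊢; simp [hk], by simp⟩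
  refine ⟨W, hWV, hAW, hUW, le_antisymm (sup_le hUV hWV) ?_⟩
  rw [← hS, sSup_le_iff]
  intro M hM
  by_contra hMUW
  obtain ⟨hMV, hAM, hM0, hMmin⟩ := hM
  have hAUW : A ≤ Subgroup.normalizer ((U ⊔ W : Subgroup G) : Set G) :=
    (le_inf hAU hAW).trans (Subgroup.normalizer_inf_normalizer_le_normalizer_sup U W)
  have h0 : M ⊓ (U ⊔ W) = ⊥ := by
    refine (hMmin _ inf_le_left ?_).resolve_right fun h => hMUW (h ▸ inf_le_right)
    rw [Subgroup.le_normalizer_iff]
    intro a ha m hm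
    exact ⟨(hAM ha m).1 hm.1, (hAUW ha m).1 hm.2⟩
  have hle := hW (y := W ⊔ M) ⟨sup_le hWV hMV,
    (le_inf hAW hAM).trans (Subgroup.normalizer_inf_normalizer_le_normalizer_sup W M), ?_⟩ le_sup_left
  · exact hMUW ((le_sup_right.trans hle).trans le_sup_right)
  · rw [eq_bot_iff]
    intro x hx
    have hx2 : x ∈ (W : Set G) * M := by
      rw [← Subgroup.coe_mul_of_left_le_normalizer_right W M (hnorm W M hWV hMV)]; exact hx.2
    obtain ⟨w, hw, m, hm, rfl⟩ := hx2
    have hm1 : m = 1 := by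
      rw [← Subgroup.mem_bot, ← h0]
      refine ⟨hm, ?_⟩
      have := mul_mem (inv_mem ((le_sup_right : W ≤ U ⊔ W) hw)) ((le_sup_left : U ≤ U ⊔ W) hx.1)
      simpa using this
    rw [← hUW]
    refine ⟨hx.1, ?_⟩
    simpa [hm1] using hw

end Cfsg.Agent.S3735
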