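import Cfsg.Statements.S3737
import Cfsg.Agent.S3736
import Cfsg.Agent.Lib.SquareMaps.Baer

set_option autoImplicit false
open Cfsg

namespace Cfsg.Agent.S3737

open Subgroup Cfsg.Agent.Lib.Coprime Cfsg.Agent.Lib.SquareMaps
open scoped Pointwise commutatorElement

theorem core {X : Type*} [Group X] [Finite X] {p : ℕ} [Fact p.Prime] (hp : p ≠ 2)
    (P Q U : Subgroup X) (hP : IsPGroup p P) (hQ : (Nat.card Q).Coprime p)
    (hPQ : P ≤ normalizer (Q : Set X)) (hU : IsPGroup p U) (hPU : P ≤ normalizer (U : Set X))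
    (hQU : Q ≤ normalizer (U : Set X))
    (hC : U ⊓ centralizer (P : Set X) ≤ centralizer (Q : Set X))
    (hne : ⁅U, Q⁆ ≠ ⊥)
    (hexp : ∀ x ∈ U, x ^ p = 1) (hcls : ∀ x y z : U, Commute z ⁅x, y⁆) : False := by
  classical
  have hodd : Odd p := (Fact.out : p.Prime).odd_of_ne_two hp
  obtain ⟨j, hj⟩ := hodd
  let D : BaerData U := ⟨j + 1, hcls, fun x y => by
    have h1 : ⁅x, y⁆ ^ p = 1 :=
      Subtype.ext (by simpa using hexp _ (⁅x, y⁆ : U).2)
    rw [← pow_add, show j + 1 + (j + 1) = p + 1 by omega, pow_succ, h1, one_mul]⟩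
  let σ : ∀ g : X, g ∈ normalizer (U : Set X) → (Baer D →* Baer D) := fun g hg =>
    baerMap D (U.normalizerMonoidHom ⟨g, hg⟩).toMonoidHom
  have hσ : ∀ (g : X) (hg : g ∈ normalizer (U : Set X)) (x : Baer D),
      ((ofBaer D (σ g hg x) : U) : X) = g * (ofBaer D x : U) * g⁻¹ := fun g hg x => rfl
  have hext : ∀ x y : Baer D, ((ofBaer D x : U) : X) = (ofBaer D y : U) → x = y :=
    fun x y h => Subtype.ext (p := fun z => z ∈ U) h
  haveI : Fintype Q := Fintype.ofFinite Q
  let φ : Baer D →* Baer D :=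
    { toFun := fun x => ∏ q : Q, σ q (hQU q.2) x
      map_one' := by simp
      map_mul' := fun x y => by simp [Finset.prod_mul_distrib] }
  have hφQ : ∀ (x : Baer D) (r : Q), σ r (hQU r.2) (φ x) = φ x := by
    intro x r
    show σ r _ (∏ q : Q, σ q _ x) = ∏ q : Q, σ q _ x
    rw [map_prod]
    refine Fintype.prod_equiv (Equiv.mulLeft r) _ _ (fun q => hext _ _ ?_)
    simp only [hσ, Equiv.coe_mulLeft, Subgroup.coe_mul]
    group
  have hφP : ∀ (x : Baer D) (u : X) (hu : u ∈ P), σ u (hPU hu) (φ x) = φ (σ u (hPU hu) x) := by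
    intro x u hu
    show σ u _ (∏ q : Q, σ q _ x) = ∏ q : Q, σ q _ (σ u _ x)
    rw [map_prod]
    refine Fintype.prod_equiv
      ((Q.normalizerMonoidHom ⟨u, hPQ hu⟩).toEquiv) _ _ (fun q => hext _ _ ?_)
    simp only [hσ]
    show u * (q * _ * (q : X)⁻¹) * u⁻¹ = (u * q * u⁻¹) * (u * _ * u⁻¹) * (u * q * u⁻¹)⁻¹
    group
  have hfix : ∀ y : Baer D, (∀ r : Q, σ r (hQU r.2) y = y) →
      ((ofBaer D y : U) : X) ∈ centralizer (Q : Set X) := by
    intro y hy
    rw [mem_centralizer_iff]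
    intro r hr
    have := congrArg (fun z => ((ofBaer D z : U) : X)) (hy ⟨r, hr⟩)
    simp only [hσ] at this
    exact mul_inv_eq_iff_eq_mul.mp this
  have hker : φ.ker ≠ ⊥ := by
    intro h
    have hinj : Function.Injective φ := φ.ker_eq_bot_iff.mp h
    have hsurj := Finite.surjective_of_injective hinj
    apply hne
    rw [commutator_eq_bot_iff_le_centralizer]
    intro x hx
    obtain ⟨w, hw⟩ := hsurj (toBaer D ⟨x, hx⟩)
    have := hfix (φ w) (hφQ w)
    rwa [hw] at this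
  let act : MulAction P φ.ker :=
    { smul := fun u x => ⟨σ u (hPU u.2) x.1, by
        rw [MonoidHom.mem_ker, ← hφP x.1 u u.2, MonoidHom.mem_ker.mp x.2, map_one]⟩
      one_smul := fun x => Subtype.ext (hext _ _ (by
        show ((1 : X)) * _ * (1 : X)⁻¹ = _
        simp))
      mul_smul := fun u v x => Subtype.ext (hext _ _ (by
        show ((u * v : P) : X) * _ * ((u * v : P) : X)⁻¹ = (u : X) * ((v : X) * _ * (v : X)⁻¹) * (u : X)⁻¹
        simp only [Subgroup.coe_mul]
        group)) }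
  letI := act
  have hdvd : p ∣ Nat.card φ.ker := by
    obtain ⟨n, hn⟩ := IsPGroup.iff_card.mp hU
    have h1 : Nat.card φ.ker ∣ p ^ n := hn ▸ natCard_baer D ▸ card_subgroup_dvd_card φ.ker
    obtain ⟨k, -, hk⟩ := (Nat.dvd_prime_pow Fact.out).mp h1
    rcases k.eq_zero_or_pos with rfl | hk0
    · exact absurd (card_eq_one.mp (by simpa using hk)) hker
    · exact hk ▸ dvd_pow_self p hk0.ne'
  have h1fix : (1 : φ.ker) ∈ MulAction.fixedPoints P φ.ker := by
    intro u
    apply Subtype.ext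
    exact map_one (σ u (hPU u.2))
  obtain ⟨y, hy, hy1⟩ := hP.exists_fixed_point_of_prime_dvd_card_of_fixed_point φ.ker hdvd h1fix
  have hyP : ((ofBaer D y.1 : U) : X) ∈ centralizer (P : Set X) := by
    rw [mem_centralizer_iff]
    intro u hu
    have h := congrArg (fun z : φ.ker => ((ofBaer D z.1 : U) : X)) (hy ⟨u, hu⟩)
    exact mul_inv_eq_iff_eq_mul.mp h
  have hyQ := hC (mem_inf.mpr ⟨(ofBaer D y.1).2, hyP⟩)
  have hpow : y.1 ^ Nat.card Q = 1 := by
    rw [← MonoidHom.mem_ker.mp y.2]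
    show y.1 ^ Nat.card Q = ∏ q : Q, σ q _ y.1
    have hq : ∀ q : Q, σ q (hQU q.2) y.1 = y.1 := fun q => hext _ _ (by
      rw [hσ, mem_centralizer_iff.mp hyQ q q.2, mul_inv_cancel_right])
    simp only [hq, Finset.prod_const, Finset.card_univ, Nat.card_eq_fintype_card]
  have hpp : y.1 ^ p = 1 := hext _ _ (by rw [ofBaer_pow]; simpa using hexp _ (ofBaer D y.1).2)
  have := pow_gcd_eq_one.mpr ⟨hpow, hpp⟩
  rw [hQ, pow_one] at this
  exact hy1 (Subtype.ext this.symm)

/-- Thompson's strengthening of the P × Q lemma for odd primes. Let p be an odd prime and let P, Q and G be subgroups of a finite group with P a p-group, Q of order prime to p and normalized by P, and G a p-group normalized by both P and Q. If every element of G centralized by P is centralized by Q, then Q centralizes G. -/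
theorem result {X : Type*} [Group X] [Finite X] {p : ℕ} [Fact p.Prime] (hp : p ≠ 2) (P Q G : Subgroup X) (hP : IsPGroup p P) (hQ : (Nat.card Q).Coprime p) (hPQ : P ≤ Subgroup.normalizer (Q : Set X)) (hG : IsPGroup p G) (hPG : P ≤ Subgroup.normalizer (G : Set X)) (hQG : Q ≤ Subgroup.normalizer (G : Set X)) (hC : G ⊓ Subgroup.centralizer (P : Set X) ≤ Subgroup.centralizer (Q : Set X)) : Q ≤ Subgroup.centralizer (G : Set X) := by
  classical
  by_contra hcon
  have hne : ⁅G, Q⁆ ≠ ⊥ := fun h =>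
    hcon (le_centralizer_iff.mp (commutator_eq_bot_iff_le_centralizer.mp h))
  obtain ⟨U, ⟨hUG, hBU, hUne⟩, hUmin⟩ := (Set.toFinite {U : Subgroup X |
    U ≤ G ∧ P ⊔ Q ≤ normalizer (U : Set X) ∧ ⁅U, Q⁆ ≠ ⊥}).exists_minimal
    ⟨G, le_rfl, sup_le hPG hQG, hne⟩
  have hU := hG.to_le hUG
  obtain ⟨-, hsp, -, hexp⟩ := Cfsg.Agent.S3736.result (p := p) (P ⊔ Q) Q U hU hBU le_sup_right
    (sup_le hPQ le_normalizer) hQ hUne (fun V hV hBV => by
      by_contra hVne
      exact hV.not_ge (hUmin ⟨hV.le.trans hUG, hBV, hVne⟩ hV.le))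
  refine core hp P Q U hP hQ hPQ hU (le_sup_left.trans hBU) (le_sup_right.trans hBU)
    (le_trans (inf_le_inf_right _ hUG) hC) hUne (hexp hp) ?_
  intro x y z
  rcases hsp with hel | ⟨-, -, hsp⟩
  · exact hel.1.is_comm.comm z _
  · have : ⁅x, y⁆ ∈ center U := hsp ▸ commutator_mem_commutator (mem_top x) (mem_top y)
    exact mem_center_iff.mp this z

end Cfsg.Agent.S3737
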