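import Cfsg.Statements.S3738
import Cfsg.Agent.S3736
import Cfsg.Agent.Lib.SquareMaps.Basic

set_option autoImplicit false
open Cfsg

namespace Cfsg.Agent.S3738

open Subgroup Cfsg.Agent.Lib.Coprime Cfsg.Agent.Lib.SquareMaps
open scoped Pointwise commutatorElement

theorem six_dvd_of_nine_dvd {a : ℕ} (h : 2 ^ a % 9 = 1) : 6 ∣ a := by
  rw [← Nat.div_add_mod a 6, pow_add, pow_mul, Nat.mul_mod, Nat.pow_mod] at h
  norm_num at h
  have h6 : a % 6 < 6 := Nat.mod_lt _ (by norm_num)
  apply Nat.dvd_of_mod_eq_zero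
  interval_cases a % 6 <;> simp_all

theorem odd_part {A j : ℕ} {S : ℤ} (hA : 4 ≤ A) (h : 3 * S = 16 - 4 * 2 ^ (A + 2))
    (hS : S ^ 2 = ((2 ^ j : ℕ) : ℤ)) : False := by
  have h1 : 9 * 2 ^ j = 256 * (2 ^ A - 1) ^ 2 := by
    have hc : ((2 ^ A - 1 : ℕ) : ℤ) = 2 ^ A - 1 := by
      rw [Nat.cast_sub Nat.one_le_two_pow]; simp
    have : ((9 * 2 ^ j : ℕ) : ℤ) = ((256 * (2 ^ A - 1) ^ 2 : ℕ) : ℤ) := by
      push_cast [hc]
      have e : (3 * S) ^ 2 = 256 * (2 ^ A - 1) ^ 2 := by rw [h, pow_add]; ring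
      rw [mul_pow, hS] at e
      push_cast at e
      linarith
    exact_mod_cast this
  have hodd : (2 ^ A - 1).Coprime 2 := by
    rw [Nat.coprime_two_right]
    exact Nat.Even.sub_odd Nat.one_le_two_pow ((Nat.even_pow).mpr ⟨even_two, by omega⟩) odd_one
  have h2 : (2 ^ A - 1) ^ 2 ∣ 9 :=
    ((hodd.pow_right j).pow_left 2).dvd_of_dvd_mul_right ⟨256, by rw [h1, mul_comm]⟩
  have h3 := Nat.le_of_dvd (by norm_num) h2
  have h4 : 2 ^ 4 ≤ 2 ^ A := Nat.pow_le_pow_right two_pos hA
  have h5 : 15 ≤ 2 ^ A - 1 := by omega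
  nlinarith

/-- A fixed-point-free symmetry of a four group of squares forces an involution outside it. -/
theorem exists_sq_eq_one {H : Type*} [Group H] [Finite H] (hH : IsPGroup 2 H) (M : Subgroup H)
    (hsq : ∀ x : H, x ^ 2 ∈ M) (hcen : M ≤ center H) (hexp : ∀ m ∈ M, m ^ 2 = 1)
    (hM : Nat.card M = 4) {A : ℕ} (hA : 4 ≤ A) (hcard : Nat.card H = 4 * 2 ^ (A + 2))
    (σ : MulAut H) (hσ : ∀ m ∈ M, σ m ∈ M) (hfix : ∀ m ∈ M, σ m = m → m = 1) :
    ∃ x : H, x ∉ M ∧ x ^ 2 = 1 := by
  classical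
  by_contra hcon
  simp only [not_exists, not_and] at hcon
  haveI : Fintype H := Fintype.ofFinite H
  haveI : Finite (M →* ℤˣ) := DFunLike.finite _
  haveI : Fintype (M →* ℤˣ) := Fintype.ofFinite _
  have hhom : Fintype.card (M →* ℤˣ) = 4 := by
    have h1 : ∑ m : M, ∑ χ : M →* ℤˣ, (χ m : ℤ) = (Fintype.card (M →* ℤˣ) : ℤ) := by
      simp [sum_hom_eq hexp]
    rw [Finset.sum_comm, Finset.sum_eq_single 1 (fun χ _ hχ => sum_units_hom χ hχ)
      (by simp)] at h1
    simp only [MonoidHom.one_apply, Units.val_one, Finset.sum_const, Finset.card_univ,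
      nsmul_eq_mul, mul_one, ← Nat.card_eq_fintype_card, hM] at h1
    rw [← Nat.card_eq_fintype_card]
    exact_mod_cast h1.symm
  have hN : ∑ χ : M →* ℤˣ, qsum hsq χ = 16 := by
    have hset : (Finset.univ.filter fun x : H => sq M hsq x = 1) =
        Finset.univ.filter fun x : H => x ∈ M := by
      ext x
      simp only [Finset.mem_filter, Finset.mem_univ, true_and]
      constructor
      · intro h
        by_contra hx
        exact hcon x hx (congrArg Subtype.val h)
      · exact fun h => Subtype.ext (hexp x h)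
    calc ∑ χ : M →* ℤˣ, qsum hsq χ = ∑ x : H, ∑ χ : M →* ℤˣ, (χ (sq M hsq x) : ℤ) :=
          Finset.sum_comm
      _ = ∑ x : H, if sq M hsq x = 1 then (4 : ℤ) else 0 := by
          simp only [sum_hom_eq hexp, hhom]; rfl
      _ = 16 := by
          rw [← Finset.sum_filter, hset, Finset.sum_const, ← Fintype.card_subtype,
            ← Nat.card_eq_fintype_card, show Nat.card {x : H // x ∈ M} = 4 from hM]
          norm_num
  let c : M →* M := (σ.toMonoidHom.comp M.subtype).codRestrict M fun m => hσ m m.2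
  have hc : ∀ m : M, (c m : H) = σ (m : H) := fun m => rfl
  have hq : ∀ χ : M →* ℤˣ, qsum hsq (χ.comp c) = qsum hsq χ := by
    intro χ
    refine Fintype.sum_equiv σ.toEquiv _ _ (fun x => ?_)
    show ((χ (c (sq M hsq x)) : ℤˣ) : ℤ) = χ (sq M hsq (σ x))
    congr 2
    apply Subtype.ext
    rw [hc]
    exact map_pow σ x 2
  have hcinj : Function.Injective c := fun a b h => Subtype.ext (σ.injective (by
    have := congrArg Subtype.val h
    rwa [hc, hc] at this))
  have hnofix : ∀ χ : M →* ℤˣ, χ.comp c = χ → χ = 1 := by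
    intro χ hχ
    let δ : M →* M :=
      { toFun := fun z => c z * z⁻¹
        map_one' := by simp
        map_mul' := fun y z => by
          apply Subtype.ext
          simp only [map_mul, Subgroup.coe_mul, Subgroup.coe_inv, mul_inv_rev]
          have hy : ∀ g, Commute g ((y : H)⁻¹) := fun g =>
            mem_center_iff.mp (inv_mem (hcen y.2)) g
          calc (c y : H) * (c z : H) * ((z : H)⁻¹ * (y : H)⁻¹)
              = (c y : H) * (((c z : H) * (z : H)⁻¹) * (y : H)⁻¹) := by group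
            _ = _ := by rw [(hy _).eq]; group }
    have hinj : Function.Injective δ := (injective_iff_map_eq_one δ).mpr fun z hz => by
      apply Subtype.ext
      refine hfix z z.2 ?_
      rw [← hc]
      exact congrArg Subtype.val (mul_inv_eq_one.mp hz)
    ext m
    obtain ⟨z, rfl⟩ := Finite.surjective_of_injective hinj m
    show ((χ (c z * z⁻¹) : ℤˣ) : ℤ) = 1
    rw [map_mul, map_inv, ← MonoidHom.comp_apply, hχ, mul_inv_cancel, Units.val_one]
  have hgsurj : Function.Injective fun χ : M →* ℤˣ => χ.comp c := fun χ ψ h => by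
    ext m
    obtain ⟨z, rfl⟩ := Finite.surjective_of_injective hcinj m
    rw [← MonoidHom.comp_apply, ← MonoidHom.comp_apply, show χ.comp c = ψ.comp c from h]
  have hh1 : 1 < Fintype.card (M →* ℤˣ) := by omega
  obtain ⟨a, ha⟩ := Fintype.exists_ne_of_one_lt_card hh1 (1 : M →* ℤˣ)
  set b := a.comp c
  set e := b.comp c
  have hab : b ≠ a := fun h => ha (hnofix a h)
  have hb : b ≠ 1 := fun h => ha (hgsurj (h.trans (MonoidHom.one_comp c).symm))
  have he : e ≠ 1 := fun h => hb (hgsurj (h.trans (MonoidHom.one_comp c).symm))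
  have hbe : e ≠ b := fun h => hb (hnofix b h)
  have hae : e ≠ a := by
    intro h
    -- the fourth character would be fixed
    obtain ⟨d, hd⟩ : ∃ d : M →* ℤˣ, d ∉ ({1, a, b} : Finset (M →* ℤˣ)) := by
      by_contra hall
      simp only [not_exists, not_not] at hall
      have := Finset.card_le_card (s := Finset.univ) (t := ({1, a, b} : Finset (M →* ℤˣ)))
        (fun x _ => hall x)
      rw [Finset.card_univ, hhom] at this
      exact absurd (this.trans Finset.card_le_three) (by norm_num)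
    simp only [Finset.mem_insert, Finset.mem_singleton, not_or] at hd
    have h4 : ∀ x : M →* ℤˣ, x ∈ ({1, a, b, d} : Finset (M →* ℤˣ)) := by
      intro x
      have : ({1, a, b, d} : Finset (M →* ℤˣ)) = Finset.univ := by
        apply Finset.eq_univ_of_card
        rw [hhom, Finset.card_eq_of_equiv (Equiv.refl _)] <;>
        simp [ha.symm, hb.symm, hab.symm, Ne.symm hd.1, Ne.symm hd.2.1, Ne.symm hd.2.2]
      rw [this]; exact Finset.mem_univ x
    have := h4 (d.comp c)
    simp only [Finset.mem_insert, Finset.mem_singleton] at this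
    rcases this with h' | h' | h' | h'
    · exact hd.1 (hgsurj (h'.trans (MonoidHom.one_comp c).symm))
    · exact hd.2.2 (hgsurj (h'.trans h.symm))
    · exact hd.2.1 (hgsurj h')
    · exact hd.1 (hnofix d h')
  have hsum : ∑ χ : M →* ℤˣ, qsum hsq χ = qsum hsq 1 + qsum hsq a + qsum hsq b + qsum hsq e := by
    have : ({1, a, b, e} : Finset (M →* ℤˣ)) = Finset.univ := by
      apply Finset.eq_univ_of_card
      rw [hhom]
      simp [ha.symm, hb.symm, he.symm, hab.symm, hbe.symm, hae.symm]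
    rw [← this]
    simp [ha.symm, hb.symm, he.symm, hab.symm, hbe.symm, hae.symm, add_assoc]
  have h1 : qsum hsq (1 : M →* ℤˣ) = Nat.card H := by
    simp [qsum, Nat.card_eq_fintype_card]
  have hbq : qsum hsq b = qsum hsq a := hq a
  have heq : qsum hsq e = qsum hsq a := (hq b).trans hbq
  rw [hsum, h1, hbq, heq, hcard] at hN
  push_cast at hN
  have h3S : 3 * qsum hsq a = 16 - 4 * 2 ^ (A + 2) := by linarith
  rcases qsum_sq hsq hcen hexp a with h0 | h0
  · rw [h0, mul_zero] at h3S
    have : (2 : ℤ) ^ 2 < 2 ^ (A + 2) := pow_lt_pow_right₀ (by norm_num) (by omega)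
    linarith
  · obtain ⟨u, hu⟩ := IsPGroup.iff_card.mp hH
    obtain ⟨v, hv⟩ := IsPGroup.iff_card.mp (hH.to_subgroup (radical hsq hcen a))
    rw [hu, hv, ← pow_add] at h0
    exact odd_part hA h3S h0

/-- Let d be a non-identity 3-element of a finite group and P a 2-subgroup normalized by d on which ⟨d⟩ acts faithfully (no non-identity power of d centralizes P) and without non-identity fixed points (C_P(d) = 1). If every abelian subgroup of P has 2-rank at most 2, then d has order 3. -/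
theorem result {X : Type*} [Group X] [Finite X] (d : X) (n : ℕ) (hn : 1 ≤ n) (hd : orderOf d = 3 ^ n) (P : Subgroup X) (hP : IsPGroup 2 P) (hdP : d ∈ Subgroup.normalizer (P : Set X)) (hfaith : Subgroup.zpowers d ⊓ Subgroup.centralizer (P : Set X) = ⊥) (hfpf : P ⊓ Subgroup.centralizer {d} = ⊥) (hrank : ∀ V : Subgroup X, V ≤ P → IsMulCommutative V → Cfsg.PRankLE 2 2 V) : orderOf d = 3 := by
  haveI : Fact (Nat.Prime 2) := ⟨Nat.prime_two⟩
  by_contra hne
  obtain ⟨j, rfl⟩ : ∃ j, n = j + 2 := ⟨n - 2, by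
    rcases Nat.lt_or_ge n 2 with h | h
    · exfalso; obtain rfl : n = 1 := by omega
      exact hne (by simpa using hd)
    · omega⟩
  set s := d ^ 3 ^ (j + 1) with hs
  have hso : orderOf s = 3 := by
    rw [hs, orderOf_pow' _ (by positivity), hd, Nat.gcd_eq_right (pow_dvd_pow 3 (by omega)),
      Nat.pow_div (by omega) (by norm_num), show j + 2 - (j + 1) = 1 by omega, pow_one]
  have hsd : zpowers s ≤ zpowers d := zpowers_le.mpr (pow_mem (mem_zpowers d) _)
  have hsne : ⁅P, zpowers s⁆ ≠ ⊥ := by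
    intro h
    rw [commutator_eq_bot_iff_le_centralizer, le_centralizer_iff] at h
    have : s ∈ (⊥ : Subgroup X) := hfaith ▸ mem_inf.mpr ⟨hsd (mem_zpowers s), h (mem_zpowers s)⟩
    rw [mem_bot] at this
    rw [this, orderOf_one] at hso
    norm_num at hso
  obtain ⟨U, ⟨hUP, hdU, hUne⟩, hUmin⟩ := (Set.toFinite {U : Subgroup X |
    U ≤ P ∧ zpowers d ≤ normalizer (U : Set X) ∧ ⁅U, zpowers s⁆ ≠ ⊥}).exists_minimal
    ⟨P, le_rfl, zpowers_le.mpr hdP, hsne⟩
  have hU := hP.to_le hUP
  have hsn : zpowers d ≤ normalizer ((zpowers s : Subgroup X) : Set X) :=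
    le_trans (fun x hx => by
      rw [mem_centralizer_iff]
      intro y hy
      obtain ⟨a, rfl⟩ := hsd hy
      obtain ⟨b, rfl⟩ := hx
      exact ((Commute.refl d).zpow_zpow a b).eq) (centralizer_le_normalizer _)
  have hcop : (Nat.card (zpowers s)).Coprime 2 := by
    rw [Nat.card_zpowers, hso]; norm_num
  obtain ⟨-, hsp, hirr, -⟩ := Cfsg.Agent.S3736.result (p := 2) (zpowers d) (zpowers s) U hU hdU hsd
    hsn hcop hUne (fun V hV hdV => by
      by_contra hVne
      exact hV.not_ge (hUmin ⟨hV.le.trans hUP, hdV, hVne⟩ hV.le))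
  set Φ := (frattini (U : Type _)).map U.subtype with hΦdef
  haveI : Nontrivial U := by
    rw [Subgroup.nontrivial_iff_ne_bot]
    rintro rfl
    exact hUne (commutator_bot_left _)
  have hΦne : frattini (U : Type _) ≠ ⊤ := fun h => by
    have hb := frattini_nongenerating (show (⊥ : Subgroup U) ⊔ frattini U = ⊤ by rw [h, bot_sup_eq])
    exact bot_ne_top hb
  have hΦlt : Φ < U := by
    refine lt_of_le_of_ne (map_subtype_le _) fun h => hΦne ?_
    apply map_injective U.subtype_injective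
    rw [← hΦdef, h, ← MonoidHom.range_eq_map, range_subtype]
  have hdΦ : zpowers d ≤ normalizer (Φ : Set X) := Cfsg.Agent.S3736.char_map_invariant hdU _
  have hΦs : Φ ≤ centralizer (zpowers s : Set X) := by
    rw [← commutator_eq_bot_iff_le_centralizer]
    by_contra hΦne'
    exact hΦlt.not_ge (hUmin ⟨hΦlt.le.trans hUP, hdΦ, hΦne'⟩ hΦlt.le)
  have hCs : U ⊓ centralizer (zpowers s : Set X) ≤ Φ := by
    rcases hirr _ (le_inf hΦlt.le hΦs) inf_le_left (le_normalizer_inf hdU (hsn.trans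
      (fun x hx => mem_normalizer_of_conj_smul_eq (by
        ext y
        rw [mem_conj_smul, mem_centralizer_iff, mem_centralizer_iff]
        constructor
        · intro h z hz
          have hz' : x⁻¹ * z * x ∈ zpowers s := (mem_normalizer_iff''.mp hx z).mp hz
          have := h _ hz'
          calc z * y = x * ((x⁻¹ * z * x) * (x⁻¹ * y * x)) * x⁻¹ := by group
            _ = y * z := by rw [this]; group
        · intro h z hz
          have hz' : x * z * x⁻¹ ∈ zpowers s := (mem_normalizer_iff.mp hx z).mp hz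
          have := h _ hz'
          calc z * (x⁻¹ * y * x) = x⁻¹ * ((x * z * x⁻¹) * y) * x := by group
            _ = _ := by rw [this]; group)))) with h | h
    · exact h.le
    · exfalso
      exact hUne (commutator_eq_bot_iff_le_centralizer.mpr (inf_eq_left.mp h))
  -- free action off `Φ`
  let T : Type _ := {x : X // x ∈ U ∧ x ∉ Φ}
  let act : MulAction (zpowers d) T :=
    { smul := fun g x => ⟨(g : X) * x.1 * (g : X)⁻¹,
        (mem_normalizer_iff.mp (hdU g.2) _).mp x.2.1,
        fun h => x.2.2 ((mem_normalizer_iff.mp (hdΦ g.2) _).mpr h)⟩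
      one_smul := fun x => Subtype.ext (by show ((1 : X)) * x.1 * (1 : X)⁻¹ = x.1; simp)
      mul_smul := fun u v x => Subtype.ext (by
        show ((u * v : zpowers d) : X) * x.1 * ((u * v : zpowers d) : X)⁻¹ =
          (u : X) * ((v : X) * x.1 * (v : X)⁻¹) * (u : X)⁻¹
        simp only [Subgroup.coe_mul]; group) }
  letI := act
  haveI : Fact (Nat.Prime 3) := ⟨Nat.prime_three⟩
  have hfree : ∀ x : T, MulAction.stabilizer (zpowers d) x = ⊥ := by
    intro x
    by_contra hK
    have hK3 : 3 ∣ Nat.card (MulAction.stabilizer (zpowers d) x) := by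
      have hz : IsPGroup 3 (zpowers d) := IsPGroup.of_card (by rw [Nat.card_zpowers, hd])
      obtain ⟨i, hi⟩ := IsPGroup.iff_card.mp (hz.to_subgroup (MulAction.stabilizer (zpowers d) x))
      rcases i.eq_zero_or_pos with rfl | hi0
      · exact absurd (card_eq_one.mp (by simpa using hi)) hK
      · exact hi ▸ dvd_pow_self 3 hi0.ne'
    obtain ⟨⟨⟨w, hw⟩, hwK⟩, hwo⟩ := exists_prime_orderOf_dvd_card' 3 hK3
    rw [Subgroup.orderOf_mk, Subgroup.orderOf_mk] at hwo
    obtain ⟨k, rfl⟩ := mem_powers_iff_mem_zpowers.mpr hw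
    simp only at hwo
    have hk : 3 ^ (j + 1) ∣ k := by
      have h1 : orderOf d ∣ k * 3 := orderOf_dvd_of_pow_eq_one (by
        rw [pow_mul]; exact hwo ▸ pow_orderOf_eq_one _)
      rw [hd, pow_succ] at h1
      exact Nat.dvd_of_mul_dvd_mul_right (by norm_num) h1
    obtain ⟨t, rfl⟩ := hk
    have hw' : d ^ (3 ^ (j + 1) * t) = s ^ t := by rw [hs, pow_mul]
    have ht : Nat.Coprime t (orderOf s) := by
      rw [hso, Nat.coprime_comm, Nat.Prime.coprime_iff_not_dvd Nat.prime_three]
      rintro ⟨t', rfl⟩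
      rw [hw', pow_mul, ← hso, pow_orderOf_eq_one, one_pow, orderOf_one] at hwo
      rw [hso] at hwo
      norm_num at hwo
    obtain ⟨m, hm⟩ := exists_pow_eq_self_of_coprime ht
    refine x.2.2 (hCs (mem_inf.mpr ⟨x.2.1, mem_centralizer_iff.mpr fun z hz => ?_⟩))
    obtain ⟨i, rfl⟩ := hz
    have hfix : Commute (d ^ (3 ^ (j + 1) * t)) x.1 :=
      mul_inv_eq_iff_eq_mul.mp (congrArg Subtype.val hwK)
    rw [hw'] at hfix
    have := (hfix.pow_left m)
    rw [hm] at this
    exact (this.zpow_left i).eq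
  obtain ⟨u, hu⟩ := IsPGroup.iff_card.mp hU
  obtain ⟨f, hf⟩ := IsPGroup.iff_card.mp (hU.to_le hΦlt.le)
  have hfu : f < u := by
    by_contra h
    refine hΦlt.ne (eq_of_le_of_card_ge hΦlt.le ?_)
    rw [hu, hf]
    exact Nat.pow_le_pow_right two_pos (not_lt.mp h)
  have hT : Nat.card T = 2 ^ u - 2 ^ f := by
    rw [← hu, ← hf]
    have e : Nat.card T = Set.ncard ((U : Set X) \ Φ) := rfl
    rw [e, Set.ncard_sdiff (hΦlt.le)]
    rfl
  have h9 : 9 ∣ 2 ^ u - 2 ^ f := by
    haveI : Fintype (Quotient (MulAction.orbitRel (zpowers d) T)) := Fintype.ofFinite _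
    rw [← hT, Nat.card_congr (MulAction.selfEquivSigmaOrbitsQuotientStabilizer (zpowers d) T),
      Nat.card_sigma]
    refine Finset.dvd_sum fun ω _ => ?_
    rw [hfree, ← Subgroup.index_eq_card, index_bot, Nat.card_zpowers, hd]
    exact ⟨3 ^ j, by rw [pow_add]; ring⟩
  have h6 : 6 ∣ u - f := by
    apply six_dvd_of_nine_dvd
    have hcop9 : Nat.Coprime 9 (2 ^ f) := Nat.Coprime.pow_right f (by norm_num)
    have h : 9 ∣ 2 ^ (u - f) - 1 := hcop9.dvd_of_dvd_mul_left (by
      rw [Nat.mul_sub_left_distrib, mul_one, ← pow_add, Nat.add_sub_cancel' hfu.le]; exact h9)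
    have : 1 ≤ 2 ^ (u - f) := Nat.one_le_two_pow
    omega
  have hbig : 6 ≤ u - f := Nat.le_of_dvd (by omega) h6
  have hcomm8 : ∀ V : Subgroup X, V ≤ P → Cfsg.IsElementaryAbelian 2 V → Nat.card V ≤ 4 := by
    intro V hV hel
    have := hrank V hV hel.1 ⊤
      (⟨⟨fun a b => Subtype.ext (hel.1.is_comm.comm a.1 b.1)⟩⟩)
      (fun a _ => Subtype.ext (by simpa using hel.2 a a.2))
    simpa using this
  rcases hsp with hel | ⟨-, hΦZ, hcZ⟩
  · have := hcomm8 U hUP hel
    rw [hu] at this
    have h64 : 2 ^ 6 ≤ 2 ^ u := Nat.pow_le_pow_right two_pos (by omega)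
    omega
  set M := center (U : Type _) with hMdef
  have hsq : ∀ x : U, x ^ 2 ∈ M := fun x => hΦZ ▸ sq_mem_frattini hU x
  have hMexp : ∀ m ∈ M, m ^ 2 = 1 := by
    have hc : ∀ a b : U, ⁅a, b⁆ ^ 2 = 1 := by
      intro a b
      have hcen : ⁅a, b⁆ ∈ M := hcZ ▸ commutator_mem_commutator (mem_top a) (mem_top b)
      rw [← Cfsg.Agent.Lib.PGroups.commutatorElement_pow_left_of_central a b
        (mem_center_iff.mp hcen a), commutatorElement_eq_one_iff_commute]
      exact (mem_center_iff.mp (hsq a) b).symm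
    intro m hm
    rw [← hcZ, commutator_eq_closure] at hm
    suffices m ∈ M ∧ m ^ 2 = 1 from this.2
    induction hm using closure_induction with
    | mem x hx =>
      obtain ⟨a, b, rfl⟩ := hx
      exact ⟨hcZ ▸ commutator_mem_commutator (mem_top a) (mem_top b), hc a b⟩
    | one => exact ⟨one_mem _, one_pow 2⟩
    | mul x y _ _ hx hy =>
      exact ⟨mul_mem hx.1 hy.1, by
        rw [Commute.mul_pow ((mem_center_iff.mp hy.1) x), hx.2, hy.2, one_mul]⟩
    | inv x _ hx => exact ⟨inv_mem hx.1, by rw [inv_pow, hx.2, inv_one]⟩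
  have hΦM : Φ = M.map U.subtype := by rw [hΦdef, hΦZ]
  have hΦel : Cfsg.IsElementaryAbelian 2 Φ := by
    refine ⟨⟨⟨fun a b => ?_⟩⟩, fun a ha => ?_⟩
    · obtain ⟨a, ha⟩ := a
      obtain ⟨b, hb⟩ := b
      obtain ⟨a', ha', rfl⟩ := hΦM ▸ ha
      obtain ⟨b', hb', rfl⟩ := hΦM ▸ hb
      apply Subtype.ext
      show (a' : X) * (b' : X) = (b' : X) * (a' : X)
      exact congrArg Subtype.val (mem_center_iff.mp hb' a')
    · obtain ⟨a', ha', rfl⟩ := hΦM ▸ ha
      rw [← map_pow, hMexp a' ha', map_one]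
  have hdfix : ∀ x ∈ U, d * x * d⁻¹ = x → x = 1 := fun x hx h =>
    mem_bot.mp (hfpf ▸ mem_inf.mpr ⟨hUP hx, mem_centralizer_iff.mpr fun z hz => by
      rw [Set.mem_singleton_iff.mp hz]; exact mul_inv_eq_iff_eq_mul.mp h⟩)
  let σ : MulAut U := U.normalizerMonoidHom ⟨d, hdU (mem_zpowers d)⟩
  have hσM : ∀ m ∈ M, σ m ∈ M := fun m hm => by
    have := Subgroup.characteristic_iff_map_le.mp (inferInstance : M.Characteristic) σ
      (mem_map_of_mem _ hm)
    exact this
  have hMne : M ≠ ⊥ := by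
    intro h
    haveI := hU.center_nontrivial
    exact (Subgroup.nontrivial_iff_ne_bot M).mp this h
  have hM4 : Nat.card M = 4 := by
    have h1 : Nat.card M = 2 ^ f := by
      rw [← hf, hΦM]
      exact Nat.card_congr (M.equivMapOfInjective _ U.subtype_injective).toEquiv
    have h2 := hcomm8 Φ (hΦlt.le.trans hUP) hΦel
    rw [hf] at h2
    have hf2 : f ≤ 2 := (Nat.pow_le_pow_iff_right (by norm_num : 1 < 2)).mp
      (show 2 ^ f ≤ 2 ^ 2 from h2)
    obtain ⟨m, hm, hm1⟩ := M.bot_or_exists_ne_one.resolve_left hMne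
    interval_cases f
    · rw [pow_zero] at h1
      exact absurd (card_eq_one.mp h1) hMne
    · exfalso
      obtain ⟨w, hw⟩ := (Nat.card_eq_two_iff' (1 : M)).mp (by rw [h1, pow_one])
      apply hm1
      have e1 : (⟨σ m, hσM m hm⟩ : M) = w := hw.2 _ (fun h => hm1 (by
        have := congrArg Subtype.val h
        simpa using this))
      have e2 : (⟨m, hm⟩ : M) = w := hw.2 _ (fun h => hm1 (congrArg Subtype.val h))
      apply Subtype.ext
      refine hdfix m m.2 ?_
      exact congrArg (fun z : M => ((z : U) : X)) (e1.trans e2.symm)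
    · exact h1
  have hf2 : f = 2 := by
    have h1 : Nat.card M = 2 ^ f := by
      rw [← hf, hΦM]
      exact Nat.card_congr (M.equivMapOfInjective _ U.subtype_injective).toEquiv
    exact Nat.pow_right_injective le_rfl (show 2 ^ f = 2 ^ 2 by rw [← h1, hM4])
  subst hf2
  obtain ⟨x, hxM, hx2⟩ := exists_sq_eq_one hU M hsq le_rfl hMexp hM4
    (A := u - 4) (by omega)
    (by rw [hu, show (4 : ℕ) = 2 ^ 2 by norm_num, ← pow_add]; congr 1; omega) σ hσM
    (fun m hm h => Subtype.ext (hdfix m m.2 (congrArg Subtype.val h)))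
  have hxΦ : (x : X) ∉ Φ := by
    rw [hΦM]
    rintro ⟨y, hy, he⟩
    exact hxM (Subtype.ext he ▸ hy)
  have hV : Cfsg.IsElementaryAbelian 2 (Φ ⊔ zpowers (x : X)) := by
    refine Cfsg.Agent.Lib.PGroups.elemAb_sup hΦel
      (Cfsg.Agent.Lib.PGroups.elemAb_zpowers (by simpa using congrArg Subtype.val hx2)) ?_
    intro a ha b hb
    obtain ⟨a', ha', rfl⟩ := hΦM ▸ ha
    obtain ⟨i, rfl⟩ := hb
    exact (Commute.zpow_right
      (show Commute (a' : X) (x : X) from congrArg Subtype.val (mem_center_iff.mp ha' x).symm) i).eq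
  have h4 := hcomm8 _ (sup_le (hΦlt.le.trans hUP) (zpowers_le.mpr (hUP x.2))) hV
  have hlt : Φ < Φ ⊔ zpowers (x : X) := by
    refine lt_of_le_of_ne le_sup_left fun h => hxΦ ?_
    rw [h]; exact mem_sup_right (mem_zpowers _)
  have := Set.ncard_lt_ncard (s := (Φ : Set X)) hlt (Set.toFinite _)
  have e1 : Set.ncard (Φ : Set X) = 4 := hf
  have e2 : Set.ncard ((Φ ⊔ zpowers (x : X) : Subgroup X) : Set X) ≤ 4 := h4
  omega

end Cfsg.Agent.S3738
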