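import Cfsg.Statements.S3739
import Cfsg.Agent.S3738
import Cfsg.Agent.Lib.Cores.Basic
import Cfsg.Agent.Lib.PGroups.Omega

set_option autoImplicit false
open Cfsg

namespace Cfsg.Agent.S3739

open Subgroup Cfsg.Agent.Lib.Coprime Cfsg.Agent.Lib.SquareMaps
open scoped Pointwise commutatorElement

section
variable {G : Type*} [Group G] [Finite G]

theorem four_mem {Z : Subgroup G} (hZ : Nat.card Z = 4) {z a : G} (hz : z ∈ Z) (hz1 : z ≠ 1)
    (hz2 : z ^ 2 = 1) (ha : a ∈ Z) (ha1 : a ≠ 1) (haz : a ≠ z) :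
    ∀ x ∈ Z, x = 1 ∨ x = z ∨ x = a ∨ x = z * a := by
  classical
  intro x hx
  have hne : z * a ≠ 1 := fun h => haz (by
    rw [← mul_one z, ← h, ← mul_assoc, ← pow_two, hz2, one_mul])
  have hsub : ({1, z, a, z * a} : Set G) ⊆ (Z : Set G) := by
    intro y hy
    rcases hy with rfl | rfl | rfl | rfl
    exacts [one_mem Z, hz, ha, mul_mem hz ha]
  have hcard : Set.ncard ({1, z, a, z * a} : Set G) = 4 := by
    rw [Set.ncard_insert_of_notMem (by simp [hz1.symm, ha1.symm, hne.symm]),
      Set.ncard_insert_of_notMem (by simp [haz.symm, ha1]),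
      Set.ncard_insert_of_notMem (by simp [hz1]), Set.ncard_singleton]
  have := Set.eq_of_subset_of_ncard_le hsub (by rw [hcard]; exact hZ.le)
  have hx' : x ∈ ({1, z, a, z * a} : Set G) := this ▸ hx
  simpa using hx'

/-- A subgroup of order two has only fixed points under its normalizer. -/
theorem fixed_of_card_two {K : Subgroup G} (hK : Nat.card K = 2) {g w : G}
    (hg : g ∈ normalizer (K : Set G)) (hw : w ∈ K) : g * w * g⁻¹ = w := by
  by_cases hw1 : w = 1
  · rw [hw1]; group
  obtain ⟨v, hv⟩ := (Nat.card_eq_two_iff' (1 : K)).mp hK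
  have h1 : (⟨w, hw⟩ : K) = v := hv.2 _ (fun h => hw1 (congrArg Subtype.val h))
  have h2 : (⟨g * w * g⁻¹, (mem_normalizer_iff.mp hg w).mp hw⟩ : K) = v :=
    hv.2 _ (fun h => hw1 (by simpa using congrArg Subtype.val h))
  exact congrArg Subtype.val (h2.trans h1.symm)

/-- An element of odd order fixing a nontrivial element of a four group centralizes it. -/
theorem centralizes_four {Z : Subgroup G} (hZ : Nat.card Z = 4) (hZ2 : ∀ z ∈ Z, z ^ 2 = 1) {g : G}
    (hg : g ∈ normalizer (Z : Set G)) (hodd : Odd (orderOf g)) {z : G} (hz : z ∈ Z) (hz1 : z ≠ 1)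
    (hfix : Commute g z) : ∀ x ∈ Z, Commute g x := by
  intro a ha
  by_cases ha1 : a = 1
  · rw [ha1]; exact Commute.one_right g
  by_cases haz : a = z
  · rw [haz]; exact hfix
  have h := four_mem hZ hz hz1 (hZ2 z hz) ha ha1 haz (g * a * g⁻¹) ((mem_normalizer_iff.mp hg a).mp ha)
  rcases h with h | h | h | h
  · exact absurd (conj_eq_one_iff.mp h) ha1
  · exfalso
    apply haz
    calc a = g⁻¹ * (g * a * g⁻¹) * g := by group
      _ = g⁻¹ * (z * g) := by rw [h, mul_assoc]
      _ = z := by rw [← hfix.eq, inv_mul_cancel_left]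
  · exact mul_inv_eq_iff_eq_mul.mp h
  · have h2 : Commute (g ^ 2) a := by
      apply mul_inv_eq_iff_eq_mul.mp
      calc g ^ 2 * a * (g ^ 2)⁻¹ = g * (g * a * g⁻¹) * g⁻¹ := by rw [pow_two]; group
        _ = g * (z * a) * g⁻¹ := by rw [h]
        _ = (g * z * g⁻¹) * (g * a * g⁻¹) := by group
        _ = z * (z * a) := by rw [h, hfix.eq, mul_inv_cancel_right]
        _ = a := by rw [← mul_assoc, ← pow_two, hZ2 z hz, one_mul]
    obtain ⟨m, hm⟩ := exists_pow_eq_self_of_coprime (Nat.coprime_two_left.mpr hodd)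
    exact hm ▸ h2.pow_left m

/-- The minimal-action core. -/
theorem core (Q Z : Subgroup G) (hQ : IsPGroup 2 Q) (hZQ : Z ≤ centralizer (Q : Set G))
    (hZ : Cfsg.IsElementaryAbelian 2 Z) (hZ4 : Nat.card Z = 4)
    (hE : ∀ A : Subgroup G, Cfsg.IsElementaryAbelian 2 A → Nat.card A ≤ 4)
    (s d : G) (hso : orderOf s = 3) (hsd : Commute s d)
    (hsQ : s ∈ normalizer (Q : Set G)) (hdQ : d ∈ normalizer (Q : Set G))
    (hdZ : d ∈ normalizer (Z : Set G))
    (hsZ : ∀ z ∈ Z, Commute s z) (hdfix : ∀ z ∈ Z, d * z * d⁻¹ = z → z = 1)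
    (hsne : ⁅Q, zpowers s⁆ ≠ ⊥) : False := by
  classical
  haveI : Fact (Nat.Prime 2) := ⟨Nat.prime_two⟩
  haveI : Fact (Nat.Prime 3) := ⟨Nat.prime_three⟩
  set B := zpowers s ⊔ zpowers d with hB
  obtain ⟨R, ⟨hRQ, hBR, hRne⟩, hRmin⟩ := (Set.toFinite {R : Subgroup G |
    R ≤ Q ∧ B ≤ normalizer (R : Set G) ∧ ⁅R, zpowers s⁆ ≠ ⊥}).exists_minimal
    ⟨Q, le_rfl, sup_le (zpowers_le.mpr hsQ) (zpowers_le.mpr hdQ), hsne⟩
  have hBs : B ≤ centralizer (zpowers s : Set G) :=
    sup_le (zpowers_le.mpr (mem_centralizer_iff.mpr fun y hy => by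
      obtain ⟨i, rfl⟩ := hy
      exact ((Commute.refl s).zpow_left i).eq))
      (zpowers_le.mpr (mem_centralizer_iff.mpr fun y hy => by
      obtain ⟨i, rfl⟩ := hy
      exact (hsd.zpow_left i).eq))
  have hBn : B ≤ normalizer ((zpowers s : Subgroup G) : Set G) :=
    hBs.trans (centralizer_le_normalizer _)
  have hR := hQ.to_le hRQ
  have hcop : (Nat.card (zpowers s)).Coprime 2 := by
    rw [Nat.card_zpowers, hso]; norm_num
  obtain ⟨-, hsp, hirr, -⟩ := Cfsg.Agent.S3736.result (p := 2) B (zpowers s) R hR hBR le_sup_left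
    hBn hcop hRne (fun V hV hBV => by
      by_contra hVne
      exact hV.not_ge (hRmin ⟨hV.le.trans hRQ, hBV, hVne⟩ hV.le))
  have hinZ : ∀ A : Subgroup G, A ≤ R → Cfsg.IsElementaryAbelian 2 A → A ≤ Z := by
    intro A hA hel
    have hel' : Cfsg.IsElementaryAbelian 2 (Z ⊔ A) :=
      Cfsg.Agent.Lib.PGroups.elemAb_sup hZ hel fun a ha b hb =>
        ((mem_centralizer_iff.mp (hZQ ha)) b (hRQ (hA hb))).symm
    have h4 := hE _ hel'
    rw [← hZ4] at h4
    exact le_sup_right.trans (eq_of_le_of_card_ge le_sup_left h4).ge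
  rcases hsp with hel | ⟨-, hΦZ, hcZ⟩
  · apply hRne
    rw [commutator_eq_bot_iff_le_centralizer]
    intro x hx
    rw [mem_centralizer_iff]
    intro y hy
    obtain ⟨i, rfl⟩ := hy
    exact ((hsZ x (hinZ R le_rfl hel hx)).zpow_left i).eq
  set M := center (R : Type _) with hMdef
  haveI : Nontrivial R := by
    rw [Subgroup.nontrivial_iff_ne_bot]
    rintro rfl
    exact hRne (commutator_bot_left _)
  have hsq : ∀ x : R, x ^ 2 ∈ M := fun x => hΦZ ▸ sq_mem_frattini hR x
  have hMexp : ∀ m ∈ M, m ^ 2 = 1 := by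
    have hc : ∀ a b : R, ⁅a, b⁆ ^ 2 = 1 := by
      intro a b
      have hcen : ⁅a, b⁆ ∈ M := hcZ ▸ commutator_mem_commutator (mem_top a) (mem_top b)
      rw [← Cfsg.Agent.Lib.PGroups.commutatorElement_pow_left_of_central a b
        (mem_center_iff.mp hcen a), commutatorElement_eq_one_iff_commute]
      exact (mem_center_iff.mp (hsq a) b).symm
    intro m hm
    rw [← hcZ, commutator_eq_closure] at hm
    suffices m ∈ M ∧ m ^ 2 = 1 from this.2
    induction hm using closure_induction with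
    | mem x hx =>
      obtain ⟨a, b, rfl⟩ := hx
      exact ⟨hcZ ▸ commutator_mem_commutator (mem_top a) (mem_top b), hc a b⟩
    | one => exact ⟨one_mem _, one_pow 2⟩
    | mul x y _ _ hx hy =>
      exact ⟨mul_mem hx.1 hy.1, by
        rw [Commute.mul_pow ((mem_center_iff.mp hy.1) x), hx.2, hy.2, one_mul]⟩
    | inv x _ hx => exact ⟨inv_mem hx.1, by rw [inv_pow, hx.2, inv_one]⟩
  have hMel : Cfsg.IsElementaryAbelian 2 (M.map R.subtype) :=
    Cfsg.Agent.Lib.PGroups.elemAb_map R.subtype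
      (Cfsg.Agent.Lib.PGroups.elemAb_mk (fun a _ b hb => mem_center_iff.mp hb a) hMexp)
  have hMZ : M.map R.subtype = Z := by
    refine eq_of_le_of_card_ge (hinZ _ (map_subtype_le _) hMel) ?_
    by_contra hlt
    obtain ⟨i, hi⟩ := Cfsg.Agent.Lib.PGroups.elemAb_card_eq_pow hMel
    haveI := hR.center_nontrivial
    have hne : M.map R.subtype ≠ ⊥ := by
      rw [Ne, Subgroup.map_eq_bot_iff_of_injective _ R.subtype_injective]
      exact (Subgroup.nontrivial_iff_ne_bot _).mp (inferInstance : Nontrivial M)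
    obtain ⟨w, hw, hw1⟩ := (M.map R.subtype).bot_or_exists_ne_one.resolve_left hne
    rw [hZ4, hi, not_le, show (4 : ℕ) = 2 ^ 2 by norm_num,
      Nat.pow_lt_pow_iff_right (by norm_num : 1 < 2)] at hlt
    interval_cases i
    · exact hne (card_eq_one.mp (by simpa using hi))
    · exact hw1 (hdfix w (hinZ _ (map_subtype_le _) hMel hw) (fixed_of_card_two (by simpa using hi)
        (Cfsg.Agent.S3736.char_map_invariant hBR M (mem_sup_right (mem_zpowers d))) hw))
  have hM4 : Nat.card M = 4 := by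
    rw [← hZ4, ← hMZ]
    exact Nat.card_congr (M.equivMapOfInjective _ R.subtype_injective).toEquiv
  have hmem : ∀ x : R, (x : G) ∈ Z → x ∈ M := fun x hx => by
    rw [← hMZ] at hx
    obtain ⟨y, hy, he⟩ := hx
    exact Subtype.ext he ▸ hy
  have hinv : ∀ x : R, x ^ 2 = 1 → x ∈ M := fun x hx => hmem x
    (hinZ (zpowers (x : G)) (zpowers_le.mpr x.2)
      (Cfsg.Agent.Lib.PGroups.elemAb_zpowers (by simpa using congrArg Subtype.val hx))
      (mem_zpowers _))
  -- fixed points of `s` on `R` lie in `M`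
  have hΦ : (frattini (R : Type _)).map R.subtype = Z := by rw [hΦZ, hMZ]
  have hCs : ∀ x : R, Commute s (x : G) → x ∈ M := by
    intro x hx
    apply hmem
    have hsC : B ≤ normalizer ((R ⊓ centralizer (zpowers s : Set G) : Subgroup G) : Set G) :=
      le_normalizer_inf hBR (hBs.trans le_normalizer)
    have hle : Z ≤ R ⊓ centralizer (zpowers s : Set G) := le_inf (hMZ ▸ map_subtype_le _)
      fun z hz => mem_centralizer_iff.mpr fun y hy => by
        obtain ⟨i, rfl⟩ := hy
        exact ((hsZ z hz).zpow_left i).eq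
    rcases hirr _ (hΦ.le.trans hle) inf_le_left hsC with h | h
    · have : (x : G) ∈ R ⊓ centralizer (zpowers s : Set G) := mem_inf.mpr ⟨x.2,
        mem_centralizer_iff.mpr fun y hy => by
          obtain ⟨i, rfl⟩ := hy
          exact (hx.zpow_left i).eq⟩
      rw [h, hΦ] at this
      exact this
    · exact absurd (commutator_eq_bot_iff_le_centralizer.mpr (inf_eq_left.mp h)) hRne
  -- fibres of squaring
  haveI : Fintype R := Fintype.ofFinite R
  let F : R → Finset R := fun z => Finset.univ.filter fun x => x ^ 2 = z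
  have h3 : ∀ z : R, z ∈ M → z ≠ 1 → 3 ∣ (F z).card := by
    intro z hz hz1
    have hzs : ∀ u : zpowers s, (u : G) * z * (u : G)⁻¹ = z := fun u => by
      obtain ⟨i, hi⟩ := u.2
      rw [← hi, ((hsZ (z : G) (hMZ ▸ mem_map_of_mem _ hz)).zpow_left i).eq, mul_inv_cancel_right]
    let T : Type _ := {x : G // x ∈ R ∧ x ^ 2 = z}
    let act : MulAction (zpowers s) T :=
      { smul := fun u x => ⟨(u : G) * x.1 * (u : G)⁻¹,
          (mem_normalizer_iff.mp (hBR (mem_sup_left u.2)) _).mp x.2.1,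
          by rw [conj_pow, x.2.2, hzs]⟩
        one_smul := fun x => Subtype.ext (by show ((1 : G)) * x.1 * (1 : G)⁻¹ = x.1; simp)
        mul_smul := fun u v x => Subtype.ext (by
          show ((u * v : zpowers s) : G) * x.1 * ((u * v : zpowers s) : G)⁻¹ =
            (u : G) * ((v : G) * x.1 * (v : G)⁻¹) * (u : G)⁻¹
          simp only [Subgroup.coe_mul]; group) }
    letI := act
    have h := (IsPGroup.of_card (p := 3) (n := 1)
      (by rw [Nat.card_zpowers, hso, pow_one]) : IsPGroup 3 (zpowers s)).card_modEq_card_fixedPoints T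
    have hempty : IsEmpty (MulAction.fixedPoints (zpowers s) T) := ⟨fun ⟨x, hx⟩ => by
      have hM' := hCs ⟨x.1, x.2.1⟩ (mul_inv_eq_iff_eq_mul.mp
        (congrArg Subtype.val (hx ⟨s, mem_zpowers s⟩)))
      have := hMexp _ hM'
      apply hz1
      apply Subtype.ext
      rw [← x.2.2]
      simpa using congrArg Subtype.val this⟩
    rw [Nat.card_of_isEmpty (α := MulAction.fixedPoints (zpowers s) T)] at h
    rw [← Fintype.card_subtype, ← Nat.card_eq_fintype_card]
    have e : {x : R // x ^ 2 = z} ≃ T :=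
      { toFun := fun x => ⟨x.1, x.1.2, by simpa using congrArg Subtype.val x.2⟩
        invFun := fun x => ⟨⟨x.1, x.2.1⟩, Subtype.ext (by simpa using x.2.2)⟩
        left_inv := fun x => rfl
        right_inv := fun x => rfl }
    rw [Nat.card_congr e]
    exact Nat.modEq_zero_iff_dvd.mp h
  let σ : MulAut R := R.normalizerMonoidHom ⟨d, hBR (mem_sup_right (mem_zpowers d))⟩
  have hσ : ∀ z : R, (F (σ z)).card = (F z).card := by
    intro z
    refine (Finset.card_equiv σ.toEquiv fun x => ?_).symm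
    simp only [F, Finset.mem_filter, Finset.mem_univ, true_and]
    show x ^ 2 = z ↔ σ x ^ 2 = σ z
    rw [← map_pow, EmbeddingLike.apply_eq_iff_eq]
  have hσfix : ∀ m ∈ M, σ m = m → m = 1 := fun m hm h => Subtype.ext
    (hdfix m (hMZ ▸ mem_map_of_mem _ hm) (congrArg Subtype.val h))
  have hσM : ∀ m ∈ M, σ m ∈ M := fun m hm =>
    Subgroup.characteristic_iff_map_le.mp (inferInstance : M.Characteristic) σ
      (mem_map_of_mem _ hm)
  obtain ⟨a, ha, ha1⟩ := M.bot_or_exists_ne_one.resolve_left (fun h => by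
    rw [h, card_bot] at hM4; norm_num at hM4)
  set b := σ a
  set c := σ b
  have hb : b ∈ M := hσM a ha
  have hb1 : b ≠ 1 := fun h => ha1 (by rwa [EmbeddingLike.map_eq_one_iff] at h)
  have hab : b ≠ a := fun h => ha1 (hσfix a ha h)
  have hfour := four_mem hM4 ha ha1 (hMexp a ha) hb hb1 hab
  have hcb : c = a * b := by
    rcases hfour c (hσM b hb) with h | h | h | h
    · exact absurd ((EmbeddingLike.map_eq_one_iff (f := σ)).mp h) hb1
    · exfalso
      have : σ (a * b) = a * b := by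
        rw [map_mul]
        show b * c = a * b
        rw [h]
        exact mem_center_iff.mp ha b
      have h1 := hσfix _ (mul_mem ha hb) this
      apply hab
      rw [eq_inv_of_mul_eq_one_right h1]
      exact inv_eq_of_mul_eq_one_right (by rw [← pow_two, hMexp a ha])
    · exact absurd (hσfix b hb h) hb1
    · exact h
  have hsplit : (Finset.univ : Finset R).card =
      (F 1).card + (F a).card + (F b).card + (F (a * b)).card := by
    rw [Finset.card_eq_sum_card_fiberwise (f := fun x : R => x ^ 2) (t := {1, a, b, a * b})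
      (fun x _ => by
        have := hfour (x ^ 2) (hsq x)
        simpa using this)]
    have h1 : a * b ≠ 1 := fun h => hab (by
      rw [eq_inv_of_mul_eq_one_right h]
      exact inv_eq_of_mul_eq_one_right (by rw [← pow_two, hMexp a ha]))
    rw [Finset.sum_insert (by simp [ha1.symm, hb1.symm, h1.symm]),
      Finset.sum_insert (by simp [hab.symm, hb1]), Finset.sum_insert (by simp [ha1]),
      Finset.sum_singleton]
    ring
  have hF1 : (F 1).card = 4 := by
    rw [← hM4, Nat.card_eq_fintype_card, Fintype.card_subtype]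
    congr 1
    ext x
    simp only [F, Finset.mem_filter, Finset.mem_univ, true_and]
    exact ⟨hinv x, hMexp x⟩
  rw [hF1, hσ a, show (F (a * b)).card = (F a).card by rw [← hcb, hσ b, hσ a]] at hsplit
  obtain ⟨k, hk⟩ := h3 a ha ha1
  obtain ⟨u, hu⟩ := IsPGroup.iff_card.mp hR
  rw [Finset.card_univ, ← Nat.card_eq_fintype_card, hu] at hsplit
  have hu2 : 2 ≤ u := by
    have := card_le_card_group M
    rw [hM4, hu] at this
    exact (Nat.pow_le_pow_iff_right (by norm_num : 1 < 2)).mp (show 2 ^ 2 ≤ 2 ^ u from this)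
  have hk0 : u ≠ 2 := by
    intro h2
    subst h2
    have : M = ⊤ := eq_top_of_le_card M (by rw [hM4, hu]; norm_num)
    apply hRne
    rw [commutator_eq_bot_iff_le_centralizer]
    intro x hx
    rw [mem_centralizer_iff]
    intro y hy
    obtain ⟨i, rfl⟩ := hy
    exact ((hsZ x (hMZ ▸ mem_map_of_mem R.subtype (this ▸ mem_top (⟨x, hx⟩ : R)))).zpow_left i).eq
  obtain ⟨v, rfl⟩ : ∃ v, u = v + 2 := ⟨u - 2, by omega⟩
  have h9 : 2 ^ v % 9 = 1 := by
    rw [pow_add] at hsplit
    omega
  have h6 : 6 ≤ v := Nat.le_of_dvd (by omega) (Cfsg.Agent.S3738.six_dvd_of_nine_dvd h9)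
  obtain ⟨x, hxM, hx2⟩ := Cfsg.Agent.S3738.exists_sq_eq_one hR M hsq le_rfl hMexp hM4
    (A := v - 2) (by omega)
    (by rw [hu, show v + 2 = 2 + (v - 2 + 2) by omega, pow_add]; norm_num) σ hσM hσfix
  exact hxM (hinv x hx2)

end

/-- Let G be a finite group with C_G(O₂(G)) ≤ O₂(G) containing an element of order 6, and let d be a non-identity 3-element of G normalizing a nontrivial elementary abelian 2-subgroup W with C_W(d) = 1. Then G has an elementary abelian subgroup of order 8. -/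
theorem result {G : Type*} [Group G] [Finite G] (hchar : Subgroup.centralizer (Cfsg.pCore 2 G : Set G) ≤ Cfsg.pCore 2 G) (hsix : ∃ g : G, orderOf g = 6) (d : G) (hd1 : d ≠ 1) (hd : IsPGroup 3 ↥(Subgroup.zpowers d)) (W : Subgroup G) (hW : Cfsg.IsElementaryAbelian 2 W) (hW1 : W ≠ ⊥) (hdW : d ∈ Subgroup.normalizer (W : Set G)) (hfpf : W ⊓ Subgroup.centralizer {d} = ⊥) : ∃ E : Subgroup G, Cfsg.IsElementaryAbelian 2 E ∧ Nat.card E = 8 := by
  classical
  haveI : Fact (Nat.Prime 2) := ⟨Nat.prime_two⟩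
  haveI : Fact (Nat.Prime 3) := ⟨Nat.prime_three⟩
  by_contra hno
  have hE : ∀ A : Subgroup G, Cfsg.IsElementaryAbelian 2 A → Nat.card A ≤ 4 := by
    intro A hA
    obtain ⟨m, hm⟩ := Cfsg.Agent.Lib.PGroups.elemAb_card_eq_pow hA
    by_contra hgt
    obtain ⟨B, -, hB, hB8⟩ := Cfsg.Agent.Lib.PGroups.elemAb_exists_le_card hA (k := 3) (by
      rw [hm] at hgt ⊢
      refine Nat.pow_le_pow_right two_pos ?_
      by_contra h
      exact hgt (Nat.pow_le_pow_right two_pos (show m ≤ 2 by omega)))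
    exact hno ⟨B, hB, by simpa using hB8⟩
  obtain ⟨g, hg⟩ := hsix
  set Q := Cfsg.pCore 2 G with hQdef
  have hQp : IsPGroup 2 Q := Cfsg.Agent.Lib.Cores.pCore_isPGroup 2
  have hQn : Q.Normal := inferInstance
  haveI : Nontrivial Q := by
    rw [Subgroup.nontrivial_iff_ne_bot]
    intro hQ
    have hall : ∀ x : G, x = 1 := fun x => mem_bot.mp (hQ ▸ hchar (mem_centralizer_iff.mpr
      fun y hy => by rw [hQ] at hy; rw [mem_bot.mp hy, one_mul, mul_one]))
    rw [hall g, orderOf_one] at hg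
    norm_num at hg
  let Z : Subgroup G :=
    { carrier := {x | x ∈ Q ∧ x ∈ centralizer (Q : Set G) ∧ x ^ 2 = 1}
      one_mem' := ⟨one_mem _, one_mem _, one_pow 2⟩
      mul_mem' := fun {a b} ha hb => ⟨mul_mem ha.1 hb.1, mul_mem ha.2.1 hb.2.1, by
        rw [Commute.mul_pow (mem_centralizer_iff.mp hb.2.1 a ha.1), ha.2.2, hb.2.2, one_mul]⟩
      inv_mem' := fun {a} ha => ⟨inv_mem ha.1, inv_mem ha.2.1, by rw [inv_pow, ha.2.2, inv_one]⟩ }
  have hCQn : (centralizer (Q : Set G)).Normal := inferInstance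
  have hZn : ∀ x : G, x ∈ normalizer (Z : Set G) := by
    intro x
    rw [mem_normalizer_iff]
    intro y
    constructor
    · exact fun hy => ⟨hQn.conj_mem y hy.1 x, hCQn.conj_mem y hy.2.1 x, by
        rw [conj_pow, hy.2.2, mul_one, mul_inv_cancel]⟩
    · intro hy
      have e : y = x⁻¹ * (x * y * x⁻¹) * x⁻¹⁻¹ := by group
      rw [e]
      exact ⟨hQn.conj_mem _ hy.1 x⁻¹, hCQn.conj_mem _ hy.2.1 x⁻¹, by
        rw [conj_pow, hy.2.2, mul_one, mul_inv_cancel]⟩
  have hZel : Cfsg.IsElementaryAbelian 2 Z :=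
    Cfsg.Agent.Lib.PGroups.elemAb_mk (fun a ha b hb => mem_centralizer_iff.mp hb.2.1 a ha.1)
      (fun a ha => ha.2.2)
  have hZne : Z ≠ ⊥ := by
    haveI := hQp.center_nontrivial
    obtain ⟨n, hn⟩ := IsPGroup.iff_card.mp (hQp.to_subgroup (center Q))
    have h2 : 2 ∣ Nat.card (center Q) := by
      rcases n.eq_zero_or_pos with rfl | h0
      · exact absurd (card_eq_one.mp (by simpa using hn))
          ((Subgroup.nontrivial_iff_ne_bot _).mp inferInstance)
      · exact hn ▸ dvd_pow_self 2 h0.ne'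
    obtain ⟨⟨⟨z, hzQ⟩, hzc⟩, hzo⟩ := exists_prime_orderOf_dvd_card' 2 h2
    rw [Subgroup.orderOf_mk, Subgroup.orderOf_mk] at hzo
    intro h
    have : z ∈ Z := ⟨hzQ, mem_centralizer_iff.mpr fun y hy =>
      congrArg Subtype.val (mem_center_iff.mp hzc ⟨y, hy⟩), hzo ▸ pow_orderOf_eq_one z⟩
    rw [h, mem_bot] at this
    rw [this, orderOf_one] at hzo
    norm_num at hzo
  have hWfix : ∀ w ∈ W, d * w * d⁻¹ = w → w = 1 := fun w hw h =>
    mem_bot.mp (hfpf ▸ mem_inf.mpr ⟨hw, mem_centralizer_iff.mpr fun z hz => by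
      rw [Set.mem_singleton_iff.mp hz]; exact mul_inv_eq_iff_eq_mul.mp h⟩)
  have hsub : ∀ K : Subgroup G, K ≤ W → d ∈ normalizer (K : Set G) → K ≠ ⊥ → Nat.card K = 4 := by
    intro K hKW hdK hK
    have hel := Cfsg.Agent.Lib.PGroups.elemAb_mono hW hKW
    have h4 := hE K hel
    obtain ⟨m, hm⟩ := Cfsg.Agent.Lib.PGroups.elemAb_card_eq_pow hel
    rw [hm, show (4 : ℕ) = 2 ^ 2 by norm_num, Nat.pow_le_pow_iff_right (by norm_num : 1 < 2)] at h4
    obtain ⟨w, hw, hw1⟩ := K.bot_or_exists_ne_one.resolve_left hK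
    interval_cases m
    · exact absurd (card_eq_one.mp (by simpa using hm)) hK
    · exact absurd (hWfix w (hKW hw) (fixed_of_card_two (by simpa using hm) hdK hw)) hw1
    · exact hm
  have hW4 := hsub W le_rfl hdW hW1
  -- `W` centralises `Z`
  have hWZ : W ≤ centralizer (Z : Set G) := by
    rw [← inf_eq_left]
    set K := W ⊓ centralizer (Z : Set G) with hK
    by_contra hne
    have hdK : d ∈ normalizer (K : Set G) := by
      refine (le_normalizer_inf (A := zpowers d) (zpowers_le.mpr hdW) ?_) (mem_zpowers d)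
      have hZn' : Z.Normal := normalizer_eq_top_iff.mp (eq_top_iff.mpr fun x _ => hZn x)
      intro x _
      exact le_normalizer_of_normal (mem_top x)
    have hKbot : K = ⊥ := by
      by_contra hK1
      exact hne (eq_of_le_of_card_ge inf_le_left (by rw [hsub K inf_le_left hdK hK1, hW4]))
    obtain ⟨i, hi⟩ := Cfsg.Agent.Lib.PGroups.elemAb_card_eq_pow hZel
    have hi2 : i ≤ 2 := by
      have := hE Z hZel
      rw [hi] at this
      exact (Nat.pow_le_pow_iff_right (by norm_num : 1 < 2)).mp (show 2 ^ i ≤ 2 ^ 2 from this)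
    have hKmem : ∀ w ∈ W, (∀ z ∈ Z, w * z * w⁻¹ = z) → w = 1 := fun w hw h =>
      mem_bot.mp (hKbot ▸ mem_inf.mpr ⟨hw, mem_centralizer_iff.mpr fun z hz =>
        (mul_inv_eq_iff_eq_mul.mp (h z hz)).symm⟩)
    interval_cases i
    · exact hZne (card_eq_one.mp (by simpa using hi))
    · obtain ⟨w, hw, hw1⟩ := W.bot_or_exists_ne_one.resolve_left hW1
      exact hw1 (hKmem w hw fun z hz => fixed_of_card_two (by simpa using hi) (hZn w) hz)
    · -- a `2`-group on a four group
      let act : MulAction W Z :=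
        { smul := fun u x => ⟨(u : G) * x * (u : G)⁻¹, (mem_normalizer_iff.mp (hZn u) _).mp x.2⟩
          one_smul := fun x => Subtype.ext (by show ((1 : G)) * (x : G) * (1 : G)⁻¹ = x; simp)
          mul_smul := fun u v x => Subtype.ext (by
            show ((u * v : W) : G) * x * ((u * v : W) : G)⁻¹ =
              (u : G) * ((v : G) * x * (v : G)⁻¹) * (u : G)⁻¹
            simp only [Subgroup.coe_mul]; group) }
      letI := act
      have h1 : (1 : Z) ∈ MulAction.fixedPoints W Z := fun u => Subtype.ext (by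
        show (u : G) * 1 * (u : G)⁻¹ = 1
        simp)
      obtain ⟨⟨z, hz⟩, hzfix, hz1⟩ :=
        (Cfsg.Agent.Lib.PGroups.elemAb_isPGroup hW).exists_fixed_point_of_prime_dvd_card_of_fixed_point
          Z ⟨2, by rw [hi]; norm_num⟩ h1
      have hz1' : z ≠ 1 := fun h => hz1 (Subtype.ext h.symm)
      have hzc : ∀ w ∈ W, w * z * w⁻¹ = z := fun w hw => congrArg Subtype.val (hzfix ⟨w, hw⟩)
      obtain ⟨a, ha, ha1, haz⟩ : ∃ a ∈ Z, a ≠ 1 ∧ a ≠ z := by
        by_contra hall
        simp only [not_exists, not_and, not_not] at hall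
        have hle : Z ≤ zpowers z := fun a ha => by
          by_cases h : a = 1
          · rw [h]; exact one_mem _
          · rw [hall a ha h]; exact mem_zpowers _
        have := (card_le_of_le hle).trans (Nat.le_of_dvd two_pos (by
          rw [Nat.card_zpowers]; exact orderOf_dvd_of_pow_eq_one hz.2.2))
        rw [hi] at this
        norm_num at this
      have hmove : ∀ w ∈ W, w ≠ 1 → w * a * w⁻¹ = z * a := by
        intro w hw hw1
        rcases four_mem (by simpa using hi) hz hz1' hz.2.2 ha ha1 haz (w * a * w⁻¹)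
          ((mem_normalizer_iff.mp (hZn w) _).mp ha) with h | h | h | h
        · exact absurd (conj_eq_one_iff.mp h) ha1
        · exfalso
          apply haz
          calc a = w⁻¹ * (w * a * w⁻¹) * w := by group
            _ = w⁻¹ * (w * z * w⁻¹) * w := by rw [h, hzc w hw]
            _ = z := by group
        · exfalso
          refine hw1 (hKmem w hw fun y hy => ?_)
          rcases four_mem (by simpa using hi) hz hz1' hz.2.2 ha ha1 haz y hy with h' | h' | h' | h'
          · rw [h']; group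
          · rw [h']; exact hzc w hw
          · rw [h']; exact h
          · rw [h', show w * (z * a) * w⁻¹ = (w * z * w⁻¹) * (w * a * w⁻¹) by group, hzc w hw, h]
        · exact h
      obtain ⟨w1, hw1, hw11⟩ := W.bot_or_exists_ne_one.resolve_left hW1
      have hle : W ≤ zpowers w1 := by
        intro w2 hw2
        by_cases hw21 : w2 = 1
        · rw [hw21]; exact one_mem _
        by_contra hn
        have hne : w2 * w1 ≠ 1 := fun h => hn (by
          rw [mul_eq_one_iff_eq_inv] at h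
          rw [h]; exact inv_mem (mem_zpowers _))
        have h := hmove _ (mul_mem hw2 hw1) hne
        rw [show w2 * w1 * a * (w2 * w1)⁻¹ = w2 * (w1 * a * w1⁻¹) * w2⁻¹ by group,
          hmove w1 hw1 hw11, show w2 * (z * a) * w2⁻¹ = (w2 * z * w2⁻¹) * (w2 * a * w2⁻¹) by group,
          hzc w2 hw2, hmove w2 hw2 hw21, ← mul_assoc, ← pow_two, hz.2.2, one_mul] at h
        exact hz1' (mul_eq_right.mp h.symm)
      have := (card_le_of_le hle).trans (Nat.le_of_dvd two_pos (by
        rw [Nat.card_zpowers]; exact orderOf_dvd_of_pow_eq_one (hW.2 w1 hw1)))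
      omega
  have hZW : Z ≤ W := by
    have hel := Cfsg.Agent.Lib.PGroups.elemAb_sup hW hZel
      (fun a ha b hb => (mem_centralizer_iff.mp (hWZ ha) b hb).symm)
    exact le_sup_right.trans (eq_of_le_of_card_ge le_sup_left (hW4 ▸ hE _ hel)).ge
  have hZW' : Z = W := eq_of_le_of_card_ge hZW (by rw [hsub Z hZW (hZn d) hZne, hW4])
  have hZ4 : Nat.card Z = 4 := by rw [hZW', hW4]
  have hdZ : ∀ z ∈ Z, d * z * d⁻¹ = z → z = 1 := fun z hz => hWfix z (hZW hz)
  have hZn' : Z.Normal := normalizer_eq_top_iff.mp (eq_top_iff.mpr fun x _ => hZn x)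
  set C := centralizer (Z : Set G) with hC
  have hCn : C.Normal := Subgroup.normal_centralizer
  -- an element of order 3 in `C`
  have hs0 : ∃ s ∈ C, orderOf s = 3 := by
    have hy : orderOf (g ^ 2) = 3 := by rw [orderOf_pow' _ two_ne_zero, hg]; norm_num
    have ht : orderOf (g ^ 3) = 2 := by rw [orderOf_pow' _ (by norm_num), hg]; norm_num
    have hcm : Commute (g ^ 3) (g ^ 2) := Commute.pow_pow_self g 3 2
    refine ⟨g ^ 2, mem_centralizer_iff.mpr ?_, hy⟩
    set y := g ^ 2
    set t := g ^ 3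
    by_contra hyC
    simp only [not_forall] at hyC
    obtain ⟨z₀, hz₀, hz₀y⟩ := hyC
    have hyfix : ∀ z ∈ Z, Commute y z → z = 1 := by
      intro z hz hc
      by_contra hz1
      exact hz₀y (centralizes_four hZ4 (fun z hz => hz.2.2) (hZn y) (by rw [hy]; decide) hz hz1 hc
        z₀ hz₀).eq.symm
    let act : MulAction (zpowers t) Z :=
      { smul := fun u x => ⟨(u : G) * x * (u : G)⁻¹, (mem_normalizer_iff.mp (hZn u) _).mp x.2⟩
        one_smul := fun x => Subtype.ext (by show ((1 : G)) * (x : G) * (1 : G)⁻¹ = x; simp)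
        mul_smul := fun u v x => Subtype.ext (by
          show ((u * v : zpowers t) : G) * x * ((u * v : zpowers t) : G)⁻¹ =
            (u : G) * ((v : G) * x * (v : G)⁻¹) * (u : G)⁻¹
          simp only [Subgroup.coe_mul]; group) }
    letI := act
    have htp : IsPGroup 2 (zpowers t) := IsPGroup.of_card (n := 1) (by
      rw [Nat.card_zpowers, ht, pow_one])
    have h1 : (1 : Z) ∈ MulAction.fixedPoints (zpowers t) Z := fun u => Subtype.ext (by
      show (u : G) * 1 * (u : G)⁻¹ = 1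
      simp)
    obtain ⟨⟨z, hz⟩, hzfix, hz1⟩ :=
      htp.exists_fixed_point_of_prime_dvd_card_of_fixed_point Z ⟨2, by rw [hZ4]⟩ h1
    have hz1' : z ≠ 1 := fun h => hz1 (Subtype.ext h.symm)
    have htz : Commute t z :=
      mul_inv_eq_iff_eq_mul.mp (congrArg Subtype.val (hzfix ⟨t, mem_zpowers t⟩))
    have hz' : y * z * y⁻¹ ∈ Z := (mem_normalizer_iff.mp (hZn y) _).mp hz
    have hne : y * z * y⁻¹ ≠ z := fun h => hz1' (hyfix z hz (mul_inv_eq_iff_eq_mul.mp h))
    have hall : t ∈ C := mem_centralizer_iff.mpr fun x hx => by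
      rcases four_mem hZ4 hz hz1' hz.2.2 hz' (fun h => hz1' (conj_eq_one_iff.mp h)) hne x hx
        with h | h | h | h
      · rw [h, one_mul, mul_one]
      · rw [h]; exact htz.eq.symm
      · rw [h]; exact ((hcm.mul_right htz).mul_right hcm.inv_right).eq.symm
      · rw [h]; exact (htz.mul_right ((hcm.mul_right htz).mul_right hcm.inv_right)).eq.symm
    have hel := Cfsg.Agent.Lib.PGroups.elemAb_sup hZel
      (Cfsg.Agent.Lib.PGroups.elemAb_zpowers (x := t) (by rw [← ht]; exact pow_orderOf_eq_one t))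
      (fun a ha b hb => by
        obtain ⟨i, rfl⟩ := hb
        exact ((Commute.zpow_left (mem_centralizer_iff.mp hall a ha).symm i).eq).symm)
    have htZ : t ∈ Z :=
      (le_sup_right.trans (eq_of_le_of_card_ge le_sup_left (hZ4 ▸ hE _ hel)).ge) (mem_zpowers t)
    have := hyfix t htZ hcm.symm
    rw [this, orderOf_one] at ht
    norm_num at ht
  obtain ⟨s₀, hs₀C, hs₀⟩ := hs0
  obtain ⟨P, hP⟩ := hd.exists_le_sylow
  obtain ⟨P₀, hP₀⟩ := (IsPGroup.of_card (p := 3) (n := 1)
    (by rw [Nat.card_zpowers, hs₀, pow_one]) : IsPGroup 3 (zpowers s₀)).exists_le_sylow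
  obtain ⟨x, hx⟩ := MulAction.exists_smul_eq G P₀ P
  have hCP : C.subgroupOf (P : Subgroup G) ≠ ⊥ := by
    intro h
    have hmem : x * s₀ * x⁻¹ ∈ (P : Subgroup G) := by
      rw [← hx, Sylow.coe_subgroup_smul]
      exact ⟨s₀, hP₀ (mem_zpowers s₀), rfl⟩
    have : (⟨x * s₀ * x⁻¹, hmem⟩ : (P : Subgroup G)) ∈ C.subgroupOf (P : Subgroup G) :=
      hCn.conj_mem s₀ hs₀C x
    rw [h, mem_bot, Subtype.ext_iff] at this
    have : s₀ = 1 := conj_eq_one_iff.mp this
    rw [this, orderOf_one] at hs₀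
    norm_num at hs₀
  haveI : (C.subgroupOf (P : Subgroup G)).Normal := hCn.subgroupOf _
  obtain ⟨Y, hYC, hYc, -, hY3⟩ :=
    Cfsg.Agent.Lib.PGroups.exists_central_card_prime P.2 _ hCP
  haveI := isCyclic_of_prime_card hY3
  obtain ⟨⟨s', hs'⟩, hgen⟩ := IsCyclic.exists_generator (α := Y)
  have hs'o : orderOf (s' : G) = 3 := by
    have h := orderOf_eq_card_of_forall_mem_zpowers hgen
    rw [Subgroup.orderOf_mk, hY3] at h
    rw [Subgroup.orderOf_coe, h]
  have hsd : Commute (s' : G) d :=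
    (congrArg Subtype.val (mem_center_iff.mp (hYc hs') ⟨d, hP (mem_zpowers d)⟩)).symm
  refine core Q Z hQp (fun z hz => hz.2.1) hZel hZ4 hE (s' : G) d hs'o hsd
    (le_normalizer_of_normal (mem_top _)) (le_normalizer_of_normal (mem_top _)) (hZn d)
    (fun z hz => (mem_centralizer_iff.mp (hYC hs') z hz).symm) hdZ ?_
  intro h
  rw [commutator_eq_bot_iff_le_centralizer, le_centralizer_iff] at h
  obtain ⟨k, hk⟩ := IsPGroup.iff_orderOf.mp hQp ⟨(s' : G), hchar (h (mem_zpowers _))⟩
  rw [Subgroup.orderOf_mk, hs'o] at hk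
  have h3 : (3 : ℕ) ∣ 2 := Nat.prime_three.dvd_of_dvd_pow (dvd_of_eq hk)
  norm_num at h3

end Cfsg.Agent.S3739
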