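import Cfsg.Statements.S3740
import Cfsg.Agent.Lib.PLocal.SLTwoNormalised
import Cfsg.Agent.Lib.Dickson.SL2
import Cfsg.Agent.Lib.PGroups.UniqueInvolution
import Cfsg.Agent.Lib.PGroups.SLTwoThree

set_option autoImplicit false
open Cfsg

namespace Cfsg.Agent.S3740


open Cfsg.Agent.Lib Cfsg.Agent.Lib.PLocal.SLTwoNormalised
open scoped commutatorElement

theorem pow_char_eq_one {K : Type*} [Field K] {p : ℕ} [Fact p.Prime] [CharP K p]
    {a : Matrix.SpecialLinearGroup (Fin 2) K} (ha : IsPGroup p ↥(Subgroup.zpowers a)) : a ^ p = 1 := by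
  obtain ⟨k, hk⟩ := ha ⟨a, Subgroup.mem_zpowers a⟩
  replace hk : a ^ p ^ k = 1 := congrArg Subtype.val hk
  set A := (a : Matrix (Fin 2) (Fin 2) K)
  have h : A ^ p ^ k = 1 := by
    rw [← Matrix.SpecialLinearGroup.coe_pow, hk]; rfl
  have hn : IsNilpotent (A - 1) := ⟨p ^ k, by
    rw [sub_pow_char_pow_of_commute p k (Commute.one_right A), one_pow, h, sub_self]⟩
  have h2 : (A - 1) ^ 2 = 0 := by
    have h := Matrix.isNilpotent_charpoly_sub_pow_of_isNilpotent hn
    have h3 := Matrix.aeval_self_charpoly (A - 1)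
    rw [isNilpotent_iff_eq_zero, sub_eq_zero] at h
    rw [h] at h3
    simpa using h3
  refine Subtype.ext ?_
  show ((a ^ p : Matrix.SpecialLinearGroup (Fin 2) K) : Matrix (Fin 2) (Fin 2) K) = 1
  have h4 : (A - 1) ^ p = 0 := pow_eq_zero_of_le (Fact.out : p.Prime).two_le h2
  rw [sub_pow_char_of_commute p (Commute.one_right A), one_pow, sub_eq_zero] at h4
  rw [Matrix.SpecialLinearGroup.coe_pow]; exact h4

theorem mem_zpowers_a {m : ℕ} [NeZero m] (x : QuaternionGroup m) (hx : ¬ orderOf x ∣ 4) :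
    ∃ i, x = QuaternionGroup.a i := by
  cases x with
  | a i => exact ⟨i, rfl⟩
  | xa i => exact absurd (by rw [QuaternionGroup.orderOf_xa]) hx


/-- Let F be a finite field of odd characteristic p and let a be a p-element of SL₂(F) normalizing a subgroup R of order prime to p with [R, a] ≠ 1. Then p = 3, R is a quaternion group of order 8, and R⟨a⟩ is isomorphic to SL₂(3). -/
theorem result (F : Type) [Field F] [Fintype F] {p : ℕ} [Fact p.Prime] [CharP F p] (hp : p ≠ 2) (a : Matrix.SpecialLinearGroup (Fin 2) F) (ha : IsPGroup p ↥(Subgroup.zpowers a)) (R : Subgroup (Matrix.SpecialLinearGroup (Fin 2) F)) (hR : (Nat.card R).Coprime p) (haR : a ∈ Subgroup.normalizer (R : Set (Matrix.SpecialLinearGroup (Fin 2) F))) (hnt : ⁅R, Subgroup.zpowers a⁆ ≠ ⊥) : p = 3 ∧ Nonempty (↥R ≃* QuaternionGroup 2) ∧ Nonempty (↥(R ⊔ Subgroup.zpowers a) ≃* Matrix.SpecialLinearGroup (Fin 2) (ZMod 3)) := by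
  classical
  have hpp : p.Prime := Fact.out
  have hap : a ^ p = 1 := pow_char_eq_one ha
  have h2 : (2 : F) ≠ 0 := two_ne_zero' (p := p) hp
  obtain ⟨x, hxR, hax⟩ : ∃ x ∈ R, a * x ≠ x * a := by
    by_contra hcon
    push Not at hcon
    apply hnt
    rw [Subgroup.commutator_eq_bot_iff_le_centralizer]
    intro x hx
    rw [Subgroup.mem_centralizer_iff]
    rintro _ ⟨k, rfl⟩
    exact ((show Commute a x from hcon x hx).zpow_left k).eq
  have hp3 : p = 3 := p_eq_three hp hap R hR haR ⟨x, hxR, hax⟩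
  subst hp3
  refine ⟨rfl, ?_⟩
  have han : Linear.NonScalar a := by
    by_contra h
    exact hax (mul_comm_of_scalar h x)
  have hcopR : ∀ r ∈ R, (orderOf r).Coprime 3 := fun r hr =>
    hR.coprime_dvd_left (Subgroup.orderOf_dvd_natCard _ hr)
  have hconj : ∀ y ∈ R, a * y * a⁻¹ ∈ R := fun y hy =>
    (Subgroup.mem_normalizer_iff.mp haR y).mp hy
  have hnc : ∀ y ∈ R, Linear.NonScalar y → (a * y * a⁻¹) * y ≠ y * (a * y * a⁻¹) := fun y hy hyn h =>
    not_commute hp han hap hyn (hcopR y hy) (commute_of_commute_conj hp hap hyn (hcopR y hy) h)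
  have hsq1 : ∀ y : Matrix.SpecialLinearGroup (Fin 2) F, y ^ 2 = 1 → y ≠ 1 →
      (y : Matrix (Fin 2) (Fin 2) F) = (-1 : F) • 1 := by
    intro y hy hy1
    have hs := not_nonScalar_of_sq h2 hy
    simp only [Linear.NonScalar, not_forall, not_not] at hs
    obtain ⟨c, hc⟩ := hs
    have hd := Linear.sl2_det y
    rw [hc] at hd ⊢
    simp at hd
    have : (c - 1) * (c + 1) = 0 := by linear_combination hd
    rcases mul_eq_zero.1 this with h | h
    · exfalso; apply hy1
      exact Subtype.ext (by rw [hc, sub_eq_zero.1 h, one_smul]; rfl)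
    · rw [eq_neg_of_add_eq_zero_left h]
  have hA : IsPGroup 3 (Subgroup.zpowers a) := ha
  have hAR : Subgroup.zpowers a ≤ Subgroup.normalizer (R : Set _) := Subgroup.zpowers_le.mpr haR
  -- `R` is a 2-group
  have hR2 : IsPGroup 2 R := by
    obtain ⟨k, hk⟩ : ∃ k, Nat.card R = 2 ^ k := by
      refine ⟨_, Nat.eq_prime_pow_of_unique_prime_dvd Nat.card_pos.ne' fun {q} hq hqd => ?_⟩
      by_contra hq2
      haveI : Fact q.Prime := ⟨hq⟩
      obtain ⟨S, hS⟩ := PLocal.exists_invariant_sylow hA hAR hR q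
      set S' := (S : Subgroup R).map R.subtype with hS'
      have hSR : S' ≤ R := Subgroup.map_subtype_le _
      have hS'q : IsPGroup q S' := S.isPGroup'.map _
      have hne : S' ≠ ⊥ := by
        intro h
        rw [hS', Subgroup.map_eq_bot_iff, Subgroup.ker_subtype, le_bot_iff] at h
        exact S.ne_bot_of_dvd_card hqd h
      haveI : Nontrivial S' := (Subgroup.nontrivial_iff_ne_bot _).2 hne
      haveI := hS'q.center_nontrivial
      obtain ⟨c, hc⟩ := exists_ne (1 : Subgroup.center S')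
      have hyn : ∀ y ∈ S', y ≠ 1 → Linear.NonScalar y := by
        intro y hy hy1
        by_contra hs
        simp only [Linear.NonScalar, not_forall, not_not] at hs
        obtain ⟨d, hd⟩ := hs
        have hdet := Linear.sl2_det y
        rw [hd] at hdet
        simp at hdet
        have h22 : y ^ 2 = 1 := Subtype.ext (by
          rw [Matrix.SpecialLinearGroup.coe_pow, hd, smul_pow, one_pow, pow_two, hdet, one_smul]; rfl)
        obtain ⟨j, hj⟩ := hS'q ⟨y, hy⟩
        replace hj : y ^ q ^ j = 1 := congrArg Subtype.val hj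
        have hcop : Nat.Coprime 2 (q ^ j) :=
          ((Nat.coprime_primes Nat.prime_two hq).2 (Ne.symm hq2)).pow_right j
        exact hy1 (orderOf_eq_one_iff.1 (Nat.eq_one_of_dvd_coprimes hcop
          (orderOf_dvd_of_pow_eq_one h22) (orderOf_dvd_of_pow_eq_one hj)))
      have hcs : ((c : S') : Matrix.SpecialLinearGroup (Fin 2) F) ≠ 1 := fun h =>
        hc (Subtype.ext (Subtype.ext h))
      have hcn := hyn _ (c : S').2 hcs
      have hab : ∀ g ∈ S', g * ((c : S') : Matrix.SpecialLinearGroup (Fin 2) F) =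
          ((c : S') : Matrix.SpecialLinearGroup (Fin 2) F) * g := fun g hg =>
        congrArg Subtype.val (Subgroup.mem_center_iff.1 c.2 ⟨g, hg⟩)
      have hmem : a * ((c : S') : Matrix.SpecialLinearGroup (Fin 2) F) * a⁻¹ ∈ S' :=
        (Subgroup.mem_normalizer_iff.mp (hS (Subgroup.mem_zpowers a)) _).mp (c : S').2
      exact hnc _ (hSR (c : S').2) hcn (hab _ hmem)
    exact IsPGroup.of_card hk
  -- at most one involution
  have hu : ∀ x y : R, orderOf x = 2 → orderOf y = 2 → y ∈ Subgroup.zpowers x := by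
    intro x y hx hy
    have key : ∀ w : R, orderOf w = 2 → ((w : Matrix.SpecialLinearGroup (Fin 2) F) :
        Matrix (Fin 2) (Fin 2) F) = (-1 : F) • 1 := fun w hw => by
      have h := hw ▸ pow_orderOf_eq_one w
      refine hsq1 _ (congrArg Subtype.val h) fun h1 => ?_
      have : w = 1 := Subtype.ext h1
      rw [this, orderOf_one] at hw; omega
    have : x = y := Subtype.ext (Subtype.ext ((key x hx).trans (key y hy).symm))
    exact this ▸ Subgroup.mem_zpowers x
  have hxn : Linear.NonScalar x := by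
    by_contra h
    exact hax (mul_comm_of_scalar h a).symm
  obtain ⟨n, hn1, ⟨e⟩⟩ : ∃ n, 1 ≤ n ∧ Nonempty (R ≃* QuaternionGroup (2 ^ n)) := by
    rcases PGroups.isCyclic_or_quaternion hR2 hu with h | ⟨-, h⟩
    · exfalso
      refine hnc x hxR hxn ?_
      have := @IsCyclic.commutative R _ h
      exact congrArg Subtype.val (mul_comm' (⟨_, hconj x hxR⟩ : R) ⟨x, hxR⟩)
    · exact h
  haveI : NeZero (2 ^ n) := ⟨pow_ne_zero _ two_ne_zero⟩
  have hn : n = 1 := by
    by_contra hne
    set u : R := e.symm (QuaternionGroup.a 1)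
    have hu4 : ¬ orderOf u ∣ 4 := by
      rw [show orderOf u = 2 * 2 ^ n by
        rw [MulEquiv.orderOf_eq, QuaternionGroup.orderOf_a_one]]
      intro h
      have h1 := Nat.le_of_dvd (by norm_num) h
      have : 2 ^ 2 ≤ 2 ^ n := Nat.pow_le_pow_right two_pos (by omega)
      omega
    have hun : Linear.NonScalar (u : Matrix.SpecialLinearGroup (Fin 2) F) := by
      by_contra h
      simp only [Linear.NonScalar, not_forall, not_not] at h
      obtain ⟨d, hd⟩ := h
      have hdet := Linear.sl2_det (u : Matrix.SpecialLinearGroup (Fin 2) F)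
      rw [hd] at hdet
      simp at hdet
      have h22 : u ^ 2 = 1 := Subtype.ext (Subtype.ext (by
        rw [SubmonoidClass.coe_pow, Matrix.SpecialLinearGroup.coe_pow, hd, smul_pow, one_pow,
          pow_two, hdet, one_smul]; rfl))
      exact hu4 ((orderOf_dvd_of_pow_eq_one h22).trans (by norm_num))
    set v : R := ⟨a * (u : Matrix.SpecialLinearGroup (Fin 2) F) * a⁻¹, hconj _ u.2⟩
    have hv : orderOf v = orderOf u := by
      rw [← Subgroup.orderOf_coe v, ← Subgroup.orderOf_coe u]
      exact MulEquiv.orderOf_eq (MulAut.conj a) _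
    obtain ⟨i, hi⟩ := mem_zpowers_a (e v) (by rw [MulEquiv.orderOf_eq, hv]; exact hu4)
    refine hnc _ u.2 hun ?_
    have : v * u = u * v := by
      apply e.injective
      rw [map_mul, map_mul, hi, MulEquiv.apply_symm_apply, QuaternionGroup.a_mul_a,
        QuaternionGroup.a_mul_a, add_comm]
    exact congrArg Subtype.val this
  subst hn
  have hRc : Nat.card R = 8 := by
    rw [Nat.card_congr e.toEquiv, Nat.card_eq_fintype_card, QuaternionGroup.card]; norm_num
  refine ⟨⟨e⟩, ?_⟩
  -- Dickson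
  set H := R ⊔ Subgroup.zpowers a with hH
  have hRH : R ≤ H := le_sup_left
  have hAH : Subgroup.zpowers a ≤ H := le_sup_right
  have hao : orderOf a = 3 := orderOf_eq_prime hap fun h => hax (by rw [h, one_mul, mul_one])
  have hHN : H ≤ Subgroup.normalizer (R : Set _) := sup_le Subgroup.le_normalizer hAR
  have hRn : (R.subgroupOf H).Normal := Subgroup.normal_subgroupOf_of_le_normalizer hHN
  have hdisj : R ⊓ Subgroup.zpowers a = ⊥ := by
    apply Subgroup.inf_eq_bot_of_coprime
    rw [hRc, Nat.card_zpowers, hao]; norm_num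
  have hHc : Nat.card H = 24 := by
    have hmul : Nat.card H = Nat.card R * (R.subgroupOf H).index := by
      rw [← Nat.card_congr (Subgroup.subgroupOfEquivOfLe hRH).toEquiv, Subgroup.card_mul_index]
    have h1 : (R.subgroupOf H).index = (R.subgroupOf H).relIndex ((Subgroup.zpowers a).subgroupOf H) := by
      rw [← Subgroup.relIndex_sup_left, ← Subgroup.subgroupOf_sup hRH hAH, hH, Subgroup.subgroupOf_self,
        Subgroup.relIndex_top_right]
    rw [hmul, h1, Subgroup.relIndex_subgroupOf hAH, ← Subgroup.inf_relIndex_right, hdisj,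
      Subgroup.relIndex_bot_left, Nat.card_zpowers, hao, hRc]
  have hsyl : 1 < Nat.card (Sylow 3 H) := by
    by_contra hle
    push Not at hle
    haveI : Subsingleton (Sylow 3 H) := Finite.card_le_one_iff_subsingleton.1 hle
    have hAp : IsPGroup 3 ((Subgroup.zpowers a).subgroupOf H) :=
      hA.of_equiv (Subgroup.subgroupOfEquivOfLe hAH).symm
    obtain ⟨P, hP⟩ := hAp.exists_le_sylow
    have hPn : (P : Subgroup H).Normal := P.normal_of_subsingleton
    set y : H := ⟨a, hAH (Subgroup.mem_zpowers a)⟩ with hy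
    set w : H := ⟨x, hRH hxR⟩ with hw
    have h1 : ⁅y, w⁆ ∈ (P : Subgroup H) := by
      rw [show ⁅y, w⁆ = y * (w * y⁻¹ * w⁻¹) by simp only [commutatorElement_def]; group]
      exact mul_mem (hP (Subgroup.mem_zpowers a))
        (hPn.conj_mem _ (inv_mem (hP (Subgroup.mem_zpowers a))) _)
    obtain ⟨k, hk⟩ := P.isPGroup' ⟨_, h1⟩
    replace hk : (⁅a, x⁆) ^ 3 ^ k = 1 := congrArg (fun t => ((t : P) : H).1) hk
    have h2 : ⁅a, x⁆ ∈ R := by
      rw [commutatorElement_def]; exact R.mul_mem (hconj x hxR) (R.inv_mem hxR)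
    have hone := orderOf_eq_one_iff.1 (Nat.eq_one_of_dvd_coprimes ((hcopR _ h2).pow_right k) dvd_rfl
      (orderOf_dvd_of_pow_eq_one hk))
    exact hax (commutatorElement_eq_one_iff_mul_comm.1 hone)
  obtain ⟨ψ, hψ, hψH⟩ := Dickson.hasSL2Copy_of_sylow hp H hsyl
  have heq : ψ.range = H := by
    refine Subgroup.eq_of_le_of_card_ge hψH ?_
    rw [hHc, ← Nat.card_congr (MonoidHom.ofInjective hψ).toEquiv, PLocal.SLTwo.card_three]
  exact ⟨((MulEquiv.subgroupCongr heq).symm.trans (MonoidHom.ofInjective hψ).symm)⟩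

end Cfsg.Agent.S3740
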