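import Cfsg.Statements.S3741

set_option autoImplicit false
open Cfsg
open scoped Pointwise commutatorElement

namespace Cfsg.Agent.S3741

theorem central_of_card_prime {G : Type*} [Group G] [Finite G] {p : ℕ} [hp : Fact p.Prime]
    (hG : IsPGroup p G) (C : Subgroup G) (hC : Nat.card C = p) {x : G}
    (hx : x ∈ Subgroup.normalizer (C : Set G)) : ∀ c ∈ C, x * c = c * x := by
  intro c hc
  by_cases hc1 : c = 1
  · subst hc1; simp
  have hgen : Subgroup.zpowers (⟨c, hc⟩ : C) = ⊤ := zpowers_eq_top_of_prime_card hC (by simpa using hc1)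
  have hord : orderOf c = p := by
    rw [← Subgroup.orderOf_mk c hc, orderOf_eq_card_of_forall_mem_zpowers (fun y => hgen ▸ Subgroup.mem_top y), hC]
  have hmem : (⟨x * c * x⁻¹, (hx c).1 hc⟩ : C) ∈ Subgroup.zpowers (⟨c, hc⟩ : C) := hgen ▸ Subgroup.mem_top _
  obtain ⟨k, hk⟩ := (mem_powers_iff_mem_zpowers.2 hmem : _ ∈ Submonoid.powers _)
  have hk' : x * c * x⁻¹ = c ^ k := by
    have := congrArg Subtype.val hk
    simpa using this.symm
  have hiter : ∀ i : ℕ, x ^ i * c * (x ^ i)⁻¹ = c ^ (k ^ i) := by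
    intro i
    induction i with
    | zero => simp
    | succ i ih =>
      calc x ^ (i + 1) * c * (x ^ (i + 1))⁻¹ = x ^ i * (x * c * x⁻¹) * (x ^ i)⁻¹ := by
            rw [pow_succ]; simp only [mul_inv_rev, mul_assoc]
        _ = (x ^ i * c * (x ^ i)⁻¹) ^ k := by rw [hk', conj_pow]
        _ = c ^ (k ^ (i + 1)) := by rw [ih, ← pow_mul, pow_succ]
  obtain ⟨n, hn⟩ := IsPGroup.iff_orderOf.1 hG x
  have h1 : c ^ (k ^ (p ^ n)) = c := by
    rw [← hiter, ← hn, pow_orderOf_eq_one]; simp
  have h2 : c ^ k = c := by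
    conv_rhs => rw [← h1]
    rw [pow_eq_pow_iff_modEq, hord, ← ZMod.natCast_eq_natCast_iff, Nat.cast_pow, ZMod.pow_card_pow]
  rw [h2] at hk'
  calc x * c = x * c * x⁻¹ * x := by group
    _ = c * x := by rw [hk']

theorem count {G : Type*} [Group G] [Finite G] {p : ℕ} [hp : Fact p.Prime]
    (hG : IsPGroup p G) (A B : Subgroup G) (hC : Nat.card ↥⁅A, B⁆ = p) :
    Nat.card {q : A × B // (q.1 : G) * q.2 = q.2 * q.1} * p =
      Nat.card B * ((p - 1) * Nat.card ↥(A ⊓ Subgroup.centralizer (B : Set G)) + Nat.card A) := by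
  classical
  haveI := Fintype.ofFinite G
  have hBnorm : ∀ b ∈ B, b ∈ Subgroup.normalizer ((⁅A, B⁆ : Subgroup G) : Set G) := by
    intro b hb
    exact Subgroup.normalizer_commutator_ge_right A B hb
  have hk : ∀ a : A, Nat.card {b : B // (a : G) * b = b * a} * p =
      Nat.card B * if (a : G) ∈ Subgroup.centralizer (B : Set G) then p else 1 := by
    intro a
    split_ifs with ha
    · congr 1
      exact Nat.card_congr (Equiv.subtypeUnivEquiv fun b => (Subgroup.mem_centralizer_iff.1 ha b b.2).symm)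
    let φ : B →* ↥⁅A, B⁆ :=
    { toFun := fun b => ⟨⁅(a : G), (b : G)⁆, Subgroup.commutator_mem_commutator a.2 b.2⟩
      map_one' := by ext; simp
      map_mul' := fun b c => by
        ext
        simp only [Subgroup.coe_mul, MulMemClass.mk_mul_mk]
        have h := central_of_card_prime hG _ hC (hBnorm b b.2) _
          (Subgroup.commutator_mem_commutator a.2 c.2)
        simp only [commutatorElement_def] at h ⊢
        calc _ = (a : G) * b * (a : G)⁻¹ * (b : G)⁻¹ *
              ((b : G) * ((a : G) * c * (a : G)⁻¹ * (c : G)⁻¹) * (b : G)⁻¹) := by group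
          _ = _ := by rw [h]; group }
    have hne : φ.range ≠ ⊥ := by
      intro h
      apply ha
      rw [Subgroup.mem_centralizer_iff]
      intro b hb
      have h1 : φ ⟨b, hb⟩ = 1 := by
        rw [← Subgroup.mem_bot, ← h]; exact ⟨_, rfl⟩
      have h2 : ⁅(a : G), b⁆ = 1 := congrArg Subtype.val h1
      exact (commutatorElement_eq_one_iff_mul_comm.1 h2).symm
    haveI : Fact (Nat.card ↥⁅A, B⁆).Prime := ⟨hC ▸ hp.out⟩
    have hrange : φ.range = ⊤ := φ.range.eq_bot_or_eq_top_of_prime_card.resolve_left hne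
    have h3 := φ.ker.card_mul_index
    rw [Subgroup.index_ker, hrange, Subgroup.card_top, hC] at h3
    rw [mul_one, ← h3]
    congr 1
    refine Nat.card_congr (Equiv.subtypeEquivRight fun b => ?_)
    rw [MonoidHom.mem_ker, Subtype.ext_iff]
    exact commutatorElement_eq_one_iff_mul_comm.symm
  rw [Nat.card_congr (Equiv.subtypeProdEquivSigmaSubtype fun (a : A) (b : B) => (a : G) * b = b * a),
    Nat.card_sigma, Finset.sum_mul, Finset.sum_congr rfl fun a _ => hk a, ← Finset.mul_sum]
  congr 1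
  have h4 : (Finset.univ.filter fun a : A => (a : G) ∈ Subgroup.centralizer (B : Set G)).card =
      Nat.card ↥(A ⊓ Subgroup.centralizer (B : Set G)) := by
    rw [← Fintype.card_subtype, ← Nat.card_eq_fintype_card]
    exact Nat.card_congr ((Equiv.subtypeSubtypeEquivSubtypeInter (· ∈ A)
      (· ∈ Subgroup.centralizer (B : Set G))).trans (Equiv.subtypeEquivRight fun _ => Subgroup.mem_inf.symm))
  have h5 : ∀ a : A, (if (a : G) ∈ Subgroup.centralizer (B : Set G) then p else 1) =
      (if (a : G) ∈ Subgroup.centralizer (B : Set G) then p - 1 else 0) + 1 := by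
    intro a; have := hp.out.one_le; split_ifs <;> omega
  simp only [h5, Finset.sum_add_distrib, Finset.sum_const, Finset.card_univ, smul_eq_mul, mul_one,
    ← Finset.sum_filter, h4, ← Nat.card_eq_fintype_card]
  ring

/-- Let A and B be subgroups of a finite p-group with [A, B] ≤ A ∩ B and [A, B] of order at most p. Then |A : C_A(B)| = |B : C_B(A)|. -/
theorem result {G : Type*} [Group G] [Finite G] {p : ℕ} [Fact p.Prime] (hG : IsPGroup p G) (A B : Subgroup G) (hAB : ⁅A, B⁆ ≤ A ⊓ B) (hcard : Nat.card ↥⁅A, B⁆ ≤ p) : (A ⊓ Subgroup.centralizer (B : Set G)).relIndex A = (B ⊓ Subgroup.centralizer (A : Set G)).relIndex B := by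
  have hp := (Fact.out : p.Prime)
  by_cases hbot : ⁅A, B⁆ = ⊥
  · rw [Subgroup.relIndex_eq_one.2, Subgroup.relIndex_eq_one.2]
    · exact le_inf le_rfl (Subgroup.commutator_eq_bot_iff_le_centralizer.1 (Subgroup.commutator_comm A B ▸ hbot))
    · exact le_inf le_rfl (Subgroup.commutator_eq_bot_iff_le_centralizer.1 hbot)
  have hC : Nat.card ↥⁅A, B⁆ = p := by
    obtain ⟨n, hn⟩ := IsPGroup.iff_card.1 (hG.to_subgroup ⁅A, B⁆)
    have h1 : 1 < Nat.card ↥⁅A, B⁆ := (Subgroup.one_lt_card_iff_ne_bot _).2 hbot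
    rw [hn] at h1 hcard ⊢
    have : n = 1 := by
      rcases n with _ | _ | n
      · simp at h1
      · rfl
      · have : p ^ 1 < p ^ (n + 2) := Nat.pow_lt_pow_right hp.one_lt (by omega)
        simp only [pow_one] at this; exact absurd hcard (not_le.2 this)
    rw [this, pow_one]
  have hAB' := count hG A B hC
  have hBA := count hG B A (Subgroup.commutator_comm A B ▸ hC)
  have hsym : Nat.card {q : A × B // (q.1 : G) * q.2 = q.2 * q.1} =
      Nat.card {q : B × A // (q.1 : G) * q.2 = q.2 * q.1} :=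
    Nat.card_congr ((Equiv.prodComm A B).subtypeEquiv fun q => by simp [eq_comm])
  rw [hsym, hBA] at hAB'
  have h6 : Nat.card B * Nat.card ↥(A ⊓ Subgroup.centralizer (B : Set G)) =
      Nat.card A * Nat.card ↥(B ⊓ Subgroup.centralizer (A : Set G)) := by
    apply Nat.eq_of_mul_eq_mul_left (n := p - 1) (by have := hp.two_le; omega)
    linarith

  have cA : Nat.card ↥(A ⊓ Subgroup.centralizer (B : Set G)) *
      (A ⊓ Subgroup.centralizer (B : Set G)).relIndex A = Nat.card A := by
    rw [Subgroup.relIndex, ← Nat.card_congr (Subgroup.subgroupOfEquivOfLe inf_le_left).toEquiv]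
    exact Subgroup.card_mul_index _
  have cB : Nat.card ↥(B ⊓ Subgroup.centralizer (A : Set G)) *
      (B ⊓ Subgroup.centralizer (A : Set G)).relIndex B = Nat.card B := by
    rw [Subgroup.relIndex, ← Nat.card_congr (Subgroup.subgroupOfEquivOfLe inf_le_left).toEquiv]
    exact Subgroup.card_mul_index _
  rw [← cA, ← cB] at h6
  apply Nat.eq_of_mul_eq_mul_left (n := Nat.card ↥(A ⊓ Subgroup.centralizer (B : Set G)) *
    Nat.card ↥(B ⊓ Subgroup.centralizer (A : Set G))) (Nat.mul_pos Nat.card_pos Nat.card_pos)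
  linarith

end Cfsg.Agent.S3741
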