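import Cfsg.Statements.S3743
import Cfsg.Agent.Lib.Cores.Pi

set_option autoImplicit false
open Cfsg

namespace Cfsg.Agent.S3743

open Cfsg.Agent.Lib

theorem le_pi {G : Type*} [Group G] [Finite G] {π : Set ℕ} {H : Subgroup G} (hH : H.IsSubnormal)
    (hp : ∀ p : ℕ, p.Prime → p ∣ Nat.card H → p ∈ π) : H ≤ piCore π G := by
  suffices key : ∀ K : Subgroup G, K.IsSubnormal → (piCore π K).map K.subtype ≤ piCore π G by
    refine le_trans ?_ (key H hH)
    have : piCore π H = ⊤ := top_le_iff.1 (Cores.le_piCore fun p hpp hd =>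
      hp p hpp (by rwa [Subgroup.card_top] at hd))
    rw [this, ← MonoidHom.range_eq_map, Subgroup.range_subtype]
  intro K hK
  induction hK with
  | top =>
    haveI := Cores.normal_map_subtype (⊤ : Subgroup G) (Cfsg.piCore π (⊤ : Subgroup G))
    exact Cores.le_piCore fun p hpp hd =>
      Cores.piCore_isPiGroup π p hpp (hd.trans (Subgroup.card_map_dvd _ _))
  | step H K hle _ hN ih =>
    haveI := hN
    refine le_trans ?_ ih
    haveI := Cores.normal_map_subtype (H.subgroupOf K) (Cfsg.piCore π (H.subgroupOf K))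
    have h1 : ((Cfsg.piCore π (H.subgroupOf K)).map (H.subgroupOf K).subtype).map K.subtype
        ≤ (Cfsg.piCore π K).map K.subtype :=
      Subgroup.map_mono (Cores.le_piCore fun p hpp hd =>
        Cores.piCore_isPiGroup π p hpp (hd.trans (Subgroup.card_map_dvd _ _)))
    refine le_trans (le_of_eq ?_) h1
    rw [← Cores.map_piCore_equiv (Subgroup.subgroupOfEquivOfLe hle), Subgroup.map_map, Subgroup.map_map]
    rfl

/-- In a finite group G, every subnormal nilpotent subgroup lies in the Fitting subgroup F(G), and, for a set of primes π, every subnormal subgroup all of whose prime divisors lie in π lies in O_π(G). -/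
theorem result {G : Type*} [Group G] [Finite G] (A : Subgroup G) (hA : A.IsSubnormal) : (Group.IsNilpotent A → A ≤ Cfsg.fittingSubgroup G) ∧ ∀ π : Set ℕ, (∀ p : ℕ, p.Prime → p ∣ Nat.card A → p ∈ π) → A ≤ Cfsg.piCore π G := by
  exact ⟨fun h => Cores.IsSubnormal.le_fittingSubgroup hA h, fun π h => le_pi hA h⟩

end Cfsg.Agent.S3743
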