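import Cfsg.Statements.S3744
import Cfsg.Agent.Lib.Hall.PSolvable

set_option autoImplicit false
open Cfsg

namespace Cfsg.Agent.S3744

open Cfsg.Agent.Lib.Hall Cfsg.Agent.Lib.Hall.PSolvable
open scoped Pointwise

/-- A finite p-soluble group has a p-complement, all its p-complements are conjugate, and every subgroup of order prime to p lies in one of them. Here a p-complement is a subgroup of order prime to p whose index is a power of p. -/
theorem result {G : Type*} [Group G] [Finite G] {p : ℕ} [Fact p.Prime] (hG : Cfsg.IsPSolvable p G) : (∃ H : Subgroup G, (Nat.card H).Coprime p ∧ ∃ n : ℕ, H.index = p ^ n) ∧ (∀ H₁ H₂ : Subgroup G, (Nat.card H₁).Coprime p → (∃ n : ℕ, H₁.index = p ^ n) → (Nat.card H₂).Coprime p → (∃ n : ℕ, H₂.index = p ^ n) → ∃ g : G, H₂ = H₁.map (MulAut.conj g).toMonoidHom) ∧ (∀ U : Subgroup G, (Nat.card U).Coprime p → ∃ H : Subgroup G, (Nat.card H).Coprime p ∧ (∃ n : ℕ, H.index = p ^ n) ∧ ∃ g : G, U.map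 (MulAut.conj g).toMonoidHom ≤ H) := by
  have hp : p.Prime := Fact.out
  obtain ⟨H, hH⟩ := exists_pComplement hG
  refine ⟨⟨H, (isPiHall_iff_coprime hp H).mp hH⟩, ?_, ?_⟩
  · intro H₁ H₂ h1 h1' h2 h2'
    obtain ⟨g, hg⟩ := exists_conj_eq hG ((isPiHall_iff_coprime hp H₁).mpr ⟨h1, h1'⟩)
      ((isPiHall_iff_coprime hp H₂).mpr ⟨h2, h2'⟩)
    exact ⟨g, hg.symm⟩
  · intro U hU
    obtain ⟨g, hg⟩ := exists_conj_le hG hH hU
    refine ⟨H, ((isPiHall_iff_coprime hp H).mp hH).1, ((isPiHall_iff_coprime hp H).mp hH).2, g⁻¹, ?_⟩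
    rw [Subgroup.pointwise_smul_def] at hg
    rintro _ ⟨u, hu, rfl⟩
    obtain ⟨h, hh, rfl⟩ := hg hu
    simpa [mul_assoc] using hh

end Cfsg.Agent.S3744
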