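import Cfsg.Statements.S3746
import Cfsg.Agent.Lib.Components.Basic

set_option autoImplicit false
open Cfsg
open scoped Pointwise commutatorElement

namespace Cfsg.Agent.S3746

open Cfsg.Agent.Lib

theorem subnormal_comap {G H : Type*} [Group G] [Group H] (f : G →* H) {K : Subgroup H}
    (hK : K.IsSubnormal) : (K.comap f).IsSubnormal := by
  induction hK with
  | top => simp
  | step A B hle _ hN ih =>
    refine Subgroup.IsSubnormal.step _ _ (Subgroup.comap_mono hle) ih ?_
    rw [Subgroup.normal_subgroupOf_iff_le_normalizer (Subgroup.comap_mono hle)]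
    exact (Subgroup.comap_mono ((Subgroup.normal_subgroupOf_iff_le_normalizer hle).1 hN)).trans
      (Subgroup.le_normalizer_comap f)

/-- Let Z ≤ Z(G) be a central subgroup of a finite group G and E a subgroup of G containing Z whose image E/Z is a component of G/Z (subnormal and quasisimple). Then the derived subgroup [E, E] is a component of G. -/
theorem result {G : Type*} [Group G] [Finite G] (Z : Subgroup G) (hZ : Z ≤ Subgroup.center G) [Z.Normal] (E : Subgroup G) (hZE : Z ≤ E) (hE : Cfsg.IsComponent (E.map (QuotientGroup.mk' Z))) : Cfsg.IsComponent ⁅E, E⁆ := by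
  set f := QuotientGroup.mk' Z with hf
  set Kb := E.map f with hKb
  set D := ⁅E, E⁆ with hD
  have hEc : E = Kb.comap f := by
    rw [hKb, Subgroup.comap_map_eq, hf, QuotientGroup.ker_mk', sup_eq_left.2 hZE]
  have hDE : D ≤ E := Subgroup.commutator_le_self E
  have hsub : E.IsSubnormal := hEc ▸ subnormal_comap f hE.1
  have hDsub : D.IsSubnormal := by
    refine Subgroup.IsSubnormal.step _ _ hDE hsub ?_
    rw [Subgroup.normal_subgroupOf_iff_le_normalizer hDE]
    exact Subgroup.normalizer_commutator_ge_left E E
  have hperf : ⁅Kb, Kb⁆ = Kb := Subgroup.isPerfect_iff.mp hE.2.1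
  have hmap : D.map f = Kb := by rw [hD, Subgroup.map_commutator]; exact hperf
  have hDD : ⁅D, D⁆ = D := by
    refine le_antisymm (Subgroup.commutator_le_self D) ?_
    have hsplit : ∀ e ∈ E, ∃ d ∈ D, ∃ z ∈ Z, d * z = e := by
      intro e he
      have h : e ∈ D ⊔ Z := by
        have : E = D ⊔ Z := by
          rw [← QuotientGroup.ker_mk' Z, ← Subgroup.comap_map_eq, ← hf, hmap, ← hEc]
        exact this ▸ he
      rw [← SetLike.mem_coe, Subgroup.mul_normal] at h
      obtain ⟨d, hd, z, hz, rfl⟩ := h
      exact ⟨d, hd, z, hz, rfl⟩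
    rw [hD, Subgroup.commutator_le]
    intro u hu v hv
    obtain ⟨d, hd, z, hz, rfl⟩ := hsplit u hu
    obtain ⟨d', hd', z', hz', rfl⟩ := hsplit v hv
    have h1 : ⁅d * z, d' * z'⁆ = ⁅d, d'⁆ := by
      have e1 : ∀ g, g * z = z * g := Subgroup.mem_center_iff.1 (hZ hz)
      have e2 : ∀ g, g * z' = z' * g := Subgroup.mem_center_iff.1 (hZ hz')
      simp only [commutatorElement_def, mul_inv_rev]
      calc d * z * (d' * z') * (z⁻¹ * d⁻¹) * (z'⁻¹ * d'⁻¹)
          = d * (z * (d' * z')) * z⁻¹ * d⁻¹ * z'⁻¹ * d'⁻¹ := by group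
        _ = d * d' * z' * (z * z⁻¹) * d⁻¹ * z'⁻¹ * d'⁻¹ := by rw [← e1]; group
        _ = d * d' * (z' * d⁻¹) * z'⁻¹ * d'⁻¹ := by group
        _ = d * d' * d⁻¹ * d'⁻¹ := by rw [← e2]; group
    rw [h1]
    exact Subgroup.commutator_mem_commutator hd hd'
  refine ⟨hDsub, Subgroup.isPerfect_iff.mpr hDD, ?_⟩
  let g : D →* Kb := (f.comp D.subtype).codRestrict Kb fun x => ⟨x, hDE x.2, rfl⟩
  have hg : Function.Surjective g := fun ⟨y, hy⟩ => by
    obtain ⟨x, hx, rfl⟩ : y ∈ D.map f := hmap ▸ hy
    exact ⟨⟨x, hx⟩, rfl⟩
  let h : D →* Kb ⧸ Subgroup.center Kb := (QuotientGroup.mk' _).comp g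
  have hh : Function.Surjective h := (QuotientGroup.mk'_surjective _).comp hg
  have hker : h.ker = Subgroup.center D := by
    ext x
    rw [MonoidHom.mem_ker, Subgroup.mem_center_iff]
    change QuotientGroup.mk' _ (g x) = 1 ↔ _
    rw [QuotientGroup.mk'_apply, QuotientGroup.eq_one_iff, Subgroup.mem_center_iff]
    constructor
    · intro hx
      let φ : D →* G :=
      { toFun := fun d => ⁅(x : G), (d : G)⁆
        map_one' := by simp
        map_mul' := fun a b => by
          have hb : ⁅(x : G), (b : G)⁆ ∈ Subgroup.center G := by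
            apply hZ
            rw [← QuotientGroup.ker_mk' Z, MonoidHom.mem_ker, map_commutatorElement,
              commutatorElement_eq_one_iff_mul_comm]
            exact (congrArg Subtype.val (hx (g b))).symm
          rw [Subgroup.coe_mul, commutatorElement_mul_right_eq_mul_conj]
          rw [mul_assoc _ (a : G), Subgroup.mem_center_iff.1 hb (a : G), mul_assoc, mul_assoc,
            mul_inv_cancel, mul_one] }
      have hφ : commutator D ≤ φ.ker := by
        rw [commutator_def, Subgroup.commutator_le]
        intro a _ b _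
        rw [MonoidHom.mem_ker, map_commutatorElement, commutatorElement_eq_one_iff_mul_comm]
        have hb : φ b ∈ Subgroup.center G := by
          apply hZ
          change ⁅(x : G), (b : G)⁆ ∈ Z
          rw [← QuotientGroup.ker_mk' Z, MonoidHom.mem_ker, map_commutatorElement,
            commutatorElement_eq_one_iff_mul_comm]
          exact (congrArg Subtype.val (hx (g b))).symm
        exact Subgroup.mem_center_iff.1 hb _
      intro d
      have htop : commutator D = ⊤ := by
        apply Subgroup.map_injective D.subtype_injective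
        rw [Subgroup.map_subtype_commutator, hDD, ← MonoidHom.range_eq_map, Subgroup.range_subtype]
      have hd : φ d = 1 := MonoidHom.mem_ker.1 (hφ (htop ▸ Subgroup.mem_top d))
      exact Subtype.ext (commutatorElement_eq_one_iff_mul_comm.1 hd).symm
    · intro hx y
      obtain ⟨d, rfl⟩ := hg y
      rw [← map_mul, ← map_mul, hx]
  exact (MulEquiv.isSimpleGroup_congr
    ((QuotientGroup.quotientMulEquivOfEq hker.symm).trans
      (QuotientGroup.quotientKerEquivOfSurjective h hh))).2 hE.2.2

end Cfsg.Agent.S3746
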