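import Cfsg.Statements.S3747
import Cfsg.Agent.Lib.Components.GenFitting
import Cfsg.Agent.Lib.Cores.Basic

set_option autoImplicit false
open Cfsg

namespace Cfsg.Agent.S3747

open Cfsg.Agent.Lib

theorem nilpotent_of_comm {K : Type*} [Group K] (h : IsMulCommutative K) : Group.IsNilpotent K :=
  letI : CommGroup K := { (inferInstance : Group K) with mul_comm := h.is_comm.comm }
  CommGroup.isNilpotent

theorem center_trivial_aux {G : Type*} [Group G] [Finite G] [DecidableEq (Subgroup G)] (s : Finset (Subgroup G))
    (hs : ∀ K ∈ s, IsComponent K ∧ Subgroup.center ↥K = ⊥) :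
    ∀ z ∈ s.sup id, (∀ K ∈ s, z ∈ Subgroup.centralizer (K : Set G)) → z = 1 := by
  induction s using Finset.induction with
  | empty => intro z hz _; simpa using hz
  | insert K t hKt ih =>
    intro z hz hc
    have hK := hs K (Finset.mem_insert_self K t)
    set R := t.sup id with hR
    have hRK : R ≤ Subgroup.centralizer (K : Set G) := Finset.sup_le fun L hL =>
      Components.Component.le_centralizer_of_ne (hs L (Finset.mem_insert_of_mem hL)).1 hK.1
        (fun e => hKt (e ▸ hL))
    rw [Finset.sup_insert, id_eq, ← hR, ← SetLike.mem_coe, sup_comm,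
      Subgroup.coe_mul_of_left_le_normalizer_right R K
        (hRK.trans (Subgroup.centralizer_le_normalizer _))] at hz
    obtain ⟨r, hr, k, hk, rfl⟩ := hz
    have hk1 : k = 1 := by
      have h : (⟨k, hk⟩ : K) ∈ Subgroup.center K := by
        rw [Subgroup.mem_center_iff]
        rintro ⟨y, hy⟩
        ext
        have hkc : k ∈ Subgroup.centralizer (K : Set G) := by
          have := mul_mem (inv_mem (hRK hr)) (hc K (Finset.mem_insert_self K t))
          simpa using this
        exact Subgroup.mem_centralizer_iff.1 hkc y hy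
      rw [hK.2, Subgroup.mem_bot] at h
      exact congrArg Subtype.val h
    subst hk1
    simp only [mul_one] at hc ⊢
    exact ih (fun L hL => hs L (Finset.mem_insert_of_mem hL)) r hr
      (fun L hL => hc L (Finset.mem_insert_of_mem hL))

theorem part1 {G : Type*} [Group G] [Finite G] (K : Subgroup G) (hK : IsComponent K)
    (hc : Subgroup.center ↥K = ⊥) (N : Subgroup G) [hNn : N.Normal]
    (hle : N ≤ Subgroup.normalClosure (K : Set G)) :
    N = ⊥ ∨ N = Subgroup.normalClosure (K : Set G) := by
  classical
  rcases Components.Component.le_or_commutator_eq_bot hK hNn.isSubnormal with h | h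
  · right
    exact le_antisymm hle (Subgroup.normalClosure_le_normal h)
  left
  have hKN : K ≤ Subgroup.centralizer (N : Set G) := Subgroup.commutator_eq_bot_iff_le_centralizer.1 (Subgroup.commutator_comm K N ▸ h)
  haveI := Fintype.ofFinite G
  let s : Finset (Subgroup G) := Finset.univ.image fun g : G => K.map (MulAut.conj g).toMonoidHom
  have hle' : Subgroup.normalClosure (K : Set G) ≤ s.sup id := by
    rw [Subgroup.normalClosure, Subgroup.closure_le]
    intro x hx
    obtain ⟨k, hk, hkx⟩ := Group.mem_conjugatesOfSet_iff.1 hx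
    obtain ⟨g, hg⟩ := isConj_iff.1 hkx
    exact (Finset.le_sup (f := id) (Finset.mem_image_of_mem _ (Finset.mem_univ g)) :
      K.map (MulAut.conj g).toMonoidHom ≤ s.sup id) ⟨k, hk, hg⟩
  rw [eq_bot_iff]
  intro z hz
  rw [Subgroup.mem_bot]
  refine center_trivial_aux s ?_ z (hle' (hle hz)) ?_
  · intro L hL
    simp only [s, Finset.mem_image, Finset.mem_univ, true_and] at hL
    obtain ⟨g, rfl⟩ := hL
    refine ⟨Components.Component.conj hK g, ?_⟩
    let e := K.equivMapOfInjective (MulAut.conj g).toMonoidHom (MulAut.conj g).injective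
    rw [eq_bot_iff]
    intro w hw
    have h1 : e.symm w ∈ Subgroup.center K := by
      rw [Subgroup.mem_center_iff] at hw ⊢
      intro y
      apply e.injective
      rw [map_mul, map_mul, MulEquiv.apply_symm_apply]
      exact hw (e y)
    rw [hc, Subgroup.mem_bot, MulEquiv.map_eq_one_iff] at h1
    exact Subgroup.mem_bot.2 h1
  · intro L hL
    simp only [s, Finset.mem_image, Finset.mem_univ, true_and] at hL
    obtain ⟨g, rfl⟩ := hL
    rw [Subgroup.mem_centralizer_iff]
    rintro _ ⟨k, hk, rfl⟩
    have hcomm := Subgroup.mem_centralizer_iff.1 (hKN hk) (g⁻¹ * z * g) (by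
      simpa using hNn.conj_mem z hz g⁻¹)
    simp only [MulEquiv.coe_toMonoidHom, MulAut.conj_apply]
    calc g * k * g⁻¹ * z = g * (k * (g⁻¹ * z * g)) * g⁻¹ := by group
      _ = g * ((g⁻¹ * z * g) * k) * g⁻¹ := by rw [hcomm]
      _ = z * (g * k * g⁻¹) := by group

/-- Let G be a finite group. (a) If K is a component of G with trivial centre, then the normal closure of K in G is a minimal normal subgroup of G. (b) If the Fitting subgroup of G is trivial, then the layer E(G) is generated by the minimal normal subgroups of G. -/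
theorem result {G : Type*} [Group G] [Finite G] : (∀ K : Subgroup G, Cfsg.IsComponent K → Subgroup.center ↥K = ⊥ → (Subgroup.normalClosure (K : Set G) ≠ ⊥ ∧ ∀ N : Subgroup G, N.Normal → N ≤ Subgroup.normalClosure (K : Set G) → N = ⊥ ∨ N = Subgroup.normalClosure (K : Set G))) ∧ (Cfsg.fittingSubgroup G = ⊥ → sSup {N : Subgroup G | N ≠ ⊥ ∧ N.Normal ∧ ∀ N' : Subgroup G, N'.Normal → N' ≤ N → N' = ⊥ ∨ N' = N} = Cfsg.layer G) := by
  have hne : ∀ K : Subgroup G, Cfsg.IsComponent K → Subgroup.normalClosure (K : Set G) ≠ ⊥ := by
    intro K hK h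
    exact Components.Component.ne_bot hK (eq_bot_iff.2 (h ▸ Subgroup.le_normalClosure))
  refine ⟨fun K hK hc => ⟨hne K hK, fun N hN hle => part1 K hK hc N (hNn := hN) hle⟩, fun hF => ?_⟩
  have hcen : ∀ K : Subgroup G, Cfsg.IsComponent K → Subgroup.center ↥K = ⊥ := by
    intro K hK
    have hsub : ((Subgroup.center ↥K).map K.subtype).IsSubnormal := by
      refine Subgroup.IsSubnormal.step _ K (Subgroup.map_subtype_le _) hK.1 ?_
      rw [Subgroup.subgroupOf, Subgroup.comap_map_eq_self_of_injective K.subtype_injective]
      infer_instance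
    have hnil : Group.IsNilpotent ↥((Subgroup.center ↥K).map K.subtype) :=
      Cores.isNilpotent_map _ (nilpotent_of_comm inferInstance)
    have := Cores.IsSubnormal.le_fittingSubgroup hsub hnil
    rw [hF, le_bot_iff, Subgroup.map_eq_bot_iff_of_injective _ K.subtype_injective] at this
    exact this
  apply le_antisymm
  · refine sSup_le fun N ⟨hN0, hNn, hmin⟩ => ?_
    by_cases hex : ∃ K : Subgroup G, Cfsg.IsComponent K ∧ K ≤ N
    · obtain ⟨K, hK, hKN⟩ := hex
      have hK' : K ≤ N ⊓ layer G := le_inf hKN (Components.Layer.component_le_layer hK)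
      rcases hmin _ inferInstance (inf_le_left : N ⊓ layer G ≤ N) with h | h
      · exact absurd (eq_bot_iff.2 (h ▸ hK')) (Components.Component.ne_bot hK)
      · exact h ▸ inf_le_right
    · exfalso
      push Not at hex
      have hNc : N ≤ Subgroup.centralizer (generalizedFittingSubgroup G : Set G) := by
        rw [← Subgroup.commutator_eq_bot_iff_le_centralizer, Subgroup.commutator_comm,
          Subgroup.commutator_eq_bot_iff_le_centralizer, generalizedFittingSubgroup, hF, sup_bot_eq]
        refine sSup_le fun K hK => ?_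
        rw [← Subgroup.commutator_eq_bot_iff_le_centralizer, Subgroup.commutator_comm]
        exact (Components.Component.le_or_commutator_eq_bot hK hNn.isSubnormal).resolve_left (hex K hK)
      have hNF := hNc.trans Components.GenFitting.centralizer_le
      have hab : IsMulCommutative N := ⟨⟨fun a b => Subtype.ext
        (Subgroup.mem_centralizer_iff.1 (hNc b.2) a (hNF a.2))⟩⟩
      haveI := hNn
      have h1 := Cores.le_fittingSubgroup (N := N) (nilpotent_of_comm inferInstance)
      rw [hF, le_bot_iff] at h1
      exact hN0 h1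
  · refine sSup_le fun K hK => ?_
    refine Subgroup.le_normalClosure.trans (le_sSup ⟨hne K hK, Subgroup.normalClosure_normal, ?_⟩)
    exact fun N hN hle => part1 K hK (hcen K hK) N (hNn := hN) hle

end Cfsg.Agent.S3747
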