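import Cfsg.Statements.S3748
import Cfsg.Agent.Lib.Cores.Subnormal
import Cfsg.Agent.Lib.SubnormSet.Basic
import Cfsg.Agent.Lib.Coprime.Conjugacy

set_option autoImplicit false
open Cfsg

namespace Cfsg.Agent.S3748

open Subgroup Cfsg.Agent.Lib.Coprime
open scoped Pointwise

theorem eq_bot_of_subnormal {G : Type*} [Group G] [Finite G] (M : Subgroup G) (hM : M ≠ ⊤)
    (hprim : ∀ N : Subgroup G, N ≤ M → M ≤ Subgroup.normalizer (N : Set G) → N ≠ ⊥ →
      Subgroup.normalizer (N : Set G) = M)
    (L : Subgroup G) (hL : L.IsSubnormal) (hLM : L ≤ M) : L = ⊥ := by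
  obtain ⟨N, hN⟩ := (Set.toFinite {K : Subgroup G | K.IsSubnormal ∧ K ≤ M}).exists_maximal
    ⟨L, hL, hLM⟩
  have htop : ∀ K : Subgroup G, K.IsSubnormal → K ≤ M → K ≤ N := fun K hK hKM =>
    le_sup_right.trans (hN.2 ⟨Cfsg.Agent.Lib.Cores.Subnormal.sup hN.1.1 hK, sup_le hN.1.2 hKM⟩
      le_sup_left)
  by_contra hne
  have hNne : N ≠ ⊥ := fun h => hne (le_bot_iff.mp (h ▸ htop L hL hLM))
  have hMN : M ≤ normalizer (N : Set G) := by
    intro m hm
    apply mem_normalizer_of_conj_smul_eq
    have hle : MulAut.conj m • N ≤ N := htop _ (hN.1.1.smul _) (by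
      rw [← conj_smul_eq_self_of_mem_normalizer (le_normalizer hm : m ∈ normalizer (M : Set G))]
      exact pointwise_smul_le_pointwise_smul_iff.mpr hN.1.2)
    exact eq_of_le_of_card_ge hle (Nat.le_of_eq (Nat.card_congr (equivSMul _ N).toEquiv))
  have hnor := hprim N hN.1.2 hMN hNne
  suffices ∀ H : Subgroup G, H.IsSubnormal → H = N → False from this N hN.1.1 rfl
  intro H hH
  induction hH with
  | top =>
    intro h
    exact hM (top_le_iff.mp (h ▸ hN.1.2))
  | step H K hle hK hnorm ih =>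
    intro h
    subst h
    rw [normal_subgroupOf_iff_le_normalizer hle, hnor] at hnorm
    exact ih (le_antisymm (htop K hK hnorm) hle)

/-- Call a proper subgroup M of G primitive when M = N_G(N) for every non-trivial normal subgroup N of M. If M is a primitive subgroup of the finite group G, then no non-trivial subnormal subgroup of G is contained in M; in particular M ∩ F(G) = 1. -/
theorem result {G : Type*} [Group G] [Finite G] (M : Subgroup G) (hM : M ≠ ⊤) (hprim : ∀ N : Subgroup G, N ≤ M → M ≤ Subgroup.normalizer (N : Set G) → N ≠ ⊥ → Subgroup.normalizer (N : Set G) = M) : (∀ L : Subgroup G, L.IsSubnormal → L ≤ M → L = ⊥) ∧ M ⊓ Cfsg.fittingSubgroup G = ⊥ := by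
  refine ⟨fun L hL hLM => eq_bot_of_subnormal M hM hprim L hL hLM, ?_⟩
  have : Group.IsNilpotent (Cfsg.fittingSubgroup G) := Cfsg.Agent.Lib.Cores.fittingSubgroup_isNilpotent
  have hF : (Cfsg.fittingSubgroup G).Normal := Cfsg.Agent.Lib.Cores.fittingSubgroup_normal
  refine eq_bot_of_subnormal M hM hprim _ ?_ inf_le_left
  exact Subgroup.IsSubnormal.trans inf_le_right
    (Cfsg.Agent.Lib.SubnormSet.isSubnormal_of_isNilpotent _) hF.isSubnormal

end Cfsg.Agent.S3748
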