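import Cfsg.Statements.S3749
import Cfsg.Agent.Lib.Coprime.Glauberman
import Cfsg.Agent.Lib.Cores.Basic

set_option autoImplicit false
open Cfsg

namespace Cfsg.Agent.S3749

open Subgroup Cfsg.Agent.Lib.Coprime
open scoped Pointwise

/-- Call a proper subgroup M of G primitive when M = N_G(N) for every non-trivial normal subgroup N of M. Let M be a primitive subgroup of the finite group G, p a prime with O_p(M) ≠ 1, and N a normal subgroup of G with M ∩ N = 1. Then p does not divide the order of N; for every prime q there is exactly one Sylow q-subgroup of N normalized by M; and if the order of N has at least two prime divisors then M is not a maximal subgroup of G. -/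
theorem result {G : Type*} [Group G] [Finite G] (M : Subgroup G) (hM : M ≠ ⊤) (hprim : ∀ N : Subgroup G, N ≤ M → M ≤ Subgroup.normalizer (N : Set G) → N ≠ ⊥ → Subgroup.normalizer (N : Set G) = M) {p : ℕ} [Fact p.Prime] (hOp : Cfsg.pCore p ↥M ≠ ⊥) (N : Subgroup G) [N.Normal] (hMN : M ⊓ N = ⊥) : ¬ p ∣ Nat.card N ∧ (∀ q : ℕ, [Fact q.Prime] → ∃! Q : Sylow q ↥N, M ≤ Subgroup.normalizer ((Q : Subgroup ↥N).map N.subtype : Set G)) ∧ ((∃ q r : ℕ, q.Prime ∧ r.Prime ∧ q ≠ r ∧ q ∣ Nat.card N ∧ r ∣ Nat.card N) → ¬ IsCoatom M) := by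
  set P := (Cfsg.pCore p ↥M).map M.subtype with hPdef
  have hPp : IsPGroup p P := (Cfsg.Agent.Lib.Cores.pCore_isPGroup p).map _
  have hPne : P ≠ ⊥ := fun h => hOp ((Subgroup.map_eq_bot_iff_of_injective _ M.subtype_injective).mp h)
  have hMP : M ≤ normalizer (P : Set G) := by
    intro m hm
    apply mem_normalizer_of_conj_smul_eq
    rw [hPdef]
    have h1 := conj_smul_eq_self_of_mem_normalizer (H := Cfsg.pCore p ↥M) (g := ⟨m, hm⟩)
      (le_normalizer_of_normal (mem_top _))
    conv_rhs => rw [← h1]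
    rw [map_conj_smul]
    rfl
  have hPM : normalizer (P : Set G) = M := hprim P (map_subtype_le _) hMP hPne
  have hCN : N ⊓ centralizer (P : Set G) = ⊥ := by
    rw [eq_bot_iff, ← hMN]
    intro x hx
    refine mem_inf.mpr ⟨hPM ▸ ?_, (mem_inf.mp hx).1⟩
    apply mem_normalizer_of_conj_smul_eq
    ext y
    have hc := fun y hy => mem_centralizer_iff.mp (mem_inf.mp hx).2 y hy
    rw [mem_conj_smul]
    constructor
    · intro hy
      have := hc _ hy
      have e : y = x⁻¹ * y * x := by
        calc y = x * (x⁻¹ * y * x) * x⁻¹ := by group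
          _ = _ := by rw [← this]; group
      rwa [e]
    · intro hy
      rwa [mul_assoc, hc y hy, inv_mul_cancel_left]
  have hPN : P ≤ normalizer (N : Set G) := fun x _ => le_normalizer_of_normal (mem_top x)
  have hpN : ¬ p ∣ Nat.card N := by
    intro hdvd
    let act : MulAction P N :=
      { smul := fun u x => ⟨(u : G) * x * (u : G)⁻¹, (inferInstance : N.Normal).conj_mem _ x.2 _⟩
        one_smul := fun x => Subtype.ext (by show ((1 : G)) * x * (1 : G)⁻¹ = x; simp)
        mul_smul := fun u v x => Subtype.ext (by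
          show ((u * v : P) : G) * x * ((u * v : P) : G)⁻¹ =
            (u : G) * ((v : G) * x * (v : G)⁻¹) * (u : G)⁻¹
          simp only [Subgroup.coe_mul]; group) }
    letI := act
    have h1 : (1 : N) ∈ MulAction.fixedPoints P N := fun u => Subtype.ext (by
      show (u : G) * 1 * (u : G)⁻¹ = 1
      simp)
    obtain ⟨y, hy, hy1⟩ := hPp.exists_fixed_point_of_prime_dvd_card_of_fixed_point N hdvd h1
    refine hy1 (Subtype.ext (Eq.symm ?_))
    have hmem : (y : G) ∈ N ⊓ centralizer (P : Set G) := mem_inf.mpr ⟨y.2, mem_centralizer_iff.mpr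
      fun u hu => mul_inv_eq_iff_eq_mul.mp (congrArg Subtype.val (hy ⟨u, hu⟩))⟩
    rw [hCN] at hmem
    exact mem_bot.mp hmem
  have hcop : (Nat.card P).Coprime (Nat.card N) := by
    obtain ⟨n, hn⟩ := IsPGroup.iff_card.mp hPp
    rw [hn]
    exact Nat.Coprime.pow_left n ((Fact.out : p.Prime).coprime_iff_not_dvd.mpr hpN)
  have hsolv : Group.IsSolvable P ∨ Group.IsSolvable N := Or.inl (isSolvable_of_isPGroup hPp)
  have hsyl : ∀ q : ℕ, [Fact q.Prime] → ∃! Q : Sylow q ↥N,
      M ≤ normalizer ((Q : Subgroup ↥N).map N.subtype : Set G) := by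
    intro q _
    obtain ⟨Q, hQ⟩ := exists_invariant_sylow hPN hcop hsolv q
    have huniq : ∀ R : Sylow q N,
        P ≤ normalizer (((R : Subgroup N).map N.subtype : Subgroup G) : Set G) →
        (R : Subgroup N).map N.subtype = (Q : Subgroup N).map N.subtype := by
      intro R hR
      obtain ⟨c, hc, hcQ⟩ := exists_conj_invariant_sylow hPN hcop hsolv Q R hQ hR
      rw [hCN, mem_bot] at hc
      rw [← hcQ, hc, map_one, one_smul]
    refine ⟨Q, ?_, fun R hR => ?_⟩
    · intro m hm
      apply mem_normalizer_of_conj_smul_eq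
      obtain ⟨R, hR⟩ := exists_sylow_of_card (K := N) (H := MulAut.conj m • _)
        (show MulAut.conj m • (Q : Subgroup N).map N.subtype ≤ N from
          (pointwise_smul_le_pointwise_smul_iff.mpr (map_subtype_le _)).trans_eq
            (conj_smul_eq_self_of_mem_normalizer (le_normalizer_of_normal (mem_top m))))
        (by rw [card_conj_smul, card_sylow_map])
      rw [← hR]
      refine huniq R ?_
      rw [hR, ← smul_eq_iff_le_normalizer]
      intro u hu
      have hu' : m⁻¹ * u * m ∈ P := mem_normalizer_iff''.mp (hMP hm) u |>.mp hu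
      rw [← conj_smul_mul, show u * m = m * (m⁻¹ * u * m) by group, conj_smul_mul,
        conj_smul_eq_self_of_mem_normalizer (hQ hu')]
    · apply Sylow.ext
      exact map_injective N.subtype_injective
        (huniq R ((map_subtype_le _).trans hR))
  refine ⟨hpN, hsyl, ?_⟩
  rintro ⟨q, r, hq, hr, hqr, hqN, hrN⟩ hmax
  haveI := Fact.mk hq
  obtain ⟨Q, hQ, -⟩ := hsyl q
  set Q' := (Q : Subgroup N).map N.subtype with hQ'
  have hQN : Q' ≤ N := map_subtype_le _
  have hQne : Q' ≠ ⊥ := by
    rw [Ne, Subgroup.map_eq_bot_iff_of_injective _ N.subtype_injective]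
    exact Sylow.ne_bot_of_dvd_card Q hqN
  have hlt : M < M ⊔ Q' := by
    refine lt_of_le_of_ne le_sup_left fun h => hQne ?_
    rw [eq_bot_iff, ← hMN]
    exact le_inf (h ▸ le_sup_right) hQN
  have htop := hmax.2 _ hlt
  have hNQ : N ≤ Q' := by
    intro x hx
    obtain ⟨m, hm, y, hy, rfl⟩ := exists_mul_of_mem_sup hQ (htop ▸ mem_top x : x ∈ M ⊔ Q')
    have hmN : m ∈ N := by
      simpa [mul_assoc] using mul_mem hx (inv_mem (hQN hy))
    have : m = 1 := mem_bot.mp (hMN ▸ mem_inf.mpr ⟨hm, hmN⟩)
    rwa [this, one_mul]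
  have hN : IsPGroup q N := (Q.2.map N.subtype).to_le hNQ
  obtain ⟨k, hk⟩ := IsPGroup.iff_card.mp hN
  rw [hk] at hrN
  exact hqr ((Nat.prime_dvd_prime_iff_eq hr hq).mp (hr.dvd_of_dvd_pow hrN)).symm

end Cfsg.Agent.S3749
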