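import Cfsg.Statements.S3750
import Cfsg.Agent.Lib.FStarTools.Basic

set_option autoImplicit false
open Cfsg

namespace Cfsg.Agent.S3750


open Cfsg Subgroup
open Cfsg.Agent.Lib
open Cfsg.Agent.Lib.Components

/-- Call a proper subgroup M of G primitive when M = N_G(N) for every non-trivial normal subgroup N of M. Let M be a primitive subgroup of the finite group G and N a normal subgroup of G with M ∩ F*(N) ≠ 1. Then F(G) = 1 and F*(N) = F*(G) = E(G); in particular every minimal normal subgroup of G is contained in N. -/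
theorem result {G : Type*} [Group G] [Finite G] (M : Subgroup G) (hM : M ≠ ⊤) (hprim : ∀ N : Subgroup G, N ≤ M → M ≤ Subgroup.normalizer (N : Set G) → N ≠ ⊥ → Subgroup.normalizer (N : Set G) = M) (N : Subgroup G) [N.Normal] (hMF : M ⊓ (Cfsg.generalizedFittingSubgroup ↥N).map N.subtype ≠ ⊥) : Cfsg.fittingSubgroup G = ⊥ ∧ (Cfsg.generalizedFittingSubgroup ↥N).map N.subtype = Cfsg.generalizedFittingSubgroup G ∧ Cfsg.generalizedFittingSubgroup G = Cfsg.layer G ∧ ∀ K : Subgroup G, K.Normal → K ≠ ⊥ → (∀ K' : Subgroup G, K'.Normal → K' ≤ K → K' = ⊥ ∨ K' = K) → K ≤ N := by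
  have hNsn : N.IsSubnormal := Subgroup.Normal.isSubnormal inferInstance
  set F := (generalizedFittingSubgroup ↥N).map N.subtype with hFdef
  have hFn : F.Normal := Cores.normal_map_subtype N _
  have hcore : ∀ K : Subgroup G, K.Normal → K ≤ M → K = ⊥ := by
    intro K hK hKM
    by_contra hne
    have := hprim K hKM ((Subgroup.normalizer_eq_top_iff.mpr hK).symm ▸ le_top) hne
    rw [Subgroup.normalizer_eq_top_iff.mpr hK] at this
    exact hM this.symm
  set X := M ⊓ F with hX
  have hNX : Subgroup.normalizer (X : Set G) = M := by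
    refine hprim X inf_le_left (fun m hm => ?_) hMF
    rw [Subgroup.mem_normalizer_iff]
    intro h
    rw [hX, Subgroup.mem_inf, Subgroup.mem_inf]
    constructor
    · rintro ⟨h1, h2⟩
      exact ⟨M.mul_mem (M.mul_mem hm h1) (M.inv_mem hm), hFn.conj_mem h h2 m⟩
    · rintro ⟨h1, h2⟩
      refine ⟨?_, ?_⟩
      · have := M.mul_mem (M.mul_mem (M.inv_mem hm) h1) hm
        simpa [mul_assoc] using this
      · have := hFn.conj_mem _ h2 m⁻¹
        simpa [mul_assoc] using this
  have hcentM : Subgroup.centralizer (F : Set G) ≤ M := by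
    rw [← hNX]
    exact (Subgroup.centralizer_le (by exact_mod_cast (inf_le_right : X ≤ F))).trans
      (Subgroup.centralizer_le_normalizer _)
  have hCF : Subgroup.centralizer (F : Set G) = ⊥ := hcore _ inferInstance hcentM
  have hFN : F ≤ N := Subgroup.map_subtype_le _
  have hCN : Subgroup.centralizer (N : Set G) = ⊥ :=
    le_bot_iff.mp (hCF ▸ Subgroup.centralizer_le (by exact_mod_cast hFN))
  have hFle : F ≤ generalizedFittingSubgroup G := by
    rw [hFdef, generalizedFittingSubgroup, Subgroup.map_sup]
    refine sup_le_sup (FStarTools.map_layer_le_layer hNsn) ?_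
    rw [FStarTools.map_fitting_subnormal hNsn]
    exact inf_le_left
  have hfit : fittingSubgroup G = ⊥ := by
    by_contra hne
    have hnil := Cores.fittingSubgroup_isNilpotent (G := G)
    have hcom : (fittingSubgroup G ⊓ Subgroup.centralizer (fittingSubgroup G : Set G)) ≤
        Subgroup.centralizer (F : Set G) := by
      refine le_trans ?_ (Subgroup.centralizer_le (by exact_mod_cast hFle))
      rw [Subgroup.le_centralizer_iff, generalizedFittingSubgroup]
      refine sup_le (sSup_le fun K hK => ?_) ?_
      · rw [← Subgroup.le_centralizer_iff]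
        exact inf_le_left.trans (Component.fittingSubgroup_le_centralizer hK)
      · rw [← Subgroup.le_centralizer_iff]
        exact inf_le_right
    rw [hCF, le_bot_iff] at hcom
    have : Nontrivial ↥(fittingSubgroup G) := (Subgroup.nontrivial_iff_ne_bot _).mpr hne
    have hc : Nontrivial ↥(Subgroup.center ↥(fittingSubgroup G)) :=
      (Subgroup.nontrivial_iff_ne_bot _).mpr (Group.IsNilpotent.center_ne_bot _)
    obtain ⟨⟨z, hz⟩, hzne⟩ := exists_ne (1 : ↥(Subgroup.center ↥(fittingSubgroup G)))
    apply hzne
    have hmem : (z : G) ∈ fittingSubgroup G ⊓ Subgroup.centralizer (fittingSubgroup G : Set G) := by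
      refine Subgroup.mem_inf.mpr ⟨z.2, ?_⟩
      rw [Subgroup.mem_centralizer_iff]
      intro y hy
      exact congrArg Subtype.val (Subgroup.mem_center_iff.mp hz ⟨y, hy⟩)
    rw [hcom, Subgroup.mem_bot] at hmem
    exact Subtype.ext (Subtype.ext hmem)
  have hlayer : layer G ≤ (layer ↥N).map N.subtype := by
    rw [FStarTools.map_layer_subnormal hNsn]
    refine sSup_le fun K hK => ?_
    rcases Component.le_or_commutator_eq_bot hK hNsn with h | h
    · exact le_sSup ⟨hK, h⟩
    · exfalso
      rw [Subgroup.commutator_comm] at h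
      have := (Subgroup.commutator_eq_bot_iff_le_centralizer.mp h)
      rw [hCN, le_bot_iff] at this
      exact Component.ne_bot hK this
  refine ⟨hfit, ?_, ?_, ?_⟩
  · refine le_antisymm hFle ?_
    rw [generalizedFittingSubgroup, hfit, sup_bot_eq]
    exact hlayer.trans (Subgroup.map_mono GenFitting.layer_le_generalizedFitting)
  · rw [generalizedFittingSubgroup, hfit, sup_bot_eq]
  · intro K hK hKne hmin
    rcases hmin (K ⊓ N) inferInstance inf_le_left with h | h
    · exfalso
      apply hKne
      have h2 : ⁅K, N⁆ = ⊥ := le_bot_iff.mp (h ▸ Subgroup.commutator_le_inf K N)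
      have h3 := Subgroup.commutator_eq_bot_iff_le_centralizer.mp h2
      rwa [hCN, le_bot_iff] at h3
    · exact h ▸ inf_le_right

end Cfsg.Agent.S3750
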