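import Cfsg.Statements.S3751
import Cfsg.Agent.Lib.Cores.Basic

set_option autoImplicit false
open Cfsg

namespace Cfsg.Agent.S3751


open Cfsg Subgroup
open Cfsg.Agent.Lib

variable {G : Type*} [Group G] {p : ℕ}

def IsLoc (p : ℕ) (M : Subgroup G) : Prop :=
  ∃ T : Subgroup G, IsPGroup p T ∧ T ≠ ⊥ ∧ M = Subgroup.normalizer (T : Set G)

def IsMaxLoc (p : ℕ) (M : Subgroup G) : Prop :=
  IsLoc p M ∧ ∀ L : Subgroup G, IsLoc p L → M ≤ L → L = M

theorem exists_maxLoc [Finite G] {T : Subgroup G} (hT : IsPGroup p T) (hne : T ≠ ⊥) :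
    ∃ M, IsMaxLoc p M ∧ Subgroup.normalizer (T : Set G) ≤ M := by
  obtain ⟨M, ⟨hM, hle⟩, hmax⟩ := Set.Finite.exists_maximalFor (fun M : Subgroup G => Nat.card M)
    {M : Subgroup G | IsLoc p M ∧ Subgroup.normalizer (T : Set G) ≤ M} (Set.toFinite _)
    ⟨_, ⟨T, hT, hne, rfl⟩, le_rfl⟩
  refine ⟨M, ⟨hM, fun L hL hML => ?_⟩, hle⟩
  exact (Subgroup.eq_of_le_of_card_ge hML
    (hmax (j := L) ⟨hL, hle.trans hML⟩ (Subgroup.card_le_of_le hML))).symm

/-- a maximal local is the normalizer of each of its non-trivial normal subgroups (local char `p`) -/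
theorem normalizer_eq [Finite G] [hp : Fact p.Prime] (hloc : IsOfLocalCharacteristic p G)
    {M : Subgroup G} (hM : IsMaxLoc p M) {A : Subgroup G} (hA : A ≠ ⊥) (hAM : A ≤ M)
    (hn : M ≤ Subgroup.normalizer (A : Set G)) : Subgroup.normalizer (A : Set G) = M := by
  have hc : Subgroup.centralizer (pCore p ↥M : Set ↥M) ≤ pCore p ↥M := by
    obtain ⟨T, hT, hTne, rfl⟩ := hM.1
    exact hloc.2 T hT hTne
  have hnA : (A.subgroupOf M).Normal := (Subgroup.normal_subgroupOf_iff_le_normalizer hAM).mpr hn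
  have hne : A.subgroupOf M ⊓ pCore p ↥M ≠ ⊥ := by
    intro h
    have h1 : A.subgroupOf M ≤ Subgroup.centralizer (pCore p ↥M : Set ↥M) :=
      Subgroup.commutator_eq_bot_iff_le_centralizer.mp
        (le_bot_iff.mp (h ▸ Subgroup.commutator_le_inf _ _))
    rw [inf_eq_left.mpr (h1.trans hc), Subgroup.subgroupOf_eq_bot, disjoint_iff,
      inf_eq_left.mpr hAM] at h
    exact hA h
  set W := (pCore p ↥A).map A.subtype with hW
  have hWne : W ≠ ⊥ := by
    intro h
    apply hne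
    rw [eq_bot_iff]
    intro x hx
    obtain ⟨hxA, hxP⟩ := Subgroup.mem_inf.mp hx
    have hnP : (((pCore p ↥M).map M.subtype).subgroupOf A).Normal := by
      refine ⟨fun a ha b => ?_⟩
      obtain ⟨v, hv, hve⟩ := Subgroup.mem_subgroupOf.mp ha
      exact Subgroup.mem_subgroupOf.mpr ⟨⟨b, hAM b.2⟩ * v * ⟨b, hAM b.2⟩⁻¹,
        (inferInstance : (pCore p ↥M).Normal).conj_mem v hv _, by
          have : (v : G) = (a : G) := hve
          simp [this]⟩
    have hPp : IsPGroup p ↥(((pCore p ↥M).map M.subtype).subgroupOf A) :=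
      ((Cores.pCore_isPGroup p).map M.subtype).of_injective
        ((A.subtype.comp (((pCore p ↥M).map M.subtype).subgroupOf A).subtype).codRestrict
          ((pCore p ↥M).map M.subtype) (fun a => Subgroup.mem_subgroupOf.mp a.2))
        (fun a b hab => by
          apply Subtype.ext
          apply Subtype.ext
          exact congrArg (fun z : ↥((pCore p ↥M).map M.subtype) => (z : G)) hab)
    have h2 : (x : G) ∈ W := ⟨⟨x, hxA⟩, Cores.le_pCore (hN := hnP) hPp
      (Subgroup.mem_subgroupOf.mpr (Subgroup.mem_map_of_mem _ hxP)), rfl⟩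
    rw [h, Subgroup.mem_bot] at h2
    exact Subgroup.mem_bot.mpr (Subtype.ext h2)
  have hle : Subgroup.normalizer (A : Set G) ≤ Subgroup.normalizer (W : Set G) := by
    intro g hg
    have key : ∀ g ∈ Subgroup.normalizer (A : Set G), ∀ w ∈ W, g * w * g⁻¹ ∈ W := by
      rintro g hg w ⟨a, ha, rfl⟩
      let e : ↥A ≃* ↥A :=
        { toFun := fun b => ⟨g * b * g⁻¹, (Subgroup.mem_normalizer_iff.mp hg _).mp b.2⟩
          invFun := fun b => ⟨g⁻¹ * b * g, (Subgroup.mem_normalizer_iff''.mp hg _).mp b.2⟩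
          left_inv := fun b => Subtype.ext (by simp [mul_assoc])
          right_inv := fun b => Subtype.ext (by simp [mul_assoc])
          map_mul' := fun b c => Subtype.ext (by simp [mul_assoc]) }
      refine ⟨e a, ?_, rfl⟩
      rw [← Cores.map_pCore_equiv e]
      exact Subgroup.mem_map_of_mem _ ha
    rw [Subgroup.mem_normalizer_iff]
    intro w
    refine ⟨key g hg w, fun h => ?_⟩
    have := key g⁻¹ (Subgroup.inv_mem _ hg) _ h
    simpa [mul_assoc] using this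
  refine le_antisymm (hle.trans (le_of_eq (hM.2 _ ⟨W, (Cores.pCore_isPGroup p).map _, hWne, rfl⟩
    (hn.trans hle)))) hn

/-- a maximal `p`-subgroup of `M` contains `O_p(M)` -/
theorem pCore_le [Finite G] {M T : Subgroup G} (hTM : T ≤ M) (hT : IsPGroup p T)
    (hmax : ∀ U : Subgroup G, IsPGroup p U → T ≤ U → U ≤ M → U = T) :
    (pCore p ↥M).map M.subtype ≤ T := by
  set X := (pCore p ↥M).map M.subtype
  have hn : T ≤ Subgroup.normalizer (X : Set G) := by
    intro t ht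
    rw [Subgroup.mem_normalizer_iff]
    intro h
    have key : ∀ t ∈ M, ∀ w ∈ X, t * w * t⁻¹ ∈ X := by
      rintro t ht w ⟨a, ha, rfl⟩
      exact ⟨⟨t, ht⟩ * a * ⟨t, ht⟩⁻¹,
        (inferInstance : (pCore p ↥M).Normal).conj_mem a ha _, rfl⟩
    refine ⟨key t (hTM ht) h, fun h2 => ?_⟩
    have := key t⁻¹ (M.inv_mem (hTM ht)) _ h2
    simpa [mul_assoc] using this
  have hU := hT.to_sup_of_normal_right' ((Cores.pCore_isPGroup p).map _) hn
  exact le_sup_right.trans (hmax _ hU le_sup_left (sup_le hTM (Subgroup.map_subtype_le _))).le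

/-- the normalizer of a non-maximal `p`-subgroup grows inside `M` -/
theorem exists_bigger [Finite G] [hp : Fact p.Prime] {M T : Subgroup G} (hTM : T ≤ M)
    (h : ¬ ∀ U : Subgroup G, IsPGroup p U → T ≤ U → U ≤ M → U = T) :
    ∃ U : Subgroup G, IsPGroup p U ∧ T < U ∧ U ≤ M ∧ U ≤ Subgroup.normalizer (T : Set G) := by
  push Not at h
  obtain ⟨U, hU, hTU, hUM, hne⟩ := h
  have hnil : Group.IsNilpotent ↥U := hU.isNilpotent
  have hlt : T.subgroupOf U < ⊤ := lt_top_iff_ne_top.mpr fun ht =>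
    hne (le_antisymm (Subgroup.subgroupOf_eq_top.mp ht) hTU)
  have hlt2 := Group.normalizerCondition_of_isNilpotent (T.subgroupOf U) hlt
  obtain ⟨n, hn, hnT⟩ := SetLike.exists_of_lt hlt2
  refine ⟨(Subgroup.normalizer (T.subgroupOf U : Set ↥U)).map U.subtype,
    ((hU.to_subgroup _).map _), lt_of_le_of_ne ?_ ?_, (Subgroup.map_subtype_le _).trans hUM, ?_⟩
  · intro t ht
    exact ⟨⟨t, hTU ht⟩, Subgroup.le_normalizer (Subgroup.mem_subgroupOf.mpr ht), rfl⟩
  · intro he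
    exact hnT (Subgroup.mem_subgroupOf.mpr (he ▸ Subgroup.mem_map_of_mem U.subtype hn))
  · rintro _ ⟨u, hu, rfl⟩
    rw [Subgroup.mem_normalizer_iff]
    intro x
    have hu' := Subgroup.mem_normalizer_iff.mp hu
    constructor
    · intro hx
      exact Subgroup.mem_subgroupOf.mp ((hu' ⟨x, hTU hx⟩).mp (Subgroup.mem_subgroupOf.mpr hx))
    · intro hx
      have hxU : x ∈ U := by
        have := U.mul_mem (U.mul_mem (U.inv_mem u.2) (hTU hx)) u.2
        simpa [mul_assoc] using this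
      exact Subgroup.mem_subgroupOf.mp ((hu' ⟨x, hxU⟩).mpr (Subgroup.mem_subgroupOf.mpr hx))

theorem isMaxLoc_map [Finite G] {M : Subgroup G} (hM : IsMaxLoc p M) (g : G) :
    IsMaxLoc p (M.map (MulAut.conj g).toMonoidHom) := by
  have hl : ∀ (L : Subgroup G) (e : G ≃* G), IsLoc p L → IsLoc p (L.map e.toMonoidHom) := by
    rintro L e ⟨T, hT, hne, rfl⟩
    refine ⟨T.map e.toMonoidHom, hT.map _,
      fun h => hne ((Subgroup.map_eq_bot_iff_of_injective _ e.injective).mp h), ?_⟩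
    exact Subgroup.map_equiv_normalizer_eq T e
  refine ⟨hl M _ hM.1, fun L hL hle => ?_⟩
  have h2 := hM.2 _ (hl L (MulAut.conj g).symm hL)
    (by
      intro m hm
      exact ⟨MulAut.conj g m, hle (Subgroup.mem_map_of_mem _ hm), (MulAut.conj g).symm_apply_apply m⟩)
  rw [← h2, Subgroup.map_map]
  ext x
  simp

theorem mem_of_conj_eq [Finite G] [hp : Fact p.Prime] (hloc : IsOfLocalCharacteristic p G)
    {M₂ : Subgroup G} (h2 : IsMaxLoc p M₂) {u : G}
    (he : M₂ = M₂.map (MulAut.conj u).toMonoidHom) : u ∈ M₂ := by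
  have hu : u ∈ Subgroup.normalizer (M₂ : Set G) := by
    rw [Subgroup.mem_normalizer_iff]
    intro h
    conv_rhs => rw [he]
    constructor
    · exact fun hh => ⟨h, hh, rfl⟩
    · rintro ⟨k, hk, hke⟩
      rwa [← show k = h from mul_left_cancel (mul_right_cancel hke)]
  set X := (pCore p ↥M₂).map M₂.subtype with hXdef
  have hXne : X ≠ ⊥ := by
    intro h
    obtain ⟨W, hW, hWne, hWe⟩ := h2.1
    apply hWne
    rw [eq_bot_iff]
    intro w hw
    have hwM : w ∈ M₂ := hWe ▸ Subgroup.le_normalizer hw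
    have hnW : (W.subgroupOf M₂).Normal := by
      rw [hWe]
      infer_instance
    have hWp : IsPGroup p ↥(W.subgroupOf M₂) :=
      hW.of_equiv (Subgroup.subgroupOfEquivOfLe (hWe ▸ Subgroup.le_normalizer)).symm
    have := Subgroup.mem_map_of_mem M₂.subtype
      (Cores.le_pCore (hN := hnW) hWp (Subgroup.mem_subgroupOf.mpr
        (show ((⟨w, hwM⟩ : ↥M₂) : G) ∈ W from hw)))
    rw [← hXdef, h] at this
    exact this
  have hnX : M₂ ≤ Subgroup.normalizer (X : Set G) := by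
    refine (Subgroup.normal_subgroupOf_iff_le_normalizer (Subgroup.map_subtype_le _)).mp ?_
    rw [Subgroup.subgroupOf, Subgroup.comap_map_eq_self_of_injective M₂.subtype_injective]
    infer_instance
  have hloc' : Subgroup.normalizer (M₂ : Set G) ≤ Subgroup.normalizer (X : Set G) := by
    intro g hg
    have key : ∀ g ∈ Subgroup.normalizer (M₂ : Set G), ∀ w ∈ X, g * w * g⁻¹ ∈ X := by
      rintro g hg w ⟨a, ha, rfl⟩
      let e : ↥M₂ ≃* ↥M₂ :=
        { toFun := fun b => ⟨g * b * g⁻¹, (Subgroup.mem_normalizer_iff.mp hg _).mp b.2⟩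
          invFun := fun b => ⟨g⁻¹ * b * g, (Subgroup.mem_normalizer_iff''.mp hg _).mp b.2⟩
          left_inv := fun b => Subtype.ext (by simp [mul_assoc])
          right_inv := fun b => Subtype.ext (by simp [mul_assoc])
          map_mul' := fun b c => Subtype.ext (by simp [mul_assoc]) }
      refine ⟨e a, ?_, rfl⟩
      rw [← Cores.map_pCore_equiv e]
      exact Subgroup.mem_map_of_mem _ ha
    rw [Subgroup.mem_normalizer_iff]
    intro w
    refine ⟨key g hg w, fun h => ?_⟩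
    have := key g⁻¹ (Subgroup.inv_mem _ hg) _ h
    simpa [mul_assoc] using this
  have := hloc' hu
  rwa [normalizer_eq hloc h2 hXne (Subgroup.map_subtype_le _) hnX] at this

theorem conj_pair [Finite G] [hp : Fact p.Prime] (hloc : IsOfLocalCharacteristic p G)
    {M₁ M₂ T : Subgroup G} (h2 : IsMaxLoc p M₂) (hT : IsPGroup p T) (hle : T ≤ M₁ ⊓ M₂)
    (hm1 : ¬ ∀ U : Subgroup G, IsPGroup p U → T ≤ U → U ≤ M₁ → U = T)
    (hm2 : ∀ U : Subgroup G, IsPGroup p U → T ≤ U → U ≤ M₂ → U = T) :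
    ∃ M₁ M₂ T : Subgroup G, IsMaxLoc p M₁ ∧ IsMaxLoc p M₂ ∧ M₁ ≠ M₂ ∧ IsPGroup p T ∧
      T ≤ M₁ ⊓ M₂ ∧ (∀ U : Subgroup G, IsPGroup p U → T ≤ U → U ≤ M₁ → U = T) ∧
      (∀ U : Subgroup G, IsPGroup p U → T ≤ U → U ≤ M₂ → U = T) := by
  obtain ⟨U, hU, hlt, hUM, hUN⟩ := exists_bigger (hle.trans inf_le_left) hm1
  obtain ⟨u, huU, huT⟩ := SetLike.exists_of_lt hlt
  have hu2 : u ∉ M₂ := fun h => by
    have hUle : T ⊔ Subgroup.zpowers u ≤ U := sup_le hlt.le (Subgroup.zpowers_le.mpr huU)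
    have := hm2 _ (hU.to_le hUle) le_sup_left
      (sup_le (hle.trans inf_le_right) (Subgroup.zpowers_le.mpr h))
    exact huT (this ▸ Subgroup.mem_sup_right (Subgroup.mem_zpowers u))
  have hTu : ∀ t : G, t ∈ T ↔ u * t * u⁻¹ ∈ T := Subgroup.mem_normalizer_iff.mp (hUN huU)
  refine ⟨M₂, M₂.map (MulAut.conj u).toMonoidHom, T, h2, isMaxLoc_map h2 u, ?_, hT,
    le_inf (hle.trans inf_le_right) ?_, hm2, ?_⟩
  · exact fun he => hu2 (mem_of_conj_eq hloc h2 he)
  · intro t ht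
    refine ⟨u⁻¹ * t * u, (hle ((hTu _).mpr ?_)).2, ?_⟩
    · simpa [mul_assoc] using ht
    · simp [mul_assoc]
  · intro W hW hTW hWle
    have hTT : T.map (MulAut.conj u).symm.toMonoidHom = T := by
      ext t
      simp only [Subgroup.mem_map, MulEquiv.toMonoidHom_eq_coe, MonoidHom.coe_coe]
      constructor
      · rintro ⟨s, hs, rfl⟩
        exact (hTu _).mpr (by simpa [mul_assoc] using hs)
      · intro ht
        exact ⟨u * t * u⁻¹, (hTu t).mp ht, by simp [mul_assoc]⟩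
    have hW' := hm2 (W.map (MulAut.conj u).symm.toMonoidHom) (hW.map _)
      (hTT ▸ Subgroup.map_mono hTW) (by
        rintro _ ⟨w, hw, rfl⟩
        obtain ⟨k, hk, rfl⟩ := hWle hw
        simpa [mul_assoc] using hk)
    exact Subgroup.map_injective (MulAut.conj u).symm.injective (hW'.trans hTT.symm)

/-- Two distinct subgroups M₁, M₂ of G form a primitive pair when, for {i, j} = {1, 2}, every non-trivial normal subgroup A of M_i contained in M₁ ∩ M₂ satisfies N_{M_j}(A) = M₁ ∩ M₂; the pair has characteristic p when moreover C_{M_i}(O_p(M_i)) ≤ O_p(M_i) for both i and O_p(M₁)O_p(M₂) ≤ M₁ ∩ M₂. Let G be a finite group, p a prime dividing its order, with O_p(G) = 1 and every p-local subgroup of characteristic p. Then either G has a primitive pair of characteristic p, or every maximal p-local subgroup M of G is strongly p-embedded in G: M is a proper subgroup, p divides its order, and for every g ∉ M the order of M ∩ gMg⁻¹ is prime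 to p. -/
theorem result {G : Type*} [Group G] [Finite G] {p : ℕ} [Fact p.Prime] (hloc : Cfsg.IsOfLocalCharacteristic p G) (hOp : Cfsg.pCore p G = ⊥) : (∃ M₁ M₂ : Subgroup G, M₁ ≠ M₂ ∧ (∀ A : Subgroup G, A ≠ ⊥ → A ≤ M₁ ⊓ M₂ → (M₁ ≤ Subgroup.normalizer (A : Set G) → M₂ ⊓ Subgroup.normalizer (A : Set G) = M₁ ⊓ M₂) ∧ (M₂ ≤ Subgroup.normalizer (A : Set G) → M₁ ⊓ Subgroup.normalizer (A : Set G) = M₁ ⊓ M₂)) ∧ Subgroup.centralizer (Cfsg.pCore p ↥M₁ : Set ↥M₁) ≤ Cfsg.pCore p ↥M₁ ∧ Subgroup.centralizer (Cfsg.pCore p ↥M₂ : Set ↥M₂) ≤ Cfsg.pCore p ↥M₂ ∧ (Cfsg.pCore p ↥M₁).map M₁.subtype ⊔ (Cfsg.pCore p ↥M₂).map M₂.subtype ≤ M₁ ⊓ M₂) ∨ (∀ M : Subgroup G, (∃ T : Subgroup G, IsPGroup p T ∧ T ≠ ⊥ ∧ M = Subgroup.normalizer (T : Set G)) → (∀ L : Subgroup G, (∃ T : Subgroup G, IsPGroup p T ∧ T ≠ ⊥ ∧ L = Subgroup.normalizer (T : Set G)) → M ≤ L → L = M) → M ≠ ⊤ ∧ p ∣ Nat.card M ∧ ∀ g : G, g ∉ M → ¬ p ∣ Nat.card ↥(M ⊓ M.map (MulAut.conj g).toMonoidHom))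 := by
  by_cases hpair : ∃ M L : Subgroup G, IsMaxLoc p M ∧ IsMaxLoc p L ∧ M ≠ L ∧ p ∣ Nat.card ↥(M ⊓ L)
  · left
    -- a pair containing a common maximal `p`-subgroup
    suffices hex : ∃ M₁ M₂ T : Subgroup G, IsMaxLoc p M₁ ∧ IsMaxLoc p M₂ ∧ M₁ ≠ M₂ ∧ IsPGroup p T ∧
        T ≤ M₁ ⊓ M₂ ∧ (∀ U : Subgroup G, IsPGroup p U → T ≤ U → U ≤ M₁ → U = T) ∧
        (∀ U : Subgroup G, IsPGroup p U → T ≤ U → U ≤ M₂ → U = T) by
      obtain ⟨M₁, M₂, T, h1, h2, hne, hT, hle, hm1, hm2⟩ := hex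
      have hc : ∀ M : Subgroup G, IsMaxLoc p M →
          Subgroup.centralizer (pCore p ↥M : Set ↥M) ≤ pCore p ↥M := by
        intro M hM
        obtain ⟨W, hW, hWne, rfl⟩ := hM.1
        exact hloc.2 W hW hWne
      refine ⟨M₁, M₂, hne, fun A hA hAle => ⟨fun hn => ?_, fun hn => ?_⟩, hc _ h1, hc _ h2,
        sup_le ((pCore_le (hle.trans inf_le_left) hT hm1).trans hle)
          ((pCore_le (hle.trans inf_le_right) hT hm2).trans hle)⟩
      · rw [normalizer_eq hloc h1 hA (hAle.trans inf_le_left) hn, inf_comm]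
      · rw [normalizer_eq hloc h2 hA (hAle.trans inf_le_right) hn]
    -- choose the intersection with the largest `p`-subgroup
    obtain ⟨M₀, L₀, hM₀, hL₀, hne₀, hd⟩ := hpair
    obtain ⟨x, hx⟩ := exists_prime_orderOf_dvd_card' p hd
    let 𝒮 : Set (Subgroup G × Subgroup G × Subgroup G) :=
      {q | IsMaxLoc p q.1 ∧ IsMaxLoc p q.2.1 ∧ q.1 ≠ q.2.1 ∧ IsPGroup p q.2.2 ∧
        q.2.2 ≠ ⊥ ∧ q.2.2 ≤ q.1 ⊓ q.2.1}
    have hne𝒮 : 𝒮.Nonempty := ⟨(M₀, L₀, Subgroup.zpowers (x : G)), hM₀, hL₀, hne₀,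
      IsPGroup.of_card (n := 1) (by rw [Nat.card_zpowers, Subgroup.orderOf_coe, hx, pow_one]),
      by
        rw [Ne, Subgroup.zpowers_eq_bot]
        intro h
        rw [← Subgroup.orderOf_coe, h, orderOf_one] at hx
        exact (Fact.out : p.Prime).ne_one hx.symm,
      Subgroup.zpowers_le.mpr x.2⟩
    obtain ⟨⟨M₁, M₂, T⟩, ⟨h1, h2, hne, hT, hTne, hle⟩, hmax⟩ :=
      Set.Finite.exists_maximalFor (fun q : Subgroup G × Subgroup G × Subgroup G => Nat.card q.2.2)
        𝒮 (Set.toFinite _) hne𝒮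
    obtain ⟨M₃, h3, hN⟩ := exists_maxLoc hT hTne
    have hforce : ∀ M : Subgroup G, IsMaxLoc p M → T ≤ M →
        (¬ ∀ U : Subgroup G, IsPGroup p U → T ≤ U → U ≤ M → U = T) → M = M₃ := by
      intro M hM hTM hb
      obtain ⟨U, hU, hlt, hUM, hUN⟩ := exists_bigger hTM hb
      by_contra hMne
      have hcard : Nat.card T < Nat.card U := by
        refine lt_of_le_of_ne (Subgroup.card_le_of_le hlt.le) fun he => hlt.ne ?_
        exact Subgroup.eq_of_le_of_card_ge hlt.le he.ge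
      exact absurd (hmax (j := (M, M₃, U)) ⟨hM, h3, hMne, hU,
        fun h => hTne (le_bot_iff.mp (h ▸ hlt.le)), le_inf hUM (hUN.trans hN)⟩ hcard.le)
        (not_le.mpr hcard)
    by_cases hm2 : ∀ U : Subgroup G, IsPGroup p U → T ≤ U → U ≤ M₂ → U = T
    · by_cases hm1 : ∀ U : Subgroup G, IsPGroup p U → T ≤ U → U ≤ M₁ → U = T
      · exact ⟨M₁, M₂, T, h1, h2, hne, hT, hle, hm1, hm2⟩
      · exact conj_pair hloc h2 hT hle hm1 hm2
    · have e2 := hforce M₂ h2 (hle.trans inf_le_right) hm2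
      by_cases hm1 : ∀ U : Subgroup G, IsPGroup p U → T ≤ U → U ≤ M₁ → U = T
      · exact conj_pair hloc h1 hT (by rwa [inf_comm]) hm2 hm1
      · exact absurd ((hforce M₁ h1 (hle.trans inf_le_left) hm1).trans e2.symm) hne
  · right
    rintro M hM hMmax
    have hMax : IsMaxLoc p M := ⟨hM, hMmax⟩
    obtain ⟨T, hT, hTne, rfl⟩ := hM
    refine ⟨fun h => ?_, ?_, fun g hg hd => hpair ⟨_, _, hMax, isMaxLoc_map hMax g, ?_, hd⟩⟩
    · have hn : T.Normal := Subgroup.normalizer_eq_top_iff.mp h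
      exact hTne (le_bot_iff.mp (hOp ▸ Cores.le_pCore hT))
    · obtain ⟨n, hn⟩ := IsPGroup.iff_card.mp hT
      have hn0 : n ≠ 0 := fun h => by
        rw [h, pow_zero, Subgroup.card_eq_one] at hn
        exact hTne hn
      exact (dvd_pow_self p hn0).trans (hn ▸ Subgroup.card_dvd_of_le Subgroup.le_normalizer)
    · exact fun he => hg (mem_of_conj_eq hloc hMax he)

end Cfsg.Agent.S3751
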