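import Cfsg.Statements.S3752
import Cfsg.Agent.Lib.FStarTools.Basic
import Cfsg.Agent.Lib.CNGroup.Basic

set_option autoImplicit false
open Cfsg

namespace Cfsg.Agent.S3752


open Cfsg Subgroup
open Cfsg.Agent.Lib
open Cfsg.Agent.Lib.Components

variable {G : Type*} [Group G]

/-- the image of a normal subgroup of `M` is normalized by `M` -/
theorem le_normalizer_map (M : Subgroup G) (K : Subgroup ↥M) [hK : K.Normal] :
    M ≤ Subgroup.normalizer ((K.map M.subtype : Subgroup G) : Set G) := by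
  intro m hm
  rw [Subgroup.mem_normalizer_iff]
  intro h
  constructor
  · rintro ⟨k, hk, rfl⟩
    exact ⟨⟨m, hm⟩ * k * ⟨m, hm⟩⁻¹, hK.conj_mem k hk _, rfl⟩
  · rintro ⟨k, hk, hk'⟩
    refine ⟨⟨m, hm⟩⁻¹ * k * ⟨m, hm⟩, ?_, ?_⟩
    · simpa using hK.conj_mem k hk ⟨m, hm⟩⁻¹
    · have : (k : G) = m * h * m⁻¹ := hk'
      show m⁻¹ * (k : G) * m = h
      rw [this]
      group

/-- `H ⊇ F*(X)` has the same layer as `X` -/
theorem layer_eq_of_le [Finite G] (H : Subgroup G) (hle : generalizedFittingSubgroup G ≤ H) :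
    (layer ↥H).map H.subtype = layer G := by
  refine le_antisymm ?_ ?_
  · rw [layer, Subgroup.map_le_iff_le_comap]
    refine sSup_le fun L hL => ?_
    rw [← Subgroup.map_le_iff_le_comap]
    have hFH : ((generalizedFittingSubgroup G).subgroupOf H).Normal := inferInstance
    have hLF : L.map H.subtype ≤ generalizedFittingSubgroup G := by
      rcases Component.le_or_commutator_eq_bot hL hFH.isSubnormal with h | h
      · rw [Subgroup.map_le_iff_le_comap]
        exact h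
      · refine le_trans ?_ (GenFitting.centralizer_le (G := G))
        rintro x ⟨l, hl, rfl⟩
        rw [Subgroup.mem_centralizer_iff]
        intro f hf
        have h2 := Subgroup.commutator_eq_bot_iff_le_centralizer.mp
          ((Subgroup.commutator_comm _ _).trans h) hl
        exact congrArg Subtype.val
          (Subgroup.mem_centralizer_iff.mp h2 ⟨f, hle hf⟩ (Subgroup.mem_subgroupOf.mpr hf))
    have hsn : (L.map H.subtype).IsSubnormal := by
      have h1 : (L.comap (Subgroup.inclusion hle)).IsSubnormal := hL.1.comap _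
      have h2 := h1.trans' (Subgroup.Normal.isSubnormal (inferInstance :
        (generalizedFittingSubgroup G).Normal))
      have : L.map H.subtype =
          (L.comap (Subgroup.inclusion hle)).map (generalizedFittingSubgroup G).subtype := by
        ext x
        constructor
        · intro hx
          exact ⟨⟨x, hLF hx⟩, by
            obtain ⟨l, hl, rfl⟩ := hx
            exact hl, rfl⟩
        · rintro ⟨k, hk, rfl⟩
          exact ⟨_, hk, rfl⟩
      rwa [this]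
    exact Layer.component_le_layer ⟨hsn, Quasisimple.of_mulEquiv hL.2
      (L.equivMapOfInjective H.subtype H.subtype_injective)⟩
  · refine sSup_le fun K hK => ?_
    have hKH : K ≤ H := ((Layer.component_le_layer hK).trans GenFitting.layer_le_generalizedFitting).trans hle
    have := Subgroup.map_mono (f := H.subtype)
      (Layer.component_le_layer (Component.subgroupOf hK hKH))
    rwa [Subgroup.map_subgroupOf_eq_of_le hKH] at this

theorem layer_transfer [Finite G] {M D : Subgroup G} (hDM : D ≤ M)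
    (hF : (generalizedFittingSubgroup ↥M).map M.subtype ≤ D) :
    (layer ↥D).map D.subtype = (layer ↥M).map M.subtype := by
  have h1 := layer_eq_of_le (D.subgroupOf M) (by
    intro x hx
    exact Subgroup.mem_subgroupOf.mpr (hF (Subgroup.mem_map_of_mem _ hx)))
  rw [← h1, Subgroup.map_map, ← Layer.map_layer (Subgroup.subgroupOfEquivOfLe hDM), Subgroup.map_map]
  rfl

theorem prime_parts [Finite G] {p : ℕ} (hp : p.Prime) (z : G) : ∃ a b : G, z = b * a ∧
    a ∈ Subgroup.zpowers z ∧ b ∈ Subgroup.zpowers z ∧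
    (∃ k : ℕ, orderOf a = p ^ k) ∧ (orderOf b).Coprime p := by
  obtain ⟨k, m, hpm, hn⟩ := Nat.exists_eq_pow_mul_and_not_dvd (orderOf_pos z).ne' p hp.ne_one
  have hco : (p ^ k).Coprime m := (Nat.Prime.coprime_iff_not_dvd hp |>.mpr hpm).pow_left k
  obtain ⟨u, v, huv⟩ := Int.isCoprime_iff_nat_coprime.mpr
    (show ((p ^ k : ℕ) : ℤ).natAbs.Coprime ((m : ℤ)).natAbs by simpa using hco)
  refine ⟨z ^ (v * (m : ℤ)), z ^ (u * ((p ^ k : ℕ) : ℤ)), ?_, ⟨_, rfl⟩, ⟨_, rfl⟩, ?_, ?_⟩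
  · rw [← zpow_add, huv, zpow_one]
  · obtain ⟨i, -, hi⟩ := (Nat.dvd_prime_pow hp).mp (show orderOf (z ^ (v * (m : ℤ))) ∣ p ^ k from
      orderOf_dvd_of_pow_eq_one (by
        rw [← zpow_natCast (z ^ (v * (m : ℤ))), ← zpow_mul, ← orderOf_dvd_iff_zpow_eq_one, hn]
        exact ⟨v, by push_cast; ring⟩))
    exact ⟨i, hi⟩
  · refine Nat.Coprime.coprime_dvd_left (show orderOf (z ^ (u * ((p ^ k : ℕ) : ℤ))) ∣ m from
      orderOf_dvd_of_pow_eq_one ?_) ((Nat.Prime.coprime_iff_not_dvd hp).mpr hpm).symm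
    rw [← zpow_natCast (z ^ (u * ((p ^ k : ℕ) : ℤ))), ← zpow_mul, ← orderOf_dvd_iff_zpow_eq_one, hn]
    exact ⟨u, by push_cast; ring⟩

theorem mem_map_pCore_of_fitting [Finite G] {p : ℕ} [hp : Fact p.Prime] {M : Subgroup G} {a : G}
    (ha : a ∈ (fittingSubgroup ↥M).map M.subtype) (hk : ∃ k : ℕ, orderOf a = p ^ k) :
    a ∈ (pCore p ↥M).map M.subtype := by
  obtain ⟨⟨f, hf⟩, hfF, rfl⟩ := ha
  refine ⟨⟨f, hf⟩, ?_, rfl⟩
  have hnil := Cores.fittingSubgroup_isNilpotent (G := ↥M)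
  set F := fittingSubgroup ↥M
  obtain ⟨k, hk⟩ := hk
  let g : ↥F := ⟨⟨f, hf⟩, hfF⟩
  have hg : IsPGroup p (Subgroup.zpowers g) := IsPGroup.of_card (n := k) (by
    rw [Nat.card_zpowers, ← Subgroup.orderOf_coe, ← Subgroup.orderOf_coe]
    exact hk)
  obtain ⟨P, hP⟩ := hg.exists_le_sylow
  have hPn : (P : Subgroup ↥F).Normal :=
    ((Group.isNilpotent_of_finite_tfae (G := ↥F)).out 0 3 rfl rfl).mp hnil p hp P
  have := P.characteristic_of_normal hPn
  have hn := Cores.normal_map_subtype F (P : Subgroup ↥F)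
  exact Cores.le_pCore (P.2.map _) (Subgroup.mem_map_of_mem F.subtype (hP (Subgroup.mem_zpowers g)))

variable {M₁ M₂ : Subgroup G}

/-- the `p'`-elements of `C_{M₁}(O_p(M₁))` centralize `O_p(M₂)` -/
theorem key [Finite G] {p : ℕ} [hp : Fact p.Prime]
    (hFD₁ : (fittingSubgroup ↥M₁).map M₁.subtype ≤
      (fittingSubgroup ↥(M₁ ⊓ M₂)).map (M₁ ⊓ M₂).subtype)
    (hXD : (pCore p ↥M₁).map M₁.subtype ≤ (pCore p ↥(M₁ ⊓ M₂)).map (M₁ ⊓ M₂).subtype)
    (hYD : (pCore p ↥M₂).map M₂.subtype ≤ (pCore p ↥(M₁ ⊓ M₂)).map (M₁ ⊓ M₂).subtype)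
    (hC₁ : ∀ z ∈ M₁, (∀ f ∈ (fittingSubgroup ↥M₁).map M₁.subtype, f * z = z * f) →
      z ∈ (fittingSubgroup ↥M₁).map M₁.subtype)
    {c : G} (hc : c ∈ M₁) (hco : (orderOf c).Coprime p)
    (hcX : ∀ x ∈ (pCore p ↥M₁).map M₁.subtype, x * c = c * x) :
    ∀ y ∈ (pCore p ↥M₂).map M₂.subtype, y * c = c * y := by
  set F := (fittingSubgroup ↥M₁).map M₁.subtype with hF
  set FD := (fittingSubgroup ↥(M₁ ⊓ M₂)).map (M₁ ⊓ M₂).subtype with hFDdef
  set PD := (pCore p ↥(M₁ ⊓ M₂)).map (M₁ ⊓ M₂).subtype with hPDdef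
  set X := (pCore p ↥M₁).map M₁.subtype with hXdef
  have hFDnil : Group.IsNilpotent ↥FD :=
    Cores.isNilpotent_map _ Cores.fittingSubgroup_isNilpotent
  have hPDFD : PD ≤ FD := Subgroup.map_mono (Cores.pCore_le_fittingSubgroup p)
  have hPD : IsPGroup p ↥PD := (Cores.pCore_isPGroup p).map _
  have hpel : ∀ w ∈ PD, ∃ k : ℕ, orderOf w = p ^ k := by
    intro w hw
    obtain ⟨k, hk⟩ := hPD ⟨w, hw⟩
    obtain ⟨i, -, hi⟩ := (Nat.dvd_prime_pow hp.out).mp
      (orderOf_dvd_of_pow_eq_one (congrArg Subtype.val hk))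
    exact ⟨i, hi⟩
  have hcomm : ∀ w ∈ PD, ∀ b ∈ FD, (orderOf b).Coprime p → b * w = w * b := by
    intro w hw b hb hbp
    obtain ⟨k, hk⟩ := hpel w hw
    exact CNGroup.Basic.commute_of_mem_nilpotent hFDnil hb (hPDFD hw) (by
      rw [hk]; exact hbp.pow_right k)
  have hFn := le_normalizer_map M₁ (fittingSubgroup ↥M₁)
  have hXn := le_normalizer_map M₁ (pCore p ↥M₁)
  intro y hy
  have hyP : y ∈ PD := hYD hy
  have hy1 : y ∈ M₁ := (Subgroup.mem_inf.mp (Subgroup.map_subtype_le _ hyP)).1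
  set z := c * y * c⁻¹ * y⁻¹ with hz
  have hzM : z ∈ M₁ :=
    M₁.mul_mem (M₁.mul_mem (M₁.mul_mem hc hy1) (M₁.inv_mem hc)) (M₁.inv_mem hy1)
  have hfix : ∀ f ∈ F, f * z = z * f := by
    intro f hf
    obtain ⟨a, b, rfl, ha, hb, hak, hbp⟩ := prime_parts hp.out f
    have haF : a ∈ F := (Subgroup.zpowers_le.mpr hf) ha
    have hbF : b ∈ F := (Subgroup.zpowers_le.mpr hf) hb
    have hza : a * z = z * a := by
      have haX : a ∈ X := mem_map_pCore_of_fitting haF hak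
      have hya : y⁻¹ * a * y ∈ X := (Subgroup.mem_normalizer_iff''.mp (hXn hy1) a).mp haX
      calc a * z = c * (a * y) * c⁻¹ * y⁻¹ := by
            rw [hz, show a * (c * y * c⁻¹ * y⁻¹) = (a * c) * y * c⁻¹ * y⁻¹ by group, hcX a haX]
            group
        _ = c * y * ((y⁻¹ * a * y) * c⁻¹) * y⁻¹ := by group
        _ = c * y * (c⁻¹ * (y⁻¹ * a * y)) * y⁻¹ := by
            rw [(show Commute (y⁻¹ * a * y) c from hcX _ hya).inv_right.eq]
        _ = z * a := by rw [hz]; group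
    have hzb : b * z = z * b := by
      have hb' : c⁻¹ * b * c ∈ F := (Subgroup.mem_normalizer_iff''.mp (hFn hc) b).mp hbF
      have hb'p : (orderOf (c⁻¹ * b * c)).Coprime p := by
        have h := orderOf_injective (MulAut.conj c⁻¹).toMonoidHom (MulEquiv.injective _) b
        simp only [MulEquiv.toMonoidHom_eq_coe, MonoidHom.coe_coe, MulAut.conj_apply, inv_inv] at h
        rw [h]; exact hbp
      have h1 : b * y = y * b := hcomm y hyP b (hFD₁ hbF) hbp
      have h2 : (c⁻¹ * b * c) * y = y * (c⁻¹ * b * c) := hcomm y hyP _ (hFD₁ hb') hb'p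
      calc b * z = c * ((c⁻¹ * b * c) * y) * c⁻¹ * y⁻¹ := by rw [hz]; group
        _ = c * (y * (c⁻¹ * b * c)) * c⁻¹ * y⁻¹ := by rw [h2]
        _ = c * y * c⁻¹ * (b * y⁻¹) := by group
        _ = c * y * c⁻¹ * (y⁻¹ * b) := by rw [(show Commute b y from h1).inv_right.eq]
        _ = z * b := by rw [hz]; group
    rw [mul_assoc, hza, ← mul_assoc, hzb, mul_assoc]
  have hzF : z ∈ F := hC₁ z hzM hfix
  obtain ⟨a, b, hzab, ha, hb, hak, hbp⟩ := prime_parts hp.out z
  have haX : a ∈ X := mem_map_pCore_of_fitting ((Subgroup.zpowers_le.mpr hzF) ha) hak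
  have hbFD : b ∈ FD := hFD₁ ((Subgroup.zpowers_le.mpr hzF) hb)
  have hayP : a * y ∈ PD := PD.mul_mem (hXD haX) hyP
  have hb1 : b = 1 := by
    rw [← orderOf_eq_one_iff]
    obtain ⟨k, hk⟩ := hpel _ hayP
    obtain ⟨j, hj⟩ := hpel _ hyP
    have hmul : orderOf (b * (a * y)) = orderOf b * orderOf (a * y) :=
      Commute.orderOf_mul_eq_mul_orderOf_of_coprime (hcomm _ hayP b hbFD hbp)
        (by rw [hk]; exact hbp.pow_right k)
    have heq : b * (a * y) = c * y * c⁻¹ := by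
      rw [← mul_assoc, ← hzab, hz]; group
    have hord : orderOf (b * (a * y)) = p ^ j := by
      rw [heq, ← hj]
      have h := orderOf_injective (MulAut.conj c).toMonoidHom (MulEquiv.injective _) y
      simpa using h
    exact Nat.eq_one_of_dvd_coprimes (hbp.pow_right j) dvd_rfl
      (hord ▸ hmul.symm ▸ dvd_mul_right _ _)
  have hca : Commute c a := (hcX a haX).symm
  have hcy : c * y * c⁻¹ = a * y := by
    rw [hb1, one_mul] at hzab
    rw [← hzab, hz]; group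
  have hpow : ∀ n : ℕ, c ^ n * y * (c ^ n)⁻¹ = a ^ n * y := by
    intro n
    induction n with
    | zero => simp
    | succ n ih =>
      calc c ^ (n + 1) * y * (c ^ (n + 1))⁻¹ = c * (c ^ n * y * (c ^ n)⁻¹) * c⁻¹ := by
            rw [pow_succ']; group
        _ = c * a ^ n * y * c⁻¹ := by rw [ih]; group
        _ = a ^ n * (c * y * c⁻¹) := by rw [(hca.pow_right n).eq]; group
        _ = a ^ (n + 1) * y := by rw [hcy, pow_succ]; group
  have h1 : a ^ orderOf c = 1 := by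
    have := hpow (orderOf c)
    rw [pow_orderOf_eq_one] at this
    simpa using this.symm
  have ha1 : a = 1 := by
    obtain ⟨k, hk⟩ := hak
    rw [← orderOf_eq_one_iff]
    exact Nat.eq_one_of_dvd_coprimes (hco.pow_right k) (orderOf_dvd_of_pow_eq_one h1) (hk ▸ dvd_rfl)
  rw [ha1, one_mul] at hcy
  exact (mul_inv_eq_iff_eq_mul.mp hcy).symm

/-- the primitive pair condition -/
def PairCond (M₁ M₂ : Subgroup G) : Prop :=
  ∀ A : Subgroup G, A ≠ ⊥ → A ≤ M₁ ⊓ M₂ →
    (M₁ ≤ Subgroup.normalizer (A : Set G) → M₂ ⊓ Subgroup.normalizer (A : Set G) = M₁ ⊓ M₂) ∧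
    (M₂ ≤ Subgroup.normalizer (A : Set G) → M₁ ⊓ Subgroup.normalizer (A : Set G) = M₁ ⊓ M₂)

theorem PairCond.symm (h : PairCond M₁ M₂) : PairCond M₂ M₁ := by
  intro A hA hle
  rw [inf_comm] at hle
  obtain ⟨h1, h2⟩ := h A hA hle
  exact ⟨fun h' => (h2 h').trans (inf_comm _ _), fun h' => (h1 h').trans (inf_comm _ _)⟩

theorem no_common_normal (hne : M₁ ≠ M₂) (hP : PairCond M₁ M₂) {A : Subgroup G} (hle : A ≤ M₁ ⊓ M₂)
    (h₁ : M₁ ≤ Subgroup.normalizer (A : Set G)) (h₂ : M₂ ≤ Subgroup.normalizer (A : Set G)) : A = ⊥ := by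
  by_contra hA
  obtain ⟨e1, e2⟩ := hP A hA hle
  have a1 := e1 h₁
  have a2 := e2 h₂
  rw [inf_eq_left.mpr h₂] at a1
  rw [inf_eq_left.mpr h₁] at a2
  exact hne (a2.trans a1.symm)

/-- all the facts about one member of the pair, once the layer is trivial -/
theorem fitting_facts [Finite G] {M D : Subgroup G}
    (hDM : D ≤ M) (hE : layer ↥M = ⊥)
    (hF : (generalizedFittingSubgroup ↥M).map M.subtype ≤ D) :
    ((fittingSubgroup ↥M).map M.subtype ≤ (fittingSubgroup ↥D).map D.subtype) ∧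
    (∀ z ∈ M, (∀ f ∈ (fittingSubgroup ↥M).map M.subtype, f * z = z * f) →
      z ∈ (fittingSubgroup ↥M).map M.subtype) ∧
    ∀ (p : ℕ) [Fact p.Prime],
      (pCore p ↥M).map M.subtype ≤ (pCore p ↥D).map D.subtype := by
  rw [generalizedFittingSubgroup, hE, bot_sup_eq] at hF
  have hC := GenFitting.centralizer_le (G := ↥M)
  rw [generalizedFittingSubgroup, hE, bot_sup_eq] at hC
  refine ⟨?_, ?_, ?_⟩
  · have hn : (((fittingSubgroup ↥M).map M.subtype).subgroupOf D).Normal :=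
      (Subgroup.normal_subgroupOf_iff_le_normalizer hF).mpr
        (hDM.trans (le_normalizer_map M _))
    have hnil : Group.IsNilpotent ↥((fittingSubgroup ↥M).map M.subtype) :=
      Cores.isNilpotent_map _ Cores.fittingSubgroup_isNilpotent
    have hnil' : Group.IsNilpotent ↥(((fittingSubgroup ↥M).map M.subtype).subgroupOf D) :=
      Group.nilpotent_of_mulEquiv (_h := hnil) (Subgroup.subgroupOfEquivOfLe hF).symm
    have := Subgroup.map_mono (f := D.subtype) (Cores.le_fittingSubgroup (hN := hn) hnil')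
    rwa [Subgroup.map_subgroupOf_eq_of_le hF] at this
  · intro z hz hzc
    refine ⟨⟨z, hz⟩, hC ?_, rfl⟩
    rw [Subgroup.mem_centralizer_iff]
    intro f hf
    exact Subtype.ext (hzc f (Subgroup.mem_map_of_mem _ hf))
  · intro p _
    have hle : (pCore p ↥M).map M.subtype ≤ D :=
      (Subgroup.map_mono (Cores.pCore_le_fittingSubgroup p)).trans hF
    have hn : (((pCore p ↥M).map M.subtype).subgroupOf D).Normal :=
      (Subgroup.normal_subgroupOf_iff_le_normalizer hle).mpr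
        (hDM.trans (le_normalizer_map M _))
    have hp' : IsPGroup p ↥(((pCore p ↥M).map M.subtype).subgroupOf D) :=
      ((Cores.pCore_isPGroup p).map M.subtype).of_equiv (Subgroup.subgroupOfEquivOfLe hle).symm
    have := Subgroup.map_mono (f := D.subtype) (Cores.le_pCore (hN := hn) hp')
    rwa [Subgroup.map_subgroupOf_eq_of_le hle] at this

/-- `O_p(M₂) ≠ 1` when `O_p(M₁) ≠ 1` -/
theorem pCore_ne_bot [Finite G] {p : ℕ} [hp : Fact p.Prime]
    (hFD : (fittingSubgroup ↥M₂).map M₂.subtype ≤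
      (fittingSubgroup ↥(M₁ ⊓ M₂)).map (M₁ ⊓ M₂).subtype)
    (hXD : (pCore p ↥M₁).map M₁.subtype ≤ (pCore p ↥(M₁ ⊓ M₂)).map (M₁ ⊓ M₂).subtype)
    (hC : ∀ z ∈ M₂, (∀ f ∈ (fittingSubgroup ↥M₂).map M₂.subtype, f * z = z * f) →
      z ∈ (fittingSubgroup ↥M₂).map M₂.subtype)
    (hX : (pCore p ↥M₁).map M₁.subtype ≠ ⊥) : (pCore p ↥M₂).map M₂.subtype ≠ ⊥ := by
  intro hY
  apply hX
  rw [eq_bot_iff]
  intro x hx
  have hxk : ∃ k : ℕ, orderOf x = p ^ k := by
    obtain ⟨k, hk⟩ := ((Cores.pCore_isPGroup p).map M₁.subtype) ⟨x, hx⟩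
    obtain ⟨i, -, hi⟩ := (Nat.dvd_prime_pow hp.out).mp
      (orderOf_dvd_of_pow_eq_one (congrArg Subtype.val hk))
    exact ⟨i, hi⟩
  obtain ⟨k, hk⟩ := hxk
  have hxD := hXD hx
  have hxFD := Subgroup.map_mono (Cores.pCore_le_fittingSubgroup p) hxD
  have hnil : Group.IsNilpotent ↥((fittingSubgroup ↥(M₁ ⊓ M₂)).map (M₁ ⊓ M₂).subtype) :=
    Cores.isNilpotent_map _ Cores.fittingSubgroup_isNilpotent
  have hfix : ∀ f ∈ (fittingSubgroup ↥M₂).map M₂.subtype, f * x = x * f := by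
    intro f hf
    obtain ⟨a, b, rfl, ha, hb, hak, hbp⟩ := prime_parts hp.out f
    have ha1 : a = 1 := by
      have := mem_map_pCore_of_fitting ((Subgroup.zpowers_le.mpr hf) ha) hak
      rwa [hY, Subgroup.mem_bot] at this
    rw [ha1, mul_one]
    exact CNGroup.Basic.commute_of_mem_nilpotent hnil (hFD ((Subgroup.zpowers_le.mpr hf) hb)) hxFD
      (by rw [hk]; exact hbp.pow_right k)
  have := mem_map_pCore_of_fitting
    (hC x (Subgroup.mem_inf.mp (Subgroup.map_subtype_le _ hxD)).2 hfix) ⟨k, hk⟩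
  rwa [hY] at this

/-- Bender's Theorem on primitive pairs. Two distinct subgroups M₁, M₂ of G form a primitive pair when, for {i, j} = {1, 2}, every non-trivial normal subgroup A of M_i contained in M₁ ∩ M₂ satisfies N_{M_j}(A) = M₁ ∩ M₂; the pair has characteristic p when moreover C_{M_i}(O_p(M_i)) ≤ O_p(M_i) for both i and O_p(M₁)O_p(M₂) ≤ M₁ ∩ M₂. If (M₁, M₂) is a primitive pair of the finite group G with F*(M₁) ≤ M₂ and F*(M₂) ≤ M₁, then for some prime p the pair has characteristic p. -/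
theorem result {G : Type*} [Group G] [Finite G] (M₁ M₂ : Subgroup G) (hne : M₁ ≠ M₂) (hP : ∀ A : Subgroup G, A ≠ ⊥ → A ≤ M₁ ⊓ M₂ → (M₁ ≤ Subgroup.normalizer (A : Set G) → M₂ ⊓ Subgroup.normalizer (A : Set G) = M₁ ⊓ M₂) ∧ (M₂ ≤ Subgroup.normalizer (A : Set G) → M₁ ⊓ Subgroup.normalizer (A : Set G) = M₁ ⊓ M₂)) (h₁ : (Cfsg.generalizedFittingSubgroup ↥M₁).map M₁.subtype ≤ M₂) (h₂ : (Cfsg.generalizedFittingSubgroup ↥M₂).map M₂.subtype ≤ M₁) : ∃ p : ℕ, p.Prime ∧ Subgroup.centralizer (Cfsg.pCore p ↥M₁ : Set ↥M₁) ≤ Cfsg.pCore p ↥M₁ ∧ Subgroup.centralizer (Cfsg.pCore p ↥M₂ : Set ↥M₂) ≤ Cfsg.pCore p ↥M₂ ∧ (Cfsg.pCore p ↥M₁).map M₁.subtype ⊔ (Cfsg.pCore p ↥M₂).map M₂.subtype ≤ M₁ ⊓ M₂ := by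
  have hP' : PairCond M₁ M₂ := hP
  have hle₁ : (generalizedFittingSubgroup ↥M₁).map M₁.subtype ≤ M₁ ⊓ M₂ :=
    le_inf (Subgroup.map_subtype_le _) h₁
  have hle₂ : (generalizedFittingSubgroup ↥M₂).map M₂.subtype ≤ M₁ ⊓ M₂ :=
    le_inf h₂ (Subgroup.map_subtype_le _)
  have hE₁' : (layer ↥M₁).map M₁.subtype = ⊥ := by
    refine no_common_normal hne hP' ((Subgroup.map_mono GenFitting.layer_le_generalizedFitting).trans hle₁)
      (le_normalizer_map M₁ _) ?_
    rw [← layer_transfer inf_le_left hle₁, layer_transfer inf_le_right hle₂]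
    exact le_normalizer_map M₂ _
  have hE₂' : (layer ↥M₂).map M₂.subtype = ⊥ := by
    rw [← layer_transfer inf_le_right hle₂, layer_transfer inf_le_left hle₁]
    exact hE₁'
  have hE₁ : layer ↥M₁ = ⊥ :=
    (Subgroup.map_eq_bot_iff_of_injective _ M₁.subtype_injective).mp hE₁'
  have hE₂ : layer ↥M₂ = ⊥ :=
    (Subgroup.map_eq_bot_iff_of_injective _ M₂.subtype_injective).mp hE₂'
  obtain ⟨hFD₁, hC₁, hXD₁⟩ := fitting_facts (inf_le_left : M₁ ⊓ M₂ ≤ M₁) hE₁ hle₁
  obtain ⟨hFD₂, hC₂, hXD₂⟩ := fitting_facts (inf_le_right : M₁ ⊓ M₂ ≤ M₂) hE₂ hle₂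
  -- a prime dividing one of the Fitting subgroups
  have hFne : (fittingSubgroup ↥M₁).map M₁.subtype ≠ ⊥ := by
    intro h
    have hM1 : M₁ = ⊥ := by
      rw [eq_bot_iff]
      intro m hm
      have := hC₁ m hm (fun f hf => by
        rw [h, Subgroup.mem_bot] at hf
        rw [hf, one_mul, mul_one])
      rwa [h] at this
    apply hne
    rw [hM1]
    symm
    rw [eq_bot_iff]
    intro m hm
    have h2 : (fittingSubgroup ↥M₂).map M₂.subtype ≤ ⊥ := hM1 ▸
      ((Subgroup.map_mono GenFitting.fitting_le_generalizedFitting).trans h₂)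
    exact h2 (hC₂ m hm (fun f hf => by
      have := h2 hf
      rw [Subgroup.mem_bot] at this
      rw [this, one_mul, mul_one]))
  obtain ⟨p, hpp, hpd⟩ := Nat.exists_prime_and_dvd
    (n := Nat.card ↥((fittingSubgroup ↥M₁).map M₁.subtype)) (mt Subgroup.card_eq_one.mp hFne)
  haveI : Fact p.Prime := ⟨hpp⟩
  obtain ⟨⟨x, hx⟩, hxo⟩ := exists_prime_orderOf_dvd_card' p hpd
  rw [Subgroup.orderOf_mk] at hxo
  have hX : (pCore p ↥M₁).map M₁.subtype ≠ ⊥ := by
    intro h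
    have := mem_map_pCore_of_fitting hx ⟨1, by rw [hxo, pow_one]⟩
    rw [h, Subgroup.mem_bot] at this
    rw [this, orderOf_one] at hxo
    exact hpp.ne_one hxo.symm
  have hY : (pCore p ↥M₂).map M₂.subtype ≠ ⊥ := pCore_ne_bot hFD₂ (hXD₁ p) hC₂ hX
  let X := (pCore p ↥M₁).map M₁.subtype
  let Y := (pCore p ↥M₂).map M₂.subtype
  let S₁ : Set G := {c | c ∈ M₁ ∧ (orderOf c).Coprime p ∧ ∀ x ∈ X, x * c = c * x}
  let S₂ : Set G := {c | c ∈ M₂ ∧ (orderOf c).Coprime p ∧ ∀ y ∈ Y, y * c = c * y}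
  have hS12 : ∀ c ∈ S₁, c ∈ S₂ := by
    rintro c ⟨hc, hco, hcX⟩
    have hcY := key hFD₁ (hXD₁ p) (hXD₂ p) hC₁ hc hco hcX
    have hN : c ∈ M₁ ⊓ Subgroup.normalizer (Y : Set G) :=
      Subgroup.mem_inf.mpr ⟨hc, Subgroup.centralizer_le_normalizer _
        (Subgroup.mem_centralizer_iff.mpr hcY)⟩
    rw [(hP Y hY (((hXD₂ p)).trans (Subgroup.map_subtype_le _))).2 (le_normalizer_map M₂ _)] at hN
    exact ⟨(Subgroup.mem_inf.mp hN).2, hco, hcY⟩
  have hS21 : ∀ c ∈ S₂, c ∈ S₁ := by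
    rintro c ⟨hc, hco, hcY⟩
    have hcX := key (M₁ := M₂) (M₂ := M₁) (p := p) (by rw [inf_comm M₂ M₁]; exact hFD₂)
      (by rw [inf_comm M₂ M₁]; exact hXD₂ p) (by rw [inf_comm M₂ M₁]; exact hXD₁ p) hC₂ hc hco hcY
    have hN : c ∈ M₂ ⊓ Subgroup.normalizer (X : Set G) :=
      Subgroup.mem_inf.mpr ⟨hc, Subgroup.centralizer_le_normalizer _
        (Subgroup.mem_centralizer_iff.mpr hcX)⟩
    rw [(hP X hX (((hXD₁ p)).trans (Subgroup.map_subtype_le _))).1 (le_normalizer_map M₁ _)] at hN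
    exact ⟨(Subgroup.mem_inf.mp hN).1, hco, hcX⟩
  have hinv : ∀ (M : Subgroup G) (W : Subgroup G), M ≤ Subgroup.normalizer (W : Set G) →
      M ≤ Subgroup.normalizer (Subgroup.closure
        {c : G | c ∈ M ∧ (orderOf c).Coprime p ∧ ∀ x ∈ W, x * c = c * x} : Set G) := by
    intro M W hW m hm
    have hmap : ∀ n ∈ M, ∀ c ∈ {c : G | c ∈ M ∧ (orderOf c).Coprime p ∧ ∀ x ∈ W, x * c = c * x},
        n * c * n⁻¹ ∈ {c : G | c ∈ M ∧ (orderOf c).Coprime p ∧ ∀ x ∈ W, x * c = c * x} := by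
      rintro n hn c ⟨h1, h2, h3⟩
      refine ⟨M.mul_mem (M.mul_mem hn h1) (M.inv_mem hn), ?_, ?_⟩
      · have h := orderOf_injective (MulAut.conj n).toMonoidHom (MulEquiv.injective _) c
        simp only [MulEquiv.toMonoidHom_eq_coe, MonoidHom.coe_coe, MulAut.conj_apply] at h
        rw [h]; exact h2
      · intro x hx
        have hx' : n⁻¹ * x * n ∈ W := (Subgroup.mem_normalizer_iff''.mp (hW hn) x).mp hx
        calc x * (n * c * n⁻¹) = n * ((n⁻¹ * x * n) * c) * n⁻¹ := by group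
          _ = n * (c * (n⁻¹ * x * n)) * n⁻¹ := by rw [h3 _ hx']
          _ = n * c * n⁻¹ * x := by group
    set S := {c : G | c ∈ M ∧ (orderOf c).Coprime p ∧ ∀ x ∈ W, x * c = c * x}
    have hcl : ∀ n ∈ M, ∀ c ∈ Subgroup.closure S, n * c * n⁻¹ ∈ Subgroup.closure S := by
      intro n hn c hc
      have h : Subgroup.closure S ≤ (Subgroup.closure S).comap (MulAut.conj n).toMonoidHom :=
        (Subgroup.closure_le _).mpr fun d hd => Subgroup.subset_closure (hmap n hn d hd)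
      exact h hc
    rw [Subgroup.mem_normalizer_iff]
    intro c
    refine ⟨hcl m hm c, fun h => ?_⟩
    have := hcl m⁻¹ (M.inv_mem hm) _ h
    simpa [mul_assoc] using this
  have hS : S₁ = S₂ := Set.ext fun c => ⟨hS12 c, hS21 c⟩
  have hA : Subgroup.closure S₁ = ⊥ := by
    refine no_common_normal hne hP' ((Subgroup.closure_le _).mpr fun c hc => ?_)
      (hinv M₁ X (le_normalizer_map M₁ _)) ?_
    · exact Subgroup.mem_inf.mpr ⟨hc.1, (hS12 c hc).1⟩
    · rw [hS]; exact hinv M₂ Y (le_normalizer_map M₂ _)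
  have hfinal : ∀ (M : Subgroup G) (W : Subgroup G), W = (pCore p ↥M).map M.subtype →
      (∀ z ∈ M, (∀ f ∈ (fittingSubgroup ↥M).map M.subtype, f * z = z * f) →
        z ∈ (fittingSubgroup ↥M).map M.subtype) →
      ((fittingSubgroup ↥M).map M.subtype ≤
        (fittingSubgroup ↥(M₁ ⊓ M₂)).map (M₁ ⊓ M₂).subtype) →
      (W ≤ (pCore p ↥(M₁ ⊓ M₂)).map (M₁ ⊓ M₂).subtype) →
      (∀ c ∈ M, (orderOf c).Coprime p → (∀ x ∈ W, x * c = c * x) → c = 1) →
      Subgroup.centralizer (pCore p ↥M : Set ↥M) ≤ pCore p ↥M := by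
    rintro M W rfl hC hFD hWD hone ⟨z, hz⟩ hzc
    have hnil : Group.IsNilpotent ↥((fittingSubgroup ↥(M₁ ⊓ M₂)).map (M₁ ⊓ M₂).subtype) :=
      Cores.isNilpotent_map _ Cores.fittingSubgroup_isNilpotent
    have hFW : (fittingSubgroup ↥M).map M.subtype ≤ (pCore p ↥M).map M.subtype := by
      intro f hf
      obtain ⟨a, b, rfl, ha, hb, hak, hbp⟩ := prime_parts hpp f
      have hbF := (Subgroup.zpowers_le.mpr hf) hb
      have hb1 : b = 1 := hone b (Subgroup.map_subtype_le _ hbF) hbp fun w hw => by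
        obtain ⟨k, hk⟩ := ((Cores.pCore_isPGroup p).map M.subtype) ⟨w, hw⟩
        exact CNGroup.Basic.commute_of_mem_nilpotent hnil
          (Subgroup.map_mono (Cores.pCore_le_fittingSubgroup p) (hWD hw)) (hFD hbF)
          (Nat.Coprime.coprime_dvd_left (orderOf_dvd_of_pow_eq_one (congrArg Subtype.val hk))
            (hbp.pow_right k).symm)
      rw [hb1, one_mul]
      exact mem_map_pCore_of_fitting ((Subgroup.zpowers_le.mpr hf) ha) hak
    obtain ⟨w, hw, hwe⟩ := hFW (hC z hz fun f hf => by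
      obtain ⟨v, hv, rfl⟩ := hFW hf
      exact congrArg Subtype.val (Subgroup.mem_centralizer_iff.mp hzc v hv))
    have : w = ⟨z, hz⟩ := Subtype.ext hwe
    exact this ▸ hw
  have honeA : ∀ c ∈ S₁, c = 1 := fun c hc => by
    have := Subgroup.subset_closure (k := S₁) hc
    rwa [hA, SetLike.mem_coe, Subgroup.mem_bot] at this
  refine ⟨p, hpp, hfinal M₁ X rfl hC₁ hFD₁ (hXD₁ p) (fun c h1 h2 h3 => honeA c ⟨h1, h2, h3⟩),
    hfinal M₂ Y rfl hC₂ hFD₂ (hXD₂ p) (fun c h1 h2 h3 => honeA c (hS21 c ⟨h1, h2, h3⟩)), ?_⟩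
  exact sup_le ((hXD₁ p).trans (Subgroup.map_subtype_le _)) ((hXD₂ p).trans (Subgroup.map_subtype_le _))

end Cfsg.Agent.S3752
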