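import Cfsg.Statements.S3754
import Cfsg.Agent.Lib.PSolvable.HallHigman
import Cfsg.Agent.Lib.PLocal.ActionQuotient
import Cfsg.Agent.Lib.PLocal.CoprimeGen
import Cfsg.Agent.Lib.PGroups.Frattini
import Cfsg.Agent.Lib.Transfer.PResidual

set_option autoImplicit false
open Cfsg

namespace Cfsg.Agent.S3754


open Cfsg.Agent.Lib
open scoped commutatorElement Pointwise

theorem conjMem_commutator {M : Type*} [Group M] {W A : Subgroup M} {g : M}
    (hg : g ∈ W ∨ (g ∈ A ∧ ∀ w ∈ W, g * w * g⁻¹ ∈ W)) {t : M} (ht : t ∈ ⁅W, A⁆) :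
    g * t * g⁻¹ ∈ ⁅W, A⁆ := by
  have hle : ⁅W, A⁆ ≤ (⁅W, A⁆).comap (MulAut.conj g).toMonoidHom := by
    rw [Subgroup.commutator_le]
    intro w hw a ha
    show g * ⁅w, a⁆ * g⁻¹ ∈ ⁅W, A⁆
    rcases hg with hg | ⟨hgA, hgW⟩
    · rw [show g * ⁅w, a⁆ * g⁻¹ = ⁅g * w, a⁆ * ⁅g, a⁆⁻¹ by simp only [commutatorElement_def]; group]
      exact mul_mem (Subgroup.commutator_mem_commutator (W.mul_mem hg hw) ha)
        (inv_mem (Subgroup.commutator_mem_commutator hg ha))
    · rw [show g * ⁅w, a⁆ * g⁻¹ = ⁅g * w * g⁻¹, g * a * g⁻¹⁆ by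
        simp only [commutatorElement_def]; group]
      exact Subgroup.commutator_mem_commutator (hgW w hw)
        (A.mul_mem (A.mul_mem hgA ha) (A.inv_mem hgA))
  exact hle ht

/-- `⟨A, A ^ x⟩`. -/
abbrev genPair {M : Type*} [Group M] (A : Subgroup M) (x : M) : Subgroup M :=
  A ⊔ A.map (MulAut.conj x).toMonoidHom


/-- Let M be a finite p-soluble group and A a p-subgroup of M with Φ(A) ≤ O_p(M) but A ≰ O_p(M). Then there is x ∈ O_{p,p'}(M) such that L = ⟨A, xAx⁻¹⟩ satisfies: x ∈ O^p(L) and O^p(L) ≤ O_{p,p'}(M); [O^p(L), A] = O^p(L); A ∩ O_p(L) has index p in A; and [A ∩ O_p(L), L] ≤ O_p(M). Here O^p(L) is the subgroup generated by the p'-elements of L and O_{p,p'}(M) the preimage of O_{p'}(M/O_p(M)). -/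
theorem result {M : Type*} [Group M] [Finite M] {p : ℕ} [Fact p.Prime] (hM : Cfsg.IsPSolvable p M) (A : Subgroup M) (hA : IsPGroup p A) (hΦ : (frattini ↥A).map A.subtype ≤ Cfsg.pCore p M) (hnot : ¬ A ≤ Cfsg.pCore p M) : ∃ x ∈ (Cfsg.pPrimeCore p (M ⧸ Cfsg.pCore p M)).comap (QuotientGroup.mk' (Cfsg.pCore p M)), x ∈ (Cfsg.pResidual p ↥(A ⊔ A.map (MulAut.conj x).toMonoidHom)).map (A ⊔ A.map (MulAut.conj x).toMonoidHom).subtype ∧ (Cfsg.pResidual p ↥(A ⊔ A.map (MulAut.conj x).toMonoidHom)).map (A ⊔ A.map (MulAut.conj x).toMonoidHom).subtype ≤ (Cfsg.pPrimeCore p (M ⧸ Cfsg.pCore p M)).comap (QuotientGroup.mk' (Cfsg.pCore p M)) ∧ ⁅(Cfsg.pResidual p ↥(A ⊔ A.map (MulAut.conj x).toMonoidHom)).map (A ⊔ A.map (MulAut.conj x).toMonoidHom).subtype, A⁆ = (Cfsg.pResidual p ↥(A ⊔ A.map (MulAut.conj x).toMonoidHom)).map (A ⊔ A.map (MulAut.conj x).toMonoidHom).subtype ∧ (A ⊓ (Cfsg.pCore p ↥(A ⊔ A.map (MulAut.conj x).toMonoidHom)).map (A ⊔ A.map (MulAut.conj x).toMonoidHom).subtype).relIndex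 A = p ∧ ⁅A ⊓ (Cfsg.pCore p ↥(A ⊔ A.map (MulAut.conj x).toMonoidHom)).map (A ⊔ A.map (MulAut.conj x).toMonoidHom).subtype, A ⊔ A.map (MulAut.conj x).toMonoidHom⁆ ≤ Cfsg.pCore p M := by
  classical
  have hpp : p.Prime := Fact.out
  set Q := Cfsg.pCore p M with hQ
  have hQn : Q.Normal := Subgroup.sSup_normal _ fun _ h => h.1
  have hQp : IsPGroup p Q := PSolvable.isPGroup_pCore
  set π := QuotientGroup.mk' Q with hπ
  set K := Cfsg.pPrimeCore p (M ⧸ Q) with hK
  have hKn : K.Normal := PSolvable.pPrimeCore_normal'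
  have hKc : (Nat.card K).Coprime p := PSolvable.card_pPrimeCore_coprime
  set A' := A.map π with hA'
  have hA'p : IsPGroup p A' := hA.map π
  have hdisj : ∀ (P : Subgroup (M ⧸ Q)), IsPGroup p P → ∀ v ∈ P, v ∈ K → v = 1 := by
    intro P hP v hvP hvK
    obtain ⟨k, hk⟩ := hP ⟨v, hvP⟩
    replace hk : v ^ p ^ k = 1 := congrArg Subtype.val hk
    exact orderOf_eq_one_iff.1 (Nat.eq_one_of_dvd_coprimes
      ((hKc.coprime_dvd_left (Subgroup.orderOf_dvd_natCard _ hvK)).pow_right k) dvd_rfl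
      (orderOf_dvd_of_pow_eq_one hk))
  have hA'ea : Cfsg.IsElementaryAbelian p A' := by
    refine PGroups.elemAb_mk ?_ ?_
    · rintro _ ⟨a, ha, rfl⟩ _ ⟨b, hb, rfl⟩
      have h : ⁅a, b⁆ ∈ Q := hΦ ⟨⁅(⟨a, ha⟩ : A), ⟨b, hb⟩⁆,
        PGroups.commutatorElement_mem_frattini hA _ _, rfl⟩
      rw [← commutatorElement_eq_one_iff_mul_comm, ← map_commutatorElement]
      exact (QuotientGroup.eq_one_iff _).2 h
    · rintro _ ⟨a, ha, rfl⟩
      have h : a ^ p ∈ Q := hΦ ⟨(⟨a, ha⟩ : A) ^ p, PGroups.pow_mem_frattini hA _, rfl⟩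
      rw [← map_pow]
      exact (QuotientGroup.eq_one_iff _).2 h
  have hAK : A' ≤ Subgroup.normalizer (K : Set (M ⧸ Q)) := by
    rw [Subgroup.normalizer_eq_top K]; exact le_top
  -- a hyperplane whose fixed points are moved
  obtain ⟨B, hBA, hBi, k₀, hk₀, a₀, ha₀, hak⟩ : ∃ B : Subgroup (M ⧸ Q), B ≤ A' ∧ B.relIndex A' ≤ p ∧
      ∃ k ∈ PLocal.fixOn K B, ∃ a ∈ A', a * k ≠ k * a := by
    by_contra hcon
    push Not at hcon
    apply hnot
    have hle : K ≤ Subgroup.centralizer (A' : Set (M ⧸ Q)) := by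
      refine (PLocal.le_iSup_fixOn_hyperplane hA'ea hAK hKc).trans (iSup_le ?_)
      rintro ⟨B, hB1, hB2⟩ k hk a ha
      exact hcon B hB1 hB2 k hk a ha
    have h2 : A' ≤ K := (Subgroup.le_centralizer_iff.1 hle).trans
      (PLocal.centralizer_pPrimeCore_le (PSolvable.isPSolvable_quotient hM Q)
        (PSolvable.pCore_quotient_eq_bot Q hQ))
    intro a ha
    exact (QuotientGroup.eq_one_iff a).1
      (hdisj A' hA'p _ ⟨a, ha, rfl⟩ (h2 ⟨a, ha, rfl⟩))
  obtain ⟨x₀, hx₀⟩ := QuotientGroup.mk'_surjective Q k₀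
  let good : Set M := {x | π x ∈ PLocal.fixOn K B ∧ ∃ a ∈ A', a * π x ≠ π x * a}
  obtain ⟨x, ⟨hxB, hxA⟩, hmin⟩ := Set.exists_min_image good (fun x => Nat.card (genPair A x))
    (Set.toFinite _) ⟨x₀, by rw [show π x₀ = k₀ from hx₀]; exact hk₀, a₀, ha₀,
      by rw [show π x₀ = k₀ from hx₀]; exact hak⟩
  set L := genPair A x with hL
  set W := (Cfsg.pResidual p L).map L.subtype with hW
  set N := K.comap π with hN
  have hNn : N.Normal := hKn.comap π
  have hxN : x ∈ N := hxB.1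
  have hAL : A ≤ L := le_sup_left
  -- `O^p(L) ≤ N`
  have hLN : L ≤ (A.map (QuotientGroup.mk' N)).comap (QuotientGroup.mk' N) := by
    refine sup_le (fun a ha => ⟨a, ha, rfl⟩) ?_
    rintro _ ⟨a, ha, rfl⟩
    refine ⟨a, ha, ?_⟩
    have hx1 : QuotientGroup.mk' N x = 1 := (QuotientGroup.eq_one_iff x).2 hxN
    simp only [MulEquiv.coe_toMonoidHom, MulAut.conj_apply, map_mul, map_inv, hx1, one_mul,
      inv_one, mul_one]
  have hWN : W ≤ N := by
    rintro _ ⟨g, hg, rfl⟩
    refine (Transfer.PResidual.pResidual_le_iff (K := N.comap L.subtype)).2 (fun g hg => ?_) hg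
    rw [Subgroup.mem_comap, ← QuotientGroup.eq_one_iff (N := N)]
    have hm : QuotientGroup.mk' N (g : M) ∈ A.map (QuotientGroup.mk' N) := hLN g.2
    have hcop : (orderOf (⟨_, hm⟩ : A.map (QuotientGroup.mk' N))).Coprime p := by
      rw [Subgroup.orderOf_mk]
      exact (hg.coprime_dvd_left (orderOf_map_dvd L.subtype g)).coprime_dvd_left (orderOf_map_dvd _ _)
    exact congrArg Subtype.val (Transfer.PResidual.eq_one_of_pGroup_of_coprime (hA.map _) hcop)
  -- replace `x` by an element of `O^p(L)`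
  have hA₀ : IsPGroup p (A.subgroupOf L) := hA.of_equiv (Subgroup.subgroupOfEquivOfLe hAL).symm
  have hA₁le : A.map (MulAut.conj x).toMonoidHom ≤ L := le_sup_right
  have hA₁ : IsPGroup p ((A.map (MulAut.conj x).toMonoidHom).subgroupOf L) :=
    (hA.map _).of_equiv (Subgroup.subgroupOfEquivOfLe hA₁le).symm
  obtain ⟨P, hP⟩ := hA₀.exists_le_sylow
  obtain ⟨P', hP'⟩ := hA₁.exists_le_sylow
  obtain ⟨g, hg⟩ := MulAction.exists_smul_eq L P P'
  obtain ⟨w₀, hw₀, s, hs, hws⟩ := Transfer.PResidual.exists_mul_sylow P g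
  have hw₀P : w₀ • P = P' := by
    rw [← hg, ← hws, mul_smul, Sylow.smul_eq_iff_mem_normalizer.2 (Subgroup.le_normalizer hs)]
  set w : M := (w₀ : M) with hwd
  have hwW : w ∈ W := ⟨w₀, hw₀, rfl⟩
  have hwL : w ∈ L := w₀.2
  have hkey : ∀ a' ∈ A', π w * a' * (π w)⁻¹ = π x * a' * (π x)⁻¹ := by
    rintro _ ⟨a, ha, rfl⟩
    set b : L := ⟨x * a * x⁻¹, hA₁le ⟨a, ha, rfl⟩⟩
    have hb : b ∈ P' := hP' (show b ∈ (A.map (MulAut.conj x).toMonoidHom).subgroupOf L from
      ⟨a, ha, rfl⟩)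
    rw [← hw₀P] at hb
    have hb' : w₀⁻¹ * b * w₀ ∈ (P : Subgroup L) := by
      have := Subgroup.mem_pointwise_smul_iff_inv_smul_mem.1
        (show b ∈ ((w₀ • P : Sylow p L) : Subgroup L) from hb)
      simpa [mul_assoc] using this
    set q : M ⧸ Q := (π w)⁻¹ * (π x * π a * (π x)⁻¹) * π w with hq
    have hqP : q ∈ ((P : Subgroup L).map L.subtype).map π :=
      ⟨_, ⟨_, hb', rfl⟩, by simp [hq, b, hwd]⟩
    have haP : π a ∈ ((P : Subgroup L).map L.subtype).map π :=
      ⟨a, ⟨⟨a, hAL ha⟩, hP ha, rfl⟩, rfl⟩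
    have hone : q * (π a)⁻¹ = 1 := by
      refine hdisj _ ((P.isPGroup'.map _).map π) _ (mul_mem hqP (inv_mem haP)) ?_
      rw [hq, show (π w)⁻¹ * (π x * π a * (π x)⁻¹) * π w * (π a)⁻¹ =
        (π w)⁻¹ * (π x * (π a * (π x)⁻¹ * (π a)⁻¹)) * (π a * π w * (π a)⁻¹) by group]
      exact K.mul_mem (K.mul_mem (K.inv_mem (hWN hwW))
        (K.mul_mem hxN (hKn.conj_mem _ (K.inv_mem hxN) _))) (hKn.conj_mem _ (hWN hwW) _)
    rw [mul_inv_eq_one] at hone
    conv_lhs => rw [← hone, hq]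
    group
  have hwB : π w ∈ PLocal.fixOn K B := by
    refine PLocal.mem_fixOn.2 ⟨hWN hwW, fun b hb => ?_⟩
    have h := hkey b (hBA hb)
    rw [← (PLocal.mem_fixOn.1 hxB).2 b hb, mul_inv_cancel_right] at h
    exact (mul_inv_eq_iff_eq_mul.1 h).symm
  have hwA : ∃ a ∈ A', a * π w ≠ π w * a := by
    obtain ⟨a, ha, hne⟩ := hxA
    refine ⟨a, ha, fun h => hne ?_⟩
    have h2 := hkey a ha
    rw [← h, mul_inv_cancel_right] at h2
    exact (eq_mul_inv_iff_mul_eq.1 h2)
  have heq : genPair A w = L := by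
    refine Subgroup.eq_of_le_of_card_ge (sup_le hAL ?_) (hmin w ⟨hwB, hwA⟩)
    rintro _ ⟨a, ha, rfl⟩
    exact L.mul_mem (L.mul_mem hwL (hAL ha)) (L.inv_mem hwL)
  refine ⟨w, hWN hwW, ?_⟩
  change w ∈ (Cfsg.pResidual p (genPair A w)).map (genPair A w).subtype ∧
    (Cfsg.pResidual p (genPair A w)).map (genPair A w).subtype ≤ N ∧
    ⁅(Cfsg.pResidual p (genPair A w)).map (genPair A w).subtype, A⁆ =
      (Cfsg.pResidual p (genPair A w)).map (genPair A w).subtype ∧
    (A ⊓ (Cfsg.pCore p (genPair A w)).map (genPair A w).subtype).relIndex A = p ∧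
    ⁅A ⊓ (Cfsg.pCore p (genPair A w)).map (genPair A w).subtype, genPair A w⁆ ≤ Q
  rw [heq]
  refine ⟨hwW, hWN, ?_, ?_⟩
  · -- `[O^p(L), A] = O^p(L)`
    have hWconj : ∀ g ∈ L, ∀ v ∈ W, g * v * g⁻¹ ∈ W := by
      rintro g hg _ ⟨v, hv, rfl⟩
      exact ⟨⟨g, hg⟩ * v * ⟨g, hg⟩⁻¹,
        Transfer.PResidual.pResidual_normal.conj_mem v hv _, rfl⟩
    set T := ⁅W, A⁆ with hT
    refine le_antisymm ?_ ?_
    · rw [hT, Subgroup.commutator_le]
      intro v hv a ha
      rw [show ⁅v, a⁆ = v * (a * v⁻¹ * a⁻¹) by simp only [commutatorElement_def]; group]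
      exact W.mul_mem hv (hWconj a (hAL ha) _ (W.inv_mem hv))
    · have hTL : T ≤ L := by
        rw [hT, Subgroup.commutator_le]
        intro v hv a ha
        have hvL : v ∈ L := Subgroup.map_subtype_le _ hv
        rw [commutatorElement_def]
        exact L.mul_mem (L.mul_mem (L.mul_mem hvL (hAL ha)) (L.inv_mem hvL)) (L.inv_mem (hAL ha))
      have hLle : L ≤ Subgroup.normalizer (T : Set M) := by
        rw [← heq]
        refine sup_le (fun a ha => Subgroup.mem_normalizer_fintype fun t ht =>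
          conjMem_commutator (Or.inr ⟨ha, hWconj a (hAL ha)⟩) ht) ?_
        rintro _ ⟨a, ha, rfl⟩
        have hw' : w ∈ Subgroup.normalizer (T : Set M) :=
          Subgroup.mem_normalizer_fintype fun t ht => conjMem_commutator (Or.inl hwW) ht
        exact mul_mem (mul_mem hw' (Subgroup.mem_normalizer_fintype fun t ht =>
          conjMem_commutator (Or.inr ⟨ha, hWconj a (hAL ha)⟩) ht)) (inv_mem hw')
      have hTn : (T.subgroupOf L).Normal := Subgroup.normal_subgroupOf_of_le_normalizer hLle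
      have hgen : (⊤ : Subgroup L) = T.subgroupOf L ⊔ A.subgroupOf L := by
        rw [← Subgroup.subgroupOf_sup hTL hAL, eq_comm, Subgroup.subgroupOf_eq_top]
        refine le_of_eq_of_le heq.symm (sup_le le_sup_right ?_)
        rintro _ ⟨a, ha, rfl⟩
        show w * a * w⁻¹ ∈ T ⊔ A
        rw [show w * a * w⁻¹ = ⁅w, a⁆ * a by simp only [commutatorElement_def]; group]
        exact mul_mem (Subgroup.mem_sup_left (Subgroup.commutator_mem_commutator hwW ha))
          (Subgroup.mem_sup_right ha)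
      have hpq : IsPGroup p (L ⧸ T.subgroupOf L) := by
        have h := congrArg (Subgroup.map (QuotientGroup.mk' (T.subgroupOf L))) hgen
        rw [Subgroup.map_sup, QuotientGroup.map_mk'_self, bot_sup_eq,
          Subgroup.map_top_of_surjective _ (QuotientGroup.mk'_surjective _)] at h
        exact IsPGroup.of_equiv (h ▸ hA₀.map _ : IsPGroup p (⊤ : Subgroup (L ⧸ T.subgroupOf L)))
          Subgroup.topEquiv
      rintro _ ⟨v, hv, rfl⟩
      exact Transfer.PResidual.pResidual_le_of_isPGroup_quotient _ hpq hv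
  -- the index and the commutator
  have hfix : ∀ g ∈ L, ∀ b ∈ B, π g * b = b * π g := by
    intro g hg b hb
    have hle : L ≤ (Subgroup.centralizer ({b} : Set (M ⧸ Q))).comap π := by
      rw [← heq]
      refine sup_le (fun a ha => ?_) ?_
      · rw [Subgroup.mem_comap, Subgroup.mem_centralizer_singleton_iff]
        exact PGroups.elemAb_comm hA'ea ⟨a, ha, rfl⟩ (hBA hb)
      · rintro _ ⟨a, ha, rfl⟩
        rw [Subgroup.mem_comap, Subgroup.mem_centralizer_singleton_iff]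
        have h1 : Commute (π a) b := PGroups.elemAb_comm hA'ea ⟨a, ha, rfl⟩ (hBA hb)
        have h2 : Commute (π w) b := ((PLocal.mem_fixOn.1 hwB).2 b hb).symm
        have h3 := (h2.mul_left h1).mul_left h2.inv_left
        simpa using h3.eq
    have := hle hg
    rwa [Subgroup.mem_comap, Subgroup.mem_centralizer_singleton_iff] at this
  set Op := (Cfsg.pCore p L).map L.subtype with hOp
  have hOpn : (Cfsg.pCore p L).Normal := Subgroup.sSup_normal _ fun _ h => h.1
  have hcap : A ⊓ Op = A ⊓ B.comap π := by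
    refine le_antisymm ?_ ?_
    · rintro a ⟨haA, haO⟩
      refine ⟨haA, ?_⟩
      by_contra haB
      obtain ⟨a₁, ha₁, hne⟩ := hwA
      apply hne
      have hcomm : Commute (π a) (π w) := by
        obtain ⟨a', ha', hav⟩ := haO
        have hc : ⁅a, w⁆ ∈ Op := by
          refine ⟨a' * (w₀ * a'⁻¹ * w₀⁻¹), (Cfsg.pCore p L).mul_mem ha'
            (hOpn.conj_mem _ ((Cfsg.pCore p L).inv_mem ha') _), ?_⟩
          simp only [map_mul, map_inv, commutatorElement_def, ← hav]
          show (a' : M) * (w * (a' : M)⁻¹ * w⁻¹) = L.subtype a' * w * (L.subtype a')⁻¹ * w⁻¹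
          simp only [Subgroup.coe_subtype]; group
        refine commutatorElement_eq_one_iff_mul_comm.1 ?_
        refine hdisj (Op.map π) ((PSolvable.isPGroup_pCore.map _).map π) _ ?_ ?_
        · rw [← map_commutatorElement]; exact ⟨_, hc, rfl⟩
        · rw [commutatorElement_def]
          exact K.mul_mem (hKn.conj_mem _ (hWN hwW) _) (K.inv_mem (hWN hwW))
      -- `A' = B ⊔ ⟨π a⟩`
      set C := A' ⊓ Subgroup.centralizer ({π w} : Set (M ⧸ Q)) with hC
      have hBC : B ≤ C := fun b hb => ⟨hBA hb, Subgroup.mem_centralizer_singleton_iff.2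
        ((PLocal.mem_fixOn.1 hwB).2 b hb)⟩
      have haC : π a ∈ C := ⟨⟨a, haA, rfl⟩, Subgroup.mem_centralizer_singleton_iff.2 hcomm.eq⟩
      have hCA : A' ≤ C := by
        have h1 : B.relIndex C * C.relIndex A' = B.relIndex A' :=
          Subgroup.relIndex_mul_relIndex B C A' hBC inf_le_left
        have h2 : B.relIndex C ≠ 1 := fun h => haB ((Subgroup.relIndex_eq_one.1 h) haC)
        rw [← Subgroup.relIndex_eq_one]
        have h3 : B.relIndex C ≠ 0 := Subgroup.index_ne_zero_of_finite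
        obtain ⟨i, hi⟩ := hA'p.index (C.subgroupOf A')
        change C.relIndex A' = p ^ i at hi
        rcases Nat.eq_zero_or_pos i with rfl | hi0
        · simpa using hi
        · exfalso
          have h4 : p ≤ C.relIndex A' := hi ▸ Nat.le_self_pow (by omega) p
          have h5 : 2 * p ≤ B.relIndex A' := by
            rw [← h1]; exact Nat.mul_le_mul (by omega) h4
          have := hpp.pos
          omega
      exact Subgroup.mem_centralizer_singleton_iff.1 (hCA ha₁).2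
    · refine le_inf inf_le_left ?_
      have hsub : L ⊓ B.comap π ≤ Op := by
        have hn : ((L ⊓ B.comap π).subgroupOf L).Normal := by
          refine ⟨fun v hv g => ⟨(g * v * g⁻¹).2, ?_⟩⟩
          have hv' : π (v : M) ∈ B := hv.2
          change π ((g : M) * (v : M) * (g : M)⁻¹) ∈ B
          rw [map_mul, map_mul, map_inv, hfix g g.2 _ hv', mul_inv_cancel_right]
          exact hv'
        have hp' : IsPGroup p ((L ⊓ B.comap π).subgroupOf L) := by
          refine IsPGroup.of_equiv ?_ (Subgroup.subgroupOfEquivOfLe inf_le_left).symm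
          exact ((hA'p.to_le hBA).comap_of_ker_isPGroup π
            (by rw [QuotientGroup.ker_mk']; exact hQp)).to_le inf_le_right
        intro v hv
        exact ⟨⟨v, hv.1⟩, PSolvable.le_pCore hn hp' hv, rfl⟩
      exact fun v hv => hsub ⟨hAL hv.1, hv.2⟩
  rw [hcap]
  constructor
  · rw [inf_comm, Subgroup.inf_relIndex_right, Subgroup.relIndex_comap]
    obtain ⟨i, hi⟩ := hA'p.index (B.subgroupOf A')
    change B.relIndex A' = p ^ i at hi
    have hne : i ≠ 0 := by
      rintro rfl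
      rw [pow_zero, Subgroup.relIndex_eq_one] at hi
      obtain ⟨a₁, ha₁, hne⟩ := hwA
      exact hne ((PLocal.mem_fixOn.1 hwB).2 a₁ (hi ha₁))
    have hle : p ^ i ≤ p ^ 1 := by rw [pow_one, ← hi]; exact hBi
    have := (Nat.pow_le_pow_iff_right hpp.one_lt).1 hle
    rw [← hA', hi, show i = 1 by omega, pow_one]
  · rw [Subgroup.commutator_le]
    intro a ha g hg
    rw [← QuotientGroup.eq_one_iff]
    show π ⁅a, g⁆ = 1
    rw [map_commutatorElement, commutatorElement_eq_one_iff_mul_comm]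
    exact (hfix g hg _ ha.2).symm

end Cfsg.Agent.S3754
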