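import Cfsg.Statements.S3760

set_option autoImplicit false
open Cfsg

namespace Cfsg.Agent.S3760



/-- Let the group G act transitively on a set X, let x ∈ X with stabilizer H = G_x, and let K ≤ H. Then N_G(K) acts transitively on the set of fixed points of K if and only if every G-conjugate of K contained in H is already an H-conjugate of K. -/
theorem result {G : Type*} [Group G] {X : Type*} [MulAction G X] (htrans : ∀ a b : X, ∃ g : G, g • a = b) (x : X) (K : Subgroup G) (hK : K ≤ MulAction.stabilizer G x) : (∀ a b : X, (∀ k ∈ K, k • a = a) → (∀ k ∈ K, k • b = b) → ∃ g ∈ Subgroup.normalizer (K : Set G), g • a = b) ↔ ∀ g : G, K.map (MulAut.conj g).toMonoidHom ≤ MulAction.stabilizer G x → ∃ h ∈ MulAction.stabilizer G x, K.map (MulAut.conj g).toMonoidHom = K.map (MulAut.conj h).toMonoidHom := by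
  constructor
  · intro h g hg
    have h1 : ∀ k ∈ K, k • x = x := fun k hk => hK hk
    have h2 : ∀ k ∈ K, k • (g⁻¹ • x) = g⁻¹ • x := by
      intro k hk
      have h3 : (g * k * g⁻¹) • x = x := hg ⟨k, hk, rfl⟩
      calc k • (g⁻¹ • x) = g⁻¹ • ((g * k * g⁻¹) • x) := by
            simp only [← mul_smul, mul_assoc, inv_mul_cancel_left]
        _ = g⁻¹ • x := by rw [h3]
    obtain ⟨n, hn, hnx⟩ := h x (g⁻¹ • x) h1 h2
    refine ⟨g * n, by rw [MulAction.mem_stabilizer_iff, mul_smul, hnx, smul_inv_smul], ?_⟩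
    have hn' : K.map (MulAut.conj n).toMonoidHom = K := Subgroup.mem_normalizer_iff_map_conj_eq.1 hn
    conv_lhs => rw [← hn']
    rw [Subgroup.map_map]
    congr 1
    ext y; simp [mul_assoc]
  · intro h a b ha hb
    have key : ∀ a : X, (∀ k ∈ K, k • a = a) → ∃ n ∈ Subgroup.normalizer (K : Set G), n • x = a := by
      intro a ha
      obtain ⟨g, rfl⟩ := htrans x a
      have h1 : K.map (MulAut.conj g⁻¹).toMonoidHom ≤ MulAction.stabilizer G x := by
        rintro _ ⟨k, hk, rfl⟩
        simp only [MulEquiv.coe_toMonoidHom, MulAut.conj_apply, inv_inv, MulAction.mem_stabilizer_iff,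
          mul_smul, ha k hk, inv_smul_smul]
      obtain ⟨h0, hh0, heq⟩ := h g⁻¹ h1
      refine ⟨g * h0, ?_, by rw [mul_smul, MulAction.mem_stabilizer_iff.1 hh0]⟩
      rw [Subgroup.mem_normalizer_iff_map_conj_eq]
      have h2 := congrArg (Subgroup.map (MulAut.conj g).toMonoidHom) heq
      rw [Subgroup.map_map, Subgroup.map_map] at h2
      refine Eq.trans ?_ (h2.symm.trans ?_)
      · congr 1
        ext y; simp [mul_assoc]
      · convert Subgroup.map_id K using 2
        ext y; simp [mul_assoc]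
    obtain ⟨n, hn, hna⟩ := key a ha
    obtain ⟨m, hm, hmb⟩ := key b hb
    exact ⟨m * n⁻¹, mul_mem hm (inv_mem hn), by rw [← hna, ← hmb, mul_smul, inv_smul_smul]⟩

end Cfsg.Agent.S3760
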