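import Cfsg.Statements.S3761
import Cfsg.Agent.Lib.TwoGroups.Recognition
import Cfsg.Agent.Lib.PGroups.CyclicIndexP

set_option autoImplicit false
open Cfsg

namespace Cfsg.Agent.S3761


open Subgroup
open scoped commutatorElement

theorem two_sq_cases {a : ℤ} {j : ℕ} (h : (2:ℤ)^(j+2) ∣ a^2 - 1) :
    (2:ℤ)^(j+1) ∣ a - 1 ∨ (2:ℤ)^(j+1) ∣ a + 1 := by
  have hodd : Odd a := by
    rcases Int.even_or_odd a with he | ho
    · exfalso
      obtain ⟨x, rfl⟩ := he
      have h2 : (2:ℤ) ∣ (x + x)^2 - 1 := (dvd_pow_self _ (by omega)).trans h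
      have : (2:ℤ) ∣ (x + x)^2 := Dvd.dvd.pow ⟨x, by ring⟩ two_ne_zero
      have h3 := dvd_sub this h2
      norm_num at h3
    · exact ho
  obtain ⟨x, rfl⟩ := hodd
  have h' : (2:ℤ)^j ∣ x * (x + 1) := by
    have e : (2 * x + 1)^2 - 1 = 2^2 * (x * (x + 1)) := by ring
    rw [e, pow_add, mul_comm ((2:ℤ)^j)] at h
    exact (mul_dvd_mul_iff_left (by norm_num)).1 h
  rcases Int.even_or_odd x with he | ho
  · left
    have hc : IsCoprime ((2:ℤ)^j) (x + 1) := by
      refine IsCoprime.pow_left ?_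
      rw [Int.prime_two.coprime_iff_not_dvd]
      obtain ⟨y, rfl⟩ := he; omega
    obtain ⟨y, hy⟩ := hc.dvd_of_dvd_mul_right h'
    exact ⟨y, by rw [hy, pow_succ]; ring⟩
  · right
    have hc : IsCoprime ((2:ℤ)^j) x := by
      refine IsCoprime.pow_left ?_
      rw [Int.prime_two.coprime_iff_not_dvd]
      obtain ⟨y, rfl⟩ := ho; omega
    obtain ⟨y, hy⟩ := hc.dvd_of_dvd_mul_left h'
    exact ⟨y, by linear_combination 2 * hy⟩

/-- A generator `u` of a self-centralising normal cyclic subgroup with the exponents of the action. -/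
structure Setup (G : Type*) [Group G] (p n : ℕ) (U : Subgroup G) (u : G) (a : G → ℤ) : Prop where
  zp : Subgroup.zpowers u = U
  ord : orderOf u = p ^ n
  act : ∀ g, g * u * g⁻¹ = u ^ (a g)
  cen : ∀ g, g * u = u * g → g ∈ U

namespace Setup

variable {G : Type*} [Group G] {p n : ℕ} {U : Subgroup G} {u : G} {a : G → ℤ}

theorem zeq (S : Setup G p n U u a) {i j : ℤ} : u ^ i = u ^ j ↔ (p:ℤ)^n ∣ i - j := by
  have h := orderOf_dvd_iff_zpow_eq_one (x := u) (i := i - j)
  rw [S.ord, Nat.cast_pow, zpow_sub, mul_inv_eq_one] at h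
  exact h.symm

theorem zone (S : Setup G p n U u a) {i : ℤ} : u ^ i = 1 ↔ (p:ℤ)^n ∣ i := by
  simpa using S.zeq (i := i) (j := 0)

theorem conj (S : Setup G p n U u a) (g : G) (i : ℤ) : g * u ^ i * g⁻¹ = u ^ (a g * i) := by
  rw [← conj_zpow, S.act, ← zpow_mul]

theorem mem_iff (S : Setup G p n U u a) {g : G} : g ∈ U ↔ (p:ℤ)^n ∣ a g - 1 := by
  rw [← S.zeq, zpow_one, ← S.act, mul_inv_eq_iff_eq_mul]
  refine ⟨fun h => ?_, S.cen g⟩
  obtain ⟨i, rfl⟩ := Subgroup.mem_zpowers_iff.1 (S.zp ▸ h)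
  exact (Commute.self_zpow u i).symm.eq

theorem mul_dvd (S : Setup G p n U u a) (g h : G) : (p:ℤ)^n ∣ a (g*h) - a g * a h := by
  rw [← S.zeq, ← S.act, ← S.conj, ← S.act]; group

theorem pow_dvd (S : Setup G p n U u a) (g : G) (k : ℕ) : (p:ℤ)^n ∣ a (g^k) - (a g)^k := by
  rw [← S.zeq, ← S.act]
  induction k with
  | zero => simp
  | succ k ih =>
    calc g^(k+1) * u * (g^(k+1))⁻¹ = g * (g^k * u * (g^k)⁻¹) * g⁻¹ := by rw [pow_succ']; group
      _ = _ := by rw [ih, S.conj, pow_succ']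

theorem comm_mem (S : Setup G p n U u a) [U.Normal] (x g : G) : ⁅x, g⁆ ∈ U := by
  have e : (x*g) * u * (x*g)⁻¹ = (g*x) * u * (g*x)⁻¹ := by
    rw [S.act, S.act, S.zeq]
    have := dvd_sub (S.mul_dvd x g) (S.mul_dvd g x)
    rwa [mul_comm (a g) (a x), sub_sub_sub_cancel_right] at this
  have hv : (g*x)⁻¹ * (x*g) ∈ U := by
    refine S.cen _ ?_
    have := congrArg (fun t => (g*x)⁻¹ * t * (x*g)) e
    simpa [mul_assoc] using this
  have h2 : ⁅x, g⁆ = (g*x) * ((g*x)⁻¹ * (x*g)) * (g*x)⁻¹ := by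
    rw [commutatorElement_def]; group
  rw [h2]
  exact (inferInstance : U.Normal).conj_mem _ hv _

theorem modp (S : Setup G p n U u a) [Fact p.Prime] (hG : IsPGroup p G) (hn : 1 ≤ n) (g : G) :
    (p:ℤ) ∣ a g - 1 := by
  obtain ⟨k, hk⟩ := hG g
  have h1 : (p:ℤ) ∣ a (g^(p^k)) - 1 := (dvd_pow_self _ (by omega)).trans
    (S.mem_iff.1 (hk ▸ U.one_mem))
  have h2 : (p:ℤ) ∣ a (g^(p^k)) - (a g)^(p^k) :=
    (dvd_pow_self _ (by omega)).trans (S.pow_dvd g _)
  rw [← ZMod.intCast_zmod_eq_zero_iff_dvd] at h1 h2 ⊢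
  push_cast at h1 h2 ⊢
  rw [ZMod.pow_card_pow] at h2
  linear_combination h1 - h2

theorem exists_sq (_S : Setup G p n U u a) (hG : IsPGroup p G) {g : G} (hg : g ∉ U) :
    ∃ k : ℕ, g^(p^k) ∉ U ∧ (g^(p^k))^p ∈ U := by
  obtain ⟨k, hk⟩ := hG g
  induction k with
  | zero => simp at hk; exact absurd (hk ▸ U.one_mem) hg
  | succ k _ =>
    by_contra hc
    push Not at hc
    have : ∀ i, g^(p^i) ∉ U := by
      intro i
      induction i with
      | zero => simpa using hg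
      | succ i ih => rw [pow_succ, pow_mul]; exact hc i ih
    exact this (k+1) (hk ▸ U.one_mem)

/-- Powers of `u ^ j * g` when `g` acts as `1 + k p^(n-1)`. -/
theorem mul_pow_eq (S : Setup G p n U u a) (hn : 2 ≤ n) {g : G} {k : ℤ}
    (hg : a g - 1 = k * (p:ℤ)^(n-1)) (j : ℤ) (m : ℕ) :
    (u^j * g)^m = u^(j * ((m:ℤ) + k * (p:ℤ)^(n-1) * (Nat.choose m 2 : ℤ))) * g^m := by
  induction m with
  | zero => simp
  | succ m ih =>
    rw [pow_succ', ih]
    have hh : ∀ i : ℤ, g * u^i = u^(a g * i) * g := fun i => mul_inv_eq_iff_eq_mul.1 (S.conj g i)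
    rw [mul_assoc, ← mul_assoc g, hh, mul_assoc, ← pow_succ', ← mul_assoc, ← zpow_add]
    congr 1
    rw [S.zeq, Nat.choose_succ_succ, Nat.choose_one_right]
    obtain ⟨l, rfl⟩ : ∃ l, n = l + 2 := ⟨n - 2, by omega⟩
    simp only [show l + 2 - 1 = l + 1 by omega] at hg ⊢
    refine ⟨j * k * k * (p:ℤ)^l * (Nat.choose m 2 : ℤ), ?_⟩
    have ea : a g = 1 + k * (p:ℤ)^(l+1) := by linear_combination hg
    rw [ea]; push_cast; ring

theorem tail (S : Setup G p n U u a) [Fact p.Prime] [U.Normal] [Finite G] (hG : IsPGroup p G)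
    (hn : 2 ≤ n) (hcond : p ≠ 2 ∨ 3 ≤ n)
    (M : Subgroup G) (hM : ∀ g, g ∈ M ↔ (p:ℤ)^(n-1) ∣ a g - 1) {b : G} (hbM : b ∈ M) (hbU : b ∉ U) :
    U.relIndex M = p ∧ Cfsg.IsElementaryAbelian p (Cfsg.omegaOne p M) ∧
      Nat.card (Cfsg.omegaOne p M) = p^2 ∧ (Cfsg.omegaOne p M).Characteristic := by
  have hpp : p.Prime := Fact.out
  have hp0 : (p:ℤ) ≠ 0 := by exact_mod_cast hpp.ne_zero
  set q : ℤ := (p:ℤ)^(n-1) with hqd
  have hqN : q * p = (p:ℤ)^n := by rw [hqd, ← pow_succ]; congr 1; omega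
  have hq0 : q ≠ 0 := pow_ne_zero _ hp0
  have hqq : (p:ℤ)^n ∣ q * q := by rw [hqd, ← pow_add]; exact pow_dvd_pow _ (by omega)
  set K : G → ℤ := fun g => (a g - 1) / q with hK
  have hKe : ∀ g, g ∈ M → a g - 1 = K g * q := fun g hg => (Int.ediv_mul_cancel ((hM g).1 hg)).symm
  let f : M →* Multiplicative (ZMod p) := MonoidHom.mk'
    (fun g => Multiplicative.ofAdd ((K g : ℤ) : ZMod p)) (by
      intro x y
      rw [← ofAdd_add]; congr 1
      rw [← Int.cast_add, ← sub_eq_zero, ← Int.cast_sub, ZMod.intCast_zmod_eq_zero_iff_dvd]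
      have h1 := S.mul_dvd (x:G) (y:G)
      have e : a ((x:G)*y) - a x * a y =
          (K ((x:G)*y) - (K x + K y)) * q - K x * K y * (q * q) := by
        linear_combination hKe _ (M.mul_mem x.2 y.2) - (a (y:G)) * hKe _ x.2 -
          (1 + K x * q) * hKe _ y.2
      have h2 : (p:ℤ)^n ∣ (K ((x:G)*y) - (K x + K y)) * q := by
        have := dvd_add h1 (hqq.mul_left (K x * K y))
        rw [e] at this; simpa using this
      rw [← hqN, mul_comm q] at h2
      simpa using (mul_dvd_mul_iff_right hq0).1 h2)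
  have hf : ∀ g : M, f g = 1 ↔ (g:G) ∈ U := by
    intro g
    change Multiplicative.ofAdd _ = 1 ↔ _
    rw [ofAdd_eq_one, ZMod.intCast_zmod_eq_zero_iff_dvd, S.mem_iff, hKe _ g.2, ← hqN, mul_comm (K g) q,
      mul_dvd_mul_iff_left hq0]
  have hker : f.ker = U.subgroupOf M := by
    ext g; rw [MonoidHom.mem_ker, hf, Subgroup.mem_subgroupOf]
  have hcard : Nat.card (Multiplicative (ZMod p)) = p := by
    simp [Nat.card_congr Multiplicative.toAdd, Nat.card_zmod]
  have hfs : Function.Surjective f := by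
    rw [← MonoidHom.range_eq_top]
    have : Fact (Nat.card (Multiplicative (ZMod p))).Prime := ⟨by rw [hcard]; exact hpp⟩
    rcases f.range.eq_bot_or_eq_top_of_prime_card with h | h
    · exfalso
      have h2 : f ⟨b, hbM⟩ ∈ f.range := ⟨_, rfl⟩
      rw [h, Subgroup.mem_bot, hf] at h2
      exact hbU h2
    · exact h
  have hrel : U.relIndex M = p := by
    rw [Subgroup.relIndex, ← hker, Subgroup.index_ker, MonoidHom.range_eq_top.2 hfs,
      Subgroup.card_top, hcard]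
  -- the coefficient of `j` in the `p`-th power
  have hpow : ∀ g ∈ M, ∃ c : ℤ, IsCoprime c q ∧ ∀ j : ℤ, (u^j * g)^p = u^((p:ℤ) * c * j) * g^p := by
    intro g hg
    obtain ⟨l, hl⟩ : (p:ℤ) ∣ (p:ℤ)^(n-2) * (Nat.choose p 2 : ℤ) := by
      by_cases hp2 : p = 2
      · have : 1 ≤ n - 2 := by rcases hcond with h | h; exact absurd hp2 h; omega
        exact (dvd_pow_self _ (by omega)).mul_right _
      · refine Dvd.dvd.mul_left ?_ _
        exact_mod_cast hpp.dvd_choose_self two_ne_zero (by have := hpp.two_le; omega)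
    refine ⟨1 + K g * (p:ℤ) * l, ?_, fun j => ?_⟩
    · refine IsCoprime.pow_right ?_
      exact ⟨1, -(K g * l), by ring⟩
    rw [S.mul_pow_eq hn (hKe g hg) j p]
    congr 2
    have e : q = (p:ℤ)^(n-2) * p := by rw [hqd, ← pow_succ]; congr 1; omega
    rw [← hqd, e]
    linear_combination (j * K g * (p:ℤ)) * hl
  set z : G := u^q with hzd
  have hzM : ∀ g : G, g * z = z * g := by
    intro g
    rw [← mul_inv_eq_iff_eq_mul, hzd, S.conj, S.zeq, show a g * q - q = q * (a g - 1) by ring, ← hqN]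
    exact mul_dvd_mul_left q (S.modp hG (by omega) g)
  have hzU : z ∈ U := S.zp ▸ zpow_mem (Subgroup.mem_zpowers u) q
  have hUM : U ≤ M := by
    intro g hg
    rw [hM]
    exact (pow_dvd_pow _ (by omega)).trans (S.mem_iff.1 hg)
  have hzp : z^p = 1 := by
    rw [hzd, ← zpow_natCast, ← zpow_mul, S.zone, ← hqN]
  -- an element of order `p` outside `U`
  obtain ⟨b', hb'M, hb'U, hb'p⟩ : ∃ b', b' ∈ M ∧ b' ∉ U ∧ b'^p = 1 := by
    have hbp : b^p ∈ U := by
      have : f (⟨b, hbM⟩^p) = 1 := by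
        rw [map_pow]
        have := pow_card_eq_one' (x := f ⟨b, hbM⟩)
        rwa [hcard] at this
      simpa using (hf _).1 this
    obtain ⟨m, hm⟩ := Subgroup.mem_zpowers_iff.1 (S.zp ▸ hbp)
    have h1 : u^(a b * m) = u^m := by
      rw [← S.conj, hm]; group
    rw [S.zeq, show a b * m - m = (a b - 1) * m by ring, hKe b hbM, mul_right_comm, mul_comm _ q, ← hqN,
      mul_dvd_mul_iff_left hq0] at h1
    obtain ⟨m', hm'⟩ : (p:ℤ) ∣ m := by
      rcases (Nat.prime_iff_prime_int.1 hpp).dvd_or_dvd h1 with h | h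
      · exfalso; apply hbU; rw [S.mem_iff, hKe b hbM, ← hqN, mul_comm q]; exact mul_dvd_mul_right h q
      · exact h
    obtain ⟨c, hc, hcp⟩ := hpow b hbM
    obtain ⟨s, t, hst⟩ := hc
    refine ⟨u^(-m'*s) * b, M.mul_mem (hUM (S.zp ▸ zpow_mem (Subgroup.mem_zpowers u) _)) hbM, ?_, ?_⟩
    · intro h
      exact hbU ((U.mul_mem_cancel_left (S.zp ▸ zpow_mem (Subgroup.mem_zpowers u) _)).1 h)
    rw [hcp, ← hm, ← zpow_add, S.zone, ← hqN]
    exact ⟨m' * t, by rw [hm']; linear_combination (-(p:ℤ) * m') * hst⟩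
  -- solutions of `x ^ p = 1` in `M`
  have hrep : ∀ x ∈ M, x^p = 1 → ∃ s i : ℕ, x = z^s * b'^i := by
    intro x hxM hxp
    have h0 : f ⟨b', hb'M⟩ ≠ 1 := by rw [Ne, hf]; exact hb'U
    have : Fact (Nat.card (Multiplicative (ZMod p))).Prime := ⟨by rw [hcard]; exact hpp⟩
    have h1 : f ⟨x, hxM⟩ ∈ Subgroup.zpowers (f ⟨b', hb'M⟩) := by
      rcases (Subgroup.zpowers (f ⟨b', hb'M⟩)).eq_bot_or_eq_top_of_prime_card with h | h
      · exact absurd (Subgroup.zpowers_eq_bot.1 h) h0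
      · rw [h]; trivial
    obtain ⟨i, hi⟩ := (mem_powers_iff_mem_zpowers (x := f ⟨b', hb'M⟩)).2 h1
    have hv : x * (b'^i)⁻¹ ∈ U := by
      have : f (⟨x, hxM⟩ * (⟨b', hb'M⟩^i)⁻¹) = 1 := by
        rw [map_mul, map_inv, map_pow, mul_inv_eq_one]; exact hi.symm
      simpa using (hf _).1 this
    obtain ⟨j, hj⟩ := Subgroup.mem_zpowers_iff.1 (S.zp ▸ hv)
    obtain ⟨c, hc, hcp⟩ := hpow (b'^i) (pow_mem hb'M i)
    have hx : x = u^j * b'^i := by rw [hj]; group
    rw [hx, hcp, ← pow_mul, mul_comm i, pow_mul, hb'p, one_pow, mul_one, S.zone, ← hqN, mul_assoc,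
      mul_comm q, mul_dvd_mul_iff_left hp0] at hxp
    obtain ⟨r, hr⟩ := hc.symm.dvd_of_dvd_mul_left hxp
    have h2 : z^r ∈ Subgroup.zpowers z := zpow_mem (Subgroup.mem_zpowers z) r
    obtain ⟨s, hs⟩ := (mem_powers_iff_mem_zpowers (x := z)).2 h2
    refine ⟨s, i, ?_⟩
    rw [hx, show z^s = z^r from hs, hzd, ← zpow_mul, hr]
  have hcb : ∀ s i t l : ℕ, Commute (z^s * b'^i) (z^t * b'^l) := by
    intro s i t l
    have hz : ∀ g, Commute z g := fun g => (hzM g).symm
    exact Commute.mul_left (((hz _).pow_left s))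
      (Commute.mul_right ((hz _).symm.pow_right t) ((Commute.refl b').pow_pow i l))
  let E : Subgroup G :=
    { carrier := {x | x ∈ M ∧ x^p = 1}
      one_mem' := ⟨M.one_mem, one_pow _⟩
      mul_mem' := by
        rintro x y ⟨hx, hxp⟩ ⟨hy, hyp⟩
        refine ⟨M.mul_mem hx hy, ?_⟩
        obtain ⟨s, i, rfl⟩ := hrep x hx hxp
        obtain ⟨t, l, rfl⟩ := hrep y hy hyp
        rw [(hcb s i t l).mul_pow, hxp, hyp, one_mul]
      inv_mem' := fun {x} hx => ⟨M.inv_mem hx.1, by rw [inv_pow, hx.2, inv_one]⟩ }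
  have hmemE : ∀ x, x ∈ E ↔ x ∈ M ∧ x^p = 1 := fun _ => Iff.rfl
  have hOm : Cfsg.omegaOne p M = E := by
    refine le_antisymm ((Subgroup.closure_le _).2 fun x hx => hx) fun x hx => Subgroup.subset_closure hx
  rw [hOm]
  have hzE : z ∈ E := ⟨hUM hzU, hzp⟩
  have hb'E : b' ∈ E := ⟨hb'M, hb'p⟩
  have hEU : ∀ x ∈ E, x ∈ U → ∃ s : ℕ, x = z^s := by
    intro x hx hxU
    obtain ⟨j, rfl⟩ := Subgroup.mem_zpowers_iff.1 (S.zp ▸ hxU)
    have h := hx.2
    rw [← zpow_natCast, ← zpow_mul, S.zone, ← hqN, mul_dvd_mul_iff_right hp0] at h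
    obtain ⟨r, rfl⟩ := h
    have h2 : z^r ∈ Subgroup.zpowers z := zpow_mem (Subgroup.mem_zpowers z) r
    obtain ⟨s, hs⟩ := (mem_powers_iff_mem_zpowers (x := z)).2 h2
    exact ⟨s, by rw [show z^s = z^r from hs, hzd, ← zpow_mul]⟩
  have hea : Cfsg.IsElementaryAbelian p E := by
    refine Lib.PGroups.elemAb_mk (fun x hx y hy => ?_) fun x hx => hx.2
    obtain ⟨s, i, rfl⟩ := hrep x hx.1 hx.2
    obtain ⟨t, l, rfl⟩ := hrep y hy.1 hy.2
    exact hcb s i t l
  refine ⟨hrel, hea, ?_, ?_⟩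
  · -- order
    have hg : Nat.card (f.comp (Subgroup.inclusion (fun x hx => hx.1 : E ≤ M))).range *
        Nat.card (f.comp (Subgroup.inclusion (fun x hx => hx.1 : E ≤ M))).ker = Nat.card E := by
      rw [← Subgroup.index_ker, mul_comm, Subgroup.card_mul_index]
    set φ := f.comp (Subgroup.inclusion (fun x hx => hx.1 : E ≤ M)) with hφ
    have : Fact (Nat.card (Multiplicative (ZMod p))).Prime := ⟨by rw [hcard]; exact hpp⟩
    have hr : φ.range = ⊤ := by
      rcases φ.range.eq_bot_or_eq_top_of_prime_card with h | h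
      · exfalso
        have h2 : φ ⟨b', hb'E⟩ ∈ φ.range := ⟨_, rfl⟩
        rw [h, Subgroup.mem_bot] at h2
        exact hb'U ((hf _).1 h2)
      · exact h
    have hz1 : z ≠ 1 := by
      rw [hzd, Ne, S.zone]
      intro h
      rw [← hqN] at h
      have : (p:ℤ) ∣ 1 := (mul_dvd_mul_iff_left hq0).1 (by simpa using h)
      exact hpp.one_lt.ne' (Nat.dvd_one.1 (by exact_mod_cast this))
    have hk : φ.ker = Subgroup.zpowers (⟨z, hzE⟩ : E) := by
      ext x
      rw [MonoidHom.mem_ker]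
      constructor
      · intro h
        obtain ⟨s, hs⟩ := hEU x.1 x.2 ((hf _).1 h)
        exact ⟨s, Subtype.ext (by simpa using hs.symm)⟩
      · rintro ⟨s, rfl⟩
        have hz0 : φ ⟨z, hzE⟩ = 1 := (hf _).2 hzU
        simp [map_zpow, hz0]
    rw [hr, Subgroup.card_top, hcard, hk, Nat.card_zpowers, ← Subgroup.orderOf_coe,
      orderOf_eq_prime hzp hz1] at hg
    rw [← hg, sq]
  · -- characteristic
    have hMn : ∀ g x : G, x ∈ M → g * x * g⁻¹ ∈ M := by
      intro g x hx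
      have h := M.mul_mem (hUM (S.comm_mem g x)) hx
      rwa [commutatorElement_def, inv_mul_cancel_right] at h
    have hchar : ∀ x : G, x ∈ E ↔ x^p = 1 ∧ ∀ g : G, (∀ h : G, h * ⁅x, g⁆ = ⁅x, g⁆ * h) ∧ ⁅x, g⁆^p = 1 := by
      intro x
      constructor
      · intro hx
        refine ⟨hx.2, fun g => ?_⟩
        have hc : ⁅x, g⁆ ∈ E := by
          have h1 : g * x⁻¹ * g⁻¹ ∈ E := by
            refine ⟨hMn _ _ (M.inv_mem hx.1), ?_⟩
            rw [conj_pow, inv_pow, hx.2]; group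
          have := E.mul_mem hx h1
          rwa [commutatorElement_def, mul_assoc x, mul_assoc x]
        obtain ⟨s, hs⟩ := hEU _ hc (S.comm_mem x g)
        exact ⟨fun h => by rw [hs]; exact ((show Commute h z from hzM h).pow_right s).eq, hc.2⟩
      · rintro ⟨hxp, hx⟩
        refine ⟨?_, hxp⟩
        rw [hM]
        obtain ⟨j, hj⟩ := Subgroup.mem_zpowers_iff.1 (S.zp ▸ S.comm_mem x u)
        have h := (hx u).2
        rw [← hj, ← zpow_natCast, ← zpow_mul, S.zone, ← hqN, mul_dvd_mul_iff_right hp0] at h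
        have h2 : u^(a x - 1) = u^j := by
          rw [hj, zpow_sub, ← S.act, zpow_one, commutatorElement_def]
        rw [S.zeq] at h2
        have := dvd_add ((Dvd.intro (p:ℤ) hqN).trans h2) h
        simpa using this
    refine Subgroup.characteristic_iff_comap_eq.2 fun φ => ?_
    ext x
    rw [Subgroup.mem_comap, hchar, hchar]
    have hinj := φ.injective
    constructor
    · rintro ⟨h1, h2⟩
      refine ⟨hinj (by simpa using h1), fun g => ⟨fun h => hinj ?_, hinj ?_⟩⟩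
      · simpa [map_commutatorElement] using (h2 (φ g)).1 (φ h)
      · simpa [map_commutatorElement] using (h2 (φ g)).2
    · rintro ⟨h1, h2⟩
      refine ⟨by simpa using congrArg φ h1, fun g => ?_⟩
      obtain ⟨g', rfl⟩ := φ.surjective g
      refine ⟨fun h => ?_, ?_⟩
      · obtain ⟨h', rfl⟩ := φ.surjective h
        simpa [map_commutatorElement] using congrArg φ ((h2 g').1 h')
      · simpa [map_commutatorElement] using congrArg φ (h2 g').2

theorem dihedral_type [Finite G] (S : Setup G 2 n U u a) (hn : 2 ≤ n) (hidx : U.index = 2) {g : G}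
    (hg : g ∉ U) (hga : (2:ℤ)^(n-1) ∣ a g + 1) :
    Nat.card G = 2 ^ (n + 1) ∧ ((∃ m : ℕ, Nonempty (G ≃* DihedralGroup m)) ∨
      (∃ m : ℕ, Nonempty (G ≃* QuaternionGroup m)) ∨ Cfsg.IsQuasiDihedral G) := by
  have hUn : Nat.card U = 2^n := by rw [← S.zp, Nat.card_zpowers, S.ord]
  have hcard : Nat.card G = 2^(n+1) := by
    rw [← U.card_mul_index, hUn, hidx, pow_succ]
  refine ⟨hcard, ?_⟩
  set q : ℤ := (2:ℤ)^(n-1) with hqd
  have hqN : q * 2 = (2:ℤ)^n := by rw [hqd, ← pow_succ]; congr 1; omega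
  have hqN' : ((2:ℕ):ℤ)^n = q * 2 := by rw [hqN]; norm_num
  have hq0 : q ≠ 0 := pow_ne_zero _ two_ne_zero
  have hq2 : (2:ℤ) ∣ q := dvd_pow_self _ (by omega)
  obtain ⟨e, he⟩ := hga
  have hg2 : g^2 ∈ U := Subgroup.sq_mem_of_index_two hidx g
  obtain ⟨m, hm⟩ := Subgroup.mem_zpowers_iff.1 (S.zp ▸ hg2)
  have h1 : u^(a g * m) = u^m := by
    rw [← S.conj, hm]; group
  rw [S.zeq, hqN'] at h1
  have hgU : g ∉ Subgroup.zpowers u := by rw [S.zp]; exact hg
  rcases Int.even_or_odd e with hee | heo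
  · -- inversion
    obtain ⟨e', rfl⟩ := hee
    have hinv : g * u * g⁻¹ = u⁻¹ := by
      rw [S.act, ← zpow_neg_one, S.zeq, hqN']
      exact ⟨e', by linear_combination he⟩
    obtain ⟨t, rfl⟩ : q ∣ m := by
      have h3 : q * 2 ∣ 2 * m := by
        have h0 : q * 2 ∣ q * 2 * (e' * m) := ⟨e' * m, rfl⟩
        have h2 : 2 * m = q * 2 * (e' * m) - (a g * m - m) := by linear_combination m * he
        rw [h2]
        exact dvd_sub h0 h1
      rw [mul_comm q 2] at h3
      exact (mul_dvd_mul_iff_left two_ne_zero).1 h3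
    have : NeZero (2^n) := ⟨pow_ne_zero _ two_ne_zero⟩
    have : NeZero (2^(n-1)) := ⟨pow_ne_zero _ two_ne_zero⟩
    rcases Int.even_or_odd t with ht | ht
    · left
      obtain ⟨t', rfl⟩ := ht
      refine ⟨2^n, Lib.TwoGroups.Recognition.nonempty_dihedral (a := u) (b := g) S.ord ?_ hinv hgU
        (by rw [hcard, pow_succ']) ⟩
      rw [← sq, ← hm, S.zone, hqN']
      exact ⟨t', by ring⟩
    · right; left
      obtain ⟨t', rfl⟩ := ht
      refine ⟨2^(n-1), Lib.TwoGroups.Recognition.nonempty_quaternion (a := u) (b := g) ?_ ?_ hinv hgU ?_⟩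
      · rw [S.ord, ← pow_succ']; congr 1; omega
      · rw [← sq, ← hm, ← zpow_natCast, S.zeq, hqN', Nat.cast_pow, Nat.cast_ofNat, ← hqd]
        exact ⟨t', by ring⟩
      · rw [hcard, show n + 1 = n - 1 + 2 by omega, pow_add]; ring
  · right; right
    obtain ⟨e', rfl⟩ := heo
    have hn3 : 3 ≤ n := by
      by_contra hc
      apply hg
      have : n = 2 := by omega
      subst this
      have hqv : q = 2 := by rw [hqd]; norm_num
      rw [S.mem_iff, hqN', hqv]
      exact ⟨e', by rw [hqv] at he; linear_combination he⟩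
    obtain ⟨r, hr⟩ : ∃ r, q = 2 * (2 * r) := by
      refine ⟨(2:ℤ)^(n-3), ?_⟩
      rw [hqd, ← pow_succ', ← pow_succ']; congr 1; omega
    obtain ⟨t, rfl⟩ : q ∣ m := by
      have h3 : 2 * q ∣ 2 * ((-1 + (2*e'+1) * (2 * r)) * m) := by
        rw [mul_comm 2 q]; convert h1 using 1
        linear_combination -m * he - m * (2*e'+1) * hr
      have hc : IsCoprime q (-1 + (2*e'+1) * (2 * r)) := by
        refine IsCoprime.pow_left ?_
        exact ⟨(2*e'+1) * r, -1, by ring⟩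
      exact hc.dvd_of_dvd_mul_left ((mul_dvd_mul_iff_left two_ne_zero).1 h3)
    obtain ⟨y, hy1, hy2, hy3⟩ : ∃ y, y ∉ U ∧ y^2 = 1 ∧ y * u * y⁻¹ = u^(a g) := by
      rcases Int.even_or_odd t with ht | ht
      · obtain ⟨t', rfl⟩ := ht
        refine ⟨g, hg, ?_, S.act g⟩
        rw [← hm, S.zone, hqN']; exact ⟨t', by ring⟩
      · obtain ⟨t', rfl⟩ := ht
        refine ⟨u * g, ?_, ?_, ?_⟩
        · intro h
          exact hg ((U.mul_mem_cancel_left (S.zp ▸ Subgroup.mem_zpowers u)).1 h)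
        · have h2 : u * g * (u * g) = u * (g * u * g⁻¹) * (g * g) := by group
          rw [sq, h2, S.act, ← sq, ← hm, ← zpow_one_add, ← zpow_add, S.zone, hqN']
          exact ⟨e' + t' + 1, by linear_combination he⟩
        · have h2 : u * g * u * (u * g)⁻¹ = u * (g * u * g⁻¹) * u⁻¹ := by group
          rw [h2, S.act, ← zpow_one_add, ← zpow_neg_one, ← zpow_add]; congr 1; ring
    refine ⟨n, hn3, hcard, u, y, S.ord, orderOf_eq_prime hy2 (fun h => hy1 (h ▸ U.one_mem)), ?_⟩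
    rw [hy3, ← zpow_natCast, S.zeq, hqN', Nat.cast_sub Nat.one_le_two_pow, Nat.cast_pow,
      Nat.cast_ofNat, ← hqd]
    exact ⟨e', by linear_combination he⟩

end Setup


/-- Let G be a finite non-abelian p-group with a cyclic normal subgroup U of order p^n such that C_G(U) = U. Then either p = 2 and G is dihedral, generalized quaternion or semidihedral of order 2^(n+1); or, writing U₁ for the subgroup generated by the p-th powers of elements of U and M = C_G(U₁), the subgroup U has index p in M and the subgroup Ω₁(M) generated by the elements of M of order dividing p is elementary abelian of order p² and characteristic in G. -/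
theorem result {G : Type*} [Group G] [Finite G] {p : ℕ} [Fact p.Prime] (hG : IsPGroup p G) (hna : ¬ IsMulCommutative G) (U : Subgroup G) [U.Normal] (hU : IsCyclic U) (n : ℕ) (hUn : Nat.card U = p ^ n) (hC : Subgroup.centralizer (U : Set G) = U) : (p = 2 ∧ Nat.card G = 2 ^ (n + 1) ∧ ((∃ m : ℕ, Nonempty (G ≃* DihedralGroup m)) ∨ (∃ m : ℕ, Nonempty (G ≃* QuaternionGroup m)) ∨ Cfsg.IsQuasiDihedral G)) ∨ (U.relIndex (Subgroup.centralizer (Cfsg.powerClosure p 1 U : Set G)) = p ∧ Cfsg.IsElementaryAbelian p (Cfsg.omegaOne p (Subgroup.centralizer (Cfsg.powerClosure p 1 U : Set G))) ∧ Nat.card ↥(Cfsg.omegaOne p (Subgroup.centralizer (Cfsg.powerClosure p 1 U : Set G))) = p ^ 2 ∧ (Cfsg.omegaOne p (Subgroup.centralizer (Cfsg.powerClosure p 1 U : Set G))).Characteristic) := by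
  classical
  obtain ⟨u, hzp⟩ := (Subgroup.isCyclic_iff_exists_zpowers_eq_top U).1 hU
  have hord : orderOf u = p ^ n := by rw [← Nat.card_zpowers, hzp, hUn]
  have huU : u ∈ U := hzp ▸ Subgroup.mem_zpowers u
  have hex : ∀ g : G, ∃ i : ℤ, g * u * g⁻¹ = u ^ i := fun g => by
    obtain ⟨i, hi⟩ := Subgroup.mem_zpowers_iff.1
      (hzp ▸ (inferInstance : U.Normal).conj_mem u huU g)
    exact ⟨i, hi.symm⟩
  choose a ha using hex
  have hcen : ∀ g : G, g * u = u * g → g ∈ U := by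
    intro g hg
    rw [← hC, Subgroup.mem_centralizer_iff]
    intro v hv
    obtain ⟨i, rfl⟩ := Subgroup.mem_zpowers_iff.1 (hzp ▸ hv)
    exact ((show Commute u g from hg.symm).zpow_left i).eq
  have S : Setup G p n U u a := ⟨hzp, hord, ha, hcen⟩
  obtain ⟨g₀, hg₀⟩ : ∃ g, g ∉ U := by
    by_contra h
    push Not at h
    refine hna ⟨⟨fun x y => ?_⟩⟩
    obtain ⟨i, rfl⟩ := Subgroup.mem_zpowers_iff.1 (hzp ▸ h x)
    obtain ⟨j, rfl⟩ := Subgroup.mem_zpowers_iff.1 (hzp ▸ h y)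
    exact ((Commute.refl u).zpow_zpow i j).eq
  obtain ⟨k, hk1, hk2⟩ := S.exists_sq hG hg₀
  set g := g₀ ^ p ^ k with hgdef
  have hap : (p:ℤ) ^ n ∣ (a g) ^ p - 1 := by
    have := dvd_sub (S.mem_iff.1 hk2) (S.pow_dvd g p)
    simpa using this
  have hn : 2 ≤ n := by
    by_contra hc
    apply hk1
    rw [S.mem_iff]
    rcases Nat.eq_zero_or_pos n with h0 | h0
    · simp [h0]
    · obtain rfl : n = 1 := by omega
      simpa using S.modp hG le_rfl g
  set M := Subgroup.centralizer (Cfsg.powerClosure p 1 U : Set G) with hMd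
  have hpc : Cfsg.powerClosure p 1 U = Subgroup.zpowers (u ^ (p:ℤ)) := by
    refine le_antisymm ((Subgroup.closure_le _).2 ?_)
      ((Subgroup.zpowers_le).2 (Subgroup.subset_closure ⟨u, huU, by rw [pow_one, zpow_natCast]⟩))
    rintro x ⟨v, hv, rfl⟩
    obtain ⟨i, rfl⟩ := Subgroup.mem_zpowers_iff.1 (hzp ▸ hv)
    refine ⟨i, ?_⟩
    change (u ^ (p:ℤ)) ^ i = _
    rw [← zpow_natCast (u ^ i), ← zpow_mul, ← zpow_mul, pow_one, mul_comm]
  have hqN : (p:ℤ) ^ (n-1) * p = (p:ℤ) ^ n := by rw [← pow_succ]; congr 1; omega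
  have hM : ∀ x, x ∈ M ↔ (p:ℤ) ^ (n-1) ∣ a x - 1 := by
    intro x
    have h1 : (x * u ^ (p:ℤ) = u ^ (p:ℤ) * x) ↔ (p:ℤ) ^ (n-1) ∣ a x - 1 := by
      rw [← mul_inv_eq_iff_eq_mul, S.conj, S.zeq, ← hqN,
        show a x * (p:ℤ) - p = (a x - 1) * p by ring,
        mul_dvd_mul_iff_right (by exact_mod_cast (Fact.out : p.Prime).ne_zero)]
    rw [← h1, hMd, hpc, Subgroup.mem_centralizer_iff]
    constructor
    · intro h; exact (h _ (Subgroup.mem_zpowers _)).symm
    · intro h v hv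
      obtain ⟨i, rfl⟩ := Subgroup.mem_zpowers_iff.1 hv
      exact ((show Commute (u ^ (p:ℤ)) x from h.symm).zpow_left i).eq
  by_cases hp : p = 2
  · subst hp
    by_cases hex2 : 3 ≤ n ∧ ∃ b ∈ M, b ∉ U
    · obtain ⟨hn3, b, hbM, hbU⟩ := hex2
      exact Or.inr (S.tail hG hn (Or.inr hn3) M hM hbM hbU)
    · left
      refine ⟨rfl, ?_⟩
      push_cast at hap hM hqN
      have hcases : ∀ x, x ∉ U → (2:ℤ) ^ (n-1) ∣ a x + 1 := by
        intro x hx
        by_cases hn3 : 3 ≤ n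
        · have hxM : x ∉ M := fun h => hex2 ⟨hn3, x, h, hx⟩
          have key : ∀ w, w ∉ U → w ^ 2 ∈ U → (2:ℤ) ^ (n-1) ∣ a w + 1 := by
            intro w hw hw2
            obtain ⟨j, rfl⟩ : ∃ j, n = j + 2 := ⟨n - 2, by omega⟩
            have h2 : (2:ℤ) ^ (j+2) ∣ (a w) ^ 2 - 1 := by
              have := dvd_sub (S.mem_iff.1 hw2) (S.pow_dvd w 2)
              simpa using this
            rcases two_sq_cases h2 with h | h
            · exact absurd ⟨hn3, w, (hM w).2 h, hw⟩ hex2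
            · exact h
          refine key x hx ?_
          by_contra hx2
          obtain ⟨l, hl1, hl2⟩ := S.exists_sq hG hx2
          have h4 : (4:ℤ) ∣ a ((x^2)^2^l) + 1 := by
            refine Dvd.dvd.trans ?_ (key _ hl1 hl2)
            exact (show (4:ℤ) = 2^2 by norm_num) ▸ pow_dvd_pow 2 (by omega)
          have h5 : (4:ℤ) ∣ a ((x^2)^2^l) - (a x)^(2 * 2^l) := by
            rw [← pow_mul]
            refine Dvd.dvd.trans ?_ (S.pow_dvd x _)
            push_cast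
            exact (show (4:ℤ) = 2^2 by norm_num) ▸ pow_dvd_pow 2 (by omega)
          have h6 : (4:ℤ) ∣ (a x)^(2 * 2^l) - 1 := by
            obtain ⟨y, hy⟩ := S.modp hG (by omega) x
            rw [pow_mul]
            refine Dvd.dvd.trans ?_ (sub_one_dvd_pow_sub_one _ _)
            exact ⟨y * y + y, by push_cast at hy; linear_combination (a x + 1 + 2 * y) * hy⟩
          omega
        · obtain rfl : n = 2 := by omega
          obtain ⟨y, hy⟩ := S.modp hG (by omega) x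
          exact ⟨y + 1, by push_cast at hy; linear_combination hy⟩
      refine S.dihedral_type hn ?_ hk1 (hcases _ hk1)
      rw [Subgroup.index_eq_two_iff]
      refine ⟨g, fun x => ?_⟩
      by_cases hx : x ∈ U
      · exact Or.inr ⟨hx, fun h => hk1 ((U.mul_mem_cancel_left hx).1 h)⟩
      · refine Or.inl ⟨?_, hx⟩
        by_contra hxg
        obtain ⟨c1, hc1⟩ := hcases x hx
        obtain ⟨c2, hc2⟩ := hcases g hk1
        obtain ⟨c3, hc3⟩ := hcases (x * g) hxg
        obtain ⟨c4, hc4⟩ := S.mul_dvd x g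
        by_cases hn3 : 3 ≤ n
        · obtain ⟨r, hr⟩ : (4:ℤ) ∣ (2:ℤ) ^ (n-1) :=
            (show (4:ℤ) = 2^2 by norm_num) ▸ pow_dvd_pow 2 (by omega)
          push_cast at hc4
          rw [← hqN] at hc4
          have h2 : (4:ℤ) ∣ 2 := by
            refine ⟨r * (c3 - (2:ℤ) ^ (n-1) * c1 * c2 + c1 + c2 - 2 * c4), ?_⟩
            linear_combination -hc4 + hc3 - (a g) * hc1 + (1 - (2:ℤ) ^ (n-1) * c1) * hc2 +
              (c3 - (2:ℤ) ^ (n-1) * c1 * c2 + c1 + c2 - 2 * c4) * hr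
          norm_num at h2
        · obtain rfl : n = 2 := by omega
          apply hxg
          rw [S.mem_iff]
          push_cast at hc4 ⊢
          obtain ⟨y1, hy1⟩ : (2:ℤ) ∣ a x - 1 := ⟨c1 - 1, by linear_combination hc1⟩
          obtain ⟨y2, hy2⟩ : (2:ℤ) ∣ a g - 1 := ⟨c2 - 1, by linear_combination hc2⟩
          have o1 : Odd y1 := Int.not_even_iff_odd.1 fun ⟨y, hy⟩ =>
            hx (S.mem_iff.2 ⟨y, by push_cast; linear_combination hy1 + 2 * hy⟩)
          have o2 : Odd y2 := Int.not_even_iff_odd.1 fun ⟨y, hy⟩ =>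
            hk1 (S.mem_iff.2 ⟨y, by push_cast; linear_combination hy2 + 2 * hy⟩)
          obtain ⟨z1, hz1⟩ := o1
          obtain ⟨z2, hz2⟩ := o2
          refine ⟨c4 + y1 * y2 + z1 + z2 + 1, ?_⟩
          linear_combination hc4 + (a g) * hy1 + (1 + 2 * y1) * hy2 + 2 * hz1 + 2 * hz2
  · refine Or.inr (S.tail hG hn (Or.inl hp) M hM (b := g) ?_ hk1)
    rw [hM]
    refine Lib.PGroups.dvd_sub_one_of_dvd_pow_sub_one hp ?_
    rwa [show n - 1 + 1 = n by omega]

end Cfsg.Agent.S3761
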