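import Cfsg.Statements.S3762
import Cfsg.Agent.S3761
import Cfsg.Agent.Lib.PGroups.Frattini
import Cfsg.Agent.Lib.PGroups.MaxAbelian

set_option autoImplicit false
open Cfsg

namespace Cfsg.Agent.S3762


open Subgroup
open scoped commutatorElement

variable {G : Type*} [Group G]

theorem char_of {A : Subgroup G} (h : ∀ φ : G ≃* G, ∀ x ∈ A, φ x ∈ A) : A.Characteristic := by
  refine Subgroup.characteristic_iff_map_le.2 fun φ => ?_
  rintro _ ⟨x, hx, rfl⟩
  exact h φ x hx

theorem map_mem {A : Subgroup G} [hA : A.Characteristic] (φ : G ≃* G) {x : G} (hx : x ∈ A) : φ x ∈ A :=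
  Subgroup.characteristic_iff_map_le.1 hA φ ⟨x, hx, rfl⟩

theorem card_mul_relIndex' {A B : Subgroup G} (h : A ≤ B) : Nat.card A * A.relIndex B = Nat.card B := by
  rw [← relIndex_bot_left A, relIndex_mul_relIndex ⊥ A B bot_le h, relIndex_bot_left]

theorem card_sup_mul (D K : Subgroup G) [K.Normal] :
    Nat.card (D ⊔ K : Subgroup G) * Nat.card (D ⊓ K : Subgroup G) = Nat.card D * Nat.card K := by
  rw [← card_mul_relIndex' (le_sup_right : K ≤ D ⊔ K), ← card_mul_relIndex' (inf_le_left : D ⊓ K ≤ D),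
    relIndex_sup_right, inf_comm D K, inf_relIndex_right]
  ring

theorem le_or_exists_central_mod [Finite G] {p : ℕ} [Fact p.Prime] (hG : IsPGroup p G)
    (C K : Subgroup G) [C.Normal] [K.Normal] :
    K ≤ C ∨ ∃ x ∈ K, x ∉ C ∧ x ^ p ∈ C ∧ ∀ g : G, ⁅x, g⁆ ∈ C := by
  by_cases hK : K ≤ C
  · exact Or.inl hK
  right
  set f := QuotientGroup.mk' C with hf
  have : (K.map f).Normal := (inferInstance : K.Normal).map f (QuotientGroup.mk'_surjective C)
  have hne : K.map f ≠ ⊥ := by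
    rw [Ne, Subgroup.map_eq_bot_iff, hf, QuotientGroup.ker_mk']
    exact hK
  obtain ⟨Z, hZK, hZc, -, hZ⟩ := Lib.PGroups.exists_central_card_prime (hG.to_quotient C) _ hne
  have hZne : Z ≠ ⊥ := by
    rintro rfl
    rw [Subgroup.card_bot] at hZ
    exact (Fact.out : p.Prime).one_lt.ne hZ
  obtain ⟨w, hw, hw1⟩ := Z.bot_or_exists_ne_one.resolve_left hZne
  obtain ⟨x, hxK, rfl⟩ := hZK hw
  refine ⟨x, hxK, fun h => hw1 ((QuotientGroup.eq_one_iff x).2 h), ?_, fun g => ?_⟩
  · have h1 : (⟨f x, hw⟩ : Z) ^ p = 1 := by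
      rw [← hZ]; exact pow_card_eq_one'
    have h2 : f (x ^ p) = 1 := by rw [map_pow]; exact congrArg Subtype.val h1
    exact (QuotientGroup.eq_one_iff _).1 h2
  · have h : f ⁅x, g⁆ = 1 := by
      rw [map_commutatorElement, commutatorElement_eq_one_iff_mul_comm]
      exact (Subgroup.mem_center_iff.1 (hZc hw) (f g)).symm
    exact (QuotientGroup.eq_one_iff _).1 h

/-- The pairing bound: `|K| |C| ≤ |C_K(A)| |A|`. -/
theorem pairing [Finite G] {p : ℕ} [Fact p.Prime] (hG : IsPGroup p G) {K C : Subgroup G} {z : G}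
    (hz : z ^ p = 1) (hKz : ∀ k ∈ K, Commute k z) (hKC : K ≤ centralizer (C : Set G))
    (A : Subgroup G) (hCA : C ≤ A) (hAK : ∀ a ∈ A, ∀ k ∈ K, ⁅a, k⁆ ∈ Subgroup.zpowers z) :
    Nat.card K * Nat.card C ≤ Nat.card (K ⊓ centralizer (A : Set G) : Subgroup G) * Nat.card A := by
  have hp : p.Prime := Fact.out
  suffices key : ∀ (m : ℕ) (A : Subgroup G), Nat.card A = m → C ≤ A →
      (∀ a ∈ A, ∀ k ∈ K, ⁅a, k⁆ ∈ Subgroup.zpowers z) →
      Nat.card K * Nat.card C ≤ Nat.card (K ⊓ centralizer (A : Set G) : Subgroup G) * Nat.card A from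
    key _ A rfl hCA hAK
  intro m
  induction m using Nat.strong_induction_on with
  | _ m ih =>
    intro A hm hCA hAK
    by_cases hAC : A ≤ C
    · obtain rfl := le_antisymm hAC hCA
      rw [inf_eq_left.2 hKC]
    have hne : C.subgroupOf A ≠ ⊤ := by
      rwa [Ne, Subgroup.subgroupOf_eq_top]
    obtain ⟨M, hM, hCM⟩ := (eq_top_or_exists_le_coatom (C.subgroupOf A)).resolve_left hne
    have hMi : M.index = p := Lib.PGroups.coatom_index (hG.to_subgroup A) hM
    set A' := M.map A.subtype with hA'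
    have hA'A : A' ≤ A := map_subtype_le M
    have hcard : Nat.card A = Nat.card A' * p := by
      rw [hA', ← Nat.card_congr (M.equivMapOfInjective _ A.subtype_injective).toEquiv, ← hMi,
        M.card_mul_index]
    have hCA' : C ≤ A' := fun c hc => ⟨⟨c, hCA hc⟩, hCM hc, rfl⟩
    have hlt : Nat.card A' < m := by
      rw [← hm, hcard]
      exact lt_mul_of_one_lt_right Nat.card_pos hp.one_lt
    have hih := ih _ hlt A' rfl hCA' (fun a ha => hAK a (hA'A ha))
    obtain ⟨a, haA, haM⟩ : ∃ a : A, a ∈ (⊤ : Subgroup A) ∧ a ∉ M :=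
      SetLike.exists_of_lt hM.1.lt_top
    set K' := K ⊓ centralizer (A' : Set G) with hK'
    set f : K' →* Subgroup.zpowers z := MonoidHom.mk' (fun x => ⟨⁅(a : G), (x : G)⁆, hAK a a.2 x x.2.1⟩)
      (by
        intro x y
        apply Subtype.ext
        obtain ⟨i, hi⟩ := Subgroup.mem_zpowers_iff.1 (hAK a a.2 (y : G) y.2.1)
        have hc : (x : G) * ⁅(a : G), (y : G)⁆ * (x : G)⁻¹ = ⁅(a : G), (y : G)⁆ := by
          rw [← hi, ((hKz _ x.2.1).zpow_right i).eq, mul_inv_cancel_right]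
        change ⁅(a : G), (x : G) * (y : G)⁆ = ⁅(a : G), (x : G)⁆ * ⁅(a : G), (y : G)⁆
        conv_rhs => rw [← hc]
        simp only [commutatorElement_def]; group) with hf
    have hrange : Nat.card f.range ≤ p := by
      refine le_trans (Subgroup.card_le_card_group _) ?_
      rw [Nat.card_zpowers]
      exact Nat.le_of_dvd hp.pos (orderOf_dvd_of_pow_eq_one hz)
    have hker : Nat.card f.ker ≤ Nat.card (K ⊓ centralizer (A : Set G) : Subgroup G) := by
      refine Nat.card_le_card_of_injective (fun x => ⟨((x : K') : G), (x : K').2.1, ?_⟩) ?_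
      · have hax : ⁅(a : G), ((x : K') : G)⁆ = 1 := congrArg Subtype.val (x.2 : f (x : K') = 1)
        have hsup : M ⊔ Subgroup.zpowers a = ⊤ :=
          hM.2 _ (lt_of_le_of_ne le_sup_left fun h =>
            haM (h ▸ (le_sup_right (a := M) (Subgroup.mem_zpowers a))))
        have hle : M ⊔ Subgroup.zpowers a ≤
            (centralizer ({((x : K') : G)} : Set G)).comap A.subtype := by
          refine sup_le (fun b hb => ?_) ((Subgroup.zpowers_le).2 ?_)
          · rw [mem_comap, mem_centralizer_singleton_iff]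
            exact ((x : K').2.2 _ ⟨b, hb, rfl⟩)
          · rw [mem_comap, mem_centralizer_singleton_iff]
            exact commutatorElement_eq_one_iff_mul_comm.1 hax
        intro b hb
        have := hle (hsup.symm ▸ Subgroup.mem_top (⟨b, hb⟩ : A))
        rw [mem_comap, mem_centralizer_singleton_iff] at this
        exact this
      · intro x y h
        exact Subtype.ext (Subtype.ext (congrArg (fun t : (K ⊓ centralizer (A : Set G) :
          Subgroup G) => (t : G)) h))
    calc Nat.card K * Nat.card C ≤ Nat.card K' * Nat.card A' := hih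
      _ = Nat.card f.range * Nat.card f.ker * Nat.card A' := by
        rw [← Subgroup.index_ker, mul_comm f.ker.index, Subgroup.card_mul_index]
      _ ≤ p * Nat.card (K ⊓ centralizer (A : Set G) : Subgroup G) * Nat.card A' := by gcongr
      _ = _ := by rw [hcard]; ring

theorem isExtraspecial_of [Finite G] {p : ℕ} [Fact p.Prime] (hG : IsPGroup p G) (E : Subgroup G)
    (z : G) (hzE : z ∈ E) (hzo : orderOf z = p) (hzc : ∀ g, Commute g z)
    (hcomm : ∀ a ∈ E, ∀ b ∈ E, ⁅a, b⁆ ∈ Subgroup.zpowers z)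
    (hpow : ∀ a ∈ E, a ^ p ∈ Subgroup.zpowers z)
    (hcen : ∀ a ∈ E, (∀ b ∈ E, a * b = b * a) → a ∈ Subgroup.zpowers z)
    (hna : ∃ a ∈ E, ∃ b ∈ E, a * b ≠ b * a) : Cfsg.IsExtraspecial p E := by
  have hp : p.Prime := Fact.out
  have hE := hG.to_subgroup E
  set zE : E := ⟨z, hzE⟩ with hzEd
  have hzo' : orderOf zE = p := by rw [← Subgroup.orderOf_coe]; exact hzo
  have hmem : ∀ x : E, (x : G) ∈ Subgroup.zpowers z → x ∈ Subgroup.zpowers zE := by
    rintro x ⟨i, hi⟩
    exact ⟨i, Subtype.ext (by simpa using hi)⟩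
  have hZ : center E = Subgroup.zpowers zE := by
    refine le_antisymm (fun x hx => hmem x (hcen x x.2 fun b hb => ?_)) (zpowers_le.2 ?_)
    · exact (congrArg Subtype.val (Subgroup.mem_center_iff.1 hx ⟨b, hb⟩)).symm
    · exact Subgroup.mem_center_iff.2 fun g => Subtype.ext (hzc g).eq
  have hcard : Nat.card (center E) = p := by rw [hZ, Nat.card_zpowers, hzo']
  have hcle : commutator E ≤ center E := by
    rw [hZ, commutator_eq_closure, closure_le]
    rintro x ⟨a, b, rfl⟩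
    exact hmem _ (hcomm _ a.2 _ b.2)
  have hcom : commutator E = center E := by
    have : Fact (Nat.card (center E)).Prime := ⟨by rw [hcard]; exact hp⟩
    rcases ((commutator E).subgroupOf (center E)).eq_bot_or_eq_top_of_prime_card with h | h
    · exfalso
      obtain ⟨a, ha, b, hb, hab⟩ := hna
      have h1 : ⁅(⟨a, ha⟩ : E), ⟨b, hb⟩⁆ ∈ commutator E :=
        commutator_mem_commutator (mem_top _) (mem_top _)
      have h2 : (⟨_, hcle h1⟩ : center E) ∈ (commutator E).subgroupOf (center E) := h1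
      rw [h, Subgroup.mem_bot] at h2
      exact hab (congrArg Subtype.val
        (commutatorElement_eq_one_iff_mul_comm.1 (congrArg Subtype.val h2)))
    · exact le_antisymm hcle (Subgroup.subgroupOf_eq_top.1 h)
  refine ⟨⟨hE, le_antisymm ?_ ?_, hcom⟩, hcard⟩
  · refine Lib.PGroups.frattini_le_of_pow_commutator (p := p) _ (fun x => ?_) hcle
    rw [hZ]; exact hmem _ (by simpa using hpow _ x.2)
  · rw [← hcom]; exact Lib.PGroups.commutator_le_frattini hE


/-- Let G be a finite p-group of symplectic type: every characteristic abelian subgroup of G is cyclic. Then G = E ∗ R is a central product of subgroups E and R (they commute elementwise and generate G) where E is extraspecial or trivial, and R is cyclic, or p = 2 and R is dihedral, semidihedral or generalized quaternion of order at least 16. -/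
theorem result {G : Type*} [Group G] [Finite G] {p : ℕ} [Fact p.Prime] (hG : IsPGroup p G) (hsymp : ∀ A : Subgroup G, A.Characteristic → IsMulCommutative A → IsCyclic A) : ∃ E R : Subgroup G, (∀ e ∈ E, ∀ r ∈ R, e * r = r * e) ∧ E ⊔ R = ⊤ ∧ (E = ⊥ ∨ Cfsg.IsExtraspecial p ↥E) ∧ (IsCyclic R ∨ (p = 2 ∧ 16 ≤ Nat.card R ∧ ((∃ m : ℕ, Nonempty (↥R ≃* DihedralGroup m)) ∨ (∃ m : ℕ, Nonempty (↥R ≃* QuaternionGroup m)) ∨ Cfsg.IsQuasiDihedral ↥R))) := by
  classical
  have hp : p.Prime := Fact.out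
  by_cases hab : ∀ x y : G, x * y = y * x
  · have : IsCyclic (⊤ : Subgroup G) := hsymp ⊤ inferInstance ⟨⟨fun x y => Subtype.ext (hab x y)⟩⟩
    exact ⟨⊥, ⊤, fun e he r _ => by simp [Subgroup.mem_bot.1 he], bot_sup_eq _, Or.inl rfl,
      Or.inl this⟩
  push Not at hab
  obtain ⟨x₀, y₀, hxy₀⟩ := hab
  have : Nontrivial G := ⟨⟨x₀ * y₀, y₀ * x₀, hxy₀⟩⟩
  obtain ⟨C, ⟨hCchar, hCcomm⟩, hCmax⟩ :=
    (Set.toFinite {A : Subgroup G | A.Characteristic ∧ IsMulCommutative A}).exists_maximal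
      ⟨center G, inferInstance, inferInstance⟩
  set H := centralizer (C : Set G) with hH
  have hCH : C ≤ H := le_centralizer_iff_isMulCommutative.2 hCcomm
  have hCc : ∀ c ∈ C, ∀ h ∈ H, Commute h c := fun c hc h hh => (hh c hc).symm
  -- centres of characteristic subgroups of `H` containing `C`
  have hZS : ∀ S : Subgroup G, S.Characteristic → C ≤ S → S ≤ H → ∀ x ∈ S,
      (∀ s ∈ S, x * s = s * x) → x ∈ C := by
    intro S hS hCS hSH x hxS hx
    have hZ : C ≤ S ⊓ centralizer (S : Set G) := fun c hc =>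
      ⟨hCS hc, fun s hs => (hCc c hc s (hSH hs)).eq⟩
    refine hCmax ⟨inferInstance, ⟨⟨fun a b => Subtype.ext (a.2.2 b b.2.1).symm⟩⟩⟩ hZ ⟨hxS, fun s hs => (hx s hs).symm⟩
  have hHchar : H.Characteristic := inferInstance
  have hZH : ∀ x ∈ H, (∀ h ∈ H, x * h = h * x) → x ∈ C := hZS H hHchar hCH le_rfl
  have hcenC : center G ≤ C := fun x hx =>
    hZH x (fun c _ => Subgroup.mem_center_iff.1 hx c) fun h _ => (Subgroup.mem_center_iff.1 hx h).symm
  have hCne : C ≠ ⊥ := by
    intro h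
    have := hG.center_nontrivial
    obtain ⟨a, ha⟩ := exists_ne (1 : center G)
    exact ha (Subtype.ext (Subgroup.mem_bot.1 (h ▸ hcenC a.2)))
  obtain ⟨u, hu⟩ := (Subgroup.isCyclic_iff_exists_zpowers_eq_top C).1 (hsymp C hCchar hCcomm)
  have huC : u ∈ C := hu ▸ Subgroup.mem_zpowers u
  obtain ⟨n, hn⟩ := IsPGroup.iff_card.mp (hG.to_subgroup C)
  have hord : orderOf u = p ^ n := by rw [← Nat.card_zpowers, hu, hn]
  have hn1 : 1 ≤ n := by
    rcases Nat.eq_zero_or_pos n with h | h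
    · exact absurd (Subgroup.card_eq_one.1 (by rw [hn, h, pow_zero])) hCne
    · exact h
  set z := u ^ p ^ (n - 1) with hzd
  have hzC : z ∈ C := pow_mem huC _
  have hzp : z ^ p = 1 := by
    rw [hzd, ← pow_mul, ← pow_succ, show n - 1 + 1 = n by omega, ← hord, pow_orderOf_eq_one]
  have hzo : orderOf z = p := by
    refine orderOf_eq_prime hzp fun h => ?_
    have h1 := orderOf_dvd_of_pow_eq_one h
    rw [hord, Nat.pow_dvd_pow_iff_le_right hp.one_lt] at h1
    omega
  have hz : ∀ c ∈ C, c ^ p = 1 → c ∈ Subgroup.zpowers z := by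
    intro c hc hcp
    obtain ⟨j, rfl⟩ := Subgroup.mem_zpowers_iff.1 (hu ▸ hc)
    rw [← zpow_natCast, ← zpow_mul, ← orderOf_dvd_iff_zpow_eq_one, hord, Nat.cast_pow,
      show ((p:ℤ) ^ n) = (p:ℤ) ^ (n - 1) * p by rw [← pow_succ]; congr 1; omega,
      mul_dvd_mul_iff_right (by exact_mod_cast hp.ne_zero)] at hcp
    obtain ⟨r, rfl⟩ := hcp
    refine ⟨r, ?_⟩
    change z ^ r = _
    rw [hzd, ← zpow_natCast, ← zpow_mul, Nat.cast_pow]
  have hzle : Subgroup.zpowers z ≤ C := zpowers_le.2 hzC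
  have hzchar : (Subgroup.zpowers z).Characteristic := by
    refine char_of fun φ x hx => hz _ (map_mem φ (hzle hx)) ?_
    obtain ⟨i, rfl⟩ := Subgroup.mem_zpowers_iff.1 hx
    rw [← map_pow, ← zpow_natCast, zpow_comm, zpow_natCast, hzp, one_zpow, map_one]
  have hzc : ∀ g, Commute g z := fun g => Subgroup.mem_center_iff.1
    (Lib.PGroups.le_center_of_normal_card_prime hG _ (by rw [Nat.card_zpowers, hzo])
      (Subgroup.mem_zpowers z)) g
  have hzpow : ∀ a ∈ Subgroup.zpowers z, a ^ p = 1 := by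
    intro a ha
    obtain ⟨i, rfl⟩ := Subgroup.mem_zpowers_iff.1 ha
    rw [← zpow_natCast, zpow_comm, zpow_natCast, hzp, one_zpow]
  have hcm : ∀ {x h}, x ∈ H → h ∈ H → ∀ {c}, c = ⁅x, h⁆ → c ∈ C →
      (Commute x ⁅x, h⁆ ∧ Commute h ⁅x, h⁆) := fun hx hh c e hc =>
    ⟨hCc _ (e ▸ hc) _ hx, hCc _ (e ▸ hc) _ hh⟩
  -- the subgroup `D`
  let D : Subgroup G :=
    { carrier := {x | x ∈ H ∧ x ^ p ∈ C ∧ ∀ h ∈ H, ⁅x, h⁆ ∈ C}
      one_mem' := ⟨H.one_mem, by simp, fun h _ => by simp⟩
      mul_mem' := by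
        rintro x y ⟨hx, hxp, hxc⟩ ⟨hy, hyp, hyc⟩
        refine ⟨H.mul_mem hx hy, ?_, fun h hh => ?_⟩
        · rw [Lib.PGroups.mul_pow_of_central_commutator x y (hCc _ (hyc x hx) _ hx)
            (hCc _ (hyc x hx) _ hy)]
          exact C.mul_mem (C.mul_mem hxp hyp) (pow_mem (hyc x hx) _)
        · rw [show ⁅x * y, h⁆ = x * ⁅y, h⁆ * x⁻¹ * ⁅x, h⁆ by
            simp only [commutatorElement_def]; group]
          exact C.mul_mem (by
            rw [(hCc _ (hyc h hh) _ hx).eq, mul_inv_cancel_right]; exact hyc h hh) (hxc h hh)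
      inv_mem' := fun {x} ⟨hx, hxp, hxc⟩ => ⟨H.inv_mem hx, by rw [inv_pow]; exact C.inv_mem hxp,
        fun h hh => by
          rw [show ⁅x⁻¹, h⁆ = x⁻¹ * ⁅x, h⁆⁻¹ * x by simp only [commutatorElement_def]; group,
            mul_assoc, ← (hCc _ (C.inv_mem (hxc h hh)) _ hx).eq, inv_mul_cancel_left]
          exact C.inv_mem (hxc h hh)⟩ }
  have hDH : D ≤ H := fun x hx => hx.1
  have hCD : C ≤ D := fun c hc => ⟨hCH hc, pow_mem hc p, fun h hh => by
    rw [commutatorElement_eq_one_iff_mul_comm.2 (hCc c hc h hh).symm.eq]; exact C.one_mem⟩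
  have hDchar : D.Characteristic := by
    refine char_of fun φ x hx => ⟨map_mem φ hx.1, by rw [← map_pow]; exact map_mem φ hx.2.1,
      fun h hh => ?_⟩
    obtain ⟨h', rfl⟩ := φ.surjective h
    rw [← map_commutatorElement]
    refine map_mem φ (hx.2.2 h' ?_)
    simpa using map_mem φ.symm hh
  have hDz : ∀ a ∈ D, ∀ k ∈ H, ⁅a, k⁆ ∈ Subgroup.zpowers z := by
    intro a ha k hk
    refine hz _ (ha.2.2 k hk) ?_
    rw [← Lib.PGroups.commutatorElement_pow_left_of_central a k (hCc _ (ha.2.2 k hk) _ ha.1),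
      commutatorElement_eq_one_iff_mul_comm]
    exact (hCc _ ha.2.1 k hk).symm.eq
  have hHD : H = D := by
    set K := H ⊓ centralizer (D : Set G) with hK
    have hKC : K ≤ C := by
      have hDK : D ⊔ K = H := by
        refine Subgroup.eq_of_le_of_card_ge (sup_le hDH inf_le_left) ?_
        have h1 := pairing hG hzp (fun k _ => hzc k) (le_refl H) D hCD hDz
        have h2 := card_sup_mul D K
        have h3 : Nat.card (D ⊓ K : Subgroup G) ≤ Nat.card C :=
          Subgroup.card_le_of_le fun x hx =>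
            hZS D hDchar hCD hDH x hx.1 fun s hs => (hx.2.2 s hs).symm
        refine Nat.le_of_mul_le_mul_right ?_ (Nat.card_pos (α := C))
        calc Nat.card H * Nat.card C ≤ Nat.card K * Nat.card D := h1
          _ = Nat.card (D ⊔ K : Subgroup G) * Nat.card (D ⊓ K : Subgroup G) := by rw [h2, mul_comm]
          _ ≤ _ := by gcongr
      rcases le_or_exists_central_mod hG C K with h | ⟨x, hxK, hxC, hxp, hxg⟩
      · exact h
      · exact absurd (hZS D hDchar hCD hDH x ⟨hxK.1, hxp, fun h _ => hxg h⟩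
          fun s hs => (hxK.2 s hs).symm) hxC
    refine le_antisymm ?_ hDH
    refine le_of_eq (Subgroup.eq_of_le_of_card_ge hDH ?_).symm
    refine Nat.le_of_mul_le_mul_right ?_ (Nat.card_pos (α := C))
    calc Nat.card H * Nat.card C ≤ Nat.card K * Nat.card D :=
          pairing hG hzp (fun k _ => hzc k) (le_refl H) D hCD hDz
      _ ≤ Nat.card C * Nat.card D := by gcongr; exact Subgroup.card_le_of_le hKC
      _ = _ := mul_comm _ _
  have hHp : ∀ x ∈ H, x ^ p ∈ C := fun x hx => (show x ∈ D from hHD ▸ hx).2.1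
  have hHc : ∀ x ∈ H, ∀ y ∈ H, ⁅x, y⁆ ∈ Subgroup.zpowers z :=
    fun x hx y hy => hDz x (hHD ▸ hx) y hy
  have hmulpow : ∀ x ∈ H, ∀ y ∈ H, ∃ w ∈ Subgroup.zpowers z, (x * y) ^ p = x ^ p * y ^ p * w := by
    intro x hx y hy
    exact ⟨_, pow_mem (hHc y hy x hx) _, Lib.PGroups.mul_pow_of_central_commutator x y
      (hCc _ (hzle (hHc y hy x hx)) _ hx) (hCc _ (hzle (hHc y hy x hx)) _ hy) p⟩
  -- every element of `H` can be corrected by an element of `C`
  have hfix : ∀ x ∈ H, ∃ c ∈ C, x ^ p * (c ^ p)⁻¹ ∈ Subgroup.zpowers z := by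
    by_cases hn2 : n = 1
    · intro x hx
      refine ⟨1, C.one_mem, hz _ (by simpa using hHp x hx) ?_⟩
      obtain ⟨j, hj⟩ := Subgroup.mem_zpowers_iff.1 (hu ▸ hHp x hx)
      rw [one_pow, inv_one, mul_one, ← hj, ← zpow_natCast, zpow_comm, zpow_natCast,
        show u ^ p = 1 by rw [← pow_one p, ← hn2, ← hord, pow_orderOf_eq_one], one_zpow]
    have hzr : ∀ w ∈ Subgroup.zpowers z, ∃ c ∈ C, w = c ^ p := by
      intro w hw
      obtain ⟨i, rfl⟩ := Subgroup.mem_zpowers_iff.1 hw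
      refine ⟨(u ^ p ^ (n - 2)) ^ i, zpow_mem (pow_mem huC _) _, ?_⟩
      rw [← zpow_natCast _ p, zpow_comm, zpow_natCast, hzd, ← pow_mul, ← pow_succ,
        show n - 2 + 1 = n - 1 by omega]
    let H₁ : Subgroup G :=
      { carrier := {x | x ∈ H ∧ ∃ c ∈ C, x ^ p = c ^ p}
        one_mem' := ⟨H.one_mem, 1, C.one_mem, rfl⟩
        mul_mem' := by
          rintro x y ⟨hx, c, hc, hxc⟩ ⟨hy, d, hd, hyd⟩
          obtain ⟨w, hw, e⟩ := hmulpow x hx y hy
          obtain ⟨b, hb, rfl⟩ := hzr w hw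
          refine ⟨H.mul_mem hx hy, c * d * b, C.mul_mem (C.mul_mem hc hd) hb, ?_⟩
          rw [e, hxc, hyd, (hCc b hb (c * d) (hCH (C.mul_mem hc hd))).mul_pow,
            (hCc d hd c (hCH hc)).mul_pow]
        inv_mem' := fun {x} ⟨hx, c, hc, hxc⟩ =>
          ⟨H.inv_mem hx, c⁻¹, C.inv_mem hc, by rw [inv_pow, inv_pow, hxc]⟩ }
    have hH₁H : H₁ ≤ H := fun x hx => hx.1
    have hCH₁ : C ≤ H₁ := fun c hc => ⟨hCH hc, c, hc, rfl⟩
    have hH₁char : H₁.Characteristic := by
      refine char_of fun φ x hx => ?_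
      obtain ⟨hx, c, hc, hxc⟩ := hx
      exact ⟨map_mem φ hx, φ c, map_mem φ hc, by rw [← map_pow, hxc, map_pow]⟩
    suffices hall : H ≤ H₁ by
      intro x hx
      obtain ⟨c, hc, hxc⟩ := (hall hx).2
      exact ⟨c, hc, by rw [hxc, mul_inv_cancel]; exact Subgroup.one_mem _⟩
    by_contra hne
    have h1 := pairing hG hzp (fun k _ => hzc k) (le_refl H) H₁ hCH₁
      (fun a ha k hk => hHc a ha.1 k hk)
    obtain ⟨y, ⟨hyH, hy⟩, hyC⟩ : ∃ y, y ∈ H ⊓ centralizer (H₁ : Set G) ∧ y ∉ C := by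
      by_contra hcon
      push Not at hcon
      refine hne (le_of_eq (Subgroup.eq_of_le_of_card_ge hH₁H ?_).symm)
      refine Nat.le_of_mul_le_mul_right (h1.trans ?_) (Nat.card_pos (α := C))
      rw [mul_comm _ (Nat.card C)]
      gcongr
      exact Subgroup.card_le_of_le hcon
    by_cases hyH₁ : y ∈ H₁
    · exact hyC (hZS H₁ hH₁char hCH₁ hH₁H y hyH₁ fun s hs => (hy s hs).symm)
    refine hyC (hZH y hyH fun h hh => ?_)
    obtain ⟨j, hj⟩ := Subgroup.mem_zpowers_iff.1 (hu ▸ hHp y hyH)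
    obtain ⟨l, hl⟩ := Subgroup.mem_zpowers_iff.1 (hu ▸ hHp h hh)
    have hjp : ¬ (p:ℤ) ∣ j := by
      rintro ⟨m, rfl⟩
      refine hyH₁ ⟨hyH, u ^ m, zpow_mem huC m, ?_⟩
      rw [← hj, ← zpow_natCast, ← zpow_mul, mul_comm]
    obtain ⟨s, t, hst⟩ := ((Nat.prime_iff_prime_int.1 hp).coprime_iff_not_dvd.2 hjp).symm
    have hin : h * y ^ (-(l * s)) ∈ H₁ := by
      obtain ⟨w, hw, e⟩ := hmulpow h hh (y ^ (-(l * s))) (H.zpow_mem hyH _)
      obtain ⟨b, hb, rfl⟩ := hzr w hw
      refine ⟨H.mul_mem hh (H.zpow_mem hyH _), u ^ (l * t) * b, C.mul_mem (zpow_mem huC _) hb, ?_⟩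
      rw [e, (hCc b hb _ (hCH (zpow_mem huC _))).mul_pow, ← zpow_natCast (y ^ (-(l * s))), zpow_comm,
        zpow_natCast, ← hj, ← hl, ← zpow_mul, ← zpow_add, ← zpow_natCast (u ^ (l * t)), ← zpow_mul]
      congr 2
      linear_combination -l * hst
    have h3 := hy _ hin
    have h4 : Commute (h * y ^ (-(l * s))) y := h3
    have h5 := h4.mul_left (show Commute (y ^ (l * s)) y from (Commute.refl y).zpow_left _)
    rw [mul_assoc, ← zpow_add, neg_add_cancel, zpow_zero, mul_one] at h5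
    exact h5.symm.eq
  -- `W`: elements of `H` central modulo `C`
  let W : Subgroup G :=
    { carrier := {x | x ∈ H ∧ ∀ g : G, ⁅x, g⁆ ∈ C}
      one_mem' := ⟨H.one_mem, fun g => by simp⟩
      mul_mem' := by
        rintro x y ⟨hx, hxc⟩ ⟨hy, hyc⟩
        refine ⟨H.mul_mem hx hy, fun g => ?_⟩
        rw [show ⁅x * y, g⁆ = x * ⁅y, g⁆ * x⁻¹ * ⁅x, g⁆ by simp only [commutatorElement_def]; group]
        exact C.mul_mem ((inferInstance : C.Normal).conj_mem _ (hyc g) x) (hxc g)
      inv_mem' := fun {x} ⟨hx, hxc⟩ => ⟨H.inv_mem hx, fun g => by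
        rw [show ⁅x⁻¹, g⁆ = x⁻¹ * ⁅x, g⁆⁻¹ * x⁻¹⁻¹ by simp only [commutatorElement_def]; group]
        exact (inferInstance : C.Normal).conj_mem _ (C.inv_mem (hxc g)) _⟩ }
  have hWH : W ≤ H := fun x hx => hx.1
  have hCW : C ≤ W := fun c hc => ⟨hCH hc, fun g => by
    rw [show ⁅c, g⁆ = c * (g * c⁻¹ * g⁻¹) by simp only [commutatorElement_def]; group]
    exact C.mul_mem hc ((inferInstance : C.Normal).conj_mem _ (C.inv_mem hc) g)⟩
  have hWchar : W.Characteristic := by
    refine char_of fun φ x hx => ⟨map_mem φ hx.1, fun g => ?_⟩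
    obtain ⟨g', rfl⟩ := φ.surjective g
    rw [← map_commutatorElement]; exact map_mem φ (hx.2 g')
  have hHg : ∀ x ∈ H, ∀ g : G, ⁅x, g⁆ ∈ C := by
    suffices hall : H ≤ W from fun x hx => (hall hx).2
    rcases le_or_exists_central_mod hG C (H ⊓ centralizer (W : Set G)) with h | ⟨x, hx, hxC, -, hxg⟩
    · have h1 := pairing hG hzp (fun k _ => hzc k) (le_refl H) W hCW
        (fun a ha k hk => hHc a ha.1 k hk)
      refine le_of_eq (Subgroup.eq_of_le_of_card_ge hWH ?_).symm
      refine Nat.le_of_mul_le_mul_right (h1.trans ?_) (Nat.card_pos (α := C))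
      rw [mul_comm _ (Nat.card C)]
      gcongr
      exact Subgroup.card_le_of_le h
    · exact absurd (hZS W hWchar hCW hWH x ⟨hx.1, hxg⟩ fun s hs => (hx.2 s hs).symm) hxC
  -- `H'`
  let H' : Subgroup G :=
    { carrier := {x | x ∈ H ∧ x ^ p ∈ Subgroup.zpowers z}
      one_mem' := ⟨H.one_mem, by simp⟩
      mul_mem' := by
        rintro x y ⟨hx, hxc⟩ ⟨hy, hyc⟩
        obtain ⟨w, hw, e⟩ := hmulpow x hx y hy
        exact ⟨H.mul_mem hx hy, e ▸ mul_mem (mul_mem hxc hyc) hw⟩
      inv_mem' := fun {x} ⟨hx, hxc⟩ => ⟨H.inv_mem hx, by rw [inv_pow]; exact inv_mem hxc⟩ }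
  have hH'char : H'.Characteristic :=
    char_of fun φ x hx => ⟨map_mem φ hx.1, by rw [← map_pow]; exact map_mem φ hx.2⟩
  have hH'g : ∀ x ∈ H', ∀ g : G, ⁅g, x⁆ ∈ Subgroup.zpowers z := by
    intro x hx g
    have hc : ⁅g, x⁆ ∈ C := by rw [← commutatorElement_inv]; exact C.inv_mem (hHg x hx.1 g)
    refine hz _ hc ?_
    obtain ⟨i, hi⟩ := Subgroup.mem_zpowers_iff.1 hx.2
    have e1 : g * x ^ p * g⁻¹ = x ^ p := by
      rw [← hi, ((hzc g).zpow_right i).eq, mul_inv_cancel_right]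
    have e2 : g * x * g⁻¹ = ⁅g, x⁆ * x := by simp only [commutatorElement_def]; group
    rw [← conj_pow, e2, (hCc _ hc x hx.1).symm.mul_pow] at e1
    exact mul_eq_right.1 e1
  have hzH' : z ∈ H' := ⟨hCH hzC, by rw [hzp]; exact Subgroup.one_mem _⟩
  obtain ⟨E, ⟨hEH', hzE, hEC⟩, hEmax⟩ :=
    (Set.toFinite {E : Subgroup G | E ≤ H' ∧ z ∈ E ∧ ∀ c ∈ E, c ∈ C → c ∈ Subgroup.zpowers z}).exists_maximal
      ⟨Subgroup.zpowers z, zpowers_le.2 hzH', Subgroup.mem_zpowers z, fun c hc _ => hc⟩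
  have hzle' : Subgroup.zpowers z ≤ E := zpowers_le.2 hzE
  have hEn : E.Normal := ⟨fun e he g => by
    rw [show g * e * g⁻¹ = ⁅g, e⁆ * e by simp only [commutatorElement_def]; group]
    exact E.mul_mem (hzle' (hH'g e (hEH' he) g)) he⟩
  have hEH : E ≤ H := fun e he => (hEH' he).1
  have hsurj : ∀ h ∈ H, ∃ e ∈ E, ∃ c ∈ C, h = e * c := by
    have hEC' : ∀ h ∈ H', ∃ e ∈ E, ∃ c ∈ C, h = e * c := by
      intro h hh
      by_contra hcon
      push Not at hcon
      have hE' : E ⊔ Subgroup.zpowers h ≤ E := by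
        refine hEmax ⟨sup_le hEH' (zpowers_le.2 hh), le_sup_left (b := Subgroup.zpowers h) hzE, ?_⟩
          le_sup_left
        intro c hc hcC
        obtain ⟨e, he, w, hw, rfl⟩ := Subgroup.mem_sup_of_normal_left.1 hc
        obtain ⟨i, rfl⟩ := Subgroup.mem_zpowers_iff.1 hw
        refine hEC _ (E.mul_mem he ?_) hcC
        by_cases hi : (p:ℤ) ∣ i
        · obtain ⟨m, rfl⟩ := hi
          rw [zpow_mul, zpow_natCast]
          exact E.zpow_mem (hzle' hh.2) m
        · exfalso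
          obtain ⟨s, t, hst⟩ := ((Nat.prime_iff_prime_int.1 hp).coprime_iff_not_dvd.2 hi).symm
          -- `h ^ i ∈ E * C`
          have h1 : h ^ i ∈ E ⊔ C := by
            have : e⁻¹ * (e * h ^ i) ∈ E ⊔ C :=
              mul_mem (le_sup_left (b := C) (E.inv_mem he)) (le_sup_right (a := E) hcC)
            simpa using this
          have h2 : h ∈ E ⊔ C := by
            have h3 : h = (h ^ i) ^ s * (h ^ p) ^ t := by
              rw [← zpow_mul, ← zpow_natCast, ← zpow_mul, ← zpow_add,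
                show i * s + (p:ℤ) * t = 1 by linear_combination hst, zpow_one]
            rw [h3]
            exact mul_mem (Subgroup.zpow_mem _ h1 _)
              (Subgroup.zpow_mem _ (le_sup_left (b := C) (hzle' hh.2)) _)
          obtain ⟨e', he', c', hc', e2⟩ := Subgroup.mem_sup_of_normal_left.1 h2
          exact hcon e' he' c' hc' e2.symm
      exact hcon h (hE' (le_sup_right (a := E) (Subgroup.mem_zpowers h))) 1 C.one_mem (mul_one h).symm
    intro h hh
    obtain ⟨c, hc, hxc⟩ := hfix h hh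
    have h' : h * c⁻¹ ∈ H' := by
      refine ⟨H.mul_mem hh (hCH (C.inv_mem hc)), ?_⟩
      rw [(hCc _ (C.inv_mem hc) h hh).mul_pow, inv_pow]
      exact hxc
    obtain ⟨e, he, d, hd, e2⟩ := hEC' _ h'
    exact ⟨e, he, d * c, C.mul_mem hd hc, by rw [← mul_assoc, ← e2, inv_mul_cancel_right]⟩
  set R := centralizer (E : Set G) with hR
  have hER : ∀ x ∈ E, x ∈ R → x ∈ Subgroup.zpowers z := by
    intro x hx hxR
    refine hEC x hx (hZH x (hEH hx) fun h hh => ?_)
    obtain ⟨e, he, c, hc, rfl⟩ := hsurj h hh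
    exact (show Commute x (e * c) from
      Commute.mul_right (hxR e he).symm (hCc c hc x (hEH hx))).eq
  have hRH : ∀ x ∈ R, x ∈ H → x ∈ C := by
    intro x hxR hxH
    refine hZH x hxH fun h hh => ?_
    obtain ⟨e, he, c, hc, rfl⟩ := hsurj h hh
    exact (show Commute x (e * c) from
      Commute.mul_right (hxR e he).symm (hCc c hc x hxH)).eq
  have hCR : C ≤ R := fun c hc e he => (hCc c hc e (hEH he)).eq
  have hzR : z ∈ R := hCR hzC
  have hsupER : E ⊔ R = ⊤ := by
    refine Subgroup.eq_top_of_le_card _ ?_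
    have h1 := pairing hG (K := ⊤) hzp (fun k _ => hzc k)
      (C := Subgroup.zpowers z) (fun k _ c hc => by
        obtain ⟨i, rfl⟩ := Subgroup.mem_zpowers_iff.1 hc
        exact ((hzc k).zpow_right i).eq.symm)
      E hzle' (fun a ha k _ => by
        rw [← commutatorElement_inv]; exact inv_mem (hH'g a (hEH' ha) k))
    rw [top_inf_eq, Subgroup.card_top] at h1
    have h2 := card_sup_mul R E
    rw [sup_comm] at h2
    have h3 : Nat.card (R ⊓ E : Subgroup G) ≤ Nat.card (Subgroup.zpowers z) :=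
      Subgroup.card_le_of_le fun x hx => hER x hx.2 hx.1
    refine Nat.le_of_mul_le_mul_right ?_ (Nat.card_pos (α := Subgroup.zpowers z))
    calc Nat.card G * Nat.card (Subgroup.zpowers z) ≤ Nat.card R * Nat.card E := h1
      _ = _ := h2.symm
      _ ≤ _ := by gcongr
  have hcomm : ∀ e ∈ E, ∀ r ∈ R, e * r = r * e := fun e he r hr => hr e he
  have hdec : ∀ g : G, ∃ e ∈ E, ∃ r ∈ R, g = e * r := fun g => by
    obtain ⟨e, he, r, hr, h⟩ := Subgroup.mem_sup_of_normal_left.1 (hsupER.symm ▸ Subgroup.mem_top g)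
    exact ⟨e, he, r, hr, h.symm⟩
  -- finishing with a given shape of `R`
  have finish : (IsCyclic R ∨ (p = 2 ∧ 16 ≤ Nat.card R ∧ ((∃ m : ℕ, Nonempty (↥R ≃* DihedralGroup m)) ∨
      (∃ m : ℕ, Nonempty (↥R ≃* QuaternionGroup m)) ∨ Cfsg.IsQuasiDihedral ↥R))) →
      ∃ E R : Subgroup G, (∀ e ∈ E, ∀ r ∈ R, e * r = r * e) ∧ E ⊔ R = ⊤ ∧
        (E = ⊥ ∨ Cfsg.IsExtraspecial p ↥E) ∧ (IsCyclic R ∨ (p = 2 ∧ 16 ≤ Nat.card R ∧
          ((∃ m : ℕ, Nonempty (↥R ≃* DihedralGroup m)) ∨
          (∃ m : ℕ, Nonempty (↥R ≃* QuaternionGroup m)) ∨ Cfsg.IsQuasiDihedral ↥R))) := by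
    intro hshape
    by_cases hEab : ∀ a ∈ E, ∀ b ∈ E, a * b = b * a
    · refine ⟨⊥, R, fun e he r _ => by simp [Subgroup.mem_bot.1 he], ?_, Or.inl rfl, hshape⟩
      rw [bot_sup_eq, eq_top_iff, ← hsupER]
      refine sup_le (fun e he => ?_) le_rfl
      intro a ha
      exact hEab a ha e he
    · push Not at hEab
      refine ⟨E, R, hcomm, hsupER, Or.inr ?_, hshape⟩
      exact isExtraspecial_of hG E z hzE hzo hzc (fun a ha b hb => hHc a (hEH ha) b (hEH hb))
        (fun a ha => (hEH' ha).2)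
        (fun a ha hc => hER a ha fun b hb => (hc b hb).symm) hEab
  by_cases hHtop : ∀ g : G, g ∈ H
  · refine finish (Or.inl ?_)
    rw [show R = C from le_antisymm (fun x hx => hRH x hx (hHtop x)) hCR]
    exact hsymp C hCchar hCcomm
  push Not at hHtop
  obtain ⟨g₁, hg₁⟩ := hHtop
  obtain ⟨e₁, he₁, r₁, hr₁, rfl⟩ := hdec g₁
  have hr₁H : r₁ ∉ H := fun h => hg₁ (H.mul_mem (hEH he₁) h)
  have hn2 : 2 ≤ n := by
    by_contra hc
    apply hr₁H
    intro c hc'
    obtain ⟨i, rfl⟩ := Subgroup.mem_zpowers_iff.1 (hu ▸ hc')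
    have : u = z := by rw [hzd, show n - 1 = 0 by omega, pow_zero, pow_one]
    rw [this]
    exact ((hzc r₁).zpow_right i).eq.symm
  -- commutators centralise `C`
  have hGG : ∀ x y : G, ⁅x, y⁆ ∈ H := by
    intro x y c hc
    have hconj : ∀ g, ∃ i : ℤ, g * u * g⁻¹ = u ^ i := fun g => by
      obtain ⟨i, hi⟩ := Subgroup.mem_zpowers_iff.1
        (hu ▸ (inferInstance : C.Normal).conj_mem u huC g)
      exact ⟨i, hi.symm⟩
    obtain ⟨a, ha⟩ := hconj x
    obtain ⟨b, hb⟩ := hconj y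
    have e : (x * y) * u * (x * y)⁻¹ = (y * x) * u * (y * x)⁻¹ := by
      rw [show (x * y) * u * (x * y)⁻¹ = x * (y * u * y⁻¹) * x⁻¹ by group,
        show (y * x) * u * (y * x)⁻¹ = y * (x * u * x⁻¹) * y⁻¹ by group, ha, hb, ← conj_zpow,
        ← conj_zpow, ha, hb, ← zpow_mul, ← zpow_mul, mul_comm]
    have e2 : Commute ⁅x, y⁆ ((y * x) * u * (y * x)⁻¹) := by
      show _ = _
      nth_rewrite 2 [← e]
      simp only [commutatorElement_def]; group
    obtain ⟨i, hi⟩ := Subgroup.mem_zpowers_iff.1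
      (hu ▸ (show (y * x)⁻¹ * c * (y * x)⁻¹⁻¹ ∈ C from (inferInstance : C.Normal).conj_mem c hc _))
    have e3 : c = ((y * x) * u * (y * x)⁻¹) ^ i := by rw [conj_zpow, hi]; group
    rw [e3]
    exact (e2.zpow_right i).eq.symm
  rcases hn2.eq_or_lt with hn' | hn3
  · -- `G` is extraspecial
    refine ⟨⊤, ⊥, fun e _ r hr => by simp [Subgroup.mem_bot.1 hr], top_sup_eq _, Or.inr ?_,
      Or.inl inferInstance⟩
    have hCp : ∀ c ∈ C, c ^ p ∈ Subgroup.zpowers z := fun c hc => hz _ (pow_mem hc p) (by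
      have h1 : c ^ Nat.card C = 1 := congrArg Subtype.val (pow_card_eq_one' (x := (⟨c, hc⟩ : C)))
      rwa [hn, ← hn', pow_two, pow_mul] at h1)
    have hgc : ∀ (g : G), ∀ c ∈ C, ⁅g, c⁆ ∈ Subgroup.zpowers z := fun g c hc =>
      hH'g c ⟨hCH hc, hCp c hc⟩ g
    have hCfix : ∀ r, r ∉ H → ∀ c ∈ C, Commute r c → c ∈ Subgroup.zpowers z := by
      intro r hr c hc hrc
      obtain ⟨i, rfl⟩ := Subgroup.mem_zpowers_iff.1 (hu ▸ hc)
      by_cases hi : (p:ℤ) ∣ i
      · obtain ⟨m, rfl⟩ := hi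
        rw [zpow_mul, zpow_natCast]
        exact zpow_mem (hCp u huC) m
      · exfalso
        obtain ⟨s, t, hst⟩ := ((Nat.prime_iff_prime_int.1 hp).coprime_iff_not_dvd.2 hi).symm
        apply hr
        intro c' hc'
        have hu' : Commute r u := by
          have h1 : u = (u ^ i) ^ s * (u ^ p) ^ t := by
            rw [← zpow_mul, ← zpow_natCast, ← zpow_mul, ← zpow_add,
              show i * s + (p:ℤ) * t = 1 by linear_combination hst, zpow_one]
          rw [h1]
          refine (hrc.zpow_right s).mul_right (Commute.zpow_right ?_ t)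
          obtain ⟨m, hm⟩ := Subgroup.mem_zpowers_iff.1 (hCp u huC)
          rw [← hm]
          exact (hzc r).zpow_right m
        obtain ⟨k, rfl⟩ := Subgroup.mem_zpowers_iff.1 (hu ▸ hc')
        exact (hu'.zpow_right k).eq.symm
    have hRp : ∀ r ∈ R, r ^ p ∈ Subgroup.zpowers z := by
      intro r hr
      by_cases hrH : r ∈ H
      · exact hCp r (hRH r hr hrH)
      refine hCfix r hrH _ (hRH _ (pow_mem hr p) ?_) ((Commute.refl r).pow_right p)
      intro c hc
      refine (commutatorElement_eq_one_iff_mul_comm.1 ?_).symm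
      obtain ⟨i, hi⟩ := Subgroup.mem_zpowers_iff.1 (hgc r c hc)
      rw [Lib.PGroups.commutatorElement_pow_left_of_central r c (hi ▸ (hzc r).zpow_right i)]
      exact hzpow _ (hgc r c hc)
    have hRc : ∀ r ∈ R, ∀ r' ∈ R, ⁅r, r'⁆ ∈ Subgroup.zpowers z := by
      intro r hr r' hr'
      by_cases hrH : r ∈ H
      · rw [← commutatorElement_inv]; exact inv_mem (hgc r' r (hRH r hr hrH))
      obtain ⟨k, hk⟩ := Subgroup.mem_zpowers_iff.1 (hgc r u huC)
      obtain ⟨l, hl⟩ := Subgroup.mem_zpowers_iff.1 (hgc r' u huC)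
      have hkp : ¬ (p:ℤ) ∣ k := by
        rintro ⟨m, rfl⟩
        apply hrH
        intro c hc
        obtain ⟨i, rfl⟩ := Subgroup.mem_zpowers_iff.1 (hu ▸ hc)
        have : Commute r u := by
          show r * u = u * r
          rw [← commutatorElement_eq_one_iff_mul_comm, ← hk, zpow_mul, zpow_natCast, hzp, one_zpow]
        exact (this.zpow_right i).eq.symm
      obtain ⟨s, t, hst⟩ := ((Nat.prime_iff_prime_int.1 hp).coprime_iff_not_dvd.2 hkp).symm
      have hconj : ∀ j : ℤ, r ^ j * u * (r ^ j)⁻¹ = z ^ (k * j) * u := by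
        have h1 : r * u * r⁻¹ = z ^ k * u := by
          rw [hk]; simp only [commutatorElement_def]; group
        intro j
        induction j with
        | zero => simp
        | succ j ih =>
          rw [zpow_add_one, show r ^ (j:ℤ) * r * u * (r ^ (j:ℤ) * r)⁻¹ =
            r ^ (j:ℤ) * (r * u * r⁻¹) * (r ^ (j:ℤ))⁻¹ by group, h1,
            show r ^ (j:ℤ) * (z ^ k * u) * (r ^ (j:ℤ))⁻¹ =
              (r ^ (j:ℤ) * z ^ k * (r ^ (j:ℤ))⁻¹) * (r ^ (j:ℤ) * u * (r ^ (j:ℤ))⁻¹) by group,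
            ((hzc (r ^ (j:ℤ))).zpow_right k).eq, mul_inv_cancel_right, ih, ← mul_assoc, ← zpow_add]
          congr 2; ring
        | pred j ih =>
          have h2 : r⁻¹ * u * r = z ^ (-k) * u := by
            have : u = r⁻¹ * (z ^ k * u) * r := by rw [← h1]; group
            rw [show r⁻¹ * (z ^ k * u) * r = z ^ k * (r⁻¹ * u * r) by
              rw [← mul_assoc r⁻¹, ← mul_assoc, ← mul_assoc, ((hzc r⁻¹).zpow_right k).eq]] at this
            conv_rhs => rw [this, ← mul_assoc, ← zpow_add, neg_add_cancel, zpow_zero, one_mul]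
          rw [zpow_sub_one, show r ^ (-(j:ℤ)) * r⁻¹ * u * (r ^ (-(j:ℤ)) * r⁻¹)⁻¹ =
            r ^ (-(j:ℤ)) * (r⁻¹ * u * r) * (r ^ (-(j:ℤ)))⁻¹ by group, h2,
            show r ^ (-(j:ℤ)) * (z ^ (-k) * u) * (r ^ (-(j:ℤ)))⁻¹ =
              (r ^ (-(j:ℤ)) * z ^ (-k) * (r ^ (-(j:ℤ)))⁻¹) *
                (r ^ (-(j:ℤ)) * u * (r ^ (-(j:ℤ)))⁻¹) by group,
            ((hzc (r ^ (-(j:ℤ)))).zpow_right (-k)).eq, mul_inv_cancel_right, ih, ← mul_assoc,
            ← zpow_add]
          congr 2; ring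
      have hdC : r' * (r ^ (l * s))⁻¹ ∈ C := by
        refine hRH _ (R.mul_mem hr' (R.inv_mem (R.zpow_mem hr _))) ?_
        intro c hc
        obtain ⟨i, rfl⟩ := Subgroup.mem_zpowers_iff.1 (hu ▸ hc)
        have h1 : r' * u * r'⁻¹ = z ^ l * u := by
          rw [hl]; simp only [commutatorElement_def]; group
        have h3 : z ^ (k * -(l * s)) = z ^ (-l) := by
          rw [show k * -(l * s) = -l + (p:ℤ) * (l * t) by linear_combination -l * hst, zpow_add,
            zpow_mul z (p:ℤ), zpow_natCast, hzp, one_zpow, mul_one]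
        have : Commute (r' * (r ^ (l * s))⁻¹) u := by
          show _ * _ = _ * _
          rw [← mul_inv_eq_iff_eq_mul, ← zpow_neg,
            show r' * r ^ (-(l * s)) * u * (r' * r ^ (-(l * s)))⁻¹ =
              r' * (r ^ (-(l * s)) * u * (r ^ (-(l * s)))⁻¹) * r'⁻¹ by group, hconj, h3,
            show r' * (z ^ (-l) * u) * r'⁻¹ = (r' * z ^ (-l) * r'⁻¹) * (r' * u * r'⁻¹) by group,
            ((hzc r').zpow_right (-l)).eq, mul_inv_cancel_right, h1, ← mul_assoc, ← zpow_add,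
            neg_add_cancel, zpow_zero, one_mul]
        exact (this.zpow_right i).eq.symm
      have h4 := hgc r _ hdC
      have h5 : ⁅r, r'⁆ = ⁅r, r' * (r ^ (l * s))⁻¹⁆ := by
        have hc : Commute r (r ^ (l * s))⁻¹ := ((Commute.refl r).zpow_right _).inv_right
        rw [show ⁅r, r' * (r ^ (l * s))⁻¹⁆ = ⁅r, r'⁆ * (r' * ⁅r, (r ^ (l * s))⁻¹⁆ * r'⁻¹) by
          simp only [commutatorElement_def]; group, commutatorElement_eq_one_iff_mul_comm.2 hc.eq]
        simp
      rw [h5]; exact h4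
    refine isExtraspecial_of hG ⊤ z trivial hzo hzc (fun a _ b _ => ?_) (fun a _ => ?_)
      (fun a _ hc => ?_) ⟨x₀, trivial, y₀, trivial, hxy₀⟩
    · obtain ⟨e, he, r, hr, rfl⟩ := hdec a
      obtain ⟨e', he', r', hr', rfl⟩ := hdec b
      have c1 : Commute e r' := hcomm e he r' hr'
      have c2 : Commute r e' := (hcomm e' he' r hr).symm
      have : ⁅e * r, e' * r'⁆ = e * ⁅r, e'⁆ * e⁻¹ * ⁅e, e'⁆ * (e' * e * ⁅r, r'⁆ * e⁻¹ * e'⁻¹) *
          (e' * ⁅e, r'⁆ * e'⁻¹) := by
        simp only [commutatorElement_def]; group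
      rw [this, commutatorElement_eq_one_iff_mul_comm.2 c2.eq,
        commutatorElement_eq_one_iff_mul_comm.2 c1.eq]
      obtain ⟨i, hi⟩ := Subgroup.mem_zpowers_iff.1 (hRc r hr r' hr')
      rw [show e' * e * ⁅r, r'⁆ * e⁻¹ * e'⁻¹ = (e' * e) * ⁅r, r'⁆ * (e' * e)⁻¹ by group, ← hi,
        ((hzc (e' * e)).zpow_right i).eq, mul_inv_cancel_right]
      simp only [mul_one, mul_inv_cancel, one_mul]
      exact mul_mem (hHc e (hEH he) e' (hEH he')) (Subgroup.zpow_mem _ (Subgroup.mem_zpowers z) i)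
    · obtain ⟨e, he, r, hr, rfl⟩ := hdec a
      rw [(show Commute e r from hcomm e he r hr).mul_pow]
      exact mul_mem (hEH' he).2 (hRp r hr)
    · exact hCfix r₁ hr₁H a (hcenC (Subgroup.mem_center_iff.2 fun b => (hc b trivial).symm))
        (hc r₁ trivial).symm
  · -- `R` has maximal class
    refine finish (Or.inr ?_)
    have hRna : ¬ IsMulCommutative R := fun h => hr₁H fun c hc => by
      exact (congrArg Subtype.val (h.is_comm.comm (⟨c, hCR hc⟩ : R) ⟨r₁, hr₁⟩) :)
    have hC'cyc : IsCyclic (C.subgroupOf R) :=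
      (Subgroup.subgroupOfEquivOfLe hCR).isCyclic.2 (hsymp C hCchar hCcomm)
    have hC'card : Nat.card (C.subgroupOf R) = p ^ n := by
      rw [Nat.card_congr (Subgroup.subgroupOfEquivOfLe hCR).toEquiv, hn]
    have hC'self : centralizer ((C.subgroupOf R : Subgroup R) : Set R) = C.subgroupOf R := by
      refine le_antisymm (fun x hx => hRH _ x.2 fun c hc => ?_)
        (fun x hx c hc => Subtype.ext (hCc _ hx _ (hCH hc)).eq)
      exact congrArg Subtype.val (hx (⟨c, hCR hc⟩ : R) hc)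
    rcases S3761.result (hG.to_subgroup R) hRna (C.subgroupOf R) hC'cyc n hC'card hC'self with
      ⟨hp2, hcard, hshape⟩ | ⟨-, hea, hcardO, hchar⟩
    · refine ⟨hp2, ?_, hshape⟩
      rw [hcard]
      calc 16 = 2 ^ 4 := by norm_num
        _ ≤ 2 ^ (n + 1) := Nat.pow_le_pow_right two_pos (by omega)
    exfalso
    set M := centralizer (Cfsg.powerClosure p 1 (C.subgroupOf R) : Set R) with hM
    set O := Cfsg.omegaOne p M with hO
    have hOM : O ≤ M := (Subgroup.closure_le _).2 fun x hx => hx.1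
    have hMC : ∀ r ∈ M, ∀ c ∈ C, Commute (r : G) (c ^ p) := by
      intro r hr c hc
      have h1 : (⟨c, hCR hc⟩ : R) ^ p ∈ Cfsg.powerClosure p 1 (C.subgroupOf R) :=
        Subgroup.subset_closure ⟨⟨c, hCR hc⟩, hc, by rw [pow_one]⟩
      exact (congrArg Subtype.val (hr _ h1)).symm
    have hOn : O.Normal := inferInstance
    set A := O.map R.subtype with hA
    set X := centralizer (H' : Set G) with hX
    have hAiff : ∀ x : G, x ∈ A ↔ x ∈ X ∧ x ^ p = 1 ∧ ∀ g : G, ⁅x, g⁆ ∈ Subgroup.zpowers z := by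
      intro x
      constructor
      · rintro ⟨r, hr, rfl⟩
        refine ⟨fun h hh => ?_, congrArg Subtype.val (hea.2 r hr), fun g => ?_⟩
        · obtain ⟨e, he, c, hc, rfl⟩ := hsurj h hh.1
          have hcp : c ^ p ∈ Subgroup.zpowers z := by
            have := hh.2
            rw [(hCc c hc e (hEH he)).mul_pow] at this
            exact ((Subgroup.zpowers z).mul_mem_cancel_left (hEH' he).2).1 this
          obtain ⟨j, rfl⟩ := Subgroup.mem_zpowers_iff.1 (hu ▸ hc)
          obtain ⟨m, rfl⟩ : (p:ℤ) ∣ j := by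
            have h2 := hzpow _ hcp
            rw [← zpow_natCast, ← zpow_natCast (u ^ j), ← zpow_mul, ← zpow_mul,
              ← orderOf_dvd_iff_zpow_eq_one, hord, Nat.cast_pow,
              show ((p:ℤ) ^ n) = (p:ℤ) ^ (n - 2) * ((p:ℤ) * p) by rw [← mul_assoc, ← pow_succ, ← pow_succ]; congr 1; omega,
              mul_dvd_mul_iff_right (by simp [hp.ne_zero])] at h2
            exact (dvd_pow_self _ (by omega)).trans h2
          have : Commute (r : G) (u ^ ((p:ℤ) * m)) := by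
            rw [mul_comm, zpow_mul, zpow_natCast]
            exact hMC r (hOM hr) _ (zpow_mem huC m)
          exact (Commute.mul_left (show Commute e (r : G) from hcomm e he r r.2) this.symm).eq
        · obtain ⟨e, he, r', hr', rfl⟩ := hdec g
          have c1 : Commute (r : G) e := (hcomm e he r r.2).symm
          have h1 : ⁅(r : G), e * r'⁆ = e * ⁅(r : G), r'⁆ * e⁻¹ := by
            rw [show ⁅(r : G), e * r'⁆ = ⁅(r : G), e⁆ * (e * ⁅(r : G), r'⁆ * e⁻¹) by
              simp only [commutatorElement_def]; group, commutatorElement_eq_one_iff_mul_comm.2 c1.eq,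
              one_mul]
          change ⁅(r : G), e * r'⁆ ∈ _
          have h2 : ⁅r, (⟨r', hr'⟩ : R)⁆ ∈ O := by
            rw [show ⁅r, (⟨r', hr'⟩ : R)⁆ = r * ((⟨r', hr'⟩ : R) * r⁻¹ * (⟨r', hr'⟩ : R)⁻¹) by
              simp only [commutatorElement_def]; group]
            exact O.mul_mem hr (hOn.conj_mem _ (O.inv_mem hr) _)
          have h3 : ⁅(r : G), r'⁆ ∈ Subgroup.zpowers z :=
            hz _ (hRH _ (⁅r, (⟨r', hr'⟩ : R)⁆).2 (hGG _ _)) (congrArg Subtype.val (hea.2 _ h2))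
          obtain ⟨i, hi⟩ := Subgroup.mem_zpowers_iff.1 h3
          rw [h1, ← hi, ((hzc e).zpow_right i).eq, mul_inv_cancel_right]
          exact Subgroup.zpow_mem _ (Subgroup.mem_zpowers z) i
      · rintro ⟨hxX, hxp, hxg⟩
        have hxR : x ∈ R := fun e he => hxX e (hEH' he)
        refine ⟨⟨x, hxR⟩, Subgroup.subset_closure ⟨?_, Subtype.ext hxp⟩, rfl⟩
        have hle : Cfsg.powerClosure p 1 (C.subgroupOf R) ≤
            (centralizer ({x} : Set G)).comap R.subtype := by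
          refine (Subgroup.closure_le _).2 ?_
          rintro y ⟨c, hc, rfl⟩
          rw [SetLike.mem_coe, mem_comap, mem_centralizer_singleton_iff]
          obtain ⟨i, hi⟩ := Subgroup.mem_zpowers_iff.1 (hxg (c : G))
          have hh : Commute (c : G) ⁅(c : G), x⁆ := by
            rw [← commutatorElement_inv, ← hi]; exact ((hzc (c : G)).zpow_right i).inv_right
          have h1 : ⁅(c : G) ^ p, x⁆ = 1 := by
            rw [Lib.PGroups.commutatorElement_pow_left_of_central _ x hh]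
            refine hzpow _ ?_
            rw [← commutatorElement_inv]; exact inv_mem (hxg (c : G))
          simpa using commutatorElement_eq_one_iff_mul_comm.1 h1
        intro y hy
        refine Subtype.ext ?_
        have := hle hy
        rw [mem_comap, mem_centralizer_singleton_iff] at this
        exact this
    have hAchar : A.Characteristic := by
      refine char_of fun φ x hx => ?_
      obtain ⟨h1, h2, h3⟩ := (hAiff x).1 hx
      refine (hAiff _).2 ⟨map_mem φ h1, by rw [← map_pow, h2, map_one], fun g => ?_⟩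
      obtain ⟨g', rfl⟩ := φ.surjective g
      rw [← map_commutatorElement]; exact map_mem φ (h3 g')
    have hAea : Cfsg.IsElementaryAbelian p A := Lib.PGroups.elemAb_map R.subtype hea
    have hAc : Nat.card A = p ^ 2 := by
      rw [hA, ← Nat.card_congr (O.equivMapOfInjective _ R.subtype_injective).toEquiv, hcardO]
    obtain ⟨a, ha⟩ := (Subgroup.isCyclic_iff_exists_zpowers_eq_top A).1 (hsymp A hAchar hAea.1)
    have h1 : orderOf a = p ^ 2 := by rw [← Nat.card_zpowers, ha, hAc]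
    have h2 := orderOf_dvd_of_pow_eq_one (hAea.2 a (ha ▸ Subgroup.mem_zpowers a))
    rw [h1] at h2
    have h3 := Nat.le_of_dvd hp.pos h2
    nlinarith [hp.one_lt]

end Cfsg.Agent.S3762
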