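import Cfsg.Statements.S3767
import Cfsg.Agent.Lib.Extraspecial.Basic

set_option autoImplicit false
open Cfsg

namespace Cfsg.Agent.S3767


set_option maxHeartbeats 800000

open Cfsg Subgroup
open Cfsg.Agent.Lib
open scoped commutatorElement

section Arith

/-- `p ^ n ≡ ±1` once `p ^ (2n) ≡ 1` and `p ^ j ≡ -1` -/
theorem dvd_cases {h p n j : ℕ} (hn : h ∣ p ^ (2 * n) - 1) (hp : 0 < p) (hj : h ∣ p ^ j + 1) :
    h ∣ p ^ n + 1 ∨ h ∣ p ^ n - 1 := by
  have hh : 0 < h := Nat.pos_of_dvd_of_pos hj (Nat.succ_pos _)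
  have : NeZero h := ⟨hh.ne'⟩
  have h1 : (p : ZMod h) ^ (2 * n) = 1 := by
    have h0 := (ZMod.natCast_eq_zero_iff _ _).mpr hn
    rw [Nat.cast_sub (Nat.one_le_pow _ _ hp), Nat.cast_pow, Nat.cast_one] at h0
    exact sub_eq_zero.mp h0
  have h2 : (p : ZMod h) ^ j = -1 := by
    have h0 := (ZMod.natCast_eq_zero_iff _ _).mpr hj
    rw [Nat.cast_add, Nat.cast_pow, Nat.cast_one] at h0
    exact eq_neg_of_add_eq_zero_left h0
  suffices (p : ZMod h) ^ n = 1 ∨ (p : ZMod h) ^ n = -1 by
    rcases this with h3 | h3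
    · right
      refine (ZMod.natCast_eq_zero_iff _ _).mp ?_
      rw [Nat.cast_sub (Nat.one_le_pow _ _ hp), Nat.cast_pow, Nat.cast_one, h3, sub_self]
    · left
      refine (ZMod.natCast_eq_zero_iff _ _).mp ?_
      rw [Nat.cast_add, Nat.cast_pow, Nat.cast_one, h3, neg_add_cancel]
  set u : ZMod h := (p : ZMod h)
  by_cases hon : orderOf u ∣ n
  · exact Or.inl (orderOf_dvd_iff_pow_eq_one.mp hon)
  · right
    have ho2 : orderOf u ∣ 2 * n := orderOf_dvd_of_pow_eq_one h1
    have hoj : orderOf u ∣ 2 * j := orderOf_dvd_of_pow_eq_one (by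
      rw [mul_comm, pow_mul, h2]; ring)
    by_cases hoj1 : orderOf u ∣ j
    · rw [orderOf_dvd_iff_pow_eq_one.mp hoj1] at h2
      -- `h ≤ 2`
      have hd : (p : ZMod h) ^ n * ((p : ZMod h) ^ n) = 1 := by rw [← pow_add, ← two_mul, h1]
      have h22 : ((2 : ℕ) : ZMod h) = 0 := by
        push_cast
        linear_combination h2
      have := Nat.le_of_dvd two_pos ((ZMod.natCast_eq_zero_iff _ _).mp h22)
      interval_cases h
      · exact Subsingleton.elim _ _
      · revert hd
        generalize (p : ZMod 2) ^ n = w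
        revert w
        decide
    · obtain ⟨m, hm⟩ : 2 ∣ orderOf u := by
        by_contra h2d
        exact hon ((Nat.Coprime.dvd_mul_left
          ((Nat.Prime.coprime_iff_not_dvd Nat.prime_two).mpr h2d).symm).mp ho2)
      have hmn : m ∣ n := Nat.dvd_of_mul_dvd_mul_left two_pos (hm ▸ ho2)
      have hmj : m ∣ j := Nat.dvd_of_mul_dvd_mul_left two_pos (hm ▸ hoj)
      obtain ⟨a, rfl⟩ := hmn
      obtain ⟨b, rfl⟩ := hmj
      have hodd : ∀ c, ¬ orderOf u ∣ m * c → u ^ (m * c) = u ^ m := by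
        intro c hc
        obtain ⟨r, rfl⟩ : Odd c := by
          rcases Nat.even_or_odd c with ⟨r, rfl⟩ | ho
          · exact absurd (hm ▸ ⟨r, by ring⟩) hc
          · exact ho
        rw [show m * (2 * r + 1) = orderOf u * r + m by rw [hm]; ring, pow_add, pow_mul,
          pow_orderOf_eq_one, one_pow, one_mul]
      rw [hodd a hon, ← hodd b hoj1, h2]

end Arith

variable {E : Type*} [Group E] [Finite E] {p : ℕ} [hp : Fact p.Prime] {z : E}

theorem card_centralizer_mul_le (D : Extraspecial.ESData p z) {A : Subgroup E}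
    (hA : Subgroup.zpowers z ≤ A) : ∀ {B : Subgroup E}, A ≤ B →
    Nat.card (centralizer (A : Set E)) * Nat.card A ≤
      Nat.card (centralizer (B : Set E)) * Nat.card B := by
  intro B hAB
  obtain ⟨m, hm⟩ : ∃ m, m = Nat.card B - Nat.card A := ⟨_, rfl⟩
  induction m using Nat.strong_induction_on generalizing A with
  | _ m ih =>
    by_cases hBA : B ≤ A
    · rw [le_antisymm hAB hBA]
    obtain ⟨a, haB, haA⟩ := Set.not_subset.mp hBA
    set A' := A ⊔ Subgroup.zpowers a with hA'
    have hlt : A < A' := left_lt_sup.mpr fun h => haA (h (Subgroup.mem_zpowers a))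
    have hA'B : A' ≤ B := sup_le hAB (Subgroup.zpowers_le.mpr haB)
    have hpE : IsPGroup p E := fun g => ⟨2, by
      obtain ⟨k, hk⟩ := D.pow_mem g
      have hk' : z ^ k = g ^ p := hk
      rw [pow_two, pow_mul, ← hk', ← zpow_natCast, ← zpow_mul, mul_comm, zpow_mul, zpow_natCast,
        D.z_pow, one_zpow]⟩
    have hcard : p * Nat.card A ≤ Nat.card A' := by
      obtain ⟨i, hi⟩ := IsPGroup.iff_card.mp (hpE.to_subgroup A)
      obtain ⟨i', hi'⟩ := IsPGroup.iff_card.mp (hpE.to_subgroup A')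
      have : Nat.card A < Nat.card A' := by
        refine lt_of_le_of_ne (Subgroup.card_le_of_le hlt.le) fun he => hlt.ne ?_
        exact Subgroup.eq_of_le_of_card_ge hlt.le he.ge
      rw [hi, hi'] at this ⊢
      rw [← pow_succ']
      exact Nat.pow_le_pow_right hp.out.pos ((Nat.pow_lt_pow_iff_right hp.out.one_lt).mp this)
    have hcent : Nat.card (centralizer (A : Set E)) ≤ p * Nat.card (centralizer (A' : Set E)) := by
      let f : ↥(centralizer (A : Set E)) →* E :=
        { toFun := fun u => ⁅(u : E), a⁆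
          map_one' := commutatorElement_one_left a
          map_mul' := fun u v => Extraspecial.comm_mul_left D u v a }
      have hrange : f.range ≤ Subgroup.zpowers z := by
        rintro _ ⟨u, rfl⟩; exact D.comm_mem _ _
      have hker : f.ker.map (centralizer (A : Set E)).subtype ≤ centralizer (A' : Set E) := by
        rintro _ ⟨u, hu, rfl⟩
        rw [hA', sup_eq_closure, Subgroup.centralizer_closure]
        refine Subgroup.mem_centralizer_iff.mpr ?_
        rintro w (hw | hw)
        · exact Subgroup.mem_centralizer_iff.mp u.2 w hw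
        · obtain ⟨k, rfl⟩ := hw
          exact ((show Commute (u : E) a from
            commutatorElement_eq_one_iff_commute.mp hu).zpow_right k).symm.eq
      rw [Subgroup.card_eq_card_quotient_mul_card_subgroup f.ker,
        Nat.card_congr (QuotientGroup.quotientKerEquivRange f).toEquiv]
      refine Nat.mul_le_mul ((Subgroup.card_le_of_le hrange).trans ?_) ?_
      · rw [Nat.card_zpowers]
        exact Nat.le_of_dvd hp.out.pos (orderOf_dvd_of_pow_eq_one D.z_pow)
      · rw [← Subgroup.card_map_of_injective (centralizer (A : Set E)).subtype_injective]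
        exact Subgroup.card_le_of_le hker
    have hpos : 0 < Nat.card A := Nat.card_pos
    have h2 : 2 ≤ p := hp.out.two_le
    have hB := Subgroup.card_le_of_le hA'B
    have hstep := ih (Nat.card B - Nat.card A') (by
      have : 2 * Nat.card A ≤ p * Nat.card A := Nat.mul_le_mul_right _ h2
      omega) (A := A') (hA.trans hlt.le) hA'B rfl
    calc Nat.card (centralizer (A : Set E)) * Nat.card A
        ≤ p * Nat.card (centralizer (A' : Set E)) * Nat.card A := Nat.mul_le_mul_right _ hcent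
      _ = Nat.card (centralizer (A' : Set E)) * (p * Nat.card A) := by ring
      _ ≤ Nat.card (centralizer (A' : Set E)) * Nat.card A' := Nat.mul_le_mul_left _ hcard
      _ ≤ _ := hstep

/-- an automorphism of order `h` centralising `Z`, semiregular on `E / Z` -/
structure Semi (p : ℕ) (z : E) (β : MulAut E) (h : ℕ) : Prop where
  fix : β z = z
  pow : β ^ h = 1
  pos : 0 < h
  cop : h.Coprime p
  free : ∀ i, 0 < i → i < h → ∀ y : E, y⁻¹ * (β ^ i) y ∈ Subgroup.zpowers z → y ∈ Subgroup.zpowers z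

variable {β : MulAut E} {h : ℕ}

theorem Semi.pow_mem (S : Semi p z β h) {U : Subgroup E} (hU : ∀ u ∈ U, β u ∈ U) (i : ℕ) :
    ∀ u ∈ U, (β ^ i) u ∈ U := by
  induction i with
  | zero => exact fun u hu => hu
  | succ i ih => intro u hu; rw [pow_succ', MulAut.mul_apply]; exact hU _ (ih u hu)

theorem Semi.fix_pow (S : Semi p z β h) (i : ℕ) {u : E} (hu : u ∈ Subgroup.zpowers z) :
    (β ^ i) u = u := by
  obtain ⟨k, rfl⟩ := hu
  show (β ^ i) (z ^ k) = z ^ k
  rw [map_zpow]
  congr 1
  induction i with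
  | zero => rfl
  | succ i ih => rw [pow_succ', MulAut.mul_apply, ih, S.fix]

/-- the orbit count -/
theorem Semi.dvd_sub_one (D : Extraspecial.ESData p z) (S : Semi p z β h) {U : Subgroup E}
    (hU : ∀ u ∈ U, β u ∈ U) (hZU : Subgroup.zpowers z ≤ U) {e : ℕ} (he : Nat.card U = p * p ^ e) :
    h ∣ p ^ e - 1 := by
  have hord : orderOf β ∣ h := orderOf_dvd_of_pow_eq_one S.pow
  by_cases hUZ : U ≤ Subgroup.zpowers z
  · have h1 : Nat.card U ≤ p := by
      refine (Subgroup.card_le_of_le hUZ).trans ?_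
      rw [Nat.card_zpowers]
      exact Nat.le_of_dvd hp.out.pos (orderOf_dvd_of_pow_eq_one D.z_pow)
    rw [he] at h1
    have h3 : p ^ e ≤ 1 := Nat.le_of_mul_le_mul_left (by rwa [mul_one]) hp.out.pos
    rw [Nat.sub_eq_zero_of_le h3]
    exact dvd_zero h
  obtain ⟨y₀, hy₀U, hy₀⟩ := Set.not_subset.mp hUZ
  have hord' : orderOf β = h := by
    refine Nat.le_antisymm (Nat.le_of_dvd S.pos hord) (not_lt.mp fun hlt => hy₀ ?_)
    refine S.free _ (Nat.pos_of_dvd_of_pos hord S.pos |> fun _ => ?_) hlt y₀ ?_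
    · exact Nat.pos_of_ne_zero fun h0 => by
        rw [h0] at hord; exact S.pos.ne' (Nat.eq_zero_of_zero_dvd hord)
    · rw [pow_orderOf_eq_one, MulAut.one_apply, inv_mul_cancel]
      exact one_mem _
  have hz : orderOf z = p := orderOf_eq_prime D.z_pow D.z_ne
  let X := {y : E // y ∈ U ∧ y ∉ Subgroup.zpowers z}
  have hinvZ : ∀ (i : ℕ) (y : E), y ∉ Subgroup.zpowers z → (β ^ i) y ∉ Subgroup.zpowers z := by
    intro i y hy hmem
    exact hy ((β ^ i).injective (S.fix_pow i hmem) ▸ hmem)
  have hzp : ∀ g : Subgroup.zpowers β, ∃ i, i < h ∧ (g : MulAut E) = β ^ i := by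
    rintro ⟨g, hg⟩
    obtain ⟨i, rfl⟩ := (isOfFinOrder_iff_pow_eq_one.mpr ⟨h, S.pos, S.pow⟩).mem_powers_iff_mem_zpowers.mpr hg
    exact ⟨i % h, Nat.mod_lt _ S.pos, pow_eq_pow_mod i S.pow⟩
  have hmemX : ∀ (g : Subgroup.zpowers β) (y : E), y ∈ U ∧ y ∉ Subgroup.zpowers z →
      (g : MulAut E) y ∈ U ∧ (g : MulAut E) y ∉ Subgroup.zpowers z := by
    intro g y hy
    obtain ⟨i, -, hi⟩ := hzp g
    rw [hi]
    exact ⟨S.pow_mem hU i y hy.1, hinvZ i y hy.2⟩
  let _ : MulAction (Subgroup.zpowers β) X :=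
    { smul := fun g y => ⟨(g : MulAut E) y, hmemX g y y.2⟩
      one_smul := fun y => Subtype.ext rfl
      mul_smul := fun g g' y => Subtype.ext rfl }
  have hfree : ∀ y : X, MulAction.stabilizer (Subgroup.zpowers β) y = ⊥ := by
    intro y
    rw [eq_bot_iff]
    intro g hg
    obtain ⟨i, hih, hi⟩ := hzp g
    have hgy : (β ^ i) (y : E) = y := hi ▸ congrArg Subtype.val hg
    rcases Nat.eq_zero_or_pos i with rfl | hi0
    · exact Subgroup.mem_bot.mpr (Subtype.ext (by simpa using hi))
    · exact absurd (S.free i hi0 hih y (by rw [hgy, inv_mul_cancel]; exact one_mem _)) y.2.2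
  have hX : h ∣ Nat.card X := by
    rw [Nat.card_congr (MulAction.selfEquivOrbitsQuotientProd hfree), Nat.card_prod, Nat.card_zpowers,
      hord']
    exact dvd_mul_left _ _
  have hXc : Nat.card X + p = p * p ^ e := by
    rw [← he, ← hz, ← Nat.card_zpowers]
    have e1 : Nat.card X = ((U : Set E) \ (Subgroup.zpowers z : Set E)).ncard :=
      (Nat.card_coe_set_eq _)
    have e2 := Set.ncard_diff_add_ncard_of_subset hZU
    rw [← e1, ← Nat.card_coe_set_eq (U : Set E), ← Nat.card_coe_set_eq (Subgroup.zpowers z : Set E)] at e2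
    exact e2
  have h3 : h ∣ p * (p ^ e - 1) := by
    rw [Nat.mul_sub, mul_one, ← hXc, Nat.add_sub_cancel]
    exact hX
  exact S.cop.dvd_of_dvd_mul_left h3

/-- the self-dual irreducible step: `h ∣ p ^ j + 1` -/
theorem Semi.exists_dvd_add_one (D : Extraspecial.ESData p z) (S : Semi p z β h) {A B : Subgroup E}
    (hA : ∀ u ∈ A, β u ∈ A) (hB : ∀ u ∈ B, β u ∈ B) (hZA : Subgroup.zpowers z ≤ A) (hAB : A < B)
    (hBA : B ≤ centralizer (A : Set E))
    (hmin : ∀ C : Subgroup E, A ≤ C → C ≤ B → (∀ u ∈ C, β u ∈ C) → C = A ∨ C = B)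
    (hnab : ¬ B ≤ centralizer (B : Set E)) : ∃ j, h ∣ p ^ j + 1 := by
  classical
  -- radical of the commutator form on `B`
  have hrad : B ⊓ centralizer (B : Set E) = A := by
    have hinv : ∀ u ∈ B ⊓ centralizer (B : Set E), β u ∈ B ⊓ centralizer (B : Set E) := by
      intro u hu
      refine Subgroup.mem_inf.mpr ⟨hB u hu.1, Subgroup.mem_centralizer_iff.mpr fun w hw => ?_⟩
      obtain ⟨k, rfl⟩ : ∃ k, β k = w := β.surjective w
      have hk : k ∈ B := by
        have := S.pow_mem hB (h - 1) _ hw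
        rwa [← MulAut.mul_apply, ← pow_succ, Nat.sub_add_cancel S.pos, S.pow, MulAut.one_apply] at this
      rw [← map_mul, ← map_mul, Subgroup.mem_centralizer_iff.mp hu.2 k hk]
    rcases hmin (B ⊓ centralizer (B : Set E)) (le_inf hAB.le (Subgroup.le_centralizer_iff.mp hBA))
      inf_le_left hinv with h1 | h1
    · exact h1
    · exact absurd (inf_eq_left.mp h1) hnab
  let N : Subgroup ↥B := A.subgroupOf B
  have hNn : N.Normal := ⟨fun a ha b => Subgroup.mem_subgroupOf.mpr (by
    have : ((b : ↥B) : E) * (a : E) * (b : E)⁻¹ = a := by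
      rw [(Subgroup.mem_centralizer_iff.mp (hBA b.2) _ (Subgroup.mem_subgroupOf.mp ha)).symm,
        mul_inv_cancel_right]
    simp only [Subgroup.coe_mul, Subgroup.coe_inv, this]
    exact Subgroup.mem_subgroupOf.mp ha)⟩
  let Bb := ↥B ⧸ N
  let π : ↥B →* Bb := QuotientGroup.mk' N
  have hπ : ∀ b, π b = 1 ↔ (b : E) ∈ A := fun b =>
    (QuotientGroup.eq_one_iff b).trans Subgroup.mem_subgroupOf
  have hBcomm : ∀ x y : Bb, x * y = y * x := by
    intro x y
    obtain ⟨x, rfl⟩ := QuotientGroup.mk'_surjective N x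
    obtain ⟨y, rfl⟩ := QuotientGroup.mk'_surjective N y
    rw [← commutatorElement_eq_one_iff_mul_comm, ← map_commutatorElement, hπ]
    exact hZA (by simpa [commutatorElement_def] using D.comm_mem (x : E) y)
  let _ : CommGroup Bb := { (inferInstance : Group Bb) with mul_comm := hBcomm }
  -- the form
  have hcz : ∀ x ∈ A, ∀ y ∈ B, ⁅x, y⁆ = 1 := fun x hx y hy =>
    commutatorElement_eq_one_iff_commute.mpr (Subgroup.mem_centralizer_iff.mp (hBA hy) x hx)
  let F : Bb → Bb → E := fun x y => ⁅((x.out : ↥B) : E), ((y.out : ↥B) : E)⁆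
  have hout : ∀ b : ↥B, ∃ a ∈ A, ((π b).out : E) = (b : E) * a := by
    intro b
    obtain ⟨a, ha⟩ := QuotientGroup.mk_out_eq_mul N b
    exact ⟨(a : ↥B), Subgroup.mem_subgroupOf.mp a.2, by
      show (((QuotientGroup.mk b : Bb)).out : E) = _
      rw [ha]; rfl⟩
  have hF : ∀ a b : ↥B, F (π a) (π b) = ⁅(a : E), (b : E)⁆ := by
    intro a b
    obtain ⟨c, hc, ec⟩ := hout a
    obtain ⟨d, hd, ed⟩ := hout b
    show ⁅((π a).out : E), ((π b).out : E)⁆ = _
    rw [ec, ed, Extraspecial.comm_mul_left D, hcz c hc _ (B.mul_mem b.2 (hAB.le hd)), mul_one]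
    rw [← commutatorElement_inv, Extraspecial.comm_mul_left D, hcz d hd _ a.2, mul_one,
      commutatorElement_inv]
  have hFl : ∀ x x' y, F (x * x') y = F x y * F x' y := by
    intro x x' y
    obtain ⟨x, rfl⟩ := QuotientGroup.mk'_surjective N x
    obtain ⟨x', rfl⟩ := QuotientGroup.mk'_surjective N x'
    obtain ⟨y, rfl⟩ := QuotientGroup.mk'_surjective N y
    rw [← map_mul, hF, hF, hF, Subgroup.coe_mul, Extraspecial.comm_mul_left D]
  have hFsymm : ∀ x y, F x y = (F y x)⁻¹ := fun x y => (commutatorElement_inv _ _).symm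
  have hFr : ∀ x y y', F x (y * y') = F x y * F x y' := by
    intro x y y'
    rw [hFsymm, hFl, mul_inv_rev, ← hFsymm, ← hFsymm]
    obtain ⟨i, hi⟩ := D.comm_mem ((x.out : ↥B) : E) (y.out : ↥B)
    obtain ⟨j, hj⟩ := D.comm_mem ((x.out : ↥B) : E) (y'.out : ↥B)
    have hi' : z ^ i = F x y := hi
    have hj' : z ^ j = F x y' := hj
    rw [← hi', ← hj']
    exact ((Commute.refl z).zpow_zpow j i).eq
  have hFnd : ∀ x : Bb, (∀ y, F x y = 1) → x = 1 := by
    intro x hx
    obtain ⟨x, rfl⟩ := QuotientGroup.mk'_surjective N x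
    rw [hπ, ← hrad]
    refine Subgroup.mem_inf.mpr ⟨x.2, Subgroup.mem_centralizer_iff.mpr fun w hw => ?_⟩
    have := hx (π ⟨w, hw⟩)
    rw [hF] at this
    exact (commutatorElement_eq_one_iff_commute.mp this).symm.eq
  -- the operator
  let bB : ↥B →* ↥B :=
    { toFun := fun b => ⟨β b, hB b b.2⟩
      map_one' := Subtype.ext (map_one β)
      map_mul' := fun a b => Subtype.ext (map_mul β (a : E) b) }
  let sq : Bb →* Bb := QuotientGroup.map N N bB fun a ha =>
    Subgroup.mem_subgroupOf.mpr (hA _ (Subgroup.mem_subgroupOf.mp ha))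
  have hsq : ∀ b, sq (π b) = π (bB b) := fun b => rfl
  obtain ⟨s, hs⟩ : ∃ s : AddMonoid.End (Additive Bb),
      ∀ b, s (Additive.ofMul (π b)) = Additive.ofMul (π (bB b)) :=
    ⟨MonoidHom.toAdditive sq, fun b => rfl⟩
  have hspow : ∀ (i : ℕ) (b : ↥B), (s ^ i) (Additive.ofMul (π b)) =
      Additive.ofMul (π ⟨(β ^ i) b, S.pow_mem hB i b b.2⟩) := by
    intro i
    induction i with
    | zero => intro b; rfl
    | succ i ih =>
      intro b
      rw [pow_succ']
      show s ((s ^ i) _) = _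
      rw [ih, hs]
      exact congrArg (fun b => Additive.ofMul (π b))
        (Subtype.ext (show β ((β ^ i) (b : E)) = (β ^ (i + 1)) (b : E) by rw [pow_succ']; rfl))
  have hsurj : ∀ x : Additive Bb, ∃ b : ↥B, Additive.ofMul (π b) = x := fun x => by
    obtain ⟨b, hb⟩ := QuotientGroup.mk'_surjective N x.toMul
    exact ⟨b, congrArg Additive.ofMul hb⟩
  have hsh : s ^ h = 1 := AddMonoidHom.ext fun x => by
    obtain ⟨b, rfl⟩ := hsurj x
    exact (hspow h b).trans (congrArg (fun b => Additive.ofMul (π b))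
      (Subtype.ext (show (β ^ h) (b : E) = (b : E) by rw [S.pow]; rfl)))
  let K : Subring (AddMonoid.End (Additive Bb)) := Subring.closure {s}
  have hsK : s ∈ K := Subring.subset_closure rfl
  let sK : K := ⟨s, hsK⟩
  have hKcomm : ∀ a b : K, a * b = b * a := by
    intro a b
    have h1 : ∀ c ∈ K, Commute s c := by
      intro c hc
      induction hc using Subring.closure_induction with
      | mem x hx =>
        have := Set.mem_singleton_iff.mp hx
        subst this
        exact Commute.refl _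
      | zero => exact Commute.zero_right s
      | one => exact Commute.one_right s
      | add _ _ _ _ u v => exact u.add_right v
      | neg _ _ u => exact u.neg_right
      | mul _ _ _ _ u v => exact u.mul_right v
    have h2 : Commute (a : AddMonoid.End (Additive Bb)) b := by
      obtain ⟨c, hc⟩ := b
      induction hc using Subring.closure_induction with
      | mem x hx =>
        have := Set.mem_singleton_iff.mp hx
        subst this
        exact (h1 _ a.2).symm
      | zero => exact Commute.zero_right _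
      | one => exact Commute.one_right _
      | add _ _ _ _ u v => exact u.add_right v
      | neg _ _ u => exact u.neg_right
      | mul _ _ _ _ u v => exact u.mul_right v
    exact Subtype.ext h2.eq
  let _ : CommRing K := { (inferInstance : Ring K) with mul_comm := hKcomm }
  obtain ⟨y₀, hy₀B, hy₀A⟩ := SetLike.exists_of_lt hAB
  have : Nontrivial K := ⟨⟨1, 0, fun he => by
    have := congrArg (fun f : K => (f : AddMonoid.End (Additive Bb)) (Additive.ofMul (π ⟨y₀, hy₀B⟩))) he
    exact hy₀A ((hπ ⟨y₀, hy₀B⟩).mp this)⟩⟩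
  have hinj : ∀ k : K, k ≠ 0 → ∀ x, (k : AddMonoid.End (Additive Bb)) x = 0 → x = 0 := by
    intro k hk x hx
    by_contra hx0
    let C : Subgroup E :=
      { carrier := {u | ∃ hu : u ∈ B, (k : AddMonoid.End (Additive Bb)) (Additive.ofMul (π ⟨u, hu⟩)) = 0}
        one_mem' := ⟨B.one_mem, by
          rw [show (⟨1, B.one_mem⟩ : ↥B) = 1 from rfl, map_one, ofMul_one, map_zero]⟩
        mul_mem' := by
          rintro a b ⟨ha, ha'⟩ ⟨hb, hb'⟩
          exact ⟨B.mul_mem ha hb, by
            rw [show (⟨a * b, B.mul_mem ha hb⟩ : ↥B) = ⟨a, ha⟩ * ⟨b, hb⟩ from rfl, map_mul, ofMul_mul,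
              map_add, ha', hb', add_zero]⟩
        inv_mem' := by
          rintro a ⟨ha, ha'⟩
          exact ⟨B.inv_mem ha, by
            rw [show (⟨a⁻¹, B.inv_mem ha⟩ : ↥B) = ⟨a, ha⟩⁻¹ from rfl, map_inv, ofMul_inv, map_neg, ha',
              neg_zero]⟩ }
    rcases hmin C (fun u hu => ⟨hAB.le hu, by rw [(hπ ⟨u, hAB.le hu⟩).mpr hu, ofMul_one, map_zero]⟩)
      (fun u hu => hu.1) (fun u hu => ⟨hB u hu.1, by
        have h1 := congrArg s hu.2
        rw [map_zero] at h1
        have h2 : (k : AddMonoid.End (Additive Bb)) * s = s * k :=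
          congrArg Subtype.val (hKcomm k sK)
        have h3 := DFunLike.congr_fun h2 (Additive.ofMul (π ⟨u, hu.1⟩))
        exact (congrArg (k : AddMonoid.End (Additive Bb)) (hs ⟨u, hu.1⟩).symm).trans (h3.trans h1)⟩) with hC | hC
    · obtain ⟨b, rfl⟩ := hsurj x
      refine hx0 ?_
      have hbA : (b : E) ∈ A := hC ▸ ⟨b.2, hx⟩
      rw [(hπ b).mpr hbA, ofMul_one]
    · refine hk (Subtype.ext (AddMonoidHom.ext fun w => ?_))
      obtain ⟨b, rfl⟩ := hsurj w
      exact (show (b : E) ∈ C by rw [hC]; exact b.2).2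
  have : NoZeroDivisors K := ⟨fun {a b} hab => by
    by_contra hne
    push Not at hne
    refine hne.2 (Subtype.ext (AddMonoidHom.ext fun w => ?_))
    exact hinj a hne.1 _ (congrArg (fun f : K => (f : AddMonoid.End (Additive Bb)) w) hab)⟩
  have : IsDomain K := NoZeroDivisors.to_isDomain K
  have hinjE : Function.Injective (fun f : AddMonoid.End (Additive Bb) => (f : Additive Bb → Additive Bb)) :=
    DFunLike.coe_injective
  have : Finite (AddMonoid.End (Additive Bb)) := Finite.of_injective _ hinjE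
  have : Fintype K := Fintype.ofFinite K
  let _ : Field K := Fintype.fieldOfDomain K
  have hcharK : CharP K p := (CharP.charP_iff_prime_eq_zero hp.out).mpr (Subtype.ext <| by
    refine AddMonoidHom.ext fun w => ?_
    obtain ⟨b, rfl⟩ := hsurj w
    show ((p : AddMonoid.End (Additive Bb)) (Additive.ofMul (π b))) = 0
    rw [AddMonoid.End.natCast_apply, ← ofMul_pow, ← map_pow, (hπ _).mpr (hZA (by
      simpa using D.pow_mem (b : E))), ofMul_one])
  -- adjoint
  let Adj : K → K → Prop := fun a b => ∀ x y : Additive Bb,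
    F (((a : AddMonoid.End (Additive Bb)) x).toMul) y.toMul =
      F x.toMul (((b : AddMonoid.End (Additive Bb)) y).toMul)
  have hAdj1 : Adj 1 1 := fun x y => rfl
  have hF1l : ∀ y, F 1 y = 1 := fun y => mul_eq_left.mp (by rw [← hFl, one_mul])
  have hF1r : ∀ y, F y 1 = 1 := fun y => mul_eq_left.mp (by rw [← hFr, one_mul])
  have hAdjs : Adj sK (sK ^ (h - 1)) := by
    intro x y
    obtain ⟨a, rfl⟩ := hsurj x
    obtain ⟨b, rfl⟩ := hsurj y
    show F ((s (Additive.ofMul (π a))).toMul) (π b) =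
      F (π a) ((((sK ^ (h - 1) : K) : AddMonoid.End (Additive Bb)) (Additive.ofMul (π b))).toMul)
    rw [hs, SubmonoidClass.coe_pow, hspow]
    simp only [toMul_ofMul, hF]
    have hfix : β ⁅(a : E), (β ^ (h - 1)) (b : E)⁆ = ⁅(a : E), (β ^ (h - 1)) (b : E)⁆ := by
      have := S.fix_pow 1 (D.comm_mem (a : E) ((β ^ (h - 1)) (b : E)))
      rwa [pow_one] at this
    rw [map_commutatorElement, ← MulAut.mul_apply, ← pow_succ', Nat.sub_add_cancel S.pos, S.pow,
      MulAut.one_apply] at hfix
    exact hfix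
  have hAdjex : ∀ a : K, ∃ b, Adj a b := by
    rintro ⟨a, ha⟩
    induction ha using Subring.closure_induction with
    | mem x hx =>
      have := Set.mem_singleton_iff.mp hx
      subst this
      exact ⟨sK ^ (h - 1), hAdjs⟩
    | zero =>
      refine ⟨0, fun x y => ?_⟩
      show F (1 : Bb) y.toMul = F x.toMul 1
      rw [hF1l, hF1r]
    | one => exact ⟨1, hAdj1⟩
    | add u v hu hv iu iv =>
      obtain ⟨bu, hbu⟩ := iu
      obtain ⟨bv, hbv⟩ := iv
      refine ⟨bu + bv, fun x y => ?_⟩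
      show F ((u x).toMul * (v x).toMul) y.toMul = F x.toMul (((bu : AddMonoid.End (Additive Bb)) y).toMul * ((bv : AddMonoid.End (Additive Bb)) y).toMul)
      rw [hFl, hFr]
      exact congrArg₂ (· * ·) (hbu x y) (hbv x y)
    | neg u hu iu =>
      obtain ⟨bu, hbu⟩ := iu
      refine ⟨-bu, fun x y => ?_⟩
      show F (u x).toMul⁻¹ y.toMul = F x.toMul ((bu : AddMonoid.End (Additive Bb)) y).toMul⁻¹
      have e1 : F (u x).toMul⁻¹ y.toMul * F (u x).toMul y.toMul = 1 := by
        rw [← hFl, inv_mul_cancel, hF1l]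
      have e2 : F x.toMul ((bu : AddMonoid.End (Additive Bb)) y).toMul⁻¹ *
          F x.toMul ((bu : AddMonoid.End (Additive Bb)) y).toMul = 1 := by
        rw [← hFr, inv_mul_cancel, hF1r]
      rw [hbu x y] at e1
      exact mul_right_cancel (e1.trans e2.symm)
    | mul u v hu hv iu iv =>
      obtain ⟨bu, hbu⟩ := iu
      obtain ⟨bv, hbv⟩ := iv
      refine ⟨bv * bu, fun x y => ?_⟩
      show F (u (v x)).toMul y.toMul = F x.toMul ((bv : AddMonoid.End (Additive Bb)) ((bu : AddMonoid.End (Additive Bb)) y)).toMul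
      exact (hbu (v x) y).trans (hbv x _)
  have huniq : ∀ a b b', Adj a b → Adj a b' → b = b' := by
    intro a b b' hb hb'
    refine Subtype.ext (AddMonoidHom.ext fun y => ?_)
    refine Additive.toMul.injective ?_
    rw [← div_eq_one]
    refine hFnd _ fun w => ?_
    rw [hFsymm, inv_eq_one, div_eq_mul_inv, hFr]
    have e := (hb (Additive.ofMul w) y).symm.trans (hb' (Additive.ofMul w) y)
    have e' : F w ((b : AddMonoid.End (Additive Bb)) y).toMul = F w ((b' : AddMonoid.End (Additive Bb)) y).toMul := e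
    have key : ∀ u v : Bb, F w u = F w v → F w u * F w v⁻¹ = 1 := fun u v huv => by
      rw [huv, ← hFr, mul_inv_cancel, hF1r]
    exact key _ _ e' 
  choose σf hσ using hAdjex
  let σ : K →+* K :=
    { toFun := σf
      map_one' := huniq 1 _ _ (hσ 1) hAdj1
      map_mul' := fun a b => huniq _ _ _ (hσ (a * b)) (by
        intro x y
        rw [mul_comm (σf a)]
        exact (hσ a _ y).trans (hσ b x _))
      map_zero' := huniq 0 _ _ (hσ 0) (fun x y => by
        show F (1 : Bb) y.toMul = F x.toMul 1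
        rw [hF1l, hF1r])
      map_add' := fun a b => huniq _ _ _ (hσ (a + b)) (fun x y =>
        (hFl _ _ _).trans ((congrArg₂ (· * ·) (hσ a x y) (hσ b x y)).trans (hFr _ _ _).symm)) }
  have hσs : σ sK = sK ^ (h - 1) := huniq _ _ _ (hσ sK) hAdjs
  let _ : Algebra (ZMod p) K := ZMod.algebra K p
  let σA : K →ₐ[ZMod p] K :=
    { σ with
      commutes' := fun r => RingHom.congr_fun
        (Subsingleton.elim (σ.comp (algebraMap (ZMod p) K)) (algebraMap (ZMod p) K)) r }
  let σE : K ≃ₐ[ZMod p] K := AlgEquiv.ofBijective σA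
    ((Finite.injective_iff_bijective).mp (RingHom.injective σ))
  obtain ⟨j, hj⟩ := (FiniteField.bijective_frobeniusAlgEquivOfAlgebraic_pow (ZMod p) K).2 σE
  have hjs : σ sK = sK ^ (p ^ (j : ℕ)) := by
    have h1 := DFunLike.congr_fun hj sK
    simp only [AlgEquiv.coe_pow, FiniteField.coe_frobeniusAlgEquivOfAlgebraic_iterate, ZMod.card] at h1
    exact h1.symm
  refine ⟨j, ?_⟩
  have h2 : sK ^ (p ^ (j : ℕ) + 1) = 1 := by
    rw [pow_succ, ← hjs, hσs, ← pow_succ, Nat.sub_add_cancel S.pos]
    exact Subtype.ext hsh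
  -- `s` has order exactly `h`
  by_contra hnd
  have hr : 0 < (p ^ (j : ℕ) + 1) % h :=
    Nat.pos_of_ne_zero fun he => hnd (Nat.dvd_of_mod_eq_zero he)
  set i := (p ^ (j : ℕ) + 1) % h with hidef
  have hi : s ^ i = 1 := by
    have := congrArg Subtype.val h2
    rw [SubmonoidClass.coe_pow, pow_eq_pow_mod _ hsh, ← hidef] at this
    exact this
  apply hy₀A
  have h3 := DFunLike.congr_fun hi (Additive.ofMul (π ⟨y₀, hy₀B⟩))
  rw [hspow] at h3
  have h4 : y₀⁻¹ * (β ^ i) y₀ ∈ A := by
    have := (QuotientGroup.eq (s := N)).mp (congrArg Additive.toMul h3).symm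
    exact Subgroup.mem_subgroupOf.mp this
  -- lift: the map `b ↦ b⁻¹ β^i b` is onto `A / Z`
  let M := (Subgroup.zpowers z).subgroupOf A
  let g : (↥A ⧸ M) → (↥A ⧸ M) := fun c => (((⟨(c.out : E)⁻¹ * (β ^ i) (c.out : E),
    A.mul_mem (A.inv_mem c.out.2) (S.pow_mem hA i _ c.out.2)⟩ : ↥A)) : ↥A ⧸ M)
  have hgi : Function.Injective g := by
    intro c d hcd
    rw [← QuotientGroup.out_eq' c, ← QuotientGroup.out_eq' d, QuotientGroup.eq]
    have h5 : ((c.out : E)⁻¹ * (β ^ i) (c.out : E))⁻¹ * ((d.out : E)⁻¹ * (β ^ i) (d.out : E)) ∈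
        Subgroup.zpowers z := Subgroup.mem_subgroupOf.mp (QuotientGroup.eq.mp hcd)
    refine Subgroup.mem_subgroupOf.mpr (S.free i hr (Nat.mod_lt _ S.pos) _ ?_)
    show ((c.out : E)⁻¹ * (d.out : E))⁻¹ * (β ^ i) ((c.out : E)⁻¹ * (d.out : E)) ∈ _
    set C := (c.out : E)
    set Dd := (d.out : E)
    set C' := (β ^ i) C
    set D' := (β ^ i) Dd
    rw [map_mul, map_inv]
    -- modulo the commutators everything commutes
    let q := QuotientGroup.mk' (Subgroup.center E)
    have hq : ∀ a b, q a * q b = q b * q a := fun a b => by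
      rw [← commutatorElement_eq_one_iff_mul_comm, ← map_commutatorElement]
      exact (QuotientGroup.eq_one_iff _).mpr ((D.mem_center _).mpr (D.comm_mem a b))
    rw [← D.mem_center, ← QuotientGroup.eq_one_iff] at h5 ⊢
    change q _ = 1 at h5 ⊢
    simp only [map_mul, map_inv] at h5 ⊢
    rw [← h5]
    let _ : CommGroup (E ⧸ Subgroup.center E) :=
      { (inferInstance : Group (E ⧸ Subgroup.center E)) with
        mul_comm := fun a b => by
          obtain ⟨a, rfl⟩ := QuotientGroup.mk'_surjective _ a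
          obtain ⟨b, rfl⟩ := QuotientGroup.mk'_surjective _ b
          exact hq a b }
    simp only [mul_inv_rev, inv_inv, mul_comm, mul_left_comm, mul_assoc]
    rfl
  obtain ⟨c, hc⟩ := Finite.surjective_of_injective hgi ((⟨_, h4⟩ : ↥A) : ↥A ⧸ M)
  have h6 : ((c.out : E)⁻¹ * (β ^ i) (c.out : E))⁻¹ * (y₀⁻¹ * (β ^ i) y₀) ∈ Subgroup.zpowers z :=
    Subgroup.mem_subgroupOf.mp (QuotientGroup.eq.mp hc)
  have h7 : (c.out : E)⁻¹ * y₀ ∈ Subgroup.zpowers z := by
    refine S.free i hr (Nat.mod_lt _ S.pos) _ ?_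
    rw [map_mul, map_inv]
    let q := QuotientGroup.mk' (Subgroup.center E)
    let _ : CommGroup (E ⧸ Subgroup.center E) :=
      { (inferInstance : Group (E ⧸ Subgroup.center E)) with
        mul_comm := fun a b => by
          obtain ⟨a, rfl⟩ := QuotientGroup.mk'_surjective _ a
          obtain ⟨b, rfl⟩ := QuotientGroup.mk'_surjective _ b
          rw [← commutatorElement_eq_one_iff_mul_comm, ← map_commutatorElement]
          exact (QuotientGroup.eq_one_iff _).mpr ((D.mem_center _).mpr (D.comm_mem a b)) }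
    rw [← D.mem_center, ← QuotientGroup.eq_one_iff] at h6 ⊢
    change q _ = 1 at h6 ⊢
    simp only [map_mul, map_inv] at h6 ⊢
    rw [← h6]
    simp only [mul_inv_rev, inv_inv, mul_comm, mul_left_comm, mul_assoc]
  have := A.mul_mem c.out.2 (hZA h7)
  rwa [mul_inv_cancel_left] at this

theorem main (D : Extraspecial.ESData p z) (S : Semi p z β h) {n : ℕ}
    (hn : Nat.card E = p ^ (2 * n + 1)) : h ∣ p ^ n + 1 ∨ h ∣ p ^ n - 1 := by
  have hz : Nat.card (Subgroup.zpowers z) = p := by
    rw [Nat.card_zpowers, orderOf_eq_prime D.z_pow D.z_ne]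
  have hcen : Subgroup.zpowers z = Subgroup.center E := SetLike.ext fun w => (D.mem_center w).symm
  obtain ⟨A, ⟨hA, hZA, hAab⟩, hmax⟩ := Set.Finite.exists_maximalFor (fun A : Subgroup E => Nat.card A)
    {A : Subgroup E | (∀ u ∈ A, β u ∈ A) ∧ Subgroup.zpowers z ≤ A ∧ A ≤ centralizer (A : Set E)}
    (Set.toFinite _) ⟨Subgroup.zpowers z, fun u hu => by
      have := S.fix_pow 1 hu
      rw [pow_one] at this
      rwa [this], le_rfl, hcen ▸ Subgroup.center_le_centralizer _⟩
  have hCA : ∀ u ∈ centralizer (A : Set E), β u ∈ centralizer (A : Set E) := by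
    intro u hu
    refine Subgroup.mem_centralizer_iff.mpr fun w hw => ?_
    obtain ⟨k, rfl⟩ := β.surjective w
    have hk : k ∈ A := by
      have := S.pow_mem hA (h - 1) _ hw
      rwa [← MulAut.mul_apply, ← pow_succ, Nat.sub_add_cancel S.pos, S.pow, MulAut.one_apply] at this
    rw [← map_mul, ← map_mul, Subgroup.mem_centralizer_iff.mp hu k hk]
  by_cases hC : centralizer (A : Set E) ≤ A
  · right
    have h1 := card_centralizer_mul_le D le_rfl hZA
    have h2 := card_centralizer_mul_le D hZA (le_top : A ≤ ⊤)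
    rw [le_antisymm hC hAab] at h1 h2
    rw [hcen, Subgroup.centralizer_center, Subgroup.card_top, ← hcen, hz, hn] at h1
    rw [Subgroup.coe_top, Subgroup.centralizer_univ, Subgroup.card_top, ← hcen, hz, hn] at h2
    have hpE : IsPGroup p E := IsPGroup.of_card hn
    obtain ⟨a, ha⟩ := IsPGroup.iff_card.mp (hpE.to_subgroup A)
    rw [ha] at h1 h2
    have hcardA : Nat.card A = p * p ^ n := by
      rw [ha, ← pow_succ']
      congr 1
      have e1 : p ^ (2 * n + 2) ≤ p ^ (a + a) := by rw [pow_add _ a a, pow_succ]; linarith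
      have e2 : p ^ (a + a) ≤ p ^ (2 * n + 2) := by rw [pow_add _ a a, pow_succ]; linarith
      have := (Nat.pow_le_pow_iff_right hp.out.one_lt).mp e1
      have := (Nat.pow_le_pow_iff_right hp.out.one_lt).mp e2
      omega
    exact S.dvd_sub_one D hA hZA hcardA
  · have hlt : A < centralizer (A : Set E) := lt_of_le_not_ge hAab hC
    obtain ⟨B, ⟨hB, hAB, hBC⟩, hBmin⟩ := Set.Finite.exists_minimalFor (fun B : Subgroup E => Nat.card B)
      {B : Subgroup E | (∀ u ∈ B, β u ∈ B) ∧ A < B ∧ B ≤ centralizer (A : Set E)}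
      (Set.toFinite _) ⟨_, hCA, hlt, le_rfl⟩
    have hnab : ¬ B ≤ centralizer (B : Set E) := fun h1 => by
      have := hmax (j := B) ⟨hB, hZA.trans hAB.le, h1⟩ (Subgroup.card_le_of_le hAB.le)
      exact hAB.ne (Subgroup.eq_of_le_of_card_ge hAB.le this)
    obtain ⟨j, hj⟩ := S.exists_dvd_add_one D hA hB hZA hAB hBC (fun C hAC hCB hC => by
      rcases eq_or_lt_of_le hAC with h1 | h1
      · exact Or.inl h1.symm
      · exact Or.inr (Subgroup.eq_of_le_of_card_ge hCB
          (hBmin (j := C) ⟨hC, h1, hCB.trans hBC⟩ (Subgroup.card_le_of_le hCB)))) hnab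
    refine dvd_cases (S.dvd_sub_one D (U := ⊤) (fun _ _ => trivial) le_top ?_) hp.out.pos hj
    rw [Subgroup.card_top, hn, pow_succ']

/-- Let P be an extraspecial p-group of order p^(2n+1) and H a cyclic group of order h prime to p acting on P (inside a common finite group: H normalizes P) so that C_P(x) = Z(P) for every non-identity x ∈ H. Then h divides p^n + 1 or h divides p^n − 1. -/
theorem result {G : Type*} [Group G] [Finite G] {p : ℕ} [Fact p.Prime] (P H : Subgroup G) (hP : Cfsg.IsExtraspecial p ↥P) (n : ℕ) (hn : Nat.card P = p ^ (2 * n + 1)) (hH : IsCyclic H) (hcop : (Nat.card H).Coprime p) (hHP : H ≤ Subgroup.normalizer (P : Set G)) (hfix : ∀ x ∈ H, x ≠ 1 → P ⊓ Subgroup.centralizer {x} = (Subgroup.center ↥P).map P.subtype) : Nat.card H ∣ p ^ n + 1 ∨ Nat.card H ∣ p ^ n - 1 := by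
  obtain ⟨z, D⟩ := Extraspecial.exists_esData hP
  obtain ⟨s, hs⟩ := Subgroup.isCyclic_iff_exists_zpowers_eq_top H |>.mp hH
  have hsH : s ∈ H := hs ▸ Subgroup.mem_zpowers s
  have hord : Nat.card H = orderOf s := by rw [← hs, Nat.card_zpowers]
  let β : MulAut ↥P := P.normalizerMonoidHom ⟨s, hHP hsH⟩
  have hβ : ∀ (i : ℕ) (y : ↥P), (((β ^ i) y : ↥P) : G) = s ^ i * y * (s ^ i)⁻¹ := by
    intro i y
    rw [← map_pow]
    rfl
  rw [hord] at hcop ⊢
  have hcz : ∀ w : ↥P, w ∈ Subgroup.zpowers z → ∀ x ∈ H, x * (w : G) = w * x := by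
    intro w hw x hx
    by_cases hx1 : x = 1
    · rw [hx1, one_mul, mul_one]
    · have : (w : G) ∈ P ⊓ Subgroup.centralizer {x} := by
        rw [hfix x hx hx1]
        exact Subgroup.mem_map_of_mem _ ((D.mem_center w).mpr hw)
      exact (Subgroup.mem_centralizer_singleton_iff.mp (Subgroup.mem_inf.mp this).2).symm
  refine main D (β := β) ⟨?_, ?_, orderOf_pos s, hcop, ?_⟩ hn
  · apply Subtype.ext
    have h1 := hβ 1 z
    rw [pow_one, pow_one] at h1
    rw [h1, hcz z (Subgroup.mem_zpowers z) s hsH, mul_inv_cancel_right]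
  · refine MulEquiv.ext fun y => Subtype.ext ?_
    rw [hβ, pow_orderOf_eq_one]
    simp
  · intro i hi hih y hy
    obtain ⟨w, hw, hyw⟩ : ∃ w ∈ Subgroup.zpowers z, (β ^ i) y = y * w :=
      ⟨_, hy, (mul_inv_cancel_left _ _).symm⟩
    have hx1 : s ^ i ≠ 1 := pow_ne_one_of_lt_orderOf hi.ne' hih
    have hk : ∀ k : ℕ, ((β ^ i) ^ k) y = y * w ^ k := by
      intro k
      induction k with
      | zero => simp
      | succ k ih =>
        rw [pow_succ', MulAut.mul_apply, ih, map_mul, map_pow, hyw]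
        have : (β ^ i) w = w := Subtype.ext (by
          rw [hβ, hcz w hw (s ^ i) (H.pow_mem hsH i), mul_inv_cancel_right])
        rw [this, mul_assoc, ← pow_succ']
    have hβh : β ^ orderOf s = 1 := MulEquiv.ext fun y => Subtype.ext (by
      rw [hβ, pow_orderOf_eq_one]; simp)
    have h1 := hk (orderOf s)
    rw [← pow_mul, mul_comm, pow_mul, hβh, one_pow, MulAut.one_apply, left_eq_mul] at h1
    have hwp : w ^ p = 1 := by
      obtain ⟨k, rfl⟩ := hw
      show (z ^ k) ^ p = 1
      rw [← zpow_natCast, ← zpow_mul, mul_comm, zpow_mul, zpow_natCast, D.z_pow, one_zpow]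
    have hw1 : w = 1 := by
      have := pow_gcd_eq_one.mpr ⟨h1, hwp⟩
      rwa [hcop, pow_one] at this
    rw [hw1, mul_one] at hyw
    have hfixed : (y : G) ∈ P ⊓ Subgroup.centralizer {s ^ i} := by
      refine Subgroup.mem_inf.mpr ⟨y.2, Subgroup.mem_centralizer_singleton_iff.mpr ?_⟩
      have := congrArg Subtype.val hyw
      rw [hβ] at this
      exact (mul_inv_eq_iff_eq_mul.mp this).symm
    rw [hfix _ (H.pow_mem hsH i) hx1] at hfixed
    obtain ⟨c, hc, hce⟩ := hfixed
    exact (D.mem_center y).mp ((Subtype.ext hce : c = y) ▸ hc)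

end Cfsg.Agent.S3767
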