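import Cfsg.Statements.S3763
import Cfsg.Agent.Lib.Extraspecial.Classify
import Cfsg.Agent.S3767

set_option autoImplicit false
open Cfsg

namespace Cfsg.Agent.S3763


open Cfsg Subgroup
open Cfsg.Agent.Lib
open scoped commutatorElement

universe u v

/-- an elementary abelian subgroup of order `2^k` -/
def HasEA (E : Type u) [Group E] (k : ℕ) : Prop :=
  ∃ A : Subgroup E, A ≤ centralizer (A : Set E) ∧ (∀ a ∈ A, a ^ 2 = 1) ∧ Nat.card A = 2 ^ k

variable {E : Type u} [Group E] [Finite E] {z : E}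

theorem comm_iff {A : Subgroup E} :
    A ≤ centralizer (A : Set E) ↔ ∀ a ∈ A, ∀ b ∈ A, a * b = b * a :=
  ⟨fun h _ ha _ hb => Subgroup.mem_centralizer_iff.mp (h hb) _ ha,
    fun h b hb => Subgroup.mem_centralizer_iff.mpr fun a ha => h a ha b hb⟩

theorem sup_elem {A : Subgroup E} {x : E} (hA : A ≤ centralizer (A : Set E))
    (hA2 : ∀ a ∈ A, a ^ 2 = 1) (hx2 : x ^ 2 = 1) (hxA : ∀ a ∈ A, a * x = x * a) :
    A ⊔ zpowers x ≤ centralizer ((A ⊔ zpowers x : Subgroup E) : Set E) ∧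
      (∀ a ∈ A ⊔ zpowers x, a ^ 2 = 1) := by
  have hxC : zpowers x ≤ centralizer (A : Set E) :=
    zpowers_le.mpr (Subgroup.mem_centralizer_iff.mpr hxA)
  have hmem : ∀ w ∈ A ⊔ zpowers x, ∃ a ∈ A, ∃ k : ℤ, w = a * x ^ k := by
    intro w hw
    rw [← SetLike.mem_coe, Subgroup.coe_mul_of_left_le_normalizer_right _ _
      ((Subgroup.le_centralizer_iff.mp hxC).trans (Subgroup.centralizer_le_normalizer _))] at hw
    obtain ⟨a, ha, _, ⟨k, rfl⟩, rfl⟩ := hw
    exact ⟨a, ha, k, rfl⟩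
  have hc : ∀ a ∈ A, ∀ k : ℤ, Commute a (x ^ k) := fun a ha k =>
    (show Commute a x from hxA a ha).zpow_right k
  refine ⟨comm_iff.mpr fun u hu v hv => ?_, fun w hw => ?_⟩
  · obtain ⟨a, ha, i, rfl⟩ := hmem u hu
    obtain ⟨b, hb, j, rfl⟩ := hmem v hv
    exact (Commute.mul_left
      (Commute.mul_right (comm_iff.mp hA a ha b hb) (hc a ha j))
      (Commute.mul_right (hc b hb i).symm ((Commute.refl x).zpow_zpow i j))).eq
  · obtain ⟨a, ha, k, rfl⟩ := hmem w hw
    rw [(hc a ha k).mul_pow, hA2 a ha, one_mul, ← zpow_natCast, ← zpow_mul, mul_comm, zpow_mul,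
      zpow_natCast, hx2, one_zpow]

theorem isPGroup (h : Extraspecial.ESData 2 z) : IsPGroup 2 E := fun g => ⟨2, by
  obtain ⟨k, hk⟩ := h.pow_mem g
  have hk' : z ^ k = g ^ 2 := hk
  rw [pow_two (2 : ℕ), pow_mul, ← hk', ← zpow_natCast, ← zpow_mul, mul_comm, zpow_mul, zpow_natCast,
    h.z_pow, one_zpow]⟩

theorem card_z (h : Extraspecial.ESData 2 z) : Nat.card (zpowers z) = 2 := by
  rw [Nat.card_zpowers, orderOf_eq_prime h.z_pow h.z_ne]

/-- rank at most `n + 1` -/
theorem ea_le (h : Extraspecial.ESData 2 z) {n : ℕ} (hn : Nat.card E = 2 ^ (2 * n + 1))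
    {A : Subgroup E} (hA : A ≤ centralizer (A : Set E)) (hA2 : ∀ a ∈ A, a ^ 2 = 1) :
    Nat.card A ≤ 2 ^ (n + 1) := by
  obtain ⟨h1, -⟩ := sup_elem hA hA2 h.z_pow (fun a _ => Extraspecial.commute_z h a)
  set B := A ⊔ zpowers z
  have hcen : zpowers z = center E := SetLike.ext fun w => (h.mem_center w).symm
  have h2 := S3767.card_centralizer_mul_le h (le_sup_right : zpowers z ≤ B) (le_top : B ≤ ⊤)
  rw [Subgroup.coe_top, Subgroup.centralizer_univ, Subgroup.card_top, ← hcen, card_z h, hn] at h2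
  have h3 := Nat.mul_le_mul_right (Nat.card B) (Subgroup.card_le_of_le h1)
  have h4 : Nat.card B * Nat.card B ≤ 2 ^ (n + 1) * 2 ^ (n + 1) := by
    refine (h3.trans h2).trans (le_of_eq ?_)
    rw [← pow_add, ← pow_succ']
    congr 1; omega
  exact (Subgroup.card_le_of_le le_sup_left).trans (Nat.mul_self_le_mul_self_iff.mp h4)

theorem not_mem_z (h : Extraspecial.ESData 2 z) {x y : E} (hxy : ⁅x, y⁆ = z) :
    x ∉ zpowers z := fun hxz => h.z_ne (hxy.symm.trans
      (commutatorElement_eq_one_iff_mul_comm.2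
        ((Subgroup.mem_center_iff.1 ((h.mem_center x).2 hxz) y).symm)))

theorem card_pair_centralizer (h : Extraspecial.ESData 2 z) {n : ℕ}
    (hn : Nat.card E = 2 ^ (2 * (n + 1) + 1)) {x y : E} (hxy : ⁅x, y⁆ = z) :
    Nat.card (centralizer ({x, y} : Set E)) = 2 ^ (2 * n + 1) := by
  have := Extraspecial.card_eq h hxy
  rw [hn, show 2 * (n + 1) + 1 = 2 + (2 * n + 1) by ring, pow_add] at this
  exact (Nat.eq_of_mul_eq_mul_left (pow_pos two_pos 2) this).symm

/-- going up across a dihedral pair -/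
theorem hasEA_up (h : Extraspecial.ESData 2 z) {x y : E} (hxy : ⁅x, y⁆ = z) (hx : x ^ 2 = 1) {k : ℕ}
    (hk : HasEA ↥(centralizer ({x, y} : Set E)) k) : HasEA E (k + 1) := by
  set C := centralizer ({x, y} : Set E)
  obtain ⟨A, hA, hA2, hAc⟩ := hk
  set A' := A.map C.subtype
  have hA' : A' ≤ centralizer (A' : Set E) := by
    refine comm_iff.mpr ?_
    rintro _ ⟨a, ha, rfl⟩ _ ⟨b, hb, rfl⟩
    exact congrArg Subtype.val (comm_iff.mp hA a ha b hb)
  have hA'2 : ∀ a ∈ A', a ^ 2 = 1 := by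
    rintro _ ⟨a, ha, rfl⟩
    exact congrArg Subtype.val (hA2 a ha)
  have hxA : ∀ a ∈ A', a * x = x * a := by
    rintro _ ⟨a, ha, rfl⟩
    exact (Subgroup.mem_centralizer_iff.mp a.2 x (Set.mem_insert _ _)).symm
  obtain ⟨h1, h2⟩ := sup_elem hA' hA'2 hx hxA
  refine ⟨_, h1, h2, ?_⟩
  have hcard : Nat.card A' = 2 ^ k := by rw [Subgroup.card_map_of_injective C.subtype_injective, hAc]
  have hxmem : x ∉ A' := by
    rintro ⟨a, -, ha⟩
    have := Subgroup.mem_centralizer_iff.mp a.2 y (Set.mem_insert_of_mem _ rfl)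
    have ha' : (a : E) = x := ha
    rw [ha'] at this
    exact h.z_ne (hxy.symm.trans (commutatorElement_eq_one_iff_mul_comm.2 this.symm))
  have hdisj : Disjoint A' (zpowers x) := by
    rw [disjoint_iff, eq_bot_iff]
    rintro w ⟨hw, ⟨i, rfl⟩⟩
    rcases Int.even_or_odd' i with ⟨t, rfl | rfl⟩
    · rw [Subgroup.mem_bot]
      show x ^ (2 * t) = 1
      rw [zpow_mul, zpow_ofNat, hx, one_zpow]
    · refine absurd ?_ hxmem
      have hw' : x ^ (2 * t + 1) ∈ A' := hw
      rwa [zpow_add, zpow_mul, zpow_ofNat, hx, one_zpow, one_mul, zpow_one] at hw'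
  have hx1 : x ≠ 1 := fun h1 => not_mem_z h hxy (h1 ▸ one_mem _)
  have hnorm : A' ≤ Subgroup.normalizer (zpowers x : Set E) := by
    refine le_trans ?_ (Subgroup.centralizer_le_normalizer _)
    intro a ha
    refine Subgroup.mem_centralizer_iff.mpr ?_
    rintro _ ⟨i, rfl⟩
    exact ((show Commute x a from (hxA a ha).symm).zpow_left i).eq
  have hcs : Nat.card ↥(A' ⊔ zpowers x) = Nat.card A' * Nat.card (zpowers x) := by
    rw [← SetLike.coe_sort_coe, Subgroup.coe_mul_of_left_le_normalizer_right _ _ hnorm,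
      ← Nat.card_prod]
    symm
    refine Nat.card_eq_of_bijective (fun q => ⟨(q.1 : E) * q.2, Set.mul_mem_mul q.1.2 q.2.2⟩) ⟨?_, ?_⟩
    · intro q q' hq
      exact Subgroup.mul_injective_of_disjoint hdisj (congrArg Subtype.val hq)
    · rintro ⟨_, a, ha, b, hb, rfl⟩
      exact ⟨(⟨a, ha⟩, ⟨b, hb⟩), rfl⟩
  rw [hcs, hcard, Nat.card_zpowers, orderOf_eq_prime hx hx1, pow_succ]

/-- rank at least `n` -/
theorem hasEA_low : ∀ (n : ℕ) (E : Type u) [Group E] [Finite E] (z : E), Extraspecial.ESData 2 z →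
    Nat.card E = 2 ^ (2 * n + 1) → HasEA E n := by
  intro n
  induction n with
  | zero =>
    intro E _ _ z _ _
    exact ⟨⊥, bot_le, fun a ha => by rw [Subgroup.mem_bot.mp ha, one_pow], by simp⟩
  | succ n ih =>
    intro E _ _ z h hn
    obtain ⟨x₀, hx₀⟩ : ∃ x, x ∉ zpowers z := by
      by_contra hc
      push Not at hc
      have : Nat.card E ≤ 2 := by
        rw [← Subgroup.card_top, ← card_z h]
        exact Subgroup.card_le_of_le fun w _ => hc w
      have h8 : 2 ^ 3 ≤ Nat.card E := hn ▸ Nat.pow_le_pow_right two_pos (by omega)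
      omega
    rcases Extraspecial.exists_pair_cases h hx₀ with ⟨x, y, hxy, hx, -⟩ | ⟨h8, -⟩
    · exact hasEA_up h hxy hx (ih _ _ (Extraspecial.esData_centralizer h hxy)
        (card_pair_centralizer h hn hxy))
    · have hn0 : n = 0 := by
        have : 2 ^ (2 * (n + 1) + 1) = 2 ^ 3 := hn ▸ h8
        have := Nat.pow_right_injective le_rfl this
        omega
      subst hn0
      exact ⟨zpowers z, comm_iff.mpr fun a ha b hb =>
          (Subgroup.mem_center_iff.mp ((h.mem_center a).mpr ha) b).symm, fun a ha => by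
        obtain ⟨k, rfl⟩ := ha
        show (z ^ k) ^ 2 = 1
        rw [← zpow_natCast, ← zpow_mul, mul_comm, zpow_mul, zpow_natCast, h.z_pow, one_zpow],
        by rw [card_z h, zero_add, pow_one]⟩

/-- an elementary abelian subgroup of maximal order gives a dihedral pair keeping it -/
theorem exists_plus_pair (h : Extraspecial.ESData 2 z) {n : ℕ} (hT : HasEA E (n + 2)) :
    ∃ x y : E, ⁅x, y⁆ = z ∧ x ^ 2 = 1 ∧ y ^ 2 = 1 ∧
      HasEA ↥(centralizer ({x, y} : Set E)) (n + 1) := by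
  obtain ⟨A, hA, hA2, hAc⟩ := hT
  obtain ⟨x, hxA, hxz⟩ : ∃ x ∈ A, x ∉ zpowers z := by
    by_contra hc
    push Not at hc
    have h1 : Nat.card A ≤ 2 := card_z h ▸ Subgroup.card_le_of_le (fun a ha => hc a ha)
    have h2 : 2 ^ 2 ≤ Nat.card A := hAc ▸ Nat.pow_le_pow_right two_pos (by omega)
    omega
  obtain ⟨y, hxy, hy⟩ := Extraspecial.exists_dihedral_pair h hxz (hA2 x hxA)
  refine ⟨x, y, hxy, hA2 x hxA, hy, ?_⟩
  set C := centralizer ({x, y} : Set E)
  let f : ↥A →* E :=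
    { toFun := fun a => ⁅(a : E), y⁆
      map_one' := commutatorElement_one_left y
      map_mul' := fun a b => Extraspecial.comm_mul_left h a b y }
  have hker : f.ker.map A.subtype ≤ C := by
    rintro _ ⟨a, ha, rfl⟩
    refine Subgroup.mem_centralizer_iff.mpr ?_
    rintro w (rfl | rfl)
    · exact comm_iff.mp hA w hxA a a.2
    · exact (commutatorElement_eq_one_iff_commute.mp ha).symm.eq
  have hrange : Nat.card f.range ∣ 2 := by
    rw [← card_z h]
    exact Subgroup.card_dvd_of_le (by rintro _ ⟨a, rfl⟩; exact h.comm_mem _ _)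
  have hk : Nat.card f.ker * Nat.card f.range = 2 ^ (n + 2) := by
    rw [← hAc, Subgroup.card_eq_card_quotient_mul_card_subgroup f.ker,
      Nat.card_congr (QuotientGroup.quotientKerEquivRange f).toEquiv, mul_comm]
  have hkc : 2 ^ (n + 1) ≤ Nat.card f.ker := by
    have := Nat.mul_le_mul_left (Nat.card f.ker) (Nat.le_of_dvd two_pos hrange)
    rw [hk, pow_succ] at this
    exact Nat.le_of_mul_le_mul_right this two_pos
  obtain ⟨m, hm⟩ := IsPGroup.iff_card.mp (((isPGroup h).to_subgroup A).to_subgroup f.ker)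
  rw [hm] at hkc
  obtain ⟨B', hB'⟩ := Sylow.exists_subgroup_card_pow_prime 2 (G := ↥f.ker) (n := n + 1)
    (hm ▸ pow_dvd_pow 2 ((Nat.pow_le_pow_iff_right one_lt_two).mp hkc))
  set B := B'.map f.ker.subtype
  have hB : Nat.card B = 2 ^ (n + 1) := by
    rw [Subgroup.card_map_of_injective f.ker.subtype_injective, hB']
  have hBK : B ≤ f.ker := Subgroup.map_subtype_le _
  refine ⟨(B.map A.subtype).subgroupOf C, ?_, ?_, ?_⟩
  · refine comm_iff.mpr fun a ha b hb => Subtype.ext ?_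
    exact comm_iff.mp hA _ (Subgroup.map_subtype_le _ (Subgroup.mem_subgroupOf.mp ha)) _
      (Subgroup.map_subtype_le _ (Subgroup.mem_subgroupOf.mp hb))
  · intro a ha
    exact Subtype.ext (hA2 _ (Subgroup.map_subtype_le _ (Subgroup.mem_subgroupOf.mp ha)))
  · rw [Nat.card_congr (Subgroup.subgroupOfEquivOfLe ((Subgroup.map_mono hBK).trans hker)).toEquiv,
      Subgroup.card_map_of_injective A.subtype_injective, hB]

/-- a group of order `2` has rank one -/
theorem hasEA_order_two (h : Extraspecial.ESData 2 z) : HasEA E 1 :=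
  ⟨zpowers z, comm_iff.mpr fun a ha b _ =>
      (Subgroup.mem_center_iff.mp ((h.mem_center a).mpr ha) b).symm, fun a ha => by
    obtain ⟨k, rfl⟩ := ha
    show (z ^ k) ^ 2 = 1
    rw [← zpow_natCast, ← zpow_mul, mul_comm, zpow_mul, zpow_natCast, h.z_pow, one_zpow],
    by rw [card_z h, pow_one]⟩

theorem big {F : Type*} [Group F] [Finite F] {w : F} (hw : Extraspecial.ESData 2 w) {n : ℕ}
    (hc : Nat.card F = 2 ^ (2 * (n + 1) + 1)) : ∃ g, g ∉ zpowers w := by
  by_contra hcon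
  push Not at hcon
  have h1 : Nat.card F ≤ 2 := by
    rw [← Subgroup.card_top, ← card_z hw]
    exact Subgroup.card_le_of_le fun g _ => hcon g
  have h8 : 2 ^ 3 ≤ Nat.card F := hc ▸ Nat.pow_le_pow_right two_pos (by omega)
  omega

theorem exists_iso : ∀ (n : ℕ) (E : Type u) [Group E] [Finite E] (z : E),
    Extraspecial.ESData 2 z → ∀ (E' : Type v) [Group E'] [Finite E'] (z' : E'),
    Extraspecial.ESData 2 z' → Nat.card E = 2 ^ (2 * n + 1) → Nat.card E' = 2 ^ (2 * n + 1) →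
    (HasEA E (n + 1) ↔ HasEA E' (n + 1)) → ∃ φ : E ≃* E', φ z = z' := by
  haveI : Fact (Nat.Prime 2) := ⟨Nat.prime_two⟩
  intro n
  induction n with
  | zero =>
    intro E _ _ z h E' _ _ z' h' hn hn' _
    refine Extraspecial.exists_equiv_of_card_eq h h' (fun g => ?_) (hn.trans hn'.symm)
    have : zpowers z = ⊤ := Subgroup.eq_top_of_card_eq _ (by rw [card_z h, hn]; norm_num)
    rw [this]; trivial
  | succ n ih =>
    intro E _ _ z h E' _ _ z' h' hn hn' hiff
    have hglue : ∀ {x y : E} {x' y' : E'}, ⁅x, y⁆ = z → ⁅x', y'⁆ = z' → x ^ 2 = 1 → y ^ 2 = 1 →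
        x' ^ 2 = 1 → y' ^ 2 = 1 → (HasEA ↥(centralizer ({x, y} : Set E)) (n + 1) ↔
          HasEA ↥(centralizer ({x', y'} : Set E')) (n + 1)) → ∃ φ : E ≃* E', φ z = z' := by
      intro x y x' y' hxy hxy' hx hy hx' hy' hh
      obtain ⟨ψ, hψ⟩ := ih _ _ (Extraspecial.esData_centralizer h hxy) _ _
        (Extraspecial.esData_centralizer h' hxy') (card_pair_centralizer h hn hxy)
        (card_pair_centralizer h' hn' hxy') hh
      exact Extraspecial.glue_of_pairs h h' 0 hxy hxy' (by simpa using hx) (by simpa using hy)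
        (by simpa using hx') (by simpa using hy') ψ hψ
    by_cases hT : HasEA E (n + 1 + 1)
    · obtain ⟨x, y, hxy, hx, hy, hC⟩ := exists_plus_pair h hT
      obtain ⟨x', y', hxy', hx', hy', hC'⟩ := exists_plus_pair h' (hiff.mp hT)
      exact hglue hxy hxy' hx hy hx' hy' ⟨fun _ => hC', fun _ => hC⟩
    · have hT' : ¬ HasEA E' (n + 1 + 1) := fun h1 => hT (hiff.mpr h1)
      obtain ⟨x₀, hx₀⟩ := big h hn
      obtain ⟨x₀', hx₀'⟩ := big h' hn'
      rcases Extraspecial.exists_pair_cases h hx₀ with ⟨x, y, hxy, hx, hy⟩ | ⟨h8, x, y, hxy, hx, hy⟩ <;>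
        rcases Extraspecial.exists_pair_cases h' hx₀' with ⟨x', y', hxy', hx', hy'⟩ |
          ⟨h8', x', y', hxy', hx', hy'⟩
      · exact hglue hxy hxy' hx hy hx' hy' ⟨fun h1 => absurd (hasEA_up h hxy hx h1) hT,
          fun h1 => absurd (hasEA_up h' hxy' hx' h1) hT'⟩
      · exfalso
        have hn0 : n = 0 := by
          have := Nat.pow_right_injective le_rfl ((hn' ▸ h8' : 2 ^ (2 * (n + 1) + 1) = 2 ^ 3))
          omega
        subst hn0
        exact hT (hasEA_up h hxy hx (hasEA_order_two (Extraspecial.esData_centralizer h hxy)))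
      · exfalso
        have hn0 : n = 0 := by
          have := Nat.pow_right_injective le_rfl ((hn ▸ h8 : 2 ^ (2 * (n + 1) + 1) = 2 ^ 3))
          omega
        subst hn0
        exact hT' (hasEA_up h' hxy' hx' (hasEA_order_two (Extraspecial.esData_centralizer h' hxy')))
      · exact Extraspecial.exists_equiv_order_eight h h' 1 h8 h8' hxy hxy' (by simpa using hx)
          (by simpa using hy) (by simpa using hx') (by simpa using hy')

theorem prank_iff {k : ℕ} :
    Cfsg.PRankLE 2 k E ↔ ∀ A : Subgroup E, A ≤ centralizer (A : Set E) → (∀ a ∈ A, a ^ 2 = 1) →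
      Nat.card A ≤ 2 ^ k := by
  refine ⟨fun h A hA hA2 => h A (Subgroup.le_centralizer_iff_isMulCommutative.mp hA) hA2,
    fun h A hA hA2 => h A (Subgroup.le_centralizer_iff_isMulCommutative.mpr hA) hA2⟩

theorem not_prank_of_hasEA {k m : ℕ} (h : HasEA E m) (hkm : k < m) : ¬ Cfsg.PRankLE 2 k E := by
  intro hp
  obtain ⟨A, hA, hA2, hc⟩ := h
  have := prank_iff.mp hp A hA hA2
  rw [hc] at this
  exact absurd ((Nat.pow_le_pow_iff_right one_lt_two).mp this) (by omega)

theorem hasEA_of_not_prank (h : Extraspecial.ESData 2 z) {n : ℕ}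
    (hn : Nat.card E = 2 ^ (2 * n + 1)) (hp : ¬ Cfsg.PRankLE 2 n E) : HasEA E (n + 1) := by
  rw [prank_iff] at hp
  push Not at hp
  obtain ⟨A, hA, hA2, hc⟩ := hp
  refine ⟨A, hA, hA2, ?_⟩
  obtain ⟨m, hm⟩ := IsPGroup.iff_card.mp ((isPGroup h).to_subgroup A)
  have h1 := ea_le h hn hA hA2
  rw [hm] at hc h1 ⊢
  have := (Nat.pow_lt_pow_iff_right one_lt_two).mp hc
  have := (Nat.pow_le_pow_iff_right one_lt_two).mp h1
  congr 1; omega

/-- Let E be an extraspecial 2-group of order 2^(2n+1). Then the largest elementary abelian subgroups of E have order 2^n or 2^(n+1); and two extraspecial 2-groups of the same order whose largest elementary abelian subgroups have the same order are isomorphic. -/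
theorem result {E : Type*} [Group E] [Finite E] (hE : Cfsg.IsExtraspecial 2 E) (n : ℕ) (hn : Nat.card E = 2 ^ (2 * n + 1)) : ((Cfsg.PRankLE 2 n E ∧ ¬ Cfsg.PRankLE 2 (n - 1) E) ∨ (Cfsg.PRankLE 2 (n + 1) E ∧ ¬ Cfsg.PRankLE 2 n E)) ∧ ∀ (E' : Type*) [Group E'] [Finite E'], Cfsg.IsExtraspecial 2 E' → Nat.card E' = Nat.card E → (∀ k : ℕ, Cfsg.PRankLE 2 k E ↔ Cfsg.PRankLE 2 k E') → Nonempty (E ≃* E') := by
  haveI : Fact (Nat.Prime 2) := ⟨Nat.prime_two⟩
  obtain ⟨z, h⟩ := Extraspecial.exists_esData hE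
  refine ⟨?_, ?_⟩
  · by_cases hp : Cfsg.PRankLE 2 n E
    · left
      refine ⟨hp, ?_⟩
      rcases Nat.eq_zero_or_pos n with rfl | hpos
      · exact absurd hp (not_prank_of_hasEA (hasEA_order_two h) Nat.zero_lt_one)
      · exact not_prank_of_hasEA (hasEA_low n E z h hn) (by omega)
    · exact Or.inr ⟨prank_iff.mpr fun A hA hA2 => ea_le h hn hA hA2, hp⟩
  · intro E' _ _ hE' hcard hrank
    obtain ⟨z', h'⟩ := Extraspecial.exists_esData hE'
    obtain ⟨φ, -⟩ := exists_iso n E z h E' z' h' hn (hcard.trans hn)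
      ⟨fun ht => hasEA_of_not_prank h' (hcard.trans hn)
        (fun hp => not_prank_of_hasEA ht n.lt_succ_self ((hrank n).mpr hp)),
      fun ht => hasEA_of_not_prank h hn
        (fun hp => not_prank_of_hasEA ht n.lt_succ_self ((hrank n).mp hp))⟩
    exact ⟨φ⟩

end Cfsg.Agent.S3763
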