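import Cfsg.Statements.S3764
import Cfsg.Agent.Lib.Shult.Reduce

set_option autoImplicit false
open Cfsg
open scoped commutatorElement

namespace Cfsg.Agent.S3764

/-- Let p, q, r be distinct primes and let X, Q, V be subgroups of a finite group with X of order r, Q an extraspecial q-group normalized by X with C_Q(X) = Z(Q), and V an elementary abelian p-group normalized by X and Q on which XQ acts faithfully ((X ⊔ Q) ∩ C(V) = 1). If C_V(X) = 1, then q = 2, r = 2^n + 1 for some n, and Q has order 2^(2n+1). -/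
theorem result {G : Type*} [Group G] [Finite G] {p q r : ℕ} (hp : p.Prime) (hq : q.Prime) (hr : r.Prime) (hpq : p ≠ q) (hpr : p ≠ r) (hqr : q ≠ r) (X Q V : Subgroup G) (hX : Nat.card X = r) (hQ : Cfsg.IsExtraspecial q ↥Q) (hXQ : X ≤ Subgroup.normalizer (Q : Set G)) (hCQ : Q ⊓ Subgroup.centralizer (X : Set G) = (Subgroup.center ↥Q).map Q.subtype) (hV : Cfsg.IsElementaryAbelian p V) (hXV : X ≤ Subgroup.normalizer (V : Set G)) (hQV : Q ≤ Subgroup.normalizer (V : Set G)) (hfaith : (X ⊔ Q) ⊓ Subgroup.centralizer (V : Set G) = ⊥) (hCV : V ⊓ Subgroup.centralizer (X : Set G) = ⊥) : q = 2 ∧ ∃ n : ℕ, r = 2 ^ n + 1 ∧ Nat.card Q = 2 ^ (2 * n + 1) := by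
  obtain ⟨⟨hQp, hΦ, hcd⟩, hZq⟩ := hQ
  haveI := Fact.mk hq
  obtain ⟨x, hxX, hxr, hx1, hXeq⟩ := Cfsg.Agent.Lib.Shult.exists_gen hr hX
  have hfix : ∀ v ∈ V, x * v * x⁻¹ = v → v = 1 := fun v hv h => by
    rw [← Subgroup.mem_bot, ← hCV, hXeq]
    exact ⟨hv, Cfsg.Agent.Lib.Shult.mem_centralizer_zpowers h⟩
  have hnt : Nontrivial (Subgroup.center Q) := Finite.one_lt_card_iff_nontrivial.1 (hZq ▸ hq.one_lt)
  obtain ⟨⟨z, hz⟩, hz1⟩ := exists_ne (1 : Subgroup.center Q)
  have hz1' : z ≠ 1 := fun h => hz1 (Subtype.ext h)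
  have hzV : (z : G) ∉ Subgroup.centralizer (V : Set G) := fun h => hz1' (Subtype.ext (by
    show (z : G) = 1
    rw [← Subgroup.mem_bot, ← hfaith]
    exact ⟨le_sup_right (a := X) z.2, h⟩))
  have hcomm : ∀ a b : Q, ⁅a, b⁆ ∈ Subgroup.center Q := fun a b => hcd ▸
    Subgroup.commutator_mem_commutator (Subgroup.mem_top a) (Subgroup.mem_top b)
  have hZtop : Subgroup.center Q ≠ ⊤ := fun h => by
    have h1 : commutator Q = ⊥ := by
      rw [commutator_def, Subgroup.commutator_eq_bot_iff_le_centralizer]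
      intro a _
      rw [Subgroup.mem_centralizer_iff]
      exact fun b _ => Subgroup.mem_center_iff.1 (h ▸ Subgroup.mem_top a) b
    rw [hcd] at h1
    exact hz1' (Subgroup.mem_bot.1 (h1 ▸ hz))
  have hidx := Cfsg.Agent.Lib.Shult.index_cases_ambient hp hq hr hpq hpr hqr hV hQp hxr (hXQ hxX)
    (hXV hxX) hQV hfix hcomm
    (fun w hw => by
      have h1 : (w : G) ∈ Q ⊓ Subgroup.centralizer (X : Set G) :=
        hCQ ▸ Subgroup.mem_map_of_mem Q.subtype hw
      rw [Subgroup.mem_centralizer_iff.1 h1.2 x hxX, mul_inv_cancel_right])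
    (fun u hu => by
      have h1 : (u : G) ∈ (Subgroup.center Q).map Q.subtype := hCQ ▸
        (⟨u.2, hXeq ▸ Cfsg.Agent.Lib.Shult.mem_centralizer_zpowers hu⟩ :
          (u : G) ∈ Q ⊓ Subgroup.centralizer (X : Set G))
      obtain ⟨w, hw, hwu⟩ := h1
      rwa [Q.subtype_injective hwu] at hw)
    z hz hzV (fun N _ hzN u hu => by
      by_contra hall
      push Not at hall
      refine hu (Subgroup.mem_center_iff.2 fun y => Eq.symm ?_)
      by_contra hne
      refine hzN ?_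
      have h1 : (⁅u, y⁆ : Q) ≠ 1 := fun h => hne (commutatorElement_eq_one_iff_mul_comm.1 h)
      obtain ⟨k, hk⟩ := mem_zpowers_of_prime_card hZq (g := (⟨⁅u, y⁆, hcomm u y⟩ : Subgroup.center Q))
        (g' := ⟨z, hz⟩) (fun h => h1 (congrArg Subtype.val h))
      have hk' : (⁅u, y⁆ : Q) ^ k = z := congrArg Subtype.val hk
      exact hk' ▸ N.zpow_mem (hall y) k)
  obtain ⟨n, hn⟩ := IsPGroup.iff_card.mp hQp
  obtain ⟨e, -, he⟩ := (Nat.dvd_prime_pow hq).1 (hn ▸ (Subgroup.center Q).index_dvd_card)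
  have hne : (Subgroup.center Q).index ≠ 1 := fun h => hZtop (Subgroup.index_eq_one.1 h)
  have he0 : 0 < e := Nat.pos_of_ne_zero fun h0 => hne (by rw [he, h0, pow_zero])
  rcases hidx with h | h
  · exact absurd h hne
  · obtain ⟨h2, m, hm, hem⟩ := Cfsg.Agent.Lib.Shult.prime_power_eq_sq hq hr he0 (he ▸ h)
    refine ⟨h2, m, hm, ?_⟩
    rw [← (Subgroup.center Q).index_mul_card, hZq, he, hem, h2, ← pow_succ]

end Cfsg.Agent.S3764
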