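import Cfsg.Statements.S3768
import Cfsg.Agent.S0035
import Cfsg.Agent.Lib.Frobenius.Basic
import Cfsg.Agent.Lib.Coprime.Glauberman

set_option autoImplicit false
open Cfsg

namespace Cfsg.Agent.S3768

open Subgroup
open scoped Pointwise

/-- Let G be a finite Frobenius group with Frobenius complement R and Frobenius kernel K (the identity together with the elements in no conjugate of R), and let N be a normal subgroup of G not containing K. Then G/N is a Frobenius group with Frobenius complement RN/N whose Frobenius kernel is the image of K. -/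
theorem result {G : Type*} [Group G] [Finite G] (R : Subgroup G) (hR : Cfsg.IsFrobeniusComplement R) (N : Subgroup G) [N.Normal] (hKN : ¬ Cfsg.frobeniusKernel R ⊆ N) : Cfsg.IsFrobeniusComplement (R.map (QuotientGroup.mk' N)) ∧ Cfsg.frobeniusKernel (R.map (QuotientGroup.mk' N)) = QuotientGroup.mk' N '' Cfsg.frobeniusKernel R := by
  classical
  obtain ⟨K, hKset, hKn, hc⟩ := Cfsg.Agent.S0035.result R hR
  haveI := hKn
  have hKne : K ≠ ⊥ := by
    intro h
    have := hc.card_mul_card
    rw [h, card_bot, one_mul] at this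
    exact hR.2.1 (eq_top_of_card_eq R this)
  have hfix := (Cfsg.Agent.Lib.Frobenius.isFrobeniusComplement_iff_centralizer hc hKne hR.1).mp hR
  have hNR : N ⊓ R = ⊥ := by
    by_contra hne
    obtain ⟨h, hh, hh1⟩ := (N ⊓ R).bot_or_exists_ne_one.resolve_left hne
    apply hKN
    rw [← hKset]
    let f : K → K := fun k => ⟨h * k * h⁻¹ * (k : G)⁻¹,
      mul_mem (hKn.conj_mem k k.2 h) (inv_mem k.2)⟩
    have hinj : Function.Injective f := by
      intro a b hab
      have h1 : h * (a : G) * h⁻¹ * (a : G)⁻¹ = h * b * h⁻¹ * (b : G)⁻¹ := congrArg Subtype.val hab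
      have hmem : (b : G)⁻¹ * a ∈ K ⊓ centralizer ({h} : Set G) := mem_inf.mpr
        ⟨mul_mem (inv_mem b.2) a.2, mem_centralizer_iff.mpr fun z hz => by
          rw [Set.mem_singleton_iff.mp hz]
          calc h * ((b : G)⁻¹ * a) = h * (b : G)⁻¹ * h⁻¹ * (h * a * h⁻¹ * (a : G)⁻¹) * a * h := by
                group
            _ = h * (b : G)⁻¹ * h⁻¹ * (h * b * h⁻¹ * (b : G)⁻¹) * a * h := by rw [h1]
            _ = _ := by group⟩
      rw [hfix h (mem_inf.mp hh).2 hh1, mem_bot, inv_mul_eq_one] at hmem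
      exact Subtype.ext hmem.symm
    intro x hx
    obtain ⟨k, hk⟩ := Finite.surjective_of_injective hinj ⟨x, hx⟩
    have hx' : h * k * h⁻¹ * (k : G)⁻¹ = x := congrArg Subtype.val hk
    rw [← hx']
    have e : h * k * h⁻¹ * (k : G)⁻¹ = h * (k * h⁻¹ * (k : G)⁻¹) := by group
    rw [e]
    exact mul_mem (mem_inf.mp hh).1
      ((inferInstance : N.Normal).conj_mem _ (inv_mem (mem_inf.mp hh).1) _)
  have hNK : N ≤ K := fun x hx => by
    have := Cfsg.Agent.Lib.Frobenius.coe_subset_frobeniusKernel (inferInstance : N.Normal) hNR hx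
    rwa [← hKset] at this
  set f := QuotientGroup.mk' N with hf
  have hker : f.ker = N := QuotientGroup.ker_mk' N
  have hsurj : Function.Surjective f := QuotientGroup.mk'_surjective N
  haveI : (K.map f).Normal := hKn.map f hsurj
  have hdisj : K.map f ⊓ R.map f = ⊥ := by
    rw [eq_bot_iff]
    intro y hy
    obtain ⟨⟨k, hk, hky⟩, ⟨r, hr, hry⟩⟩ := mem_inf.mp hy
    have hmem : k⁻¹ * r ∈ N := by
      rw [← hker, MonoidHom.mem_ker, map_mul, map_inv, hky, hry, inv_mul_cancel]
    have hrK : r ∈ K := by simpa using mul_mem hk (hNK hmem)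
    have hr1 : r = 1 := Subgroup.disjoint_def.mp hc.disjoint hrK hr
    rw [mem_bot, ← hry, hr1, map_one]
  have hc' : Subgroup.IsComplement' (K.map f) (R.map f) := by
    apply isComplement'_of_disjoint_and_mul_eq_univ (disjoint_iff.mpr hdisj)
    rw [Set.eq_univ_iff_forall]
    intro y
    obtain ⟨g, rfl⟩ := hsurj y
    obtain ⟨⟨⟨k, hk⟩, ⟨r, hr⟩⟩, rfl⟩ := hc.2 g
    exact ⟨f k, mem_map_of_mem f hk, f r, mem_map_of_mem f hr, (map_mul f k r).symm⟩
  have hK' : K.map f ≠ ⊥ := by
    intro h
    rw [Subgroup.map_eq_bot_iff, hker] at h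
    exact hKN (hKset ▸ h)
  have hR' : R.map f ≠ ⊥ := by
    intro h
    rw [Subgroup.map_eq_bot_iff, hker] at h
    exact hR.1 (by rw [← hNR, inf_eq_right.mpr h])
  have hF : Cfsg.IsFrobeniusComplement (R.map f) := by
    rw [Cfsg.Agent.Lib.Frobenius.isFrobeniusComplement_iff_centralizer hc' hK' hR']
    rintro _ ⟨r, hr, rfl⟩ hr1
    rw [eq_bot_iff]
    intro y hy
    obtain ⟨⟨k, hk, rfl⟩, hyc⟩ := mem_inf.mp hy
    have hr1' : r ≠ 1 := fun h => hr1 (by rw [h, map_one])
    have hkey : ∀ a ∈ zpowers r, a * k * a⁻¹ * k⁻¹ ∈ N := by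
      rintro _ ⟨i, rfl⟩
      rw [← hker, MonoidHom.mem_ker]
      have hcm : Commute (f r ^ i) (f k) :=
        (show Commute (f r) (f k) from mem_centralizer_iff.mp hyc (f r) rfl).zpow_left i
      simp only [map_mul, map_inv, map_zpow, hcm.eq]
      group
    have hcop : (Nat.card (zpowers r)).Coprime (Nat.card N) := by
      have h1 := Cfsg.Agent.Lib.Frobenius.coprime_card_index hR
      have h2 : R.index = Nat.card K := hc.index_eq_card
      rw [h2] at h1
      exact (h1.coprime_dvd_left (card_dvd_of_le (zpowers_le.mpr hr))).coprime_dvd_right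
        (card_dvd_of_le hNK)
    obtain ⟨n, hn, hnk⟩ := Cfsg.Agent.Lib.Coprime.exists_fixed_mul
      (fun x _ => le_normalizer_of_normal (mem_top x)) hcop
      (Or.inl (Cfsg.Agent.Lib.Coprime.isSolvable_zpowers r)) hkey
    have hmem : n * k ∈ K ⊓ centralizer ({r} : Set G) := mem_inf.mpr ⟨mul_mem (hNK hn) hk,
      centralizer_le (Set.singleton_subset_iff.mpr (mem_zpowers r)) hnk⟩
    rw [hfix r hr hr1', mem_bot] at hmem
    rw [mem_bot, eq_inv_of_mul_eq_one_right hmem, map_inv, inv_eq_one]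
    exact (QuotientGroup.eq_one_iff n).mpr hn
  refine ⟨hF, ?_⟩
  rw [← Cfsg.Agent.Lib.Frobenius.coe_eq_frobeniusKernel hF inferInstance hc', ← hKset]
  rfl

end Cfsg.Agent.S3768
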