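import Cfsg.Statements.S3769
import Cfsg.Agent.Lib.Shult.Reduce
import Cfsg.Agent.Lib.PLocal.ActionQuotient
import Cfsg.Agent.Lib.PLocal.CoprimeGen

set_option autoImplicit false
open Cfsg

namespace Cfsg.Agent.S3769


open Cfsg Subgroup
open Cfsg.Agent.Lib

variable {Y : Type*} [Group Y] [Finite Y]

theorem key {V R Q : Subgroup Y} [V.Normal] {ℓ q r : ℕ} (hℓ : ℓ.Prime) (hq : q.Prime) (hr : r.Prime)
    (hV : Cfsg.IsElementaryAbelian ℓ V) (hℓq : ℓ ≠ q) (hℓr : ℓ ≠ r) (hqr : q ≠ r) (hq2 : q ≠ 2)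
    (hR : Nat.card R = r) (hQ : IsPGroup q Q) (hRQ : R ≤ normalizer (Q : Set Y))
    (hfix : V ⊓ centralizer (R : Set Y) = ⊥) :
    ∀ x ∈ R, ∀ y ∈ Q, x * y * x⁻¹ * y⁻¹ ∈ centralizer (V : Set Y) := by
  intro x hx y hy
  set j := PLocal.actHom V
  rw [← PLocal.actHom_eq_one_iff]
  set X := R.map j with hX
  set Q' := Q.map j with hQ'
  by_cases hXC : X ≤ centralizer (Q' : Set (PLocal.actGroup V))
  · have h := Subgroup.mem_centralizer_iff.mp (hXC (Subgroup.mem_map_of_mem j hx)) _
      (Subgroup.mem_map_of_mem j hy)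
    rw [map_mul, map_mul, map_mul, map_inv, map_inv, ← h, mul_inv_cancel_right, mul_inv_cancel]
  exfalso
  have : Fact r.Prime := ⟨hr⟩
  have hXcard : Nat.card X = r := by
    rcases (Nat.dvd_prime hr).mp (hR ▸ Subgroup.card_map_dvd R j) with h | h
    · exact absurd (Subgroup.card_eq_one.mp h) fun h' => hXC ((le_of_eq h').trans bot_le)
    · exact h
  have hXfaith : X ⊓ centralizer (Q' : Set (PLocal.actGroup V)) = ⊥ := by
    rcases (Nat.dvd_prime hr).mp (hXcard ▸ Subgroup.card_dvd_of_le (inf_le_left :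
      X ⊓ centralizer (Q' : Set (PLocal.actGroup V)) ≤ X)) with h | h
    · exact Subgroup.card_eq_one.mp h
    · exact absurd (inf_eq_left.mp (Subgroup.eq_of_le_of_card_ge inf_le_left
        (by rw [h, hXcard]))) hXC
  have hH : ∀ S : Subgroup Y, S.map j ≤ PLocal.actH V := fun S =>
    (PLocal.actHom_range V) ▸ Subgroup.map_le_range j S
  have hfV : PLocal.actV V ⊓ centralizer (X : Set (PLocal.actGroup V)) = ⊥ := by
    apply Subgroup.card_eq_one.mp
    show Nat.card (PLocal.fixOn (PLocal.actV V) X) = 1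
    rw [hX, PLocal.card_fixOn_act]
    show Nat.card ↥(V ⊓ centralizer (R : Set Y)) = 1
    rw [hfix, Subgroup.card_bot]
  obtain ⟨h2, -, -⟩ := Shult.fixedPoint_cases hℓ hq hr hℓq hℓr hqr X Q' (PLocal.actV V) hXcard
    (hQ.map j) ((Subgroup.map_mono hRQ).trans (Subgroup.le_normalizer_map j)) hXfaith
    (PLocal.actV_elemAb V hV) ((hH R).trans (PLocal.actH_le_normalizer V))
    ((hH Q).trans (PLocal.actH_le_normalizer V))
    (le_bot_iff.mp ((inf_le_inf_right _ (sup_le (hH R) (hH Q))).trans (PLocal.actH_faithful V).le))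
    hfV
  exact hq2 h2

/-- Let G and V be subgroups of a finite group with G solvable of odd order normalizing V, V an elementary abelian ℓ-group for a prime ℓ not dividing the order of G, and suppose G has a normal Hall subgroup K with a complement R of prime order. If C_V(R) = 1, then [R, K] centralizes V. -/
theorem result {X : Type*} [Group X] [Finite X] (G : Subgroup X) (hsolv : Group.IsSolvable G) (hodd : Odd (Nat.card G)) (V : Subgroup X) {ℓ : ℕ} (hℓ : ℓ.Prime) (hV : Cfsg.IsElementaryAbelian ℓ V) (hℓG : ¬ ℓ ∣ Nat.card G) (hGV : G ≤ Subgroup.normalizer (V : Set X)) (K R : Subgroup X) (hKG : K ≤ G) (hKn : G ≤ Subgroup.normalizer (K : Set X)) (hHall : (Nat.card K).Coprime (K.relIndex G)) (hRG : R ≤ G) (hR : (Nat.card R).Prime) (hKR : K ⊓ R = ⊥) (hKRG : K ⊔ R = G) (hCV : V ⊓ Subgroup.centralizer (R : Set X) = ⊥) : ⁅R, K⁆ ≤ Subgroup.centralizer (V : Set X) := by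
  -- orders
  have hRK : R ≤ Subgroup.normalizer (K : Set X) := hRG.trans hKn
  have hrel : K.relIndex G = Nat.card R := by
    have h1 : K.relIndex G = K.relIndex R := by
      rw [← hKRG, sup_comm]
      have : (K.subgroupOf (R ⊔ K)).Normal :=
        (Subgroup.normal_subgroupOf_iff_le_normalizer le_sup_right).mpr
          (sup_le hRK Subgroup.le_normalizer)
      have h3 : (R ⊔ K : Subgroup X) ≤ Subgroup.normalizer (K : Set X) := sup_le hRK Subgroup.le_normalizer
      have e := Subgroup.relIndex_sup_right (K := (K.subgroupOf (R ⊔ K))) (H := R.subgroupOf (R ⊔ K))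
      rw [← Subgroup.subgroupOf_sup le_sup_left le_sup_right] at e
      rw [Subgroup.relIndex_subgroupOf le_rfl, Subgroup.relIndex_subgroupOf le_sup_left] at e
      exact e
    rw [h1, ← Subgroup.inf_relIndex_right, hKR, Subgroup.relIndex_bot_left]
  set r := Nat.card R with hr
  have : Fact r.Prime := ⟨hR⟩
  have hKr : (Nat.card K).Coprime r := hrel ▸ hHall
  have hoddK : Odd (Nat.card K) := hodd.of_dvd_nat (Subgroup.card_dvd_of_le hKG)
  have hℓK : ¬ ℓ ∣ Nat.card K := fun h => hℓG (h.trans (Subgroup.card_dvd_of_le hKG))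
  have hℓr : ℓ ≠ r := fun h => hℓG (h ▸ Subgroup.card_dvd_of_le hRG)
  have hRp : IsPGroup r R := IsPGroup.of_card (n := 1) (pow_one r).symm
  -- the elements of `K` that commute with `R` on `V`
  let C := Subgroup.centralizer (V : Set X)
  let NV := Subgroup.normalizer (V : Set X)
  have hCn : ∀ g ∈ NV, ∀ c ∈ C, g * c * g⁻¹ ∈ C := by
    intro g hg c hc
    refine Subgroup.mem_centralizer_iff.mpr fun v hv => ?_
    have h := Subgroup.mem_centralizer_iff.mp hc _ ((Subgroup.mem_normalizer_iff''.mp hg v).mp hv)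
    calc v * (g * c * g⁻¹) = g * ((g⁻¹ * v * g) * c) * g⁻¹ := by group
      _ = g * (c * (g⁻¹ * v * g)) * g⁻¹ := by rw [h]
      _ = g * c * g⁻¹ * v := by group
  let T : Subgroup X :=
    { carrier := {k | k ∈ K ∧ ∀ x ∈ R, x * k * x⁻¹ * k⁻¹ ∈ C}
      one_mem' := ⟨K.one_mem, fun x _ => by simp⟩
      mul_mem' := fun {a b} ha hb => ⟨K.mul_mem ha.1 hb.1, fun x hx => by
        have h1 := ha.2 x hx
        have h2 := hCn a (hGV (hKG ha.1)) _ (hb.2 x hx)
        have := C.mul_mem h1 h2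
        convert this using 1
        group⟩
      inv_mem' := fun {a} ha => ⟨K.inv_mem ha.1, fun x hx => by
        have h2 := hCn a⁻¹ (hGV (hKG (K.inv_mem ha.1))) _ (C.inv_mem (ha.2 x hx))
        convert h2 using 1
        group⟩ }
  suffices hT : K ≤ T by
    rw [Subgroup.commutator_le]
    intro x hx k hk
    exact (hT hk).2 x hx
  have hTK : T ≤ K := fun k hk => hk.1
  refine le_of_eq (Subgroup.eq_of_le_of_card_ge hTK (Nat.le_of_dvd Nat.card_pos ?_)).symm
  rw [Nat.dvd_iff_prime_pow_dvd_dvd]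
  intro q k hq hqk
  rcases Nat.eq_zero_or_pos k with rfl | hk0
  · simp
  have : Fact q.Prime := ⟨hq⟩
  have hqK : q ∣ Nat.card K := (dvd_pow_self q hk0.ne').trans hqk
  obtain ⟨S, hS⟩ := PLocal.exists_invariant_sylow (p := r) hRp hRK hKr q
  set Q := (S : Subgroup K).map K.subtype
  have hQK : Q ≤ K := Subgroup.map_subtype_le _
  have hQT : Q ≤ T := by
    intro y hy
    refine ⟨hQK hy, fun x hx => ?_⟩
    have hq2 : q ≠ 2 := fun h => by
      rw [h] at hqK
      exact (Nat.not_even_iff_odd.mpr hoddK) (even_iff_two_dvd.mpr hqK)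
    let G' := ↥NV
    have hVn : (V.subgroupOf NV).Normal := Subgroup.normal_in_normalizer
    have hRN : R ≤ NV := hRG.trans hGV
    have hQN : Q ≤ NV := hQK.trans (hKG.trans hGV)
    have hel : Cfsg.IsElementaryAbelian ℓ (V.subgroupOf NV) :=
      PGroups.elemAb_mk (fun a ha b hb => Subtype.ext (PGroups.elemAb_comm hV
        (Subgroup.mem_subgroupOf.mp ha) (Subgroup.mem_subgroupOf.mp hb)))
        (fun a ha => Subtype.ext (hV.2 a (Subgroup.mem_subgroupOf.mp ha)))
    have h := key (V := V.subgroupOf NV) (R := R.subgroupOf NV) (Q := Q.subgroupOf NV) hℓ hq hR hel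
      (fun h => hℓK (h ▸ hqK)) hℓr
      (fun h => hR.not_dvd_one (hKr ▸ Nat.dvd_gcd (h ▸ hqK) dvd_rfl)) hq2
      (Nat.card_congr (Subgroup.subgroupOfEquivOfLe hRN).toEquiv)
      ((S.isPGroup'.map K.subtype).of_equiv (Subgroup.subgroupOfEquivOfLe hQN).symm)
      (fun a ha => Subgroup.mem_normalizer_iff.mpr fun b => by
        simp only [Subgroup.mem_subgroupOf, Subgroup.coe_mul, Subgroup.coe_inv]
        exact Subgroup.mem_normalizer_iff.mp (hS (Subgroup.mem_subgroupOf.mp ha)) b)
      (by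
        rw [eq_bot_iff]
        intro v hv
        have hv' : (v : X) ∈ V ⊓ Subgroup.centralizer (R : Set X) := by
          refine Subgroup.mem_inf.mpr ⟨Subgroup.mem_subgroupOf.mp hv.1,
            Subgroup.mem_centralizer_iff.mpr fun a ha => ?_⟩
          exact congrArg Subtype.val (Subgroup.mem_centralizer_iff.mp hv.2 ⟨a, hRN ha⟩
            (Subgroup.mem_subgroupOf.mpr ha))
        rw [hCV, Subgroup.mem_bot] at hv'
        exact Subgroup.mem_bot.mpr (Subtype.ext hv'))
      ⟨x, hRN hx⟩ (Subgroup.mem_subgroupOf.mpr hx) ⟨y, hQN hy⟩ (Subgroup.mem_subgroupOf.mpr hy)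
    refine Subgroup.mem_centralizer_iff.mpr fun v hv => ?_
    exact congrArg Subtype.val (Subgroup.mem_centralizer_iff.mp h ⟨v, Subgroup.le_normalizer hv⟩
      (Subgroup.mem_subgroupOf.mpr hv))
  refine dvd_trans ?_ (Subgroup.card_dvd_of_le hQT)
  rw [Subgroup.card_map_of_injective K.subtype_injective, S.card_eq_multiplicity]
  exact Nat.pow_dvd_pow q ((hq.pow_dvd_iff_le_factorization Nat.card_pos.ne').mp hqk)

end Cfsg.Agent.S3769
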