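import Cfsg.Statements.S3770
import Cfsg.Agent.S0035
import Cfsg.Agent.Lib.Frobenius.Basic
import Cfsg.Agent.Lib.Frobenius.Nilpotent

set_option autoImplicit false
open Cfsg

namespace Cfsg.Agent.S3770


set_option maxHeartbeats 800000

open Cfsg Subgroup
open scoped commutatorElement
open Cfsg.Agent.Lib

variable {B : Type*} [Group B] [Finite B] {W : Type*} [CommGroup W] [Finite W]

/-- points fixed by `A` -/
def fixA (θ : B →* MulAut W) (A : Subgroup B) : Subgroup W where
  carrier := {v | ∀ a ∈ A, θ a v = v}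
  mul_mem' := fun hu hv a ha => by rw [map_mul, hu a ha, hv a ha]
  one_mem' := fun a _ => map_one _
  inv_mem' := fun hu a ha => by rw [map_inv, hu a ha]

/-- if `A'` sits inside the derived group of `K`, is central in the action and `C_W(R) = ⟨w₀⟩`,
then `A` acts trivially -/
theorem trivial_of_central (θ : B →* MulAut W) {K A R : Subgroup B} [hAn : A.Normal]
    (hAK : A ≤ K) (hAder : A ≤ ⁅K, K⁆) (hcentral : ∀ a ∈ A, ∀ k ∈ K, θ a * θ k = θ k * θ a)
    (hcop : (Nat.card A).Coprime (Nat.card W))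
    (hfpf : ∀ r ∈ R, r ≠ 1 → ∀ a ∈ A, r * a = a * r → a = 1)
    {w₀ : W} (hw₀ : ∀ v : W, (∀ r ∈ R, θ r v = v) → v ∈ Subgroup.zpowers w₀) :
    ∀ a ∈ A, θ a = 1 := by
  classical
  have := Fintype.ofFinite A
  have := Fintype.ofFinite R
  set F := fixA θ A with hF
  set S := Subgroup.closure {x : W | ∃ a ∈ A, x = θ a w₀} with hS
  -- the orbit of `w₀` generates modulo the fixed points
  have hsumA : ∀ x : W, ∏ a : A, θ (a : B) x ∈ F := by
    intro x b hb
    rw [map_prod]
    exact Fintype.prod_equiv (Equiv.mulLeft ⟨b, hb⟩) _ _ fun a => by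
      rw [Equiv.coe_mulLeft, Subgroup.coe_mul, map_mul, MulAut.mul_apply]
  have hgen : ∀ v : W, v ∈ S ⊔ F := by
    intro v
    set T : W := ∏ a : A, ∏ r : R, θ ((a : B) * r * (a : B)⁻¹) v with hT
    have hTS : T ∈ S ⊔ F := by
      refine Subgroup.mem_sup_left (Subgroup.prod_mem _ fun a _ => ?_)
      have hfix : ∀ r₀ ∈ R, θ r₀ (∏ r : R, θ (r : B) (θ (a : B)⁻¹ v)) =
          ∏ r : R, θ (r : B) (θ (a : B)⁻¹ v) := by
        intro r₀ hr₀
        rw [map_prod]
        exact Fintype.prod_equiv (Equiv.mulLeft ⟨r₀, hr₀⟩) _ _ fun r => by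
          rw [Equiv.coe_mulLeft, Subgroup.coe_mul, map_mul, MulAut.mul_apply]
      obtain ⟨n, hn⟩ := hw₀ _ hfix
      have hn' : w₀ ^ n = ∏ r : R, θ (r : B) (θ (a : B)⁻¹ v) := hn
      have : ∏ r : R, θ ((a : B) * r * (a : B)⁻¹) v = (θ (a : B) w₀) ^ n := by
        rw [← map_zpow, hn', map_prod]
        exact Finset.prod_congr rfl fun r _ => by
          rw [map_mul, map_mul, MulAut.mul_apply, MulAut.mul_apply]
      rw [this]
      exact S.zpow_mem (Subgroup.subset_closure ⟨a, a.2, rfl⟩) n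
    rw [hT, Finset.prod_comm, ← Finset.mul_prod_erase Finset.univ _ (Finset.mem_univ (1 : R))] at hTS
    have h1 : ∏ a : A, θ ((a : B) * (1 : R) * (a : B)⁻¹) v = v ^ Nat.card A := by
      rw [Finset.prod_congr rfl (fun a _ => by
        rw [Subgroup.coe_one, mul_one, mul_inv_cancel, map_one, MulAut.one_apply]),
        Finset.prod_const, Finset.card_univ, Nat.card_eq_fintype_card]
    have h2 : ∏ r ∈ Finset.univ.erase (1 : R), ∏ a : A, θ ((a : B) * r * (a : B)⁻¹) v ∈ F := by
      refine Subgroup.prod_mem _ fun r hr => ?_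
      have hr1 : (r : B) ≠ 1 := fun h => Finset.ne_of_mem_erase hr (Subtype.ext h)
      let f : A → A := fun a => ⟨(a : B) * (r * (a : B)⁻¹ * (r : B)⁻¹),
        A.mul_mem a.2 (hAn.conj_mem _ (A.inv_mem a.2) r)⟩
      have hf : Function.Bijective f := by
        refine (Finite.injective_iff_bijective).mp fun a b hab => ?_
        have h : (a : B) * ((r : B) * (a : B)⁻¹ * (r : B)⁻¹) = b * (r * (b : B)⁻¹ * (r : B)⁻¹) :=
          congrArg Subtype.val hab
        have h' := hfpf r r.2 hr1 ((b : B)⁻¹ * a) (A.mul_mem (A.inv_mem b.2) a.2) (by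
          calc (r : B) * ((b : B)⁻¹ * a)
              = (b : B)⁻¹ * ((b : B) * (r * (b : B)⁻¹ * (r : B)⁻¹)) * r * a := by group
            _ = (b : B)⁻¹ * ((a : B) * (r * (a : B)⁻¹ * (r : B)⁻¹)) * r * a := by rw [h]
            _ = _ := by group)
        exact Subtype.ext (inv_mul_eq_one.mp h').symm
      have : ∏ a : A, θ ((a : B) * r * (a : B)⁻¹) v = ∏ a : A, θ (a : B) (θ (r : B) v) :=
        Fintype.prod_bijective f hf _ _ fun a => by
          rw [← MulAut.mul_apply, ← map_mul]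
          show θ _ v = θ ((a : B) * (r * (a : B)⁻¹ * (r : B)⁻¹) * r) v
          group
      rw [this]
      exact hsumA _
    rw [h1] at hTS
    have h3 : v ^ Nat.card A ∈ S ⊔ F := by
      have := (S ⊔ F).mul_mem hTS ((S ⊔ F).inv_mem (Subgroup.mem_sup_right h2))
      rwa [mul_inv_cancel_right] at this
    obtain ⟨c, hc⟩ := exists_pow_eq_self_of_coprime
      (x := v) (hcop.coprime_dvd_right (orderOf_dvd_natCard v))
    exact hc ▸ (S ⊔ F).pow_mem h3 c
  -- operators that commute with `A` modulo `F`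
  set q := QuotientGroup.mk' F with hq
  let Com : (W →* W) → Prop := fun f =>
    (∀ u ∈ F, f u ∈ F) ∧ ∀ a ∈ A, ∀ v, q (f (θ a v)) = q (θ a (f v))
  have hcongr : ∀ {f : W →* W}, Com f → ∀ {u v : W}, q u = q v → q (f u) = q (f v) := by
    intro f hf u v h
    rw [hq, QuotientGroup.mk'_apply, QuotientGroup.mk'_apply, QuotientGroup.eq] at h ⊢
    rw [← map_inv, ← map_mul]
    exact hf.1 _ h
  have hComK : ∀ k ∈ K, Com (θ k).toMonoidHom := by
    intro k hk
    refine ⟨fun u hu a ha => ?_, fun a ha v => ?_⟩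
    · show θ a (θ k u) = θ k u
      rw [← MulAut.mul_apply, hcentral a ha k hk, MulAut.mul_apply, hu a ha]
    · show q (θ k (θ a v)) = q (θ a (θ k v))
      rw [← MulAut.mul_apply, ← hcentral a ha k hk, MulAut.mul_apply]
  have hP : ∀ u ∈ S ⊔ F, ∃ e : W →* W, Com e ∧ q (e w₀) = q u ∧
      ∀ f, Com f → ∀ v, q (f (e v)) = q (e (f v)) := by
    intro u hu
    have hgens : S ⊔ F = Subgroup.closure ({x : W | ∃ a ∈ A, x = θ a w₀} ∪ (F : Set W)) := by
      rw [Subgroup.closure_union, Subgroup.closure_eq]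
    rw [hgens] at hu
    induction hu using Subgroup.closure_induction with
    | mem x hx =>
      rcases hx with ⟨a, ha, rfl⟩ | hx
      · exact ⟨(θ a).toMonoidHom, hComK a (hAK ha), rfl, fun f hf v => hf.2 a ha v⟩
      · refine ⟨1, ⟨fun _ _ => F.one_mem, fun a _ v => ?_⟩, ?_, fun f _ v => ?_⟩
        · simp
        · rw [MonoidHom.one_apply, map_one]
          exact ((QuotientGroup.eq_one_iff x).mpr hx).symm
        · simp
    | one =>
      refine ⟨1, ⟨fun _ _ => F.one_mem, fun a _ v => ?_⟩, ?_, fun f _ v => ?_⟩ <;> simp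
    | mul x y _ _ hx hy =>
      obtain ⟨e, he1, he2, he3⟩ := hx
      obtain ⟨d, hd1, hd2, hd3⟩ := hy
      refine ⟨e * d, ⟨fun u hu => F.mul_mem (he1.1 u hu) (hd1.1 u hu), fun a ha v => ?_⟩, ?_,
        fun f hf v => ?_⟩
      · simp only [MonoidHom.mul_apply, map_mul, he1.2 a ha v, hd1.2 a ha v]
      · simp only [MonoidHom.mul_apply, map_mul, he2, hd2]
      · simp only [MonoidHom.mul_apply, map_mul, he3 f hf v, hd3 f hf v]
    | inv x _ hx =>
      obtain ⟨e, he1, he2, he3⟩ := hx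
      refine ⟨e⁻¹, ⟨fun u hu => F.inv_mem (he1.1 u hu), fun a ha v => ?_⟩, ?_,
        fun f hf v => ?_⟩
      · simp only [MonoidHom.inv_apply, map_inv, he1.2 a ha v]
      · simp only [MonoidHom.inv_apply, map_inv, he2]
      · simp only [MonoidHom.inv_apply, map_inv, he3 f hf v]
  -- elements of `K` commute modulo `F`
  have hKcomm : ∀ x ∈ K, ∀ y ∈ K, ∀ v, q (θ x (θ y v)) = q (θ y (θ x v)) := by
    intro x hx y hy
    obtain ⟨e, he1, he2, he3⟩ := hP (θ y w₀) (hgen _)
    obtain ⟨d, hd1, hd2, hd3⟩ := hP (θ x w₀) (hgen _)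
    have hw : q (θ x (θ y w₀)) = q (θ y (θ x w₀)) := by
      calc q (θ x (θ y w₀)) = q ((θ x).toMonoidHom (e w₀)) := hcongr (hComK x hx) he2.symm
        _ = q (e ((θ x).toMonoidHom w₀)) := he3 _ (hComK x hx) _
        _ = q (e (d w₀)) := hcongr he1 hd2.symm
        _ = q (d (e w₀)) := hd3 e he1 _
        _ = q (d ((θ y).toMonoidHom w₀)) := hcongr hd1 he2
        _ = q ((θ y).toMonoidHom (d w₀)) := (hd3 _ (hComK y hy) _).symm
        _ = q (θ y (θ x w₀)) := hcongr (hComK y hy) hd2
    intro v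
    have hv := hgen v
    have hswap : ∀ a ∈ A, ∀ k ∈ K, ∀ u, θ a (θ k u) = θ k (θ a u) := fun a ha k hk u => by
      rw [← MulAut.mul_apply, hcentral a ha k hk, MulAut.mul_apply]
    let φ : W →* W ⧸ F := q.comp ((θ x).toMonoidHom.comp (θ y).toMonoidHom)
    let ψ : W →* W ⧸ F := q.comp ((θ y).toMonoidHom.comp (θ x).toMonoidHom)
    have hle : S ⊔ F ≤ MonoidHom.eqLocus φ ψ := by
      refine sup_le ((Subgroup.closure_le _).mpr ?_) fun u hu => ?_
      · rintro _ ⟨a, ha, rfl⟩
        show q (θ x (θ y (θ a w₀))) = q (θ y (θ x (θ a w₀)))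
        calc q (θ x (θ y (θ a w₀))) = q ((θ a).toMonoidHom (θ x (θ y w₀))) := by
              rw [MulEquiv.coe_toMonoidHom, hswap a ha x hx, hswap a ha y hy]
          _ = q ((θ a).toMonoidHom (θ y (θ x w₀))) := hcongr (hComK a (hAK ha)) hw
          _ = q (θ y (θ x (θ a w₀))) := by
              rw [MulEquiv.coe_toMonoidHom, hswap a ha y hy, hswap a ha x hx]
      · show q (θ x (θ y u)) = q (θ y (θ x u))
        have h1 := (hComK x hx).1 _ ((hComK y hy).1 u hu)
        have h2 := (hComK y hy).1 _ ((hComK x hx).1 u hu)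
        exact ((QuotientGroup.eq_one_iff _).mpr h1).trans ((QuotientGroup.eq_one_iff _).mpr h2).symm
    exact hle hv
  let D : Subgroup B :=
    { carrier := {g | (∀ u, u ∈ F ↔ θ g u ∈ F) ∧ ∀ v, q (θ g v) = q v}
      one_mem' := ⟨fun u => by rw [map_one, MulAut.one_apply], fun v => by
        rw [map_one, MulAut.one_apply]⟩
      mul_mem' := fun {g h} hg hh => ⟨fun u => by
        rw [map_mul, MulAut.mul_apply, ← hg.1, ← hh.1], fun v => by
        rw [map_mul, MulAut.mul_apply, hg.2, hh.2]⟩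
      inv_mem' := fun {g} hg => ⟨fun u => by
        rw [hg.1 (θ g⁻¹ u), ← MulAut.mul_apply, ← map_mul, mul_inv_cancel, map_one,
          MulAut.one_apply], fun v => by
        rw [← hg.2 (θ g⁻¹ v), ← MulAut.mul_apply, ← map_mul, mul_inv_cancel, map_one,
          MulAut.one_apply]⟩ }
  have hD : ⁅K, K⁆ ≤ D := by
    rw [Subgroup.commutator_le]
    intro x hx y hy
    have hmem : ∀ k ∈ K, ∀ u, u ∈ F ↔ θ k u ∈ F := fun k hk u => by
      refine ⟨(hComK k hk).1 u, fun h => ?_⟩
      have := (hComK k⁻¹ (K.inv_mem hk)).1 _ h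
      rwa [MulEquiv.coe_toMonoidHom, ← MulAut.mul_apply, ← map_mul, inv_mul_cancel, map_one,
        MulAut.one_apply] at this
    refine ⟨fun u => hmem _ (K.mul_mem (K.mul_mem (K.mul_mem hx hy) (K.inv_mem hx)) (K.inv_mem hy)) u,
      fun v => ?_⟩
    rw [commutatorElement_def, map_mul, map_mul, map_mul, MulAut.mul_apply, MulAut.mul_apply,
      MulAut.mul_apply, hKcomm x hx y hy]
    have hcancel : ∀ g u, θ g (θ g⁻¹ u) = u := fun g u => by
      rw [← MulAut.mul_apply, ← map_mul, mul_inv_cancel, map_one, MulAut.one_apply]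
    rw [hcancel, hcancel]
  intro a ha
  refine MulEquiv.ext fun v => ?_
  rw [MulAut.one_apply]
  have h := (hD (hAder ha)).2 v
  rw [hq, QuotientGroup.mk'_apply, QuotientGroup.mk'_apply, eq_comm, QuotientGroup.eq] at h
  set f := v⁻¹ * θ a v with hf
  have hav : θ a v = v * f := by rw [hf, mul_inv_cancel_left]
  have hn : ∀ n : ℕ, θ (a ^ n) v = v * f ^ n := by
    intro n
    induction n with
    | zero => simp
    | succ n ih =>
      rw [pow_succ', map_mul, MulAut.mul_apply, ih, map_mul, map_pow, h a ha, hav, mul_assoc,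
        ← pow_succ']
  have h1 : f ^ orderOf a = 1 := by
    have := hn (orderOf a)
    rw [pow_orderOf_eq_one, map_one, MulAut.one_apply] at this
    exact mul_eq_left.mp this.symm
  have hf1 : f = 1 := orderOf_eq_one_iff.mp (Nat.eq_one_of_dvd_coprimes hcop
    ((orderOf_dvd_of_pow_eq_one h1).trans (Subgroup.orderOf_dvd_natCard A ha)) (orderOf_dvd_natCard f))
  rw [hav, hf1, mul_one]

/-- Let G and V be subgroups of a finite group with G a Frobenius group with complement R of prime order and kernel K, G normalizing V, and V an elementary abelian ℓ-group for a prime ℓ not dividing the order of G. If C_V(R) has order ℓ, then the derived subgroup of K centralizes V. -/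
theorem result {X : Type*} [Group X] [Finite X] (G : Subgroup X) (V : Subgroup X) {ℓ : ℕ} (hℓ : ℓ.Prime) (hV : Cfsg.IsElementaryAbelian ℓ V) (hℓG : ¬ ℓ ∣ Nat.card G) (hGV : G ≤ Subgroup.normalizer (V : Set X)) (R : Subgroup ↥G) (hR : Cfsg.IsFrobeniusComplement R) (hRp : (Nat.card R).Prime) (hCV : Nat.card ↥(V ⊓ Subgroup.centralizer ((R.map G.subtype : Subgroup X) : Set X)) = ℓ) : ⁅Subgroup.closure (Subtype.val '' Cfsg.frobeniusKernel R), Subgroup.closure (Subtype.val '' Cfsg.frobeniusKernel R)⁆ ≤ Subgroup.centralizer (V : Set X) := by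
  have : IsMulCommutative ↥V := hV.1
  let _ : CommGroup ↥V := { V.toGroup with mul_comm := hV.1.is_comm.comm }
  let θ : ↥G →* MulAut ↥V := (Subgroup.normalizerMonoidHom V).comp (Subgroup.inclusion hGV)
  obtain ⟨K, hKset, hKn, hc⟩ := Cfsg.Agent.S0035.result R hR
  have := hKn
  rw [← hKset]
  have hKne : K ≠ ⊥ := by
    intro h
    have := hc.card_mul_card
    rw [h, card_bot, one_mul] at this
    exact hR.2.1 (eq_top_of_card_eq R this)
  have hfix := (Frobenius.isFrobeniusComplement_iff_centralizer hc hKne hR.1).mp hR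
  have hfpf : ∀ r ∈ R, r ≠ 1 → ∀ k ∈ K, r * k = k * r → k = 1 := by
    intro r hr hr1 k hk hcomm
    have : k ∈ K ⊓ centralizer ({r} : Set ↥G) := Subgroup.mem_inf.mpr ⟨hk,
      Subgroup.mem_centralizer_singleton_iff.mpr hcomm.symm⟩
    rwa [hfix r hr hr1, Subgroup.mem_bot] at this
  -- the kernel is nilpotent
  have hnil : Group.IsNilpotent ↥K := by
    have : Fact (Nat.card R).Prime := ⟨hRp⟩
    obtain ⟨r, hr, hr1⟩ := R.bot_or_exists_ne_one.resolve_left hR.1
    let φ : ↥K ≃* ↥K := MulAut.conjNormal r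
    refine Frobenius.Nilpotent.isNilpotent_of_fixedPointFree hRp φ ?_ ?_
    · intro k hk
      have h1 : r * (k : ↥G) * r⁻¹ = k := congrArg Subtype.val hk
      exact Subtype.ext (hfpf r hr hr1 k k.2 (mul_inv_eq_iff_eq_mul.mp h1))
    · intro k
      have : ∀ j : ℕ, ((⇑φ)^[j] k : ↥G) = r ^ j * (k : ↥G) * (r ^ j)⁻¹ := by
        intro j
        induction j with
        | zero => simp
        | succ j ih =>
          rw [Function.iterate_succ_apply', pow_succ']
          show r * ((⇑φ)^[j] k : ↥G) * r⁻¹ = _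
          rw [ih]; group
      apply Subtype.ext
      rw [this, orderOf_dvd_iff_pow_eq_one.mp (Subgroup.orderOf_dvd_natCard R hr)]
      simp
  -- coprimality
  have : Fact ℓ.Prime := ⟨hℓ⟩
  obtain ⟨m, hm⟩ := IsPGroup.iff_card.mp (show IsPGroup ℓ ↥V from fun x =>
    ⟨1, by rw [pow_one]; exact Subtype.ext (hV.2 x x.2)⟩)
  have hcopG : (Nat.card ↥G).Coprime (Nat.card ↥V) := by
    rw [hm]; exact ((hℓ.coprime_iff_not_dvd.mpr hℓG).symm).pow_right m
  -- a generator of `C_V(R)`
  set L := V ⊓ Subgroup.centralizer ((R.map G.subtype : Subgroup X) : Set X)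
  obtain ⟨w, hw, hw1⟩ := L.bot_or_exists_ne_one.resolve_left (fun h => by
    rw [h, Subgroup.card_bot] at hCV; exact hℓ.ne_one hCV.symm)
  have hwV := (Subgroup.mem_inf.mp hw).1
  have hLw : Subgroup.zpowers w = L := Subgroup.eq_of_le_of_card_ge (Subgroup.zpowers_le.mpr hw) (by
    rw [hCV, Nat.card_zpowers, orderOf_eq_prime (hV.2 w hwV) hw1])
  have hw₀ : ∀ v : ↥V, (∀ r ∈ R, θ r v = v) → v ∈ Subgroup.zpowers (⟨w, hwV⟩ : ↥V) := by
    intro v hv
    have hvL : (v : X) ∈ L := by
      refine Subgroup.mem_inf.mpr ⟨v.2, Subgroup.mem_centralizer_iff.mpr ?_⟩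
      rintro _ ⟨r, hr, rfl⟩
      exact mul_inv_eq_iff_eq_mul.mp (congrArg Subtype.val (hv r hr))
    rw [← hLw] at hvL
    obtain ⟨n, hn⟩ := hvL
    exact ⟨n, Subtype.ext (by simpa using hn)⟩
  -- the last term of the lower central series acting non-trivially
  rw [show Subgroup.closure (Subtype.val '' (K : Set ↥G)) = K.map G.subtype from
    Subgroup.closure_eq (K.map G.subtype), ← Subgroup.map_commutator]
  classical
  suffices hker : ⁅K, K⁆ ≤ θ.ker by
    rintro _ ⟨g, hg, rfl⟩
    refine Subgroup.mem_centralizer_iff.mpr fun v hv => ?_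
    have h := congrArg Subtype.val (MulEquiv.congr_fun (MonoidHom.mem_ker.mp (hker hg)) ⟨v, hv⟩)
    exact (mul_inv_eq_iff_eq_mul.mp h).symm
  by_contra hnot
  obtain ⟨n, hn⟩ := (Subgroup.isNilpotent_iff_lowerCentralSeries (S := K)).mp hnil
  let γ : ℕ → Subgroup ↥G := fun i => K.lowerCentralSeries i
  have hex : ∃ i, γ i ≤ θ.ker := ⟨n, (le_of_eq hn).trans bot_le⟩
  have hγn : ∀ i, (γ i).Normal := by
    intro i
    induction i with
    | zero => exact hKn
    | succ i ih => exact Subgroup.commutator_normal _ _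
  obtain ⟨i, hi⟩ : ∃ i, Nat.find hex = i + 2 := by
    refine ⟨Nat.find hex - 2, ?_⟩
    have h0 : ¬ Nat.find hex = 0 := fun h => hnot ((Subgroup.commutator_le_left K K).trans
      (by simpa [γ, h] using Nat.find_spec hex))
    have h1 : ¬ Nat.find hex = 1 := fun h => hnot (by simpa [γ, h] using Nat.find_spec hex)
    omega
  have hA := Nat.find_min hex (show i + 1 < Nat.find hex by omega)
  have := hγn (i + 1)
  refine hA fun a ha => MonoidHom.mem_ker.mpr (trivial_of_central θ (K := K) (R := R) (A := γ (i + 1))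
    (K.lowerCentralSeries_antitone (Nat.zero_le _))
    (K.lowerCentralSeries_antitone (Nat.succ_le_succ (Nat.zero_le i))) ?_
    (hcopG.coprime_dvd_left (Subgroup.card_subgroup_dvd_card _))
    (fun r hr hr1 a ha h => hfpf r hr hr1 a (K.lowerCentralSeries_antitone (Nat.zero_le _) ha) h)
    hw₀ a ha)
  intro a ha k hk
  have h : ⁅a, k⁆ ∈ γ (Nat.find hex) := hi ▸ Subgroup.commutator_mem_commutator ha hk
  have h1 := MonoidHom.mem_ker.mp (Nat.find_spec hex h)
  rw [map_commutatorElement, commutatorElement_eq_one_iff_commute] at h1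
  exact h1

end Cfsg.Agent.S3770
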