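import Cfsg.Statements.S3771
import Cfsg.Agent.Lib.PGroups.MaxAbelian

set_option autoImplicit false
open Cfsg

namespace Cfsg.Agent.S3771



/-- Let p be a prime and R a finite p-group of p-rank at most 2 (no elementary abelian subgroup of order p³) in which every element has order dividing p. Then R has order at most p³. -/
theorem result {R : Type*} [Group R] [Finite R] {p : ℕ} [Fact p.Prime] (hR : IsPGroup p R) (hrank : Cfsg.PRankLE p 2 R) (hexp : ∀ x : R, x ^ p = 1) : Nat.card R ≤ p ^ 3 := by
  obtain ⟨A, -, hAn, hAc, hmax⟩ :=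
    Cfsg.Agent.Lib.PGroups.exists_maximal_normal_abelian (G := R) ⊥ inferInstance
  haveI := hAn
  have hC := Cfsg.Agent.Lib.PGroups.centralizer_eq_self_of_maximal hR hAc
    (fun B h1 h2 h3 => hmax B h1 h2 h3)
  obtain ⟨a, ha⟩ := IsPGroup.iff_card.mp (hR.to_subgroup A)
  have hle := hrank A hAc (fun x _ => hexp x)
  rw [ha, Nat.pow_le_pow_iff_right (Fact.out : p.Prime).one_lt] at hle
  refine (Cfsg.Agent.Lib.PGroups.card_le_of_centralizer_le hR hC.le ha).trans ?_
  refine Nat.pow_le_pow_right (Fact.out : p.Prime).pos ?_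
  interval_cases a <;> decide

end Cfsg.Agent.S3771
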