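import Cfsg.Statements.S3772
import Cfsg.Agent.Lib.SquareMaps.Basic

set_option autoImplicit false
open Cfsg

namespace Cfsg.Agent.S3772

open Cfsg.Agent.Lib.SquareMaps

/-- Let G be a finite 2-group whose Frattini subgroup Φ(G) has order 2, with |G : Φ(G)| = 2^d, and let j be the number of elements x of G with x² = 1. Then j = 2^d, or j = 2^d + 2^(d−r) or j = 2^d − 2^(d−r) for some positive integer r with 2r ≤ d. Moreover if d = 2r and j is 2^d + 2^r or 2^d − 2^r, then G is extraspecial. -/
theorem result {G : Type*} [Group G] [Finite G] (hG : IsPGroup 2 G) (hΦ : Nat.card (frattini G) = 2) (d : ℕ) (hd : (frattini G).index = 2 ^ d) : (Nat.card {x : G // x ^ 2 = 1} = 2 ^ d ∨ ∃ r : ℕ, 1 ≤ r ∧ 2 * r ≤ d ∧ (Nat.card {x : G // x ^ 2 = 1} = 2 ^ d + 2 ^ (d - r) ∨ Nat.card {x : G // x ^ 2 = 1} + 2 ^ (d - r) = 2 ^ d)) ∧ (∀ r : ℕ, d = 2 * r → (Nat.card {x : G // x ^ 2 = 1} = 2 ^ d + 2 ^ r ∨ Nat.card {x : G // x ^ 2 = 1} + 2 ^ r = 2 ^ d) → Cfsg.IsExtraspecial 2 G) := by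
  classical
  haveI : Fact (Nat.Prime 2) := ⟨Nat.prime_two⟩
  haveI := Fintype.ofFinite G
  set M := frattini G with hMdef
  have hsq : ∀ x : G, x ^ 2 ∈ M := sq_mem_frattini hG
  have hMn : M.Normal := normal_of_sq_mem M hsq
  have hexp : ∀ m ∈ M, m ^ 2 = 1 := by
    intro m hm
    have h : (⟨m, hm⟩ : M) ^ Nat.card M = 1 := pow_card_eq_one'
    rw [hΦ] at h
    simpa using congrArg Subtype.val h
  obtain ⟨z, hz⟩ : ∃ z : M, z ≠ 1 := by
    haveI : Nontrivial M := Finite.one_lt_card_iff_nontrivial.1 (by omega)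
    exact exists_ne 1
  have htwo : ∀ m : M, m = 1 ∨ m = z := by
    intro m
    by_contra h
    push Not at h
    have h3 : ({1, z, m} : Finset M).card = 3 := by
      rw [Finset.card_insert_of_notMem (by simp [hz.symm, h.1.symm]),
        Finset.card_insert_of_notMem (by simp [h.2.symm]), Finset.card_singleton]
    have h4 := Finset.card_le_univ ({1, z, m} : Finset M)
    rw [← Nat.card_eq_fintype_card, hΦ] at h4
    omega
  have hcen : M ≤ Subgroup.center G := by
    intro m hm
    rw [Subgroup.mem_center_iff]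
    intro g
    by_cases hm1 : m = 1
    · subst hm1; simp
    have h1 : g * m * g⁻¹ ≠ 1 := fun h => hm1 (by simpa using h)
    have hmz : (⟨m, hm⟩ : M) = z := (htwo _).resolve_left (by simpa using hm1)
    have h2 : (⟨g * m * g⁻¹, hMn.conj_mem m hm g⟩ : M) = z := (htwo _).resolve_left (by simpa using h1)
    exact mul_inv_eq_iff_eq_mul.1 (congrArg Subtype.val (h2.trans hmz.symm))
  obtain ⟨χ, hχ⟩ := exists_sign_hom hexp hz
  have hχz : χ z = -1 := (Int.units_eq_one_or _).resolve_left hχ
  have hcardG : Nat.card G = 2 ^ (d + 1) := by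
    rw [← Subgroup.card_mul_index M, hΦ, hd]; ring
  set c := Nat.card {x : G // x ^ 2 = 1} with hc
  have hsum : qsum hsq χ = 2 * (c : ℤ) - 2 ^ (d + 1) := by
    have h1 : ∀ x : G, (χ (sq M hsq x) : ℤ) = 2 * (if x ^ 2 = 1 then 1 else 0) - 1 := by
      intro x
      rcases htwo (sq M hsq x) with h | h
      · have h' : x ^ 2 = 1 := congrArg Subtype.val h
        rw [h, map_one, if_pos h']; simp
      · have h' : x ^ 2 ≠ 1 := by
          have h0 : x ^ 2 = (z : G) := congrArg Subtype.val h
          rw [h0]; simpa using hz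
        rw [h, hχz, if_neg h']; simp
    rw [qsum, Finset.sum_congr rfl fun x _ => h1 x, Finset.sum_sub_distrib, ← Finset.mul_sum,
      Finset.sum_boole, hc, Nat.card_eq_fintype_card, Fintype.card_subtype]
    simp [← Nat.card_eq_fintype_card, hcardG]
  have hrad : radical hsq hcen χ ≤ Subgroup.center G := by
    intro y hy
    rw [Subgroup.mem_center_iff]
    intro g
    rcases htwo (commHom hsq hcen g y) with h | h
    · exact commutatorElement_eq_one_iff_mul_comm.1 (congrArg Subtype.val h)
    · have := hy g; rw [h] at this; exact absurd this hχ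
  have hR : radical hsq hcen χ = Subgroup.center G := le_antisymm hrad (center_le_radical hsq hcen χ)
  obtain ⟨k, hk⟩ : ∃ k, Nat.card (Subgroup.center G) = 2 ^ (k + 1) := by
    obtain ⟨n, hn⟩ := IsPGroup.iff_card.1 (hG.to_subgroup (Subgroup.center G))
    refine ⟨n - 1, ?_⟩
    have h2 : 2 ∣ 2 ^ n := hn ▸ hΦ ▸ Subgroup.card_dvd_of_le hcen
    rcases n with _ | n
    · norm_num at h2
    · simpa using hn
  have hex : ∀ j : ℕ, qsum hsq χ ^ 2 = 2 ^ j → ∃ i : ℕ, j = 2 * i ∧
      ((2 * (c : ℤ) = 2 ^ (d + 1) + 2 ^ i) ∨ (2 * (c : ℤ) + 2 ^ i = 2 ^ (d + 1))) := by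
    intro j hj
    have h1 : (qsum hsq χ).natAbs ^ 2 = 2 ^ j := by
      rw [← Int.natAbs_pow, hj]; simp [Int.natAbs_pow]
    obtain ⟨i, -, hi⟩ := (Nat.dvd_prime_pow Nat.prime_two).1 (h1 ▸ dvd_pow_self _ two_ne_zero)
    rw [hi, ← pow_mul] at h1
    refine ⟨i, by have := Nat.pow_right_injective (le_refl 2) h1; omega, ?_⟩
    rcases Int.natAbs_eq (qsum hsq χ) with h | h <;> rw [hi, hsum] at h <;> push_cast at h
    · left; linarith
    · right; linarith
  have hpos : 1 ≤ c := by
    rw [hc]; haveI : Nonempty {x : G // x ^ 2 = 1} := ⟨⟨1, one_pow 2⟩⟩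
    exact Nat.card_pos
  have hlt : c < 2 ^ (d + 1) := by
    rw [hc, ← hcardG, Nat.card_eq_fintype_card, Nat.card_eq_fintype_card]
    obtain ⟨x, hx⟩ : ∃ x : G, x ^ 2 ≠ 1 := by
      by_contra h
      push Not at h
      exact hz (Subtype.ext (Subgroup.mem_bot.1
        (frattini_le (⊥ : Subgroup G) (fun x => by simpa using h x) z.2)))
    exact Fintype.card_subtype_lt (x := x) hx
  have hq := qsum_sq hsq hcen hexp χ
  rw [hR, hk, hcardG] at hq
  have hpow : (1 : ℕ) ≤ 2 ^ d := Nat.one_le_two_pow
  refine ⟨?_, ?_⟩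
  · rcases hq with h0 | h1
    · left
      rw [hsum] at h0
      rw [pow_succ] at h0
      have : (c : ℤ) = ((2 ^ d : ℕ) : ℤ) := by push_cast; linarith
      exact_mod_cast this
    · obtain ⟨i, hi, hci⟩ := hex (d + 1 + (k + 1)) (by rw [h1]; push_cast; ring)
      right
      have hkd : k ≤ d := by
        have h : 2 ^ (k + 1) ≤ 2 ^ (d + 1) := by
          rw [← hk, ← hcardG]; exact Nat.le_of_dvd Nat.card_pos (Subgroup.card_subgroup_dvd_card _)
        have := (Nat.pow_le_pow_iff_right (le_refl 2)).1 h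
        omega
      obtain ⟨s, rfl⟩ : ∃ s, i = s + 1 := ⟨i - 1, by omega⟩
      have hs : s < d := by
        by_contra hs
        have hsd : s = d := by omega
        rw [hsd] at hci
        rcases hci with h | h
        · have : (c : ℤ) = ((2 ^ (d + 1) : ℕ) : ℤ) := by push_cast; linarith
          have : c = 2 ^ (d + 1) := by exact_mod_cast this
          omega
        · omega
      refine ⟨d - s, by omega, by omega, ?_⟩
      rw [Nat.sub_sub_self hs.le]
      rw [pow_succ, pow_succ] at hci
      rcases hci with h | h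
      · left
        have : (c : ℤ) = ((2 ^ d + 2 ^ s : ℕ) : ℤ) := by push_cast; linarith
        exact_mod_cast this
      · right
        have : ((c + 2 ^ s : ℕ) : ℤ) = ((2 ^ d : ℕ) : ℤ) := by push_cast; linarith
        exact_mod_cast this
  · intro r hdr hcr
    have hd0 : 1 ≤ d := by
      by_contra h
      have hd0 : d = 0 := by omega
      rw [hd0, pow_zero, Subgroup.index_eq_one] at hd
      have h1 := frattini_nongenerating (G := G) (K := ⊥) (by rw [← hMdef, hd]; simp)
      have hcard : Nat.card G = 1 := by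
        rw [← Subgroup.card_top (G := G), ← h1, Subgroup.card_bot]
      have := hcardG ▸ hcard
      omega
    have hpr : (1 : ℤ) ≤ 2 ^ r := one_le_pow₀ (by norm_num)
    rcases hq with h0 | h1
    · exfalso
      rw [hsum, pow_succ] at h0
      have : (c : ℤ) = 2 ^ d := by linarith
      have hc2 : c = 2 ^ d := by exact_mod_cast this
      have : 0 < 2 ^ r := by positivity
      omega
    obtain ⟨i, hi, hci⟩ := hex (d + 1 + (k + 1)) (by rw [h1]; push_cast; ring)
    have hir : i = r + 1 := by
      have : (2 : ℤ) ^ i = 2 ^ (r + 1) := by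
        rw [pow_succ] at hci
        have hpi : (0 : ℤ) < 2 ^ i := by positivity
        rcases hcr with hh | hh <;> rcases hci with h | h
        all_goals
          have hh' := congrArg (Nat.cast : ℕ → ℤ) hh
          push_cast at hh'
          rw [pow_succ]
          linarith
      have : (2 : ℕ) ^ i = 2 ^ (r + 1) := by exact_mod_cast this
      exact Nat.pow_right_injective (le_refl 2) this
    have hk0 : k = 0 := by omega
    have hZ : Subgroup.center G = M :=
      (Subgroup.eq_of_le_of_card_ge hcen (by rw [hk, hk0, hΦ]; norm_num)).symm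
    have hna : ¬ IsMulCommutative G := by
      intro h
      have h2 : Nat.card (Subgroup.center G) = Nat.card G := by
        rw [show Subgroup.center G = ⊤ from (Subgroup.eq_top_iff' _).2 fun x =>
          Subgroup.mem_center_iff.2 fun g => h.is_comm.comm g x, Subgroup.card_top]
      rw [hk, hk0, hcardG] at h2
      have := Nat.pow_right_injective (le_refl 2) h2
      omega
    have hcomm : commutator G = M := by
      apply Subgroup.eq_of_le_of_card_ge
      · rw [commutator_eq_closure, Subgroup.closure_le]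
        rintro _ ⟨a, b, rfl⟩
        exact commutator_mem M hsq a b
      · rw [hΦ]
        have : commutator G ≠ ⊥ := fun h => hna ((commutator_eq_bot_iff G).1 h)
        exact (Subgroup.one_lt_card_iff_ne_bot _).2 this
    exact ⟨⟨hG, hZ.symm, hcomm.trans hZ.symm⟩, hZ ▸ hΦ⟩

end Cfsg.Agent.S3772
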