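import Cfsg.Statements.S3773
import Cfsg.Agent.Lib.SquareMaps.Basic

set_option autoImplicit false
open Cfsg

namespace Cfsg.Agent.S3773

open Cfsg.Agent.Lib.SquareMaps
open scoped commutatorElement

variable {G : Type*} [Group G]

/-- The main bound. -/
theorem bound [Finite G] (hG : IsPGroup 2 G) (M : Subgroup G) (hsq : ∀ x : G, x ^ 2 ∈ M)
    (hcen : M ≤ Subgroup.center G) (hexp : ∀ m ∈ M, m ^ 2 = 1) :
    Nat.card G * Nat.card (Subgroup.center G) ≤ (Nat.card M * Nat.card {x : G // x ^ 2 = 1}) ^ 2 := by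
  classical
  haveI := Fintype.ofFinite G
  haveI : Fintype (M →* ℤˣ) := Fintype.ofFinite _
  obtain ⟨n, hn⟩ := IsPGroup.iff_card.1 hG
  obtain ⟨z, hz⟩ := IsPGroup.iff_card.1 (hG.to_subgroup (Subgroup.center G))
  have hchar : Fintype.card (M →* ℤˣ) ≤ Nat.card M := by
    have hmain : ∑ m : M, ∑ χ : M →* ℤˣ, (χ m : ℤ) = (Fintype.card (M →* ℤˣ) : ℤ) := by
      simp only [sum_hom_eq hexp]
      simp
    rw [Finset.sum_comm] at hmain
    have h1 : ∑ χ : M →* ℤˣ, ∑ m : M, (χ m : ℤ) = (Nat.card M : ℤ) := by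
      rw [Finset.sum_eq_single (1 : M →* ℤˣ)]
      · simp [Nat.card_eq_fintype_card]
      · intro χ _ hχ; exact sum_units_hom χ hχ
      · intro h; exact absurd (Finset.mem_univ _) h
    rw [h1] at hmain
    exact_mod_cast hmain.ge
  set e := (n + z + 1) / 2 with he
  have hdvd : ∀ χ : M →* ℤˣ, (2 : ℤ) ^ e ∣ qsum hsq χ := by
    intro χ
    rcases qsum_sq hsq hcen hexp χ with h | h
    · rw [h]; exact dvd_zero _
    obtain ⟨r, hr⟩ := IsPGroup.iff_card.1 (hG.to_subgroup (radical hsq hcen χ))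
    have hzr : z ≤ r := by
      apply (Nat.pow_le_pow_iff_right (le_refl 2)).1
      rw [← hz, ← hr]
      exact Nat.le_of_dvd Nat.card_pos (Subgroup.card_dvd_of_le (center_le_radical hsq hcen χ))
    have h1 : (qsum hsq χ).natAbs ^ 2 = 2 ^ (n + r) := by
      rw [← Int.natAbs_pow, h, hn, hr, pow_add, Int.natAbs_natCast]
    obtain ⟨i, -, hi⟩ := (Nat.dvd_prime_pow Nat.prime_two).1 (h1 ▸ dvd_pow_self _ two_ne_zero)
    rw [hi, ← pow_mul] at h1
    have h2 := Nat.pow_right_injective (le_refl 2) h1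
    rw [← Int.natAbs_dvd_natAbs, hi]
    simpa [Int.natAbs_pow] using pow_dvd_pow 2 (by omega : e ≤ i)
  have hsum : ∑ χ : M →* ℤˣ, qsum hsq χ =
      ((Fintype.card (M →* ℤˣ) * Nat.card {x : G // x ^ 2 = 1} : ℕ) : ℤ) := by
    simp only [qsum]
    rw [Finset.sum_comm]
    simp only [sum_hom_eq hexp]
    rw [Finset.sum_ite, Finset.sum_const_zero, add_zero, Finset.sum_const, Nat.card_eq_fintype_card,
      Fintype.card_subtype]
    simp only [Lib.SquareMaps.sq, Subtype.ext_iff, Subgroup.coe_one, smul_eq_mul, nsmul_eq_mul]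
    push_cast; ring
  have h2 : 2 ^ e ∣ Fintype.card (M →* ℤˣ) * Nat.card {x : G // x ^ 2 = 1} := by
    have := Finset.dvd_sum (s := Finset.univ) fun χ _ => hdvd χ
    rw [hsum] at this
    exact_mod_cast this
  have h3 : 2 ^ e ≤ Nat.card M * Nat.card {x : G // x ^ 2 = 1} := by
    haveI : Nonempty {x : G // x ^ 2 = 1} := ⟨⟨1, one_pow 2⟩⟩
    exact (Nat.le_of_dvd (Nat.mul_pos Fintype.card_pos Nat.card_pos) h2).trans
      (Nat.mul_le_mul_right _ hchar)
  calc Nat.card G * Nat.card (Subgroup.center G) = 2 ^ (n + z) := by rw [hn, hz, pow_add]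
    _ ≤ 2 ^ (e + e) := Nat.pow_le_pow_right (by norm_num) (by omega)
    _ = (2 ^ e) ^ 2 := by rw [← pow_mul]; congr 1; omega
    _ ≤ _ := Nat.pow_le_pow_left h3 2

/-- Let G be a finite 2-group of nilpotency class at most 2 and exponent dividing 4 in which the elements x with x² = 1 form a subgroup N. Then |G| ≤ |N|³, and |G| < |N|³ unless G is special. -/
theorem result {G : Type*} [Group G] [Finite G] (hG : IsPGroup 2 G) (hcl : (⊤ : Subgroup G).lowerCentralSeries 2 = ⊥) (hexp : ∀ x : G, x ^ 4 = 1) (hN : ∀ x y : G, x ^ 2 = 1 → y ^ 2 = 1 → (x * y) ^ 2 = 1) : Nat.card G ≤ Nat.card {x : G // x ^ 2 = 1} ^ 3 ∧ (¬ Cfsg.IsSpecial 2 G → Nat.card G < Nat.card {x : G // x ^ 2 = 1} ^ 3) := by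
  classical
  haveI := Fintype.ofFinite G
  let N : Subgroup G :=
  { carrier := {x | x ^ 2 = 1}
    one_mem' := one_pow 2
    mul_mem' := fun {a b} ha hb => hN a b ha hb
    inv_mem' := fun {a} ha => by
      change a⁻¹ ^ 2 = 1
      rw [inv_pow, ha, inv_one] }
  have hmemN : ∀ x, x ∈ N ↔ x ^ 2 = 1 := fun x => Iff.rfl
  have hNcard : Nat.card {x : G // x ^ 2 = 1} = Nat.card N := rfl
  rw [hNcard]
  -- commutators are central
  have hGc : ∀ a b : G, ⁅a, b⁆ ∈ Subgroup.center G := by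
    intro a b
    rw [Subgroup.mem_center_iff]
    intro g
    have hm : ⁅a, b⁆ ∈ (⊤ : Subgroup G).lowerCentralSeries 1 :=
      Subgroup.commutator_mem_commutator (Subgroup.mem_top a) (Subgroup.mem_top b)
    have h : ⁅⁅a, b⁆, g⁆ ∈ (⊤ : Subgroup G).lowerCentralSeries 2 :=
      Subgroup.commutator_mem_commutator hm (Subgroup.mem_top g)
    rw [hcl, Subgroup.mem_bot] at h
    exact (commutatorElement_eq_one_iff_mul_comm.1 h).symm
  have hsqN : ∀ x : G, x ^ 2 ∈ N := fun x => by
    rw [hmemN, ← pow_mul]; exact hexp x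
  have hcomN : ∀ a b : G, ⁅a, b⁆ ∈ N := commutator_mem N hsqN
  have hcsq : ∀ x : G, x ^ 2 ∈ Subgroup.center G := by
    intro x
    rw [Subgroup.mem_center_iff]
    intro g
    have h1 : ⁅x ^ 2, g⁆ = ⁅x, g⁆ ^ 2 := by
      have hx := Subgroup.mem_center_iff.1 (hGc x g) x
      rw [pow_two, pow_two, commutatorElement_mul_left_eq_conj_mul, hx, mul_inv_cancel_right]
    rw [(hmemN _).1 (hcomN x g)] at h1
    exact (commutatorElement_eq_one_iff_mul_comm.1 h1).symm
  let Φ : Subgroup G := Subgroup.closure (Set.range fun x : G => x ^ 2)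
  have hΦ : ∀ x : G, x ^ 2 ∈ Φ := fun x => Subgroup.subset_closure ⟨x, rfl⟩
  have hΦZ : Φ ≤ Subgroup.center G := by rw [Subgroup.closure_le]; rintro _ ⟨x, rfl⟩; exact hcsq x
  have hΦN : Φ ≤ N := by rw [Subgroup.closure_le]; rintro _ ⟨x, rfl⟩; exact hsqN x
  have hpos : 0 < Nat.card N := Nat.card_pos
  have cΦN : Nat.card Φ ≤ Nat.card N := Nat.le_of_dvd hpos (Subgroup.card_dvd_of_le hΦN)
  have cΦZ : Nat.card Φ ≤ Nat.card (Subgroup.center G) :=
    Nat.le_of_dvd Nat.card_pos (Subgroup.card_dvd_of_le hΦZ)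
  have hb := bound hG Φ hΦ hΦZ (fun m hm => (hmemN m).1 (hΦN hm))
  rw [hNcard] at hb
  have hΦpos : 0 < Nat.card Φ := Nat.card_pos
  have hle : Nat.card G * Nat.card Φ ≤ Nat.card N ^ 3 * Nat.card Φ := by
    calc _ ≤ Nat.card G * Nat.card (Subgroup.center G) := Nat.mul_le_mul_left _ cΦZ
      _ ≤ (Nat.card Φ * Nat.card N) ^ 2 := hb
      _ = Nat.card Φ * (Nat.card N ^ 2 * Nat.card Φ) := by ring
      _ ≤ Nat.card N * (Nat.card N ^ 2 * Nat.card Φ) := Nat.mul_le_mul_right _ cΦN
      _ = _ := by ring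
  refine ⟨Nat.le_of_mul_le_mul_right hle hΦpos, fun hns => ?_⟩
  rcases (Nat.le_of_mul_le_mul_right hle hΦpos).lt_or_eq with h | heq
  · exact h
  exfalso
  rw [heq] at hb
  have hN_Φ : Nat.card N ≤ Nat.card Φ := by
    have h1 : Nat.card N ^ 3 * Nat.card Φ ≤ (Nat.card Φ * Nat.card N) ^ 2 :=
      (Nat.mul_le_mul_left _ cΦZ).trans hb
    have h2 : Nat.card N * (Nat.card N ^ 2 * Nat.card Φ) ≤ Nat.card Φ * (Nat.card N ^ 2 * Nat.card Φ) := by
      calc _ = Nat.card N ^ 3 * Nat.card Φ := by ring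
        _ ≤ _ := h1
        _ = _ := by ring
    exact Nat.le_of_mul_le_mul_right h2 (by positivity)
  have hZ_Φ : Nat.card (Subgroup.center G) ≤ Nat.card Φ := by
    have hcN : Nat.card Φ = Nat.card N := le_antisymm cΦN hN_Φ
    rw [hcN]
    rw [hcN] at hb
    have h2 : Nat.card N ^ 3 * Nat.card (Subgroup.center G) ≤ Nat.card N ^ 3 * Nat.card N :=
      hb.trans (le_of_eq (by ring))
    exact Nat.le_of_mul_le_mul_left h2 (by positivity)
  have eN : Φ = N := Subgroup.eq_of_le_of_card_ge hΦN hN_Φ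
  have eZ : Φ = Subgroup.center G := Subgroup.eq_of_le_of_card_ge hΦZ hZ_Φ
  -- the derived subgroup is everything
  have hD : N ≤ commutator G := by
    by_contra hD
    set D := commutator G with hDdef
    have hDN : D ≤ N := by
      rw [hDdef, commutator_eq_closure, Subgroup.closure_le]
      rintro _ ⟨a, b, rfl⟩; exact hcomN a b
    have hDZ : D ≤ Subgroup.center G := eZ ▸ eN.symm ▸ hDN
    let φ : G →* G ⧸ D :=
    { toFun := fun x => ((x ^ 2 : G) : G ⧸ D)
      map_one' := by simp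
      map_mul' := fun x y => by
        have hxy : (x : G ⧸ D) * (y : G ⧸ D) = (y : G ⧸ D) * (x : G ⧸ D) := by
          rw [← QuotientGroup.mk_mul, ← QuotientGroup.mk_mul, QuotientGroup.eq]
          have h0 : (x * y)⁻¹ * (y * x) = ⁅y⁻¹, x⁻¹⁆ := by simp only [commutatorElement_def]; group
          rw [h0, hDdef]
          exact Subgroup.commutator_mem_commutator (Subgroup.mem_top _) (Subgroup.mem_top _)
        simp only [QuotientGroup.mk_pow, QuotientGroup.mk_mul]
        exact (show Commute (x : G ⧸ D) (y : G ⧸ D) from hxy).mul_pow 2 }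
    set K := φ.ker with hK
    have hKsq : ∀ x : K, x ^ 2 ∈ D.subgroupOf K := fun x => by
      rw [Subgroup.mem_subgroupOf]; exact (QuotientGroup.eq_one_iff _).1 x.2
    have hNK : N ≤ K := fun x hx => by
      rw [hK, MonoidHom.mem_ker]
      change ((x ^ 2 : G) : G ⧸ D) = 1
      rw [(hmemN x).1 hx, QuotientGroup.mk_one]
    have hDcard : Nat.card (D.subgroupOf K) = Nat.card D :=
      Nat.card_congr (Subgroup.subgroupOfEquivOfLe (hDN.trans hNK)).toEquiv
    have hKb := bound (hG.to_subgroup K) (D.subgroupOf K) hKsq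
      (fun x hx => Subgroup.mem_center_iff.2 fun g => Subtype.ext (Subgroup.mem_center_iff.1 (hDZ hx) g))
      (fun m hm => Subtype.ext ((hmemN _).1 (hDN hm)))
    have hKinv : Nat.card {x : K // x ^ 2 = 1} = Nat.card N :=
      Nat.card_congr
      { toFun := fun x => ⟨(x : K), (hmemN _).2 (by simpa using congrArg Subtype.val x.2)⟩
        invFun := fun x => ⟨⟨x, hNK x.2⟩, Subtype.ext ((hmemN _).1 x.2)⟩
        left_inv := fun x => rfl
        right_inv := fun x => rfl }
    have hNZK : Nat.card N ≤ Nat.card (Subgroup.center K) := by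
      refine le_of_eq_of_le (Nat.card_congr (Subgroup.subgroupOfEquivOfLe hNK).toEquiv).symm ?_
      refine Nat.le_of_dvd Nat.card_pos (Subgroup.card_dvd_of_le fun x hx => ?_)
      rw [Subgroup.mem_center_iff]
      intro g
      ext
      exact Subgroup.mem_center_iff.1 ((eN.symm.trans eZ).le (hx : (x : G) ∈ N)) g
    rw [hDcard, hKinv] at hKb
    have hidx : K.index * Nat.card D ≤ Nat.card N := by
      rw [hK, Subgroup.index_ker]
      have h1 : φ.range ≤ N.map (QuotientGroup.mk' D) := by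
        rintro _ ⟨x, rfl⟩; exact ⟨x ^ 2, hsqN x, rfl⟩
      calc _ ≤ Nat.card (N.map (QuotientGroup.mk' D)) * Nat.card D :=
            Nat.mul_le_mul_right _ (Nat.le_of_dvd Nat.card_pos (Subgroup.card_dvd_of_le h1))
        _ = Nat.card N := by
          rw [← Subgroup.relIndex_bot_left (N.map (QuotientGroup.mk' D)),
            ← Subgroup.relIndex_comap, MonoidHom.comap_bot, QuotientGroup.ker_mk',
            ← Subgroup.relIndex_bot_left D, mul_comm,
            Subgroup.relIndex_mul_relIndex ⊥ D N bot_le hDN, Subgroup.relIndex_bot_left]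
    have hKle : Nat.card K * Nat.card N ≤ Nat.card D ^ 2 * Nat.card N * Nat.card N := by
      calc _ ≤ Nat.card K * Nat.card (Subgroup.center K) := Nat.mul_le_mul_left _ hNZK
        _ ≤ _ := hKb
        _ = _ := by ring
    have hKle' := Nat.le_of_mul_le_mul_right hKle hpos
    have h5 : Nat.card G ≤ Nat.card D * Nat.card N * Nat.card N := by
      rw [← Subgroup.card_mul_index K]
      calc Nat.card K * K.index ≤ Nat.card D ^ 2 * Nat.card N * K.index := Nat.mul_le_mul_right _ hKle'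
        _ = Nat.card D * Nat.card N * (K.index * Nat.card D) := by ring
        _ ≤ _ := Nat.mul_le_mul_left _ hidx
    have hDlt : Nat.card D < Nat.card N := by
      refine lt_of_le_of_ne (Nat.le_of_dvd hpos (Subgroup.card_dvd_of_le hDN)) fun h => hD ?_
      exact (Subgroup.eq_of_le_of_card_ge hDN h.ge).ge
    rw [heq] at h5
    have h6 : Nat.card N * (Nat.card N * Nat.card N) ≤ Nat.card D * (Nat.card N * Nat.card N) := by
      calc _ = Nat.card N ^ 3 := by ring
        _ ≤ _ := h5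
        _ = _ := by ring
    have := Nat.le_of_mul_le_mul_right h6 (by positivity)
    omega
  apply hns
  have hfr : frattini G = Φ := le_antisymm (frattini_le Φ hΦ)
    (by rw [Subgroup.closure_le]; rintro _ ⟨x, rfl⟩; exact sq_mem_frattini hG x)
  refine ⟨hG, hfr.trans eZ, le_antisymm ?_ ?_⟩
  · rw [commutator_eq_closure, Subgroup.closure_le]
    rintro _ ⟨a, b, rfl⟩; exact hGc a b
  · exact eZ ▸ eN.symm ▸ hD

end Cfsg.Agent.S3773
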