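import Cfsg.Statements.S3774

set_option autoImplicit false
open Cfsg

namespace Cfsg.Agent.S3774

theorem dvd_of_two_pow_sub_one_dvd {k n : ℕ} (h : 2 ^ k - 1 ∣ 2 ^ n - 1) : k ∣ n := by
  have h1 : 2 ^ Nat.gcd k n - 1 = 2 ^ k - 1 := by
    rw [← Nat.pow_sub_one_gcd_pow_sub_one, Nat.gcd_eq_left h]
  have h2 : Nat.gcd k n = k := by
    apply Nat.pow_right_injective (le_refl 2)
    have := Nat.one_le_two_pow (n := Nat.gcd k n)
    have := Nat.one_le_two_pow (n := k)
    simp only
    omega
  exact h2 ▸ Nat.gcd_dvd_right k n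

/-- Let G be a nontrivial finite 2-group whose automorphism group permutes the involutions of G transitively. Then every involution of G is central, so that the involutions together with 1 form the subgroup Ω₁(Z(G)), and if this subgroup has order q then |G| is a power of q. -/
theorem result {G : Type*} [Group G] [Finite G] [Nontrivial G] (hG : IsPGroup 2 G) (htrans : ∀ x y : G, x ≠ 1 → x ^ 2 = 1 → y ≠ 1 → y ^ 2 = 1 → ∃ a : MulAut G, a x = y) : (∀ x : G, x ^ 2 = 1 → x ∈ Subgroup.center G) ∧ ∃ m : ℕ, Nat.card G = Nat.card {z : G // z ^ 2 = 1} ^ m := by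
  haveI : Fact (Nat.Prime 2) := ⟨Nat.prime_two⟩
  have hcent : ∀ x : G, x ^ 2 = 1 → x ∈ Subgroup.center G := by
    intro x hx
    by_cases hx1 : x = 1
    · subst hx1; exact one_mem _
    have hnt : Nontrivial (Subgroup.center G) := hG.center_nontrivial
    obtain ⟨y, hy⟩ := exists_prime_orderOf_dvd_card' (G := Subgroup.center G) 2 (by
      obtain ⟨n, hn0, hn⟩ := (hG.to_subgroup (Subgroup.center G)).nontrivial_iff_card.1 hnt
      exact ⟨2 ^ (n - 1), by rw [hn, ← pow_succ', Nat.sub_add_cancel hn0]⟩)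
    have hy2 : (y : G) ^ 2 = 1 := by rw [← hy, ← Subgroup.orderOf_coe]; exact pow_orderOf_eq_one _
    have hy1 : (y : G) ≠ 1 := by
      intro h; rw [← Subgroup.orderOf_coe, h, orderOf_one] at hy; omega
    obtain ⟨a, ha⟩ := htrans _ x hy1 hy2 hx1 hx
    rw [← ha, Subgroup.mem_center_iff]
    intro g
    have := congrArg a (Subgroup.mem_center_iff.1 y.2 (a.symm g))
    simpa using this
  refine ⟨hcent, ?_⟩
  classical
  let N : Subgroup G :=
  { carrier := {z | z ^ 2 = 1}
    one_mem' := one_pow 2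
    mul_mem' := fun {a b} ha hb => by
      change (a * b) ^ 2 = 1
      rw [(show Commute a b from (Subgroup.mem_center_iff.1 (hcent a ha) b).symm).mul_pow, ha, hb, one_mul]
    inv_mem' := fun {a} ha => by
      change a⁻¹ ^ 2 = 1
      rw [inv_pow, ha, inv_one] }
  obtain ⟨k, hk⟩ := IsPGroup.iff_card.1 (hG.to_subgroup N)
  obtain ⟨n, hn⟩ := IsPGroup.iff_card.1 hG
  haveI := Fintype.ofFinite G
  have hkN : Nat.card {z : G // z ^ 2 = 1} = 2 ^ k := hk
  let f : G → G := fun g => g ^ (orderOf g / 2)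
  have hf : ∀ g : G, g ≠ 1 → f g ≠ 1 ∧ f g ^ 2 = 1 := by
    intro g hg
    obtain ⟨j, hj⟩ := (IsPGroup.iff_orderOf.1 hG) g
    have hj1 : j ≠ 0 := by rintro rfl; exact hg (orderOf_eq_one_iff.1 hj)
    obtain ⟨i, rfl⟩ := Nat.exists_eq_succ_of_ne_zero hj1
    have hdiv : orderOf g / 2 = 2 ^ i := by rw [hj, pow_succ]; omega
    simp only [f, hdiv]
    constructor
    · apply pow_ne_one_of_lt_orderOf (by positivity)
      rw [hj, pow_succ]; have := Nat.one_le_two_pow (n := i); omega
    · rw [← pow_mul, ← pow_succ, ← hj, pow_orderOf_eq_one]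
  let S := Finset.univ.filter fun g : G => g ≠ 1
  let T := Finset.univ.filter fun z : G => z ^ 2 = 1 ∧ z ≠ 1
  have hST : S.card = ∑ z ∈ T, (S.filter fun g => f g = z).card := by
    apply Finset.card_eq_sum_card_fiberwise
    intro g hg
    simp only [S, T, Finset.coe_filter, Finset.mem_univ, true_and, Set.mem_ofPred_eq] at hg ⊢
    exact ⟨(hf g hg).2, (hf g hg).1⟩
  have hfib : ∀ z ∈ T, ∀ w ∈ T, (S.filter fun g => f g = z).card = (S.filter fun g => f g = w).card := by
    intro z hz w hw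
    simp only [T, Finset.mem_filter, Finset.mem_univ, true_and] at hz hw
    obtain ⟨a, ha⟩ := htrans z w hz.2 hz.1 hw.2 hw.1
    apply Finset.card_equiv a.toEquiv
    intro g
    have hfa : f (a g) = a (f g) := by simp [f]
    simp [S, hfa, ← ha]
  have hT : T.card = 2 ^ k - 1 := by
    rw [← hkN, Nat.card_eq_fintype_card, Fintype.card_subtype]
    have : T = (Finset.univ.filter fun z : G => z ^ 2 = 1).erase 1 := by ext; simp [T, and_comm]
    rw [this, Finset.card_erase_of_mem (by simp)]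
  have hS : S.card = 2 ^ n - 1 := by
    rw [← hn, Nat.card_eq_fintype_card]
    have : S = Finset.univ.erase 1 := by ext; simp [S]
    rw [this, Finset.card_erase_of_mem (by simp), Finset.card_univ]
  have hdvd : 2 ^ k - 1 ∣ 2 ^ n - 1 := by
    rcases T.eq_empty_or_nonempty with h | ⟨z, hz⟩
    · rw [← hS, hST, h]; simp
    · rw [← hS, ← hT, hST, Finset.sum_congr rfl (fun w hw => hfib w hw z hz), Finset.sum_const,
        smul_eq_mul]
      exact dvd_mul_right _ _
  obtain ⟨m, rfl⟩ := dvd_of_two_pow_sub_one_dvd hdvd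
  exact ⟨m, by rw [hkN, ← pow_mul, hn]⟩

end Cfsg.Agent.S3774
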