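import Cfsg.Statements.S3775

set_option autoImplicit false
open Cfsg

namespace Cfsg.Agent.S3775

open Subgroup

section
variable {A : Type*} [CommGroup A] [Finite A] {p : ℕ} [Fact p.Prime] (X : Subgroup (MulAut A))

/-- Invariance. -/
def Inv (B : Subgroup A) : Prop := ∀ x ∈ X, B.map x.toMonoidHom = B

variable {X}

theorem Inv.mem {B : Subgroup A} (h : Inv X B) {x : MulAut A} (hx : x ∈ X) {b : A} (hb : b ∈ B) :
    x b ∈ B := (h x hx).le ⟨b, hb, rfl⟩

theorem inv_of_mem {B : Subgroup A} (h : ∀ x ∈ X, ∀ b ∈ B, x b ∈ B) : Inv X B := by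
  intro x hx
  refine le_antisymm ?_ fun b hb => ⟨x⁻¹ b, h x⁻¹ (inv_mem hx) b hb, x.apply_symm_apply b⟩
  rintro _ ⟨b, hb, rfl⟩
  exact h x hx b hb

theorem inv_inf {B C : Subgroup A} (hB : Inv X B) (hC : Inv X C) : Inv X (B ⊓ C) :=
  inv_of_mem fun _ hx _ hb => mem_inf.mpr ⟨hB.mem hx (mem_inf.mp hb).1, hC.mem hx (mem_inf.mp hb).2⟩

theorem inv_sup {B C : Subgroup A} (hB : Inv X B) (hC : Inv X C) : Inv X (B ⊔ C) := by
  intro x hx
  rw [Subgroup.map_sup, hB x hx, hC x hx]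

theorem inv_ker (n : ℕ) : Inv X (powMonoidHom n : A →* A).ker :=
  inv_of_mem fun x _ b hb => by
    show x b ^ n = 1
    rw [← map_pow, show b ^ n = 1 from hb, map_one]

theorem inv_map_pow {B : Subgroup A} (hB : Inv X B) (n : ℕ) : Inv X (B.map (powMonoidHom n)) :=
  inv_of_mem fun x hx b hb => by
    obtain ⟨c, hc, rfl⟩ := hb
    exact ⟨x c, hB.mem hx hc, (map_pow x c n).symm⟩

/-- Maschke, in the form used here. -/
theorem exists_invariant_complement (hX : (Nat.card X).Coprime p) {K U V : Subgroup A}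
    (hK : Inv X K) (hU : Inv X U) (hV : Inv X V) (hKU : K ≤ U) (hUV : U ≤ V)
    (hp : ∀ v ∈ V, v ^ p ∈ K) :
    ∃ E : Subgroup A, Inv X E ∧ K ≤ E ∧ E ≤ V ∧ E ⊓ U = K ∧ E ⊔ U = V := by
  classical
  have hpP : p.Prime := Fact.out
  obtain ⟨E₀, ⟨hKE, hEV, hEU⟩, hmax⟩ := (Set.toFinite {E : Subgroup A |
    K ≤ E ∧ E ≤ V ∧ E ⊓ U ≤ K}).exists_maximal ⟨K, le_rfl, hKU.trans hUV, inf_le_left⟩
  have hdec : ∀ v ∈ V, ∃ u ∈ U, v * u⁻¹ ∈ E₀ := by
    intro v hv
    by_cases hvE : v ∈ E₀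
    · exact ⟨1, one_mem _, by simpa using hvE⟩
    have hnot : ¬ (E₀ ⊔ zpowers v) ⊓ U ≤ K := fun h => hvE
      (hmax ⟨hKE.trans le_sup_left, sup_le hEV (zpowers_le.mpr hv), h⟩ le_sup_left
        (mem_sup_right (mem_zpowers v)))
    obtain ⟨w, hw, hwK⟩ := SetLike.not_le_iff_exists.mp hnot
    obtain ⟨hw1, hwU⟩ := mem_inf.mp hw
    obtain ⟨e, he, z, ⟨i, rfl⟩, rfl⟩ := mem_sup.mp hw1
    have hvp : v ^ (p : ℤ) ∈ E₀ := by rw [zpow_natCast]; exact hKE (hp v hv)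
    have hi : ¬ (p : ℤ) ∣ i := by
      rintro ⟨t, rfl⟩
      refine hwK (hEU (mem_inf.mpr ⟨mul_mem he ?_, hwU⟩))
      show v ^ ((p : ℤ) * t) ∈ E₀
      rw [zpow_mul]
      exact zpow_mem hvp t
    obtain ⟨a, b, hab⟩ : IsCoprime (p : ℤ) i :=
      (Prime.coprime_iff_not_dvd (Nat.prime_iff_prime_int.mp hpP)).mpr hi
    refine ⟨(e * v ^ i) ^ b, zpow_mem hwU b, ?_⟩
    have hv' : (v ^ (p : ℤ)) ^ a * (v ^ i) ^ b = v := by
      rw [← zpow_mul, ← zpow_mul, ← zpow_add, mul_comm (p : ℤ), mul_comm i, hab, zpow_one]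
    have : v * ((e * v ^ i) ^ b)⁻¹ = (v ^ (p : ℤ)) ^ a * (e ^ b)⁻¹ := by
      calc v * ((e * v ^ i) ^ b)⁻¹ = (v ^ (p : ℤ)) ^ a * (v ^ i) ^ b * ((e * v ^ i) ^ b)⁻¹ := by
            rw [hv']
        _ = _ := by rw [mul_zpow, mul_inv_rev, mul_assoc, mul_inv_cancel_left]
    rw [this]
    exact mul_mem (zpow_mem hvp a) (inv_mem (zpow_mem he b))
  choose! u huU huE using hdec
  set π := QuotientGroup.mk' K
  have huniq : ∀ v ∈ V, ∀ w ∈ U, v * w⁻¹ ∈ E₀ → π (u v) = π w := by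
    intro v hv w hw h
    have : w * (u v)⁻¹ ∈ K := hEU (mem_inf.mpr ⟨by
      have := mul_mem (huE v hv) (inv_mem h)
      rwa [← div_eq_mul_inv (v * (u v)⁻¹), mul_div_mul_left_eq_div, inv_div_inv, div_eq_mul_inv] at this,
      mul_mem hw (inv_mem (huU v hv))⟩)
    have h2 : π (w * (u v)⁻¹) = 1 := (QuotientGroup.eq_one_iff _).mpr this
    rw [map_mul, map_inv, mul_inv_eq_one] at h2
    exact h2.symm
  haveI : Fintype X := Fintype.ofFinite X
  have hVm : ∀ (x : X) {v : A}, v ∈ V → (x : MulAut A)⁻¹ v ∈ V := fun x v hv =>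
    hV.mem (inv_mem x.2) hv
  have hcongr : ∀ (x : MulAut A), x ∈ X → ∀ a b : A, π a = π b → π (x a) = π (x b) := by
    intro x hx a b h
    have h1 : a⁻¹ * b ∈ K := QuotientGroup.eq.mp h
    exact QuotientGroup.eq.mpr (by rw [← map_inv, ← map_mul]; exact hK.mem hx h1)
  let P : A → A := fun v => ∏ x : X, (x : MulAut A) (u ((x : MulAut A)⁻¹ v))
  have hPU : ∀ v ∈ V, P v ∈ U := fun v hv =>
    prod_mem fun x _ => hU.mem x.2 (huU _ (hVm x hv))
  have hPmul : ∀ v ∈ V, ∀ w ∈ V, π (P (v * w)) = π (P v) * π (P w) := by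
    intro v hv w hw
    simp only [P, map_prod, ← Finset.prod_mul_distrib]
    refine Finset.prod_congr rfl fun x _ => ?_
    rw [← map_mul π, ← map_mul (x : MulAut A)]
    refine hcongr _ x.2 _ _ (huniq _ (hVm x (mul_mem hv hw)) _
      (mul_mem (huU _ (hVm x hv)) (huU _ (hVm x hw))) ?_)
    rw [map_mul, mul_inv, mul_mul_mul_comm]
    exact mul_mem (huE _ (hVm x hv)) (huE _ (hVm x hw))
  have hPU' : ∀ v ∈ U, π (P v) = π (v ^ Nat.card X) := by
    intro v hv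
    simp only [P, map_prod]
    have hx : ∀ x : X, π ((x : MulAut A) (u ((x : MulAut A)⁻¹ v))) = π v := fun x => by
      rw [hcongr _ x.2 _ _ (huniq _ (hVm x (hUV hv)) _ (hU.mem (inv_mem x.2) hv) (by simp))]
      exact congrArg π ((x : MulAut A).apply_symm_apply v)
    simp only [hx, Finset.prod_const, Finset.card_univ, map_pow, Nat.card_eq_fintype_card]
  have hPinv : ∀ y ∈ X, ∀ v : A, P (y v) = y (P v) := by
    intro y hy v
    simp only [P, map_prod]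
    refine Fintype.prod_equiv (Equiv.mulLeft (⟨y, hy⟩⁻¹ : X)) _ _ (fun x => ?_)
    simp only [Equiv.coe_mulLeft, Subgroup.coe_mul, Subgroup.coe_inv, mul_inv_rev, inv_inv,
      MulAut.mul_apply]
    exact (y.apply_symm_apply _).symm
  have hP1 : π (P 1) = 1 := by
    rw [hPU' 1 (one_mem U), one_pow, map_one]
  let E : Subgroup A :=
    { carrier := {v | v ∈ V ∧ π (P v) = 1}
      one_mem' := ⟨one_mem V, hP1⟩
      mul_mem' := fun {a b} ha hb => ⟨mul_mem ha.1 hb.1, by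
        rw [hPmul a ha.1 b hb.1, ha.2, hb.2, one_mul]⟩
      inv_mem' := fun {a} ha => ⟨inv_mem ha.1, by
        have := hPmul a ha.1 a⁻¹ (inv_mem ha.1)
        rwa [mul_inv_cancel, hP1, ha.2, one_mul, eq_comm] at this⟩ }
  refine ⟨E, inv_of_mem ?_, ?_, fun v hv => hv.1, ?_, ?_⟩
  · intro y hy v hv
    refine ⟨hV.mem hy hv.1, ?_⟩
    rw [hPinv y hy, ← map_one π]
    have := hcongr y hy (P v) 1 (hv.2.trans (map_one π).symm)
    rwa [map_one y] at this
  · intro v hv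
    refine ⟨hKU.trans hUV hv, ?_⟩
    rw [hPU' v (hKU hv)]
    exact (QuotientGroup.eq_one_iff _).mpr (pow_mem hv _)
  · refine le_antisymm ?_ (le_inf (fun v hv => ⟨hKU.trans hUV hv, by
      rw [hPU' v (hKU hv)]; exact (QuotientGroup.eq_one_iff _).mpr (pow_mem hv _)⟩) hKU)
    intro v hv
    obtain ⟨hv, hvU⟩ := mem_inf.mp hv
    have h1 : π v ^ Nat.card X = 1 := by
      rw [← map_pow, ← hPU' v hvU]; exact hv.2
    have h2 : π v ^ p = 1 := by
      rw [← map_pow]; exact (QuotientGroup.eq_one_iff _).mpr (hp v (hUV hvU))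
    have h3 := pow_gcd_eq_one.mpr ⟨h1, h2⟩
    rw [hX, pow_one] at h3
    exact (QuotientGroup.eq_one_iff v).mp h3
  · refine le_antisymm (sup_le (fun v hv => hv.1) hUV) ?_
    intro v hv
    obtain ⟨a, b, hab⟩ : IsCoprime (Nat.card X : ℤ) (p : ℤ) := Int.isCoprime_iff_nat_coprime.mpr
      (by simpa using hX)
    set w := (P v) ^ a
    have hw : w ∈ U := zpow_mem (hPU v hv) a
    have hwK : π (w ^ Nat.card X) = π (P v) := by
      have h2 : π (P v) ^ (p : ℤ) = 1 := by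
        rw [zpow_natCast, ← map_pow]
        exact (QuotientGroup.eq_one_iff _).mpr (hp _ (hUV (hPU v hv)))
      rw [map_pow, map_zpow, ← zpow_natCast, ← zpow_mul]
      conv_rhs => rw [← zpow_one (π (P v)), ← hab, zpow_add, mul_comm b, zpow_mul _ (p : ℤ), h2,
        one_zpow, mul_one]
    have hmem : v * w⁻¹ ∈ E := by
      refine ⟨mul_mem hv (inv_mem (hUV hw)), ?_⟩
      rw [hPmul v hv _ (inv_mem (hUV hw)), hPU' _ (inv_mem hw), inv_pow, map_inv, hwK, mul_inv_cancel]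
    simpa using mul_mem (mem_sup_left hmem : v * w⁻¹ ∈ E ⊔ U) (mem_sup_right hw : w ∈ E ⊔ U)

theorem omega_of_irreducible (hA : IsPGroup p A)
    (hR : ∀ B : Subgroup A, Inv X B → (∀ b ∈ B, b ^ p = 1) → B = ⊥ ∨ ∀ a : A, a ∈ B ↔ a ^ p = 1)
    (B : Subgroup A) (hB : Inv X B) : ∃ i : ℕ, ∀ a : A, a ∈ B ↔ a ^ p ^ i = 1 := by
  obtain ⟨n, hn⟩ : ∃ n, ∀ b ∈ B, b ^ p ^ n = 1 := by
    obtain ⟨n, hn⟩ := IsPGroup.iff_card.mp (hA.to_subgroup B)
    exact ⟨n, fun b hb => hn ▸ orderOf_dvd_iff_pow_eq_one.mp (orderOf_dvd_natCard B hb)⟩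
  induction n generalizing B with
  | zero =>
    refine ⟨0, fun a => ?_⟩
    simp only [pow_zero, pow_one] at hn ⊢
    exact ⟨hn a, fun h => h ▸ one_mem B⟩
  | succ n ih =>
    by_cases hbot : B = ⊥
    · exact ⟨0, fun a => by simp [hbot]⟩
    obtain ⟨j, hj⟩ := ih (B.map (powMonoidHom p)) (inv_map_pow hB p) (by
      rintro _ ⟨b, hb, rfl⟩
      show (b ^ p) ^ p ^ n = 1
      rw [← pow_mul, ← pow_succ']
      exact hn b hb)
    refine ⟨j + 1, fun a => ⟨fun ha => ?_, fun ha => ?_⟩⟩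
    · rw [pow_succ', pow_mul]
      exact (hj _).mp ⟨a, ha, rfl⟩
    · rw [pow_succ', pow_mul] at ha
      obtain ⟨b, hb, hba⟩ := (hj _).mpr ha
      have hq : (a * b⁻¹) ^ p = 1 := by
        rw [mul_pow, inv_pow, ← show b ^ p = a ^ p from hba, mul_inv_cancel]
      rcases hR (B ⊓ (powMonoidHom p : A →* A).ker) (inv_inf hB (inv_ker p))
          (fun c hc => (mem_inf.mp hc).2) with h | h
      · exfalso
        obtain ⟨c, hc, hc1⟩ := B.bot_or_exists_ne_one.resolve_left hbot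
        obtain ⟨k, hk⟩ := IsPGroup.iff_orderOf.mp hA c
        have hk0 : k ≠ 0 := by
          rintro rfl
          exact hc1 (orderOf_eq_one_iff.mp (by simpa using hk))
        obtain ⟨k, rfl⟩ := Nat.exists_eq_succ_of_ne_zero hk0
        have hmem : c ^ p ^ k ∈ B ⊓ (powMonoidHom p : A →* A).ker := mem_inf.mpr ⟨pow_mem hc _, by
          show (c ^ p ^ k) ^ p = 1
          rw [← pow_mul, ← pow_succ, ← hk, pow_orderOf_eq_one]⟩
        rw [h, mem_bot] at hmem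
        have hd := orderOf_dvd_of_pow_eq_one hmem
        rw [hk] at hd
        have := (Nat.pow_dvd_pow_iff_le_right (Fact.out : p.Prime).one_lt).mp hd
        omega
      · have := mul_mem (mem_inf.mp ((h _).mpr hq)).1 hb
        simpa using this

theorem decomposable (hA : IsPGroup p A) (hX : (Nat.card X).Coprime p) {B : Subgroup A}
    (hB : Inv X B) (hBe : ∀ b ∈ B, b ^ p = 1) (hB0 : B ≠ ⊥)
    (hB1 : ¬ ∀ a : A, a ∈ B ↔ a ^ p = 1) :
    ∃ D C : Subgroup A, D ≠ ⊥ ∧ C ≠ ⊥ ∧ Inv X D ∧ Inv X C ∧ D ⊓ C = ⊥ ∧ D ⊔ C = ⊤ := by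
  classical
  have hpP : p.Prime := Fact.out
  obtain ⟨b, hb, hb1⟩ := B.bot_or_exists_ne_one.resolve_left hB0
  -- the exponent
  have hex : ∃ n, ∀ a : A, a ^ p ^ n = 1 := by
    obtain ⟨n, hn⟩ := IsPGroup.iff_card.mp hA
    exact ⟨n, fun a => hn ▸ pow_card_eq_one'⟩
  have hn0 : Nat.find hex ≠ 0 := fun h => by
    have := Nat.find_spec hex b
    rw [h, pow_zero, pow_one] at this
    exact hb1 this
  obtain ⟨m, hm⟩ := Nat.exists_eq_succ_of_ne_zero hn0
  have hexp : ∀ a : A, (a ^ p ^ m) ^ p = 1 := fun a => by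
    rw [← pow_mul, ← pow_succ, ← Nat.succ_eq_add_one, ← hm]
    exact Nat.find_spec hex a
  set φ : A →* A := powMonoidHom (p ^ m) with hφ
  have hR0 : (⊤ : Subgroup A).map φ ≠ ⊥ := fun h => by
    refine Nat.find_min hex (show m < Nat.find hex by omega) fun a => ?_
    exact mem_bot.mp (h ▸ mem_map_of_mem φ (mem_top a))
  -- the socle `W`
  obtain ⟨W, hW, hW0, hWR, hWp, hW1⟩ : ∃ W : Subgroup A, Inv X W ∧ W ≠ ⊥ ∧
      W ≤ (⊤ : Subgroup A).map φ ∧ (∀ w ∈ W, w ^ p = 1) ∧ ¬ ∀ a : A, a ^ p = 1 → a ∈ W := by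
    have hRp : ∀ w ∈ (⊤ : Subgroup A).map φ, w ^ p = 1 := by
      rintro _ ⟨a, -, rfl⟩
      exact hexp a
    by_cases hall : ∀ a : A, a ^ p = 1 → a ∈ (⊤ : Subgroup A).map φ
    · exact ⟨B, hB, hB0, fun b hb => hall b (hBe b hb), hBe,
        fun h => hB1 fun a => ⟨hBe a, h a⟩⟩
    · exact ⟨_, inv_map_pow (inv_of_mem fun _ _ _ _ => mem_top _) _, hR0, le_rfl, hRp, hall⟩
  -- minimal invariant `D` over `W`
  have hcom : Inv X (W.comap φ) := inv_of_mem fun x hx a ha => by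
    show φ (x a) ∈ W
    rw [show φ (x a) = x (φ a) from (map_pow x a _).symm]
    exact hW.mem hx ha
  obtain ⟨D, ⟨hD, hDW⟩, hDmin⟩ := (Set.toFinite {D : Subgroup A | Inv X D ∧ D.map φ = W}).exists_minimal
    ⟨W.comap φ, hcom, le_antisymm (map_comap_le _ _) fun w hw => by
      obtain ⟨a, -, rfl⟩ := hWR hw
      exact ⟨a, hw, rfl⟩⟩
  have hWD : W ≤ D := by
    rw [← hDW]
    rintro _ ⟨d, hd, rfl⟩
    exact pow_mem hd _
  set Dp := D.map (powMonoidHom p : A →* A)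
  have hDpK : Dp ≤ D ⊓ φ.ker := by
    rintro _ ⟨d, hd, rfl⟩
    exact mem_inf.mpr ⟨pow_mem hd _, by
      show (d ^ p) ^ p ^ m = 1
      rw [← pow_mul, mul_comm, pow_mul]; exact hexp d⟩
  obtain ⟨E, hE, -, hED, hEU, hEV⟩ := exists_invariant_complement hX (inv_map_pow hD p)
    (inv_inf hD (inv_ker _)) hD hDpK inf_le_left (fun v hv => mem_map_of_mem _ hv)
  have hED' : E = D := by
    refine le_antisymm hED (hDmin ⟨hE, le_antisymm (hDW ▸ Subgroup.map_mono hED) ?_⟩ hED)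
    rw [← hDW, ← hEV, Subgroup.map_sup]
    refine sup_le le_rfl ?_
    rintro _ ⟨c, hc, rfl⟩
    rw [(mem_inf.mp hc).2]
    exact one_mem _
  subst hED'
  have hker : E ⊓ φ.ker ≤ Dp := le_of_eq_of_le (inf_eq_right.mpr inf_le_left).symm hEU.le
  have hsoc : ∀ d ∈ E, d ^ p = 1 → d ∈ W := by
    set f₁ := (powMonoidHom p : A →* A).domRestrict E
    set f₂ := φ.domRestrict E
    have h1 : f₁.ker.index = Nat.card Dp := by
      rw [Subgroup.index_ker, MonoidHom.domRestrict_range]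
    have h2 : f₂.ker.index = Nat.card W := by
      rw [Subgroup.index_ker, MonoidHom.domRestrict_range, hDW]
    have h3 : Nat.card f₂.ker = Nat.card Dp := by
      have : (f₂.ker).map E.subtype = Dp := by
        rw [show f₂.ker = φ.ker.subgroupOf E from MonoidHom.ker_domRestrict _ _,
          subgroupOf_map_subtype, inf_comm]
        exact le_antisymm hker hDpK
      rw [← this]
      exact Nat.card_congr (f₂.ker.equivMapOfInjective _ E.subtype_injective).toEquiv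
    have h4 : Nat.card f₁.ker = Nat.card W := by
      have e := f₁.ker.card_mul_index.trans f₂.ker.card_mul_index.symm
      rw [h1, h2, h3, mul_comm (Nat.card Dp)] at e
      exact Nat.eq_of_mul_eq_mul_right Nat.card_pos e
    have h5 : f₁.ker.map E.subtype = W := by
      symm
      refine eq_of_le_of_card_ge (fun w hw => ⟨⟨w, hWD hw⟩, hWp w hw, rfl⟩) ?_
      rw [← h4]
      exact (Nat.card_congr (f₁.ker.equivMapOfInjective _ E.subtype_injective).toEquiv).ge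
    intro d hd hdp
    rw [← h5]
    exact ⟨⟨d, hd⟩, hdp, rfl⟩
  -- a maximal invariant `C` avoiding `E`
  obtain ⟨C, ⟨hC, hEC⟩, hCmax⟩ := (Set.toFinite {C : Subgroup A | Inv X C ∧ E ⊓ C = ⊥}).exists_maximal
    ⟨⊥, inv_of_mem (fun x _ b hb => by rw [mem_bot.mp hb, map_one]; exact one_mem _), inf_bot_eq _⟩
  have hV : ∀ a : A, a ^ p ∈ C → a ∈ C ⊔ W := by
    set V := C.comap (powMonoidHom p : A →* A)
    have hUV : C ⊔ W ≤ V := sup_le (fun c hc => pow_mem hc p) fun w hw => by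
      show w ^ p ∈ C
      rw [hWp w hw]; exact one_mem _
    obtain ⟨F, hF, hCF, hFV, hFU, hFsup⟩ := exists_invariant_complement hX hC (inv_sup hC hW)
      (inv_of_mem (B := V) fun x hx a ha => by
        show x a ^ p ∈ C
        rw [← map_pow]; exact hC.mem hx ha) le_sup_left hUV (fun v hv => hv)
    have hEF : E ⊓ F = ⊥ := by
      rw [eq_bot_iff]
      intro d hd
      obtain ⟨hdE, hdF⟩ := mem_inf.mp hd
      have hdp : d ^ p = 1 := mem_bot.mp (hEC ▸ mem_inf.mpr ⟨pow_mem hdE p, hFV hdF⟩)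
      rw [← hEC]
      exact mem_inf.mpr ⟨hdE, hFU.le (mem_inf.mpr ⟨hdF, mem_sup_right (hsoc d hdE hdp)⟩)⟩
    have hFC : F ≤ C := hCmax ⟨hF, hEF⟩ hCF
    intro a ha
    have : a ∈ F ⊔ (C ⊔ W) := hFsup ▸ (show a ∈ V from ha)
    exact (sup_le (hFC.trans le_sup_left) le_rfl) this
  have htop : ∀ i, i ≤ m + 1 → ∀ a : A, a ^ p ^ i ∈ C → a ∈ E ⊔ C := by
    intro i
    induction i with
    | zero => exact fun _ a ha => mem_sup_right (by simpa using ha)
    | succ i ih =>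
      intro hi a ha
      rw [pow_succ', pow_mul] at ha
      obtain ⟨d, hd, c, hc, hdc⟩ := mem_sup.mp (ih (by omega) _ ha)
      have hdi : d ^ p ^ i = 1 := mem_bot.mp (hEC ▸ mem_inf.mpr ⟨pow_mem hd _, by
        have h1 : (d * c) ^ p ^ i ∈ C := hdc ▸ ha
        rw [mul_pow] at h1
        exact (mul_mem_cancel_right (pow_mem hc _)).mp h1⟩)
      have hdk : d ∈ E ⊓ φ.ker := mem_inf.mpr ⟨hd, by
        show d ^ p ^ m = 1
        obtain ⟨t, ht⟩ := Nat.exists_eq_add_of_le (show i ≤ m by omega)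
        rw [ht, pow_add, pow_mul, hdi, one_pow]⟩
      obtain ⟨e, he, hed⟩ := hker hdk
      have hae : (a * e⁻¹) ^ p ∈ C := by
        rw [mul_pow, inv_pow, show e ^ p = d from hed, ← hdc, mul_comm d, mul_inv_cancel_right]
        exact hc
      have h1 : a * e⁻¹ ∈ E ⊔ C := (sup_le le_sup_right (hWD.trans le_sup_left)) (hV _ hae)
      simpa using mul_mem h1 (mem_sup_left he)
  have hsup : E ⊔ C = ⊤ := eq_top_iff.mpr fun a _ => htop (m + 1) le_rfl a (by
    rw [pow_succ, pow_mul, hexp]; exact one_mem _)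
  refine ⟨E, C, fun h => hW0 (le_bot_iff.mp (h ▸ hWD)), ?_, hD, hC, hEC, hsup⟩
  rintro rfl
  rw [sup_bot_eq] at hsup
  exact hW1 fun a ha => hsoc a (hsup ▸ mem_top a) ha

end

/-- Let A be a finite abelian p-group and X a group of automorphisms of A of order prime to p. Call a subgroup of A invariant when every element of X maps it onto itself. Then the following are equivalent: (i) A is not the direct product of two nontrivial invariant subgroups; (ii) every invariant subgroup of A is one of the subgroups Ω_i(A) = {a : a^(p^i) = 1}; (iii) the subgroup Ω₁(A) of elements of order dividing p has no invariant subgroups other than 1 and itself. -/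
theorem result {A : Type*} [CommGroup A] [Finite A] {p : ℕ} [Fact p.Prime] (hA : IsPGroup p A) (X : Subgroup (MulAut A)) (hX : (Nat.card X).Coprime p) : ((¬ ∃ B C : Subgroup A, B ≠ ⊥ ∧ C ≠ ⊥ ∧ (∀ x ∈ X, B.map x.toMonoidHom = B) ∧ (∀ x ∈ X, C.map x.toMonoidHom = C) ∧ B ⊓ C = ⊥ ∧ B ⊔ C = ⊤) ↔ (∀ B : Subgroup A, (∀ x ∈ X, B.map x.toMonoidHom = B) → ∃ i : ℕ, ∀ a : A, a ∈ B ↔ a ^ p ^ i = 1)) ∧ ((∀ B : Subgroup A, (∀ x ∈ X, B.map x.toMonoidHom = B) → ∃ i : ℕ, ∀ a : A, a ∈ B ↔ a ^ p ^ i = 1) ↔ (∀ B : Subgroup A, (∀ x ∈ X, B.map x.toMonoidHom = B) → (∀ b ∈ B, b ^ p = 1) → B = ⊥ ∨ ∀ a : A, a ∈ B ↔ a ^ p = 1)) := by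
  have hR2O := fun (hR : ∀ B : Subgroup A, (∀ x ∈ X, B.map x.toMonoidHom = B) →
    (∀ b ∈ B, b ^ p = 1) → B = ⊥ ∨ ∀ a : A, a ∈ B ↔ a ^ p = 1) => omega_of_irreducible hA hR
  have hO2R : (∀ B : Subgroup A, (∀ x ∈ X, B.map x.toMonoidHom = B) →
      ∃ i : ℕ, ∀ a : A, a ∈ B ↔ a ^ p ^ i = 1) → ∀ B : Subgroup A,
      (∀ x ∈ X, B.map x.toMonoidHom = B) →
      (∀ b ∈ B, b ^ p = 1) → B = ⊥ ∨ ∀ a : A, a ∈ B ↔ a ^ p = 1 := by
    intro hO B hB hBe
    obtain ⟨i, hi⟩ := hO B hB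
    rcases i with _ | i
    · left
      rw [Subgroup.eq_bot_iff_forall]
      intro a ha
      simpa using (hi a).mp ha
    · right
      exact fun a => ⟨hBe a, fun h => (hi a).mpr (by rw [pow_succ', pow_mul, h, one_pow])⟩
  refine ⟨⟨fun hind => hR2O fun B hB hBe => ?_, ?_⟩, hO2R, hR2O⟩
  · by_contra hcon
    rw [not_or] at hcon
    exact hind (decomposable hA hX hB hBe hcon.1 hcon.2)
  · rintro hO ⟨B, C, hB0, hC0, hB, hC, hBC, -⟩
    obtain ⟨i, hi⟩ := hO B hB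
    obtain ⟨j, hj⟩ := hO C hC
    rcases le_total i j with h | h
    · refine hB0 ((inf_eq_left.mpr fun a ha => (hj a).mpr ?_).symm.trans hBC)
      obtain ⟨t, rfl⟩ := Nat.exists_eq_add_of_le h
      rw [pow_add, pow_mul, (hi a).mp ha, one_pow]
    · refine hC0 ((inf_eq_right.mpr fun a ha => (hi a).mpr ?_).symm.trans hBC)
      obtain ⟨t, rfl⟩ := Nat.exists_eq_add_of_le h
      rw [pow_add, pow_mul, (hj a).mp ha, one_pow]

end Cfsg.Agent.S3775
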