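import Cfsg.Statements.S3777
import Cfsg.Agent.Lib.PGroups.Frattini
import Mathlib.GroupTheory.PGroup
import Mathlib.GroupTheory.Commutator.Basic

/-!
# S3777: Vaughan-Lee's theorem on the derived group of a p-group with bounded class sizes

Double induction on `Tst m` (every element outside some proper subgroup has at most `p ^ m`
conjugates implies `|G'| ≤ p ^ (T m)`) and `Fst m` (the same hypothesis outside a maximal subgroup
`H` and a normal subgroup `K`, with the weaker bound `p ^ (m + 1)` on `K \ H`).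
-/

set_option autoImplicit false
set_option linter.unusedSectionVars false
open Cfsg
open scoped commutatorElement

namespace Cfsg.Agent.S3777

open Subgroup

universe u

/-- Triangular numbers. -/
def T : ℕ → ℕ
  | 0 => 0
  | m + 1 => T m + (m + 1)

theorem two_mul_T (m : ℕ) : 2 * T m = m * (m + 1) := by
  induction m with
  | zero => rfl
  | succ n ih => simp only [T]; ring_nf; ring_nf at ih; omega

theorem T_eq (m : ℕ) : T m = m * (m + 1) / 2 := by
  rw [← two_mul_T m]; omega

theorem T_add_le (n k : ℕ) : T n + k ≤ T (n + k) := by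
  induction k with
  | zero => simp
  | succ k ih =>
    show T n + (k + 1) ≤ T (n + k) + (n + k + 1)
    omega

section Basic

variable {G : Type u} [Group G]

/-- The number of conjugates of `u`. -/
noncomputable def ix (u : G) : ℕ := (centralizer ({u} : Set G)).index

theorem mem_cent {u c : G} : c ∈ centralizer ({u} : Set G) ↔ c * u = u * c := by
  simp [mem_centralizer_singleton_iff]

theorem mem_cent' {u c : G} : c ∈ centralizer ({u} : Set G) ↔ ⁅u, c⁆ = 1 := by
  rw [mem_cent, commutatorElement_eq_one_iff_mul_comm, eq_comm]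

theorem exists_not_mem_two {H K : Subgroup G} (hH : H ≠ ⊤) (hK : K ≠ ⊤) :
    ∃ u, u ∉ H ∧ u ∉ K := by
  obtain ⟨a, ha⟩ : ∃ a, a ∉ H := by
    by_contra! h; exact hH (eq_top_iff.mpr fun x _ => h x)
  obtain ⟨b, hb⟩ : ∃ b, b ∉ K := by
    by_contra! h; exact hK (eq_top_iff.mpr fun x _ => h x)
  by_cases haK : a ∈ K
  · by_cases hbH : b ∈ H
    · exact ⟨a * b, fun h => ha ((H.mul_mem_cancel_right hbH).mp h),
        fun h => hb ((K.mul_mem_cancel_left haK).mp h)⟩
    · exact ⟨b, hbH, hb⟩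
  · exact ⟨a, ha, haK⟩

theorem card_comap_mk' (N : Subgroup G) [N.Normal] [Finite G] (R : Subgroup (G ⧸ N)) :
    Nat.card (R.comap (QuotientGroup.mk' N)) = Nat.card N * Nat.card R := by
  have h1 : (R.comap (QuotientGroup.mk' N)).index = R.index :=
    index_comap_of_surjective R (QuotientGroup.mk'_surjective N)
  have h2 := (R.comap (QuotientGroup.mk' N)).card_mul_index
  have h3 := N.card_mul_index
  rw [index_eq_card N, ← R.card_mul_index, ← h2, h1, ← mul_assoc] at h3
  exact (Nat.eq_of_mul_eq_mul_right (Nat.pos_of_ne_zero R.index_ne_zero_of_finite) h3).symm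

theorem card_sup_mul_card_inf [Finite G] (A B : Subgroup G) [B.Normal] :
    Nat.card (A ⊔ B : Subgroup G) * Nat.card (A ⊓ B : Subgroup G) = Nat.card A * Nat.card B := by
  have h1 : B.relIndex (A ⊔ B) * Nat.card B = Nat.card (A ⊔ B : Subgroup G) := by
    rw [← relIndex_bot_left B, ← relIndex_bot_left (A ⊔ B), mul_comm]
    exact relIndex_mul_relIndex _ _ _ bot_le le_sup_right
  have h2 : B.relIndex A * Nat.card (A ⊓ B : Subgroup G) = Nat.card A := by
    rw [← relIndex_bot_left (A ⊓ B), ← relIndex_bot_left A, ← inf_relIndex_left A B, mul_comm]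
    exact relIndex_mul_relIndex _ _ _ bot_le inf_le_left
  rw [← h1, ← h2, relIndex_sup_right]
  ring

theorem relIndex_le_index [Finite G] (H K : Subgroup G) : H.relIndex K ≤ H.index :=
  H.relIndex_top_right ▸ relIndex_le_of_le_right le_top (by
    rw [relIndex_top_right]; exact index_ne_zero_of_finite)

theorem isCoatom_of_index_prime [Finite G] {H : Subgroup G} (h : H.index.Prime) : IsCoatom H := by
  refine ⟨fun h0 => ?_, fun K hK => ?_⟩
  · rw [h0, index_top] at h; exact Nat.not_prime_one h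
  · rcases h.eq_one_or_self_of_dvd _ (index_dvd_of_le hK.le) with h1 | h1
    · exact index_eq_one.mp h1
    · exact absurd h1 (index_strictAnti hK).ne

end Basic

section Def

variable (p : ℕ)

/-- Few conjugates outside a proper subgroup. -/
def Tst (m : ℕ) : Prop :=
  ∀ (G : Type u) [Group G] [Finite G], IsPGroup p G → ∀ H : Subgroup G, H ≠ ⊤ →
    (∀ x ∉ H, ix x ≤ p ^ m) → Nat.card (commutator G) ≤ p ^ T m

/-- Few conjugates outside the union of two proper subgroups. -/
def Fst (m : ℕ) : Prop :=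
  ∀ (G : Type u) [Group G] [Finite G], IsPGroup p G → ∀ H K : Subgroup G,
    IsCoatom H → K.Normal → K ≠ ⊤ → ¬ K ≤ H →
    (∀ x ∉ H, x ∉ K → ix x ≤ p ^ m) → (∀ x ∈ K, x ∉ H → ix x ≤ p ^ (m + 1)) →
    (p ^ 2 ≤ K.index → Nat.card (commutator G) ≤ p ^ T m) ∧
      Nat.card (commutator G) ≤ p ^ (T m + m)

end Def

section PGroup

variable {G : Type u} [Group G] [Finite G] {p : ℕ} [hp : Fact p.Prime]

theorem one_lt_p : 1 < p := hp.out.one_lt

theorem coatom_pow_not_mem (hG : IsPGroup p G) {M : Subgroup G} (hM : IsCoatom M) {x : G}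
    (hx : x ∉ M) {i : ℤ} (h : x ^ i ∈ M) : (p : ℤ) ∣ i := by
  have := Lib.PGroups.coatom_normal hG hM
  have h1 : orderOf (x : G ⧸ M) = p := by
    refine orderOf_eq_prime ?_ ?_
    · rw [← QuotientGroup.mk_pow, QuotientGroup.eq_one_iff]
      exact Lib.PGroups.coatom_index hG hM ▸ M.pow_index_mem x
    · rwa [ne_eq, QuotientGroup.eq_one_iff]
  rw [← h1, orderOf_dvd_iff_zpow_eq_one, ← QuotientGroup.mk_zpow, QuotientGroup.eq_one_iff]
  exact h

theorem coatom_zpow_mem (hG : IsPGroup p G) {M : Subgroup G} (hM : IsCoatom M) (x : G) {i : ℤ}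
    (h : (p : ℤ) ∣ i) : x ^ i ∈ M := by
  have := Lib.PGroups.coatom_normal hG hM
  obtain ⟨c, rfl⟩ := h
  rw [zpow_mul, zpow_natCast]
  exact M.zpow_mem (Lib.PGroups.coatom_index hG hM ▸ M.pow_index_mem x) c

theorem commutator_le_coatom (hG : IsPGroup p G) {M : Subgroup G} (hM : IsCoatom M) :
    commutator G ≤ M :=
  (Lib.PGroups.commutator_le_frattini hG).trans (frattini_le_coatom hM)

theorem sup_zpowers_eq_top {M : Subgroup G} (hM : IsCoatom M) {x : G} (hx : x ∉ M) :
    M ⊔ zpowers x = ⊤ :=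
  hM.2 _ (left_lt_sup.mpr fun h => hx (h (mem_zpowers x)))

theorem index_cases (hG : IsPGroup p G) {K : Subgroup G} (hK : K ≠ ⊤) :
    K.index = p ∨ p ^ 2 ≤ K.index := by
  obtain ⟨n, hn⟩ := hG.index K
  rcases n with _ | _ | n
  · exact absurd (index_eq_one.mp (by simpa using hn)) hK
  · exact Or.inl (by simpa using hn)
  · exact Or.inr (hn ▸ Nat.pow_le_pow_right hp.out.pos (by omega))

theorem eq_bot_of_central {M : Subgroup G} {g : G} (htop : M ⊔ zpowers g = ⊤)
    (h : M ≤ center G) : commutator G = ⊥ := by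
  have h1 : centralizer ({g} : Set G) = ⊤ := by
    refine top_unique (htop ▸ sup_le ?_ (zpowers_le.mpr (mem_cent.mpr rfl)))
    exact fun x hx => mem_cent.mpr ((mem_center_iff.mp (h hx) g).symm)
  have h2 : center G = ⊤ := by
    refine top_unique (htop ▸ sup_le h (zpowers_le.mpr (mem_center_iff.mpr fun y => ?_)))
    exact mem_cent.mp (h1 ▸ mem_top y)
  rw [_root_.commutator_def, commutator_eq_bot_iff_le_centralizer, coe_top, centralizer_univ, h2]

theorem fst_setup (hG : IsPGroup p G) {H K : Subgroup G} (hH : IsCoatom H) (hK : K ≠ ⊤)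
    (hKH : ¬ K ≤ H) :
    ∃ (g : G) (M : Subgroup G), g ∈ K ∧ g ∉ H ∧ IsCoatom M ∧ g ∉ M ∧ ¬ M ≤ H ∧ M ⊓ K ≤ H ∧
      (p ^ 2 ≤ K.index → ∃ w, w ∉ H ∧ w ∉ K ∧ w ∉ M ∧ w * g⁻¹ ∈ M) := by
  obtain ⟨g, hgK, hgH⟩ := SetLike.not_le_iff_exists.mp hKH
  obtain ⟨J, hJ, hKJ⟩ := (eq_top_or_exists_le_coatom K).resolve_left hK
  have hHn := Lib.PGroups.coatom_normal hG hH
  have hJn := Lib.PGroups.coatom_normal hG hJ
  have hgJ : g ∈ J := hKJ hgK
  obtain ⟨v, hvH, hvJ⟩ : ∃ v ∈ H, v ∉ J := by
    by_contra! h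
    rcases hH.le_iff.mp h with hc | hc
    · exact hJ.1 hc
    · exact hgH (hc ▸ hgJ)
  have hvgH : v * g ∉ H := fun h => hgH ((H.mul_mem_cancel_left hvH).mp h)
  -- every element of `J` is in `(H ⊓ J) * ⟨g⟩`
  have hJdec : ∀ x ∈ J, ∃ d ∈ H ⊓ J, ∃ i : ℤ, d * g ^ i = x := by
    intro x hx
    have : x ∈ H ⊔ zpowers g := (sup_zpowers_eq_top hH hgH).symm ▸ mem_top x
    obtain ⟨h, hh, b, ⟨i, rfl⟩, rfl⟩ := mem_sup_of_normal_left.mp this
    exact ⟨h, ⟨hh, (J.mul_mem_cancel_right (J.zpow_mem hgJ i)).mp hx⟩, i, rfl⟩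
  have hgE : g ∉ (H ⊓ J) ⊔ zpowers (v * g) := by
    intro hg
    obtain ⟨d, hd, b, ⟨i, rfl⟩, hdi⟩ := mem_sup_of_normal_left.mp hg
    have h1 : (v * g) ^ i ∈ J := (J.mul_mem_cancel_left hd.2).mp (by
      have := hgJ; rwa [← hdi] at this)
    have h2 : (p : ℤ) ∣ i := coatom_pow_not_mem hG hJ
      (fun h => hvJ ((J.mul_mem_cancel_right hgJ).mp h)) h1
    have h3 := H.mul_mem hd.1 (coatom_zpow_mem hG hH (v * g) h2)
    rw [hdi] at h3
    exact hgH h3
  obtain ⟨M, hM, hEM⟩ := (eq_top_or_exists_le_coatom ((H ⊓ J) ⊔ zpowers (v * g))).resolve_left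
    (fun h => hgE (h ▸ mem_top g))
  have hDM : H ⊓ J ≤ M := le_sup_left.trans hEM
  have hvgM : v * g ∈ M := hEM (mem_sup_right (mem_zpowers _))
  have hgM : g ∉ M := by
    intro hg
    have hJM : J ≤ M := fun x hx => by
      obtain ⟨d, hd, i, rfl⟩ := hJdec x hx
      exact M.mul_mem (hDM hd) (M.zpow_mem hg i)
    rcases hJ.le_iff.mp hJM with hc | hc
    · exact hM.1 hc
    · exact hvJ ((J.mul_mem_cancel_right hgJ).mp (hc ▸ hvgM))
  refine ⟨g, M, hgK, hgH, hM, hgM, fun h => hvgH (h hvgM), ?_, ?_⟩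
  · rintro x ⟨hxM, hxK⟩
    obtain ⟨d, hd, i, rfl⟩ := hJdec x (hKJ hxK)
    have h1 : g ^ i ∈ M := (M.mul_mem_cancel_left (hDM hd)).mp hxM
    exact H.mul_mem hd.1 (coatom_zpow_mem hG hH _ (coatom_pow_not_mem hG hM hgM h1))
  · intro hidx
    obtain ⟨v', hv', hv'K⟩ : ∃ v' ∈ H ⊓ J, v' ∉ K := by
      by_contra! h
      have hJK : J ≤ K := fun x hx => by
        obtain ⟨d, hd, i, rfl⟩ := hJdec x hx
        exact K.mul_mem (h d hd) (K.zpow_mem hgK i)
      rw [le_antisymm hKJ hJK, Lib.PGroups.coatom_index hG hJ] at hidx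
      nlinarith [one_lt_p (p := p)]
    exact ⟨v' * g, fun h => hgH ((H.mul_mem_cancel_left hv'.1).mp h),
      fun h => hv'K ((K.mul_mem_cancel_right hgK).mp h),
      fun h => hgM ((M.mul_mem_cancel_left (hDM hv')).mp h),
      by simpa using hDM hv'⟩

/-- If everything is central modulo `N`, for `M` and `g` generating, `commutator G ≤ N`. -/
theorem commutator_le_of_gen {M N : Subgroup G} [N.Normal] {g : G} (htop : M ⊔ zpowers g = ⊤)
    (hMM : ∀ a ∈ M, ∀ b ∈ M, ⁅a, b⁆ ∈ N) (hgM : ∀ a ∈ M, ⁅g, a⁆ ∈ N) : commutator G ≤ N := by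
  let π := QuotientGroup.mk' N
  have hπ : ∀ {a b : G}, ⁅a, b⁆ ∈ N → π a * π b = π b * π a := fun {a b} h => by
    rw [← commutatorElement_eq_one_iff_mul_comm, ← map_commutatorElement]
    exact (QuotientGroup.eq_one_iff _).mpr h
  have htop' : M.map π ⊔ zpowers (π g) = ⊤ := by
    rw [← MonoidHom.map_zpowers, ← Subgroup.map_sup, htop,
      map_top_of_surjective _ (QuotientGroup.mk'_surjective N)]
  have hMc : M.map π ≤ center (G ⧸ N) := by
    rintro _ ⟨a, ha, rfl⟩
    have hc : centralizer ({π a} : Set (G ⧸ N)) = ⊤ := by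
      refine top_unique (htop' ▸ sup_le ?_ (zpowers_le.mpr (mem_cent.mpr (hπ (hgM a ha)))))
      rintro _ ⟨b, hb, rfl⟩
      exact mem_cent.mpr (hπ (hMM b hb a ha))
    exact mem_center_iff.mpr fun y => mem_cent.mp (hc ▸ mem_top y)
  have h := eq_bot_of_central htop' hMc
  intro x hx
  have h2 : π x ∈ commutator (G ⧸ N) := by
    have : (commutator G).map π ≤ commutator (G ⧸ N) := by
      rw [_root_.commutator_def, map_commutator, _root_.commutator_def]
      exact commutator_mono le_top le_top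
    exact this (mem_map_of_mem _ hx)
  rw [h, mem_bot] at h2
  exact (QuotientGroup.eq_one_iff x).mp h2

theorem fst_of (m : ℕ) (hT : ∀ n ≤ m, Tst.{u} p n) (hF : ∀ n < m, Fst.{u} p n) :
    Fst.{u} p m := by
  intro G _ _ hG H K hH hKn hKtop hKH h1 h2
  obtain ⟨g, M, hgK, hgH, hM, hgM, hMH, hMK, hw⟩ := fst_setup hG hH hKtop hKH
  have hMn := Lib.PGroups.coatom_normal hG hM
  have hMidx := Lib.PGroups.coatom_index hG hM
  have hout : ∀ x ∈ M, x ∉ H → ix x ≤ p ^ m := fun x hx hxH =>
    h1 x hxH fun h => hxH (hMK ⟨hx, h⟩)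
  have hgtop := sup_zpowers_eq_top hM hgM
  rcases m with _ | j
  · -- base case: `G` is abelian
    have hz : ∀ x ∈ M, x ∉ H → x ∈ center G := by
      intro x hx hxH
      have := hout x hx hxH
      rw [pow_zero, ix] at this
      have h : centralizer ({x} : Set G) = ⊤ :=
        index_eq_one.mp (le_antisymm this (Nat.pos_of_ne_zero (index_ne_zero_of_finite)))
      exact mem_center_iff.mpr fun y => mem_cent.mp (h ▸ mem_top y)
    obtain ⟨c, hc, hcH⟩ := SetLike.not_le_iff_exists.mp hMH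
    have hb : commutator G = ⊥ := by
      refine eq_bot_of_central hgtop fun x hx => ?_
      by_cases hxH : x ∈ H
      · have := hz (x * c) (M.mul_mem hx hc) fun h => hcH ((H.mul_mem_cancel_left hxH).mp h)
        simpa using (center G).mul_mem this ((center G).inv_mem (hz c hc hcH))
      · exact hz x hx hxH
    simp [hb, T]
  -- `M'` and the homomorphism `k ↦ [g, k]` modulo it
  let N := ⁅M, M⁆
  have hNM : N ≤ M := commutator_le_right M M
  let π := QuotientGroup.mk' N
  have hπ : ∀ a ∈ M, ∀ b ∈ M, π a * π b = π b * π a := fun a ha b hb => by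
    rw [← commutatorElement_eq_one_iff_mul_comm, ← map_commutatorElement]
    exact (QuotientGroup.eq_one_iff _).mpr (commutator_mem_commutator ha hb)
  have hcM : ∀ x y : G, ⁅x, y⁆ ∈ M := fun x y =>
    commutator_le_coatom hG hM (commutator_mem_commutator (mem_top x) (mem_top y))
  let A : M →* G ⧸ N := MonoidHom.mk' (fun k => π ⁅g, (k : G)⁆) fun a b => by
    show π ⁅g, (a : G) * b⁆ = π ⁅g, (a : G)⁆ * π ⁅g, (b : G)⁆
    rw [commutatorElement_mul_right_eq_mul_conj, map_mul, map_mul, map_mul, map_inv,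
      mul_assoc (π ⁅g, (a : G)⁆), hπ _ a.2 _ (hcM g b), mul_assoc, mul_inv_cancel_right]
  have hA : ∀ {a : M}, a ∈ A.ker ↔ ⁅g, (a : G)⁆ ∈ N := fun {a} => by
    rw [MonoidHom.mem_ker]; exact QuotientGroup.eq_one_iff _
  have hconj : ∀ x ∈ A.range, ∀ c : G, π c * x * (π c)⁻¹ ∈ A.range := by
    rintro _ ⟨a, rfl⟩ c
    have : c ∈ M ⊔ zpowers g := hgtop.symm ▸ mem_top c
    obtain ⟨b, hb, _, ⟨i, rfl⟩, rfl⟩ := mem_sup_of_normal_left.mp this
    refine ⟨⟨g ^ i * a * (g ^ i)⁻¹, hMn.conj_mem _ a.2 _⟩, ?_⟩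
    show π ⁅g, g ^ i * (a : G) * (g ^ i)⁻¹⁆ = _
    have h3 : g ^ i * ⁅g, (a : G)⁆ * (g ^ i)⁻¹ = ⁅g, g ^ i * (a : G) * (g ^ i)⁻¹⁆ := by
      rw [conjugate_commutatorElement, (Commute.zpow_self g i).eq, mul_inv_cancel_right]
    have h4 := hπ b hb _ (hMn.conj_mem _ (hcM g a) (g ^ i))
    rw [← h3]
    show _ = π (b * g ^ i) * π ⁅g, (a : G)⁆ * (π (b * g ^ i))⁻¹
    calc π (g ^ i * ⁅g, (a : G)⁆ * (g ^ i)⁻¹)
        = π b * π (g ^ i * ⁅g, (a : G)⁆ * (g ^ i)⁻¹) * (π b)⁻¹ := by
          rw [h4, mul_inv_cancel_right]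
      _ = _ := by simp only [map_mul, map_inv, mul_inv_rev, mul_assoc]
  have hRn : A.range.Normal := ⟨fun x hx c => by
    obtain ⟨c, rfl⟩ := QuotientGroup.mk'_surjective N c
    exact hconj x hx c⟩
  have hcomm : commutator G ≤ A.range.comap π := by
    refine commutator_le_of_gen hgtop (fun a ha b hb => ?_) fun a ha => ⟨⟨a, ha⟩, rfl⟩
    have : π ⁅a, b⁆ = 1 := (QuotientGroup.eq_one_iff _).mpr (commutator_mem_commutator ha hb)
    rw [mem_comap, this]; exact one_mem _
  have hcard : Nat.card (commutator G) ≤ Nat.card (commutator M) * A.ker.index := by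
    refine (card_le_of_le hcomm).trans ?_
    rw [card_comap_mk', index_ker, ← card_map_of_injective M.subtype_injective,
      map_subtype_commutator]
  -- the index of the kernel
  have hI : A.ker.index ≤ p ^ (j + 2) := by
    calc A.ker.index ≤ ((centralizer ({g} : Set G)).subgroupOf M).index := by
          refine index_antitone fun a ha => hA.mpr ?_
          rw [mem_subgroupOf, mem_cent'] at ha
          rw [ha]; exact one_mem _
      _ ≤ ix g := relIndex_le_index _ _
      _ ≤ p ^ (j + 2) := h2 g hgK hgH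
  have hI2 : p ^ 2 ≤ K.index → A.ker.index ≤ p ^ (j + 1) := fun hidx => by
    obtain ⟨w, hwH, hwK, -, hwg⟩ := hw hidx
    calc A.ker.index ≤ ((centralizer ({w} : Set G)).subgroupOf M).index := by
          refine index_antitone fun a ha => hA.mpr ((QuotientGroup.eq_one_iff _).mp ?_)
          rw [mem_subgroupOf, mem_cent'] at ha
          have h3 := congrArg π ha
          rw [show w = w * g⁻¹ * g by group, commutatorElement_mul_left_eq_conj_mul, map_mul,
            map_mul, map_mul, map_inv, map_one, hπ _ hwg _ (hcM g a), mul_inv_cancel_right] at h3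
          have h5 : π ⁅w * g⁻¹, (a : G)⁆ = 1 :=
            (QuotientGroup.eq_one_iff _).mpr (commutator_mem_commutator hwg a.2)
          rwa [h5, mul_one] at h3
      _ ≤ ix w := relIndex_le_index _ _
      _ ≤ p ^ (j + 1) := h1 w hwH hwK
  -- conjugates inside `M`
  have hix : ∀ x : M, ix x = (centralizer ({(x : G)} : Set G)).relIndex M := by
    intro x
    rw [ix, relIndex]
    congr 1
    ext a
    simp only [mem_subgroupOf, mem_cent, Subtype.ext_iff, coe_mul]
  have hix1 : ∀ x : M, x ∉ H.subgroupOf M → ix x ≤ p ^ (j + 1) := fun x hx =>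
    (hix x).trans_le ((relIndex_le_index _ _).trans (hout x x.2 hx))
  have hix0 : ∀ x : M, x ∉ H.subgroupOf M → x ∉ A.ker → ix x ≤ p ^ j := by
    intro x hx hxk
    have hCM : centralizer ({(x : G)} : Set G) ≤ M := by
      intro c hc
      by_contra hcM'
      have hle : M ≤ (centralizer ({π x} : Set (G ⧸ N))).comap π := fun a ha =>
        mem_cent.mpr (hπ a ha x x.2)
      have hmem : c ∈ (centralizer ({π x} : Set (G ⧸ N))).comap π := by
        rw [mem_comap, mem_cent, ← map_mul, ← map_mul, mem_cent.mp hc]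
      rcases hM.le_iff.mp hle with h3 | h3
      · refine hxk (hA.mpr ((QuotientGroup.eq_one_iff _).mp ?_))
        show π ⁅g, (x : G)⁆ = 1
        rw [map_commutatorElement, commutatorElement_eq_one_iff_mul_comm]
        exact mem_cent.mp (mem_comap.mp (h3 ▸ mem_top g))
      · exact hcM' (h3 ▸ hmem)
    have h3 := hout x x.2 hx
    rw [ix, ← relIndex_mul_index hCM, hMidx, ← hix, pow_succ] at h3
    exact Nat.le_of_mul_le_mul_right h3 hp.out.pos
  -- the inductive bounds on `M'`
  have hMG : IsPGroup p M := hG.to_subgroup M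
  have hH1 : H.subgroupOf M ≠ ⊤ := fun h => hMH (subgroupOf_eq_top.mp h)
  suffices hmain : Nat.card (commutator M) * A.ker.index ≤ p ^ (T j + (j + 1)) ∨
      Nat.card (commutator M) ≤ p ^ T j by
    simp only [T] at *
    have e1 : p ^ (T j + (j + 1)) ≤ p ^ (T j + (j + 1) + (j + 1)) :=
      Nat.pow_le_pow_right hp.out.pos (by omega)
    rcases hmain with h | h
    · exact ⟨fun _ => hcard.trans h, (hcard.trans h).trans e1⟩
    · refine ⟨fun hidx => hcard.trans ?_, hcard.trans ?_⟩
      · rw [pow_add]; exact Nat.mul_le_mul h (hI2 hidx)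
      · refine (Nat.mul_le_mul h hI).trans ?_
        rw [← pow_add]; exact Nat.pow_le_pow_right hp.out.pos (by omega)
  by_cases hk : A.ker = ⊤
  · left
    rw [hk, index_top, mul_one]
    exact hT (j + 1) le_rfl M hMG _ hH1 hix1
  by_cases hkH : A.ker ≤ H.subgroupOf M
  · exact Or.inr (hT j (by omega) M hMG _ hH1 fun x hx => hix0 x hx fun h => hx (hkH h))
  have hH1c : IsCoatom (H.subgroupOf M) := by
    refine isCoatom_of_index_prime ?_
    have h3 : (H.subgroupOf M).index ≤ p :=
      (relIndex_le_index H M).trans (Lib.PGroups.coatom_index hG hH).le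
    rcases index_cases hMG hH1 with h4 | h4
    · rw [h4]; exact hp.out
    · exfalso; nlinarith [one_lt_p (p := p)]
  obtain ⟨hb, hb'⟩ := hF j (by omega) M hMG _ A.ker hH1c inferInstance hk hkH hix0
    fun x _ hx => hix1 x hx
  rcases index_cases hMG hk with h4 | h4
  · left
    rw [h4, show T j + (j + 1) = T j + j + 1 by omega, pow_succ]
    exact Nat.mul_le_mul hb' le_rfl
  · exact Or.inr (hb h4)

theorem tst_zero : Tst.{u} p 0 := by
  intro G _ _ hG H hH h
  obtain ⟨H', hH', hle⟩ := (eq_top_or_exists_le_coatom H).resolve_left hH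
  have hz : ∀ x, x ∉ H' → x ∈ center G := by
    intro x hx
    have := h x fun h' => hx (hle h')
    rw [pow_zero, ix] at this
    have h : centralizer ({x} : Set G) = ⊤ :=
      index_eq_one.mp (le_antisymm this (Nat.pos_of_ne_zero index_ne_zero_of_finite))
    exact mem_center_iff.mpr fun y => mem_cent.mp (h ▸ mem_top y)
  obtain ⟨c, hc⟩ : ∃ c, c ∉ H' := by
    by_contra! h'; exact hH'.1 (eq_top_iff.mpr fun x _ => h' x)
  have h2 : center G = ⊤ := by
    refine eq_top_iff.mpr fun x _ => ?_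
    by_cases hx : x ∈ H'
    · have := hz (x * c) fun h => hc ((H'.mul_mem_cancel_left hx).mp h)
      simpa using (center G).mul_mem this ((center G).inv_mem (hz c hc))
    · exact hz x hx
  have hb : commutator G = ⊥ := by
    rw [_root_.commutator_def, commutator_eq_bot_iff_le_centralizer, coe_top, centralizer_univ, h2]
  simp [hb, T]

theorem tst_of (n : ℕ) (hT : ∀ i ≤ n, Tst.{u} p i) (hF : ∀ i ≤ n, Fst.{u} p i) :
    Tst.{u} p (n + 1) := by
  intro G _ _ hG H₀ hH₀ hu₀
  obtain ⟨H, hH, hle⟩ := (eq_top_or_exists_le_coatom H₀).resolve_left hH₀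
  have hu : ∀ x ∉ H, ix x ≤ p ^ (n + 1) := fun x hx => hu₀ x fun h => hx (hle h)
  by_cases hab : center G = ⊤
  · have hb : commutator G = ⊥ := by
      rw [_root_.commutator_def, commutator_eq_bot_iff_le_centralizer, coe_top, centralizer_univ, hab]
    rw [hb, card_bot]
    exact Nat.one_le_pow _ _ hp.out.pos
  -- a noncentral element which is central modulo the centre
  obtain ⟨y, hy, hyc⟩ : ∃ y : G, y ∉ center G ∧ ∀ x : G, ⁅x, y⁆ ∈ center G := by
    have hnt : Nontrivial (G ⧸ center G) := QuotientGroup.nontrivial_iff.mpr hab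
    obtain ⟨⟨q, hq⟩, hq1⟩ :=
      @exists_ne _ (hG.to_quotient (center G)).center_nontrivial 1
    obtain ⟨y, rfl⟩ := QuotientGroup.mk_surjective q
    refine ⟨y, fun h => hq1 (Subtype.ext ((QuotientGroup.eq_one_iff y).mpr h)), fun x => ?_⟩
    rw [← QuotientGroup.eq_one_iff, show ((⁅x, y⁆ : G) : G ⧸ center G) =
      ⁅(x : G ⧸ center G), (y : G ⧸ center G)⁆ from
        map_commutatorElement (QuotientGroup.mk' (center G)) x y,
      commutatorElement_eq_one_iff_mul_comm]
    exact mem_center_iff.mp hq x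
  let ψ : G →* G := MonoidHom.mk' (fun x => ⁅x, y⁆) fun a b => by
    show ⁅a * b, y⁆ = ⁅a, y⁆ * ⁅b, y⁆
    rw [commutatorElement_mul_left_eq_conj_mul, mem_center_iff.mp (hyc b) a,
      mul_inv_cancel_right]
    exact (mem_center_iff.mp (hyc b) _).symm
  let C := centralizer ({y} : Set G)
  have hker : ψ.ker = C := by
    ext x
    rw [MonoidHom.mem_ker, mem_cent]
    exact commutatorElement_eq_one_iff_mul_comm
  let Y := ψ.range
  have hYc : ∀ z ∈ Y, ∀ x : G, x * z = z * x := by
    rintro _ ⟨a, rfl⟩ x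
    exact mem_center_iff.mp (hyc a) x
  have hYn : Y.Normal := ⟨fun z hz c => by rwa [hYc z hz c, mul_inv_cancel_right]⟩
  have hYG : Y ≤ commutator G := by
    rintro _ ⟨a, rfl⟩; exact commutator_mem_commutator (mem_top a) (mem_top y)
  have hYH : Y ≤ H := hYG.trans (commutator_le_coatom hG hH)
  have hYC : Y ≤ C := fun z hz => mem_cent.mpr (hYc z hz y).symm
  have hcardY : Nat.card Y = C.index := by rw [← hker, index_ker]
  have hCtop : C ≠ ⊤ := fun h =>
    hy (mem_center_iff.mpr fun x => mem_cent.mp (show x ∈ C by rw [h]; exact mem_top x))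
  obtain ⟨r, hr⟩ := hG.index C
  have hCn : C.Normal := hker ▸ inferInstance
  let π := QuotientGroup.mk' Y
  have hπs : Function.Surjective π := QuotientGroup.mk'_surjective Y
  have hπk : π.ker = Y := QuotientGroup.ker_mk' Y
  have hQ : IsPGroup p (G ⧸ Y) := hG.to_quotient Y
  have hcC : ∀ {x : G}, π x ∈ C.map π ↔ x ∈ C := fun {x} => by
    rw [← mem_comap, comap_map_eq_self (hπk.trans_le hYC)]
  have hcH : ∀ {x : G}, π x ∈ H.map π ↔ x ∈ H := fun {x} => by
    rw [← mem_comap, comap_map_eq_self (hπk.trans_le hYH)]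
  have hH' : IsCoatom (H.map π) := isCoatom_of_index_prime <| by
    rw [index_map_eq H hπs (hπk.trans_le hYH), Lib.PGroups.coatom_index hG hH]
    exact hp.out
  have hCn' : (C.map π).Normal := hCn.map π hπs
  have hCidx : (C.map π).index = p ^ r := (index_map_eq C hπs (hπk.trans_le hYC)).trans hr
  have hCtop' : C.map π ≠ ⊤ := fun h => hCtop (eq_top_iff.mpr fun x _ => hcC.mp (h ▸ mem_top _))
  have hcard : ∀ e, Nat.card (commutator (G ⧸ Y)) ≤ p ^ e → r + e ≤ T (n + 1) →
      Nat.card (commutator G) ≤ p ^ T (n + 1) := by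
    intro e he hle'
    have hle2 : commutator G ≤ (commutator (G ⧸ Y)).comap π := by
      rw [← map_le_iff_le_comap, _root_.commutator_def, map_commutator, _root_.commutator_def]
      exact commutator_mono le_top le_top
    refine (card_le_of_le hle2).trans ?_
    rw [card_comap_mk', hcardY, hr]
    refine (Nat.mul_le_mul le_rfl he).trans ?_
    rw [← pow_add]; exact Nat.pow_le_pow_right hp.out.pos hle'
  -- the class sizes in the quotient
  let L : G → Subgroup G := fun x => (centralizer ({π x} : Set (G ⧸ Y))).comap π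
  have hLix : ∀ x, ix (π x) = (L x).index := fun x => (index_comap_of_surjective _ hπs).symm
  have hmemL : ∀ {x c : G}, c ∈ L x ↔ ⁅x, c⁆ ∈ Y := fun {x c} => by
    rw [mem_comap, mem_cent', ← map_commutatorElement]
    exact QuotientGroup.eq_one_iff _
  have hCL : ∀ x, centralizer ({x} : Set G) ≤ L x := fun x c hc =>
    hmemL.mpr (by rw [mem_cent'.mp hc]; exact one_mem _)
  have hyL : ∀ x, y ∈ L x := fun x => hmemL.mpr ⟨x, rfl⟩
  have hlow : ∀ x, x ∉ H → ix (π x) ≤ p ^ (n + 1) := fun x hx => by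
    rw [hLix]; exact (index_antitone (hCL x)).trans (hu x hx)
  have hlow2 : ∀ x, x ∉ H → x ∉ C → ix (π x) ≤ p ^ n := fun x hx hxC => by
    rw [hLix]
    obtain ⟨a, ha⟩ := hG.index (L x)
    have h3 : (L x).index < ix x := index_strictAnti (lt_of_le_of_ne (hCL x) fun h =>
      hxC (mem_cent.mpr ((mem_cent.mp (h.symm ▸ hyL x : y ∈ centralizer {x})).symm)))
    have h4 := h3.trans_le (hu x hx)
    rw [ha] at h4 ⊢
    exact Nat.pow_le_pow_right hp.out.pos
      (Nat.lt_succ_iff.mp ((Nat.pow_lt_pow_iff_right hp.out.one_lt).mp h4))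
  by_cases hr1 : r ≤ n + 1
  · by_cases hCH : C ≤ H
    · refine hcard _ (hT n le_rfl _ hQ _ hH'.1 fun q hq => ?_) (by simp only [T]; omega)
      obtain ⟨x, rfl⟩ := hπs q
      have hxH : x ∉ H := fun h => hq (hcH.mpr h)
      exact hlow2 x hxH fun h => hxH (hCH h)
    · obtain ⟨hb, hb'⟩ := hF n le_rfl _ hQ _ (C.map π) hH' hCn' hCtop'
        (fun h => hCH fun x hx => hcH.mp (h (hcC.mpr hx)))
        (fun q hq hq' => by
          obtain ⟨x, rfl⟩ := hπs q
          exact hlow2 x (fun h => hq (hcH.mpr h)) fun h => hq' (hcC.mpr h))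
        (fun q _ hq => by
          obtain ⟨x, rfl⟩ := hπs q
          exact hlow x fun h => hq (hcH.mpr h))
      rcases Nat.lt_or_ge r 2 with hr2 | hr2
      · exact hcard _ hb' (by simp only [T]; omega)
      · exact hcard _ (hb (hCidx ▸ Nat.pow_le_pow_right hp.out.pos hr2))
          (by simp only [T]; omega)
  -- now `p ^ (n + 1) < |Y|`; in particular `y ∈ H`
  obtain ⟨k, hk⟩ : ∃ k, r = n + 1 + k := ⟨r - (n + 1), by omega⟩
  have hyH : y ∈ H := by
    by_contra hyH
    have h3 := hu y hyH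
    rw [ix, hr, Nat.pow_le_pow_iff_right hp.out.one_lt] at h3
    omega
  have hkey : ∀ x, x ∉ H → ∃ l, ix (π x) = p ^ l ∧ l + k ≤ n + 1 ∧ (x ∉ C → l + k ≤ n) := by
    intro x hx
    rw [hLix]
    obtain ⟨l, hl⟩ := hG.index (L x)
    refine ⟨l, hl, ?_⟩
    have hxy : x * y ∉ H := fun h => hx ((H.mul_mem_cancel_right hyH).mp h)
    have hCL' : centralizer ({x * y} : Set G) ≤ L x := fun c hc => hmemL.mpr <| by
      have h3 := mem_cent'.mp hc
      rw [commutatorElement_mul_left_eq_conj_mul] at h3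
      have h4 : ⁅y, c⁆ ∈ Y := by
        rw [← commutatorElement_inv]; exact Y.inv_mem ⟨c, rfl⟩
      rw [hYc _ h4 x, mul_inv_cancel_right, mul_eq_one_iff_eq_inv'] at h3
      rw [h3]; exact Y.inv_mem h4
    let α : L x →* G := MonoidHom.mk' (fun c => ⁅x, (c : G)⁆) fun a b => by
      show ⁅x, (a : G) * b⁆ = ⁅x, (a : G)⁆ * ⁅x, (b : G)⁆
      rw [commutatorElement_mul_right_eq_mul_conj, mul_assoc ⁅x, (a : G)⁆,
        hYc _ (hmemL.mp b.2) a, mul_assoc, mul_inv_cancel_right]
    have hψy : ∀ c : G, ⁅y, c⁆ = (ψ c)⁻¹ := fun c => (commutatorElement_inv c y).symm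
    let α' : L x →* G := MonoidHom.mk' (fun c => (ψ (c : G))⁻¹ * α c) fun a b => by
      show (ψ ((a : G) * b))⁻¹ * α (a * b) = (ψ (a : G))⁻¹ * α a * ((ψ (b : G))⁻¹ * α b)
      have h3 := hYc _ (Y.inv_mem ⟨(b : G), rfl⟩ : (ψ (b : G))⁻¹ ∈ Y)
      rw [map_mul, map_mul, mul_inv_rev, ← h3 (ψ (a : G))⁻¹, mul_assoc, mul_assoc]
      congr 1
      rw [← mul_assoc, ← h3 (α a), mul_assoc]
    have hα'eq : ∀ c : L x, α' c = ⁅x * y, (c : G)⁆ := fun c => by
      show (ψ (c : G))⁻¹ * ⁅x, (c : G)⁆ = _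
      rw [commutatorElement_mul_left_eq_conj_mul, hψy,
        hYc _ (Y.inv_mem ⟨(c : G), rfl⟩) x, mul_inv_cancel_right]
    have hAY : α.range ≤ Y := by rintro _ ⟨c, rfl⟩; exact hmemL.mp c.2
    have hA'Y : α'.range ≤ Y := by
      rintro _ ⟨c, rfl⟩; exact Y.mul_mem (Y.inv_mem ⟨(c : G), rfl⟩) (hmemL.mp c.2)
    have : α'.range.Normal := ⟨fun z hz c => by rwa [hYc z (hA'Y hz) c, mul_inv_cancel_right]⟩
    have hA1 : (L x).index * Nat.card α.range = ix x := by
      have h3 : α.ker = (centralizer ({x} : Set G)).subgroupOf (L x) := by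
        ext c; rw [MonoidHom.mem_ker, mem_subgroupOf, mem_cent']; rfl
      rw [← index_ker, h3, mul_comm]
      exact relIndex_mul_index (hCL x)
    have hA2 : (L x).index * Nat.card α'.range = ix (x * y) := by
      have h3 : α'.ker = (centralizer ({x * y} : Set G)).subgroupOf (L x) := by
        ext c; rw [MonoidHom.mem_ker, mem_subgroupOf, mem_cent', hα'eq]
      rw [← index_ker, h3, mul_comm]
      exact relIndex_mul_index hCL'
    have hC : C.index ≤ (L x).index * Nat.card (α.range ⊔ α'.range : Subgroup G) := by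
      have h3 : (L x).map ψ ≤ α.range ⊔ α'.range := by
        rintro _ ⟨c, hc, rfl⟩
        have h4 : ψ c = α ⟨c, hc⟩ * (α' ⟨c, hc⟩)⁻¹ := by
          show ψ c = α ⟨c, hc⟩ * ((ψ c)⁻¹ * α ⟨c, hc⟩)⁻¹
          group
        rw [h4]
        exact mul_mem (mem_sup_left ⟨_, rfl⟩) (mem_sup_right (inv_mem ⟨_, rfl⟩))
      calc C.index ≤ (C ⊓ L x).index := index_antitone inf_le_left
        _ = (C ⊓ L x).relIndex (L x) * (L x).index := (relIndex_mul_index inf_le_right).symm
        _ = (L x).index * Nat.card ((L x).map ψ) := by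
            rw [inf_relIndex_right, mul_comm, ← hker, ← relIndex_ker]
        _ ≤ _ := Nat.mul_le_mul le_rfl (card_le_of_le h3)
    have hprod : C.index * (L x).index * Nat.card (α.range ⊓ α'.range : Subgroup G) ≤
        p ^ (n + 1) * p ^ (n + 1) :=
      calc _ ≤ (L x).index * Nat.card (α.range ⊔ α'.range : Subgroup G) * (L x).index *
            Nat.card (α.range ⊓ α'.range : Subgroup G) :=
            Nat.mul_le_mul (Nat.mul_le_mul hC le_rfl) le_rfl
        _ = ((L x).index * Nat.card α.range) * ((L x).index * Nat.card α'.range) := by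
            have := card_sup_mul_card_inf α.range α'.range
            linear_combination ((L x).index * (L x).index) * this
        _ ≤ _ := by rw [hA1, hA2]; exact Nat.mul_le_mul (hu x hx) (hu _ hxy)
    obtain ⟨a, ha⟩ := IsPGroup.iff_card.mp (hG.to_subgroup (α.range ⊓ α'.range : Subgroup G))
    rw [hr, hl, ha, ← pow_add, ← pow_add, ← pow_add,
      Nat.pow_le_pow_iff_right hp.out.one_lt] at hprod
    refine ⟨by omega, fun hxC => ?_⟩
    have ha1 : a ≠ 0 := by
      rintro rfl
      have hbot : α.range ⊓ α'.range = ⊥ := (card_eq_one).mp (by simpa using ha)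
      have hmem : ⁅x, y⁆ ∈ α.range ⊓ α'.range := by
        refine ⟨⟨⟨y, hyL x⟩, rfl⟩, ⟨y, hyL x⟩, ?_⟩
        show (ψ y)⁻¹ * ⁅x, y⁆ = _
        simp [ψ]
      rw [hbot, mem_bot, commutatorElement_eq_one_iff_mul_comm] at hmem
      exact hxC (mem_cent.mpr hmem)
    omega
  obtain ⟨x₀, hx₀H, hx₀C⟩ := exists_not_mem_two hH.1 hCtop
  obtain ⟨i, hi⟩ : ∃ i, n = k + i := by
    obtain ⟨l, -, -, h3⟩ := hkey x₀ hx₀H
    exact ⟨n - k, by have := h3 hx₀C; omega⟩
  have hTi : r + T i ≤ T (n + 1) := by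
    have := T_add_le i k
    rw [show i + k = n by omega] at this
    simp only [T]; omega
  have hlowi : ∀ x, x ∉ H → x ∉ C → ix (π x) ≤ p ^ i := fun x hx hxC => by
    obtain ⟨l, hl, -, h3⟩ := hkey x hx
    rw [hl]; exact Nat.pow_le_pow_right hp.out.pos (by have := h3 hxC; omega)
  by_cases hCH : C ≤ H
  · refine hcard _ (hT i (by omega) _ hQ _ hH'.1 fun q hq => ?_) hTi
    obtain ⟨x, rfl⟩ := hπs q
    have hxH : x ∉ H := fun h => hq (hcH.mpr h)
    exact hlowi x hxH fun h => hxH (hCH h)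
  · obtain ⟨hb, -⟩ := hF i (by omega) _ hQ _ (C.map π) hH' hCn' hCtop'
      (fun h => hCH fun x hx => hcH.mp (h (hcC.mpr hx)))
      (fun q hq hq' => by
        obtain ⟨x, rfl⟩ := hπs q
        exact hlowi x (fun h => hq (hcH.mpr h)) fun h => hq' (hcC.mpr h))
      (fun q _ hq => by
        obtain ⟨x, rfl⟩ := hπs q
        obtain ⟨l, hl, h3, -⟩ := hkey x fun h => hq (hcH.mpr h)
        rw [hl]; exact Nat.pow_le_pow_right hp.out.pos (by omega))
    exact hcard _ (hb (hCidx ▸ Nat.pow_le_pow_right hp.out.pos (by omega))) hTi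

theorem tst_fst (m : ℕ) : Tst.{u} p m ∧ Fst.{u} p m := by
  induction m using Nat.strong_induction_on with
  | _ m ih =>
    have hTm : Tst.{u} p m := by
      rcases m with _ | n
      · exact tst_zero
      · exact tst_of n (fun i hi => (ih i (by omega)).1) fun i hi => (ih i (by omega)).2
    refine ⟨hTm, fst_of m (fun i hi => ?_) fun i hi => (ih i hi).2⟩
    rcases Nat.lt_or_eq_of_le hi with h | rfl
    · exact (ih i h).1
    · exact hTm

end PGroup

/-- Vaughan-Lee's Theorem: if G is a finite p-group in which every conjugacy class has at most p^b elements (every element has centralizer of index at most p^b), then the derived subgroup of G has order at most p^(b(b+1)/2). -/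
theorem result {G : Type*} [Group G] [Finite G] {p : ℕ} [Fact p.Prime] (hG : IsPGroup p G) (b : ℕ) (hb : ∀ x : G, (Subgroup.centralizer ({x} : Set G)).index ≤ p ^ b) : Nat.card (commutator G) ≤ p ^ (b * (b + 1) / 2) := by
  rw [← T_eq]
  rcases eq_or_ne (⊥ : Subgroup G) ⊤ with h | h
  · have hb : commutator G = ⊥ := le_bot_iff.mp (h ▸ le_top)
    rw [hb, Subgroup.card_bot]
    exact Nat.one_le_pow _ _ (Fact.out : p.Prime).pos
  · exact (tst_fst b).1 G hG ⊥ h fun x _ => hb x

end Cfsg.Agent.S3777
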