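import Cfsg.Statements.S3778

set_option autoImplicit false
open Cfsg

namespace Cfsg.Agent.S3778

open Subgroup
open scoped commutatorElement

variable {G : Type*} [Group G]

set_option quotPrecheck false in
local notation "L" i => (⊤ : Subgroup G).lowerCentralSeries i

/-- The elements acting trivially on the `i`-th section of the lower central series. -/
def twoStep (i : ℕ) : Subgroup G where
  carrier := {x | ∀ g ∈ L i, ⁅x, g⁆ ∈ L (i + 2)}
  one_mem' := fun g _ => by simp
  mul_mem' := by
    intro x y hx hy g hg
    rw [show ⁅x * y, g⁆ = x * ⁅y, g⁆ * x⁻¹ * ⁅x, g⁆ by simp only [commutatorElement_def]; group]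
    exact mul_mem (Normal.conj_mem inferInstance _ (hy g hg) x) (hx g hg)
  inv_mem' := by
    intro x hx g hg
    rw [show ⁅x⁻¹, g⁆ = x⁻¹ * ⁅x, g⁆⁻¹ * x⁻¹⁻¹ by simp only [commutatorElement_def]; group]
    exact Normal.conj_mem inferInstance _ (inv_mem (hx g hg)) _

theorem twoStep_ne_top (i c : ℕ) (hc : (L c) = ⊥) (hi : (L (i + 1)) ≠ ⊥) : twoStep (G := G) i ≠ ⊤ := by
  intro h
  have hs : (L (i + 1)) ≤ L (i + 2) := by
    change ⁅(L i), (⊤ : Subgroup G)⁆ ≤ _
    rw [Subgroup.commutator_le]
    intro a ha b _
    rw [← commutatorElement_inv]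
    exact inv_mem ((h ▸ mem_top b : b ∈ twoStep i) a ha)
  have hall : ∀ j, (L (i + 1)) ≤ L (i + 1 + j) := by
    intro j
    induction j with
    | zero => exact le_rfl
    | succ j ih =>
      refine hs.trans ?_
      exact Subgroup.commutator_mono ih le_rfl
  refine hi (le_bot_iff.1 ?_)
  by_cases hle : c ≤ i + 1
  · exact (Subgroup.lowerCentralSeries_antitone _ hle).trans hc.le
  · have := hall (c - (i + 1))
    rw [show i + 1 + (c - (i + 1)) = c by omega, hc] at this
    exact this

theorem chain_bound [Finite G] {p : ℕ} [Fact p.Prime] (hG : IsPGroup p G) (x : G) (m : ℕ) :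
    ∀ [DecidablePred fun i => x ∉ twoStep (G := G) i],
    p ^ ((Finset.range m).filter fun i => x ∉ twoStep (G := G) i).card ≤
      ((L m) ⊔ centralizer ({x} : Set G)).index := by
  intro _
  have hp : p.Prime := Fact.out
  induction m with
  | zero => simp
  | succ m ih =>
    have hle : (L (m + 1)) ⊔ centralizer ({x} : Set G) ≤ (L m) ⊔ centralizer ({x} : Set G) :=
      sup_le_sup_right (Subgroup.lowerCentralSeries_antitone _ (Nat.le_succ m)) _
    have hanti := Subgroup.index_antitone hle
    rw [Finset.range_add_one, Finset.filter_insert]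
    by_cases hx : x ∉ twoStep (G := G) m
    · rw [if_pos hx, Finset.card_insert_of_notMem (by simp), pow_succ]
      have hlt : (L (m + 1)) ⊔ centralizer ({x} : Set G) < (L m) ⊔ centralizer ({x} : Set G) := by
        refine lt_of_le_of_ne hle fun heq => hx ?_
        intro g hg
        have hg' : g ∈ (L (m + 1)) ⊔ centralizer ({x} : Set G) := heq ▸ mem_sup_left hg
        obtain ⟨h, hh, d, hd, rfl⟩ := Subgroup.mem_sup_of_normal_left.1 hg'
        rw [mem_centralizer_singleton_iff] at hd
        rw [show ⁅x, h * d⁆ = ⁅x, h⁆ * (h * ⁅x, d⁆ * h⁻¹) by simp only [commutatorElement_def]; group,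
          commutatorElement_eq_one_iff_mul_comm.2 hd.symm, mul_one, mul_inv_cancel, mul_one,
          ← commutatorElement_inv]
        exact inv_mem (commutator_mem_commutator hh (mem_top x))
      obtain ⟨a, ha⟩ := hG.index ((L (m + 1)) ⊔ centralizer ({x} : Set G))
      obtain ⟨a', ha'⟩ := hG.index ((L m) ⊔ centralizer ({x} : Set G))
      have h2 := Subgroup.index_strictAnti hlt
      rw [ha, ha', Nat.pow_lt_pow_iff_right hp.one_lt] at h2
      rw [ha'] at ih
      rw [ha]
      calc _ ≤ p ^ a' * p := by gcongr
        _ = p ^ (a' + 1) := (pow_succ _ _).symm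
        _ ≤ p ^ a := Nat.pow_le_pow_right hp.pos (by omega)
    · rw [if_neg hx]; exact ih.trans hanti


/-- If G is a finite p-group in which every conjugacy class has at most p^b elements (every element has centralizer of index at most p^b), then G is abelian when b = 0, and when b ≥ 1 its nilpotency class c satisfies (c − 1)(p − 1) < bp, that is c < bp/(p − 1) + 1, and hence c ≤ 2b. -/
theorem result {G : Type*} [Group G] [Finite G] {p : ℕ} [Fact p.Prime] (hG : IsPGroup p G) (b : ℕ) (hb : ∀ x : G, (Subgroup.centralizer ({x} : Set G)).index ≤ p ^ b) : ∃ c : ℕ, (⊤ : Subgroup G).lowerCentralSeries c = ⊥ ∧ (b ≠ 0 → (c - 1) * (p - 1) < b * p ∧ c ≤ 2 * b) ∧ (b = 0 → c ≤ 1) := by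
  classical
  have := Fintype.ofFinite G
  have hp : p.Prime := Fact.out
  have hnil : Group.IsNilpotent G := hG.isNilpotent
  have hex : ∃ c, (⊤ : Subgroup G).lowerCentralSeries c = ⊥ :=
    (Subgroup.nilpotent_iff_lowerCentralSeries.1 inferInstance)
  set c := Nat.find hex with hcd
  have hc : (⊤ : Subgroup G).lowerCentralSeries c = ⊥ := Nat.find_spec hex
  refine ⟨c, hc, fun hb0 => ?_, fun hb0 => ?_⟩
  · set S : ℕ → Subgroup G := fun i => twoStep i with hS
    set k : G → ℕ := fun x => ((Finset.range (c - 1)).filter fun i => x ∉ S i).card with hk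
    have hkb : ∀ x, k x ≤ b := by
      intro x
      have h1 := chain_bound hG x (c - 1)
      have h2 := (h1.trans (Subgroup.index_antitone le_sup_right)).trans (hb x)
      exact (Nat.pow_le_pow_iff_right hp.one_lt).1 h2
    have hlow : ∀ i ∈ Finset.range (c - 1),
        (p - 1) * Fintype.card G ≤ p * (Finset.univ.filter fun x => x ∉ S i).card := by
      intro i hi
      rw [Finset.mem_range] at hi
      have hne : S i ≠ ⊤ := twoStep_ne_top i c hc (Nat.find_min hex (show i + 1 < c by omega))
      obtain ⟨a, ha⟩ := hG.index (S i)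
      have ha1 : 1 ≤ a := by
        rcases Nat.eq_zero_or_pos a with h | h
        · exact absurd (Subgroup.index_eq_one.1 (by rw [ha, h, pow_zero])) hne
        · exact h
      have h3 : p * Nat.card (S i) ≤ Fintype.card G := by
        rw [← Nat.card_eq_fintype_card, ← (S i).card_mul_index, ha, mul_comm]
        exact Nat.mul_le_mul_left _ (Nat.le_self_pow (by omega) p)
      have h4 : (Finset.univ.filter fun x => x ∉ S i).card + Nat.card (S i) = Fintype.card G := by
        rw [Nat.card_eq_fintype_card, Fintype.card_subtype, add_comm]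
        exact Finset.card_filter_add_card_filter_not (fun x => x ∈ S i)
      obtain ⟨q, hq⟩ : ∃ q, p = q + 1 := ⟨p - 1, by have := hp.one_lt; omega⟩
      rw [hq] at h3 ⊢
      simp only [add_tsub_cancel_right]
      nlinarith
    have hsum : (c - 1) * ((p - 1) * Fintype.card G) ≤ p * ∑ x, k x := by
      have h5 : ∑ x, k x = ∑ i ∈ Finset.range (c - 1), (Finset.univ.filter fun x => x ∉ S i).card :=
        by
          simp only [hk, Finset.card_filter]
          rw [Finset.sum_comm]
      rw [h5, Finset.mul_sum]
      have := Finset.card_nsmul_le_sum _ _ _ hlow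
      simpa using this
    have hup : ∑ x, k x ≤ (Fintype.card G - 1) * b := by
      rw [← Finset.add_sum_erase _ _ (Finset.mem_univ (1 : G))]
      have h1 : k 1 = 0 := by
        simp only [hk, Finset.card_eq_zero, Finset.filter_eq_empty_iff]
        intro i _
        simp [Subgroup.one_mem]
      rw [h1, zero_add]
      refine (Finset.sum_le_card_nsmul _ _ b fun x _ => hkb x).trans ?_
      simp [Finset.card_erase_of_mem]
    have hcard : 1 ≤ Fintype.card G := Fintype.card_pos
    have hmain : (c - 1) * (p - 1) < b * p := by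
      by_contra hcon
      push Not at hcon
      have h6 : b * p * Fintype.card G ≤ p * ((Fintype.card G - 1) * b) := by
        calc b * p * Fintype.card G ≤ (c - 1) * (p - 1) * Fintype.card G := by gcongr
          _ = (c - 1) * ((p - 1) * Fintype.card G) := mul_assoc _ _ _
          _ ≤ p * ∑ x, k x := hsum
          _ ≤ _ := by gcongr
      have hbp : 0 < b * p := Nat.mul_pos (Nat.pos_of_ne_zero hb0) hp.pos
      obtain ⟨g, hg⟩ : ∃ g, Fintype.card G = g + 1 := ⟨Fintype.card G - 1, by omega⟩
      rw [hg] at h6
      simp only [add_tsub_cancel_right] at h6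
      nlinarith
    refine ⟨hmain, ?_⟩
    by_contra hcon
    push Not at hcon
    obtain ⟨q, hq⟩ : ∃ q, p = q + 2 := ⟨p - 2, by have := hp.two_le; omega⟩
    rw [hq] at hmain
    simp only [show q + 2 - 1 = q + 1 by omega] at hmain
    have h7 : 2 * b ≤ c - 1 := by omega
    nlinarith [Nat.mul_le_mul_right (q + 1) h7]
  · subst hb0
    refine Nat.find_min' hex ?_
    change ⁅(⊤ : Subgroup G), (⊤ : Subgroup G)⁆ = ⊥
    rw [Subgroup.commutator_eq_bot_iff_le_centralizer]
    intro g _ h _
    have h8 := hb g
    rw [pow_zero] at h8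
    have h9 : centralizer ({g} : Set G) = ⊤ :=
      Subgroup.index_eq_one.1 (le_antisymm h8 (Nat.one_le_iff_ne_zero.2 Subgroup.index_ne_zero_of_finite))
    exact mem_centralizer_singleton_iff.1 (h9 ▸ mem_top h)

end Cfsg.Agent.S3778
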