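import Cfsg.Statements.S3780

set_option autoImplicit false
open Cfsg

namespace Cfsg.Agent.S3780

theorem exists_gens {V : Type*} [CommGroup V] [Finite V] {p : ℕ} [Fact p.Prime] (hV : IsPGroup p V) (m : ℕ)
    (hm : Nat.card (powMonoidHom p : V →* V).ker ≤ p ^ m) :
    ∃ S : Finset V, S.card ≤ m ∧ Subgroup.closure (S : Set V) = ⊤ := by
  classical
  set R := (powMonoidHom p : V →* V).range with hR
  have hidx : R.index = Nat.card (powMonoidHom p : V →* V).ker := by
    have h1 := R.card_mul_index
    have h2 := (powMonoidHom p : V →* V).ker.card_mul_index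
    rw [Subgroup.index_ker, ← hR] at h2
    apply Nat.eq_of_mul_eq_mul_left (n := Nat.card R) Nat.card_pos
    rw [h1, mul_comm, h2]
  -- greedy choice modulo the p-th powers
  have key : ∀ k : ℕ, ∀ W : Subgroup V, R ≤ W → W.index ≤ p ^ k →
      ∃ S : Finset V, S.card ≤ k ∧ W ⊔ Subgroup.closure (S : Set V) = ⊤ := by
    intro k
    induction k with
    | zero =>
      intro W _ hW
      refine ⟨∅, le_rfl, ?_⟩
      have : W.index ≠ 0 := Subgroup.index_ne_zero_of_finite
      rw [Subgroup.index_eq_one.1 (show W.index = 1 by rw [pow_zero] at hW; omega)]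
      simp
    | succ k ih =>
      intro W hRW hW
      by_cases hWt : W = ⊤
      · exact ⟨∅, Nat.zero_le _, by simp [hWt]⟩
      obtain ⟨x, hx⟩ : ∃ x, x ∉ W := by
        by_contra h; push Not at h; exact hWt ((Subgroup.eq_top_iff' W).2 h)
      set W' := W ⊔ Subgroup.zpowers x with hW'
      have hp : p ≤ W.relIndex W' := by
        obtain ⟨j, hj⟩ := IsPGroup.iff_card.1 (hV.to_subgroup W')
        obtain ⟨l, -, hl⟩ := (Nat.dvd_prime_pow Fact.out).1 (hj ▸ Subgroup.relIndex_dvd_card W W')
        rw [hl]
        refine Nat.le_self_pow ?_ p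
        rintro rfl
        rw [pow_zero, Subgroup.relIndex_eq_one] at hl
        exact hx (hl (Subgroup.mem_sup_right (Subgroup.mem_zpowers x)))
      have h2 : W'.index ≤ p ^ k := by
        have h3 := Subgroup.relIndex_mul_index (le_sup_left : W ≤ W')
        refine Nat.le_of_mul_le_mul_left ?_ (Fact.out : p.Prime).pos
        calc p * W'.index ≤ W.relIndex W' * W'.index := Nat.mul_le_mul_right _ hp
          _ ≤ p ^ (k + 1) := h3 ▸ hW
          _ = p * p ^ k := by ring
      obtain ⟨S, hS, hS'⟩ := ih W' (hRW.trans le_sup_left) h2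
      refine ⟨insert x S, (Finset.card_insert_le x S).trans (by omega), ?_⟩
      rw [Finset.coe_insert, Set.insert_eq, Subgroup.closure_union, ← Subgroup.zpowers_eq_closure,
        ← sup_assoc, ← hW', hS']
  obtain ⟨S, hS, hSR⟩ := key m R le_rfl (hidx ▸ hm)
  refine ⟨S, hS, ?_⟩
  set H := Subgroup.closure (S : Set V) with hH
  have hsurj : Function.Surjective (powMonoidHom p : (V ⧸ H) →* V ⧸ H) := by
    intro q
    obtain ⟨v, rfl⟩ := QuotientGroup.mk'_surjective H q
    have hv : v ∈ R ⊔ H := hSR ▸ Subgroup.mem_top v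
    rw [← SetLike.mem_coe, Subgroup.mul_normal] at hv
    obtain ⟨_, ⟨w, rfl⟩, h, hh, rfl⟩ := hv
    exact ⟨w, by simp [(QuotientGroup.eq_one_iff h).2 hh]⟩
  have hinj := (Finite.injective_iff_surjective).2 hsurj
  rw [← Subgroup.index_eq_one, Subgroup.index_eq_card]
  by_contra h
  obtain ⟨l, hl⟩ := IsPGroup.iff_card.1 (hV.to_quotient H)
  obtain ⟨q, hq⟩ := exists_prime_orderOf_dvd_card' (G := V ⧸ H) p (hl ▸ dvd_pow_self p (by
    rintro rfl; exact h hl))
  have : q = 1 := hinj (by simp [← hq, pow_orderOf_eq_one])
  rw [this, orderOf_one] at hq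
  exact (Fact.out : p.Prime).one_lt.ne hq

/-- Let V be a finite abelian p-group and α an automorphism of V of order p whose fixed-point subgroup has order p^n. Then V can be generated by pn elements: some subset of V with at most pn elements generates V. -/
theorem result {V : Type*} [CommGroup V] [Finite V] {p : ℕ} [Fact p.Prime] (hV : IsPGroup p V) (α : MulAut V) (hα : orderOf α = p) (n : ℕ) (hfix : Nat.card {v : V // α v = v} = p ^ n) : ∃ S : Finset V, S.card ≤ p * n ∧ Subgroup.closure (S : Set V) = ⊤ := by
  have hp : p.Prime := Fact.out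
  apply exists_gens hV
  set E := (powMonoidHom p : V →* V).ker with hE
  have hmem : ∀ v : V, v ∈ E ↔ v ^ p = 1 := fun v => Iff.rfl
  let αE : E →* E :=
  { toFun := fun v => ⟨α v, by rw [hmem, ← map_pow, (hmem _).1 v.2, map_one]⟩
    map_one' := by ext; simp
    map_mul' := fun v w => by ext; simp }
  let a : AddMonoid.End (Additive E) := MonoidHom.toAdditive αE
  let δ : AddMonoid.End (Additive E) := a - 1
  have hpz : (p : AddMonoid.End (Additive E)) = 0 := by
    refine DFunLike.ext _ _ fun x => ?_
    rw [AddMonoid.End.natCast_apply]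
    apply Additive.toMul.injective
    change (Additive.toMul x) ^ p = 1
    ext; exact (Additive.toMul x).2
  have hapow : ∀ k : ℕ, ∀ x : E, ((Additive.toMul ((a ^ k) (Additive.ofMul x)) : E) : V) = (α ^ k) (x : V) := by
    intro k
    induction k with
    | zero => intro x; rfl
    | succ k ih =>
      intro x
      rw [pow_succ', pow_succ', MulAut.mul_apply, ← ih]
      rfl
  have hap : a ^ p = 1 := by
    refine DFunLike.ext _ _ fun x => ?_
    apply Additive.toMul.injective
    apply Subtype.ext
    have h := hapow p (Additive.toMul x)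
    rw [← hα, pow_orderOf_eq_one] at h
    rw [← hα]
    exact h
  have hδ : δ ^ p = 0 := by
    obtain ⟨r, hr⟩ := (Commute.one_right δ).exists_add_pow_prime_eq hp
    rw [show δ + 1 = a from sub_add_cancel a 1, hap, hpz] at hr
    simpa using hr.symm
  let d : E →* E := MonoidHom.toAdditive.symm δ
  have hdk : ∀ (k : ℕ) (x : E), (d^[k]) x = Additive.toMul ((δ ^ k) (Additive.ofMul x)) := by
    intro k
    induction k with
    | zero => intro x; rfl
    | succ k ih =>
      intro x
      rw [Function.iterate_succ_apply', ih, pow_succ']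
      rfl
  -- kernels of the iterates grow by a factor of at most the fixed points
  have hker1 : Nat.card d.ker ≤ p ^ n := by
    rw [← hfix]
    refine Nat.card_le_card_of_injective (fun x => ⟨((x : E) : V), ?_⟩) ?_
    · have h : δ (Additive.ofMul (x : E)) = 0 := x.2
      change a (Additive.ofMul (x : E)) - Additive.ofMul (x : E) = 0 at h
      exact congrArg (fun y => ((Additive.toMul y : E) : V)) (sub_eq_zero.1 h)
    · intro x y h
      exact Subtype.ext (Subtype.ext (congrArg Subtype.val h :))
  have key : ∀ k : ℕ, ∃ K : Subgroup E, (∀ x, (d^[k]) x = 1 → x ∈ K) ∧ (∀ x ∈ K, (d^[k]) x = 1) ∧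
      Nat.card K ≤ (p ^ n) ^ k := by
    intro k
    induction k with
    | zero => exact ⟨⊥, fun x h => h, fun x h => h, by simp⟩
    | succ k ih =>
      obtain ⟨K, hK1, hK2, hK3⟩ := ih
      refine ⟨K.comap d, fun x h => hK1 _ (by rwa [Function.iterate_succ_apply] at h),
        fun x h => by rw [Function.iterate_succ_apply]; exact hK2 _ h, ?_⟩
      let g : K.comap d →* K := d.subgroupComap K
      rw [← g.ker.card_mul_index, Subgroup.index_ker, pow_succ']
      apply Nat.mul_le_mul
      · refine le_trans ?_ hker1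
        refine Nat.card_le_card_of_injective (fun x => ⟨((x : K.comap d) : E), ?_⟩) ?_
        · exact congrArg Subtype.val x.2
        · intro x y h
          exact Subtype.ext (Subtype.ext (congrArg Subtype.val h :))
      · exact le_trans (Nat.le_of_dvd Nat.card_pos (Subgroup.card_subgroup_dvd_card _)) hK3
  obtain ⟨K, hK1, -, hK3⟩ := key p
  have htop : K = ⊤ := (Subgroup.eq_top_iff' K).2 fun x => hK1 x (by rw [hdk, hδ]; rfl)
  rw [htop, Subgroup.card_top, ← pow_mul, mul_comm] at hK3
  exact hK3

end Cfsg.Agent.S3780
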