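import Cfsg.Statements.S3781

set_option autoImplicit false
open Cfsg
open scoped Pointwise commutatorElement

namespace Cfsg.Agent.S3781

variable {G : Type*} [Group G]

/-- `[X, G, ..., G]` with `k` copies of `G`. -/
def iterG (X : Subgroup G) : ℕ → Subgroup G
  | 0 => X
  | k + 1 => ⁅iterG X k, ⊤⁆

theorem iterG_normal (X : Subgroup G) [hX : X.Normal] : ∀ k, (iterG X k).Normal
  | 0 => hX
  | k + 1 => by haveI := iterG_normal X k; rw [iterG]; infer_instance

theorem iterG_comm (X : Subgroup G) : ∀ k, iterG ⁅X, ⊤⁆ k = iterG X (k + 1)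
  | 0 => rfl
  | k + 1 => by rw [iterG, iterG, iterG_comm X k]

theorem iterG_le_lcs (X : Subgroup G) : ∀ k, iterG X k ≤ (⊤ : Subgroup G).lowerCentralSeries k
  | 0 => le_top
  | k + 1 => Subgroup.commutator_mono (iterG_le_lcs X k) le_rfl

theorem three_subgroup_le (A B C N : Subgroup G) [N.Normal] (h1 : ⁅⁅B, C⁆, A⁆ ≤ N) (h2 : ⁅⁅C, A⁆, B⁆ ≤ N) :
    ⁅⁅A, B⁆, C⁆ ≤ N := by
  have key : ∀ K : Subgroup G, K.map (QuotientGroup.mk' N) = ⊥ ↔ K ≤ N := fun K => by
    rw [Subgroup.map_eq_bot_iff, QuotientGroup.ker_mk']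
  rw [← key, Subgroup.map_commutator, Subgroup.map_commutator] at h1 h2 ⊢
  exact Subgroup.commutator_commutator_eq_bot_of_rotate h1 h2

theorem comm_lcs_le : ∀ (k : ℕ) (X : Subgroup G) [X.Normal],
    ⁅X, (⊤ : Subgroup G).lowerCentralSeries k⁆ ≤ iterG X (k + 1)
  | 0, X, _ => le_rfl
  | k + 1, X, _ => by
    haveI := iterG_normal X (k + 2)
    rw [Subgroup.commutator_comm, Subgroup.lowerCentralSeries_succ]
    apply three_subgroup_le
    · rw [Subgroup.commutator_comm ⊤ X]
      exact (comm_lcs_le k ⁅X, ⊤⁆).trans (iterG_comm X (k + 1)).le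
    · exact Subgroup.commutator_mono (comm_lcs_le k X) le_rfl

theorem lcs_normal (N : Subgroup G) [hN : N.Normal] : ∀ k, (N.lowerCentralSeries k).Normal
  | 0 => hN
  | k + 1 => by
    haveI := lcs_normal N k
    rw [Subgroup.lowerCentralSeries_succ]; infer_instance

/-- Let G be a finite p-group and n ≥ 1, and write γ_1(G) = G, γ_{k+1}(G) = [γ_k(G), G], and likewise γ_k(N) for a subgroup N. Let N be a normal subgroup of G contained in γ_n(G). If i > 1 and γ_{i+1}(N) ≠ 1, then |γ_i(N) : γ_{i+1}(N)| ≥ p^n. -/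
theorem result {G : Type*} [Group G] [Finite G] {p : ℕ} [Fact p.Prime] (hG : IsPGroup p G) (n : ℕ) (hn : 1 ≤ n) (N : Subgroup G) [N.Normal] (hN : N ≤ (⊤ : Subgroup G).lowerCentralSeries (n - 1)) (i : ℕ) (hi : 1 < i) (hne : N.lowerCentralSeries i ≠ ⊥) : p ^ n ≤ (N.lowerCentralSeries i).relIndex (N.lowerCentralSeries (i - 1)) := by
  haveI hnil : Group.IsNilpotent G := hG.isNilpotent
  obtain ⟨c, hc⟩ := nilpotent_iff_lowerCentralSeries.1 hnil
  haveI hXn := lcs_normal N (i - 1)
  haveI hYn := lcs_normal N i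
  set X := N.lowerCentralSeries (i - 1) with hXdef
  set Y := N.lowerCentralSeries i with hYdef
  have hYX : Y = ⁅X, N⁆ := by
    rw [hYdef, hXdef, ← Subgroup.lowerCentralSeries_succ, Nat.sub_add_cancel (by omega : 1 ≤ i)]
  have hYleX : Y ≤ X := Subgroup.lowerCentralSeries_antitone N (Nat.sub_le i 1)
  have stall : ∀ Z : Subgroup G, Z.Normal → Z ≤ ⁅Z, ⊤⁆ ⊔ Y → Z ≤ Y := by
    intro Z hZn hZ
    have h1 : ∀ m, Z ≤ iterG Z m ⊔ Y := by
      intro m
      induction m with
      | zero => exact le_sup_left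
      | succ m ih =>
        refine hZ.trans (sup_le ?_ le_sup_right)
        calc ⁅Z, ⊤⁆ ≤ ⁅iterG Z m ⊔ Y, ⊤⁆ := Subgroup.commutator_mono ih le_rfl
          _ ≤ iterG Z (m + 1) ⊔ Y := by
            haveI := iterG_normal Z m
            haveI := iterG_normal Z (m + 1)
            rw [Subgroup.commutator_le]
            intro a ha b _
            rw [← SetLike.mem_coe, Subgroup.mul_normal] at ha
            obtain ⟨u, hu, v, hv, rfl⟩ := ha
            rw [commutatorElement_mul_left_eq_conj_mul]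
            apply mul_mem
            · have hmem : ⁅v, b⁆ ∈ iterG Z (m + 1) ⊔ Y :=
                Subgroup.mem_sup_right (Subgroup.commutator_le_left Y ⊤
                  (Subgroup.commutator_mem_commutator hv (Subgroup.mem_top b)))
              exact (inferInstance : (iterG Z (m + 1) ⊔ Y).Normal).conj_mem _ hmem u
            · exact Subgroup.mem_sup_left (Subgroup.commutator_mem_commutator hu (Subgroup.mem_top b))
    refine (h1 c).trans (sup_le ?_ le_rfl)
    exact (iterG_le_lcs Z c).trans (hc.le.trans bot_le)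
  have hle : ∀ k, iterG X k ≤ X := by
    intro k
    induction k with
    | zero => exact le_rfl
    | succ k ih => exact (Subgroup.commutator_mono ih le_rfl).trans (Subgroup.commutator_le_left X ⊤)
  have drop : ∀ k, ¬ iterG X k ≤ Y →
      p ^ k * Y.relIndex (iterG X k ⊔ Y) ≤ Y.relIndex X := by
    intro k
    induction k with
    | zero => intro _; simp [iterG, sup_eq_left.2 hYleX]
    | succ k ih =>
      intro hk
      have hk' : ¬ iterG X k ≤ Y := fun h =>
        hk ((Subgroup.commutator_mono h le_rfl).trans (Subgroup.commutator_le_left Y ⊤))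
      haveI := iterG_normal X k
      have hsub : iterG X (k + 1) ⊔ Y ≤ iterG X k ⊔ Y :=
        sup_le_sup_right (Subgroup.commutator_le_left _ ⊤) _
      have h2 := Subgroup.relIndex_mul_relIndex Y (iterG X (k + 1) ⊔ Y) (iterG X k ⊔ Y) le_sup_right hsub
      obtain ⟨j, hj⟩ := IsPGroup.iff_card.1 (hG.to_subgroup (iterG X k ⊔ Y))
      have h3 : (iterG X (k + 1) ⊔ Y).relIndex (iterG X k ⊔ Y) ∣ p ^ j :=
        hj ▸ Subgroup.relIndex_dvd_card _ _
      have h4 : (iterG X (k + 1) ⊔ Y).relIndex (iterG X k ⊔ Y) ≠ 1 := by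
        intro h
        exact hk' (stall _ inferInstance (le_sup_left.trans (Subgroup.relIndex_eq_one.1 h)))
      obtain ⟨l, -, hl⟩ := (Nat.dvd_prime_pow Fact.out).1 h3
      have h5 : p ≤ (iterG X (k + 1) ⊔ Y).relIndex (iterG X k ⊔ Y) := by
        rw [hl]
        exact Nat.le_self_pow (by rintro rfl; exact h4 hl) p
      calc p ^ (k + 1) * Y.relIndex (iterG X (k + 1) ⊔ Y)
          = p ^ k * (Y.relIndex (iterG X (k + 1) ⊔ Y) * p) := by ring
        _ ≤ p ^ k * Y.relIndex (iterG X k ⊔ Y) := by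
          rw [← h2]; exact Nat.mul_le_mul_left _ (Nat.mul_le_mul_left _ h5)
        _ ≤ Y.relIndex X := ih hk'
  by_contra hlt
  apply hne
  have hXY : iterG X (n - 1) ≤ Y := by
    by_contra h
    have h1 := drop (n - 1) h
    obtain ⟨j, hj⟩ := IsPGroup.iff_card.1 (hG.to_subgroup (iterG X (n - 1) ⊔ Y))
    obtain ⟨l, -, hl⟩ := (Nat.dvd_prime_pow Fact.out).1 (hj ▸ Subgroup.relIndex_dvd_card Y (iterG X (n - 1) ⊔ Y))
    have h2 : l ≠ 0 := by
      rintro rfl
      exact h (le_sup_left.trans (Subgroup.relIndex_eq_one.1 hl))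
    have h3 : p ≤ p ^ l := Nat.le_self_pow h2 p
    have h4 : p ^ n ≤ p ^ (n - 1) * Y.relIndex (iterG X (n - 1) ⊔ Y) := by
      rw [hl]; conv_lhs => rw [← Nat.sub_add_cancel hn, pow_succ]
      exact Nat.mul_le_mul_left _ h3
    exact hlt (h4.trans h1)
  have hY2 : Y ≤ ⁅Y, ⊤⁆ ⊔ ⊥ := by
    rw [sup_bot_eq]
    conv_lhs => rw [hYX]
    refine (Subgroup.commutator_mono le_rfl hN).trans ((comm_lcs_le (n - 1) X).trans ?_)
    exact Subgroup.commutator_mono hXY le_rfl
  rw [sup_bot_eq] at hY2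
  have h1 : ∀ m, Y ≤ iterG Y m := by
    intro m
    induction m with
    | zero => exact le_rfl
    | succ m ih => exact hY2.trans (Subgroup.commutator_mono ih le_rfl)
  exact le_bot_iff.1 ((h1 c).trans ((iterG_le_lcs Y c).trans hc.le))

end Cfsg.Agent.S3781
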