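import Cfsg.Statements.S3782
import Cfsg.Agent.Lib.AlmostRegular.Solvable
import Mathlib.GroupTheory.SemidirectProduct

set_option autoImplicit false
open Cfsg

namespace Cfsg.Agent.S3782

open Subgroup Cfsg.Agent.Lib.AlmostRegular

/-- Alperin's Theorem: for each prime p and each n ≥ 0 there is an integer l such that every finite solvable group admitting an automorphism of order p with exactly p^n fixed points has derived length at most l. -/
theorem result (p : ℕ) (hp : p.Prime) (n : ℕ) : ∃ l : ℕ, ∀ (G : Type) [Group G] [Finite G], Group.IsSolvable G → ∀ α : MulAut G, orderOf α = p → Nat.card {g : G // α g = g} = p ^ n → derivedSeries G l = ⊥ := by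
  refine ⟨solvLength p n, fun G _ _ hG α hα hfix => ?_⟩
  haveI := Fact.mk hp
  let φ : zpowers α →* MulAut G := (zpowers α).subtype
  let X := G ⋊[φ] zpowers α
  haveI : Finite X := Finite.of_equiv _ SemidirectProduct.equivProd.symm
  let i : G →* X := SemidirectProduct.inl
  let a : X := SemidirectProduct.inr ⟨α, mem_zpowers α⟩
  have ha : a ^ p = 1 := by
    rw [← map_pow, show (⟨α, mem_zpowers α⟩ : zpowers α) ^ p = 1 from
      Subtype.ext (by simpa using hα ▸ pow_orderOf_eq_one α), map_one]
  have hi : Function.Injective i := SemidirectProduct.inl_injective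
  have hcomm : ∀ g : G, α g = g ↔ a * i g = i g * a := by
    intro g
    rw [← mul_inv_eq_iff_eq_mul]
    constructor
    · intro h
      rw [← map_inv, ← SemidirectProduct.inl_aut]
      exact congrArg i h
    · intro h
      rw [← map_inv, ← SemidirectProduct.inl_aut] at h
      exact hi h
  haveI : i.range.Normal := by
    rw [SemidirectProduct.range_inl_eq_ker_rightHom]; infer_instance
  haveI := hG
  have hsol : Group.IsSolvable i.range :=
    Group.isSolvable_of_surjective (MonoidHom.rangeRestrict_surjective i)
  have hcard : Nat.card (i.range ⊓ centralizer ({a} : Set X) : Subgroup X) = p ^ n := by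
    rw [← hfix]
    refine (Nat.card_congr (Equiv.ofBijective
      (fun g : {g : G // α g = g} => (⟨i g.1, mem_inf.mpr ⟨⟨g.1, rfl⟩,
        mem_centralizer_iff.mpr fun z hz => by
          rw [Set.mem_singleton_iff.mp hz]; exact (hcomm g.1).mp g.2⟩⟩ :
        (i.range ⊓ centralizer ({a} : Set X) : Subgroup X))) ⟨?_, ?_⟩)).symm
    · intro u v huv
      exact Subtype.ext (hi (congrArg Subtype.val huv :))
    · rintro ⟨x, ⟨g, rfl⟩, hx⟩
      exact ⟨⟨g, (hcomm g).mpr (mem_centralizer_iff.mp hx a rfl)⟩, rfl⟩
  have h := derivedSeries_le_ker (MonoidHom.rangeRestrict i)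
    (solvable_derived_eq_bot ha i.range hsol hcard)
  rwa [MonoidHom.ker_rangeRestrict, MonoidHom.ker_eq_bot_iff (f := i) |>.mpr hi, le_bot_iff] at h

end Cfsg.Agent.S3782
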