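import Cfsg.Statements.S3784
import Mathlib.NumberTheory.Fermat
import Mathlib.Tactic.Ring
import Mathlib.Tactic.Linarith
import Mathlib.Tactic.NormNum
import Mathlib.Data.ZMod.Basic
import Mathlib.Algebra.Ring.GeomSum
import Mathlib.Algebra.BigOperators.Ring.Finset

set_option autoImplicit false
open Cfsg

namespace Cfsg.Agent.S3784

theorem odd_geom {q : ℕ} (hq : q % 2 = 1) : ∀ n : ℕ, (Finset.sum (Finset.range n) (fun i => q ^ i)) % 2 = n % 2
  | 0 => rfl
  | n + 1 => by rw [Finset.sum_range_succ, Nat.add_mod, odd_geom hq n, Nat.pow_mod, hq, one_pow]; omega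

/-- `2 ^ a = q ^ b + 1` forces `b = 1`. -/
theorem eq_one_of_two_pow {q a b : ℕ} (hq : 2 ≤ q) (hb : 1 ≤ b) (ha : 2 ≤ a) (h : 2 ^ a = q ^ b + 1) : b = 1 := by
  have hq2 : q % 2 = 1 := by
    by_contra hc
    have h2 : 2 ∣ q ^ b := Dvd.dvd.pow (by omega) (by omega)
    obtain ⟨a', rfl⟩ : ∃ a', a = a' + 1 := ⟨a - 1, by omega⟩
    rw [pow_succ] at h
    omega
  have hbodd : b % 2 = 1 := by
    by_contra hc
    obtain ⟨c, rfl⟩ : ∃ c, b = 2 * c := ⟨b / 2, by omega⟩
    have h1 : q ^ (2 * c) % 4 = 1 := by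
      rw [pow_mul, Nat.pow_mod]
      have : q ^ 2 % 4 = 1 := by
        rw [Nat.pow_mod]
        have : q % 4 = 1 ∨ q % 4 = 3 := by omega
        rcases this with e | e <;> simp [e]
      rw [this]; simp
    obtain ⟨a', rfl⟩ : ∃ a', a = a' + 2 := ⟨a - 2, by omega⟩
    rw [pow_add] at h
    omega
  have h2 : ((q : ℤ) + 1) * (∑ i ∈ Finset.range b, (-(q : ℤ)) ^ i) = (2 : ℤ) ^ a := by
    have h3 := geom_sum_mul (-(q : ℤ)) b
    rw [(Nat.odd_iff.2 hbodd).neg_pow] at h3
    have h4 : ((2 : ℤ) ^ a) = (q : ℤ) ^ b + 1 := by exact_mod_cast h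
    rw [h4]; linarith
  set Z := ∑ i ∈ Finset.range b, (-(q : ℤ)) ^ i
  have h5 : Z.natAbs = 1 := by
    obtain ⟨i, -, hi⟩ := (Nat.dvd_prime_pow Nat.prime_two).1 (show Z.natAbs ∣ 2 ^ a from by
      have := congrArg Int.natAbs h2
      rw [Int.natAbs_mul, Int.natAbs_pow] at this
      exact Dvd.intro_left _ this)
    rcases i with _ | i
    · simpa using hi
    exfalso
    have hodd : Z.natAbs % 2 = 1 := by
      have hcast : (Z : ZMod 2) = ((Finset.sum (Finset.range b) fun i => q ^ i : ℕ) : ZMod 2) := by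
        simp [Z]
      have h6 : ((Z.natAbs : ℕ) : ZMod 2) = (Z : ZMod 2) := by
        rcases Int.natAbs_eq Z with e | e
        · conv_rhs => rw [e, Int.cast_natCast]
        · conv_rhs => rw [e, Int.cast_neg, Int.cast_natCast, ZMod.neg_eq_self_mod_two]
      rw [hcast, ZMod.natCast_eq_natCast_iff', odd_geom hq2] at h6
      omega
    rw [hi, pow_succ] at hodd
    omega
  have h7 : q + 1 = 2 ^ a := by
    have := congrArg Int.natAbs h2
    rw [Int.natAbs_mul, Int.natAbs_pow, h5, mul_one] at this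
    exact this
  apply Nat.pow_right_injective hq
  show q ^ b = q ^ 1
  rw [pow_one]; omega

theorem geom_nat (x : ℕ) (hx : 1 ≤ x) (n : ℕ) :
    (x - 1) * Finset.sum (Finset.range n) (fun i => x ^ i) + 1 = x ^ n := by
  induction n with
  | zero => simp
  | succ n ih =>
    rw [Finset.sum_range_succ, mul_add, add_right_comm, ih, pow_succ]
    obtain ⟨y, rfl⟩ : ∃ y, x = y + 1 := ⟨x - 1, by omega⟩
    rw [Nat.add_sub_cancel]; ring

/-- `p ^ a = 2 ^ b + 1` with `p` odd forces `a = 1` or `(p, a) = (3, 2)`. -/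
theorem exp_one {p a b : ℕ} (hp : p.Prime) (ha : 1 ≤ a) (hb : 1 ≤ b) (h : p ^ a = 2 ^ b + 1) :
    a = 1 ∨ (p ^ a = 9 ∧ 2 ^ b = 8) := by
  have hpos := hp.two_le
  rcases Nat.even_or_odd a with ⟨c, rfl⟩ | hodd
  · right
    obtain ⟨x, hx⟩ : ∃ x, p ^ c = x + 1 := ⟨p ^ c - 1, by have := Nat.one_le_pow c p (by omega); omega⟩
    rw [pow_add, hx] at h ⊢
    have h1 : x * (x + 2) = 2 ^ b := by
      have : (x + 1) * (x + 1) = x * (x + 2) + 1 := by ring
      omega
    obtain ⟨i, -, hi⟩ := (Nat.dvd_prime_pow Nat.prime_two).1 (Dvd.intro_left _ h1)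
    obtain ⟨j, -, hj⟩ := (Nat.dvd_prime_pow Nat.prime_two).1 (Dvd.intro _ h1)
    have hij : 2 ^ i = 2 ^ j + 2 := by omega
    have hj1 : j = 1 := by
      rcases j with _ | _ | j
      · rcases i with _ | _ | i <;> simp_all [pow_succ] <;> omega
      · rfl
      · exfalso
        rcases i with _ | _ | i
        · simp at hij
        · simp [pow_succ] at hij
        · rw [pow_succ, pow_succ, pow_succ, pow_succ] at hij; omega
    subst hj1
    norm_num at hj
    subst hj
    omega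
  · left
    have h1 := geom_nat p (by omega) a
    have hp2 : p % 2 = 1 := by
      rcases hp.eq_two_or_odd with rfl | h' 
      · exfalso
        obtain ⟨a', rfl⟩ : ∃ a', a = a' + 1 := ⟨a - 1, by omega⟩
        obtain ⟨b', rfl⟩ : ∃ b', b = b' + 1 := ⟨b - 1, by omega⟩
        rw [pow_succ, pow_succ] at h; omega
      · exact h'
    have hS := odd_geom hp2 a
    set S := Finset.sum (Finset.range a) fun i => p ^ i
    have h2 : (p - 1) * S = 2 ^ b := by omega
    obtain ⟨i, -, hi⟩ := (Nat.dvd_prime_pow Nat.prime_two).1 (Dvd.intro_left _ h2)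
    have hS1 : S = 1 := by
      rcases i with _ | i
      · simpa using hi
      · rw [hi, pow_succ, Nat.odd_iff.1 hodd] at hS; omega
    apply Nat.pow_right_injective hp.two_le
    show p ^ a = p ^ 1
    rw [hS1, mul_one] at h2
    rw [pow_one]; omega

/-- `2 ^ b + 1` prime forces `b` to be a power of two. -/
theorem fermat {b : ℕ} (hb : 1 ≤ b) (h : (2 ^ b + 1).Prime) : ∃ m, b = 2 ^ m :=
  Nat.pow_of_pow_add_prime (by norm_num : 1 < 2) (by omega) h

/-- Let p, q be primes and a, b positive integers with p^a = q^b + 1. Then either p = 2, b = 1, a is prime and q = 2^a − 1; or q = 2, a = 1, b is a power of 2 and p = 2^b + 1; or p^a = 9 and q^b = 8. -/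
theorem result (p q a b : ℕ) (hp : p.Prime) (hq : q.Prime) (ha : 1 ≤ a) (hb : 1 ≤ b) (h : p ^ a = q ^ b + 1) : (p = 2 ∧ b = 1 ∧ a.Prime ∧ q + 1 = 2 ^ a) ∨ (q = 2 ∧ a = 1 ∧ (∃ m : ℕ, b = 2 ^ m) ∧ p = 2 ^ b + 1) ∨ (p ^ a = 9 ∧ q ^ b = 8) := by
  by_cases hp2 : p = 2
  · subst hp2
    left
    have ha2 : 2 ≤ a := by
      by_contra hc
      have : a = 1 := by omega
      subst this
      have := hq.two_le
      have : q ^ 1 ≤ q ^ b := Nat.pow_le_pow_right (by omega) hb
      simp only [pow_one] at *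
      omega
    have hb1 := eq_one_of_two_pow hq.two_le hb ha2 h
    subst hb1
    rw [pow_one] at h
    refine ⟨rfl, rfl, ?_, h.symm⟩
    have : q = 2 ^ a - 1 := by omega
    exact Nat.prime_of_pow_sub_one_prime (by omega) (this ▸ hq) |>.2
  · have hq2 : q = 2 := by
      rcases hq.eq_two_or_odd with e | e
      · exact e
      · exfalso
        have hp' : p % 2 = 1 := hp.eq_two_or_odd.resolve_left hp2
        have h1 : p ^ a % 2 = 1 := by rw [Nat.pow_mod, hp', one_pow]; rfl
        have h2 : q ^ b % 2 = 1 := by rw [Nat.pow_mod, e, one_pow]; rfl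
        omega
    subst hq2
    right
    rcases exp_one hp ha hb h with ha1 | h9
    · left
      subst ha1
      rw [pow_one] at h
      exact ⟨rfl, rfl, fermat hb (h ▸ hp), h⟩
    · right; exact h9

end Cfsg.Agent.S3784
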