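import Cfsg.Statements.S3785
import Cfsg.Agent.Lib.OddLocal.CoprimeFix
import Cfsg.Agent.Lib.Cores.Basic
import Cfsg.Agent.Lib.Coprime.Generation

set_option autoImplicit false
open Cfsg

namespace Cfsg.Agent.S3785

open Subgroup
open scoped commutatorElement

variable {G : Type*} [Group G] [Finite G]

/-- The hypothesis on a single element. -/
def Good (G : Type*) [Group G] (g : G) : Prop :=
  ∀ x ∈ Cfsg.fittingSubgroup G, (orderOf x).Prime → g * x = x * g

theorem good_fix (hodd : Odd (Nat.card (Cfsg.fittingSubgroup G))) {q s : ℕ} [Fact q.Prime]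
    [Fact s.Prime] (hqs : s ≠ q) {h : G} (hh : Good G h) {k : ℕ} (hk : orderOf h = q ^ k) :
    ∀ y ∈ Cfsg.pCore s G, h * y = y * h := by
  by_cases hs : s = 2
  · subst hs
    intro y hy
    obtain ⟨n, hn⟩ := IsPGroup.iff_card.mp (Cfsg.Agent.Lib.Cores.pCore_isPGroup (G := G) 2)
    have hd := (card_dvd_of_le (Cfsg.Agent.Lib.Cores.pCore_le_fittingSubgroup (G := G) 2))
    have hn0 : n = 0 := by
      by_contra h0
      rw [hn] at hd
      exact (Nat.not_even_iff_odd.mpr hodd) ((dvd_pow_self 2 h0).trans hd |> even_iff_two_dvd.mpr)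
    rw [hn0, pow_zero, card_eq_one] at hn
    rw [hn, mem_bot] at hy
    simp [hy]
  · exact Cfsg.Agent.Lib.OddLocal.CoprimeFix.centralizes_of_omega hs
      (hk ▸ Nat.Coprime.pow_left k ((Nat.coprime_primes Fact.out Fact.out).mpr hqs.symm))
      (Cfsg.Agent.Lib.Cores.pCore_isPGroup s)
      (by
        rw [normalizer_eq_top_iff.mpr inferInstance]
        exact mem_top h)
      (fun y hy hord => hh y (Cfsg.Agent.Lib.Cores.pCore_le_fittingSubgroup s hy)
        (hord ▸ Fact.out))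

theorem fix_pow (hodd : Odd (Nat.card (Cfsg.fittingSubgroup G))) {q : ℕ} [Fact q.Prime]
    {h : G} (hh : Good G h) {k : ℕ} (hk : orderOf h = q ^ k) {x : G}
    (hx : x ∈ Cfsg.fittingSubgroup G) :
    h * x ^ Nat.card (Cfsg.pCore q G) = x ^ Nat.card (Cfsg.pCore q G) * h := by
  set A := ⨆ s : {s : Nat.Primes // (s : ℕ) ≠ q}, Cfsg.pCore (s.1 : ℕ) G with hA
  have hAh : A ≤ centralizer ({h} : Set G) := iSup_le fun s y hy => by
    haveI : Fact (s.1 : ℕ).Prime := ⟨s.1.2⟩
    exact mem_centralizer_iff.mpr fun z hz => by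
      rw [Set.mem_singleton_iff.mp hz]
      exact good_fix hodd s.2 hh hk y hy
  have hAq : A ≤ centralizer (Cfsg.pCore q G : Set G) := iSup_le fun s y hy => by
    haveI : Fact (s.1 : ℕ).Prime := ⟨s.1.2⟩
    refine mem_centralizer_iff.mpr fun z hz => ?_
    refine (commute_of_normal_of_disjoint _ _ inferInstance inferInstance ?_ z y hz hy).eq
    exact IsPGroup.disjoint_of_ne q (s.1 : ℕ) s.2.symm _ _
      (Cfsg.Agent.Lib.Cores.pCore_isPGroup q) (Cfsg.Agent.Lib.Cores.pCore_isPGroup _)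
  have hF : Cfsg.fittingSubgroup G ≤ A ⊔ Cfsg.pCore q G := by
    rw [Cfsg.Agent.Lib.Cores.fittingSubgroup_eq_iSup_pCore]
    refine iSup_le fun s => ?_
    by_cases hs : (s : ℕ) = q
    · rw [hs]; exact le_sup_right
    · exact le_sup_of_le_left (le_iSup_of_le ⟨s, hs⟩ le_rfl)
  obtain ⟨a, ha, b, hb, rfl⟩ := mem_sup_of_normal_right.mp (hF hx)
  have hab : Commute a b := (mem_centralizer_iff.mp (hAq ha) b hb).symm
  have hbm : b ^ Nat.card (Cfsg.pCore q G) = 1 :=
    orderOf_dvd_iff_pow_eq_one.mp (orderOf_dvd_natCard _ hb)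
  rw [hab.mul_pow, hbm, mul_one]
  exact mem_centralizer_iff.mp (hAh (pow_mem ha _)) h rfl

theorem commutator_central (hodd : Odd (Nat.card (Cfsg.fittingSubgroup G))) {q r : ℕ}
    [Fact q.Prime] [Fact r.Prime] (hqr : q ≠ r) {g h : G} (hg : Good G g) (hh : Good G h)
    {i j : ℕ} (hgo : orderOf g = r ^ i) (hho : orderOf h = q ^ j) :
    h * g * h⁻¹ * g⁻¹ ∈ centralizer (Cfsg.fittingSubgroup G : Set G) := by
  rw [mem_centralizer_iff]
  intro y hy
  suffices hle : Cfsg.fittingSubgroup G ≤ centralizer ({h * g * h⁻¹ * g⁻¹} : Set G) from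
    (mem_centralizer_iff.mp (hle hy) _ rfl).symm
  rw [Cfsg.Agent.Lib.Cores.fittingSubgroup_eq_iSup_pCore]
  refine iSup_le fun s y hy => mem_centralizer_iff.mpr fun z hz => ?_
  rw [Set.mem_singleton_iff.mp hz]
  haveI : Fact (s : ℕ).Prime := ⟨s.2⟩
  have hn : (Cfsg.pCore (s : ℕ) G).Normal := inferInstance
  by_cases hs : (s : ℕ) = q
  · have hg' := fun y hy => good_fix hodd (hs.trans_ne hqr) hg hgo y hy
    have h1 : g⁻¹ * y * g = y := by rw [mul_assoc, ← hg' y hy, inv_mul_cancel_left]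
    have h2 := hg' (h⁻¹ * y * h) (hn.conj_mem' y hy h)
    calc h * g * h⁻¹ * g⁻¹ * y = h * g * h⁻¹ * (g⁻¹ * y * g) * g⁻¹ := by group
      _ = h * (g * (h⁻¹ * y * h)) * h⁻¹ * g⁻¹ := by rw [h1]; group
      _ = y * (h * g * h⁻¹ * g⁻¹) := by rw [h2]; group
  · have hh' := fun y hy => good_fix hodd hs hh hho y hy
    have h2 := hh' (g⁻¹ * y * g) (hn.conj_mem' y hy g)
    have h1 := hh' y hy
    calc h * g * h⁻¹ * g⁻¹ * y = h * g * (h⁻¹ * ((g⁻¹ * y * g) * h)) * h⁻¹ * g⁻¹ := by group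
      _ = h * g * (h⁻¹ * (h * (g⁻¹ * y * g))) * h⁻¹ * g⁻¹ := by rw [h2]
      _ = (h * y) * g * h⁻¹ * g⁻¹ := by group
      _ = y * (h * g * h⁻¹ * g⁻¹) := by rw [h1]; group

theorem commutator_pow [Group.IsSolvable G] (hodd : Odd (Nat.card (Cfsg.fittingSubgroup G)))
    {q r : ℕ} [Fact q.Prime] [Fact r.Prime] (hqr : q ≠ r) {g h : G} (hg : Good G g)
    (hh : Good G h) {i j : ℕ} (hgo : orderOf g = r ^ i) (hho : orderOf h = q ^ j) :
    (h * g * h⁻¹ * g⁻¹) ^ (Nat.card (Cfsg.pCore q G) * q ^ j) = 1 := by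
  set m := Nat.card (Cfsg.pCore q G)
  set C := centralizer (Cfsg.fittingSubgroup G : Set G) with hC
  set k := h * g * h⁻¹ * g⁻¹ with hk
  have hkC : k ∈ C := commutator_central hodd hqr hg hh hgo hho
  have hCF : C ≤ Cfsg.fittingSubgroup G := Cfsg.Agent.Lib.Cores.centralizer_fittingSubgroup_le
  have hCn : C.Normal := Subgroup.normal_centralizer
  have hiter : ∀ n : ℕ, ∃ P ∈ C, h ^ n * g * (h ^ n)⁻¹ = P * g ∧ P ^ m = k ^ (m * n) := by
    intro n
    induction n with
    | zero => exact ⟨1, one_mem _, by simp, by simp⟩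
    | succ n ih =>
      obtain ⟨P, hP, h1, h2⟩ := ih
      refine ⟨h * P * h⁻¹ * k, mul_mem (hCn.conj_mem P hP h) hkC, ?_, ?_⟩
      · rw [pow_succ' h n, mul_inv_rev]
        calc h * h ^ n * g * ((h ^ n)⁻¹ * h⁻¹) = h * (h ^ n * g * (h ^ n)⁻¹) * h⁻¹ := by group
          _ = _ := by rw [h1, hk]; group
      · have hc : Commute (h * P * h⁻¹) k :=
          mem_centralizer_iff.mp hkC _ (hCF (hCn.conj_mem P hP h))
        have hf : h * (k ^ m) ^ n = (k ^ m) ^ n * h :=
          (Commute.pow_right (fix_pow hodd hh hho (hCF hkC)) n).eq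
        rw [hc.mul_pow, conj_pow, h2, pow_mul, hf, mul_inv_cancel_right, ← pow_succ, ← pow_mul]
  obtain ⟨P, hP, h1, h2⟩ := hiter (q ^ j)
  rw [← hho, pow_orderOf_eq_one, one_mul, inv_one, mul_one] at h1
  rw [show P = 1 from mul_eq_right.mp h1.symm, one_pow] at h2
  exact h2.symm

theorem good_commute [Group.IsSolvable G] (hodd : Odd (Nat.card (Cfsg.fittingSubgroup G)))
    {q r : ℕ} [Fact q.Prime] [Fact r.Prime] (hqr : q ≠ r) {g h : G} (hg : Good G g)
    (hh : Good G h) {i j : ℕ} (hgo : orderOf g = r ^ i) (hho : orderOf h = q ^ j) :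
    h * g = g * h := by
  have h1 := commutator_pow hodd hqr hg hh hgo hho
  have h2 := commutator_pow hodd hqr.symm hh hg hho hgo
  rw [show g * h * g⁻¹ * h⁻¹ = (h * g * h⁻¹ * g⁻¹)⁻¹ by group, inv_pow, inv_eq_one] at h2
  have h3 := pow_gcd_eq_one.mpr ⟨h1, h2⟩
  obtain ⟨a, ha⟩ := IsPGroup.iff_card.mp (Cfsg.Agent.Lib.Cores.pCore_isPGroup (G := G) q)
  obtain ⟨b, hb⟩ := IsPGroup.iff_card.mp (Cfsg.Agent.Lib.Cores.pCore_isPGroup (G := G) r)
  rw [ha, hb, ← pow_add, ← pow_add,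
    (Nat.Coprime.pow _ _ ((Nat.coprime_primes Fact.out Fact.out).mpr hqr)).gcd_eq_one,
    pow_one] at h3
  exact mul_inv_eq_iff_eq_mul.mp (mul_inv_eq_one.mp h3)

/-- Let G be a finite solvable group whose Fitting subgroup F(G) has odd order. If an element g of G commutes with every element of prime order of F(G), then g ∈ F(G). -/
theorem result {G : Type*} [Group G] [Finite G] (hG : Group.IsSolvable G) (hodd : Odd (Nat.card (Cfsg.fittingSubgroup G))) (g : G) (hg : ∀ x ∈ Cfsg.fittingSubgroup G, (orderOf x).Prime → g * x = x * g) : g ∈ Cfsg.fittingSubgroup G := by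
  haveI := hG
  let L : Subgroup G := centralizer
    {x : G | x ∈ Cfsg.fittingSubgroup G ∧ (orderOf x).Prime}
  have hLgood : ∀ x, x ∈ L ↔ Good G x := fun x => by
    simp only [L, mem_centralizer_iff, Set.mem_ofPred_eq, Good, and_imp]
    exact forall₃_congr fun _ _ _ => eq_comm
  haveI hLn : L.Normal := ⟨fun x hx c => by
    rw [hLgood] at hx ⊢
    intro y hy hyp
    have h := hx (c⁻¹ * y * c)
      ((inferInstance : (Cfsg.fittingSubgroup G).Normal).conj_mem' y hy c)
      (by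
        rw [show c⁻¹ * y * c = c⁻¹ * y * c⁻¹⁻¹ by rw [inv_inv], ← MulAut.conj_apply,
          (MulAut.conj c⁻¹).orderOf_eq]
        exact hyp)
    calc c * x * c⁻¹ * y = c * (x * (c⁻¹ * y * c)) * c⁻¹ := by group
      _ = _ := by rw [h]; group⟩
  refine Cfsg.Agent.Lib.Cores.le_fittingSubgroup (N := L) ?_ ((hLgood g).mpr hg)
  refine (Group.isNilpotent_of_finite_tfae.out 0 3 rfl rfl).mpr ?_
  intro r hr R
  rw [← normalizer_eq_top_iff, ← top_le_iff]
  apply Cfsg.Agent.Lib.Coprime.le_of_forall_sylow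
  intro q hq
  haveI := Fact.mk hq
  by_cases hqr : q = r
  · subst hqr
    obtain ⟨Q, hQ⟩ := Cfsg.Agent.Lib.Coprime.exists_sylow_of_card (K := (⊤ : Subgroup L))
      (H := (R : Subgroup L)) (p := q) le_top (by rw [card_top, R.card_eq_multiplicity])
    exact ⟨Q, hQ.le.trans le_normalizer⟩
  · refine ⟨default, ?_⟩
    set Q : Sylow q (⊤ : Subgroup L) := default
    intro h hh
    obtain ⟨j, hj⟩ := IsPGroup.iff_orderOf.mp (Q.2.map (⊤ : Subgroup L).subtype) ⟨h, hh⟩
    rw [Subgroup.orderOf_mk] at hj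
    rw [mem_normalizer_iff]
    have key : ∀ y ∈ (R : Subgroup L), h * y = y * h := by
      intro y hy
      obtain ⟨i, hi⟩ := IsPGroup.iff_orderOf.mp R.2 ⟨y, hy⟩
      rw [Subgroup.orderOf_mk] at hi
      apply Subtype.ext
      exact good_commute hodd hqr ((hLgood _).mp y.2) ((hLgood _).mp h.2)
        (by rw [Subgroup.orderOf_coe]; exact hi) (by rw [Subgroup.orderOf_coe]; exact hj)
    intro y
    constructor
    · intro hy; rwa [key y hy, mul_inv_cancel_right]
    · intro hy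
      have e : y = h * y * h⁻¹ := by
        calc y = h⁻¹ * (h * y * h⁻¹ * h) := by group
          _ = h⁻¹ * (h * (h * y * h⁻¹)) := by rw [key _ hy]
          _ = _ := by group
      rwa [e]

end Cfsg.Agent.S3785
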