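import Cfsg.Statements.S3787
import Mathlib
import Cfsg.Agent.Lib.PSolvable.PLengthExponent
import Cfsg.Agent.Lib.PSolvable.WreathSection
-- import your own Cfsg.Agent.* helpers here

set_option autoImplicit false
open Cfsg

namespace Cfsg.Agent.S3787

open Cfsg.Agent.Lib Cfsg.Agent.Lib.Transfer

/-- Let G be a finite p-soluble group, p an odd prime not of the form 2^k + 1, and suppose the wreath product C_p ≀ C_p (of order p^(p+1)) is not involved in a Sylow p-subgroup of G: no section of a Sylow p-subgroup is isomorphic to it. Then G has p-length at most 1. -/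
theorem result {G : Type*} [Group G] [Finite G] {p : ℕ} [Fact p.Prime] (hp2 : p ≠ 2) (hnf : (¬ ∃ k : ℕ, p = 2 ^ k + 1)) (hG : Cfsg.IsPSolvable p G) (P : Sylow p G) (hwr : ∀ (W : Type) [Group W] [Finite W], (∃ (B : Subgroup W) (t : W), B.Normal ∧ IsMulCommutative B ∧ (∀ b ∈ B, b ^ p = 1) ∧ Nat.card B = p ^ p ∧ orderOf t = p ∧ t ∉ B ∧ Nat.card W = p ^ (p + 1) ∧ Nat.card ↥(B ⊓ Subgroup.centralizer ({t} : Set W)) = p) → ¬ Cfsg.Involves W ↥(P : Subgroup G)) : Cfsg.PLengthLE p 1 G := by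
  classical
  refine PSolvable.pLengthLE_of_quotient_pPrime (N := Cfsg.pPrimeCore p G)
    PSolvable.card_pPrimeCore_coprime ?_
  set K := G ⧸ Cfsg.pPrimeCore p G
  have hK1 : Cfsg.pPrimeCore p K = ⊥ := PSolvable.pPrimeCore_quotient_eq_bot _ rfl
  have hKsol : Cfsg.IsPSolvable p K := PSolvable.isPSolvable_quotient hG _
  refine PSolvable.pLengthLE_succ_of_quotient_pCore (k := 0) (PSolvable.pLengthLE_zero_iff.mpr fun hd => ?_)
  obtain ⟨x, hx⟩ := exists_prime_orderOf_dvd_card' p hd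
  obtain ⟨g, rfl⟩ := QuotientGroup.mk_surjective x
  obtain ⟨V, hV1, hV2, hV3, π, f, hs, hπ, -, hinj, hc⟩ := PSolvable.exists_module hKsol hK1
  have hne : (f (g : K ⧸ Cfsg.pCore p K) - 1) ^ (p - 1) ≠ 0 := by
    rcases HallHigmanB.theoremB (PSolvable.isPSolvable_quotient hKsol _)
        (PSolvable.pCore_quotient_eq_bot _ rfl) f hinj _ 0
        (show orderOf (g : K ⧸ Cfsg.pCore p K) = p ^ (0 + 1) by rw [hx, zero_add, pow_one]) with h |
        ⟨n₀, q, d, h1, -, h3, h4, h5, h6, -⟩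
    · simpa using h
    · haveI := Fact.mk h3
      exact (h6 default (PSolvable.noException_of_not_fermat hp2 hnf (K ⧸ Cfsg.pCore p K)
        n₀ q d h1 h3 h4 h5 default)).elim
  obtain ⟨K1, hK1p, W, hW, hWf, hlike, φ, hφ⟩ :=
    PSolvable.exists_wreath_section hπ hs hc g hx hne
  obtain ⟨S, hS⟩ := hK1p.exists_le_sylow
  have h1 : Cfsg.Involves W ↥(S : Subgroup K) :=
    InvolvesS4.involves_of_hom (K1.subgroupOf S)
      (φ.comp (Subgroup.subgroupOfEquivOfLe hS).toMonoidHom)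
      (hφ.comp (Subgroup.subgroupOfEquivOfLe hS).surjective)
  have hmk := QuotientGroup.mk'_surjective (Cfsg.pPrimeCore p G)
  obtain ⟨e⟩ : Nonempty ((S : Subgroup K) ≃* ↥((P.mapSurjective hmk : Sylow p K) : Subgroup K)) :=
    ⟨S.equiv _⟩
  have h2 : Cfsg.Involves W ↥(P : Subgroup G) := by
    refine InvolvesS4.involves_of_surjective
      ((QuotientGroup.mk' (Cfsg.pPrimeCore p G)).subgroupMap (P : Subgroup G))
      (MonoidHom.subgroupMap_surjective _ _) ?_
    exact InvolvesS4.involves_of_injective e.toMonoidHom e.injective h1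
  obtain ⟨K2, φ2, hφ2⟩ := InvolvesS4.exists_hom_of_involves h2
  exact hwr (Shrink.{0} W) (hlike.congr (Shrink.mulEquiv.{0} (α := W)).symm)
    (InvolvesS4.involves_of_hom K2 ((Shrink.mulEquiv.{0} (α := W)).symm.toMonoidHom.comp φ2)
      ((Shrink.mulEquiv.{0} (α := W)).symm.surjective.comp hφ2))

end Cfsg.Agent.S3787
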