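import Cfsg.Statements.S3788
import Cfsg.Agent.Lib.PLocal.ActionQuotient
import Cfsg.Agent.Lib.Coprime.Commutator
import Cfsg.Agent.Lib.PGroups.Frattini
import Cfsg.Agent.Lib.Chars82.ConstrainedBlock
import Cfsg.Agent.Lib.SFourFree.Transvection
import Cfsg.Agent.Lib.Quadratic.QdSection

set_option autoImplicit false
open Cfsg

namespace Cfsg.Agent.S3788


set_option maxHeartbeats 800000

open Cfsg Subgroup
open Cfsg.Agent.Lib
open scoped commutatorElement

variable {G : Type*} [Group G] [Finite G] {p : ℕ} [hp : Fact p.Prime]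

theorem zpow_eq_of_mem {Q : Subgroup G} {a : G} (haQ : a ∉ Q) (hap : ∃ k : ℕ, orderOf a = p ^ k)
    {j : ℤ} (hj : a ^ j ∈ Q) : (p : ℤ) ∣ j := by
  by_contra hnd
  apply haQ
  obtain ⟨k, hk⟩ := hap
  have hco : IsCoprime j ((p : ℤ) ^ k) := by
    refine IsCoprime.pow_right ?_
    exact ((Nat.prime_iff_prime_int.mp hp.out).irreducible.coprime_iff_not_dvd.mpr hnd).symm
  obtain ⟨u, v, huv⟩ := hco
  have h : a = (a ^ j) ^ u := by
    conv_lhs => rw [← zpow_one a, ← huv]
    rw [zpow_add, ← zpow_mul, mul_comm u j, show v * (p : ℤ) ^ k = ((p ^ k : ℕ) : ℤ) * v by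
      push_cast; ring, zpow_mul a ((p ^ k : ℕ) : ℤ) v, zpow_natCast, ← hk, pow_orderOf_eq_one,
      one_zpow, mul_one]
  rw [h]
  exact Q.zpow_mem hj u

theorem conj_mem_zpowers {g a : G} (h : g * a * g⁻¹ ∈ Subgroup.zpowers a) (m : ℕ) :
    g * a ^ m * g⁻¹ ∈ Subgroup.zpowers (a ^ m) := by
  obtain ⟨n, hn⟩ := h
  refine ⟨n, ?_⟩
  show (a ^ m) ^ n = g * a ^ m * g⁻¹
  have hn' : a ^ n = g * a * g⁻¹ := hn
  rw [← conj_pow, ← hn', ← zpow_natCast, ← zpow_mul, mul_comm, zpow_mul, zpow_natCast]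

/-- A `p`-element that is a transvection on `V` with axis through its own `p`-th power -/
theorem core {V K : Subgroup G} (hV : Cfsg.IsElementaryAbelian p V) {a c v : G}
    (ha : a ∈ Subgroup.normalizer (V : Set G)) (hap : a ^ p ∈ V)
    (hc : c ∈ Subgroup.normalizer (K : Set G)) (hv : v ∈ V) (hac : a = v * c)
    (hKV : K ≤ Subgroup.normalizer (V : Set G))
    (hKp : (Nat.card K).Coprime p) (hfaith : K ⊓ Subgroup.centralizer (V : Set G) = ⊥)
    (hshort : ∀ u ∈ V, a * u * a⁻¹ * u⁻¹ ∈ Subgroup.zpowers (a ^ p))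
    (h4 : p ≠ 2 ∨ ¬ Cfsg.Involves (Equiv.Perm (Fin 4)) G) :
    ∀ k ∈ K, c * k = k * c := by
  have hcomm : ∀ x ∈ V, ∀ y ∈ V, x * y = y * x := fun x hx y hy => PGroups.elemAb_comm hV hx hy
  have hpow : ∀ x ∈ V, x ^ p = 1 := hV.2
  have hcV : c ∈ Subgroup.normalizer (V : Set G) := by
    have := Subgroup.mul_mem _ (Subgroup.le_normalizer (Subgroup.inv_mem _ hv)) ha
    rwa [hac, inv_mul_cancel_left] at this
  have hsame : ∀ u ∈ V, c * u * c⁻¹ = a * u * a⁻¹ := by
    intro u hu
    have hw : c * u * c⁻¹ ∈ V := (Subgroup.mem_normalizer_iff.mp hcV u).mp hu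
    rw [hac, show v * c * u * (v * c)⁻¹ = v * (c * u * c⁻¹) * v⁻¹ by group, hcomm v hv _ hw,
      mul_inv_cancel_right]
  have hVcop : (Nat.card K).Coprime (Nat.card V) := by
    obtain ⟨m, hm⟩ := IsPGroup.iff_card.mp (IsPGroup.of_card (p := p) (G := ↥V)
      (n := (Nat.card V).factorization p) (by
      obtain ⟨m, hm⟩ := IsPGroup.iff_card.mp (show IsPGroup p ↥V from fun x =>
        ⟨1, by rw [pow_one]; exact Subtype.ext (hpow x x.2)⟩)
      rw [hm, hp.out.factorization_pow, Finsupp.single_eq_same]))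
    rw [hm]
    exact hKp.pow_right m
  by_cases hp2 : p = 2
  · subst hp2
    by_contra hnot
    push Not at hnot
    obtain ⟨k₀, hk₀, hne⟩ := hnot
    have hc2V : c * c ∈ V := by
      have : (c * c) = (c * v⁻¹ * c⁻¹) * v⁻¹ * a ^ 2 := by rw [hac, pow_two]; group
      rw [this]
      refine V.mul_mem (V.mul_mem ?_ (V.inv_mem hv)) hap
      exact (Subgroup.mem_normalizer_iff.mp hcV _).mp (V.inv_mem hv)
    have hc2 : ∀ k ∈ K, (c * c) * k = k * (c * c) := by
      intro k hk
      have hcc := Subgroup.mul_mem _ hc hc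
      have h1 : (c * c) * k * (c * c)⁻¹ * k⁻¹ ∈ K ⊓ Subgroup.centralizer (V : Set G) := by
        refine Subgroup.mem_inf.mpr ⟨K.mul_mem ((Subgroup.mem_normalizer_iff.mp hcc k).mp hk)
          (K.inv_mem hk), ?_⟩
        have hmem : (c * c) * k * (c * c)⁻¹ * k⁻¹ ∈ V := by
          rw [mul_assoc (c * c) k, mul_assoc (c * c)]
          exact V.mul_mem hc2V ((Subgroup.mem_normalizer_iff.mp (hKV hk) _).mp (V.inv_mem hc2V))
        exact Subgroup.mem_centralizer_iff.mpr fun u hu => hcomm u hu _ hmem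
      rw [hfaith, Subgroup.mem_bot, mul_inv_eq_one, mul_inv_eq_iff_eq_mul] at h1
      exact h1
    set k := c * k₀ * c⁻¹ * k₀⁻¹ with hk
    have hkK : k ∈ K := K.mul_mem ((Subgroup.mem_normalizer_iff.mp hc k₀).mp hk₀) (K.inv_mem hk₀)
    have hk1 : k ≠ 1 := by
      intro h
      rw [hk, mul_inv_eq_one, mul_inv_eq_iff_eq_mul] at h
      exact hne h
    have hinv : c * k * c⁻¹ = k⁻¹ := by
      rw [hk]
      calc c * (c * k₀ * c⁻¹ * k₀⁻¹) * c⁻¹
          = ((c * c) * k₀) * (c * c)⁻¹ * (c * k₀⁻¹ * c⁻¹) := by group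
        _ = k₀ * (c * k₀⁻¹ * c⁻¹) := by rw [hc2 k₀ hk₀]; group
        _ = _ := by group
    refine h4.resolve_left (fun h => h rfl) (SFourFree.involves_four_of_transvection hV hcV (hKV hkK)
      (Subgroup.mem_centralizer_iff.mpr fun u hu => hcomm u hu _ hc2V) ?_ ?_ ?_ ?_)
    · exact (Nat.coprime_two_right.mp hKp).of_dvd_nat (Subgroup.orderOf_dvd_natCard K hkK)
    · intro h
      exact hk1 (by simpa [hfaith] using
        (Subgroup.mem_inf.mpr ⟨hkK, h⟩ : k ∈ K ⊓ Subgroup.centralizer (V : Set G)))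
    · rw [hinv, inv_mul_cancel]; exact one_mem _
    · rw [PLocal.card_eq_fix_mul_range hV.1 hcV, mul_comm]
      refine Nat.mul_le_mul_right _ ?_
      have hle : PLocal.commRange hV.1 c hcV ≤ Subgroup.zpowers (a ^ 2) := by
        intro x hx
        obtain ⟨u, hu, rfl⟩ := (PLocal.mem_commRange hV.1 hcV).mp hx
        have h := Subgroup.inv_mem _ (hshort u hu)
        rw [← hsame u hu] at h
        have e : (c * u * c⁻¹ * u⁻¹)⁻¹ = ⁅u, c⁆ := by rw [commutatorElement_def]; group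
        rw [e] at h
        exact h
      refine (Subgroup.card_le_of_le hle).trans ?_
      rw [Nat.card_zpowers]
      exact Nat.le_of_dvd two_pos (orderOf_dvd_of_pow_eq_one (hpow _ hap))
  · have hVab : IsMulCommutative ↥V := hV.1
    -- `d = [c,v]` is fixed by `c`
    set d := c * v * c⁻¹ * v⁻¹ with hd
    have hdV : d ∈ V := V.mul_mem ((Subgroup.mem_normalizer_iff.mp hcV v).mp hv) (V.inv_mem hv)
    have hfixb : ∀ x ∈ Subgroup.zpowers (a ^ p), c * x * c⁻¹ = x := by
      rintro x ⟨n, rfl⟩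
      rw [hsame _ (V.zpow_mem hap n)]
      show a * (a ^ p) ^ n * a⁻¹ = (a ^ p) ^ n
      rw [(((Commute.refl a).pow_right p).zpow_right n).eq, mul_inv_cancel_right]
    have hdb : d ∈ Subgroup.zpowers (a ^ p) := by
      rw [hd, hsame v hv]; exact hshort v hv
    have hcd : c * d * c⁻¹ = d := hfixb d hdb
    have hcdn : ∀ m : ℕ, c ^ m * d * (c ^ m)⁻¹ = d := by
      intro m
      induction m with
      | zero => simp
      | succ m ih =>
        calc c ^ (m + 1) * d * (c ^ (m + 1))⁻¹ = c * (c ^ m * d * (c ^ m)⁻¹) * c⁻¹ := by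
              rw [pow_succ']; group
          _ = d := by rw [ih, hcd]
    have hcvn : ∀ m : ℕ, c ^ m * v * (c ^ m)⁻¹ = d ^ m * v := by
      intro m
      induction m with
      | zero => simp
      | succ m ih =>
        calc c ^ (m + 1) * v * (c ^ (m + 1))⁻¹ = c * (c ^ m * v * (c ^ m)⁻¹) * c⁻¹ := by
              rw [pow_succ']; group
          _ = c * d ^ m * c⁻¹ * (c * v * c⁻¹) := by rw [ih]; group
          _ = d ^ m * (d * v) := by rw [← conj_pow, hcd, hd, inv_mul_cancel_right]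
          _ = _ := by rw [pow_succ]; group
    have hexp : ∀ m : ℕ, (v * c) ^ m = v ^ m * d ^ (∑ i ∈ Finset.range m, i) * c ^ m := by
      intro m
      induction m with
      | zero => simp
      | succ m ih =>
        rw [pow_succ, ih, Finset.sum_range_succ]
        calc v ^ m * d ^ (∑ i ∈ Finset.range m, i) * c ^ m * (v * c)
            = v ^ m * d ^ (∑ i ∈ Finset.range m, i) * (c ^ m * v * (c ^ m)⁻¹) * c ^ (m + 1) := by
              rw [pow_succ]; group
          _ = v ^ m * (d ^ ((∑ i ∈ Finset.range m, i) + m) * v) * c ^ (m + 1) := by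
              rw [hcvn, pow_add]; group
          _ = _ := by
              rw [hcomm _ (V.pow_mem hdV _) v hv, ← mul_assoc (v ^ m), ← pow_succ]
    have hcp : c ^ p = a ^ p := by
      rw [hac, hexp p, hpow v hv, one_mul]
      have hdvd : p ∣ ∑ i ∈ Finset.range p, i := by
        rw [Finset.sum_range_id]
        obtain ⟨r, hr⟩ := (hp.out.eq_two_or_odd'.resolve_left hp2)
        refine ⟨r, ?_⟩
        rw [hr, Nat.add_sub_cancel, show (2 * r + 1) * (2 * r) = 2 * ((2 * r + 1) * r) by ring,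
          Nat.mul_div_cancel_left _ two_pos]
      obtain ⟨r, hr⟩ := hdvd
      rw [hr, pow_mul, hpow d hdV, one_pow, one_mul]
    have hbK : ∀ k ∈ K, a ^ p * k = k * a ^ p := by
      intro k hk
      have hcN := Subgroup.pow_mem _ hc p
      have h1 : c ^ p * k * (c ^ p)⁻¹ * k⁻¹ ∈ K ⊓ Subgroup.centralizer (V : Set G) := by
        refine Subgroup.mem_inf.mpr ⟨K.mul_mem ((Subgroup.mem_normalizer_iff.mp hcN k).mp hk)
          (K.inv_mem hk), ?_⟩
        have hmem : c ^ p * k * (c ^ p)⁻¹ * k⁻¹ ∈ V := by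
          rw [hcp, mul_assoc (a ^ p) k, mul_assoc (a ^ p)]
          exact V.mul_mem hap ((Subgroup.mem_normalizer_iff.mp (hKV hk) _).mp (V.inv_mem hap))
        exact Subgroup.mem_centralizer_iff.mpr fun u hu => hcomm u hu _ hmem
      rw [hfaith, Subgroup.mem_bot, mul_inv_eq_one, mul_inv_eq_iff_eq_mul, hcp] at h1
      exact h1
    have hU : ∀ u ∈ ⁅V, K⁆, c * u * c⁻¹ = u := by
      intro u hu
      have hVKV : ⁅V, K⁆ ≤ V := Coprime.commutator_le_of_le_normalizer hKV
      have huV := hVKV hu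
      have hcVK : c * u * c⁻¹ ∈ ⁅V, K⁆ := by
        have h := Subgroup.mem_map_of_mem (MulAut.conj c).toMonoidHom hu
        have hV' : V.map (MulAut.conj c).toMonoidHom = V := by
          ext x
          simp only [Subgroup.mem_map, MulEquiv.toMonoidHom_eq_coe, MonoidHom.coe_coe]
          constructor
          · rintro ⟨y, hy, rfl⟩
            exact (Subgroup.mem_normalizer_iff.mp hcV y).mp hy
          · intro hx
            exact ⟨c⁻¹ * x * c, (Subgroup.mem_normalizer_iff''.mp hcV x).mp hx, by simp [mul_assoc]⟩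
        have hK' : K.map (MulAut.conj c).toMonoidHom = K := by
          ext x
          simp only [Subgroup.mem_map, MulEquiv.toMonoidHom_eq_coe, MonoidHom.coe_coe]
          constructor
          · rintro ⟨y, hy, rfl⟩
            exact (Subgroup.mem_normalizer_iff.mp hc y).mp hy
          · intro hx
            exact ⟨c⁻¹ * x * c, (Subgroup.mem_normalizer_iff''.mp hc x).mp hx, by simp [mul_assoc]⟩
        rw [Subgroup.map_commutator, hV', hK'] at h
        simpa using h
      have h1 : c * u * c⁻¹ * u⁻¹ ∈ ⁅V, K⁆ := mul_mem hcVK (inv_mem hu)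
      have h2 : c * u * c⁻¹ * u⁻¹ ∈ Subgroup.zpowers (a ^ p) := by
        rw [hsame u huV]; exact hshort u huV
      have h3 : c * u * c⁻¹ * u⁻¹ ∈ (V ⊓ Subgroup.centralizer (K : Set G)) ⊓ ⁅V, K⁆ := by
        refine Subgroup.mem_inf.mpr ⟨Subgroup.mem_inf.mpr ⟨hVKV h1, ?_⟩, h1⟩
        obtain ⟨n, hn⟩ := h2
        rw [← hn]
        exact Subgroup.mem_centralizer_iff.mpr fun k hk =>
          ((show Commute k (a ^ p) from (hbK k hk).symm).zpow_right n).eq
      rw [Coprime.centralizer_inf_commutator_eq_bot hKV hVcop, Subgroup.mem_bot,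
        mul_inv_eq_one] at h3
      exact h3
    intro k hk
    set j := c * k * c⁻¹ * k⁻¹ with hj
    have hjK : j ∈ K := K.mul_mem ((Subgroup.mem_normalizer_iff.mp hc k).mp hk) (K.inv_mem hk)
    have hjV : j ∈ K ⊓ Subgroup.centralizer (V : Set G) := by
      refine Subgroup.mem_inf.mpr ⟨hjK, ?_⟩
      have hle : V ≤ Subgroup.centralizer ({j} : Set G) := by
        conv_lhs => rw [← Coprime.centralizer_sup_commutator hKV hVcop]
        refine sup_le ?_ ?_
        · intro u hu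
          rw [Subgroup.mem_centralizer_singleton_iff]
          exact (Subgroup.mem_centralizer_iff.mp (Subgroup.mem_inf.mp hu).2 j hjK).symm
        · intro u hu
          rw [Subgroup.mem_centralizer_singleton_iff]
          have hk' : k⁻¹ * u * k ∈ ⁅V, K⁆ := (Subgroup.mem_normalizer_iff''.mp
            (Coprime.right_le_normalizer_commutator V K hk) u).mp hu
          have hku : c⁻¹ * (k⁻¹ * u * k) * c = k⁻¹ * u * k := by
            conv_lhs => rw [← hU _ hk']
            group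
          have : j * u = u * j := by
            calc j * u = c * k * (c⁻¹ * (k⁻¹ * u * k) * c) * c⁻¹ * k⁻¹ := by rw [hj]; group
              _ = c * u * k * c⁻¹ * k⁻¹ := by rw [hku]; group
              _ = u * j := by
                rw [hj, show c * u = u * c from mul_inv_eq_iff_eq_mul.mp (hU u hu)]; group
          exact this.symm
      exact Subgroup.mem_centralizer_iff.mpr fun u hu =>
        Subgroup.mem_centralizer_singleton_iff.mp (hle hu)
    rw [hfaith, Subgroup.mem_bot, hj, mul_inv_eq_one, mul_inv_eq_iff_eq_mul] at hjV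
    exact hjV

/-- the statement in a group without `p'`-core -/
theorem mem_pCore (hS : Cfsg.IsPSolvable p G) (hO : Cfsg.pPrimeCore p G = ⊥) {a : G}
    (hap : ∃ k : ℕ, orderOf a = p ^ k) (hpa : a ^ p ∈ Cfsg.pCore p G)
    (hnorm : ∀ q ∈ Cfsg.pCore p G, q * a * q⁻¹ ∈ Subgroup.zpowers a)
    (h4 : p ≠ 2 ∨ ¬ Cfsg.Involves (Equiv.Perm (Fin 4)) G) : a ∈ Cfsg.pCore p G := by
  by_contra haQ
  set Q := Cfsg.pCore p G with hQdef
  have hQp : IsPGroup p ↥Q := PSolvable.isPGroup_pCore
  set F := (frattini ↥Q).map Q.subtype with hFdef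
  have hFn : F.Normal := Cores.normal_map_subtype Q _
  have hFQ : F ≤ Q := Subgroup.map_subtype_le _
  set π := QuotientGroup.mk' F with hπ
  set V := Q.map π with hVdef
  have hVn : V.Normal := Subgroup.Normal.map inferInstance _ (QuotientGroup.mk'_surjective F)
  have hVel : Cfsg.IsElementaryAbelian p V := by
    refine PGroups.elemAb_mk ?_ ?_
    · rintro _ ⟨x, hx, rfl⟩ _ ⟨y, hy, rfl⟩
      rw [← map_mul, ← map_mul]
      refine QuotientGroup.eq.mpr ?_
      refine ⟨⁅(⟨y, hy⟩ : ↥Q)⁻¹, (⟨x, hx⟩ : ↥Q)⁻¹⁆,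
        PGroups.commutatorElement_mem_frattini hQp _ _, ?_⟩
      simp [commutatorElement_def, mul_assoc]
    · rintro _ ⟨x, hx, rfl⟩
      rw [← map_pow]
      exact (QuotientGroup.eq_one_iff _).mpr
        ⟨(⟨x, hx⟩ : ↥Q) ^ p, PGroups.pow_mem_frattini hQp _, rfl⟩
  have hVQ : V.comap π = Q := by
    rw [hVdef, Subgroup.comap_map_eq, QuotientGroup.ker_mk', sup_eq_left.mpr hFQ]
  have hCV : Subgroup.centralizer (V : Set (G ⧸ F)) ≤ V := by
    set C := (Subgroup.centralizer (V : Set (G ⧸ F))).comap π with hC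
    have hCp : IsPGroup p ↥C := by
      intro x
      obtain ⟨k, m, hpm, hn⟩ := Nat.exists_eq_pow_mul_and_not_dvd
        (orderOf_pos (x : G)).ne' p hp.out.ne_one
      refine ⟨k, ?_⟩
      have hm : (((x : G) ^ p ^ k)) ^ m = 1 := by rw [← pow_mul, ← hn, pow_orderOf_eq_one]
      have hmc : m.Coprime p := ((Nat.Prime.coprime_iff_not_dvd hp.out).mpr hpm).symm
      set y := (x : G) ^ p ^ k with hy
      have hyC : y ∈ C := C.pow_mem x.2 _
      have hyo : (orderOf y).Coprime p := hmc.coprime_dvd_left (orderOf_dvd_of_pow_eq_one hm)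
      have hcent : Subgroup.zpowers y ≤ Subgroup.centralizer (Q : Set G) := by
        refine Coprime.le_centralizer_of_frattini
          (Subgroup.zpowers_le.mpr ((Subgroup.normalizer_eq_top_iff.mpr
            (inferInstance : Q.Normal)).symm ▸ Subgroup.mem_top y)) ?_ ?_
        · rw [Nat.card_zpowers]
          obtain ⟨i, hi⟩ := IsPGroup.iff_card.mp (hQp.to_subgroup (frattini ↥Q))
          rw [hi]; exact hyo.pow_right i
        · intro z hz q hq
          have hzC : π z ∈ Subgroup.centralizer (V : Set (G ⧸ F)) :=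
            (Subgroup.zpowers_le.mpr hyC) hz
          have h1 := Subgroup.mem_centralizer_iff.mp hzC _ (Subgroup.mem_map_of_mem π hq)
          show z * q * z⁻¹ * q⁻¹ ∈ F
          rw [← QuotientGroup.eq_one_iff]
          change π (z * q * z⁻¹ * q⁻¹) = 1
          rw [map_mul, map_mul, map_mul, ← h1, map_inv, map_inv, mul_inv_cancel_right, mul_inv_cancel]
      have hyQ : y ∈ Q := PSolvable.centralizer_pCore_le hS hO (hcent (Subgroup.mem_zpowers y))
      obtain ⟨i, hi⟩ := hQp ⟨y, hyQ⟩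
      have hy1 : y = 1 := orderOf_eq_one_iff.mp (Nat.eq_one_of_dvd_coprimes (hyo.pow_right i)
        dvd_rfl (orderOf_dvd_of_pow_eq_one (congrArg Subtype.val hi)))
      exact Subtype.ext hy1
    have hCn : C.Normal := Subgroup.Normal.comap inferInstance _
    have hle : C ≤ Q := PSolvable.le_pCore hCn hCp
    intro x hx
    obtain ⟨g, rfl⟩ := QuotientGroup.mk'_surjective F x
    exact Subgroup.mem_map_of_mem π (hle hx)
  -- the `p'`-layer above `Q`
  set ρ := QuotientGroup.mk' Q with hρ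
  have hSq : Cfsg.IsPSolvable p (G ⧸ Q) := PSolvable.isPSolvable_quotient hS Q
  set R := (Cfsg.pPrimeCore p (G ⧸ Q)).comap ρ with hRdef
  have hQR : Q ≤ R := QuotientGroup.le_comap_mk' Q _
  obtain ⟨r, hr, hra⟩ : ∃ r ∈ R, a * r * a⁻¹ * r⁻¹ ∉ Q := by
    by_contra hnot
    push Not at hnot
    apply haQ
    have h1 : ρ a ∈ Subgroup.centralizer (Cfsg.pPrimeCore p (G ⧸ Q) : Set (G ⧸ Q)) := by
      refine Subgroup.mem_centralizer_iff.mpr fun y hy => ?_
      obtain ⟨r, rfl⟩ := QuotientGroup.mk'_surjective Q y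
      have := (QuotientGroup.eq_one_iff (N := Q) _).mpr (hnot r hy)
      change ρ (a * r * a⁻¹ * r⁻¹) = 1 at this
      rw [map_mul, map_mul, map_mul, map_inv, map_inv, mul_inv_eq_one, mul_inv_eq_iff_eq_mul] at this
      exact this.symm
    have h2 := PLocal.centralizer_pPrimeCore_le hSq (PSolvable.pCore_quotient_eq_bot Q rfl) h1
    obtain ⟨k, hk⟩ := hap
    have h3 : orderOf (ρ a) = 1 := Nat.eq_one_of_dvd_coprimes
      ((PSolvable.card_pPrimeCore_coprime (p := p) (G := G ⧸ Q)).pow_right k)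
      (Subgroup.orderOf_dvd_natCard _ h2) (hk ▸ orderOf_map_dvd ρ a)
    exact (QuotientGroup.eq_one_iff a).mp (orderOf_eq_one_iff.mp h3)
  set R₂ := R.map π with hR₂
  have hRn : R.Normal := Subgroup.Normal.comap inferInstance _
  have hR₂n : R₂.Normal := Subgroup.Normal.map hRn _ (QuotientGroup.mk'_surjective F)
  have hVR : V ≤ R₂ := Subgroup.map_mono hQR
  have hidx : (V.relIndex R₂).Coprime p := by
    rw [hVdef, hR₂, Subgroup.relIndex_map_map, QuotientGroup.ker_mk', sup_eq_left.mpr hFQ,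
      sup_eq_left.mpr (hFQ.trans hQR)]
    have hk := Subgroup.relIndex_ker (K := R) ρ
    rw [QuotientGroup.ker_mk', hRdef,
      Subgroup.map_comap_eq_self_of_surjective (QuotientGroup.mk'_surjective Q)] at hk
    rw [hRdef, hk]
    exact PSolvable.card_pPrimeCore_coprime
  obtain ⟨n, hn⟩ := IsPGroup.iff_card.mp (hQp.map π)
  have hVsol : Group.IsSolvable ↥V :=
    have := hVel.1
    Coprime.isSolvable_of_isMulCommutative V
  obtain ⟨K, hKR, hsup, hKcard, htop⟩ := Chars82.ConstrainedBlock.exists_sup_normalizer_complement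
    hVR hVsol (by rw [hVdef, hn]; exact (hidx.pow_right n).symm)
  have haV : π a ∈ V ⊔ Subgroup.normalizer (K : Set (G ⧸ F)) := htop ▸ Subgroup.mem_top _
  rw [← SetLike.mem_coe, Subgroup.normal_mul] at haV
  obtain ⟨v, hv, c, hc, hvc⟩ := haV
  have hKp : (Nat.card K).Coprime p := hKcard ▸ hidx
  have hVnorm : Subgroup.normalizer (V : Set (G ⧸ F)) = ⊤ := Subgroup.normalizer_eq_top_iff.mpr hVn
  have hKV : K ⊓ V = ⊥ := (Subgroup.disjoint_of_coprime_natCard
    (by rw [hVdef, hn]; exact hKp.pow_right n)).eq_bot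
  have hcK := core (p := p) hVel (K := K) (a := π a) (c := c) (v := v)
    (hVnorm.symm ▸ Subgroup.mem_top _) (by rw [← map_pow]; exact Subgroup.mem_map_of_mem π hpa)
    hc hv hvc.symm (hVnorm.symm ▸ le_top) hKp
    (le_bot_iff.mp ((inf_le_inf le_rfl hCV).trans hKV.le)) (by
      rintro _ ⟨u, hu, rfl⟩
      rw [← map_inv, ← map_inv, ← map_mul, ← map_mul, ← map_mul, ← map_pow, ← MonoidHom.map_zpowers]
      refine Subgroup.mem_map_of_mem π ?_
      obtain ⟨i, hi⟩ := hnorm u hu
      have hi' : a ^ i = u * a * u⁻¹ := hi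
      have h : a * u * a⁻¹ * u⁻¹ = a ^ (1 - i) := by
        rw [zpow_sub, zpow_one, hi']; group
      have hQmem : a * u * a⁻¹ * u⁻¹ ∈ Q :=
        Q.mul_mem ((inferInstance : Q.Normal).conj_mem u hu a) (Q.inv_mem hu)
      rw [h] at hQmem ⊢
      obtain ⟨s, hs⟩ := zpow_eq_of_mem haQ hap hQmem
      exact ⟨s, by
        show (a ^ p) ^ s = a ^ (1 - i)
        rw [hs, zpow_mul, zpow_natCast]⟩)
    (h4.imp id (fun h h' => h (Quadratic.involves_of_map π (QuotientGroup.mk'_surjective F) h')))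
  -- so `a` centralises `R / Q`
  apply hra
  have hR : R₂ = K ⊔ V := by rw [sup_comm]; exact hsup.symm
  have hmem : π r ∈ K ⊔ V := hR ▸ Subgroup.mem_map_of_mem π hr
  rw [← SetLike.mem_coe, Subgroup.mul_normal] at hmem
  obtain ⟨k, hk, u, hu, hku⟩ := hmem
  rw [← hVQ, Subgroup.mem_comap, map_mul, map_mul, map_mul, map_inv, map_inv, ← hku, ← hvc]
  let σ := QuotientGroup.mk' V
  have hσv : σ v = 1 := (QuotientGroup.eq_one_iff v).mpr hv
  have hσu : σ u = 1 := (QuotientGroup.eq_one_iff u).mpr hu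
  refine (QuotientGroup.eq_one_iff _).mp ?_
  change σ ((v * c) * (k * u) * (v * c)⁻¹ * (k * u)⁻¹) = 1
  simp only [map_mul, map_inv, hσv, hσu, one_mul, mul_one]
  rw [← map_mul, hcK k hk, map_mul, mul_inv_cancel_right, mul_inv_cancel]

theorem result {G : Type*} [Group G] [Finite G] {p : ℕ} [Fact p.Prime] (hG : Cfsg.IsPSolvable p G) (P : Sylow p G) (A : Subgroup G) (hAP : A ≤ (P : Subgroup G)) (hAn : (P : Subgroup G) ≤ Subgroup.normalizer (A : Set G)) (hA : IsCyclic A) (h : p ≠ 2 ∨ ¬ Cfsg.Involves (Equiv.Perm (Fin 4)) G) : A ≤ Cfsg.pPrimePCore p G := by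
  set N := Cfsg.pPrimeCore p G with hNdef
  set π := QuotientGroup.mk' N with hπ
  show A ≤ (Cfsg.pCore p (G ⧸ N)).comap π
  obtain ⟨a₀, ha₀⟩ := Subgroup.isCyclic_iff_exists_zpowers_eq_top A |>.mp hA
  rw [← ha₀, Subgroup.zpowers_le, Subgroup.mem_comap]
  have ha₀A : a₀ ∈ A := ha₀ ▸ Subgroup.mem_zpowers a₀
  by_contra hnot
  set a₁ := π a₀ with ha₁
  set Q := Cfsg.pCore p (G ⧸ N)
  obtain ⟨e, he⟩ : ∃ e : ℕ, orderOf a₁ = p ^ e := by
    obtain ⟨e, he⟩ := P.isPGroup' ⟨a₀, hAP ha₀A⟩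
    obtain ⟨i, -, hi⟩ := (Nat.dvd_prime_pow Fact.out).mp
      ((orderOf_map_dvd π a₀).trans (orderOf_dvd_of_pow_eq_one (congrArg Subtype.val he)))
    exact ⟨i, hi⟩
  classical
  have hex : ∃ i : ℕ, a₁ ^ p ^ i ∈ Q := ⟨e, by rw [← he, pow_orderOf_eq_one]; exact one_mem _⟩
  obtain ⟨i, hi⟩ : ∃ i, Nat.find hex = i + 1 := by
    refine ⟨Nat.find hex - 1, (Nat.succ_pred ?_).symm⟩
    intro h0
    apply hnot
    simpa [h0] using Nat.find_spec hex
  set a := a₁ ^ p ^ i with hadef
  have haQ : a ∉ Q := Nat.find_min hex (by omega)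
  apply haQ
  refine mem_pCore (PSolvable.isPSolvable_quotient hG N) (PSolvable.pPrimeCore_quotient_eq_bot N rfl)
    ?_ ?_ ?_ (h.imp id fun h' h'' => h' (Quadratic.involves_of_map π (QuotientGroup.mk'_surjective N) h''))
  · obtain ⟨j, -, hj⟩ := (Nat.dvd_prime_pow Fact.out).mp (he ▸ orderOf_pow_dvd (p ^ i) : orderOf a ∣ p ^ e)
    exact ⟨j, hj⟩
  · rw [hadef, ← pow_mul, ← pow_succ, ← hi]
    exact Nat.find_spec hex
  · intro q hq
    rw [hadef]
    refine conj_mem_zpowers ?_ _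
    have hqP : q ∈ (P : Subgroup G).map π :=
      Cores.pCore_le_sylow (P.mapSurjective (QuotientGroup.mk'_surjective N)) hq
    obtain ⟨g, hg, rfl⟩ := hqP
    have := (Subgroup.mem_normalizer_iff.mp (hAn hg) a₀).mp ha₀A
    rw [← ha₀] at this
    rw [ha₁, ← map_inv, ← map_mul, ← map_mul, ← MonoidHom.map_zpowers]
    exact Subgroup.mem_map_of_mem π this

end Cfsg.Agent.S3788
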