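import Cfsg.Statements.S3793
import Cfsg.Agent.Lib.FpfHeight.OddPowerFitting
-- import your own Cfsg.Agent.* helpers here

set_option autoImplicit false
open Cfsg

namespace Cfsg.Agent.S3793

universe u

open Cfsg.Agent.Lib.FpfHeight in
theorem exists_series {p : ℕ} (hp : p.Prime) (hp2 : p ≠ 2) (n : ℕ) (G : Type u) [Group G]
    [Finite G] (hG : Group.IsSolvable G) (σ : MulAut G) (hσ : σ ^ p ^ n = 1)
    (hfpf : ∀ g : G, σ g = g → g = 1) :
    ∃ F : Fin (n + 1) → Subgroup G, F 0 = ⊥ ∧ F (Fin.last n) = ⊤ ∧ Monotone F ∧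
      (∀ i, (F i).Normal) ∧
      ∀ i : Fin n, ∃ k : ℕ, (F i.succ).lowerCentralSeries k ≤ F i.castSucc := by
  induction n generalizing G with
  | zero =>
    have h1 : ∀ g : G, g = 1 := fun g => hfpf g (by rw [pow_zero, pow_one] at hσ; rw [hσ]; rfl)
    exact ⟨fun _ => ⊥, rfl, eq_top_iff.mpr fun g _ => h1 g, monotone_const,
      fun _ => Subgroup.normal_bot, fun i => i.elim0⟩
  | succ n ih =>
    haveI : (fittingSubgroup G).Normal := Lib.Cores.fittingSubgroup_normal
    set K := fittingSubgroup G with hK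
    have hinv : ∀ x ∈ K, σ x ∈ K := Basic.apply_mem_of_char σ K
    have hσ' : Basic.quotAut σ K hinv ^ p ^ n = 1 := by
      refine MulEquiv.ext fun c => ?_
      obtain ⟨g, rfl⟩ := QuotientGroup.mk_surjective c
      rw [Basic.quotAut_pow]
      exact (QuotientGroup.eq.mpr
        (OddPowerFitting.inv_mul_pow_mem_fitting G hG hp hp2 n.succ_pos σ hσ hfpf g)).symm
    obtain ⟨F, hF0, hF1, hFm, hFn, hFs⟩ := ih (G ⧸ K) inferInstance _ hσ'
      (Basic.quotAut_fpf σ K hinv hfpf)
    obtain ⟨k, hk⟩ := Subgroup.isNilpotent_iff_lowerCentralSeries K |>.mp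
      Lib.Cores.fittingSubgroup_isNilpotent
    refine ⟨Fin.cases ⊥ fun i => (F i).comap (QuotientGroup.mk' K), rfl, ?_, ?_, ?_, ?_⟩
    · simp only [← Fin.succ_last, Fin.cases_succ, hF1, Subgroup.comap_top]
    · refine Fin.monotone_iff_le_succ.mpr fun i => ?_
      rw [Fin.cases_succ]
      cases i using Fin.cases with
      | zero => exact bot_le
      | succ j =>
        rw [← Fin.succ_castSucc, Fin.cases_succ]
        exact Subgroup.comap_mono (hFm (Fin.castSucc_le_succ j))
    · intro i
      cases i using Fin.cases with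
      | zero => exact Subgroup.normal_bot
      | succ j => exact (hFn j).comap _
    · intro i
      cases i using Fin.cases with
      | zero =>
        refine ⟨k, le_of_eq ?_⟩
        change ((F 0).comap (QuotientGroup.mk' K)).lowerCentralSeries k = ⊥
        rw [hF0, MonoidHom.comap_bot, QuotientGroup.ker_mk', hk]
      | succ j =>
        obtain ⟨m, hm⟩ := hFs j
        refine ⟨m, ?_⟩
        simp only [← Fin.succ_castSucc, Fin.cases_succ]
        rw [← Subgroup.map_le_iff_le_comap,
          Subgroup.map_lowerCentralSeries,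
          Subgroup.map_comap_eq_self_of_surjective (QuotientGroup.mk'_surjective K)]
        exact hm

/-- The Shult–Gross Theorem: let p be an odd prime and G a finite solvable group with an automorphism σ of order p^n fixing only the identity. Then G has Fitting height at most n: G has Fitting height at most m when there is a chain of normal subgroups 1 = F₀ ≤ F₁ ≤ ⋯ ≤ F_m = G with each F_{i+1}/F_i nilpotent. -/
theorem result {G : Type*} [Group G] [Finite G] (hG : Group.IsSolvable G) {p : ℕ} (hp : p.Prime) (hp2 : p ≠ 2) (σ : MulAut G) (n : ℕ) (hσ : orderOf σ = p ^ n) (hfpf : ∀ g : G, σ g = g → g = 1) : ∃ F : Fin (n + 1) → Subgroup G, F 0 = ⊥ ∧ F (Fin.last n) = ⊤ ∧ Monotone F ∧ (∀ i, (F i).Normal) ∧ ∀ i : Fin n, ∃ k : ℕ, (F i.succ).lowerCentralSeries k ≤ F i.castSucc := by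
  exact exists_series hp hp2 n G hG σ (hσ ▸ pow_orderOf_eq_one σ) hfpf

end Cfsg.Agent.S3793
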