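import Cfsg.Statements.S3794
-- import your own Cfsg.Agent.* helpers here

set_option autoImplicit false
open Cfsg

namespace Cfsg.Agent.S3794

open scoped Pointwise

set_option linter.unusedSectionVars false
set_option linter.unusedSimpArgs false

universe u

section basic

variable {G : Type*} [Group G] (t : G →* G)

/-- restriction of an endomorphism to an invariant subgroup -/
def restr (A : Subgroup G) (hA : ∀ x ∈ A, t x ∈ A) : A →* A :=
  (t.comp A.subtype).codRestrict A (fun x => hA x x.2)

lemma restr_val (A : Subgroup G) (hA : ∀ x ∈ A, t x ∈ A) (x : A) :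
    (restr t A hA x : G) = t x := rfl

lemma restr_four (h4 : ∀ x, t (t (t (t x))) = x) (A : Subgroup G) (hA : ∀ x ∈ A, t x ∈ A) (x : A) :
    restr t A hA (restr t A hA (restr t A hA (restr t A hA x))) = x :=
  Subtype.ext (h4 x)

lemma restr_fpf (hf : ∀ x, t x = x → x = 1) (A : Subgroup G) (hA : ∀ x ∈ A, t x ∈ A) (x : A)
    (hx : restr t A hA x = x) : x = 1 :=
  Subtype.ext (hf x (congrArg Subtype.val hx))

variable [Finite G] (h4 : ∀ x, t (t (t (t x))) = x) (hf : ∀ x, t x = x → x = 1)
include h4 hf

lemma odd_card : Odd (Nat.card G) := by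
  classical
  have := Fintype.ofFinite G
  let e : Equiv.Perm G := ⟨t, fun x => t (t (t x)), fun x => h4 x, fun x => h4 x⟩
  have : Fact (Nat.Prime 2) := ⟨Nat.prime_two⟩
  have he : e ^ (2 ^ 2) = 1 := by
    ext x
    simp only [pow_succ, pow_zero, one_mul, Nat.reducePow, Equiv.Perm.mul_apply, Equiv.Perm.one_apply]
    exact h4 x
  have hm := Equiv.Perm.card_compl_support_modEq he
  have hs : e.supportᶜ = {1} := by
    ext x
    simp only [Finset.mem_compl, Equiv.Perm.mem_support, not_not, Finset.mem_singleton]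
    exact ⟨hf x, fun h => by subst h; exact map_one t⟩
  rw [hs, Finset.card_singleton, ← Nat.card_eq_fintype_card] at hm
  rw [Nat.odd_iff]
  exact hm.symm

lemma inv_of_fixed {c : G} (hc : t (t c) = c) : t c = c⁻¹ := by
  let C : Subgroup G := (t.comp t).eqLocus (MonoidHom.id G)
  have hC : ∀ x ∈ C, t x ∈ C := fun x hx => congrArg t (hx : t (t x) = x)
  have h := MonoidHom.FixedPointFree.coe_eq_inv_of_involutive (φ := restr t C hC)
    (restr_fpf t hf C hC) (fun x => Subtype.ext x.2)
  exact congrArg Subtype.val (congrFun h ⟨c, hc⟩)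

lemma commute_of_fixed {a b : G} (ha : t (t a) = a) (hb : t (t b) = b) : a * b = b * a := by
  have hab : t (t (a * b)) = a * b := by rw [map_mul, map_mul, ha, hb]
  have h := inv_of_fixed t h4 hf hab
  rw [map_mul, inv_of_fixed t h4 hf ha, inv_of_fixed t h4 hf hb, mul_inv_rev] at h
  have h' := congrArg (fun z => (a * b) * z * (b * a)) h
  simp only [mul_assoc] at h'
  simp at h'
  simpa [mul_assoc] using h'

lemma sqrt_exists (w : G) : (w ^ ((Nat.card G + 1) / 2)) ^ 2 = w := by
  obtain ⟨m, hm⟩ := odd_card t h4 hf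
  rw [← pow_mul, show (Nat.card G + 1) / 2 * 2 = Nat.card G + 1 by omega, pow_succ,
    pow_card_eq_one', one_mul]

lemma central_of (K : Subgroup G) [K.Normal] (hK : ∀ z ∈ K, t (t z) = z)
    (hc : ∀ q : G, ∀ z ∈ K, t (t (q * z * q⁻¹ * z⁻¹)) = q * z * q⁻¹ * z⁻¹) :
    K ≤ Subgroup.center G := by
  intro z hz
  rw [Subgroup.mem_center_iff]
  intro q
  set w := q⁻¹ * t (t q) with hw
  have hwc : ∀ x ∈ K, w * x = x * w := by
    intro x hx
    have h := hc q x hx
    rw [map_mul, map_mul, map_mul, map_mul, map_mul, map_mul, map_inv, map_inv, map_inv, map_inv,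
      hK x hx] at h
    have h2 : t (t q) * x * (t (t q))⁻¹ = q * x * q⁻¹ := mul_right_cancel h
    calc w * x = q⁻¹ * (t (t q) * x * (t (t q))⁻¹) * t (t q) := by rw [hw]; group
      _ = x * w := by rw [h2, hw]; group
  have hwi : t (t w) = w⁻¹ := by
    rw [hw, map_mul, map_mul, map_inv, map_inv, h4, mul_inv_rev, inv_inv]
  set r := w ^ ((Nat.card G + 1) / 2) with hr
  have hrfix : t (t (q * r)) = q * r := by
    have h2 : r * r = w := by rw [← pow_two, hr]; exact sqrt_exists t h4 hf w
    calc t (t (q * r)) = t (t q) * r⁻¹ := by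
          rw [map_mul, map_mul, hr, map_pow, map_pow, hwi, inv_pow]
      _ = q * w * r⁻¹ := by rw [hw]; group
      _ = q * r := by rw [← h2]; group
  have hrz : r * z = z * r := ((show Commute w z from hwc z hz).pow_left _).eq
  have h := commute_of_fixed t h4 hf hrfix (hK z hz)
  apply mul_right_cancel (b := r)
  calc q * z * r = q * r * z := by rw [mul_assoc, ← hrz, ← mul_assoc]
    _ = z * q * r := by rw [h, mul_assoc]

lemma nilp_fixed [Group.IsNilpotent G]
    (hab : ∀ A : Subgroup G, (∀ a ∈ A, ∀ b ∈ A, a * b = b * a) → (∀ a ∈ A, t a ∈ A) →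
      ∀ a ∈ A, t (t a) = a) :
    ∀ x : G, t (t x) = x := by
  have hchar : ∀ K : Subgroup G, K.Characteristic → ∀ x ∈ K, t x ∈ K := by
    intro K hK x hx
    let e : G ≃* G :=
      { toFun := t, invFun := fun x => t (t (t x)), left_inv := fun x => h4 x,
        right_inv := fun x => h4 x, map_mul' := map_mul t }
    have := hK.fixed e
    rw [← this] at hx
    exact hx
  set Z := Subgroup.center G
  have hZ : ∀ z ∈ Z, t (t z) = z :=
    hab Z (fun a _ b hb => Subgroup.mem_center_iff.mp hb a) (hchar Z inferInstance)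
  set Z2 := Subgroup.upperCentralSeries G 2 with hZ2
  have hZ2c : ∀ x ∈ Z2, ∀ y : G, x * y * x⁻¹ * y⁻¹ ∈ Z := by
    intro x hx y
    have := Subgroup.mem_upperCentralSeries_succ_iff.mp hx y
    rwa [Subgroup.upperCentralSeries_one] at this
  have hodd := odd_card t h4 hf
  have hinv : ∀ u ∈ Z2, t (t u) = u⁻¹ → u = 1 := by
    intro u hu hut
    set v := t u with hv
    set z := u * v * u⁻¹ * v⁻¹ with hz
    have hzc : z ∈ Z := hZ2c u hu v
    have htz : t z = z := by
      have hexp : t z = v * u⁻¹ * v⁻¹ * u := by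
        rw [hz, map_mul, map_mul, map_mul, map_inv, map_inv, ← hv]
        rw [show t v = u⁻¹ from hut]; group
      rw [hexp]
      have h := Subgroup.mem_center_iff.mp hzc u⁻¹
      calc v * u⁻¹ * v⁻¹ * u = u⁻¹ * z * u := by rw [hz]; group
        _ = z * u⁻¹ * u := by rw [h]
        _ = z := by group
    have huv : u * v = v * u := by
      have h1 := hf z htz
      rw [hz] at h1
      calc u * v = (u * v * u⁻¹ * v⁻¹) * v * u := by group
        _ = v * u := by rw [h1, one_mul]
    let A := Subgroup.closure ({u, v} : Set G)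
    have hAc : ∀ a ∈ A, ∀ b ∈ A, a * b = b * a := by
      have h1 : A ≤ Subgroup.centralizer ({u, v} : Set G) := by
        rw [Subgroup.closure_le]
        rintro x (rfl | rfl) y (rfl | rfl) <;> first | rfl | exact huv | exact huv.symm
      intro a ha b hb
      have h2 : A ≤ Subgroup.centralizer (A : Set G) := by
        rw [Subgroup.closure_le]
        intro x hx
        intro y hy
        exact (h1 hy x hx).symm
      exact (h2 ha b hb).symm
    have hAi : ∀ a ∈ A, t a ∈ A := by
      have : A ≤ A.comap t := by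
        rw [Subgroup.closure_le]
        rintro x (rfl | rfl)
        · exact Subgroup.subset_closure (Or.inr hv.symm)
        · change t v ∈ A
          rw [show t v = u⁻¹ from hut]
          exact A.inv_mem (Subgroup.subset_closure (Or.inl rfl))
      exact fun a ha => this ha
    have h1 := hab A hAc hAi u (Subgroup.subset_closure (Or.inl rfl))
    rw [hut] at h1
    obtain ⟨m, hm⟩ := hodd
    have h2 : u ^ 2 = 1 := by rw [pow_two]; nth_rewrite 1 [← h1]; exact inv_mul_cancel u
    calc u = u ^ (Nat.card G) * ((u ^ 2) ^ m)⁻¹ := by rw [hm, pow_succ', ← pow_mul]; group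
      _ = 1 := by rw [pow_card_eq_one', h2]; simp
  have hZ2f : ∀ x ∈ Z2, t (t x) = x := by
    intro x hx
    have hmem : t (t x) ∈ Z2 := hchar Z2 inferInstance _ (hchar Z2 inferInstance _ hx)
    have h := hinv (x⁻¹ * t (t x)) (Z2.mul_mem (Z2.inv_mem hx) hmem)
      (by rw [map_mul, map_mul, map_inv, map_inv, h4, mul_inv_rev, inv_inv])
    exact (inv_mul_eq_one.mp h).symm
  have hle : Z2 ≤ Z := central_of t h4 hf Z2 hZ2f (fun q z hz => by
    apply hZ
    have h2 := Z.inv_mem (hZ2c z hz q)
    simpa [mul_assoc] using h2)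
  have htop : ∀ n, Subgroup.upperCentralSeries G n ≤ Z := by
    intro n
    induction n with
    | zero => simp
    | succ k ih =>
      intro x hx
      apply hle
      rw [hZ2, Subgroup.mem_upperCentralSeries_succ_iff, Subgroup.upperCentralSeries_one]
      exact fun y => ih (Subgroup.mem_upperCentralSeries_succ_iff.mp hx y)
  obtain ⟨n, hn⟩ := Group.IsNilpotent.nilpotent (G := G)
  intro x
  exact hZ x (htop n (hn ▸ Subgroup.mem_top x))

end basic

section action

variable {H V : Type*} [Group H] [Finite H] [CommGroup V] [Finite V]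
  (r : H →* MulAut V) (t : H →* H) (s : V →* V)

/-- difference of two operators -/
def dd (a b : H) : V →* V := (r a).toMonoidHom / (r b).toMonoidHom

omit [Finite H] [Finite V] in
lemma dd_apply (a b : H) (x : V) : dd r a b x = r a x / r b x := rfl

omit [Finite H] [Finite V] in
lemma dd_comm {a b c : H} (ha : a * c = c * a) (hb : b * c = c * b) (x : V) :
    r c (dd r a b x) = dd r a b (r c x) := by
  rw [dd_apply, dd_apply, map_div, ← MulAut.mul_apply, ← MulAut.mul_apply, ← MulAut.mul_apply,
    ← MulAut.mul_apply, ← map_mul, ← map_mul, ← map_mul, ← map_mul, ha, hb]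

variable (ht4 : ∀ x, t (t (t (t x))) = x) (htf : ∀ x, t x = x → x = 1)
  (hs4 : ∀ v, s (s (s (s v))) = v) (hsf : ∀ v, s v = v → v = 1)
  (hcomp : ∀ h v, s (r h v) = r (t h) (s v))
include ht4 htf hs4 hsf hcomp

omit ht4 htf [Finite H] [Finite V] in
lemma cubic (A : Subgroup H) (hA : ∀ a ∈ A, ∀ b ∈ A, a * b = b * a) (hAi : ∀ a ∈ A, t a ∈ A)
    {h k l : H} (hh : h ∈ A) (hk : k ∈ A) (hl : l ∈ A) (x : V) :
    dd r (t (t (t h))) h (dd r (t (t (t k))) (t k) (dd r (t (t (t l))) (t (t l)) x)) = 1 := by
  have E0 : ∀ v : V, v * s v * s (s v) * s (s (s v)) = 1 := by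
    intro v
    apply hsf
    simp only [map_mul, hs4]
    rw [mul_comm (s v * s (s v) * s (s (s v))) v]
    simp only [mul_assoc]
  have c1 : ∀ a ∈ A, t (t a) ∈ A ∧ t (t (t a)) ∈ A := fun a ha =>
    ⟨hAi _ (hAi _ ha), hAi _ (hAi _ (hAi _ ha))⟩
  have D1 : ∀ h ∈ A, ∀ v : V, dd r (t h) h (s v) * dd r (t (t h)) h (s (s v)) *
      dd r (t (t (t h))) h (s (s (s v))) = 1 := by
    intro h _ v
    have e1 := E0 (r h v)
    simp only [hcomp] at e1
    have e2 : r h v * r h (s v) * r h (s (s v)) * r h (s (s (s v))) = 1 := by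
      rw [← map_mul, ← map_mul, ← map_mul, E0, map_one]
    simp only [dd_apply]
    rw [div_mul_div_comm, div_mul_div_comm, div_eq_one]
    apply mul_left_cancel (a := r h v)
    simp only [← mul_assoc]
    rw [e1, e2]
  have D2 : ∀ h ∈ A, ∀ k ∈ A, ∀ v : V,
      dd r (t (t h)) h (dd r (t (t k)) (t k) (s (s v))) *
      dd r (t (t (t h))) h (dd r (t (t (t k))) (t k) (s (s (s v)))) = 1 := by
    intro h hh k hk v
    have e1 := D1 h hh (r k v)
    simp only [hcomp] at e1
    have e2 := congrArg (r (t k)) (D1 h hh v)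
    rw [map_mul, map_mul, map_one, dd_comm r (hA _ (hAi _ hh) _ (hAi _ hk)) (hA _ hh _ (hAi _ hk)),
      dd_comm r (hA _ (c1 h hh).1 _ (hAi _ hk)) (hA _ hh _ (hAi _ hk)),
      dd_comm r (hA _ (c1 h hh).2 _ (hAi _ hk)) (hA _ hh _ (hAi _ hk))] at e2
    rw [dd_apply r (t (t k)), dd_apply r (t (t (t k))), map_div, map_div, div_mul_div_comm,
      div_eq_one]
    apply mul_left_cancel (a := dd r (t h) h (r (t k) (s v)))
    simp only [← mul_assoc]
    rw [e1, e2]
  obtain ⟨v, rfl⟩ : ∃ v, s (s (s v)) = x := ⟨s x, hs4 x⟩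
  have e1 := D2 h hh k hk (r l v)
  simp only [hcomp] at e1
  have e2 := congrArg (r (t (t l))) (D2 h hh k hk v)
  rw [map_mul, map_one,
    dd_comm r (hA _ (c1 h hh).1 _ (c1 l hl).1) (hA _ hh _ (c1 l hl).1),
    dd_comm r (hA _ (c1 k hk).1 _ (c1 l hl).1) (hA _ (hAi _ hk) _ (c1 l hl).1),
    dd_comm r (hA _ (c1 h hh).2 _ (c1 l hl).1) (hA _ hh _ (c1 l hl).1),
    dd_comm r (hA _ (c1 k hk).2 _ (c1 l hl).1) (hA _ (hAi _ hk) _ (c1 l hl).1)] at e2
  rw [dd_apply r (t (t (t l))), map_div, map_div, div_eq_one]
  exact mul_left_cancel (e1.trans e2.symm)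

lemma abelian_fixed (hinj : Function.Injective r) {p : ℕ} (hp : p.Prime) (hpV : ∀ v : V, v ^ p = 1)
    (A : Subgroup H) (hA : ∀ a ∈ A, ∀ b ∈ A, a * b = b * a) (hAi : ∀ a ∈ A, t a ∈ A)
    (hcop : (Nat.card A).Coprime p) : ∀ a ∈ A, t (t a) = a := by
  intro u hu
  have surj : ∀ x ∈ A, ∃ y ∈ A, y⁻¹ * t y = x := by
    intro x hx
    obtain ⟨y, hy⟩ := MonoidHom.FixedPointFree.commutatorMap_surjective
      (φ := restr t A hAi) (restr_fpf t htf A hAi) (⟨x, hx⟩⁻¹ : A)
    refine ⟨y, y.2, ?_⟩
    have h1 : (y : H) / t y = x⁻¹ := congrArg Subtype.val hy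
    rw [← inv_inv x, ← h1, div_eq_mul_inv, mul_inv_rev, inv_inv]
    exact hA _ (A.inv_mem y.2) _ (hAi _ y.2)
  set b := u⁻¹ * t (t u) with hb
  have hbA : b ∈ A := A.mul_mem (A.inv_mem hu) (hAi _ (hAi _ hu))
  obtain ⟨l, hl, hl'⟩ := surj (t (t b)) (hAi _ (hAi _ hbA))
  obtain ⟨h, hh, hh'⟩ := surj (t b)⁻¹ (A.inv_mem (hAi _ hbA))
  set k := t (t (t u)) with hk
  have hkA : k ∈ A := hAi _ (hAi _ (hAi _ hu))
  have b1 : t (t (t h)) = h * b := by
    have h1 : t h = h * (t b)⁻¹ := by rw [← hh']; group
    calc t (t (t h)) = t (t (t h)) * b⁻¹ * b := by group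
      _ = h * b := by
        congr 1
        have h2 := congrArg (fun z => t (t (t z))) h1
        simp only [map_mul, map_inv, ht4] at h2
        rw [← h2]
  have b2 : t (t (t k)) = t k * b := by
    simp only [hk, ht4, hb, mul_inv_cancel_left]
  have b3 : t (t (t l)) = t (t l) * b := by
    have h2 := congrArg (fun z => t (t z)) hl'
    simp only [map_mul, map_inv, ht4] at h2
    rw [← h2]; group
  have hfac : ∀ c ∈ A, ∀ x : V, dd r (c * b) c x = r c (dd r b 1 x) := by
    intro c _ x
    simp [dd_apply, MulAut.mul_apply, map_div]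
  have hcm : ∀ c ∈ A, ∀ x : V, dd r b 1 (r c x) = r c (dd r b 1 x) := fun c hc x =>
    (dd_comm r (hA _ hbA _ hc) (by simp) x).symm
  have hnil : ∀ x : V, dd r b 1 (dd r b 1 (dd r b 1 x)) = 1 := by
    intro x
    have h1 := cubic r t s hs4 hsf hcomp A hA hAi hh hkA hl x
    rw [b1, b2, b3, hfac _ hh, hfac _ (hAi _ hkA), hfac _ (hAi _ (hAi _ hl)),
      hcm _ (hAi _ hkA), hcm _ (hAi _ (hAi _ hl)), hcm _ (hAi _ (hAi _ hl)),
      MulEquiv.map_eq_one_iff, MulEquiv.map_eq_one_iff, MulEquiv.map_eq_one_iff] at h1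
    exact h1
  have hexp : ∀ (n : ℕ) (v : V), r (b ^ n) v =
      v * (dd r b 1 v) ^ n * (dd r b 1 (dd r b 1 v)) ^ n.choose 2 := by
    have hstep : ∀ y : V, r b y = y * dd r b 1 y := fun y => by simp [dd_apply]
    intro n
    induction n with
    | zero => intro v; simp
    | succ n ih =>
      intro v
      rw [pow_succ', map_mul, MulAut.mul_apply, ih v, map_mul, map_mul, map_pow, map_pow,
        hstep v, hstep (dd r b 1 v), hstep (dd r b 1 (dd r b 1 v)), hnil, mul_one,
        Nat.choose_succ_succ, Nat.choose_one_right, mul_pow, pow_succ, pow_add]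
      simp only [mul_assoc, mul_comm, mul_left_comm]
  have hbp : b ^ p ^ 2 = 1 := by
    apply hinj
    ext v
    have hd1 : p ∣ p ^ 2 := dvd_pow_self p (by norm_num)
    have hd2 : p ∣ (p ^ 2).choose 2 := hp.dvd_choose_pow (by norm_num) (by
      have := hp.two_le
      nlinarith)
    rw [hexp, map_one]
    obtain ⟨c1, hc1⟩ := hd1
    obtain ⟨c2, hc2⟩ := hd2
    rw [hc2, hc1, pow_mul, pow_mul, hpV, hpV]
    simp
  have hb1 : b = 1 := by
    have h1 : orderOf b ∣ Nat.card A := by
      rw [← Subgroup.orderOf_mk b hbA]; exact orderOf_dvd_natCard _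
    exact orderOf_eq_one_iff.mp
      (Nat.eq_one_of_dvd_coprimes (hcop.pow_right 2) h1 (orderOf_dvd_of_pow_eq_one hbp))
  exact (inv_mul_eq_one.mp hb1).symm

lemma faithful_abelian (hinj : Function.Injective r) {p : ℕ} [Fact p.Prime]
    (hpV : ∀ v : V, v ^ p = 1) (hOp : ∀ K : Subgroup H, K.Normal → IsPGroup p K → K = ⊥)
    (hnil : Group.IsNilpotent (commutator H)) : ∀ a b : H, a * b = b * a := by
  have hp : p.Prime := Fact.out
  have key : ∀ K : Subgroup H, K.Normal → Group.IsNilpotent K → (∀ x ∈ K, t x ∈ K) →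
      ∀ x ∈ K, t (t x) = x := by
    intro K hKn hKnil hKi x hx
    have hcK : (Nat.card K).Coprime p := by
      rw [Nat.coprime_comm, hp.coprime_iff_not_dvd]
      intro hdvd
      let P : Sylow p K := default
      have hPn : (P : Subgroup K).Normal :=
        P.normal_of_normalizerCondition (Group.normalizerCondition_of_isNilpotent (h := hKnil))
      have hPc : (P : Subgroup K).Characteristic := P.characteristic_of_normal hPn
      have := hOp ((P : Subgroup K).map K.subtype) ConjAct.normal_of_characteristic_of_normal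
        (P.isPGroup'.map _)
      rw [Subgroup.map_eq_bot_iff_of_injective _ K.subtype_injective] at this
      exact P.ne_bot_of_dvd_card hdvd this
    have h := nilp_fixed (restr t K hKi) (restr_four t ht4 K hKi) (restr_fpf t htf K hKi)
      (fun A hA hAi a ha => by
        have h2 := abelian_fixed r t s ht4 htf hs4 hsf hcomp hinj hp hpV (A.map K.subtype)
          (by
            rintro _ ⟨a, ha, rfl⟩ _ ⟨b, hb, rfl⟩
            exact congrArg Subtype.val (hA a ha b hb))
          (by
            rintro _ ⟨a, ha, rfl⟩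
            exact ⟨_, hAi a ha, rfl⟩)
          (by
            refine Nat.Coprime.coprime_dvd_left (Subgroup.card_dvd_of_le ?_) hcK
            exact Subgroup.map_subtype_le A)
          (a : H) ⟨a, ha, rfl⟩
        exact Subtype.ext h2) ⟨x, hx⟩
    exact congrArg Subtype.val h
  have hinv : ∀ x ∈ commutator H, t x ∈ commutator H := by
    intro x hx
    have h2 : (commutator H).map t ≤ commutator H := by
      rw [commutator_def, Subgroup.map_commutator]
      exact Subgroup.commutator_mono le_top le_top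
    exact h2 ⟨x, hx, rfl⟩
  have hfix := key _ inferInstance hnil hinv
  have hcen : commutator H ≤ Subgroup.center H := by
    refine central_of t ht4 htf _ hfix (fun q z hz => hfix _ ?_)
    exact (commutator H).mul_mem ((inferInstance : (commutator H).Normal).conj_mem z hz q)
      ((commutator H).inv_mem hz)
  have hHnil : Group.IsNilpotent H := by
    let : CommGroup (Abelianization H) := inferInstance
    refine Subgroup.isNilpotent_of_ker_le_center (Abelianization.of (G := H)) ?_
    rw [Abelianization.ker_of]; exact hcen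
  have hall := key ⊤ inferInstance inferInstance (fun x _ => trivial)
  exact fun a b => commute_of_fixed t ht4 htf (hall a trivial) (hall b trivial)

end action

lemma induced {G : Type*} [Group G] [Finite G] (t : G →* G) (h4 : ∀ x, t (t (t (t x))) = x)
    (hf : ∀ x, t x = x → x = 1) (N : Subgroup G) [N.Normal] (hN : ∀ x ∈ N, t x ∈ N) :
    ∃ t' : G ⧸ N →* G ⧸ N, (∀ g : G, t' g = (t g : G ⧸ N)) ∧
      (∀ x, t' (t' (t' (t' x))) = x) ∧ (∀ x, t' x = x → x = 1) := by
  refine ⟨QuotientGroup.map N N t (fun x hx => hN x hx), fun g => rfl, ?_, ?_⟩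
  · intro x
    induction x using QuotientGroup.induction_on with
    | H g => exact congrArg QuotientGroup.mk (h4 g)
  · intro x
    induction x using QuotientGroup.induction_on with
    | H g =>
      intro hg
      have hm : (t g)⁻¹ * g ∈ N := QuotientGroup.eq.mp hg
      rw [QuotientGroup.eq_one_iff]
      have hinj : Function.Injective (fun y : G => (t y)⁻¹ * y) := by
        intro a b h
        have h2 : t (a * b⁻¹) = a * b⁻¹ := by
          rw [map_mul, map_inv]
          have h' := congrArg (fun z => t a * z * b⁻¹) h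
          simpa [mul_assoc] using h'.symm
        exact mul_inv_eq_one.mp (hf _ h2)
      have hmaps : Set.MapsTo (fun y : G => (t y)⁻¹ * y) N N := fun y hy =>
        N.mul_mem (N.inv_mem (hN y hy)) hy
      obtain ⟨⟨m, hm'⟩, he⟩ := Finite.injective_iff_surjective.mp
        (hmaps.restrict_inj.mpr hinj.injOn) ⟨_, hm⟩
      exact hinj (congrArg Subtype.val he) ▸ hm'

lemma main : ∀ (n : ℕ) (G : Type u) [Group G] [Finite G], Nat.card G ≤ n → Group.IsSolvable G →
    ∀ t : G →* G, (∀ x, t (t (t (t x))) = x) → (∀ x, t x = x → x = 1) →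
      Group.IsNilpotent (commutator G) := by
  intro n
  induction n with
  | zero => intro G _ _ h; exact absurd (Nat.card_pos (α := G)) (by omega)
  | succ n ih =>
    intro G _ _ hcard hsol t h4 hf
    classical
    by_cases hsub : commutator G = ⊥
    · rw [hsub]; infer_instance
    -- the set of candidates
    let S : Set (Subgroup G) := {W | W.Normal ∧ W ≠ ⊥ ∧ (∀ x ∈ W, t x ∈ W) ∧
      (∀ a ∈ W, ∀ b ∈ W, a * b = b * a) ∧ ∃ p, p.Prime ∧ ∀ x ∈ W, x ^ p = 1}
    have hS : S.Nonempty := by
      obtain ⟨m, hm⟩ := hsol.solvable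
      have hex : ∃ i, derivedSeries G i = ⊥ := ⟨m, hm⟩
      have hi0 : 0 < Nat.find hex := by
        rw [Nat.pos_iff_ne_zero]
        intro h
        have := Nat.find_spec hex
        rw [h, derivedSeries_zero] at this
        exact hsub (eq_bot_mono le_top this)
      set D := derivedSeries G (Nat.find hex - 1) with hD
      have hDne : D ≠ ⊥ := Nat.find_min hex (by omega)
      have hDab : ∀ a ∈ D, ∀ b ∈ D, a * b = b * a := by
        intro a ha b hb
        have h2 : ⁅D, D⁆ = ⊥ := by
          rw [hD, ← derivedSeries_succ, Nat.sub_add_cancel hi0]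
          exact Nat.find_spec hex
        exact Subgroup.commutator_eq_bot_iff_le_centralizer.mp h2 hb a ha
      have hD2 : 2 ≤ Nat.card D := by
        have : Nontrivial D := (Subgroup.nontrivial_iff_ne_bot D).mpr hDne
        exact Finite.one_lt_card
      obtain ⟨p, hp, hpd⟩ := Nat.exists_prime_and_dvd (show Nat.card D ≠ 1 by omega)
      have : Fact p.Prime := ⟨hp⟩
      let W : Subgroup G :=
        { carrier := {x | x ∈ D ∧ x ^ p = 1}
          one_mem' := ⟨D.one_mem, one_pow p⟩
          mul_mem' := fun {a b} ha hb => ⟨D.mul_mem ha.1 hb.1, by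
            rw [(show Commute a b from hDab a ha.1 b hb.1).mul_pow, ha.2, hb.2, one_mul]⟩
          inv_mem' := fun {a} ha => ⟨D.inv_mem ha.1, by rw [inv_pow, ha.2, inv_one]⟩ }
      refine ⟨W, ⟨fun x hx g => ⟨(derivedSeries_normal G _).conj_mem x hx.1 g, ?_⟩⟩, ?_, ?_, ?_,
        p, hp, fun x hx => hx.2⟩
      · rw [conj_pow, hx.2]; simp
      · obtain ⟨d, hd⟩ := exists_prime_orderOf_dvd_card' p hpd
        intro h
        have hd1 : (d : G) ∈ W := ⟨d.2, by
          rw [← hd, ← Subgroup.orderOf_coe]; exact pow_orderOf_eq_one _⟩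
        rw [h, Subgroup.mem_bot] at hd1
        rw [show d = 1 from Subtype.ext hd1, orderOf_one] at hd
        exact hp.ne_one hd.symm
      · exact fun x hx => ⟨map_derivedSeries_le_derivedSeries t _ ⟨x, hx.1, rfl⟩, by
          rw [← map_pow, hx.2, map_one]⟩
      · exact fun a ha b hb => hDab a ha.1 b hb.1
    obtain ⟨V, hVS, hVmin⟩ := (Set.toFinite S).exists_minimal hS
    obtain ⟨hVn, hVne, hVi, hVc, p, hp, hVp⟩ := hVS
    have : Fact p.Prime := ⟨hp⟩
    obtain ⟨tV, htV, htV4, htVf⟩ := induced t h4 hf V hVi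
    have hlt : Nat.card (G ⧸ V) ≤ n := by
      have h1 := V.card_mul_index
      rw [Subgroup.index_eq_card] at h1
      have : Nontrivial V := (Subgroup.nontrivial_iff_ne_bot V).mpr hVne
      have h2 : 2 ≤ Nat.card V := Finite.one_lt_card
      have h3 : 0 < Nat.card (G ⧸ V) := Nat.card_pos
      nlinarith
    have hIH : Group.IsNilpotent (commutator (G ⧸ V)) :=
      ih (G ⧸ V) hlt inferInstance tV htV4 htVf
    let : CommGroup V := { (inferInstance : Group V) with
      mul_comm := fun a b => Subtype.ext (hVc a a.2 b b.2) }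
    let ρ : G →* MulAut V := MulAut.conjNormal
    have hρ : ∀ g (v : V), (ρ g v : G) = g * v * g⁻¹ := fun g v => MulAut.conjNormal_apply g v
    set N := ρ.ker with hNdef
    have hmemN : ∀ g, g ∈ N ↔ ∀ v ∈ V, g * v * g⁻¹ = v := by
      intro g
      rw [hNdef, MonoidHom.mem_ker]
      constructor
      · intro h v hv
        rw [← hρ g ⟨v, hv⟩, h]; rfl
      · intro h
        ext v
        rw [hρ]; exact h v v.2
    have hNi : ∀ x ∈ N, t x ∈ N := by
      intro x hx
      rw [hmemN] at hx ⊢
      intro v hv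
      have h1 := congrArg t (hx (t (t (t v))) (hVi _ (hVi _ (hVi _ hv))))
      rwa [map_mul, map_mul, map_inv, h4] at h1
    obtain ⟨tN, htN, htN4, htNf⟩ := induced t h4 hf N hNi
    have hVN : V ≤ N := fun x hx => by
      rw [hmemN]; intro v hv; rw [hVc x hx v hv, mul_inv_cancel_right]
    have hnilN : Group.IsNilpotent (commutator (G ⧸ N)) := by
      let π : G ⧸ V →* G ⧸ N := QuotientGroup.map V N (MonoidHom.id G) hVN
      have hsurj : Function.Surjective π := fun x => by
        induction x using QuotientGroup.induction_on with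
        | H g => exact ⟨g, rfl⟩
      have hmap : (commutator (G ⧸ V)).map π = commutator (G ⧸ N) := by
        rw [commutator_def, Subgroup.map_commutator, Subgroup.map_top_of_surjective π hsurj,
          ← commutator_def]
      rw [← hmap]
      exact Group.nilpotent_of_surjective (h := hIH) _ (π.subgroupMap_surjective (commutator (G ⧸ V)))
    have hOp : ∀ K : Subgroup (G ⧸ N), K.Normal → IsPGroup p K → K = ⊥ := by
      let R : Subgroup (G ⧸ N) := sSup {K | K.Normal ∧ IsPGroup p K}
      suffices hR : R = ⊥ from fun K hK hKp => eq_bot_mono (le_sSup (show K ∈ {K : Subgroup (G ⧸ N) | K.Normal ∧ IsPGroup p K} from ⟨hK, hKp⟩)) hR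
      have hRp : IsPGroup p R := Sylow.sSup_of_normal _ (fun H hH => hH.2) (fun H hH => hH.1)
      have hRn : R.Normal := Subgroup.sSup_normal _ (fun H hH => hH.1)
      have hRi : ∀ x ∈ R, tN x ∈ R := by
        have hsurj : Function.Surjective tN := fun x => ⟨_, htN4 x⟩
        have : R.map tN ≤ R := le_sSup (show R.map tN ∈ {K : Subgroup (G ⧸ N) | K.Normal ∧ IsPGroup p K} from ⟨hRn.map tN hsurj, hRp.map tN⟩)
        exact fun x hx => this ⟨x, hx, rfl⟩
      set M := R.comap (QuotientGroup.mk' N) with hM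
      have hMn : M.Normal := hRn.comap _
      have hMi : ∀ x ∈ M, t x ∈ M := by
        intro x hx
        change ((t x : G) : G ⧸ N) ∈ R
        rw [← htN]; exact hRi _ hx
      let F : Subgroup G := V ⊓ Subgroup.centralizer (M : Set G)
      let act : MulAction R V :=
        MulAction.compHom V ((QuotientGroup.kerLift ρ).comp R.subtype)
      have hfix1 : (1 : V) ∈ MulAction.fixedPoints R V := fun x => map_one (QuotientGroup.kerLift ρ (x : G ⧸ N))
      have hdvd : p ∣ Nat.card V := by
        have : Nontrivial V := (Subgroup.nontrivial_iff_ne_bot V).mpr hVne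
        obtain ⟨v, hv⟩ := exists_ne (1 : V)
        rw [← orderOf_eq_prime (Subtype.ext (hVp v v.2) : v ^ p = 1) hv]
        exact orderOf_dvd_natCard v
      obtain ⟨v, hvfix, hv1⟩ := hRp.exists_fixed_point_of_prime_dvd_card_of_fixed_point V hdvd hfix1
      have hvF : (v : G) ∈ F := by
        refine ⟨v.2, fun m hm => ?_⟩
        have h1 : ρ m v = v := hvfix ⟨_, hm⟩
        have h2 : m * (v : G) * m⁻¹ = v := by rw [← hρ, h1]
        calc m * (v : G) = m * (v : G) * m⁻¹ * m := by group
          _ = v * m := by rw [h2]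
      have hFV : V ≤ F := by
        refine hVmin (y := F) ⟨?_, ?_, ?_, ?_, p, hp, fun x hx => hVp x hx.1⟩ inf_le_left
        · have : (Subgroup.centralizer (M : Set G)).Normal := inferInstance
          exact inferInstanceAs (V ⊓ Subgroup.centralizer (M : Set G)).Normal
        · intro h
          rw [h, Subgroup.mem_bot] at hvF
          exact hv1 (Subtype.ext hvF.symm)
        · rintro x ⟨hxV, hxC⟩
          refine ⟨hVi x hxV, fun m hm => ?_⟩
          have h1 := congrArg t (hxC (t (t (t m))) (hMi _ (hMi _ (hMi _ hm))))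
          rwa [map_mul, map_mul, h4] at h1
        · exact fun a ha b hb => hVc a ha.1 b hb.1
      rw [eq_bot_iff]
      intro x hx
      induction x using QuotientGroup.induction_on with
      | H g =>
        rw [Subgroup.mem_bot, QuotientGroup.eq_one_iff, hmemN]
        intro w hw
        rw [(hFV hw).2 g hx, mul_inv_cancel_right]
    have hab := faithful_abelian (QuotientGroup.kerLift ρ) tN (restr t V hVi) htN4 htNf
      (restr_four t h4 V hVi) (restr_fpf t hf V hVi) (fun x v => by
        induction x using QuotientGroup.induction_on with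
        | H g =>
          apply Subtype.ext
          rw [htN, restr_val]
          change t (ρ g v : G) = (ρ (t g) (restr t V hVi v) : G)
          rw [hρ, hρ, restr_val, map_mul, map_mul, map_inv])
      (QuotientGroup.kerLift_injective ρ) (p := p) (fun v => Subtype.ext (hVp v v.2)) hOp hnilN
    have hGN : commutator G ≤ N := by
      rw [commutator_def, Subgroup.commutator_le]
      intro a _ b _
      rw [← QuotientGroup.eq_one_iff, commutatorElement_def]
      simp only [QuotientGroup.mk_mul, QuotientGroup.mk_inv]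
      rw [hab (a : G ⧸ N) b, mul_inv_cancel_right, mul_inv_cancel]
    let f : commutator G →* commutator (G ⧸ V) :=
      ((QuotientGroup.mk' V).comp (commutator G).subtype).codRestrict _ (fun x => by
        have : (commutator G).map (QuotientGroup.mk' V) ≤ commutator (G ⧸ V) := by
          rw [commutator_def, Subgroup.map_commutator]
          exact Subgroup.commutator_mono le_top le_top
        exact this ⟨x, x.2, rfl⟩)
    refine @Subgroup.isNilpotent_of_ker_le_center _ _ _ _ f ?_ hIH
    intro x hx
    rw [Subgroup.mem_center_iff]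
    intro y
    apply Subtype.ext
    have hxV : (x : G) ∈ V := (QuotientGroup.eq_one_iff _).mp (congrArg Subtype.val hx)
    have h1 := (hmemN y).mp (hGN y.2) x hxV
    calc (y : G) * x = y * x * (y : G)⁻¹ * y := by group
      _ = x * y := by rw [h1]

/-- Let G be a finite solvable group with an automorphism σ satisfying σ⁴ = 1 and fixing only the identity. Then the derived subgroup G' is nilpotent. -/
theorem result {G : Type*} [Group G] [Finite G] (hG : Group.IsSolvable G) (σ : MulAut G) (hσ : σ ^ 4 = 1) (hfpf : ∀ g : G, σ g = g → g = 1) : Group.IsNilpotent (commutator G) := by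
  refine main (Nat.card G) G le_rfl hG σ.toMonoidHom (fun x => ?_) hfpf
  have h : (σ ^ 4) x = x := by rw [hσ]; rfl
  simpa [pow_succ, MulAut.mul_apply] using h

end Cfsg.Agent.S3794
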