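import Cfsg.Statements.S3795
import Cfsg.Agent.Lib.FpfHeight.OrderFourFitting
import Cfsg.Agent.Lib.FpfHeight.PlaneFitting
-- import your own Cfsg.Agent.* helpers here

set_option autoImplicit false
open Cfsg

namespace Cfsg.Agent.S3795

universe u

open Cfsg.Agent.Lib.FpfHeight

/-- A series of length `m` of a quotient by a nilpotent normal subgroup extends by one step. -/
theorem series_cons {G : Type u} [Group G] {m : ℕ} (K : Subgroup G) [K.Normal]
    (hK : Group.IsNilpotent K)
    (h : ∃ F : Fin (m + 1) → Subgroup (G ⧸ K), F 0 = ⊥ ∧ F (Fin.last m) = ⊤ ∧ Monotone F ∧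
      (∀ i, (F i).Normal) ∧
      ∀ i : Fin m, ∃ k : ℕ, (F i.succ).lowerCentralSeries k ≤ F i.castSucc) :
    ∃ F : Fin (m + 1 + 1) → Subgroup G, F 0 = ⊥ ∧ F (Fin.last (m + 1)) = ⊤ ∧ Monotone F ∧
      (∀ i, (F i).Normal) ∧
      ∀ i : Fin (m + 1), ∃ k : ℕ, (F i.succ).lowerCentralSeries k ≤ F i.castSucc := by
  obtain ⟨F, hF0, hF1, hFm, hFn, hFs⟩ := h
  obtain ⟨k, hk⟩ := Subgroup.isNilpotent_iff_lowerCentralSeries K |>.mp hK
  refine ⟨Fin.cases ⊥ fun i => (F i).comap (QuotientGroup.mk' K), rfl, ?_, ?_, ?_, ?_⟩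
  · simp only [← Fin.succ_last, Fin.cases_succ, hF1, Subgroup.comap_top]
  · refine Fin.monotone_iff_le_succ.mpr fun i => ?_
    rw [Fin.cases_succ]
    cases i using Fin.cases with
    | zero => exact bot_le
    | succ j =>
      rw [← Fin.succ_castSucc, Fin.cases_succ]
      exact Subgroup.comap_mono (hFm (Fin.castSucc_le_succ j))
  · intro i
    cases i using Fin.cases with
    | zero => exact Subgroup.normal_bot
    | succ j => exact (hFn j).comap _
  · intro i
    cases i using Fin.cases with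
    | zero =>
      refine ⟨k, le_of_eq ?_⟩
      change ((F 0).comap (QuotientGroup.mk' K)).lowerCentralSeries k = ⊥
      rw [hF0, MonoidHom.comap_bot, QuotientGroup.ker_mk', hk]
    | succ j =>
      obtain ⟨l, hl⟩ := hFs j
      refine ⟨l, ?_⟩
      simp only [← Fin.succ_castSucc, Fin.cases_succ]
      rw [← Subgroup.map_le_iff_le_comap, Subgroup.map_lowerCentralSeries,
        Subgroup.map_comap_eq_self_of_surjective (QuotientGroup.mk'_surjective K)]
      exact hl

theorem exists_series (k : ℕ) (G : Type u) [Group G] [Finite G] (hG : Group.IsSolvable G)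
    (σ : MulAut G) (hσ : σ ^ 2 ^ (k + 2) = 1) (hfpf : ∀ g : G, σ g = g → g = 1) :
    ∃ F : Fin (2 * k + 2 + 1) → Subgroup G, F 0 = ⊥ ∧ F (Fin.last (2 * k + 2)) = ⊤ ∧ Monotone F ∧
      (∀ i, (F i).Normal) ∧
      ∀ i : Fin (2 * k + 2), ∃ j : ℕ, (F i.succ).lowerCentralSeries j ≤ F i.castSucc := by
  induction k generalizing G with
  | zero =>
    have hinv : ∀ x ∈ fittingSubgroup G, σ x ∈ fittingSubgroup G := Basic.apply_mem_of_char σ _
    set s := Basic.quotAut σ (fittingSubgroup G) hinv with hs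
    have h2 : ∀ c, s (s c) = c := fun c => by
      obtain ⟨g, rfl⟩ := QuotientGroup.mk_surjective c
      rw [hs, Basic.quotAut_mk, Basic.quotAut_mk]
      exact (QuotientGroup.eq.mpr (by
        have := OrderFourFitting.inv_mul_sq_mem_fitting G hG σ hσ hfpf g
        simpa [pow_two, MulAut.mul_apply] using this)).symm
    have hfs := Basic.quotAut_fpf σ _ hinv hfpf
    have hab : ∀ a b : G ⧸ fittingSubgroup G, a * b = b * a :=
      fun a b => MonoidHom.FixedPointFree.commute_all_of_involutive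
        (φ := s.toMonoidHom) hfs h2 a b
    refine series_cons (fittingSubgroup G) Lib.Cores.fittingSubgroup_isNilpotent (m := 1) ?_
    refine ⟨![⊥, ⊤], rfl, rfl, ?_, ?_, ?_⟩
    · exact Fin.monotone_iff_le_succ.mpr fun i => by fin_cases i; simp
    · intro i
      fin_cases i
      · exact Subgroup.normal_bot
      · exact Subgroup.normal_top
    · intro i
      fin_cases i
      refine ⟨1, ?_⟩
      change (⊤ : Subgroup (G ⧸ fittingSubgroup G)).lowerCentralSeries 1 ≤ ⊥
      rw [Subgroup.lowerCentralSeries_succ, Subgroup.lowerCentralSeries_zero,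
        Subgroup.commutator_le]
      intro a _ b _
      rw [Subgroup.mem_bot, commutatorElement_def, hab a b, mul_inv_cancel_right, mul_inv_cancel]
  | succ k ih =>
    have hinv : ∀ x ∈ fittingSubgroup G, σ x ∈ fittingSubgroup G := Basic.apply_mem_of_char σ _
    have hmem := PlaneFitting.inv_mul_pow_mem_fitting σ (n := k + 1 + 2) (by omega) hσ hfpf hinv
    set s := Basic.quotAut σ (fittingSubgroup G) hinv with hs
    have hinv' : ∀ x ∈ fittingSubgroup (G ⧸ fittingSubgroup G),
        s x ∈ fittingSubgroup (G ⧸ fittingSubgroup G) := Basic.apply_mem_of_char s _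
    have hσ' : Basic.quotAut s _ hinv' ^ 2 ^ (k + 2) = 1 := by
      refine MulEquiv.ext fun c => ?_
      obtain ⟨g, rfl⟩ := QuotientGroup.mk_surjective c
      rw [Basic.quotAut_pow]
      exact (QuotientGroup.eq.mpr (hmem g)).symm
    exact series_cons (fittingSubgroup G) Lib.Cores.fittingSubgroup_isNilpotent
      (series_cons _ Lib.Cores.fittingSubgroup_isNilpotent
        (ih _ inferInstance (Basic.quotAut s _ hinv') hσ'
          (Basic.quotAut_fpf s _ hinv' (Basic.quotAut_fpf σ _ hinv hfpf))))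

/-- Gross's Theorem: let G be a finite solvable group with an automorphism σ of order 2^n, n > 1, fixing only the identity. Then G has Fitting height at most 2n − 2: G has Fitting height at most m when there is a chain of normal subgroups 1 = F₀ ≤ F₁ ≤ ⋯ ≤ F_m = G with each F_{i+1}/F_i nilpotent. -/
theorem result {G : Type*} [Group G] [Finite G] (hG : Group.IsSolvable G) (σ : MulAut G) (n : ℕ) (hn : 1 < n) (hσ : orderOf σ = 2 ^ n) (hfpf : ∀ g : G, σ g = g → g = 1) : ∃ F : Fin ((2 * n - 2) + 1) → Subgroup G, F 0 = ⊥ ∧ F (Fin.last (2 * n - 2)) = ⊤ ∧ Monotone F ∧ (∀ i, (F i).Normal) ∧ ∀ i : Fin (2 * n - 2), ∃ k : ℕ, (F i.succ).lowerCentralSeries k ≤ F i.castSucc := by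
  obtain ⟨k, rfl⟩ := Nat.exists_eq_add_of_le' (show 2 ≤ n from hn)
  rw [show 2 * (k + 2) - 2 = 2 * k + 2 by omega]
  exact exists_series k G hG σ (hσ ▸ pow_orderOf_eq_one σ) hfpf

end Cfsg.Agent.S3795
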