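import Cfsg.Statements.S3796
import Cfsg.Agent.Lib.FpfHeight.FourGroupFitting
-- import your own Cfsg.Agent.* helpers here

set_option autoImplicit false
open Cfsg

namespace Cfsg.Agent.S3796

/-- Ward's Theorem: let G be a finite solvable group and A an elementary abelian group of automorphisms of G of order p² (p a prime) with no non-identity common fixed point. Then G has Fitting height at most 2: G has Fitting height at most m when there is a chain of normal subgroups 1 = F₀ ≤ F₁ ≤ ⋯ ≤ F_m = G with each F_{i+1}/F_i nilpotent. -/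
theorem result {G : Type*} [Group G] [Finite G] (hG : Group.IsSolvable G) {p : ℕ} (hp : p.Prime) (A : Subgroup (MulAut G)) (hA : Cfsg.IsElementaryAbelian p A) (hcard : Nat.card A = p ^ 2) (hfpf : ∀ g : G, (∀ a ∈ A, a g = g) → g = 1) : ∃ F : Fin (2 + 1) → Subgroup G, F 0 = ⊥ ∧ F (Fin.last 2) = ⊤ ∧ Monotone F ∧ (∀ i, (F i).Normal) ∧ ∀ i : Fin 2, ∃ k : ℕ, (F i.succ).lowerCentralSeries k ≤ F i.castSucc := by
  haveI := hA.1
  open scoped IsMulCommutative in
  have hnil : Group.IsNilpotent (G ⧸ fittingSubgroup G) :=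
    Lib.FpfHeight.FourGroupFitting.isNilpotent_quotient_fitting (A := A) hp
      (fun a => Subtype.ext (hA.2 a a.2)) hcard G hG A.subtype
      (fun g hg => hfpf g fun a ha => hg ⟨a, ha⟩)
  obtain ⟨k, hk⟩ := Subgroup.isNilpotent_iff_lowerCentralSeries (fittingSubgroup G) |>.mp
    Lib.Cores.fittingSubgroup_isNilpotent
  obtain ⟨m, hm⟩ := Subgroup.nilpotent_iff_lowerCentralSeries.mp hnil
  refine ⟨![⊥, fittingSubgroup G, ⊤], rfl, rfl, ?_, ?_, ?_⟩
  · exact Fin.monotone_iff_le_succ.mpr fun i => by fin_cases i <;> simp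
  · intro i
    fin_cases i
    · exact Subgroup.normal_bot
    · exact Lib.Cores.fittingSubgroup_normal
    · exact Subgroup.normal_top
  · intro i
    fin_cases i
    · exact ⟨k, le_of_eq hk⟩
    · refine ⟨m, ?_⟩
      change (⊤ : Subgroup G).lowerCentralSeries m ≤ fittingSubgroup G
      rw [← QuotientGroup.ker_mk' (fittingSubgroup G), ← MonoidHom.comap_bot,
        ← Subgroup.map_le_iff_le_comap, Subgroup.map_lowerCentralSeries,
        Subgroup.map_top_of_surjective _ (QuotientGroup.mk'_surjective _), hm]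

end Cfsg.Agent.S3796
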