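import Cfsg.Statements.S3797
import Cfsg.Agent.Lib.FpfHeight.InvolutionConj
import Cfsg.Agent.Lib.FpfHeight.Homocyclic
-- import your own Cfsg.Agent.* helpers here

set_option autoImplicit false
open Cfsg

namespace Cfsg.Agent.S3797

/-- Let G be a finite solvable group of even order whose Sylow 2-subgroups contain more than one involution, and suppose all involutions of G are conjugate. Then G has 2-length at most 1, and a Sylow 2-subgroup S of G is either homocyclic (a direct product of cyclic groups of one common order) or a non-abelian 2-group with more than one involution admitting a solvable group of automorphisms transitive on its involutions. -/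
theorem result {G : Type*} [Group G] [Finite G] (hG : Group.IsSolvable G) (heven : Even (Nat.card G)) (S : Sylow 2 G) (htwo : ∃ x y : G, x ∈ (S : Subgroup G) ∧ y ∈ (S : Subgroup G) ∧ x ≠ y ∧ x ≠ 1 ∧ x ^ 2 = 1 ∧ y ≠ 1 ∧ y ^ 2 = 1) (hconj : ∀ x y : G, x ≠ 1 → x ^ 2 = 1 → y ≠ 1 → y ^ 2 = 1 → IsConj x y) : Cfsg.PLengthLE 2 1 G ∧ ((∃ m r : ℕ, Nonempty (↥(S : Subgroup G) ≃* (Fin r → Multiplicative (ZMod (2 ^ m))))) ∨ (¬ IsMulCommutative (S : Subgroup G) ∧ ∃ Y : Subgroup (MulAut ↥(S : Subgroup G)), Group.IsSolvable Y ∧ ∀ x y : ↥(S : Subgroup G), x ≠ 1 → x ^ 2 = 1 → y ≠ 1 → y ^ 2 = 1 → ∃ a ∈ Y, a x = y)) := by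
  haveI : Fact (Nat.Prime 2) := ⟨Nat.prime_two⟩
  haveI := hG
  set U₁ := (upperPSeries 2 G 1).1 with hU₁
  have hU₁card : (Nat.card U₁).Coprime 2 := by
    have h := Lib.PSolvable.upperPSeries_odd (p := 2) (G := G) 0
    rw [Nat.mul_zero, Nat.zero_add] at h
    rw [hU₁, h, Lib.PSolvable.card_comap_mk',
      show Nat.card ↥(upperPSeries 2 G 0).1 = 1 from Subgroup.card_bot]
    simpa using Lib.Cores.pPrimeCore_coprime (G := G ⧸ (upperPSeries 2 G 0).1) 2
  have hodd : Odd (Nat.card U₁) := Nat.coprime_two_right.mp hU₁card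
  have hU₁2 : ∀ x ∈ U₁, ∀ a : ℕ, x ^ 2 ^ a = 1 → x = 1 := fun x hx a ha =>
    Lib.FpfHeight.InvolutionConj.eq_one_of_two_pow ha
      (congrArg Subtype.val (pow_card_eq_one' (x := (⟨x, hx⟩ : U₁)))) hodd
  set π := QuotientGroup.mk' U₁ with hπ
  have hSinj : ∀ x ∈ (S : Subgroup G), ∀ y ∈ (S : Subgroup G), π x = π y → x = y := by
    intro x hx y hy h
    obtain ⟨a, ha⟩ := S.isPGroup' ⟨x⁻¹ * y, mul_mem (inv_mem hx) hy⟩
    exact inv_mul_eq_one.mp (hU₁2 _ (QuotientGroup.eq.mp h) a (congrArg Subtype.val ha))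
  have hlift : ∀ c : G ⧸ U₁, c ≠ 1 → c ^ 2 = 1 → ∃ x : G, x ≠ 1 ∧ x ^ 2 = 1 ∧ π x = c := by
    intro c hc hc2
    obtain ⟨g, rfl⟩ := QuotientGroup.mk'_surjective U₁ c
    obtain ⟨j, hj⟩ := hodd
    have hg2 : g ^ 2 ∈ U₁ := (QuotientGroup.eq_one_iff _).mp (by rw [← map_pow] at hc2; exact hc2)
    have hxc : π (g ^ (2 * j + 1)) = π g := by
      rw [map_pow, pow_succ, pow_mul, hc2, one_pow, one_mul]
    refine ⟨g ^ (2 * j + 1), fun h => hc ?_, ?_, hxc⟩
    · rw [← hπ, ← hxc, h, map_one]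
    · rw [← pow_mul, Nat.mul_comm, pow_mul, ← hj]
      exact congrArg Subtype.val (pow_card_eq_one' (x := (⟨g ^ 2, hg2⟩ : U₁)))
  obtain ⟨a, b, haS, hbS, hab, ha1, ha2, hb1, hb2⟩ := htwo
  have hcore : pPrimeCore 2 (G ⧸ U₁) = ⊥ := Lib.PSolvable.pPrimeCore_quotient_upperPSeries 0
  have hidx := Lib.FpfHeight.InvolutionConj.odd_index_pCore hcore
    (fun c d hc hc2 hd hd2 => by
      obtain ⟨x, hx1, hx2, rfl⟩ := hlift c hc hc2
      obtain ⟨y, hy1, hy2, rfl⟩ := hlift d hd hd2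
      exact π.map_isConj (hconj x y hx1 hx2 hy1 hy2))
    ⟨π a, π b, fun h => hab (hSinj a haS b hbS h),
      fun h => ha1 (hSinj a haS 1 (one_mem _) (h.trans (map_one π).symm)),
      by rw [← map_pow, ha2, map_one],
      fun h => hb1 (hSinj b hbS 1 (one_mem _) (h.trans (map_one π).symm)),
      by rw [← map_pow, hb2, map_one]⟩
  set T := pCore 2 (G ⧸ U₁) with hT
  have hlen : Cfsg.PLengthLE 2 1 G := by
    unfold Cfsg.PLengthLE
    rw [Lib.PSolvable.upperPSeries_odd, eq_top_iff]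
    intro g _
    rw [Subgroup.mem_comap]
    have h2 : (Nat.card (G ⧸ (upperPSeries 2 G (2 * 1)).1)).Coprime 2 := by
      change ((upperPSeries 2 G (2 * 0 + 2)).1.index).Coprime 2
      rw [Lib.PSolvable.upperPSeries_even,
        Subgroup.index_comap_of_surjective _ (QuotientGroup.mk'_surjective _)]
      exact Nat.coprime_two_right.mpr hidx
    refine Lib.Cores.le_pPrimeCore (N := (⊤ : Subgroup _)) ?_ (Subgroup.mem_top _)
    rwa [Subgroup.card_top]
  -- the normalizer of `S` is transitive on its involutions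
  have hST : (S.mapSurjective (QuotientGroup.mk'_surjective U₁)).toSubgroup = T := by
    refine ((S.mapSurjective (QuotientGroup.mk'_surjective U₁)).is_maximal'
      (Lib.Cores.pCore_isPGroup 2) ?_).symm
    intro c hc
    obtain ⟨k, hk⟩ := (S.mapSurjective (QuotientGroup.mk'_surjective U₁)).isPGroup' ⟨c, hc⟩
    have h1 : (c : (G ⧸ U₁) ⧸ T) ^ 2 ^ k = 1 := by
      rw [← QuotientGroup.mk_pow, show c ^ 2 ^ k = 1 from congrArg Subtype.val hk, QuotientGroup.mk_one]
    exact (QuotientGroup.eq_one_iff c).mp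
      (Lib.FpfHeight.InvolutionConj.eq_one_of_two_pow h1 pow_card_eq_one' hidx)
  have hK : (S : Subgroup G) ≤ T.comap π := fun x hx => hST ▸ ⟨x, hx, rfl⟩
  have htr : ∀ x ∈ (S : Subgroup G), ∀ y ∈ (S : Subgroup G), x ≠ 1 → x ^ 2 = 1 → y ≠ 1 →
      y ^ 2 = 1 → ∃ n ∈ Subgroup.normalizer ((S : Subgroup G) : Set G), n * x * n⁻¹ = y := by
    intro x hx y hy hx1 hx2 hy1 hy2
    obtain ⟨g, hg⟩ := isConj_iff.mp (hconj x y hx1 hx2 hy1 hy2)
    haveI : (T.comap π).Normal := Subgroup.Normal.comap inferInstance π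
    have hg' : g ∈ Subgroup.normalizer ((S : Subgroup G) : Set G) ⊔ T.comap π := by
      have htop := Sylow.normalizer_sup_eq_top' S hK
      exact htop.ge (Subgroup.mem_top g)
    obtain ⟨n, hn, k, hk, rfl⟩ := Subgroup.mem_sup_of_normal_right.mp hg'
    have hk' : π k ∈ (S.mapSurjective (QuotientGroup.mk'_surjective U₁)).toSubgroup := hST.symm ▸ hk
    obtain ⟨s, hs, hsk⟩ := hk'
    have hnx : n⁻¹ * y * n ∈ (S : Subgroup G) := by
      have := (Subgroup.mem_normalizer_iff.mp (inv_mem hn) y).mp hy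
      rwa [inv_inv] at this
    refine ⟨n * s, mul_mem hn (Subgroup.le_normalizer hs), ?_⟩
    have h : n⁻¹ * y * n = s * x * s⁻¹ := by
      refine hSinj _ hnx _ (mul_mem (mul_mem hs hx) (inv_mem hs)) ?_
      have e : n⁻¹ * y * n = k * x * k⁻¹ := by rw [← hg]; group
      rw [e, map_mul, map_mul, map_inv, map_mul, map_mul, map_inv, hsk]
    calc n * s * x * (n * s)⁻¹ = n * (s * x * s⁻¹) * n⁻¹ := by group
      _ = y := by rw [← h]; group
  refine ⟨hlen, ?_⟩
  have haut : ∀ x y : ↥(S : Subgroup G), x ≠ 1 → x ^ 2 = 1 → y ≠ 1 → y ^ 2 = 1 →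
      ∃ φ ∈ (S : Subgroup G).normalizerMonoidHom.range, φ x = y := by
    intro x y hx1 hx2 hy1 hy2
    obtain ⟨n, hn, hnx⟩ := htr x x.2 y y.2 (fun h => hx1 (Subtype.ext h))
      (congrArg Subtype.val hx2) (fun h => hy1 (Subtype.ext h)) (congrArg Subtype.val hy2)
    exact ⟨_, ⟨⟨n, hn⟩, rfl⟩, Subtype.ext hnx⟩
  by_cases hcomm : IsMulCommutative (S : Subgroup G)
  · haveI := hcomm
    left
    open scoped IsMulCommutative in
    exact Lib.FpfHeight.Homocyclic.exists_equiv_pow S.isPGroup'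
      fun x y hx1 hx2 hy1 hy2 => (haut x y hx1 hx2 hy1 hy2).imp fun φ h => h.2
  · exact Or.inr ⟨hcomm, _, Group.isSolvable_of_surjective
      (MonoidHom.rangeRestrict_surjective (S : Subgroup G).normalizerMonoidHom), haut⟩

end Cfsg.Agent.S3797
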