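import Cfsg.Statements.S3799
import Mathlib
import Cfsg.Agent.Lib.PGroups.Frattini
import Cfsg.Agent.Lib.FusionP3.GenExtra.Iso
-- import your own Cfsg.Agent.* helpers here

set_option autoImplicit false
open Cfsg
open scoped commutatorElement

namespace Cfsg.Agent.S3799

open Matrix

/-- The Heisenberg group over `ZMod p`. -/
@[ext]
structure Heis (p n : ℕ) where
  v : Fin n → ZMod p
  w : Fin n → ZMod p
  c : ZMod p

namespace Heis

variable {p n : ℕ}

instance : One (Heis p n) := ⟨⟨0, 0, 0⟩⟩
instance : Mul (Heis p n) := ⟨fun a b => ⟨a.v + b.v, a.w + b.w, a.c + b.c + a.v ⬝ᵥ b.w⟩⟩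
instance : Inv (Heis p n) := ⟨fun a => ⟨-a.v, -a.w, -a.c + a.v ⬝ᵥ a.w⟩⟩

@[simp] theorem mul_v (a b : Heis p n) : (a * b).v = a.v + b.v := rfl
@[simp] theorem mul_w (a b : Heis p n) : (a * b).w = a.w + b.w := rfl
@[simp] theorem mul_c (a b : Heis p n) : (a * b).c = a.c + b.c + a.v ⬝ᵥ b.w := rfl
@[simp] theorem one_v : (1 : Heis p n).v = 0 := rfl
@[simp] theorem one_w : (1 : Heis p n).w = 0 := rfl
@[simp] theorem one_c : (1 : Heis p n).c = 0 := rfl
@[simp] theorem inv_v (a : Heis p n) : a⁻¹.v = -a.v := rfl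
@[simp] theorem inv_w (a : Heis p n) : a⁻¹.w = -a.w := rfl
@[simp] theorem inv_c (a : Heis p n) : a⁻¹.c = -a.c + a.v ⬝ᵥ a.w := rfl

instance : Group (Heis p n) where
  mul_assoc a b c := by
    refine Heis.ext (add_assoc _ _ _) (add_assoc _ _ _) ?_
    simp only [mul_c, mul_v, mul_w, add_dotProduct, dotProduct_add]
    ring
  one_mul a := by ext <;> simp
  mul_one a := by ext <;> simp
  inv_mul_cancel a := by ext <;> simp

theorem pow_eq (a : Heis p n) (k : ℕ) :
    a ^ k = ⟨(k : ZMod p) • a.v, (k : ZMod p) • a.w,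
      (k : ZMod p) * a.c + (k.choose 2 : ZMod p) * (a.v ⬝ᵥ a.w)⟩ := by
  induction k with
  | zero => ext <;> simp
  | succ k ih =>
    rw [pow_succ, ih]
    refine Heis.ext ?_ ?_ ?_
    · simp [add_smul]
    · simp [add_smul]
    · simp only [mul_c, smul_dotProduct, smul_eq_mul, Nat.choose_succ_succ, Nat.choose_one_right,
        Nat.cast_add, Nat.cast_succ]
      ring

def equivProd : Heis p n ≃ (Fin n → ZMod p) × (Fin n → ZMod p) × ZMod p where
  toFun a := (a.v, a.w, a.c)
  invFun x := ⟨x.1, x.2.1, x.2.2⟩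
  left_inv _ := rfl
  right_inv _ := rfl

variable [hp : Fact p.Prime]

instance : Finite (Heis p n) := Finite.of_equiv _ equivProd.symm

theorem card_eq : Nat.card (Heis p n) = p ^ (1 + 2 * n) := by
  rw [Nat.card_congr equivProd, Nat.card_prod, Nat.card_prod, Nat.card_fun, Nat.card_zmod,
    Nat.card_eq_fintype_card, Fintype.card_fin, pow_add, pow_one, two_mul, pow_add]
  ring

theorem pow_p (hp2 : p ≠ 2) (a : Heis p n) : a ^ p = 1 := by
  have h2 : (p.choose 2 : ZMod p) = 0 := by
    rw [ZMod.natCast_eq_zero_iff]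
    exact hp.out.dvd_choose_self two_ne_zero (lt_of_le_of_ne hp.out.two_le (Ne.symm hp2))
  rw [pow_eq, h2, ZMod.natCast_self]
  ext <;> simp

theorem mem_center_iff_eq {a : Heis p n} :
    a ∈ Subgroup.center (Heis p n) ↔ a.v = 0 ∧ a.w = 0 := by
  rw [Subgroup.mem_center_iff]
  constructor
  · intro h
    constructor
    · funext i
      have := congrArg Heis.c (h ⟨0, Pi.single i 1, 0⟩)
      simpa [dotProduct_single] using this.symm
    · funext i
      have := congrArg Heis.c (h ⟨Pi.single i 1, 0, 0⟩)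
      simpa [single_dotProduct] using this
  · rintro ⟨h1, h2⟩ b
    ext <;> simp [h1, h2, add_comm]

theorem card_center : Nat.card (Subgroup.center (Heis p n)) = p := by
  rw [Nat.card_congr (β := ZMod p)
    { toFun := fun a => a.1.c
      invFun := fun c => ⟨⟨0, 0, c⟩, mem_center_iff_eq.mpr ⟨rfl, rfl⟩⟩
      left_inv := fun a => Subtype.ext (Heis.ext (mem_center_iff_eq.mp a.2).1.symm
        (mem_center_iff_eq.mp a.2).2.symm rfl)
      right_inv := fun _ => rfl }, Nat.card_zmod]

theorem isExtraspecial (hp2 : p ≠ 2) (hn : 1 ≤ n) : Cfsg.IsExtraspecial p (Heis p n) := by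
  have hP : IsPGroup p (Heis p n) := IsPGroup.of_card card_eq
  have hcomm : commutator (Heis p n) = Subgroup.center (Heis p n) := by
    refine le_antisymm ?_ ?_
    · rw [_root_.commutator_def, Subgroup.commutator_le]
      intro a _ b _
      rw [mem_center_iff_eq]
      simp [commutatorElement_def]
    · intro a ha
      obtain ⟨h1, h2⟩ := mem_center_iff_eq.mp ha
      let i : Fin n := ⟨0, hn⟩
      have key : a = ⁅(⟨Pi.single i a.c, 0, 0⟩ : Heis p n), ⟨0, Pi.single i 1, 0⟩⁆ := by
        ext <;> simp [commutatorElement_def, h1, h2, dotProduct_single]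
      rw [key]
      exact Subgroup.commutator_mem_commutator (Subgroup.mem_top _) (Subgroup.mem_top _)
  refine ⟨⟨hP, le_antisymm ?_ ?_, hcomm⟩, card_center⟩
  · refine Lib.PGroups.frattini_le_of_pow_commutator (p := p) _ (fun a => ?_) hcomm.le
    rw [pow_p hp2]
    exact one_mem _
  · exact hcomm.ge.trans (Lib.PGroups.commutator_le_frattini hP)

/-- The matrix of a Heisenberg element. -/
def mat (a : Heis p n) : Matrix (Unit ⊕ (Fin n ⊕ Unit)) (Unit ⊕ (Fin n ⊕ Unit)) (ZMod p) :=
  fromBlocks 1 (fromCols (replicateRow Unit a.v) (replicateRow Unit fun _ => a.c)) 0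
    (fromBlocks 1 (replicateCol Unit a.w) 0 1)

theorem mat_one : mat (1 : Heis p n) = 1 := by
  ext (i | i | i) (j | j | j) <;> simp [mat, Matrix.one_apply]

theorem mat_mul (a b : Heis p n) : mat (a * b) = mat a * mat b := by
  ext (i | i | i) (j | j | j) <;>
    simp [mat, Matrix.mul_apply, Fintype.sum_sum_type, Matrix.one_apply, dotProduct, add_comm,
      add_left_comm, add_assoc]

/-- The matrix representation. -/
def toMat : Heis p n →* Matrix (Unit ⊕ (Fin n ⊕ Unit)) (Unit ⊕ (Fin n ⊕ Unit)) (ZMod p) where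
  toFun := mat
  map_one' := mat_one
  map_mul' := mat_mul

/-- The index equivalence. -/
noncomputable def idx : Unit ⊕ (Fin n ⊕ Unit) ≃ Fin (n + 2) :=
  Fintype.equivFinOfCardEq (by simp; omega)

/-- The faithful linear representation. -/
noncomputable def toGL : Heis p n →* Matrix.GeneralLinearGroup (Fin (n + 2)) (ZMod p) :=
  ((Matrix.reindexAlgEquiv (ZMod p) (ZMod p) idx).toMulEquiv.toMonoidHom.comp toMat).toHomUnits

theorem toGL_injective : Function.Injective (toGL : Heis p n →* _) := by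
  intro a b h
  have h' : mat a = mat b := (Matrix.reindexAlgEquiv (ZMod p) (ZMod p) (idx (n := n))).injective
    (congrArg Units.val h)
  refine Heis.ext (funext fun i => ?_) (funext fun i => ?_) ?_
  · simpa [mat] using congrFun (congrFun h' (Sum.inl ())) (Sum.inr (Sum.inl i))
  · simpa [mat] using congrFun (congrFun h' (Sum.inr (Sum.inl i))) (Sum.inr (Sum.inr ()))
  · simpa [mat] using congrFun (congrFun h' (Sum.inl ())) (Sum.inr (Sum.inr ()))

end Heis

/-- For every odd prime p and every n ≥ 1 there is an extraspecial p-group of order p^(1+2n) and exponent p; concretely, the general linear group of degree n + 2 over the field with p elements contains such a subgroup. -/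
theorem result (p : ℕ) [Fact p.Prime] (hp : p ≠ 2) (n : ℕ) (hn : 1 ≤ n) : ∃ E : Subgroup (Matrix.GeneralLinearGroup (Fin (n + 2)) (ZMod p)), Cfsg.IsExtraspecial p ↥E ∧ Nat.card E = p ^ (1 + 2 * n) ∧ ∀ x ∈ E, x ^ p = 1 := by
  have e := MonoidHom.ofInjective (Heis.toGL_injective (p := p) (n := n))
  refine ⟨(Heis.toGL : Heis p n →* _).range,
    Lib.FusionP3.GenExtra.isExtraspecial_congr e (Heis.isExtraspecial hp hn), ?_, ?_⟩
  · rw [← Nat.card_congr e.toEquiv, Heis.card_eq]
  · rintro _ ⟨a, rfl⟩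
    rw [← map_pow, Heis.pow_p hp, map_one]

end Cfsg.Agent.S3799
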