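import Cfsg.Statements.S3800
import Cfsg.Agent.Lib.Coprime.Conjugacy
import Cfsg.Agent.Lib.Coprime.Glauberman

set_option autoImplicit false
set_option linter.style.haveILetI false
open Cfsg

namespace Cfsg.Agent.S3800

open scoped Pointwise

variable {G : Type*} [Group G]

theorem exists_fix [Finite G] {p : ℕ} [Fact p.Prime] (N : Subgroup G) [N.Normal]
    (hN : (Nat.card N).Coprime p) (P : Subgroup G) (hP : IsPGroup p P) {x : G}
    (hx : QuotientGroup.mk' N x ∈
      Subgroup.normalizer ((P.map (QuotientGroup.mk' N)) : Set (G ⧸ N))) :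
    ∃ n ∈ N, n * x ∈ Subgroup.normalizer (P : Set G) := by
  have hmap : (MulAut.conj x • P).map (QuotientGroup.mk' N) = P.map (QuotientGroup.mk' N) := by
    rw [Lib.Coprime.map_conj_smul]
    exact Lib.Coprime.conj_smul_eq_self_of_mem_normalizer hx
  have hle : MulAut.conj x • P ≤ P ⊔ N := by
    have h1 := Subgroup.comap_map_eq (QuotientGroup.mk' N) P
    rw [QuotientGroup.ker_mk'] at h1
    rw [← h1, ← hmap]
    exact Subgroup.le_comap_map _ _
  have hcop : (Nat.card P).Coprime (Nat.card N) := by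
    obtain ⟨k, hk⟩ := IsPGroup.iff_card.1 hP
    rw [hk]
    exact hN.symm.pow_left k
  obtain ⟨n, hn, hnP⟩ := Lib.Coprime.exists_conj_eq_of_coprime (A := P) (B := MulAut.conj x • P)
    (K := N) (by rw [Subgroup.normalizer_eq_top]; exact le_top) hcop
    (Or.inl (Lib.Coprime.isSolvable_of_isPGroup hP)) hle (Lib.Coprime.card_conj_smul x P)
  refine ⟨n⁻¹, inv_mem hn, Lib.Coprime.mem_normalizer_of_conj_smul_eq ?_⟩
  rw [map_mul, mul_smul, ← hnP, ← mul_smul, ← map_mul, inv_mul_cancel, map_one, one_smul]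


/-- Let G be a finite group, N a normal subgroup of G whose order is prime to p, and P a p-subgroup of G. Then in G/N the normalizer of the image of P is the image of N_G(P), and the centralizer of the image of P is the image of C_G(P). -/
theorem result {G : Type*} [Group G] [Finite G] {p : ℕ} [Fact p.Prime] (N : Subgroup G) [N.Normal] (hN : (Nat.card N).Coprime p) (P : Subgroup G) (hP : IsPGroup p P) : Subgroup.normalizer ((P.map (QuotientGroup.mk' N)) : Set (G ⧸ N)) = (Subgroup.normalizer (P : Set G)).map (QuotientGroup.mk' N) ∧ Subgroup.centralizer ((P.map (QuotientGroup.mk' N)) : Set (G ⧸ N)) = (Subgroup.centralizer (P : Set G)).map (QuotientGroup.mk' N) := by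
  refine ⟨le_antisymm (fun y hy => ?_) (Subgroup.le_normalizer_map _),
    le_antisymm (fun y hy => ?_) ?_⟩
  · obtain ⟨x, rfl⟩ := QuotientGroup.mk'_surjective N y
    obtain ⟨n, hn, h⟩ := exists_fix N hN P hP hy
    exact ⟨n * x, h, by rw [map_mul, QuotientGroup.mk'_apply, (QuotientGroup.eq_one_iff n).2 hn, one_mul]⟩
  · obtain ⟨x, rfl⟩ := QuotientGroup.mk'_surjective N y
    obtain ⟨n, hn, h⟩ := exists_fix N hN P hP ((Subgroup.centralizer_le_normalizer _) hy)
    refine ⟨n * x, ?_, by rw [map_mul, QuotientGroup.mk'_apply, (QuotientGroup.eq_one_iff n).2 hn, one_mul]⟩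
    refine Subgroup.mem_centralizer_iff.2 fun a ha => ?_
    have h1 : n * x * a * (n * x)⁻¹ ∈ P := (Subgroup.mem_normalizer_iff.1 h a).1 ha
    have h2 : QuotientGroup.mk' N (n * x * a * (n * x)⁻¹) = QuotientGroup.mk' N a := by
      have h3 := Subgroup.mem_centralizer_iff.1 hy _ ⟨a, ha, rfl⟩
      simp only [map_mul, map_inv, QuotientGroup.mk'_apply] at h3 ⊢
      rw [(QuotientGroup.eq_one_iff n).2 hn, one_mul, ← h3, mul_inv_cancel_right]
    have h4 : (n * x * a * (n * x)⁻¹) * a⁻¹ ∈ P ⊓ N := by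
      refine ⟨P.mul_mem h1 (P.inv_mem ha), ?_⟩
      show _ ∈ N
      rw [← QuotientGroup.eq_one_iff, QuotientGroup.mk_mul, QuotientGroup.mk_inv]
      exact mul_inv_eq_one.2 h2
    have h5 : P ⊓ N = ⊥ := by
      refine Lib.Coprime.inf_eq_bot_of_coprime ?_
      obtain ⟨k, hk⟩ := IsPGroup.iff_card.1 hP
      rw [hk]
      exact hN.symm.pow_left k
    rw [h5, Subgroup.mem_bot, mul_inv_eq_one, mul_inv_eq_iff_eq_mul] at h4
    exact h4.symm
  · rintro _ ⟨x, hx, rfl⟩
    refine Subgroup.mem_centralizer_iff.2 ?_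
    rintro _ ⟨a, ha, rfl⟩
    rw [← map_mul, ← map_mul, Subgroup.mem_centralizer_iff.1 hx a ha]

end Cfsg.Agent.S3800
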