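import Cfsg.Statements.S3802
import Cfsg.Agent.Lib.Cores.Subnormal

set_option autoImplicit false
set_option linter.style.haveILetI false
open Cfsg

namespace Cfsg.Agent.S3802

open scoped Pointwise


/-- Let G be a finite group, M a maximal subgroup of G and N a subnormal subgroup of G contained in M. Then N is contained in every conjugate of M, that is, N lies in the core of M in G. -/
theorem result {G : Type*} [Group G] [Finite G] (M N : Subgroup G) (hM : IsCoatom M) (hN : N.IsSubnormal) (hNM : N ≤ M) :
    N ≤ Subgroup.normalCore M := by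
  set C := {g : G | MulAut.conj g • N ≤ M} with hC
  set K : Subgroup G := ⨆ g ∈ C, MulAut.conj g • N with hK
  have hKM : K ≤ M := iSup₂_le fun g hg => hg
  have hNK : N ≤ K := le_iSup₂_of_le (1 : G) (by simpa [hC] using hNM) (by simp)
  have hsn : ∀ s : Set G, (⨆ g ∈ s, MulAut.conj g • N).IsSubnormal := by
    intro s
    induction s, s.toFinite using Set.Finite.induction_on with
    | empty => simpa using Subgroup.IsSubnormal.bot
    | @insert a s _ _ ih =>
      rw [iSup_insert]
      exact Lib.Cores.Subnormal.sup (hN.smul _) ih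
  have hMK : ∀ m ∈ M, ∀ g ∈ C, m * g ∈ C := by
    intro m hm g hg
    show MulAut.conj (m * g) • N ≤ M
    rw [map_mul, mul_smul]
    rintro _ ⟨x, hx, rfl⟩
    exact M.mul_mem (M.mul_mem hm (hg hx)) (M.inv_mem hm)
  have hnorm : M ≤ Subgroup.normalizer (K : Set G) := by
    refine Lib.Cores.Subnormal.le_normalizer_iSup_conj _ ?_
    intro m hm g
    by_cases hg : g ∈ C
    · exact ⟨m * g, by simp [hg, hMK m hm g hg, mul_smul]⟩
    · exact ⟨g, by simp [hg]⟩
  by_cases hn : K.Normal
  · exact hNK.trans (Subgroup.normal_le_normalCore.2 hKM)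
  exfalso
  obtain ⟨c, hne, hle⟩ := Lib.Cores.Subnormal.exists_conj_le_normalizer (hsn C) hn
  have hNM' : Subgroup.normalizer (K : Set G) = M :=
    (hM.le_iff.1 hnorm).resolve_left fun h => hn (Subgroup.normalizer_eq_top_iff.1 h)
  rw [hNM'] at hle
  refine hne (Subgroup.eq_of_le_of_card_ge ?_
    (le_of_eq (Nat.card_congr (Subgroup.equivSMul (MulAut.conj c) K).toEquiv)))
  rw [Subgroup.pointwise_smul_subset_iff]
  refine iSup₂_le fun g hg => ?_
  rw [← Subgroup.pointwise_smul_subset_iff, ← mul_smul, ← map_mul]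
  refine le_iSup₂_of_le (c * g) ?_ le_rfl
  show MulAut.conj (c * g) • N ≤ M
  rw [map_mul, mul_smul]
  exact (Subgroup.pointwise_smul_le_pointwise_smul_iff.2 (le_iSup₂_of_le g hg le_rfl)).trans hle

end Cfsg.Agent.S3802
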