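import Cfsg.Statements.S3803
import Cfsg.Agent.Lib.PGroups.Frattini
import Cfsg.Agent.Lib.Coprime.Conjugacy

set_option autoImplicit false
set_option linter.style.haveILetI false
open Cfsg

namespace Cfsg.Agent.S3803

open scoped commutatorElement

universe u

theorem eq_one_of_pow_two {H : Type*} [Group H] {n m : ℕ} (hn : Odd n) {g : H} (h1 : g ^ n = 1)
    (h2 : g ^ (2 ^ m) = 1) : g = 1 :=
  orderOf_eq_one_iff.1 (Nat.eq_one_of_dvd_coprimes
    (Nat.Coprime.pow_right m (Nat.coprime_two_right.2 hn))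
    (orderOf_dvd_of_pow_eq_one h1) (orderOf_dvd_of_pow_eq_one h2))

theorem fix_of_fixed_diff {P : Type*} [Group P] [Finite P] (hP : IsPGroup 2 P) (σ : MulAut P) {n : ℕ}
    (hn : Odd n) (hσ : σ ^ n = 1) (x : P) (h : σ (x⁻¹ * σ x) = x⁻¹ * σ x) : σ x = x := by
  obtain ⟨d, hd⟩ : ∃ d, d = x⁻¹ * σ x := ⟨_, rfl⟩
  rw [← hd] at h
  have hx : σ x = x * d := by rw [hd, mul_inv_cancel_left]
  have key : ∀ j : ℕ, (σ ^ j) x = x * d ^ j := by
    intro j
    induction j with
    | zero => simp
    | succ j ih => rw [pow_succ', MulAut.mul_apply, ih, map_mul, map_pow, h, hx, pow_succ', mul_assoc]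
  have h1 : d ^ n = 1 := by
    have h' := key n
    rw [hσ, MulAut.one_apply] at h'
    exact left_eq_mul.1 h'
  obtain ⟨k, hk⟩ := hP d
  rw [hx, eq_one_of_pow_two hn h1 hk, mul_one]

theorem mulAut_cyclic {P : Type*} [Group P] [Finite P] [IsCyclic P] (hP : IsPGroup 2 P) (σ : MulAut P)
    {n : ℕ} (hn : Odd n) (hσ : σ ^ n = 1) : σ = 1 := by
  haveI : Finite (MulAut P) := Finite.of_injective (fun e : MulAut P => (e : P → P)) DFunLike.coe_injective
  haveI : Fact (Nat.Prime 2) := ⟨Nat.prime_two⟩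
  obtain ⟨k, hk⟩ := IsPGroup.iff_card.1 hP
  have h2 : σ ^ (2 ^ (k - 1)) = 1 := by
    rcases Nat.eq_zero_or_pos k with rfl | hk0
    · ext x
      haveI : Subsingleton P := (Nat.card_eq_one_iff_unique.1 (by simpa using hk)).1
      exact Subsingleton.elim _ _
    · have := pow_card_eq_one' (x := σ)
      rw [IsCyclic.card_mulAut, hk, Nat.totient_prime_pow Nat.prime_two hk0] at this
      simpa using this
  exact eq_one_of_pow_two hn hσ h2

theorem coatom_card {P : Type*} [Group P] [Finite P] (hP : IsPGroup 2 P) (M : Subgroup P)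
    (hM : IsCoatom M) : Nat.card M * 2 = Nat.card P := by
  haveI : Fact (Nat.Prime 2) := ⟨Nat.prime_two⟩
  obtain ⟨j, hj⟩ := IsPGroup.iff_card.1 (hP.to_subgroup M)
  obtain ⟨k, hk⟩ := IsPGroup.iff_card.1 hP
  have hlt : j < k := by
    by_contra hcon
    refine hM.1 (Subgroup.eq_top_of_le_card _ ?_)
    rw [hj, hk]
    exact Nat.pow_le_pow_right two_pos (not_lt.1 hcon)
  obtain ⟨K, hK, hMK⟩ := Sylow.exists_subgroup_card_pow_succ (p := 2) (n := j)
    (hk ▸ pow_dvd_pow 2 hlt) hj
  have hKtop : K = ⊤ := hM.2 K (lt_of_le_of_ne hMK fun he => by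
    rw [← he, hj] at hK
    exact absurd (Nat.pow_right_injective le_rfl hK) (by omega))
  rw [hKtop, Subgroup.card_top] at hK
  rw [hj, hK, pow_succ]

noncomputable def restr {P : Type*} [Group P] [Finite P] (σ : MulAut P) (M : Subgroup P) (hM : ∀ x ∈ M, σ x ∈ M) :
    MulAut M :=
  MulEquiv.ofBijective (MonoidHom.mk' (fun x : M => (⟨σ x, hM x x.2⟩ : M))
    (fun x y => Subtype.ext (map_mul σ (x : P) y)))
    (Finite.injective_iff_bijective.1 fun x y h => Subtype.ext (σ.injective (congrArg Subtype.val h)))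

theorem restr_pow {P : Type*} [Group P] [Finite P] (σ : MulAut P) (M : Subgroup P)
    (hM : ∀ x ∈ M, σ x ∈ M) (j : ℕ) (x : M) : (((restr σ M hM) ^ j) x : P) = (σ ^ j) x := by
  induction j with
  | zero => rfl
  | succ j ih =>
    rw [pow_succ', MulAut.mul_apply, pow_succ', MulAut.mul_apply, ← ih]
    rfl

theorem restr_pow_eq_one {P : Type*} [Group P] [Finite P] {σ : MulAut P} {n : ℕ} (hσ : σ ^ n = 1)
    (M : Subgroup P) (hM : ∀ x ∈ M, σ x ∈ M) : (restr σ M hM) ^ n = 1 := by
  refine MulEquiv.ext fun x => Subtype.ext ?_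
  rw [restr_pow, hσ]
  rfl

theorem frattini_inv {P : Type*} [Group P] (σ : MulAut P) : ∀ x ∈ frattini P, σ x ∈ frattini P :=
  fun x hx => frattini_le_comap_frattini_of_surjective (φ := σ.toMonoidHom) σ.surjective hx

theorem fix_of_diff_frattini {P : Type*} [Group P] [Finite P] (hP : IsPGroup 2 P) (σ : MulAut P)
    {n : ℕ} (hn : Odd n) (hσ : σ ^ n = 1) (h : ∀ x : P, x⁻¹ * σ x ∈ frattini P)
    (hfix : ∀ x ∈ frattini P, σ x = x) : ∀ x : P, σ x = x :=
  fun x => fix_of_fixed_diff hP σ hn hσ x (hfix _ (h x))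

theorem pow_four_aux {P : Type*} [Group P] {Φ : Subgroup P}
    (hcent : ∀ c ∈ Φ, ∀ g : P, c * g = g * c) (b c : P) (hb : b ^ 2 ∈ Φ) (hw : ⁅b, c⁆ ∈ Φ)
    (h : c ^ 2 * b ^ 2 = 1) : (c * b) ^ 4 = 1 := by
  obtain ⟨w, hwd⟩ : ∃ w, w = ⁅b, c⁆ := ⟨_, rfl⟩
  rw [← hwd] at hw
  have hbc : b * c = w * c * b := by rw [hwd, commutatorElement_def]; group
  have h2 : (c * b) ^ 2 = w := by
    calc (c * b) ^ 2 = c * (b * c) * b := by rw [pow_two]; simp only [mul_assoc]
      _ = c * (w * c * b) * b := by rw [hbc]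
      _ = (c * w) * (c * (b * b)) := by simp only [mul_assoc]
      _ = w * (c ^ 2 * b ^ 2) := by rw [← hcent w hw c, pow_two, pow_two]; simp only [mul_assoc]
      _ = w := by rw [h, mul_one]
  have hbc2 : b * b * c = c * (b * b) := by
    rw [← pow_two]; exact hcent _ hb c
  have h3 : b * (b * c) = w * w * c * b * b := by
    calc b * (b * c) = b * (w * c * b) := by rw [hbc]
      _ = (b * w) * (c * b) := by simp only [mul_assoc]
      _ = w * (b * c) * b := by rw [← hcent w hw b]; simp only [mul_assoc]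
      _ = w * (w * c * b) * b := by rw [hbc]
      _ = w * w * c * b * b := by simp only [mul_assoc]
  have h4 : w * w = 1 := by
    rw [← mul_assoc, hbc2, mul_assoc (w * w * c) b b, mul_assoc (w * w) c (b * b)] at h3
    exact right_eq_mul.1 h3
  rw [show (4 : ℕ) = 2 * 2 from rfl, pow_mul, h2, pow_two, h4]

theorem fix_of_trivial_mod_frattini {P : Type*} [Group P] [Finite P] (hP : IsPGroup 2 P) :
    ∀ (n : ℕ) (σ : MulAut P), Odd n → σ ^ n = 1 → (∀ x, x⁻¹ * σ x ∈ frattini P) → σ = 1 := by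
  intro n
  induction n using Nat.strong_induction_on with
  | _ n ih =>
  intro σ hn hσ h
  have hn0 : 0 < n := hn.pos
  rcases eq_or_ne n 1 with rfl | hn1
  · simpa using hσ
  obtain ⟨r, hr, l, rfl⟩ := Nat.exists_prime_and_dvd hn1
  have hr2 : r ≠ 2 := fun h2 => Nat.not_even_iff_odd.2 hn (by rw [h2]; exact ⟨l, two_mul l⟩)
  have hpowmem : ∀ (j : ℕ) (x : P), x⁻¹ * (σ ^ j) x ∈ frattini P := by
    intro j x
    induction j with
    | zero => simp
    | succ j ihj =>
      rw [pow_succ', MulAut.mul_apply]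
      have h1 := (frattini P).mul_mem ihj (h ((σ ^ j) x))
      simpa [mul_assoc] using h1
  have hσr : σ ^ r = 1 := ih l (lt_mul_of_one_lt_left (Nat.pos_of_mul_pos_left hn0) hr.one_lt) (σ ^ r)
    (hn.of_dvd_nat (Dvd.intro_left r rfl)) (by rw [← pow_mul, hσ]) (hpowmem r)
  haveI : Fact r.Prime := ⟨hr⟩
  haveI : Finite (MulAut P) := Finite.of_injective (fun e : MulAut P => (e : P → P)) DFunLike.coe_injective
  let C : Subgroup P := σ.toMonoidHom.eqLocus (MonoidHom.id P)
  refine MulEquiv.ext fun x₀ => ?_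
  suffices hC : C = ⊤ from (hC.ge (Subgroup.mem_top x₀) : σ x₀ = x₀)
  refine frattini_nongenerating ((Subgroup.eq_top_iff' _).2 fun x => ?_)
  let A := Subgroup.zpowers σ
  have hA : IsPGroup r A := fun ⟨τ, hτ⟩ => by
    obtain ⟨j, rfl⟩ := mem_powers_iff_mem_zpowers.2 hτ
    refine ⟨1, Subtype.ext ?_⟩
    show (σ ^ j) ^ (r ^ 1) = 1
    rw [pow_one, ← pow_mul, mul_comm, pow_mul, hσr, one_pow]
  have hAmem : ∀ τ : A, ∀ y : P, y⁻¹ * (τ : MulAut P) y ∈ frattini P := by
    rintro ⟨τ, hτ⟩ y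
    obtain ⟨j, rfl⟩ := mem_powers_iff_mem_zpowers.2 hτ
    exact hpowmem j y
  letI : MulAction A {y : P // x⁻¹ * y ∈ frattini P} :=
    { smul := fun τ y => ⟨(τ : MulAut P) y, by
        simpa [mul_assoc] using (frattini P).mul_mem y.2 (hAmem τ y)⟩
      one_smul := fun y => Subtype.ext rfl
      mul_smul := fun τ τ' y => Subtype.ext rfl }
  let e : {y : P // x⁻¹ * y ∈ frattini P} ≃ frattini P :=
    { toFun := fun y => ⟨x⁻¹ * y, y.2⟩
      invFun := fun z => ⟨x * z, by simp⟩
      left_inv := fun y => Subtype.ext (by simp)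
      right_inv := fun z => Subtype.ext (by simp) }
  obtain ⟨y, hy⟩ := hA.nonempty_fixed_point_of_prime_not_dvd_card
    {y : P // x⁻¹ * y ∈ frattini P} (by
      rw [Nat.card_congr e]
      obtain ⟨j, hj⟩ := IsPGroup.iff_card.1 (hP.to_subgroup (frattini P))
      rw [hj]
      intro hdvd
      exact hr2 ((Nat.prime_dvd_prime_iff_eq hr Nat.prime_two).1 (hr.dvd_of_dvd_pow hdvd)))
  have hyC : (y : P) ∈ C := congrArg Subtype.val (hy ⟨σ, Subgroup.mem_zpowers σ⟩)
  have h1 := mul_mem (Subgroup.mem_sup_left (T := frattini P) hyC)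
    (Subgroup.mem_sup_right (S := C) (inv_mem y.2))
  simpa using h1

theorem aux (m : ℕ) : ∀ (P : Type u) [Group P] [Finite P] (d : ℕ) (σ : MulAut P) (n : ℕ),
    Nat.card P = m → IsPGroup 2 P → Odd n → σ ^ n = 1 → 1 < d → d < Nat.card P →
    (∃ k, d = 2 ^ k) →
    (∀ E : Subgroup P, (Nat.card E = d ∨ (d = 2 ∧ Nat.card E = 4)) → ∀ x ∈ E, σ x ∈ E) →
    σ = 1 := by
  induction m using Nat.strong_induction_on with
  | _ m ih =>
  intro P _ _ d σ n hm hP hn hσ hd1 hd2 hdk hinv
  obtain ⟨k, rfl⟩ := hdk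
  haveI : Fact (Nat.Prime 2) := ⟨Nat.prime_two⟩
  obtain ⟨K, hK⟩ := IsPGroup.iff_card.1 hP
  have hkK : k < K := (Nat.pow_lt_pow_iff_right one_lt_two).1 (hK ▸ hd2)
  have big : ∀ M : Subgroup P, M ≠ ⊤ → (∀ x ∈ M, σ x ∈ M) → 2 ^ k < Nat.card M →
      ∀ x ∈ M, σ x = x := by
    intro M hM hMinv hlt x hx
    have h1 : restr σ M hMinv = 1 := by
      refine ih _ ?_ M (2 ^ k) _ n rfl (hP.to_subgroup M) hn (restr_pow_eq_one hσ M hMinv) hd1 hlt
        ⟨k, rfl⟩ fun E hE y hy => ?_
      · rw [← hm]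
        exact lt_of_le_of_ne (Subgroup.card_le_card_group M) fun he =>
          hM ((Subgroup.card_eq_iff_eq_top M).1 he)
      · have h2 : Nat.card (E.map M.subtype) = Nat.card E :=
          Subgroup.card_map_of_injective M.subtype_injective
        obtain ⟨z, hz, hzy⟩ := hinv (E.map M.subtype) (by rw [h2]; exact hE) _ ⟨y, hy, rfl⟩
        obtain rfl : z = restr σ M hMinv y := Subtype.ext hzy
        exact hz
    exact congrArg Subtype.val (DFunLike.congr_fun h1 ⟨x, hx⟩)
  refine MulEquiv.ext fun x₀ => ?_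
  show σ x₀ = x₀
  by_cases hD : Subgroup.closure (Set.range fun x : P => x⁻¹ * σ x) ≠ ⊤
  · obtain ⟨M, hM, hDM⟩ := (eq_top_or_exists_le_coatom _).resolve_left hD
    have hd : ∀ x, x⁻¹ * σ x ∈ M := fun x => hDM (Subgroup.subset_closure ⟨x, rfl⟩)
    have hMinv : ∀ x ∈ M, σ x ∈ M := fun x hx => by simpa using M.mul_mem hx (hd x)
    have hMc := coatom_card hP M hM
    rcases lt_or_ge (2 ^ k) (Nat.card M) with hlt | hge
    · exact fix_of_fixed_diff hP σ hn hσ x₀ (big M hM.1 hMinv hlt _ (hd x₀))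
    · have hk1 : k + 1 = K := by
        have h1 : (2:ℕ) ^ K ≤ 2 ^ (k + 1) := by rw [← hK, ← hMc, pow_succ]; omega
        have := (Nat.pow_le_pow_iff_right one_lt_two).1 h1
        omega
      have hall : ∀ x, x⁻¹ * σ x ∈ frattini P := by
        intro x
        refine Subgroup.mem_iInf.2 fun M' => Subgroup.mem_iInf.2 fun hM' => ?_
        have hc := coatom_card hP M' hM'
        have hcard : Nat.card M' = 2 ^ k := by
          rw [hK, ← hk1, pow_succ] at hc
          exact Nat.eq_of_mul_eq_mul_right two_pos hc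
        have hidx : M'.index = 2 :=
          Nat.eq_of_mul_eq_mul_left Nat.card_pos (M'.card_mul_index.trans hc.symm)
        rw [Subgroup.mul_mem_iff_of_index_two hidx, inv_mem_iff]
        refine ⟨hinv M' (Or.inl hcard) x, fun hx => ?_⟩
        have hinj : Function.Surjective (restr σ M' (hinv M' (Or.inl hcard))) := (restr σ M' _).surjective
        obtain ⟨⟨y, hy⟩, hyx⟩ := hinj ⟨σ x, hx⟩
        exact σ.injective (congrArg Subtype.val hyx : σ y = σ x) ▸ hy
      exact DFunLike.congr_fun (fix_of_trivial_mod_frattini hP n σ hn hσ hall) x₀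
  push Not at hD
  haveI hΦn : (frattini P).Normal := inferInstance
  have hab : ∀ a b : P ⧸ frattini P, a * b = b * a := fun a b => by
    obtain ⟨a, rfl⟩ := QuotientGroup.mk'_surjective _ a
    obtain ⟨b, rfl⟩ := QuotientGroup.mk'_surjective _ b
    rw [← map_mul, ← map_mul, QuotientGroup.mk'_apply, QuotientGroup.mk'_apply, QuotientGroup.eq]
    have h := Lib.PGroups.commutator_le_frattini hP (Subgroup.commutator_mem_commutator
      (Subgroup.mem_top b⁻¹) (Subgroup.mem_top a⁻¹))
    rw [commutatorElement_def, inv_inv, inv_inv] at h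
    simpa [mul_assoc] using h
  have hsq : ∀ x : P, x ^ 2 ∈ frattini P := fun x => Lib.PGroups.pow_mem_frattini hP x
  let σb : (P ⧸ frattini P) →* (P ⧸ frattini P) :=
    QuotientGroup.map _ _ σ.toMonoidHom (fun x hx => frattini_inv σ x hx)
  let δ : (P ⧸ frattini P) →* (P ⧸ frattini P) :=
    MonoidHom.mk' (fun y => y⁻¹ * σb y) fun a b => by
      rw [map_mul, mul_inv_rev, hab b⁻¹ a⁻¹]
      calc a⁻¹ * b⁻¹ * (σb a * σb b) = a⁻¹ * (b⁻¹ * σb a) * σb b := by group
        _ = a⁻¹ * σb a * (b⁻¹ * σb b) := by rw [hab b⁻¹ (σb a)]; group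
  have hδ : Function.Injective δ := by
    refine (Finite.injective_iff_surjective).2 ?_
    rw [← MonoidHom.range_eq_top, eq_top_iff,
      ← Subgroup.map_top_of_surjective _ (QuotientGroup.mk'_surjective (frattini P)), ← hD,
      MonoidHom.map_closure, Subgroup.closure_le]
    rintro _ ⟨_, ⟨x, rfl⟩, rfl⟩
    exact ⟨QuotientGroup.mk' _ x, rfl⟩
  have hfix : ∀ x : P, σ x * x⁻¹ ∈ frattini P → x ∈ frattini P := by
    intro x hx
    rw [← QuotientGroup.eq_one_iff]
    refine hδ ?_
    rw [map_one]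
    show (x : P ⧸ frattini P)⁻¹ * ((σ x : P) : P ⧸ frattini P) = 1
    rw [hab, ← QuotientGroup.mk_inv, ← QuotientGroup.mk_mul, QuotientGroup.eq_one_iff]
    exact hx
  have sub_eq : ∀ E : Subgroup P, E ⊔ frattini P = ⊤ → E = ⊤ := fun E h => frattini_nongenerating h
  have hsupinv : ∀ E : Subgroup P, (∀ x ∈ E, σ x ∈ E) →
      ∀ x ∈ E ⊔ frattini P, σ x ∈ E ⊔ frattini P := by
    intro E hE x hx
    have h1 : (E ⊔ frattini P).map σ.toMonoidHom ≤ E ⊔ frattini P := by
      rw [Subgroup.map_sup]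
      exact sup_le_sup (Subgroup.map_le_iff_le_comap.2 hE)
        (Subgroup.map_le_iff_le_comap.2 (frattini_inv σ))
    exact h1 ⟨x, hx, rfl⟩
  have upOne : ∀ (L : Subgroup (P ⧸ frattini P)) (y : P ⧸ frattini P), y ∉ L →
      Nat.card ↥(L ⊔ Subgroup.zpowers y) = 2 * Nat.card L := by
    intro L y hy
    have hy2 : y ^ 2 = 1 := by
      obtain ⟨x, rfl⟩ := QuotientGroup.mk'_surjective _ y
      rw [← map_pow]
      exact (QuotientGroup.eq_one_iff _).2 (hsq x)
    have hzc : Nat.card (Subgroup.zpowers y) = 2 := by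
      rw [Nat.card_zpowers]
      exact orderOf_eq_prime hy2 fun h => hy (h ▸ one_mem L)
    have hLn : L.Normal := ⟨fun a ha g => by rwa [hab g a, mul_inv_cancel_right]⟩
    have hd : Disjoint (Subgroup.zpowers y) L := by
      haveI : Fact (Nat.card (Subgroup.zpowers y)).Prime := ⟨hzc ▸ Nat.prime_two⟩
      rcases Subgroup.eq_bot_or_eq_top_of_prime_card (L.subgroupOf (Subgroup.zpowers y)) with h | h
      · rw [Subgroup.subgroupOf_eq_bot] at h
        exact h.symm
      · exact absurd ((Subgroup.subgroupOf_eq_top.1 h) (Subgroup.mem_zpowers y)) hy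
    rw [sup_comm, Lib.Coprime.card_sup_of_disjoint
      (by rw [Subgroup.normalizer_eq_top_iff.2 hLn]; exact le_top) hd, hzc]
  have key : ∀ E : Subgroup P, (Nat.card E = 2 ^ k ∨ (2 ^ k = 2 ∧ Nat.card E = 4)) → E ≠ ⊤ →
      E ≤ frattini P := by
    intro E hE hEtop e he
    have hEinv := hinv E hE
    rcases lt_or_ge (2 ^ k) (Nat.card ↥(E ⊔ frattini P)) with hlt | hge
    · refine hfix e ?_
      rw [big _ (fun h => hEtop (sub_eq E h)) (hsupinv E hEinv) hlt e (Subgroup.mem_sup_left he),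
        mul_inv_cancel]
      exact one_mem _
    have hEk : Nat.card E = 2 ^ k := hE.resolve_right fun h => by
      have := Subgroup.card_le_of_le (le_sup_left : E ≤ E ⊔ frattini P)
      omega
    have hsE : frattini P ≤ E :=
      (Subgroup.eq_of_le_of_card_ge (le_sup_left : E ≤ E ⊔ frattini P) (hEk ▸ hge)).ge.trans'
        le_sup_right
    let π := QuotientGroup.mk' (frattini P)
    have hcm : ∀ L : Subgroup (P ⧸ frattini P),
        Nat.card (L.comap π) = Nat.card L * Nat.card (frattini P) := by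
      intro L
      refine Nat.eq_of_mul_eq_mul_right (Nat.pos_of_ne_zero (Subgroup.FiniteIndex.index_ne_zero (H := L))) ?_
      conv_lhs => rw [← Subgroup.index_comap_of_surjective L (QuotientGroup.mk'_surjective _)]
      rw [Subgroup.card_mul_index, Subgroup.card_eq_card_quotient_mul_card_subgroup (frattini P),
        ← L.card_mul_index]
      ring
    have hEb : (E.map π).comap π = E := by
      rw [Subgroup.comap_map_eq, QuotientGroup.ker_mk', sup_eq_left]
      exact hsE
    have hdown : ∀ (i : ℕ) (L : Subgroup (P ⧸ frattini P)),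
        Nat.card L * 2 ^ i = Nat.card (E.map π) → ∀ y ∈ L, σb y ∈ L := by
      intro i
      induction i with
      | zero =>
        intro L hL y hy
        obtain ⟨x, rfl⟩ := QuotientGroup.mk'_surjective _ y
        refine (hinv (L.comap π) (Or.inl ?_) x hy : σ x ∈ L.comap π)
        rw [pow_zero, mul_one] at hL
        rw [hcm, hL, ← hcm, hEb, hEk]
      | succ i ihi =>
        intro L hL y hy
        have hlt : Nat.card L < Nat.card (E.map π) := by
          rw [← hL]
          exact lt_mul_of_one_lt_right Nat.card_pos (Nat.one_lt_two_pow (Nat.succ_ne_zero i))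
        obtain ⟨y₁, hy₁⟩ : ∃ y₁, y₁ ∉ L := by
          by_contra hcon
          push Not at hcon
          have h1 := Subgroup.card_le_card_group (E.map π)
          rw [(Subgroup.eq_top_iff' L).2 hcon, Subgroup.card_top] at hlt
          omega
        have hc1 := upOne L y₁ hy₁
        obtain ⟨y₂, hy₂⟩ : ∃ y₂, y₂ ∉ L ⊔ Subgroup.zpowers y₁ := by
          by_contra hcon
          push Not at hcon
          rw [(Subgroup.eq_top_iff' _).2 hcon, Subgroup.card_top] at hc1
          have h1 : Nat.card (P ⧸ frattini P) ≤ Nat.card (E.map π) := by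
            rw [hc1, ← hL, pow_succ]
            have := Nat.one_le_two_pow (n := i)
            nlinarith
          have h2 : E.map π = ⊤ := Subgroup.eq_top_of_le_card _ h1
          rw [h2, Subgroup.comap_top] at hEb
          exact hEtop hEb.symm
        have hy₂' : y₂ ∉ L := fun h => hy₂ (Subgroup.mem_sup_left h)
        have hc2 := upOne L y₂ hy₂'
        have e1 := ihi (L ⊔ Subgroup.zpowers y₁) (by rw [hc1, ← hL, pow_succ]; ring) y
          (Subgroup.mem_sup_left hy)
        have e2 := ihi (L ⊔ Subgroup.zpowers y₂) (by rw [hc2, ← hL, pow_succ]; ring) y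
          (Subgroup.mem_sup_left hy)
        have hinter : (L ⊔ Subgroup.zpowers y₁) ⊓ (L ⊔ Subgroup.zpowers y₂) = L := by
          refine (Subgroup.eq_of_le_of_card_ge (le_inf le_sup_left le_sup_left) ?_).symm
          obtain ⟨c, hc⟩ := Subgroup.card_dvd_of_le
            (inf_le_left : (L ⊔ Subgroup.zpowers y₁) ⊓ (L ⊔ Subgroup.zpowers y₂) ≤ L ⊔ Subgroup.zpowers y₁)
          rw [hc1] at hc
          rcases le_or_gt c 1 with hc' | hc'
          · exfalso
            interval_cases c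
            · have := Nat.card_pos (α := L)
              omega
            · refine hy₂ ?_
              have h1 := Subgroup.eq_of_le_of_card_ge
                (inf_le_left : (L ⊔ Subgroup.zpowers y₁) ⊓ (L ⊔ Subgroup.zpowers y₂) ≤ L ⊔ Subgroup.zpowers y₁)
                (by rw [hc1, hc, mul_one])
              have h3 : L ⊔ Subgroup.zpowers y₂ = L ⊔ Subgroup.zpowers y₁ :=
                (Subgroup.eq_of_le_of_card_ge (h1.ge.trans inf_le_right) (by rw [hc1, hc2])).symm
              rw [← h3]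
              exact Subgroup.mem_sup_right (Subgroup.mem_zpowers y₂)
          · nlinarith [Nat.card_pos (α := ↥((L ⊔ Subgroup.zpowers y₁) ⊓ (L ⊔ Subgroup.zpowers y₂)))]
        rw [← hinter]
        exact ⟨e1, e2⟩
    by_contra heΦ
    have hz : (QuotientGroup.mk' (frattini P) e) ≠ 1 := fun h => heΦ ((QuotientGroup.eq_one_iff e).1 h)
    have he2 : orderOf (QuotientGroup.mk' (frattini P) e) = 2 :=
      orderOf_eq_prime (by rw [← map_pow]; exact (QuotientGroup.eq_one_iff _).2 (hsq e)) hz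
    obtain ⟨c, hc⟩ := IsPGroup.iff_card.1 ((hP.to_quotient (frattini P)).to_subgroup (E.map π))
    have hc0 : c ≠ 0 := fun h0 => by
      rw [h0, pow_zero, Subgroup.card_eq_one] at hc
      refine hz ?_
      have : π e ∈ E.map π := ⟨e, he, rfl⟩
      rwa [hc, Subgroup.mem_bot] at this
    have h3 : σb (π e) ∈ Subgroup.zpowers (π e) := by
      refine hdown (c - 1) (Subgroup.zpowers (π e)) ?_ _ (Subgroup.mem_zpowers _)
      rw [Nat.card_zpowers, he2, ← pow_succ', hc]
      congr 1
      omega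
    obtain ⟨i, hi⟩ := h3
    simp only at hi
    rcases Int.even_or_odd i with ⟨j, rfl⟩ | ⟨j, rfl⟩
    · rw [← two_mul, zpow_mul, zpow_ofNat, ← he2, pow_orderOf_eq_one, one_zpow] at hi
      refine hz (hδ ?_)
      have h4 : (σ e : P) ∈ frattini P := (QuotientGroup.eq_one_iff (σ e)).1 hi.symm
      exfalso
      have h5 : (σ⁻¹) (σ e) ∈ frattini P := frattini_inv σ⁻¹ _ h4
      exact heΦ (by simpa using h5)
    · rw [zpow_add, zpow_mul, zpow_ofNat, ← he2, pow_orderOf_eq_one, one_zpow, one_mul, zpow_one] at hi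
      refine hz (hδ ?_)
      rw [map_one]
      show (π e)⁻¹ * σb (π e) = 1
      rw [← hi, inv_mul_cancel]
  -- the Frattini subgroup has order at least `2 ^ k`
  obtain ⟨E₀, hE₀⟩ := Sylow.exists_subgroup_card_pow_prime (G := P) 2 (n := k)
    (hK ▸ pow_dvd_pow 2 hkK.le)
  have hE₀top : ∀ E : Subgroup P, Nat.card E = 2 ^ k → E ≠ ⊤ := fun E hE h => by
    rw [h, Subgroup.card_top, hK] at hE
    exact hkK.ne' (Nat.pow_right_injective le_rfl hE)
  have hdΦ : 2 ^ k ≤ Nat.card (frattini P) :=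
    hE₀ ▸ Subgroup.card_le_of_le (key E₀ (Or.inl hE₀) (hE₀top E₀ hE₀))
  have hsmall : ∀ x : P, orderOf x ≤ 2 ^ k → x ∈ frattini P := by
    intro x hx
    obtain ⟨j, hj⟩ := IsPGroup.iff_orderOf.1 hP x
    rw [hj] at hx
    obtain ⟨E, hE, hxE⟩ := Sylow.exists_subgroup_card_pow_prime_le (p := 2) (n := j) (m := k)
      (hK ▸ pow_dvd_pow 2 hkK.le) (Subgroup.zpowers x) (by rw [Nat.card_zpowers, hj])
      ((Nat.pow_le_pow_iff_right one_lt_two).1 hx)
    exact key E (Or.inl hE) (hE₀top E hE) (hxE (Subgroup.mem_zpowers x))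
  have hΦtop : frattini P ≠ ⊤ := fun h => by
    have : (⊥ : Subgroup P) = ⊤ := sub_eq ⊥ (by rw [bot_sup_eq, h])
    rw [← Subgroup.card_top (G := P), ← this, Subgroup.card_bot] at hd2
    omega
  have hΦfix : ∀ x ∈ frattini P, σ x = x := by
    rcases lt_or_eq_of_le hdΦ with hlt | heq
    · exact big _ hΦtop (frattini_inv σ) hlt
    · obtain ⟨x, hx⟩ : ∃ x : P, x ∉ frattini P := by
        by_contra hcon
        push Not at hcon
        exact hΦtop ((Subgroup.eq_top_iff' _).2 hcon)
      obtain ⟨j, hj⟩ := IsPGroup.iff_orderOf.1 hP x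
      have hkj : k < j := by
        by_contra hcon
        exact hx (hsmall x (hj ▸ Nat.pow_le_pow_right two_pos (not_lt.1 hcon)))
      have hgen : Subgroup.zpowers (x ^ 2) = frattini P := by
        refine Subgroup.eq_of_le_of_card_ge (Subgroup.zpowers_le.2 (hsq x)) ?_
        rw [← heq, Nat.card_zpowers, orderOf_pow, hj,
          Nat.gcd_eq_right (dvd_pow_self 2 (by omega : j ≠ 0))]
        obtain ⟨i, rfl⟩ : ∃ i, j = i + 1 := ⟨j - 1, by omega⟩
        rw [pow_succ, Nat.mul_div_cancel _ two_pos]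
        exact Nat.pow_le_pow_right two_pos (by omega)
      haveI : IsCyclic (frattini P) := hgen ▸ inferInstance
      intro y hy
      have := mulAut_cyclic (hP.to_subgroup _) (restr σ _ (frattini_inv σ)) hn
        (restr_pow_eq_one hσ _ _)
      exact congrArg Subtype.val (DFunLike.congr_fun this ⟨y, hy⟩)
  have hcent : ∀ c ∈ frattini P, ∀ g : P, c * g = g * c := by
    intro c hc g
    have : g ∈ Subgroup.centralizer ({c} : Set P) := by
      have hle : Subgroup.closure (Set.range fun x : P => x⁻¹ * σ x) ≤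
          Subgroup.centralizer ({c} : Set P) := by
        rw [Subgroup.closure_le]
        rintro _ ⟨x, rfl⟩
        rw [SetLike.mem_coe, Subgroup.mem_centralizer_singleton_iff]
        have h1 := hΦfix _ (hΦn.conj_mem c hc x)
        rw [map_mul, map_mul, map_inv, hΦfix c hc] at h1
        calc x⁻¹ * σ x * c = x⁻¹ * (σ x * c * (σ x)⁻¹) * σ x := by group
          _ = c * (x⁻¹ * σ x) := by rw [h1]; group
      exact hle (hD ▸ Subgroup.mem_top g)
    exact (Subgroup.mem_centralizer_singleton_iff.1 this).symm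
  refine fix_of_diff_frattini hP σ hn hσ (fun x => ?_) hΦfix x₀
  have hu4 : (x⁻¹ * σ x) ^ 4 = 1 := by
    have h1 : (σ x) ^ 2 = x ^ 2 := by rw [← map_pow, hΦfix _ (hsq x)]
    have h2 := Lib.PGroups.commutator_le_frattini hP
      (Subgroup.commutator_mem_commutator (Subgroup.mem_top (σ x)) (Subgroup.mem_top x⁻¹))
    exact pow_four_aux hcent (σ x) x⁻¹ (hsq _) h2 (by rw [inv_pow, h1, inv_mul_cancel])
  have hdvd : orderOf (x⁻¹ * σ x) ∣ 2 ^ 2 := orderOf_dvd_of_pow_eq_one hu4
  rcases le_or_gt (orderOf (x⁻¹ * σ x)) (2 ^ k) with hle | hgt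
  · exact hsmall _ hle
  obtain ⟨i, hi2, hi⟩ := (Nat.dvd_prime_pow Nat.prime_two).1 hdvd
  have hki : k < i := (Nat.pow_lt_pow_iff_right one_lt_two).1 (hi ▸ hgt)
  have hk0 : k ≠ 0 := fun h => by simp [h] at hd1
  obtain ⟨rfl, rfl⟩ : k = 1 ∧ i = 2 := by omega
  by_cases htop : Subgroup.zpowers (x⁻¹ * σ x) = ⊤
  · haveI : IsCyclic P := ⟨⟨x⁻¹ * σ x, fun y => htop.ge (Subgroup.mem_top y)⟩⟩
    rw [mulAut_cyclic hP σ hn hσ, MulAut.one_apply, inv_mul_cancel]
    exact one_mem _
  · refine key (Subgroup.zpowers (x⁻¹ * σ x)) (Or.inr ⟨rfl, ?_⟩) htop (Subgroup.mem_zpowers _)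
    rw [Nat.card_zpowers, hi]
    rfl


/-- Let P be a 2-subgroup and A a subgroup of odd order of a finite group, with A normalizing P. Let D ≤ P with 1 < |D| < |P|. If every subgroup of P of order |D|, and also every subgroup of P of order 4 in case |D| = 2, is normalized by A, then A centralizes P. -/
theorem result {X : Type*} [Group X] [Finite X] (P A D : Subgroup X) (hP : IsPGroup 2 P) (hA : Odd (Nat.card A))
    (hAP : A ≤ Subgroup.normalizer (P : Set X)) (hDP : D ≤ P) (hD1 : 1 < Nat.card D) (hD2 : Nat.card D < Nat.card P)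
    (hinv : ∀ E : Subgroup X, E ≤ P → (Nat.card E = Nat.card D ∨ (Nat.card D = 2 ∧ Nat.card E = 4)) → A ≤ Subgroup.normalizer (E : Set X)) :
    A ≤ Subgroup.centralizer (P : Set X) := by
  intro a ha
  haveI : Fact (Nat.Prime 2) := ⟨Nat.prime_two⟩
  let N := Subgroup.normalizer (P : Set X)
  let σ : MulAut P :=
    { toFun := fun x => ⟨a * x * a⁻¹, (Subgroup.mem_normalizer_iff.1 (hAP ha) x).1 x.2⟩
      invFun := fun x => ⟨a⁻¹ * x * a, by
        have := (Subgroup.mem_normalizer_iff.1 (inv_mem (hAP ha)) x).1 x.2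
        rwa [inv_inv] at this⟩
      left_inv := fun x => Subtype.ext (by simp [mul_assoc])
      right_inv := fun x => Subtype.ext (by simp [mul_assoc])
      map_mul' := fun x y => Subtype.ext (by simp [mul_assoc]) }
  have hpow : ∀ (j : ℕ) (x : P), ((σ ^ j) x : X) = a ^ j * x * (a ^ j)⁻¹ := by
    intro j x
    induction j with
    | zero => simp
    | succ j ih =>
      rw [pow_succ', MulAut.mul_apply]
      show a * ((σ ^ j) x : X) * a⁻¹ = _
      rw [ih, pow_succ', mul_inv_rev]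
      simp [mul_assoc]
  obtain ⟨k, -, hk⟩ := (Nat.dvd_prime_pow Nat.prime_two).1
    ((IsPGroup.iff_card.1 hP).choose_spec ▸ Subgroup.card_dvd_of_le hDP)
  have hodd : Odd (orderOf a) := hA.of_dvd_nat (Subgroup.orderOf_dvd_natCard A ha)
  have h1 := aux _ P (Nat.card D) σ (orderOf a) rfl hP hodd
    (MulEquiv.ext fun x => Subtype.ext (by rw [hpow, pow_orderOf_eq_one]; simp))
    hD1 hD2 ⟨k, hk⟩ fun E hE x hx => by
      have hc : Nat.card (E.map P.subtype) = Nat.card E :=
        Subgroup.card_map_of_injective P.subtype_injective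
      have h := hinv (E.map P.subtype) (Subgroup.map_subtype_le E) (by rw [hc]; exact hE) ha
      obtain ⟨z, hz, hzx⟩ := (Subgroup.mem_normalizer_iff.1 h _).1 ⟨x, hx, rfl⟩
      obtain rfl : z = σ x := Subtype.ext hzx
      exact hz
  rw [Subgroup.mem_centralizer_iff]
  intro y hy
  have h2 : a * y * a⁻¹ = y := congrArg Subtype.val (DFunLike.congr_fun h1 ⟨y, hy⟩)
  exact (mul_inv_eq_iff_eq_mul.1 h2).symm

end Cfsg.Agent.S3803
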