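import Cfsg.Statements.S3804
import Mathlib
-- import your own Cfsg.Agent.* helpers here

set_option autoImplicit false
open Cfsg

namespace Cfsg.Agent.S3804

open Subgroup

/-- The product formula as an inequality, with its case of equality. -/
theorem card_mul_le {X : Type*} [Group X] [Finite X] (A B J : Subgroup X) (hA : A ≤ J) (hB : B ≤ J) :
    Nat.card A * Nat.card B ≤ Nat.card J * Nat.card ↥(A ⊓ B) ∧
      (Nat.card A * Nat.card B = Nat.card J * Nat.card ↥(A ⊓ B) →
        ∀ j ∈ J, ∃ a ∈ A, ∃ b ∈ B, j = a * b) := by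
  have h1 : Nat.card A = Nat.card ↥(A ⊓ B) * B.relIndex A := by
    rw [← inf_relIndex_left A B, ← relIndex_bot_left A, ← relIndex_bot_left (A ⊓ B),
      relIndex_mul_relIndex _ _ _ bot_le inf_le_left]
  have h2 : Nat.card J = Nat.card B * B.relIndex J := by
    rw [← relIndex_bot_left J, ← relIndex_bot_left B, relIndex_mul_relIndex _ _ _ bot_le hB]
  let f : A ⧸ B.subgroupOf A → J ⧸ B.subgroupOf J :=
    Quotient.map' (inclusion hA) fun a b hab => by
      rw [QuotientGroup.leftRel_apply] at hab ⊢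
      exact hab
  have hf : Function.Injective f := by
    intro a b hab
    induction a using QuotientGroup.induction_on with | H a => ?_
    induction b using QuotientGroup.induction_on with | H b => ?_
    exact QuotientGroup.eq.mpr (QuotientGroup.eq.mp hab :)
  have hle : B.relIndex A ≤ B.relIndex J := Nat.card_le_card_of_injective f hf
  constructor
  · rw [h1, h2]
    calc Nat.card ↥(A ⊓ B) * B.relIndex A * Nat.card B
        ≤ Nat.card ↥(A ⊓ B) * B.relIndex J * Nat.card B := by gcongr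
      _ = _ := by ring
  · intro heq j hj
    have hidx : B.relIndex A = B.relIndex J := by
      rw [h1, h2] at heq
      refine Nat.eq_of_mul_eq_mul_left (Nat.mul_pos (Nat.card_pos (α := ↥(A ⊓ B))) (Nat.card_pos (α := B))) ?_
      rw [mul_right_comm] at heq
      rw [heq]; ring
    obtain ⟨a, ha⟩ := ((Nat.bijective_iff_injective_and_card f).mpr ⟨hf, hidx⟩).2 (⟨j, hj⟩ : J)
    induction a using QuotientGroup.induction_on with | H a => ?_
    exact ⟨a, a.2, (a : X)⁻¹ * j, (QuotientGroup.eq.mp ha :), by group⟩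

/-- The measure. -/
noncomputable def meas {X : Type*} [Group X] (H : Subgroup X) (α : ℝ) (A : Subgroup X) : ℝ :=
  ((Nat.card A : ℝ) ^ α) * (Nat.card ↥(H ⊓ centralizer (A : Set X)) : ℝ)

/-- Let G and H be subgroups of a finite group with G normalizing H, fix a real number α > 0, and for a subgroup A of G put m(A) = |A|^α · |C_H(A)|. Let A and B be nontrivial subgroups of G at which m attains its maximum over all nontrivial subgroups of G, and assume that A ∩ B ≠ 1 or that this maximum is at least |H|. Then AB = BA is a subgroup at which m is again maximal, C_H(A ∩ B) = C_H(A) C_H(B), and if A ∩ B ≠ 1 then m is maximal at A ∩ B as well. -/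
theorem result {X : Type*} [Group X] [Finite X] (G H : Subgroup X) (hGH : G ≤ Subgroup.normalizer (H : Set X)) (α : ℝ) (hα : 0 < α)
    (A B : Subgroup X) (hA : A ≤ G) (hB : B ≤ G) (hA1 : A ≠ ⊥) (hB1 : B ≠ ⊥)
    (hAmax : ∀ A' : Subgroup X, A' ≤ G → A' ≠ ⊥ → (fun A : Subgroup X => ((Nat.card A : ℝ) ^ α) * (Nat.card ↥(H ⊓ Subgroup.centralizer (A : Set X)) : ℝ)) A' ≤ (fun A : Subgroup X => ((Nat.card A : ℝ) ^ α) * (Nat.card ↥(H ⊓ Subgroup.centralizer (A : Set X)) : ℝ)) A)
    (hBmax : ∀ A' : Subgroup X, A' ≤ G → A' ≠ ⊥ → (fun A : Subgroup X => ((Nat.card A : ℝ) ^ α) * (Nat.card ↥(H ⊓ Subgroup.centralizer (A : Set X)) : ℝ)) A' ≤ (fun A : Subgroup X => ((Nat.card A : ℝ) ^ α) * (Nat.card ↥(H ⊓ Subgroup.centralizer (A : Set X)) : ℝ)) B)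
    (hcase : A ⊓ B ≠ ⊥ ∨ (Nat.card H : ℝ) ≤ (fun A : Subgroup X => ((Nat.card A : ℝ) ^ α) * (Nat.card ↥(H ⊓ Subgroup.centralizer (A : Set X)) : ℝ)) A) :
    (∀ a ∈ A, ∀ b ∈ B, ∃ b' ∈ B, ∃ a' ∈ A, a * b = b' * a') ∧
    (∀ A' : Subgroup X, A' ≤ G → A' ≠ ⊥ → (fun A : Subgroup X => ((Nat.card A : ℝ) ^ α) * (Nat.card ↥(H ⊓ Subgroup.centralizer (A : Set X)) : ℝ)) A' ≤ (fun A : Subgroup X => ((Nat.card A : ℝ) ^ α) * (Nat.card ↥(H ⊓ Subgroup.centralizer (A : Set X)) : ℝ)) (A ⊔ B)) ∧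
    (∀ h ∈ H ⊓ Subgroup.centralizer ((A ⊓ B : Subgroup X) : Set X), ∃ u ∈ H ⊓ Subgroup.centralizer (A : Set X), ∃ v ∈ H ⊓ Subgroup.centralizer (B : Set X), h = u * v) ∧
    (A ⊓ B ≠ ⊥ → ∀ A' : Subgroup X, A' ≤ G → A' ≠ ⊥ → (fun A : Subgroup X => ((Nat.card A : ℝ) ^ α) * (Nat.card ↥(H ⊓ Subgroup.centralizer (A : Set X)) : ℝ)) A' ≤ (fun A : Subgroup X => ((Nat.card A : ℝ) ^ α) * (Nat.card ↥(H ⊓ Subgroup.centralizer (A : Set X)) : ℝ)) (A ⊓ B)) := by
  change (∀ A' : Subgroup X, A' ≤ G → A' ≠ ⊥ → meas H α A' ≤ meas H α A) at hAmax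
  change (∀ A' : Subgroup X, A' ≤ G → A' ≠ ⊥ → meas H α A' ≤ meas H α B) at hBmax
  set CA := H ⊓ centralizer (A : Set X)
  set CB := H ⊓ centralizer (B : Set X)
  set J := A ⊔ B with hJ
  set I := A ⊓ B with hI
  set CJ := H ⊓ centralizer (J : Set X)
  set CI := H ⊓ centralizer (I : Set X)
  have hM : meas H α A = meas H α B := le_antisymm (hBmax A hA hA1) (hAmax B hB hB1)
  have hcap : CA ⊓ CB ≤ CJ := by
    intro x hx
    refine mem_inf.mpr ⟨hx.1.1, ?_⟩
    have : J ≤ centralizer ({x} : Set X) := by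
      refine sup_le ?_ ?_
      · intro a ha
        exact mem_centralizer_singleton_iff.mpr (mem_centralizer_iff.mp hx.1.2 a ha)
      · intro a ha
        exact mem_centralizer_singleton_iff.mpr (mem_centralizer_iff.mp hx.2.2 a ha)
    exact mem_centralizer_iff.mpr fun j hj => mem_centralizer_singleton_iff.mp (this hj)
  have hCA : CA ≤ CI := inf_le_inf_left H (centralizer_le (show (I : Set X) ⊆ A from fun _ h => h.1))
  have hCB : CB ≤ CI := inf_le_inf_left H (centralizer_le (show (I : Set X) ⊆ B from fun _ h => h.2))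
  obtain ⟨hp1, he1⟩ := card_mul_le A B J le_sup_left le_sup_right
  obtain ⟨hp2, he2⟩ := card_mul_le CA CB CI hCA hCB
  have hp2' : Nat.card CA * Nat.card CB ≤ Nat.card CI * Nat.card CJ :=
    hp2.trans (Nat.mul_le_mul_left _ (Nat.le_of_dvd Nat.card_pos (card_dvd_of_le hcap)))
  have hJM : meas H α J ≤ meas H α A := hAmax J (sup_le hA hB) (ne_bot_of_le_ne_bot hA1 le_sup_left)
  have hIM : meas H α I ≤ meas H α A := by
    by_cases hbot : I = ⊥
    · have hH := hcase.resolve_left (fun h => h hbot)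
      refine le_trans (le_of_eq ?_) hH
      show ((Nat.card I : ℝ) ^ α) * (Nat.card ↥(H ⊓ centralizer (I : Set X)) : ℝ) = _
      rw [hbot]
      have : H ⊓ centralizer (((⊥ : Subgroup X)) : Set X) = H :=
        inf_eq_left.mpr fun h _ => mem_centralizer_iff.mpr fun g hg => by
          rw [mem_bot.mp hg, one_mul, mul_one]
      rw [this, card_bot, Nat.cast_one, Real.one_rpow, one_mul]
    · exact hAmax I (inf_le_left.trans hA) hbot
  have hpos : ∀ S : Subgroup X, (0 : ℝ) < (Nat.card S : ℝ) ^ α := fun S =>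
    Real.rpow_pos_of_pos (by exact_mod_cast Nat.card_pos) α
  have hm : ∀ S : Subgroup X, (0 : ℝ) < meas H α S := fun S =>
    mul_pos (hpos S) (by exact_mod_cast Nat.card_pos)
  have a1 : ((Nat.card A * Nat.card B : ℕ) : ℝ) ^ α ≤ ((Nat.card J * Nat.card I : ℕ) : ℝ) ^ α :=
    Real.rpow_le_rpow (Nat.cast_nonneg _) (by exact_mod_cast hp1) hα.le
  have a2 : ((Nat.card CA * Nat.card CB : ℕ) : ℝ) ≤ ((Nat.card CI * Nat.card CJ : ℕ) : ℝ) := by
    exact_mod_cast hp2'
  have eL : meas H α A * meas H α B =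
      ((Nat.card A * Nat.card B : ℕ) : ℝ) ^ α * ((Nat.card CA * Nat.card CB : ℕ) : ℝ) := by
    rw [Nat.cast_mul, Nat.cast_mul, Real.mul_rpow (Nat.cast_nonneg _) (Nat.cast_nonneg _)]
    simp only [meas, CA, CB]; ring
  have eR : meas H α J * meas H α I =
      ((Nat.card J * Nat.card I : ℕ) : ℝ) ^ α * ((Nat.card CI * Nat.card CJ : ℕ) : ℝ) := by
    rw [Nat.cast_mul, Nat.cast_mul, Real.mul_rpow (Nat.cast_nonneg _) (Nat.cast_nonneg _)]
    simp only [meas, CI, CJ]; ring
  have hup : meas H α J * meas H α I ≤ meas H α A * meas H α B := by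
    rw [← hM]; exact mul_le_mul hJM hIM (hm I).le (hm A).le
  have hlo : meas H α A * meas H α B ≤ meas H α J * meas H α I := by
    rw [eL, eR]
    exact mul_le_mul a1 a2 (Nat.cast_nonneg _) (Real.rpow_nonneg (Nat.cast_nonneg _) _)
  have heq := le_antisymm hup hlo
  have hJeq : meas H α J = meas H α A := le_antisymm hJM (by
    have := mul_le_mul_of_nonneg_left hIM (hm J).le
    rw [heq, ← hM] at this
    exact le_of_mul_le_mul_right this (hm A))
  have hIeq : meas H α I = meas H α A := by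
    rw [hJeq, ← hM] at heq
    exact mul_left_cancel₀ (hm A).ne' heq
  have hpA : (0 : ℝ) < ((Nat.card A * Nat.card B : ℕ) : ℝ) ^ α := Real.rpow_pos_of_pos
    (by exact_mod_cast Nat.mul_pos (Nat.card_pos (α := A)) (Nat.card_pos (α := B))) α
  have hpC : (0 : ℝ) < ((Nat.card CI * Nat.card CJ : ℕ) : ℝ) := by
    exact_mod_cast Nat.mul_pos (Nat.card_pos (α := CI)) (Nat.card_pos (α := CJ))
  have hab : Nat.card A * Nat.card B = Nat.card J * Nat.card I ∧
      Nat.card CA * Nat.card CB = Nat.card CI * Nat.card CJ := by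
    rw [eR, eL] at heq
    constructor
    · refine le_antisymm hp1 (not_lt.mp fun hlt => ?_)
      have := Real.rpow_lt_rpow (Nat.cast_nonneg _) (Nat.cast_lt (α := ℝ).mpr hlt) hα
      nlinarith
    · refine le_antisymm hp2' (not_lt.mp fun hlt => ?_)
      have := Nat.cast_lt (α := ℝ).mpr hlt
      nlinarith
  obtain ⟨h1, h2⟩ := hab
  refine ⟨fun a ha b hb => ?_, ?_, ?_, ?_⟩
  · obtain ⟨a', ha', b', hb', he⟩ := he1 h1 (a * b)⁻¹
      (inv_mem (mul_mem (mem_sup_left ha) (mem_sup_right hb)))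
    refine ⟨b'⁻¹, inv_mem hb', a'⁻¹, inv_mem ha', ?_⟩
    rw [← mul_inv_rev, ← he, inv_inv]
  · intro A' h1' h2'
    exact (hAmax A' h1' h2').trans hJeq.ge
  · refine he2 (le_antisymm hp2 ?_)
    rw [h2]
    exact Nat.mul_le_mul_left _ (Nat.le_of_dvd Nat.card_pos (card_dvd_of_le hcap))
  · intro _ A' h1' h2'
    exact (hAmax A' h1' h2').trans hIeq.ge

end Cfsg.Agent.S3804
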