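import Cfsg.Statements.S3806
import Cfsg.Agent.Lib.MaxClass.Rank

set_option autoImplicit false
set_option linter.style.haveILetI false
open Cfsg

namespace Cfsg.Agent.S3806

open scoped commutatorElement

/-- Let p be a prime and S a finite p-group of order pⁿ (n ≥ 2) of maximal nilpotency class n − 1 whose sectional p-rank is exactly k (every section has p-rank at most k, and some section has p-rank k). If p ≥ k + 2 then the order of S is at most p^(2k). -/
theorem result {S : Type*} [Group S] [Finite S] (p : ℕ) [Fact p.Prime] (hS : IsPGroup p S) [Group.IsNilpotent S]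
    (n : ℕ) (hn : 2 ≤ n) (hcard : Nat.card S = p ^ n) (hmax : Group.nilpotencyClass S = n - 1)
    (k : ℕ) (hk : 1 ≤ k) (hsr : Cfsg.SectionalPRankLE p k S ∧ ¬ Cfsg.SectionalPRankLE p (k - 1) S)
    (hpk : k + 2 ≤ p) : Nat.card S ≤ p ^ (2 * k) := by
  by_contra hlt
  push Not at hlt
  have hp := (Fact.out : p.Prime)
  rw [hcard, Nat.pow_lt_pow_iff_right hp.one_lt] at hlt
  have hp3 : 3 ≤ p := by omega
  have key : ∀ (H : Subgroup S) (N : Subgroup H) [N.Normal], (∀ a b : H, ⁅a, b⁆ ∈ N) →
      (∀ a : H, a ^ p ∈ N) → N.index ≤ p ^ k := by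
    intro H N _ hab hpow
    have hcomm : IsMulCommutative (⊤ : Subgroup (H ⧸ N)) := ⟨⟨by
      rintro ⟨a, -⟩ ⟨b, -⟩
      induction a using QuotientGroup.induction_on with | H a => ?_
      induction b using QuotientGroup.induction_on with | H b => ?_
      refine Subtype.ext ?_
      show (QuotientGroup.mk' N a) * QuotientGroup.mk' N b = QuotientGroup.mk' N b * QuotientGroup.mk' N a
      rw [← commutatorElement_eq_one_iff_mul_comm, ← map_commutatorElement]
      exact (QuotientGroup.eq_one_iff _).2 (hab a b)⟩⟩
    have h1 := hsr.1 H N ⊤ hcomm fun a _ => by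
      induction a using QuotientGroup.induction_on with | H a => ?_
      rw [← QuotientGroup.mk_pow]
      exact (QuotientGroup.eq_one_iff _).2 (hpow a)
    rwa [Subgroup.card_top, ← Subgroup.index_eq_card] at h1
  rcases Nat.lt_or_ge k 2 with hk2 | hk2
  · have hk1 : k = 1 := by omega
    subst hk1
    have hidx : (commutator S).index = p ^ 2 :=
      Cfsg.Agent.Lib.PGroups.index_commutator_of_class n hn hcard hmax
    have hle : frattini S ≤ commutator S := by
      refine Cfsg.Agent.Lib.PGroups.frattini_le_of_pow_commutator (p := p) _ (fun x => ?_) le_rfl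
      by_contra hx
      -- otherwise the derived factor group would be cyclic
      set π := QuotientGroup.mk' (commutator S) with hπ
      have hcard2 : Nat.card (S ⧸ commutator S) = p ^ 2 := by rw [← Subgroup.index_eq_card, hidx]
      have hord : orderOf (π x) = p ^ 2 := by
        refine orderOf_eq_prime_pow (n := 1) ?_ ?_
        · rw [pow_one, ← map_pow]
          exact fun h1 => hx ((QuotientGroup.eq_one_iff _).1 h1)
        · rw [show p ^ (1 + 1) = Nat.card (S ⧸ commutator S) from hcard2.symm]
          exact pow_card_eq_one'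
      have hcyc : IsCyclic (S ⧸ commutator S) := isCyclic_of_orderOf_eq_card (π x) (hord.trans hcard2.symm)
      have hS' : IsCyclic S := Cfsg.Agent.Lib.PGroups.isCyclic_of_quotient_le_frattini (commutator S)
        (Cfsg.Agent.Lib.PGroups.commutator_le_frattini hS)
      have := Cfsg.Agent.Lib.PGroups.nilpotencyClass_le_one_of_comm (X := S) inferInstance
      omega
    have hF : (frattini S).index ≤ p := by
      have := key ⊤ ((frattini S).subgroupOf ⊤)
        (fun a b => Cfsg.Agent.Lib.PGroups.commutatorElement_mem_frattini hS (a : S) (b : S))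
        (fun a => Cfsg.Agent.Lib.PGroups.pow_mem_frattini hS (a : S))
      rwa [show ((frattini S).subgroupOf ⊤).index = (frattini S).index from (frattini S).relIndex_top_right,
        pow_one] at this
    have h2 := Nat.le_of_dvd (Nat.pos_of_ne_zero Subgroup.index_ne_zero_of_finite)
      (Subgroup.index_dvd_of_le hle)
    rw [hidx] at h2
    have h3 : p ^ 2 ≤ p ^ 1 := by simpa using h2.trans hF
    rw [Nat.pow_le_pow_iff_right hp.one_lt] at h3
    omega
  · have hMC : Cfsg.Agent.Lib.MaxClass.MC p n S :=
      Cfsg.Agent.Lib.MaxClass.MC.of_class (by omega) hcard hmax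
    obtain ⟨hpw, hab⟩ := hMC.section_elemAb hp3 hk2 hpk (by omega)
    have := key (Cfsg.Agent.Lib.MaxClass.P S k)
      ((Cfsg.Agent.Lib.MaxClass.P S (2 * k + 1)).subgroupOf _)
      (fun a b => hab _ a.2 _ b.2) (fun a => hpw _ a.2)
    have h1 := ((Cfsg.Agent.Lib.MaxClass.P S (2 * k + 1)).subgroupOf
      (Cfsg.Agent.Lib.MaxClass.P S k)).card_mul_index
    rw [Nat.card_congr (Subgroup.subgroupOfEquivOfLe (Cfsg.Agent.Lib.MaxClass.P_anti (by omega))).toEquiv,
      hMC.card_P (by omega) (by omega), hMC.card_P (by omega) (by omega)] at h1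
    have h2 : p ^ (n - k) ≤ p ^ (n - (2 * k + 1)) * p ^ k := h1 ▸ Nat.mul_le_mul_left _ this
    rw [← pow_add, Nat.pow_le_pow_iff_right hp.one_lt] at h2
    omega

end Cfsg.Agent.S3806
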