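import Cfsg.Statements.S3807
import Mathlib
-- import your own Cfsg.Agent.* helpers here

set_option autoImplicit false
set_option linter.style.haveILetI false
open Cfsg

namespace Cfsg.Agent.S3807

open Subgroup
open scoped commutatorElement

/-- A group of order `p²` and exponent `p` has `p + 1` subgroups of order `p`. -/
theorem card_order_p {Q : Type*} [Group Q] [Finite Q] (p : ℕ) [Fact p.Prime]
    (hQ : Nat.card Q = p ^ 2) (hexp : ∀ q : Q, q ^ p = 1) :
    Nat.card {L : Subgroup Q // Nat.card L = p} = p + 1 := by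
  classical
  let T := {L : Subgroup Q // Nat.card L = p}
  have : Fintype T := Fintype.ofFinite T
  let f : (Σ L : T, {q : L.1 // q ≠ 1}) → {q : Q // q ≠ 1} :=
    fun x => ⟨(x.2.1 : Q), fun h => x.2.2 (Subtype.ext h)⟩
  have hgen : ∀ (L : T) (q : Q), q ∈ L.1 → q ≠ 1 → zpowers q = L.1 := fun L q hq hq1 => by
    refine eq_of_le_of_card_ge (zpowers_le.mpr hq) ?_
    rw [L.2, Nat.card_zpowers, orderOf_eq_prime (hexp q) hq1]
  have hf : Function.Bijective f := by
    constructor
    · rintro ⟨L, ⟨q, hq⟩, hq1⟩ ⟨L', ⟨q', hq'⟩, hq1'⟩ h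
      obtain rfl : q = q' := congrArg Subtype.val h
      have h1 : q ≠ 1 := fun h => hq1 (Subtype.ext h)
      obtain rfl : L = L' := Subtype.ext ((hgen L q hq h1).symm.trans (hgen L' q hq' h1))
      rfl
    · rintro ⟨q, hq⟩
      exact ⟨⟨⟨zpowers q, by rw [Nat.card_zpowers, orderOf_eq_prime (hexp q) hq]⟩,
        ⟨q, mem_zpowers q⟩, fun h => hq (congrArg Subtype.val h)⟩, rfl⟩
  have hne : ∀ (X : Type _) [Finite X] (x : X), Nat.card {q : X // q ≠ x} = Nat.card X - 1 := by
    intro X _ x
    have : Fintype X := Fintype.ofFinite X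
    simp only [Nat.card_eq_fintype_card, ne_eq, Fintype.card_subtype_compl, Fintype.card_subtype_eq]
  have h := Nat.card_congr (Equiv.ofBijective f hf)
  rw [Nat.card_sigma, hne] at h
  simp only [hne _ (1 : _), fun L : T => L.2, Finset.sum_const, Finset.card_univ, smul_eq_mul] at h
  rw [← Nat.card_eq_fintype_card, hQ, show p ^ 2 - 1 = (p + 1) * (p - 1) from Nat.sq_sub_sq p 1] at h
  exact Nat.eq_of_mul_eq_mul_right (by have := (Fact.out : p.Prime).two_le; omega) h

/-- Let S be a non-abelian finite p-group with an abelian subgroup A of index p. Then [S : Z(S)] = p·#[S,S], and either [S,S] has order p, S/Z(S) is elementary abelian of order p², and S has exactly p + 1 abelian subgroups of index p; or [S,S] has order at least p² and A is the only abelian subgroup of index p in S. -/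
theorem result {S : Type*} [Group S] [Finite S] (p : ℕ) [Fact p.Prime] (hS : IsPGroup p S) (hna : ¬ IsMulCommutative S)
    (A : Subgroup S) (hA : IsMulCommutative ↥A) (hAi : A.index = p) :
    (Subgroup.center S).index = p * Nat.card (commutator S) ∧
      ((Nat.card (commutator S) = p ∧ Cfsg.IsElementaryAbelian p (⊤ : Subgroup (S ⧸ Subgroup.center S)) ∧
          Nat.card (S ⧸ Subgroup.center S) = p ^ 2 ∧
          Nat.card {B : Subgroup S // IsMulCommutative ↥B ∧ B.index = p} = p + 1) ∨
        (p ^ 2 ≤ Nat.card (commutator S) ∧ ∀ B : Subgroup S, IsMulCommutative ↥B → B.index = p → B = A)) := by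
  have hp := (Fact.out : p.Prime)
  have hmax : ∀ B : Subgroup S, B.index = p → ∀ K : Subgroup S, B ≤ K → K = B ∨ K = ⊤ := by
    intro B hB K hK
    rcases (Nat.dvd_prime hp).mp (hB ▸ index_dvd_of_le hK) with h | h
    · exact Or.inr (index_eq_one.mp h)
    · refine Or.inl (eq_of_le_of_card_ge hK ?_).symm
      have h1 := K.card_mul_index
      have h2 := B.card_mul_index
      rw [h] at h1; rw [hB, ← h1] at h2
      exact (Nat.eq_of_mul_eq_mul_right hp.pos h2).ge
  have habel : ∀ (B : Subgroup S), IsMulCommutative B → ∀ z : S, z ∈ centralizer (B : Set S) →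
      B.index = p → z ∈ B := by
    intro B hB z hz hi
    rcases hmax B hi (B ⊔ zpowers z) le_sup_left with h | h
    · exact h ▸ mem_sup_right (mem_zpowers z)
    · exfalso
      have hz' : ∀ x : S, x ∈ centralizer ({z} : Set S) := by
        intro x
        have : B ⊔ zpowers z ≤ centralizer ({z} : Set S) := sup_le
          (fun b hb => mem_centralizer_singleton_iff.mpr (mem_centralizer_iff.mp hz b hb))
          (zpowers_le.mpr (mem_centralizer_singleton_iff.mpr rfl))
        exact this (h ▸ mem_top x)
      have hBC : B ⊔ zpowers z ≤ centralizer (B : Set S) := sup_le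
        (fun b hb => mem_centralizer_iff.mpr fun b' hb' =>
          congrArg Subtype.val (hB.is_comm.comm (⟨b', hb'⟩ : B) ⟨b, hb⟩))
        (zpowers_le.mpr hz)
      refine hna ⟨⟨fun x y => ?_⟩⟩
      have hy : B ⊔ zpowers z ≤ centralizer ({y} : Set S) := sup_le
        (fun b hb => mem_centralizer_singleton_iff.mpr
          (mem_centralizer_iff.mp (hBC (h ▸ mem_top y)) b hb))
        (zpowers_le.mpr (mem_centralizer_singleton_iff.mpr (mem_centralizer_singleton_iff.mp (hz' y)).symm))
      exact mem_centralizer_singleton_iff.mp (hy (h ▸ mem_top x))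
  have hZle : ∀ B : Subgroup S, IsMulCommutative B → B.index = p → center S ≤ B := fun B hB hi z hz =>
    habel B hB z (center_le_centralizer _ hz) hi
  have hcA : ∀ a ∈ A, ∀ b ∈ A, a * b = b * a := fun a ha b hb =>
    congrArg Subtype.val (hA.is_comm.comm (⟨a, ha⟩ : A) ⟨b, hb⟩)
  haveI hAn : A.Normal := by
    obtain ⟨n, hn⟩ := IsPGroup.iff_card.mp hS
    have hn0 : n ≠ 0 := by
      rintro rfl
      have h2 := A.card_mul_index
      rw [hAi, hn, pow_zero] at h2
      exact hp.one_lt.ne' (Nat.eq_one_of_mul_eq_one_left h2)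
    refine normal_of_index_eq_minFac_card ?_
    rw [hAi, hn, Nat.pow_minFac hn0, hp.minFac_eq]
  obtain ⟨x, hx⟩ : ∃ x, x ∉ A := by
    by_contra hcon
    push Not at hcon
    rw [(eq_top_iff' A).mpr hcon, index_top] at hAi
    exact hp.one_lt.ne hAi
  have hgenA : A ⊔ zpowers x = ⊤ :=
    (hmax A hAi _ le_sup_left).resolve_left fun h => hx (h ▸ mem_sup_right (mem_zpowers x))
  let f : A →* A := MonoidHom.mk' (fun a => ⟨a * (x * (a : S)⁻¹ * x⁻¹), mul_mem a.2 (hAn.conj_mem _ (inv_mem a.2) x)⟩)
    fun a b => Subtype.ext (by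
      simp only [Subgroup.coe_mul]
      have h1 := hcA _ (inv_mem b.2) _ (inv_mem a.2)
      rw [mul_inv_rev, h1, show x * ((a : S)⁻¹ * (b : S)⁻¹) * x⁻¹ = (x * (a : S)⁻¹ * x⁻¹) * (x * (b : S)⁻¹ * x⁻¹) by group]
      rw [mul_assoc (a : S) b, ← mul_assoc (b : S), hcA b b.2 _ (hAn.conj_mem _ (inv_mem a.2) x)]
      simp only [mul_assoc])
  have hker : f.ker = (center S).subgroupOf A := by
    ext a
    rw [MonoidHom.mem_ker, mem_subgroupOf]
    constructor
    · intro h
      have h' : (a : S) * (x * (a : S)⁻¹ * x⁻¹) = 1 := congrArg Subtype.val h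
      have hax : x * (a : S) = a * x := by
        have := eq_inv_of_mul_eq_one_right h'
        rw [mul_inv_eq_iff_eq_mul] at this
        have h2 := congrArg (fun u => (a : S) * u * a) this
        simp [mul_assoc] at h2
        exact h2.symm
      rw [mem_center_iff]
      intro g
      have : A ⊔ zpowers x ≤ centralizer ({(a : S)} : Set S) := sup_le
        (fun b hb => mem_centralizer_singleton_iff.mpr (hcA b hb a a.2))
        (zpowers_le.mpr (mem_centralizer_singleton_iff.mpr hax))
      exact mem_centralizer_singleton_iff.mp (this (hgenA ▸ mem_top g))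
    · intro h
      refine Subtype.ext ?_
      show (a : S) * (x * (a : S)⁻¹ * x⁻¹) = 1
      rw [(mem_center_iff.mp (inv_mem h) x)]
      group
  set K := f.range.map A.subtype with hK
  have hKA : K ≤ A := map_subtype_le _
  have hf : ∀ a : A, (f a : S) = ⁅(a : S), x⁆ := fun a => by
    show (a : S) * (x * (a : S)⁻¹ * x⁻¹) = _
    simp [commutatorElement_def, mul_assoc]
  have hKc : K ≤ commutator S := by
    rintro _ ⟨_, ⟨a, rfl⟩, rfl⟩
    rw [coe_subtype, hf, _root_.commutator_def]
    exact commutator_mem_commutator (mem_top _) (mem_top _)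
  haveI hKn : K.Normal := by
    rw [← normalizer_eq_top_iff, eq_top_iff, ← hgenA]
    refine sup_le (fun b hb => ?_) (zpowers_le.mpr ?_)
    · rw [mem_normalizer_iff]
      intro u
      constructor
      · intro hu; rw [hcA b hb u (hKA hu), mul_inv_cancel_right]; exact hu
      · intro hu
        have hu' : u ∈ A := by
          have h := hAn.conj_mem _ (hKA hu) b⁻¹
          rwa [show b⁻¹ * (b * u * b⁻¹) * b⁻¹⁻¹ = u by group] at h
        rwa [hcA b hb u hu', mul_inv_cancel_right] at hu
    · have hle : ∀ u ∈ K, x * u * x⁻¹ ∈ K := by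
        rintro _ ⟨_, ⟨a, rfl⟩, rfl⟩
        refine ⟨f ⟨x * a * x⁻¹, hAn.conj_mem _ a.2 x⟩, ⟨_, rfl⟩, ?_⟩
        show ((f _ : A) : S) = x * ((f a : A) : S) * x⁻¹
        rw [hf, hf]
        simp [commutatorElement_def, mul_assoc]
      refine mem_normalizer_iff.mpr fun u => ⟨hle u, fun hu => ?_⟩
      have heq : K.map (MulAut.conj x).toMonoidHom = K := eq_of_le_of_card_ge
        (by rintro _ ⟨v, hv, rfl⟩; exact hle v hv)
        (card_map_of_injective (MulAut.conj x).injective).ge
      obtain ⟨v, hv, hve⟩ := (heq.ge hu : _ ∈ K.map (MulAut.conj x).toMonoidHom)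
      have : v = u := (MulAut.conj x).injective hve
      exact this ▸ hv
  have hcK : commutator S = K := by
    refine le_antisymm ?_ hKc
    have hq : ∀ s t : S, ⁅s, t⁆ ∈ K := by
      intro s t
      rw [← QuotientGroup.eq_one_iff, ← QuotientGroup.mk'_apply, map_commutatorElement,
        commutatorElement_eq_one_iff_commute]
      have key : ∀ u : S, A ⊔ zpowers x ≤ (centralizer ({QuotientGroup.mk' K u} : Set (S ⧸ K))).comap (QuotientGroup.mk' K) →
          ∀ v : S, Commute (QuotientGroup.mk' K v) (QuotientGroup.mk' K u) := fun u hu v =>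
        mem_centralizer_singleton_iff.mp (hu (hgenA ▸ mem_top v))
      have hax : ∀ a ∈ A, Commute (QuotientGroup.mk' K a) (QuotientGroup.mk' K x) := fun a ha => by
        rw [← commutatorElement_eq_one_iff_commute, ← map_commutatorElement, QuotientGroup.mk'_apply,
          QuotientGroup.eq_one_iff, ← hf ⟨a, ha⟩]
        exact mem_map_of_mem _ (show f ⟨a, ha⟩ ∈ f.range from ⟨_, rfl⟩)
      have hx' : ∀ v : S, Commute (QuotientGroup.mk' K v) (QuotientGroup.mk' K x) := key x
        (sup_le (fun a ha => mem_centralizer_singleton_iff.mpr (hax a ha).eq)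
          (zpowers_le.mpr (mem_centralizer_singleton_iff.mpr rfl)))
      exact key t (sup_le
        (fun a ha => mem_centralizer_singleton_iff.mpr (by
          have h2 : ∀ v : S, Commute (QuotientGroup.mk' K v) (QuotientGroup.mk' K a) := key a
            (sup_le (fun b hb => mem_centralizer_singleton_iff.mpr ((Commute.map (hcA b hb a ha) (QuotientGroup.mk' K))).eq)
              (zpowers_le.mpr (mem_centralizer_singleton_iff.mpr (hx' a).eq.symm)))
          exact (h2 t).eq.symm))
        (zpowers_le.mpr (mem_centralizer_singleton_iff.mpr (hx' t).eq.symm))) s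
    rw [_root_.commutator_def, commutator_le]
    exact fun s _ t _ => hq s t
  have hindex : (center S).index = p * Nat.card (commutator S) := by
    rw [hcK, hK, card_map_of_injective A.subtype_injective, ← index_ker, hker, ← hAi, mul_comm]
    exact (relIndex_mul_index (hZle A hA hAi)).symm
  refine ⟨hindex, ?_⟩
  have hZQ : Nat.card (S ⧸ center S) = p * Nat.card (commutator S) := hindex
  obtain ⟨k, hk⟩ := IsPGroup.iff_card.mp (hS.to_subgroup (commutator S))
  have hk0 : k ≠ 0 := by
    rintro rfl
    rw [hk, pow_zero, mul_one] at hZQ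
    haveI := isCyclic_of_prime_card hZQ
    exact hna (isMulCommutative_of_isCyclic_quotient_center_self S)
  rcases eq_or_ne k 1 with rfl | hk1
  · rw [pow_one] at hk
    rw [hk, ← sq] at hZQ
    have hcomm := IsPGroup.isMulCommutative_of_card_eq_prime_sq hZQ
    have hexp : ∀ q : S ⧸ center S, q ^ p = 1 := by
      intro q
      by_contra hq
      obtain ⟨j, hj, hjo⟩ := (Nat.dvd_prime_pow hp).mp (hZQ ▸ orderOf_dvd_natCard q)
      have : j = 2 := by
        by_contra h2
        refine hq (orderOf_dvd_iff_pow_eq_one.mp ?_)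
        rw [hjo]
        exact (pow_dvd_pow p (by omega : j ≤ 1)).trans (pow_one p).dvd
      subst this
      haveI := isCyclic_of_orderOf_eq_card q (hjo.trans hZQ.symm)
      exact hna (isMulCommutative_of_isCyclic_quotient_center_self S)
    refine Or.inl ⟨hk, ⟨⟨⟨fun a b => Subtype.ext (hcomm.is_comm.comm _ _)⟩⟩, fun q _ => hexp q⟩, hZQ, ?_⟩
    rw [← card_order_p p hZQ hexp]
    refine Nat.card_congr (Equiv.ofBijective
      (fun B => ⟨B.1.map (QuotientGroup.mk' (center S)), ?_⟩) ⟨?_, ?_⟩)
    · have h1 := (B.1.map (QuotientGroup.mk' (center S))).card_mul_index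
      rw [index_map_eq _ (QuotientGroup.mk'_surjective _)
        ((QuotientGroup.ker_mk' _).trans_le (hZle B.1 B.2.1 B.2.2)), B.2.2, hZQ, sq] at h1
      exact Nat.eq_of_mul_eq_mul_right hp.pos h1
    · intro B B' hBB
      have h1 := congrArg (fun L => L.1.comap (QuotientGroup.mk' (center S))) hBB
      simp only [comap_map_eq, QuotientGroup.ker_mk'] at h1
      rw [sup_eq_left.mpr (hZle B.1 B.2.1 B.2.2), sup_eq_left.mpr (hZle B'.1 B'.2.1 B'.2.2)] at h1
      exact Subtype.ext h1
    · rintro ⟨L, hL⟩
      refine ⟨⟨L.comap (QuotientGroup.mk' (center S)), ?_, ?_⟩, ?_⟩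
      · set g := (QuotientGroup.mk' (center S)).comp (L.comap (QuotientGroup.mk' (center S))).subtype
        haveI : IsCyclic L := isCyclic_of_prime_card hL
        have hr : g.range ≤ L := by rintro _ ⟨u, rfl⟩; exact u.2
        haveI : IsCyclic g.range := isCyclic_of_injective _ (inclusion_injective hr)
        refine g.rangeRestrict.isMulCommutative_of_isCyclic_of_ker_le_center ?_
        rw [MonoidHom.ker_rangeRestrict]
        intro u hu
        rw [mem_center_iff]
        intro v
        have : (u : S) ∈ center S := (QuotientGroup.eq_one_iff _).mp hu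
        exact Subtype.ext (mem_center_iff.mp this v)
      · rw [index_comap_of_surjective _ (QuotientGroup.mk'_surjective _)]
        have h1 := L.card_mul_index
        rw [hL, hZQ, sq] at h1
        exact Nat.eq_of_mul_eq_mul_left hp.pos h1
      · exact Subtype.ext (map_comap_eq_self_of_surjective (QuotientGroup.mk'_surjective _) L)
  · refine Or.inr ⟨hk ▸ Nat.pow_le_pow_right hp.pos (by omega), fun B hB hBi => ?_⟩
    by_contra hne
    have hsup : A ⊔ B = ⊤ := (hmax A hAi _ le_sup_left).resolve_left fun h => hne (by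
      rcases hmax B hBi A (le_sup_right.trans h.le) with h' | h'
      · exact h'.symm
      · rw [h', index_top] at hAi; exact absurd hAi hp.one_lt.ne)
    have hcen : A ⊓ B ≤ center S := by
      intro z hz
      rw [mem_center_iff]
      intro g
      have : A ⊔ B ≤ centralizer ({z} : Set S) := sup_le
        (fun a ha => mem_centralizer_singleton_iff.mpr (hcA a ha z hz.1))
        (fun b hb => mem_centralizer_singleton_iff.mpr (congrArg Subtype.val (hB.is_comm.comm (⟨b, hb⟩ : B) ⟨z, hz.2⟩)))
      exact mem_centralizer_singleton_iff.mp (this (hsup ▸ mem_top g))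
    have h1 : (center S).index ≤ p * p := by
      refine (Nat.le_of_dvd (Nat.pos_of_ne_zero index_ne_zero_of_finite) (index_dvd_of_le hcen)).trans ?_
      exact (index_inf_le ).trans_eq (by rw [hAi, hBi])
    rw [hindex, hk] at h1
    have := Nat.le_of_mul_le_mul_left h1 hp.pos
    have h2 : p ^ k ≤ p ^ 1 := by rwa [pow_one]
    have := (Nat.pow_le_pow_iff_right hp.one_lt).mp h2
    omega

end Cfsg.Agent.S3807
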