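import Cfsg.Statements.S3808
import Cfsg.Agent.Lib.IndexP

set_option autoImplicit false
set_option linter.style.haveILetI false
open Cfsg

namespace Cfsg.Agent.S3808


/-- Let S be a finite p-group with an extraspecial subgroup Q of index p. Then either Z(S) = Z(Q), or S = Q·Z(S) and Z(S) has order p². -/
theorem result {S : Type*} [Group S] [Finite S] (p : ℕ) [Fact p.Prime] (hS : IsPGroup p S) (Q : Subgroup S) (hQ : Cfsg.IsExtraspecial p ↥Q) (hQi : Q.index = p) :
    Subgroup.center S = (Subgroup.center ↥Q).map Q.subtype ∨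
      (Q ⊔ Subgroup.center S = ⊤ ∧ Nat.card (Subgroup.center S) = p ^ 2) := by
  have hp := (Fact.out : p.Prime)
  haveI hQn : Q.Normal := Lib.IndexP.normal_of_index hS Q hQi
  haveI : Nontrivial (Subgroup.center Q) := by
    rw [← Finite.one_lt_card_iff_nontrivial, hQ.2]
    exact hp.one_lt
  have hZQ : (Subgroup.center Q).map Q.subtype ≤ Subgroup.center S := by
    haveI : ((Subgroup.center Q).map Q.subtype).Normal := ConjAct.normal_of_characteristic_of_normal
    refine Lib.IndexP.normal_prime_le_center hS _ ?_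
    rw [Subgroup.card_map_of_injective Q.subtype_injective, hQ.2]
  have hle : Subgroup.center S ⊓ Q ≤ (Subgroup.center Q).map Q.subtype := fun x hx =>
    ⟨⟨x, hx.2⟩, Subgroup.mem_center_iff.2 fun g => Subtype.ext (Subgroup.mem_center_iff.1 hx.1 g), rfl⟩
  by_cases hc : Subgroup.center S ≤ Q
  · exact Or.inl (le_antisymm ((le_inf le_rfl hc).trans hle) hZQ)
  · have hco := Lib.IndexP.isCoatom_of_index Q hQi
    have hsup : Q ⊔ Subgroup.center S = ⊤ := hco.2 _ (left_lt_sup.2 hc)
    refine Or.inr ⟨hsup, ?_⟩
    have heq : Subgroup.center S ⊓ Q = (Subgroup.center Q).map Q.subtype :=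
      le_antisymm hle (le_inf hZQ (Subgroup.map_subtype_le _))
    have h1 : Q.relIndex (Subgroup.center S) = p := by
      rw [← Subgroup.relIndex_sup_right, sup_comm, hsup, Subgroup.relIndex_top_right, hQi]
    have h2 := Subgroup.relIndex_mul_relIndex ⊥ (Subgroup.center S ⊓ Q) (Subgroup.center S) bot_le inf_le_left
    rw [Subgroup.relIndex_bot_left, Subgroup.relIndex_bot_left, Subgroup.inf_relIndex_left, h1, heq,
      Subgroup.card_map_of_injective Q.subtype_injective, hQ.2] at h2
    rw [← h2, sq]

end Cfsg.Agent.S3808
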