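import Cfsg.Statements.S3809
import Cfsg.Agent.Lib.IndexP
import Cfsg.Agent.Lib.Extraspecial.Basic

set_option autoImplicit false
set_option linter.style.haveILetI false
open Cfsg

namespace Cfsg.Agent.S3809

open scoped commutatorElement


/-- Let S be a finite p-group with an extraspecial subgroup of index p. Then S has order p^(2+2n) for some n ≥ 1, derived length at most 3, and exponent dividing p³. -/
theorem result {S : Type*} [Group S] [Finite S] (p : ℕ) [Fact p.Prime] (hS : IsPGroup p S) (Q : Subgroup S) (hQ : Cfsg.IsExtraspecial p ↥Q) (hQi : Q.index = p) :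
    (∃ n : ℕ, 1 ≤ n ∧ Nat.card S = p ^ (2 + 2 * n)) ∧ derivedSeries S 3 = ⊥ ∧ ∀ x : S, x ^ (p ^ 3) = 1 := by
  have hp := (Fact.out : p.Prime)
  haveI hQn : Q.Normal := Lib.IndexP.normal_of_index hS Q hQi
  obtain ⟨z, hz⟩ := Lib.Extraspecial.exists_esData hQ
  obtain ⟨n, hn⟩ := Lib.Extraspecial.exists_card_eq hz
  have hcardS : Nat.card S = p ^ (2 + 2 * n) := by
    rw [← Q.card_mul_index, hn, hQi, ← pow_succ]
    ring_nf
  have hpow : ∀ x : S, x ^ p ∈ Q := fun x => by
    rw [← hQi, ← QuotientGroup.eq_one_iff, QuotientGroup.mk_pow, Subgroup.index_eq_card, pow_card_eq_one']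
  have hn1 : 1 ≤ n := by
    by_contra hn0
    have h0 : n = 0 := by omega
    subst h0
    haveI : Fact (Nat.card Q).Prime := ⟨by rw [hn]; simpa using hp⟩
    haveI : Nontrivial Q := by
      rw [← Finite.one_lt_card_iff_nontrivial, hn]
      simpa using hp.one_lt
    have hbc : IsCoatom (⊥ : Subgroup Q) :=
      ⟨bot_ne_top, fun B hB => (Subgroup.eq_bot_or_eq_top_of_prime_card B).resolve_left hB.ne'⟩
    have hfr : frattini Q = ⊥ := le_bot_iff.1 (frattini_le_coatom hbc)
    rw [hQ.1.2.1] at hfr
    have h1 : Nat.card (Subgroup.center Q) = p := hQ.2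
    rw [hfr, Subgroup.card_bot] at h1
    exact hp.ne_one h1.symm
  refine ⟨⟨n, hn1, hcardS⟩, ?_, fun x => ?_⟩
  · have h1 : derivedSeries S 1 ≤ Q := by
      rw [derivedSeries_one]
      haveI : IsMulCommutative (S ⧸ Q) := by
        haveI : Fact p.Prime := ⟨hp⟩
        haveI := isCyclic_of_prime_card (α := S ⧸ Q) (p := p) (by rw [← Subgroup.index_eq_card, hQi])
        exact IsCyclic.isMulCommutative
      rw [commutator_def, Subgroup.commutator_le]
      intro a _ b _
      rw [← QuotientGroup.eq_one_iff, ← QuotientGroup.mk'_apply, map_commutatorElement,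
        commutatorElement_eq_one_iff_mul_comm]
      exact mul_comm' _ _
    have h2 : derivedSeries S 2 ≤ (Subgroup.zpowers z).map Q.subtype := by
      rw [derivedSeries_succ]
      refine (Subgroup.commutator_mono h1 h1).trans (Subgroup.commutator_le.2 ?_)
      intro a ha b hb
      exact ⟨⁅(⟨a, ha⟩ : Q), ⟨b, hb⟩⁆, hz.comm_mem _ _, map_commutatorElement Q.subtype _ _⟩
    rw [derivedSeries_succ, ← le_bot_iff]
    refine (Subgroup.commutator_mono h2 h2).trans ?_
    rw [← Subgroup.map_commutator, le_bot_iff, Subgroup.map_eq_bot_iff_of_injective _ Q.subtype_injective,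
      Subgroup.commutator_eq_bot_iff_le_centralizer]
    intro a ha
    rw [Subgroup.mem_centralizer_iff]
    intro b _
    exact Lib.Extraspecial.commute_z hz b |> fun _ => (Subgroup.mem_center_iff.1 ((hz.mem_center a).2 ha) b)
  · have h3 : ((⟨x ^ p, hpow x⟩ : Q) ^ p) ^ p = 1 := by
      obtain ⟨k, hk⟩ := hz.pow_mem (⟨x ^ p, hpow x⟩ : Q)
      simp only at hk
      rw [← hk, ← zpow_natCast, ← zpow_mul, mul_comm, zpow_mul, zpow_natCast, hz.z_pow, one_zpow]
    have h4 := congrArg Subtype.val h3
    simp only [SubmonoidClass.coe_pow, OneMemClass.coe_one] at h4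
    rw [show p ^ 3 = p * p * p by ring, pow_mul, pow_mul]
    exact h4

end Cfsg.Agent.S3809
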