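import Cfsg.Statements.S3810
import Cfsg.Agent.S3809
import Cfsg.Agent.Lib.IndexP
import Cfsg.Agent.Lib.Extraspecial.Basic

set_option autoImplicit false
set_option linter.style.haveILetI false
open Cfsg

namespace Cfsg.Agent.S3810

open scoped commutatorElement

theorem card_le {E : Type*} [Group E] [Finite E] {p : ℕ} [Fact p.Prime] {z : E}
    (h : Lib.Extraspecial.ESData p z) (B : Subgroup E) [IsMulCommutative B]
    (hB : B.index = p) : Nat.card E ≤ p ^ 3 := by
  have hp := (Fact.out : p.Prime)
  obtain ⟨x, hx⟩ : ∃ x, x ∉ B := by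
    by_contra hcon
    push Not at hcon
    rw [(Subgroup.eq_top_iff' B).2 hcon, Subgroup.index_top] at hB
    exact hp.ne_one hB.symm
  have hzc : Subgroup.zpowers z ≤ Subgroup.center E := fun w hw => (h.mem_center w).2 hw
  let f : B →* Subgroup.zpowers z :=
    { toFun := fun b => ⟨⁅(b : E), x⁆, h.comm_mem _ _⟩
      map_one' := Subtype.ext (commutatorElement_one_left x)
      map_mul' := fun a b => Subtype.ext (Lib.Extraspecial.comm_mul_left h (a : E) b x) }
  have hker : Nat.card f.ker ≤ p := by
    have hco := Lib.IndexP.isCoatom_of_index B hB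
    have hle : f.ker.map B.subtype ≤ Subgroup.center E := by
      rintro _ ⟨b, hb, rfl⟩
      have hbx : (b : E) * x = x * b :=
        commutatorElement_eq_one_iff_mul_comm.1 (congrArg Subtype.val (MonoidHom.mem_ker.1 hb))
      have hC : B < Subgroup.centralizer ({(b : E)} : Set E) := by
        refine lt_of_le_not_ge (fun c hc => ?_) fun hle => hx (hle ?_)
        · rw [Subgroup.mem_centralizer_singleton_iff]
          exact congrArg Subtype.val (mul_comm' (⟨c, hc⟩ : B) b)
        · rw [Subgroup.mem_centralizer_singleton_iff]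
          exact hbx.symm
      rw [Subgroup.mem_center_iff]
      intro g
      exact Subgroup.mem_centralizer_singleton_iff.1 ((hco.2 _ hC).ge (Subgroup.mem_top g))
    rw [← Subgroup.card_map_of_injective B.subtype_injective]
    refine (Subgroup.card_le_of_le (hle.trans fun w hw => (h.mem_center w).1 hw)).trans ?_
    rw [Nat.card_zpowers, orderOf_eq_prime h.z_pow h.z_ne]
  have hrange : f.ker.index ≤ p := by
    rw [Subgroup.index_ker]
    refine (Subgroup.card_le_card_group _).trans ?_
    rw [Nat.card_zpowers, orderOf_eq_prime h.z_pow h.z_ne]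
  rw [← B.card_mul_index, hB, ← f.ker.card_mul_index, show p ^ 3 = p * p * p by ring]
  exact Nat.mul_le_mul_right _ (Nat.mul_le_mul hker hrange)


/-- Let S be a finite p-group with an extraspecial subgroup of index p. Then S has an abelian subgroup of index p if and only if S has order p⁴. -/
theorem result {S : Type*} [Group S] [Finite S] (p : ℕ) [Fact p.Prime] (hS : IsPGroup p S) (Q : Subgroup S) (hQ : Cfsg.IsExtraspecial p ↥Q) (hQi : Q.index = p) :
    (∃ A : Subgroup S, IsMulCommutative ↥A ∧ A.index = p) ↔ Nat.card S = p ^ 4 := by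
  have hp := (Fact.out : p.Prime)
  haveI hQn : Q.Normal := Lib.IndexP.normal_of_index hS Q hQi
  obtain ⟨z, hz⟩ := Lib.Extraspecial.exists_esData hQ
  obtain ⟨n, hn⟩ := Lib.Extraspecial.exists_card_eq hz
  obtain ⟨⟨n', hn', hcard'⟩, -, -⟩ := S3809.result p hS Q hQ hQi
  have hcardS : Nat.card S = p * Nat.card Q := by rw [← Q.card_mul_index, hQi, mul_comm]
  constructor
  · rintro ⟨A, hA, hAi⟩
    haveI := hA
    haveI : IsMulCommutative (A.subgroupOf Q) :=
      ⟨⟨fun a b => Subtype.ext (Subtype.ext (congrArg Subtype.val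
        (mul_comm' (⟨((a : Q) : S), a.2⟩ : A) ⟨((b : Q) : S), b.2⟩) :
          ((a : Q) : S) * ((b : Q) : S) = ((b : Q) : S) * ((a : Q) : S)))⟩⟩
    haveI := Lib.IndexP.normal_of_index hS A hAi
    have hdvd : (A.subgroupOf Q).index ∣ p := hAi ▸ Subgroup.relIndex_dvd_index_of_normal A Q
    have h3 : Nat.card Q ≤ p ^ 3 := by
      rcases (Nat.dvd_prime hp).1 hdvd with h | h
      · exfalso
        have hall : ∀ a b : Q, a * b = b * a := fun a b => by
          have hh := Subgroup.index_eq_one.1 h
          have h5 := mul_comm' (⟨a, hh ▸ Subgroup.mem_top a⟩ : A.subgroupOf Q) ⟨b, hh ▸ Subgroup.mem_top b⟩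
          exact congrArg Subtype.val h5
        have h4 : Subgroup.center Q = ⊤ :=
          (Subgroup.eq_top_iff' _).2 fun a => Subgroup.mem_center_iff.2 fun b => hall b a
        have h5 := hQ.2
        rw [h4, Subgroup.card_top] at h5
        rw [hcardS, h5, ← pow_two] at hcard'
        have := Nat.pow_right_injective hp.two_le hcard'
        omega
      · exact card_le hz (A.subgroupOf Q) h
    have h4 : Nat.card Q = p ^ (2 * n + 1) := hn
    have hn1 : n = n' := by
      rw [hcardS, hn, ← pow_succ'] at hcard'
      have := Nat.pow_right_injective hp.two_le hcard'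
      omega
    have h6 : 2 * n + 1 ≤ 3 := (Nat.pow_le_pow_iff_right hp.one_lt).1 (h4 ▸ h3)
    rw [hcard', show 2 + 2 * n' = 4 by omega]
  · intro h4
    have hQcard : Nat.card Q = p ^ 3 := by
      rw [hcardS, pow_succ'] at h4
      exact Nat.eq_of_mul_eq_mul_left hp.pos h4
    let Z : Subgroup S := (Subgroup.zpowers z).map Q.subtype
    have hZeq : Z = (Subgroup.center Q).map Q.subtype := by
      rw [show Subgroup.center Q = Subgroup.zpowers z from Subgroup.ext hz.mem_center]
    haveI hZn : Z.Normal := by rw [hZeq]; exact ConjAct.normal_of_characteristic_of_normal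
    have hZcard : Nat.card Z = p := by
      rw [hZeq, Subgroup.card_map_of_injective Q.subtype_injective, hQ.2]
    have hZc : Z ≤ Subgroup.center S := Lib.IndexP.normal_prime_le_center hS Z hZcard
    have hSZ : IsPGroup p (S ⧸ Z) := hS.to_quotient Z
    let Qb := Q.map (QuotientGroup.mk' Z)
    haveI : Qb.Normal := Subgroup.Normal.map hQn _ (QuotientGroup.mk'_surjective Z)
    obtain ⟨yb, hybQ, hybc, hyb1⟩ : ∃ y : S ⧸ Z, y ∈ Qb ∧ y ∈ Subgroup.center (S ⧸ Z) ∧ y ≠ 1 := by
      have hne : Qb ≠ ⊥ := fun h => by
        rw [Subgroup.map_eq_bot_iff, QuotientGroup.ker_mk'] at h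
        have := Subgroup.card_le_of_le h
        rw [hQcard, hZcard] at this
        have h1 : p ^ 1 < p ^ 3 := Nat.pow_lt_pow_right hp.one_lt (by norm_num)
        rw [pow_one] at h1
        omega
      haveI := hSZ.isNilpotent
      obtain ⟨y, hy, hy1⟩ := Lib.IndexP.exists_center_mem hSZ Qb hne
      exact ⟨y, hy.1, hy.2, hy1⟩
    obtain ⟨y, hyQ, rfl⟩ := hybQ
    have hyZ : y ∉ Z := fun h => hyb1 ((QuotientGroup.eq_one_iff y).2 h)
    have hcomm : ∀ s : S, ⁅s, y⁆ ∈ Z := fun s => by
      rw [← QuotientGroup.eq_one_iff, ← QuotientGroup.mk'_apply, map_commutatorElement,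
        commutatorElement_eq_one_iff_mul_comm]
      exact Subgroup.mem_center_iff.1 hybc _
    let f : S →* Z :=
      { toFun := fun s => ⟨⁅s, y⁆, hcomm s⟩
        map_one' := Subtype.ext (commutatorElement_one_left y)
        map_mul' := fun a b => Subtype.ext (by
          show ⁅a * b, y⁆ = ⁅a, y⁆ * ⁅b, y⁆
          have h1 : ⁅a * b, y⁆ = a * ⁅b, y⁆ * a⁻¹ * ⁅a, y⁆ := by
            simp only [commutatorElement_def]; group
          rw [h1, Subgroup.mem_center_iff.1 (hZc (hcomm b)) a, mul_inv_cancel_right,
            (Subgroup.mem_center_iff.1 (hZc (hcomm b)) _).symm]) }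
    have hidx : f.ker.index ∣ p := by
      rw [Subgroup.index_ker, ← hZcard]
      exact Subgroup.card_subgroup_dvd_card _
    refine ⟨f.ker, ?_, ?_⟩
    · have hfy : ∀ s ∈ f.ker, s * y = y * s := fun s hs =>
        commutatorElement_eq_one_iff_mul_comm.1 (congrArg Subtype.val (MonoidHom.mem_ker.1 hs))
      have hyK : y ∈ f.ker := MonoidHom.mem_ker.2 (Subtype.ext (commutatorElement_self y))
      have hZK : Z ≤ f.ker := fun w hw => MonoidHom.mem_ker.2 (Subtype.ext
        (commutatorElement_eq_one_iff_mul_comm.2 (Subgroup.mem_center_iff.1 (hZc hw) y).symm))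
      let W : Subgroup f.ker := (Z ⊔ Subgroup.zpowers y).subgroupOf f.ker
      have hW : W ≤ Subgroup.center f.ker := by
        have h1 : Z ⊔ Subgroup.zpowers y ≤ Subgroup.centralizer (f.ker : Set S) := by
          refine sup_le (fun w hw => Subgroup.mem_centralizer_iff.2 fun s _ =>
            Subgroup.mem_center_iff.1 (hZc hw) s) (Subgroup.zpowers_le.2 ?_)
          exact Subgroup.mem_centralizer_iff.2 fun s hs => hfy s hs
        intro w hw
        exact Subgroup.mem_center_iff.2 fun s => Subtype.ext
          (Subgroup.mem_centralizer_iff.1 (h1 hw) s s.2)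
      haveI : W.Normal := Lib.IndexP.normal_of_le_center W hW
      have hWidx : W.index ∣ p := by
        have hle : Z ⊔ Subgroup.zpowers y ≤ f.ker := sup_le hZK (Subgroup.zpowers_le.2 hyK)
        have hidxne : f.ker.index ≠ 1 := by
          intro h1
          have hys : y ∈ Subgroup.center S := Subgroup.mem_center_iff.2 fun s =>
            hfy s ((Subgroup.index_eq_one.1 h1).ge (Subgroup.mem_top s))
          refine hyZ ?_
          rw [hZeq]
          exact ⟨⟨y, hyQ⟩, Subgroup.mem_center_iff.2 fun q => Subtype.ext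
            (Subgroup.mem_center_iff.1 hys q), rfl⟩
        have hK : Nat.card f.ker = p ^ 3 := by
          have := f.ker.card_mul_index
          rw [((Nat.dvd_prime hp).1 hidx).resolve_left hidxne, h4, pow_succ] at this
          exact Nat.eq_of_mul_eq_mul_right hp.pos this
        have hlt : Nat.card Z < Nat.card ↥(Z ⊔ Subgroup.zpowers y) := by
          refine lt_of_le_of_ne (Subgroup.card_le_of_le le_sup_left) fun he => hyZ ?_
          exact (Subgroup.eq_of_le_of_card_ge le_sup_left he.ge).ge
            (Subgroup.mem_sup_right (Subgroup.mem_zpowers y))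
        obtain ⟨j, hj, hj'⟩ := (Nat.dvd_prime_pow hp).1 (hK ▸ Subgroup.card_dvd_of_le hle)
        rw [hZcard, hj'] at hlt
        have hj2 : 2 ≤ j := by
          by_contra hcon
          have := Nat.pow_le_pow_right hp.pos (show j ≤ 1 by omega)
          rw [pow_one] at this
          omega
        have h5 : Nat.card W = p ^ j := by
          rw [← hj']
          exact Nat.card_congr (Subgroup.subgroupOfEquivOfLe hle).toEquiv
        have h6 := W.card_mul_index
        rw [h5, hK, show 3 = j + (3 - j) by omega, pow_add] at h6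
        rw [Nat.eq_of_mul_eq_mul_left (pow_pos hp.pos j) h6]
        interval_cases j <;> simp
      haveI : IsCyclic (f.ker ⧸ W) := by
        rcases (Nat.dvd_prime hp).1 hWidx with h | h
        · haveI : Subsingleton (f.ker ⧸ W) := (Nat.card_eq_one_iff_unique.1
            (by rw [← Subgroup.index_eq_card, h])).1
          infer_instance
        · haveI : Fact p.Prime := ⟨hp⟩
          exact isCyclic_of_prime_card (p := p) (by rw [← Subgroup.index_eq_card, h])
      exact ⟨⟨commutative_of_cyclic_center_quotient (QuotientGroup.mk' W)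
        (by rw [QuotientGroup.ker_mk']; exact hW)⟩⟩
    · refine ((Nat.dvd_prime hp).1 hidx).resolve_left fun h1 => hyZ ?_
      have hys : y ∈ Subgroup.center S := Subgroup.mem_center_iff.2 fun s =>
        commutatorElement_eq_one_iff_mul_comm.1 (congrArg Subtype.val
          (MonoidHom.mem_ker.1 ((Subgroup.index_eq_one.1 h1).ge (Subgroup.mem_top s))))
      rw [hZeq]
      exact ⟨⟨y, hyQ⟩, Subgroup.mem_center_iff.2 fun q => Subtype.ext
        (Subgroup.mem_center_iff.1 hys q), rfl⟩

end Cfsg.Agent.S3810
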