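import Cfsg.Statements.S3811
import Cfsg.Agent.Lib.Fgs55.Soft

set_option autoImplicit false
set_option linter.style.haveILetI false
open Cfsg

namespace Cfsg.Agent.S3811

/-- Let P be a finite p-group and E an abelian subgroup of P that contains its centralizer, has index p in its normalizer, and has index at least p² in P. Then the subgroups of P containing E are totally ordered by inclusion, each proper one has index p in its normalizer (so they form the normalizer tower of E, with all steps of index p), and the i-th member of the tower above E has nilpotency class i + 1 whenever it is a proper subgroup of P. -/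
theorem result {P : Type*} [Group P] [Finite P] (p : ℕ) [Fact p.Prime] (hP : IsPGroup p P)
    (E : Subgroup P) (hEab : IsMulCommutative ↥E) (hC : Subgroup.centralizer (E : Set P) ≤ E)
    (hN : (E.subgroupOf (Subgroup.normalizer (E : Set P))).index = p) (hidx : p ^ 2 ≤ E.index) :
    (∀ K L : Subgroup P, E ≤ K → E ≤ L → K ≤ L ∨ L ≤ K) ∧
      (∀ K : Subgroup P, E ≤ K → K ≠ ⊤ → (K.subgroupOf (Subgroup.normalizer (K : Set P))).index = p) ∧
      ∀ (i : ℕ) (K : Subgroup P) [Group.IsNilpotent ↥K], E ≤ K → K ≠ ⊤ → K.index * p ^ i = E.index →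
        Group.nilpotencyClass ↥K = i + 1 := by
  have hS : Lib.Fgs55.Soft p E :=
    ⟨fun a ha b hb => congrArg Subtype.val (hEab.is_comm.comm ⟨a, ha⟩ ⟨b, hb⟩), hC, hN, hidx⟩
  have T := Lib.Fgs55.tower (Nat.card P) P le_rfl hP E hS
  refine ⟨T.chain, fun K hK hne => T.step K hK hne, fun i K _ hK hne hi => ?_⟩
  have hup : Group.nilpotencyClass ↥K ≤ i + 1 := by
    rw [← Subgroup.lowerCentralSeries_eq_bot_iff_nilpotencyClass_le]
    apply Subgroup.map_injective K.subtype_injective
    rw [Subgroup.top_subtype_lowerCentralSeries, Subgroup.map_bot]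
    exact T.cls i K hK hne hi
  refine le_antisymm hup ?_
  rcases i with _ | i
  · -- `K = E ≠ ⊥`
    rw [Nat.succ_le_iff, Nat.pos_iff_ne_zero]
    intro e
    rw [Group.nilpotencyClass_zero_iff_subsingleton] at e
    have hE : E = ⊥ := le_bot_iff.1 (hK.trans (Subgroup.eq_bot_of_subsingleton K).le)
    apply hS.ne_top
    rw [hE, eq_comm]
    refine le_bot_iff.1 fun x _ => hE ▸ hC (by rw [hE]; simp [Subgroup.mem_centralizer_iff])
  · by_contra hlt
    push Not at hlt
    refine Lib.Fgs55.not_upper_eq_top hS T hK hne ?_
      (Subgroup.upperCentralSeries_eq_top_iff_nilpotencyClass_le.2 (Nat.lt_succ_iff.1 hlt))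
    have e1 := Subgroup.card_mul_index K
    have e2 := Subgroup.card_mul_index E
    rw [← hi, ← e1] at e2
    have h0 : 0 < K.index := Nat.pos_of_ne_zero Subgroup.index_ne_zero_of_finite
    apply Nat.eq_of_mul_eq_mul_right h0
    rw [← e2]
    ring

end Cfsg.Agent.S3811
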