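import Cfsg.Statements.S3815
import Cfsg.Agent.Lib.Cores.Basic

set_option autoImplicit false
set_option linter.style.haveILetI false
open Cfsg

namespace Cfsg.Agent.S3815


/-- Let G be a finite group, p a prime and d ∈ G an element of order prime to p. If dg has order prime to p for every element g ∈ G of order prime to p, then d ∈ O_{p'}(G). -/
theorem result {G : Type*} [Group G] [Finite G] {p : ℕ} [Fact p.Prime]
    (d : G) (hd : (orderOf d).Coprime p)
    (h : ∀ g : G, (orderOf g).Coprime p → (orderOf (d * g)).Coprime p) :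
    d ∈ Cfsg.pPrimeCore p G := by
  let D : Submonoid G :=
    { carrier := {d | (orderOf d).Coprime p ∧
        ∀ g : G, (orderOf g).Coprime p → (orderOf (d * g)).Coprime p}
      one_mem' := ⟨by simp, fun g hg => by simpa using hg⟩
      mul_mem' := fun {a b} ha hb => ⟨ha.2 b hb.1,
        fun g hg => by rw [mul_assoc]; exact ha.2 _ (hb.2 g hg)⟩ }
  have hconj : ∀ x d : G, d ∈ D → x * d * x⁻¹ ∈ D := by
    intro x e he
    have ho : ∀ y : G, orderOf (x * y * x⁻¹) = orderOf y := fun y =>
      orderOf_injective (MulAut.conj x).toMonoidHom (MulAut.conj x).injective y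
    refine ⟨by rw [ho]; exact he.1, fun g hg => ?_⟩
    have h1 : x * e * x⁻¹ * g = x * (e * (x⁻¹ * g * x)) * x⁻¹ := by group
    rw [h1, ho]
    refine he.2 _ ?_
    rwa [show x⁻¹ * g * x = (MulAut.conj x⁻¹).toMonoidHom g by simp,
      orderOf_injective (MulAut.conj x⁻¹).toMonoidHom (MulAut.conj x⁻¹).injective g]
  let K : Subgroup G :=
    { toSubmonoid := D
      inv_mem' := fun {a} ha => by
        have h1 : a⁻¹ ∈ Submonoid.powers a :=
          mem_powers_iff_mem_zpowers.2 ((Subgroup.zpowers a).inv_mem (Subgroup.mem_zpowers a))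
        exact Submonoid.powers_le.2 ha h1 }
  haveI : K.Normal := ⟨fun e he x => hconj x e he⟩
  refine Lib.Cores.le_pPrimeCore_of_not_dvd (N := K) (fun hdvd => ?_) ⟨hd, h⟩
  obtain ⟨z, hz⟩ := exists_prime_orderOf_dvd_card' p hdvd
  have h2 := z.2.1
  rw [Subgroup.orderOf_coe, hz] at h2
  exact (Fact.out : p.Prime).ne_one ((Nat.coprime_self p).1 h2)

end Cfsg.Agent.S3815
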