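import Cfsg.Statements.S3818
import Cfsg.Agent.Lib.Flavell19.Main
-- import your own Cfsg.Agent.* helpers here

set_option autoImplicit false
open Cfsg

namespace Cfsg.Agent.S3818

/-- Let G be a finite solvable group and P a subgroup of G of prime order p > 3 whose conjugates generate G. Let V be a faithful irreducible representation of G over a field of positive characteristic, finite-dimensional. Then the subspace of V fixed by P has dimension less than half the dimension of V. -/
theorem result {G : Type*} [Group G] [Finite G] [Group.IsSolvable G]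
    {p : ℕ} [Fact p.Prime] (hp : 3 < p) (P : Subgroup G) (hP : Nat.card P = p) (hgen : Subgroup.normalClosure (P : Set G) = ⊤)
    {k : Type*} [Field k] (ℓ : ℕ) [Fact ℓ.Prime] [CharP k ℓ]
    {V : Type*} [AddCommGroup V] [Module k V] [FiniteDimensional k V]
    (ρ : Representation k G V) [ρ.IsIrreducible] (hfaith : Function.Injective ρ) :
    2 * Module.finrank k ↥(⨅ g : ↥P, LinearMap.ker (ρ (g : G) - LinearMap.id)) < Module.finrank k V := by
  classical
  have hpp : p.Prime := Fact.out
  obtain ⟨x, hxP, hx⟩ : ∃ x ∈ P, orderOf x = p := by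
    haveI : Finite P := inferInstance
    obtain ⟨x, hx⟩ := exists_prime_orderOf_dvd_card' (G := P) p hP.symm.dvd
    exact ⟨x, x.2, by rwa [Subgroup.orderOf_coe]⟩
  have hPx : P = Subgroup.zpowers x := by
    refine (Subgroup.eq_of_le_of_card_ge (Subgroup.zpowers_le.mpr hxP) ?_).symm
    rw [Nat.card_zpowers, hx, hP]
  have hgen' : Subgroup.normalClosure {x} = ⊤ := by
    rw [eq_top_iff, ← hgen]
    refine Subgroup.normalClosure_le_normal ?_
    rw [SetLike.coe_subset_coe, hPx, Subgroup.zpowers_le]
    exact Subgroup.subset_normalClosure rfl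
  have hfix : (⨅ g : ↥P, LinearMap.ker (ρ (g : G) - LinearMap.id)) =
      LinearMap.ker (ρ x - 1) := by
    refine le_antisymm (iInf_le_of_le ⟨x, hxP⟩ le_rfl) (le_iInf fun g v hv => ?_)
    rw [LinearMap.mem_ker, LinearMap.sub_apply, Module.End.one_apply, sub_eq_zero] at hv
    rw [LinearMap.mem_ker, LinearMap.sub_apply, LinearMap.id_apply, sub_eq_zero]
    have hg : (g : G) ∈ Submonoid.powers x :=
      mem_powers_iff_mem_zpowers.mpr (hPx ▸ g.2)
    obtain ⟨i, hi⟩ := hg
    rw [← hi]
    induction i generalizing g with
    | zero => simp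
    | succ i ih =>
      show ρ (x ^ (i + 1)) v = v
      rw [pow_succ, map_mul, Module.End.mul_apply, hv]
      exact ih ⟨x ^ i, pow_mem hxP i⟩ rfl
  have hirr : Lib.FpfHeight.Extraspecial.IsIrred (ρ : G →* Module.End k V) := by
    intro W hW
    let S : Subrepresentation ρ := ⟨W, fun g v hv => hW g v hv⟩
    rcases IsSimpleOrder.eq_bot_or_eq_top S with h | h
    · exact Or.inl (congrArg Subrepresentation.toSubmodule h)
    · exact Or.inr (congrArg Subrepresentation.toSubmodule h)
  haveI : Nontrivial V := by
    by_contra h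
    rw [not_nontrivial_iff_subsingleton] at h
    obtain ⟨S, T, hST⟩ := exists_pair_ne (Subrepresentation ρ)
    apply hST
    have e : S.toSubmodule = T.toSubmodule := Subsingleton.elim _ _
    cases S; cases T; cases e; rfl
  rw [hfix]
  exact Lib.Flavell19.Main.fixed_lt_half hpp hp x hx hgen' ℓ ρ hirr hfaith

end Cfsg.Agent.S3818
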