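import Cfsg.Statements.S3819
import Cfsg.Agent.Lib.CoreControl.Basic
import Cfsg.Agent.Lib.Balance.OddInvariant
-- import your own Cfsg.Agent.* helpers here

set_option autoImplicit false
open Cfsg Cfsg.Agent.Lib

namespace Cfsg.Agent.S3819

/-- Let G be a finite group with Sylow p-subgroup P and H = O_{p'}(G), and suppose G = PH and the commutator subgroup [H, P] is solvable. Let q be a prime and z an element of q-power order of C_H(P). Then (O_{q'}(C_H(z)) ∩ O_{q'}(C_H(P))) · [O_{q'}(C_H(z)), P] ≤ O_{q'}(H). -/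
theorem result {G : Type*} [Group G] [Finite G] {p : ℕ} [Fact p.Prime]
    (P : Sylow p G) (hPH : Cfsg.pPrimeCore p G ⊔ (P : Subgroup G) = ⊤)
    (hsol : Group.IsSolvable ↥⁅Cfsg.pPrimeCore p G, (P : Subgroup G)⁆)
    {q : ℕ} [Fact q.Prime] (z : G) (hzH : z ∈ Cfsg.pPrimeCore p G) (hzP : z ∈ Subgroup.centralizer ((P : Subgroup G) : Set G))
    (hz : ∃ k : ℕ, orderOf z = q ^ k) :
    ((Cfsg.pPrimeCore q ↥(Cfsg.pPrimeCore p G ⊓ Subgroup.centralizer ({z} : Set G))).map
        (Cfsg.pPrimeCore p G ⊓ Subgroup.centralizer ({z} : Set G)).subtype ⊓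
      (Cfsg.pPrimeCore q ↥(Cfsg.pPrimeCore p G ⊓ Subgroup.centralizer ((P : Subgroup G) : Set G))).map
        (Cfsg.pPrimeCore p G ⊓ Subgroup.centralizer ((P : Subgroup G) : Set G)).subtype) ⊔
    ⁅(Cfsg.pPrimeCore q ↥(Cfsg.pPrimeCore p G ⊓ Subgroup.centralizer ({z} : Set G))).map
        (Cfsg.pPrimeCore p G ⊓ Subgroup.centralizer ({z} : Set G)).subtype, (P : Subgroup G)⁆ ≤
    (Cfsg.pPrimeCore q ↥(Cfsg.pPrimeCore p G)).map (Cfsg.pPrimeCore p G).subtype := by
  set H : Subgroup G := Cfsg.pPrimeCore p G with hH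
  haveI hHn : H.Normal := by rw [hH]; infer_instance
  set C₁ : Subgroup G := H ⊓ Subgroup.centralizer ({z} : Set G) with hC₁
  set C₂ : Subgroup G := H ⊓ Subgroup.centralizer ((P : Subgroup G) : Set G) with hC₂
  set A : Subgroup G := (Cfsg.pPrimeCore q ↥C₁).map C₁.subtype with hA
  set B : Subgroup G := (Cfsg.pPrimeCore q ↥C₂).map C₂.subtype with hB
  set N : Subgroup G := (Cfsg.pPrimeCore q ↥H).map H.subtype with hN
  have hcop : (Nat.card ↥(P : Subgroup G)).Coprime (Nat.card H) := by
    obtain ⟨n, hn⟩ := IsPGroup.iff_card.1 P.isPGroup'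
    rw [hn]
    exact (Cores.pPrimeCore_coprime (G := G) p).symm.pow_left n
  have hqc : ∀ (X : Subgroup G) (C : Subgroup ↥X), C = Cfsg.pPrimeCore q ↥X →
      (Nat.card (C.map X.subtype)).Coprime q := by
    rintro X C rfl
    rw [Subgroup.card_map_of_injective X.subtype_injective]
    exact Cores.pPrimeCore_coprime q
  have hAq : (Nat.card A).Coprime q := hqc C₁ _ rfl
  have hBq : (Nat.card B).Coprime q := hqc C₂ _ rfl
  have hNq : (Nat.card N).Coprime q := hqc H _ rfl
  haveI hNn : N.Normal := CoreControl.normal_map_subtype _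
  have hNH : N ≤ H := Subgroup.map_subtype_le _
  have hself : ∀ (X : Subgroup G), X ≤ Subgroup.normalizer
      (((Cfsg.pPrimeCore q ↥X).map X.subtype : Subgroup G) : Set G) := fun X x hx => by
    rw [Subgroup.mem_normalizer_iff]
    intro y
    have hn : (Cfsg.pPrimeCore q ↥X).Normal := inferInstance
    constructor
    · rintro ⟨w, hw, rfl⟩
      exact ⟨⟨x, hx⟩ * w * ⟨x, hx⟩⁻¹, hn.conj_mem w hw _, rfl⟩
    · rintro ⟨w, hw, hweq⟩
      refine ⟨⟨x, hx⟩⁻¹ * w * ⟨x, hx⟩⁻¹⁻¹, hn.conj_mem w hw _, ?_⟩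
      simp only [Subgroup.coe_subtype, Subgroup.coe_mul, Subgroup.coe_inv] at hweq ⊢
      rw [hweq]
      group
  have hAP : ((P : Subgroup G)) ≤ Subgroup.normalizer (A : Set G) := by
    refine le_trans ?_ (Balance.le_normalizer_map_characteristic (S := C₁) (Cfsg.pPrimeCore q ↥C₁))
    refine Coprime.le_normalizer_inf ?_ ?_
    · intro x _
      exact (Subgroup.normalizer_eq_top (H := H)) ▸ Subgroup.mem_top x
    · intro x hx
      apply Subgroup.le_normalizer
      rw [Subgroup.mem_centralizer_singleton_iff]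
      exact (Subgroup.mem_centralizer_iff.1 hzP x hx)
  set f := QuotientGroup.mk' N with hf
  have hfs : Function.Surjective f := QuotientGroup.mk'_surjective N
  haveI : (H.map f).Normal := hHn.map f hfs
  have hzpow : IsPGroup q (Subgroup.zpowers z) := by
    obtain ⟨k, hk⟩ := hz
    exact IsPGroup.of_card (n := k) (by rw [Nat.card_zpowers, hk])
  have hker : ∀ x : G, f x = 1 → x ∈ N := fun x hx => (QuotientGroup.eq_one_iff x).1 hx
  have hmain := CoreControl.core_free_case (p := p) (q := q) (H.map f) ((P : Subgroup G).map f)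
    (by rw [← Subgroup.map_sup, hPH, Subgroup.map_top_of_surjective f hfs])
    (P.isPGroup'.map f)
    (Nat.Coprime.of_dvd (Subgroup.card_map_dvd _ f) (Subgroup.card_map_dvd _ f) hcop)
    (by
      rw [← Subgroup.map_commutator]
      haveI := hsol
      exact Coprime.isSolvable_map f _)
    (by
      intro M hM hMH hMq
      have hle : M.comap f ≤ H := fun x hx => by
        obtain ⟨h, hh, he⟩ := hMH hx
        have : h⁻¹ * x ∈ N := hker _ (by rw [map_mul, map_inv, he, inv_mul_cancel])
        have := H.mul_mem hh (hNH this)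
        rwa [mul_inv_cancel_left] at this
      haveI : (M.comap f).Normal := hM.comap f
      have hcard : (Nat.card (M.comap f)).Coprime q := by
        have hNM : N ≤ M.comap f := fun x hx => by
          rw [Subgroup.mem_comap, show f x = 1 from (QuotientGroup.eq_one_iff x).2 hx]
          exact M.one_mem
        have h1 := Subgroup.relIndex_mul_relIndex (⊥ : Subgroup G) _ (M.comap f) bot_le hNM
        rw [Subgroup.relIndex_bot_left, Subgroup.relIndex_bot_left] at h1
        rw [← h1]
        refine hNq.mul_left ?_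
        have h3 := Subgroup.relIndex_comap (⊥ : Subgroup (G ⧸ N)) f (M.comap f)
        rw [MonoidHom.comap_bot, hf, QuotientGroup.ker_mk',
          Subgroup.map_comap_eq_self_of_surjective hfs, Subgroup.relIndex_bot_left] at h3
        rw [h3]
        exact hMq
      have h4 : M.comap f ≤ N := by
        have : (M.comap f).subgroupOf H ≤ Cfsg.pPrimeCore q ↥H := Cores.le_pPrimeCore (by
          rw [Nat.card_congr (Subgroup.subgroupOfEquivOfLe hle).toEquiv]
          exact hcard)
        have := Subgroup.map_mono (f := H.subtype) this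
        rwa [Subgroup.map_subgroupOf_eq_of_le hle] at this
      rw [← Subgroup.map_comap_eq_self_of_surjective hfs M, ← le_bot_iff]
      refine (Subgroup.map_mono h4).trans (le_of_eq ?_)
      rw [hf, QuotientGroup.map_mk'_self])
    (z := f z) (Subgroup.mem_map_of_mem f hzH)
    (by rw [← MonoidHom.map_zpowers]; exact hzpow.map f)
    (A.map f) (B.map f)
    (by
      rintro _ ⟨a, ha, rfl⟩
      have ha' := (Subgroup.map_subtype_le (H := C₁) (Cfsg.pPrimeCore q ↥C₁)) ha
      refine ⟨Subgroup.mem_map_of_mem f ha'.1, Subgroup.mem_centralizer_singleton_iff.2 ?_⟩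
      rw [ ← map_mul, ← map_mul,
        Subgroup.mem_centralizer_singleton_iff.1 ha'.2])
    (hAq.coprime_dvd_left (Subgroup.card_map_dvd _ f))
    (by
      rintro y ⟨⟨h, hh, rfl⟩, hy⟩
      have hy' := Subgroup.mem_centralizer_singleton_iff.1 hy
      have hdiff : ∀ a ∈ Subgroup.zpowers z, h⁻¹ * (a * h * a⁻¹) ∈ N := by
        intro a ha
        obtain ⟨n, rfl⟩ := Subgroup.mem_zpowers_iff.1 ha
        refine hker _ ?_
        have hc : Commute (f h) (f z ^ n) := Commute.zpow_right hy' n
        rw [map_mul, map_mul, map_mul, map_inv, map_inv, map_zpow, ← hc.eq]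
        group
      obtain ⟨n, hn, hfix⟩ := Coprime.exists_mul_fixed (A := Subgroup.zpowers z) (N := N)
        (fun x _ => (Subgroup.normalizer_eq_top (H := N)) ▸ Subgroup.mem_top x)
        (by
          obtain ⟨k, hk⟩ := hz
          rw [Nat.card_zpowers, hk]
          exact hNq.symm.pow_left k)
        (Or.inl (Coprime.isSolvable_zpowers z)) hdiff
      have hmem : h * n ∈ C₁ := ⟨H.mul_mem hh (hNH hn),
        Subgroup.centralizer_le (Set.singleton_subset_iff.2 (Subgroup.mem_zpowers z)) hfix⟩
      have : f h = f (h * n) := by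
        rw [map_mul, show f n = 1 from (QuotientGroup.eq_one_iff n).2 hn, mul_one]
      rw [this]
      exact Subgroup.le_normalizer_map f (Subgroup.mem_map_of_mem f (hself C₁ hmem)))
    ((Subgroup.map_mono hAP).trans (Subgroup.le_normalizer_map f))
    (by
      rintro _ ⟨b, hb, rfl⟩
      have hb' := (Subgroup.map_subtype_le (H := C₂) (Cfsg.pPrimeCore q ↥C₂)) hb
      refine ⟨Subgroup.mem_map_of_mem f hb'.1, Subgroup.mem_centralizer_iff.2 ?_⟩
      rintro _ ⟨x, hx, rfl⟩
      rw [← map_mul, ← map_mul, Subgroup.mem_centralizer_iff.1 hb'.2 x hx])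
    (hBq.coprime_dvd_left (Subgroup.card_map_dvd _ f))
    (by
      rintro y ⟨⟨h, hh, rfl⟩, hy⟩
      have hdiff : ∀ a ∈ (P : Subgroup G), h⁻¹ * (a * h * a⁻¹) ∈ N := by
        intro a ha
        refine hker _ ?_
        rw [map_mul, map_mul, map_mul, map_inv, map_inv,
          Subgroup.mem_centralizer_iff.1 hy (f a) (Subgroup.mem_map_of_mem f ha)]
        group
      obtain ⟨n, hn, hfix⟩ := Coprime.exists_mul_fixed (A := (P : Subgroup G)) (N := N)
        (fun x _ => (Subgroup.normalizer_eq_top (H := N)) ▸ Subgroup.mem_top x)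
        (hcop.coprime_dvd_right (Subgroup.card_dvd_of_le hNH))
        (Or.inl (Coprime.isSolvable_of_isPGroup P.isPGroup')) hdiff
      have hmem : h * n ∈ C₂ := ⟨H.mul_mem hh (hNH hn), hfix⟩
      have : f h = f (h * n) := by
        rw [map_mul, show f n = 1 from (QuotientGroup.eq_one_iff n).2 hn, mul_one]
      rw [this]
      exact Subgroup.le_normalizer_map f (Subgroup.mem_map_of_mem f (hself C₂ hmem)))
  refine sup_le ?_ ?_
  · intro x hx
    refine hker x (Subgroup.mem_bot.1 (hmain.2 ▸ ?_))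
    exact ⟨Subgroup.mem_map_of_mem f hx.1, Subgroup.mem_map_of_mem f hx.2⟩
  · intro x hx
    refine hker x (Subgroup.mem_bot.1 (hmain.1 ▸ ?_))
    rw [← Subgroup.map_commutator]
    exact Subgroup.mem_map_of_mem f hx

end Cfsg.Agent.S3819
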