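import Cfsg.Statements.S3820
import Cfsg.Agent.Lib.Coprime.Conjugacy

set_option autoImplicit false
set_option linter.style.haveILetI false
open Cfsg

namespace Cfsg.Agent.S3820

open scoped Pointwise


/-- Call a subgroup H of G pronormal if H and gHg⁻¹ are conjugate inside ⟨H, gHg⁻¹⟩ for every g ∈ G. Let S ≤ H ≤ G be subgroups of a finite group with S pronormal in G (for instance S a Sylow subgroup). Then H is pronormal in G if and only if H and gHg⁻¹ are conjugate inside ⟨H, gHg⁻¹⟩ for every g ∈ N_G(S). In particular H is pronormal whenever N_G(S) ≤ H. -/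
theorem result {G : Type*} [Group G] [Finite G] (S H : Subgroup G) (hSH : S ≤ H)
    (hS : Cfsg.IsPronormal S) :
    Cfsg.IsPronormal H ↔
      ∀ g ∈ Subgroup.normalizer (S : Set G), ∃ w ∈ H ⊔ H.map (MulAut.conj g).toMonoidHom,
        H.map (MulAut.conj g).toMonoidHom = H.map (MulAut.conj w).toMonoidHom := ⟨fun hH g _ => hH g, fun h g => by
  obtain ⟨x, hx, hxS⟩ := hS g
  have hc : ∀ (a : G) (K : Subgroup G), K.map (MulAut.conj a).toMonoidHom = MulAut.conj a • K :=
    fun _ _ => rfl
  simp only [hc] at hxS hx h ⊢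
  set n := x⁻¹ * g with hn
  have hnS : n ∈ Subgroup.normalizer (S : Set G) := by
    apply Lib.Coprime.mem_normalizer_of_conj_smul_eq
    rw [hn, map_mul, mul_smul, hxS, ← mul_smul, ← map_mul, inv_mul_cancel, map_one, one_smul]
  obtain ⟨w, hw, hwH⟩ := h n hnS
  have hxJ : x ∈ H ⊔ MulAut.conj g • H :=
    sup_le_sup hSH (Subgroup.pointwise_smul_le_pointwise_smul_iff.2 hSH) hx
  have hle : H ⊔ MulAut.conj n • H ≤ H ⊔ MulAut.conj g • H := by
    refine sup_le le_sup_left ?_
    intro y hy
    rw [Lib.Coprime.mem_conj_smul] at hy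
    have h2 : x * y * x⁻¹ ∈ MulAut.conj g • H := by
      rw [Lib.Coprime.mem_conj_smul]
      simpa [hn, mul_assoc] using hy
    have h3 := mul_mem (mul_mem (inv_mem hxJ) (Subgroup.mem_sup_right (S := H) h2)) hxJ
    simpa [mul_assoc] using h3
  refine ⟨x * w, mul_mem hxJ (hle hw), ?_⟩
  rw [map_mul, mul_smul, ← hwH, ← mul_smul, ← map_mul, hn, mul_inv_cancel_left]⟩

end Cfsg.Agent.S3820
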