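import Cfsg.Statements.S3821
import Cfsg.Agent.Lib.Coprime.Conjugacy

set_option autoImplicit false
set_option linter.style.haveILetI false
open Cfsg

namespace Cfsg.Agent.S3821

open scoped Pointwise

variable {G : Type*} [Group G]

theorem map_sub (A H : Subgroup G) (hHA : H ≤ A) (a : A) :
    ((H.subgroupOf A).map (MulAut.conj a).toMonoidHom).map A.subtype =
      H.map (MulAut.conj (a : G)).toMonoidHom := by
  conv_rhs => rw [← Subgroup.map_subgroupOf_eq_of_le hHA]
  rw [Subgroup.map_map, Subgroup.map_map]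
  rfl


/-- Let A be a normal subgroup of the finite group G and H a subgroup of A. Then H is pronormal in G (H and gHg⁻¹ conjugate inside ⟨H, gHg⁻¹⟩ for every g ∈ G) if and only if H is pronormal in A and G = A · N_G(H). -/
theorem result {G : Type*} [Group G] [Finite G] (A H : Subgroup G) [A.Normal] (hHA : H ≤ A) :
    Cfsg.IsPronormal H ↔ (Cfsg.IsPronormal (H.subgroupOf A) ∧ A ⊔ Subgroup.normalizer (H : Set G) = ⊤) := by
  constructor
  · intro hH
    refine ⟨fun a => ?_, ?_⟩
    · obtain ⟨x, hx, hxH⟩ := hH a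
      have hle : H ⊔ H.map (MulAut.conj (a : G)).toMonoidHom ≤ A :=
        sup_le hHA (Subgroup.map_le_iff_le_comap.2 fun h hh =>
          A.mul_mem (A.mul_mem a.2 (hHA hh)) (A.inv_mem a.2))
      refine ⟨⟨x, hle hx⟩, ?_, ?_⟩
      · have h1 : (⟨x, hle hx⟩ : A) ∈ (H ⊔ H.map (MulAut.conj (a : G)).toMonoidHom).comap A.subtype := hx
        rwa [← map_sub A H hHA, ← Subgroup.map_subgroupOf_eq_of_le hHA, ← Subgroup.map_sup,
          Subgroup.map_subgroupOf_eq_of_le hHA,
          Subgroup.comap_map_eq_self_of_injective A.subtype_injective] at h1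
      · apply Subgroup.map_injective A.subtype_injective
        rw [map_sub A H hHA, map_sub A H hHA]
        exact hxH
    · rw [eq_top_iff]
      intro g _
      obtain ⟨x, hx, hxH⟩ := hH g
      have hle : H ⊔ H.map (MulAut.conj g).toMonoidHom ≤ A :=
        sup_le hHA (Subgroup.map_le_iff_le_comap.2 fun h hh =>
          Subgroup.Normal.conj_mem ‹_› h (hHA hh) g)
      have hn : x⁻¹ * g ∈ Subgroup.normalizer (H : Set G) := by
        apply Lib.Coprime.mem_normalizer_of_conj_smul_eq
        have h2 : MulAut.conj g • H = MulAut.conj x • H := hxH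
        rw [map_mul, mul_smul, h2, ← mul_smul, ← map_mul, inv_mul_cancel, map_one, one_smul]
      simpa using mul_mem (Subgroup.mem_sup_left (hle hx)) (Subgroup.mem_sup_right (S := A) hn)
  · rintro ⟨hA, hsup⟩ g
    obtain ⟨a, ha, n, hn, rfl⟩ : g ∈ (↑A * ↑(Subgroup.normalizer (H : Set G)) : Set G) := by
      rw [← Subgroup.normal_mul, hsup]; trivial
    have hg : H.map (MulAut.conj (a * n)).toMonoidHom = H.map (MulAut.conj a).toMonoidHom := by
      show MulAut.conj (a * n) • H = MulAut.conj a • H
      rw [map_mul, mul_smul, Lib.Coprime.conj_smul_eq_self_of_mem_normalizer hn]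
    obtain ⟨x, hx, hxH⟩ := hA ⟨a, ha⟩
    refine ⟨x, ?_, ?_⟩
    · have h1 := Subgroup.mem_map_of_mem A.subtype hx
      rw [Subgroup.map_sup, map_sub A H hHA, Subgroup.map_subgroupOf_eq_of_le hHA] at h1
      rw [hg]
      exact h1
    · have h1 := congrArg (Subgroup.map A.subtype) hxH
      rw [map_sub A H hHA, map_sub A H hHA] at h1
      rw [hg, h1]

end Cfsg.Agent.S3821
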