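import Cfsg.Statements.S3822
import Cfsg.Agent.Lib.Flavell19.Centralize
import Cfsg.Agent.Lib.Flavell19.FittingJoin
-- import your own Cfsg.Agent.* helpers here

set_option autoImplicit false
open Cfsg

namespace Cfsg.Agent.S3822

/-- Let G be a finite group and P a subgroup of prime order p > 3. Consider the solvable subgroups A of G of the form A = ⟨P, aPa⁻¹⟩ for some a ∈ A, and let A be maximal under inclusion among them. Then for every nilpotent subgroup V of G normalized by A, the subgroup F(A)V generated by the Fitting subgroup of A and V is nilpotent. -/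
theorem result {G : Type*} [Group G] [Finite G]
    {p : ℕ} [Fact p.Prime] (hp : 3 < p) (P : Subgroup G) (hP : Nat.card P = p) (A : Subgroup G)
    (hA : Group.IsSolvable ↥A ∧ ∃ a ∈ A, A = P ⊔ P.map (MulAut.conj a).toMonoidHom)
    (hmax : ∀ B : Subgroup G, A ≤ B → Group.IsSolvable ↥B → (∃ b ∈ B, B = P ⊔ P.map (MulAut.conj b).toMonoidHom) → B = A)
    (V : Subgroup G) (hV : Group.IsNilpotent ↥V) (hAV : A ≤ Subgroup.normalizer (V : Set G)) :
    Group.IsNilpotent ↥((Cfsg.fittingSubgroup ↥A).map A.subtype ⊔ V) := by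
  classical
  obtain ⟨hAsol, a, haA, hgen⟩ := hA
  haveI := hAsol
  obtain ⟨x, hxP, hx⟩ : ∃ x ∈ P, orderOf x = p := by
    obtain ⟨x, hx⟩ := exists_prime_orderOf_dvd_card' (G := P) p hP.symm.dvd
    exact ⟨x, x.2, by rwa [Subgroup.orderOf_coe]⟩
  have hPx : P = Subgroup.zpowers x := by
    refine (Subgroup.eq_of_le_of_card_ge (Subgroup.zpowers_le.mpr hxP) ?_).symm
    rw [Nat.card_zpowers, hx, hP]
  have hconj : ∀ b : G, P ⊔ P.map (MulAut.conj b).toMonoidHom =
      Subgroup.zpowers x ⊔ Subgroup.zpowers (b * x * b⁻¹) := fun b => by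
    rw [hPx, MonoidHom.map_zpowers]; rfl
  rw [hconj] at hgen
  have hmax' : ∀ B : Subgroup G, A ≤ B → Group.IsSolvable B →
      (∃ b ∈ B, B = Subgroup.zpowers x ⊔ Subgroup.zpowers (b * x * b⁻¹)) → B = A :=
    fun B h1 h2 ⟨b, hb, h3⟩ => hmax B h1 h2 ⟨b, hb, h3.trans (hconj b).symm⟩
  exact Lib.Flavell19.FittingJoin.isNilpotent_sup A V hV hAV
    fun q r hq hr hqr Q U hQA hQn hQ hU hAU => by
      haveI := Fact.mk hq
      haveI := Fact.mk hr
      exact Lib.Flavell19.Centralize.centralize Fact.out hp x a hx A haA hgen hmax' hqr Q hQA hQn hQ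
        _ U rfl hU hAU

end Cfsg.Agent.S3822
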