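import Cfsg.Statements.S3824
import Cfsg.Agent.Lib.Induced.Burnside

set_option autoImplicit false
set_option linter.style.haveILetI false
open Cfsg

namespace Cfsg.Agent.S3824

universe u

theorem aux (n : ℕ) : ∀ (G : Type u) [Group G] [Finite G] (A : Subgroup G), Nat.card G = n →
    IsMulCommutative A → (∃ k : ℕ, A.index = 2 ^ k) → Group.IsSolvable G := by
  induction n using Nat.strong_induction_on with
  | _ n ih =>
  intro G _ _ A hn hA hidx
  obtain ⟨k, hk⟩ := hidx
  haveI := hA
  rcases subsingleton_or_nontrivial G with hs | hs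
  · exact Group.isSolvable_of_comm fun x y => Subsingleton.elim _ _
  by_cases hsimple : IsSimpleGroup G
  · by_cases hbot : A = ⊥
    · subst hbot
      rw [Subgroup.index_bot] at hk
      haveI : Fact (Nat.Prime 2) := ⟨Nat.prime_two⟩
      haveI := (IsPGroup.of_card hk).isNilpotent
      infer_instance
    obtain ⟨a, ha, hne⟩ := (Subgroup.ne_bot_iff_exists_ne_one.1 hbot).elim fun a h =>
      (⟨(a : G), a.2, fun hc => h (Subtype.ext hc)⟩ : ∃ a : G, a ∈ A ∧ a ≠ 1)
    have hle : A ≤ Subgroup.centralizer ({a} : Set G) := fun b hb => by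
      rw [Subgroup.mem_centralizer_singleton_iff]
      exact congrArg Subtype.val (mul_comm' (⟨b, hb⟩ : A) ⟨a, ha⟩)
    obtain ⟨j, -, hj⟩ := (Nat.dvd_prime_pow Nat.prime_two).1 (hk ▸ Subgroup.index_dvd_of_le hle)
    have hprime := Lib.Induced.Burnside.prime_card_of_class_primePow Nat.prime_two hne hj
    haveI := Fact.mk hprime
    haveI := isCyclic_of_prime_card (α := G) rfl
    exact Group.isSolvable_of_comm fun x y => by
      obtain ⟨g, hg⟩ := IsCyclic.exists_generator (α := G)
      obtain ⟨i, rfl⟩ := hg x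
      obtain ⟨j, rfl⟩ := hg y
      exact zpow_mul_comm g i j
  · obtain ⟨N, hN, hbot, htop⟩ : ∃ N : Subgroup G, N.Normal ∧ N ≠ ⊥ ∧ N ≠ ⊤ := by
      by_contra hcon
      push Not at hcon
      exact hsimple ⟨fun N hN => or_iff_not_imp_left.2 fun h => hcon N hN h⟩
    haveI := hN
    have hN1 : Nat.card N < n := by
      rw [← hn]
      refine lt_of_le_of_ne (Subgroup.card_le_card_group N) fun he => htop ?_
      exact (Subgroup.card_eq_iff_eq_top N).1 he
    have hN2 : Nat.card (G ⧸ N) < n := by
      rw [← hn, Subgroup.card_eq_card_quotient_mul_card_subgroup N]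
      exact lt_mul_of_one_lt_right Nat.card_pos ((Subgroup.one_lt_card_iff_ne_bot N).2 hbot)
    haveI : IsMulCommutative (A.subgroupOf N) :=
      ⟨⟨fun x y => Subtype.ext (Subtype.ext (congrArg Subtype.val
        (mul_comm' (⟨((x : N) : G), x.2⟩ : A) ⟨((y : N) : G), y.2⟩) :
          ((x : N) : G) * ((y : N) : G) = ((y : N) : G) * ((x : N) : G)))⟩⟩
    have hdvd1 : (A.subgroupOf N).index ∣ A.index := by
      show A.relIndex N ∣ A.index
      have h1 := Subgroup.relIndex_mul_relIndex (A ⊓ N) A (A ⊔ N) inf_le_left le_sup_left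
      have h2 := Subgroup.relIndex_mul_relIndex (A ⊓ N) N (A ⊔ N) inf_le_right le_sup_right
      rw [Subgroup.inf_relIndex_left] at h1
      rw [Subgroup.inf_relIndex_right, Subgroup.relIndex_sup_right, ← h1, mul_comm] at h2
      have h3 : A.relIndex N = A.relIndex (A ⊔ N) :=
        Nat.eq_of_mul_eq_mul_left (Nat.pos_of_ne_zero (Subgroup.FiniteIndex.index_ne_zero)) h2
      rw [h3]
      exact Dvd.intro _ (Subgroup.relIndex_mul_index le_sup_left)
    haveI : Group.IsSolvable N := ih _ hN1 N (A.subgroupOf N) rfl inferInstance (by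
      obtain ⟨j, -, hj⟩ := (Nat.dvd_prime_pow Nat.prime_two).1 (hk ▸ hdvd1)
      exact ⟨j, hj⟩)
    haveI : Group.IsSolvable (G ⧸ N) := ih _ hN2 (G ⧸ N) (A.map (QuotientGroup.mk' N)) rfl
      inferInstance (by
      obtain ⟨j, -, hj⟩ := (Nat.dvd_prime_pow Nat.prime_two).1
        (hk ▸ Subgroup.index_map_dvd A (QuotientGroup.mk'_surjective N))
      exact ⟨j, hj⟩)
    exact (Group.isSolvable_iff_subgroup_quotient N).2 ⟨inferInstance, inferInstance⟩


/-- Every finite group having an abelian subgroup whose index is a power of 2 is solvable. -/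
theorem result {G : Type*} [Group G] [Finite G]
    (A : Subgroup G) (hA : IsMulCommutative A) (hidx : ∃ k : ℕ, A.index = 2 ^ k) : Group.IsSolvable G := aux _ G A rfl hA hidx

end Cfsg.Agent.S3824
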