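import Cfsg.Statements.S3825
import Mathlib
-- import your own Cfsg.Agent.* helpers here

set_option autoImplicit false
open Cfsg
open scoped commutatorElement

namespace Cfsg.Agent.S3825

/-- Let U be a subgroup of a finite group H and w an involution of H normalizing U and commuting with exactly two elements of U, the identity and y. If V is a non-cyclic elementary abelian 2-subgroup of U containing y which is normal in U and invariant under w, then V is a Sylow 2-subgroup of U, V has order 4, and U/V is abelian. -/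
theorem result {H : Type*} [Group H] [Finite H] (U : Subgroup H) (w : H) (hw : orderOf w = 2)
    (hwU : w ∈ Subgroup.normalizer (U : Set H)) (y : H) (hy : y ≠ 1) (hyU : y ∈ U)
    (hfix : ∀ u ∈ U, w * u * w⁻¹ = u ↔ (u = 1 ∨ u = y))
    (V : Subgroup H) (hVU : V ≤ U) (hVn : (V.subgroupOf U).Normal) (hVw : ∀ v ∈ V, w * v * w⁻¹ ∈ V)
    (hVe : Cfsg.IsElementaryAbelian 2 V) (hVc : ¬ IsCyclic ↥V) (hyV : y ∈ V) :
    ¬ 2 ∣ V.relIndex U ∧ Nat.card ↥V = 4 ∧ ⁅U, U⁆ ≤ V := by
  have hw2 : w * w = 1 := by rw [← sq, ← hw, pow_orderOf_eq_one]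
  have hwi : w⁻¹ = w := inv_eq_of_mul_eq_one_right hw2
  obtain ⟨hcomm, hexp⟩ := hVe
  have hc : ∀ a ∈ V, ∀ b ∈ V, a * b = b * a := fun a ha b hb =>
    congrArg Subtype.val (hcomm.is_comm.comm (⟨a, ha⟩ : V) ⟨b, hb⟩)
  have hinvV : ∀ a ∈ V, a⁻¹ = a := fun a ha =>
    inv_eq_of_mul_eq_one_right (by rw [← sq]; exact hexp a ha)
  -- the map `v ↦ v (w v w⁻¹)` on `V`
  let d : V →* V := MonoidHom.mk' (fun v => ⟨(v : H) * (w * v * w⁻¹), mul_mem v.2 (hVw v v.2)⟩)
    fun a b => Subtype.ext (by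
      simp only [Subgroup.coe_mul]
      rw [show w * ((a : H) * b) * w⁻¹ = (w * a * w⁻¹) * (w * b * w⁻¹) by group]
      rw [mul_assoc (a : H) b, ← mul_assoc (b : H), hc b b.2 _ (hVw a a.2)]
      simp only [mul_assoc])
  have hker : ∀ v : V, v ∈ d.ker ↔ ((v : H) = 1 ∨ (v : H) = y) := by
    intro v
    rw [MonoidHom.mem_ker, ← hfix _ (hVU v.2)]
    constructor
    · intro h
      have h' : (v : H) * (w * v * w⁻¹) = 1 := congrArg Subtype.val h
      rw [eq_inv_of_mul_eq_one_right h', hinvV _ v.2]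
    · intro h
      refine Subtype.ext ?_
      show (v : H) * (w * v * w⁻¹) = 1
      rw [h]
      nth_rw 1 [← hinvV _ v.2]
      exact inv_mul_cancel _
  have himg : ∀ v : V, d v ∈ d.ker := by
    intro v
    rw [hker, ← hfix _ (hVU (d v).2)]
    show w * ((v : H) * (w * v * w⁻¹)) * w⁻¹ = (v : H) * (w * v * w⁻¹)
    rw [hc _ v.2 _ (hVw v v.2)]
    rw [show w * ((w * (v : H) * w⁻¹) * v) * w⁻¹ = (w * w) * v * (w * w)⁻¹ * (w * v * w⁻¹) by group,
      hw2]
    simp only [one_mul, inv_one, mul_one]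
    exact hc _ v.2 _ (hVw v v.2)
  have hyd : (⟨y, hyV⟩ : V) ∈ d.ker := (hker _).mpr (Or.inr rfl)
  have hk2 : Nat.card d.ker = 2 := by
    refine le_antisymm ?_ ?_
    · rw [← Set.ncard_pair hy.symm, ← Nat.card_coe_set_eq]
      refine Nat.card_le_card_of_injective
        (fun k : d.ker => (⟨(k : V), by
          rcases (hker k).mp k.2 with h | h <;> simp [h]⟩ : ({1, y} : Set H))) ?_
      intro a b hab
      exact Subtype.ext (Subtype.ext (congrArg (fun x : ({1, y} : Set H) => (x : H)) hab))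
    · have : Nontrivial d.ker := ⟨⟨⟨_, hyd⟩, 1, fun h => hy (congrArg (fun k : d.ker => ((k : V) : H)) h)⟩⟩
      exact Finite.one_lt_card
  have hrange : d.range ≤ d.ker := by rintro _ ⟨v, rfl⟩; exact himg v
  have hcard : Nat.card V = Nat.card d.range * 2 := by
    rw [← hk2, ← Subgroup.index_ker, mul_comm, Subgroup.card_mul_index]
  have hr : Nat.card d.range = 2 := by
    have hle : Nat.card d.range ≤ 2 := hk2 ▸ Nat.le_of_dvd Nat.card_pos (Subgroup.card_dvd_of_le hrange)
    have hpos : 0 < Nat.card d.range := Nat.card_pos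
    by_contra hne
    exact hVc (haveI := Fact.mk Nat.prime_two
      isCyclic_of_prime_card (p := 2) (by rw [hcard]; omega))
  have hsurj : ∀ v ∈ V, (v = 1 ∨ v = y) → ∃ s ∈ V, s * (w * s * w⁻¹) = v := by
    intro v hv h
    have : (⟨v, hv⟩ : V) ∈ d.range := by
      rw [Subgroup.eq_of_le_of_card_ge hrange (by rw [hr, hk2])]
      exact (hker _).mpr h
    obtain ⟨s, hs⟩ := this
    exact ⟨s, s.2, congrArg Subtype.val hs⟩
  -- the induced involution on `U / V`
  let σ : U →* U := MonoidHom.mk' (fun u => ⟨w * u * w⁻¹, (Subgroup.mem_normalizer_iff.mp hwU u).mp u.2⟩)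
    fun a b => Subtype.ext (by simp only [Subgroup.coe_mul]; group)
  have hσV : V.subgroupOf U ≤ (V.subgroupOf U).comap σ := fun u hu => hVw _ hu
  let φ : U ⧸ V.subgroupOf U →* U ⧸ V.subgroupOf U := QuotientGroup.map _ _ σ hσV
  have hinv : Function.Involutive φ := by
    intro q
    induction q using QuotientGroup.induction_on with | H u => ?_
    show ((σ (σ u) : U) : U ⧸ V.subgroupOf U) = _
    congr 1
    refine Subtype.ext ?_
    show w * (w * (u : H) * w⁻¹) * w⁻¹ = u
    rw [show w * (w * (u : H) * w⁻¹) * w⁻¹ = (w * w) * u * (w * w)⁻¹ by group, hw2]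
    simp
  have hfpf : MonoidHom.FixedPointFree φ := by
    intro q
    induction q using QuotientGroup.induction_on with | H u => ?_
    intro hq
    have hv : (u : H)⁻¹ * (w * u * w⁻¹) ∈ V := (QuotientGroup.eq.mp hq.symm :)
    obtain ⟨v, hvdef⟩ : ∃ v, v = (u : H)⁻¹ * (w * u * w⁻¹) := ⟨_, rfl⟩
    rw [← hvdef] at hv
    have hu : w * (u : H) * w⁻¹ = u * v := by rw [hvdef, mul_inv_cancel_left]
    have hfixv : w * v * w⁻¹ = v := by
      calc w * v * w⁻¹ = (w * u * w⁻¹)⁻¹ * ((w * w) * u * (w * w)⁻¹) := by rw [hvdef]; group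
        _ = ((u : H) * v)⁻¹ * u := by rw [hu, hw2]; simp
        _ = v := by rw [mul_inv_rev, inv_mul_cancel_right, hinvV _ hv]
    obtain ⟨s, hs, hsv⟩ := hsurj v hv ((hfix v (hVU hv)).mp hfixv)
    have hus : w * ((u : H) * s) * w⁻¹ = u * s := by
      rw [show w * ((u : H) * s) * w⁻¹ = (w * u * w⁻¹) * (w * s * w⁻¹) by group, hu, ← hsv]
      rw [mul_assoc, mul_assoc]
      congr 1
      conv_rhs => rw [← mul_one s]
      congr 1
      rw [← sq]
      exact hexp _ (hVw s hs)
    have husV : (u : H) * s ∈ V := by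
      rcases (hfix _ (mul_mem u.2 (hVU hs))).mp hus with h | h <;> rw [h]
      exacts [one_mem V, hyV]
    refine (QuotientGroup.eq_one_iff u).mpr ?_
    show (u : H) ∈ V
    simpa using mul_mem husV (inv_mem hs)
  refine ⟨?_, by rw [hcard, hr], ?_⟩
  · rw [← Nat.odd_iff.trans (Nat.two_dvd_ne_zero).symm]
    exact hfpf.odd_card_of_involutive hinv
  · rw [Subgroup.commutator_le]
    intro a ha b hb
    have := (hfpf.commute_all_of_involutive hinv (QuotientGroup.mk (⟨a, ha⟩ : U)) (QuotientGroup.mk ⟨b, hb⟩))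
    have h2 : ((⁅(⟨a, ha⟩ : U), ⟨b, hb⟩⁆ : U) : U ⧸ V.subgroupOf U) = 1 :=
      (map_commutatorElement (QuotientGroup.mk' _) _ _).trans (commutatorElement_eq_one_iff_commute.mpr this)
    exact ((QuotientGroup.eq_one_iff _).mp h2 :)

end Cfsg.Agent.S3825
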