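import Cfsg.Statements.S3838
import Cfsg.Agent.Lib.Transfer.Tate
import Cfsg.Agent.Lib.Transfer.PResidual

set_option autoImplicit false
set_option linter.style.haveILetI false
open Cfsg

namespace Cfsg.Agent.S3838

open Lib.Transfer


/-- Let G be a finite group with Sylow p-subgroup P such that N_G(P) has a normal p-complement. Then N_G(Q) has a normal p-complement for every subgroup Q with [P, P] ≤ Q ≤ Φ(P). -/
theorem result {G : Type*} [Group G] [Finite G] {p : ℕ} [Fact p.Prime] (P : Sylow p G) (hN : Cfsg.HasNormalPComplement p ↥(Subgroup.normalizer ((P : Subgroup G) : Set G))) (Q : Subgroup G) (h1 : (commutator ↥(P : Subgroup G)).map (P : Subgroup G).subtype ≤ Q) (h2 : Q ≤ (frattini ↥(P : Subgroup G)).map (P : Subgroup G).subtype) : Cfsg.HasNormalPComplement p ↥(Subgroup.normalizer (Q : Set G)) := by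
  let P₀ : Subgroup G := (P : Subgroup G)
  have hQP : Q ≤ P₀ := h2.trans (Subgroup.map_subtype_le _)
  have hPQ : P₀ ≤ Subgroup.normalizer (Q : Set G) := by
    refine Subgroup.le_normalizer_iff.2 fun g hg k hk => ?_
    have h3 : g * k * g⁻¹ * k⁻¹ ∈ Q := by
      refine h1 ⟨_, Subgroup.commutator_mem_commutator (Subgroup.mem_top (⟨g, hg⟩ : P₀))
        (Subgroup.mem_top (⟨k, hQP hk⟩ : P₀)), ?_⟩
      simp [commutatorElement_def]
    simpa using Q.mul_mem h3 hk
  let M := Subgroup.normalizer (Q : Set G)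
  let PM : Sylow p M := P.subtype hPQ
  have hPM : (PM : Subgroup M) = P₀.subgroupOf M := Sylow.coe_subtype P hPQ
  let QM : Subgroup M := Q.subgroupOf M
  haveI hQn : QM.Normal := Subgroup.normal_in_normalizer
  let π := QuotientGroup.mk' QM
  have hπ : Function.Surjective π := QuotientGroup.mk'_surjective QM
  let PB : Sylow p (M ⧸ QM) := PM.mapSurjective hπ
  have hPB : (PB : Subgroup (M ⧸ QM)) = (P₀.subgroupOf M).map π := by
    rw [← hPM]
    rfl
  have hab : ∀ a ∈ (PB : Subgroup (M ⧸ QM)), ∀ b ∈ (PB : Subgroup (M ⧸ QM)), a * b = b * a := by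
    rw [hPB]
    rintro _ ⟨a, ha, rfl⟩ _ ⟨b, hb, rfl⟩
    rw [← map_mul, ← map_mul, QuotientGroup.mk'_apply, QuotientGroup.mk'_apply, QuotientGroup.eq]
    show (((a * b)⁻¹ * (b * a) : M) : G) ∈ Q
    refine h1 ⟨(⟨(b : G), hb⟩ : P₀)⁻¹ * (⟨(a : G), ha⟩ : P₀)⁻¹ * ((⟨(b : G), hb⟩ : P₀) * ⟨(a : G), ha⟩), ?_, ?_⟩
    · have h3 := Subgroup.commutator_mem_commutator
        (Subgroup.mem_top ((⟨(b : G), hb⟩ : P₀)⁻¹)) (Subgroup.mem_top ((⟨(a : G), ha⟩ : P₀)⁻¹))
      rw [commutatorElement_def, inv_inv, inv_inv, mul_assoc _ _ (⟨(a : G), ha⟩ : P₀)] at h3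
      exact h3
    · simp [mul_assoc]
  have hcent : Subgroup.normalizer ((PB : Subgroup (M ⧸ QM)) : Set (M ⧸ QM)) ≤
      Subgroup.centralizer ((PB : Subgroup (M ⧸ QM)) : Set (M ⧸ QM)) := by
    intro y hy
    obtain ⟨x, rfl⟩ := hπ y
    have hxN : (x : G) ∈ Subgroup.normalizer (P₀ : Set G) := by
      have h3 : x ∈ Subgroup.normalizer ((P₀.subgroupOf M : Subgroup M) : Set M) := by
        have hc : ((P₀.subgroupOf M).map π).comap π = P₀.subgroupOf M := by
          rw [Subgroup.comap_map_eq, QuotientGroup.ker_mk', sup_eq_left]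
          exact Subgroup.comap_mono hQP
        rw [← hc]
        rw [hPB] at hy
        exact Subgroup.le_normalizer_comap π hy
      rw [Subgroup.mem_normalizer_iff]
      intro k
      constructor
      · intro hk
        exact (Subgroup.mem_normalizer_iff.1 h3 ⟨k, hPQ hk⟩).1 hk
      · intro hk
        have hk' : k ∈ M := by
          have := M.mul_mem (M.mul_mem (M.inv_mem x.2) (hPQ hk)) x.2
          simpa [mul_assoc] using this
        exact (Subgroup.mem_normalizer_iff.1 h3 ⟨k, hk'⟩).2 hk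
    let NP := Subgroup.normalizer (P₀ : Set G)
    obtain ⟨R, K, hK, hcompl⟩ := hN
    haveI := hK
    have hRP : (R : Subgroup NP) = P₀.subgroupOf NP := by
      haveI : ((P.subtype Subgroup.le_normalizer : Sylow p NP) : Subgroup NP).Normal :=
        Subgroup.normal_in_normalizer
      haveI := (P.subtype Subgroup.le_normalizer).unique_of_normal this
      rw [Subsingleton.elim R (P.subtype Subgroup.le_normalizer)]
      rfl
    haveI : (R : Subgroup NP).Normal := by rw [hRP]; exact Subgroup.normal_in_normalizer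
    obtain ⟨⟨⟨k, hk⟩, ⟨r, hr⟩⟩, hkr⟩ := hcompl.surjective ⟨x, hxN⟩
    have hkr' : (x : G) = (k : G) * (r : G) := (congrArg Subtype.val hkr).symm
    rw [hRP] at hr
    rw [Subgroup.mem_centralizer_iff]
    intro z hz
    rw [SetLike.mem_coe, hPB] at hz
    obtain ⟨w, hw, rfl⟩ := hz
    have hkM : (k : G) ∈ M := by
      have h4 := M.mul_mem x.2 (M.inv_mem (hPQ hr))
      simpa [hkr'] using h4
    have hx : x = (⟨k, hkM⟩ : M) * ⟨(r : G), hPQ hr⟩ := Subtype.ext hkr'
    have hkw : (k : G) * w = w * k := by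
      have h5 := Subgroup.commute_of_normal_of_disjoint K (R : Subgroup NP) hK inferInstance
        hcompl.disjoint k ⟨(w : G), Subgroup.le_normalizer hw⟩ hk (by rw [hRP]; exact hw)
      exact congrArg Subtype.val h5.eq
    rw [hx, map_mul]
    have h6 : π w * π ⟨(r : G), hPQ hr⟩ = π ⟨(r : G), hPQ hr⟩ * π w :=
      hab _ (by rw [hPB]; exact ⟨w, hw, rfl⟩) _ (by rw [hPB]; exact ⟨_, hr, rfl⟩)
    have h7 : π w * π ⟨k, hkM⟩ = π ⟨k, hkM⟩ * π w := by
      rw [← map_mul, ← map_mul]
      exact congrArg π (Subtype.ext hkw.symm)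
    rw [← mul_assoc, h7, mul_assoc, h6, mul_assoc]
  have hKc := MonoidHom.ker_transferSylow_isComplement' PB hcent
  set Kb := (MonoidHom.transferSylow PB hcent).ker with hKb
  let K : Subgroup M := Kb.comap π
  have hKn : K.Normal := inferInstance
  have hKP : K ⊓ (PM : Subgroup M) ≤ (frattini PM).map (PM : Subgroup M).subtype := by
    intro x hx
    have h3 : π x ∈ Kb ⊓ (PB : Subgroup (M ⧸ QM)) := ⟨hx.1, by rw [hPB, ← hPM]; exact ⟨x, hx.2, rfl⟩⟩
    rw [hKc.disjoint.eq_bot, Subgroup.mem_bot] at h3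
    have hxQ : (x : G) ∈ Q := (QuotientGroup.eq_one_iff x).1 h3
    obtain ⟨y, hy, hyx⟩ := h2 hxQ
    let e : P₀ →* (PM : Subgroup M) :=
      { toFun := fun z => ⟨⟨(z : G), hPQ z.2⟩, by rw [hPM]; exact z.2⟩
        map_one' := rfl
        map_mul' := fun _ _ => rfl }
    have he : Function.Surjective e := fun z => by
      refine ⟨⟨((z : M) : G), ?_⟩, rfl⟩
      have h4 : (z : M) ∈ P₀.subgroupOf M := by rw [← hPM]; exact z.2
      exact h4
    exact ⟨e y, frattini_le_comap_frattini_of_surjective he hy, Subtype.ext hyx⟩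
  have hKnpc := Tate.hasNormalPComplement_of_inf_le_frattini PM K hKP
  rw [PResidual.hasNormalPComplement_iff_not_dvd] at hKnpc
  refine PResidual.hasNormalPComplement_of_normal
    (N := (Cfsg.pResidual p K).map K.subtype) ?_ ?_
  · rwa [Subgroup.card_map_of_injective K.subtype_injective]
  · rw [IsPGroup.iff_card]
    obtain ⟨a, ha⟩ := PResidual.exists_index_eq_pow (G := K) (p := p)
    obtain ⟨b, hb⟩ := IsPGroup.iff_card.1 PB.isPGroup'
    refine ⟨a + b, ?_⟩
    rw [← Subgroup.index_eq_card, Subgroup.index_map_subtype, ha,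
      Subgroup.index_comap_of_surjective _ hπ, hKc.symm.index_eq_card, hb, pow_add]

end Cfsg.Agent.S3838
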