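import Cfsg.Statements.S3839
import Cfsg.Agent.Lib.Transfer.Frobenius
import Cfsg.Agent.Lib.CosetGraph.SylowIn
import Cfsg.Agent.Lib.PGroups.Omega

set_option autoImplicit false
open Cfsg

namespace Cfsg.Agent.S3839


open Cfsg.Agent.Lib.CosetGraph.SylowIn Cfsg.Agent.Lib.Transfer

set_option linter.unusedSectionVars false

variable {G : Type*} [Group G] [Finite G] {p : ℕ} [hp : Fact p.Prime]

/-- normal complements in the normalisers of the centric subgroups of a strongly closed subgroup -/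
structure Pair (p : ℕ) (S : Sylow p G) (D : Subgroup G) : Prop where
  closed : Cfsg.IsStronglyClosed D (S : Subgroup G)
  hyp : ∀ U : Subgroup G, U ≤ D → D ⊓ Subgroup.centralizer (U : Set G) ≤ U →
    Cfsg.HasNormalPComplement p ↥(Subgroup.normalizer (U : Set G))

theorem mem_map_conj {g x : G} {H : Subgroup G} :
    x ∈ H.map (MulAut.conj g).toMonoidHom ↔ g⁻¹ * x * g ∈ H := by
  constructor
  · rintro ⟨y, hy, rfl⟩; simpa [mul_assoc] using hy
  · intro h; exact ⟨_, h, by simp [mul_assoc]⟩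

theorem mem_normalizer_of_forall {n : G} {H : Subgroup G} (h : ∀ x ∈ H, n * x * n⁻¹ ∈ H) :
    n ∈ Subgroup.normalizer (H : Set G) := by
  rw [Subgroup.mem_normalizer_iff_map_conj_eq]
  refine Subgroup.eq_of_le_of_card_ge ?_ ?_
  · rintro _ ⟨x, hx, rfl⟩
    simpa using h x hx
  · rw [Subgroup.card_map_of_injective (MulAut.conj n).injective]

theorem conj_mem_of_normalizer {n x : G} {H : Subgroup G}
    (hn : n ∈ Subgroup.normalizer (H : Set G)) (hx : x ∈ H) : n * x * n⁻¹ ∈ H :=
  (Subgroup.mem_normalizer_iff.1 hn x).1 hx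

theorem conj_inv_mem_of_normalizer {n x : G} {H : Subgroup G}
    (hn : n ∈ Subgroup.normalizer (H : Set G)) (hx : x ∈ H) : n⁻¹ * x * n ∈ H := by
  simpa using conj_mem_of_normalizer (inv_mem hn) hx

theorem Pair.conj {S : Sylow p G} {D : Subgroup G} (h : Pair p S D) (g : G) :
    Pair p (g • S) (D.map (MulAut.conj g).toMonoidHom) := by
  have hS : ∀ x, x ∈ ((g • S : Sylow p G) : Subgroup G) ↔ g⁻¹ * x * g ∈ (S : Subgroup G) := by
    intro x
    rw [Sylow.coe_subgroup_smul, Subgroup.mem_pointwise_smul_iff_inv_smul_mem]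
    simp [MulAut.smul_def]
  refine ⟨⟨?_, ?_⟩, ?_⟩
  · intro x hx
    rw [hS]
    exact h.closed.1 (mem_map_conj.1 hx)
  · intro x hx a ha
    rw [mem_map_conj] at hx ⊢
    rw [hS] at ha
    have e : g⁻¹ * (a * x * a⁻¹) * g = (g⁻¹ * a * g) * (g⁻¹ * x * g) * (g⁻¹ * a * g)⁻¹ := by group
    rw [e] at ha ⊢
    exact h.closed.2 _ hx _ ha
  · intro U hU hc
    set e := MulAut.conj g
    set V := U.map e.symm.toMonoidHom with hV
    have hVU : V.map e.toMonoidHom = U := by
      rw [hV, Subgroup.map_map, show e.toMonoidHom.comp e.symm.toMonoidHom = MonoidHom.id G from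
        MonoidHom.ext fun x => e.apply_symm_apply x, Subgroup.map_id]
    have hVD : V ≤ D := fun x hx => by
      obtain ⟨y, hy, rfl⟩ := hx
      obtain ⟨d, hd, hde⟩ := hU hy
      rw [← hde]
      simpa using hd
    have hVc : D ⊓ Subgroup.centralizer (V : Set G) ≤ V := by
      rintro x ⟨hxD, hxC⟩
      refine ⟨e x, hc ⟨⟨x, hxD, rfl⟩, ?_⟩, by simp⟩
      change e x ∈ Subgroup.centralizer (U : Set G)
      rw [Subgroup.mem_centralizer_iff]
      intro u hu
      have h1 := Subgroup.mem_centralizer_iff.1 hxC (e.symm u) ⟨u, hu, rfl⟩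
      simpa using congrArg e h1
    have := (PResidual.hasNormalPComplement_congr
      (e.subgroupMap (Subgroup.normalizer (V : Set G)))).1 (h.hyp V hVD hVc)
    have he : (Subgroup.normalizer (V : Set G)).map (e : G ≃* G).toMonoidHom
        = Subgroup.normalizer (U : Set G) := by
      rw [← hVU, Subgroup.map_equiv_normalizer_eq]
    exact he ▸ this

/-- conjugate a pair so that the Sylow subgroup contains a given `p`-subgroup -/
theorem Pair.move {S : Sylow p G} {D : Subgroup G} (h : Pair p S D) {U T : Subgroup G}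
    (hT : IsPGroup p T) (hUT : U ≤ T) (hUD : U ≤ D) :
    ∃ (S' : Sylow p G) (D' : Subgroup G), Pair p S' D' ∧ T ≤ (S' : Subgroup G) ∧ U ≤ D' ∧
      (D ≠ ⊥ → D' ≠ ⊥) := by
  obtain ⟨R, hR⟩ := hT.exists_le_sylow
  obtain ⟨g, rfl⟩ := MulAction.exists_smul_eq G S R
  refine ⟨_, _, h.conj g, hR, fun x hx => ?_, fun hD h0 => hD
    ((Subgroup.map_eq_bot_iff_of_injective _ (MulAut.conj g).injective).1 h0)⟩
  rw [mem_map_conj]
  have h1 := hR (hUT hx)
  rw [Sylow.coe_subgroup_smul, Subgroup.mem_pointwise_smul_iff_inv_smul_mem] at h1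
  have h2 := h.closed.2 x (hUD hx) g⁻¹
  rw [inv_inv] at h2
  exact h2 (by simpa [MulAut.smul_def] using h1)

theorem eq_inter {S : Sylow p G} {T X : Subgroup G} (hT : IsSylowIn p T X)
    (hTS : T ≤ (S : Subgroup G)) : (S : Subgroup G) ⊓ X = T := by
  refine (Subgroup.eq_of_le_of_card_ge (le_inf hTS hT.le) ?_).symm
  obtain ⟨k, hk⟩ := IsPGroup.iff_card.1 (S.2.to_le (inf_le_left : (S : Subgroup G) ⊓ X ≤ S))
  rw [hk, hT.card_eq]
  refine Nat.pow_le_pow_right hp.out.pos ?_
  refine (Nat.Prime.pow_dvd_iff_le_factorization hp.out Nat.card_pos.ne').1 ?_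
  rw [← hk]
  exact Subgroup.card_dvd_of_le inf_le_right

theorem inter_normal {T X A : Subgroup G} (hT : IsSylowIn p T X) (hAX : A ≤ X)
    (hXA : X ≤ Subgroup.normalizer (A : Set G)) : IsSylowIn p (T ⊓ A) A := by
  obtain ⟨R, hR, hle⟩ := IsSylowIn.exists_le (H := A) (hT.isPGroup.to_le inf_le_left)
    (inf_le_right : T ⊓ A ≤ A)
  obtain ⟨T', hT', hRT'⟩ := IsSylowIn.exists_le (H := X) hR.isPGroup (hR.le.trans hAX)
  obtain ⟨g, hg, rfl⟩ := hT.exists_conj hT'
  have h1 : R.map (MulAut.conj g⁻¹).toMonoidHom ≤ T ⊓ A := by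
    intro y hy
    rw [mem_map_conj, inv_inv] at hy
    refine ⟨?_, ?_⟩
    · have := mem_map_conj.1 (hRT' hy)
      simpa [mul_assoc] using this
    · simpa [mul_assoc] using conj_inv_mem_of_normalizer (hXA hg) (hR.le hy)
  refine ⟨inf_le_right, le_antisymm ?_ ?_⟩
  · rw [← hR.card_eq]; exact Subgroup.card_le_of_le hle
  · rw [← hR.card_eq, ← Subgroup.card_map_of_injective (K := R)
      (f := (MulAut.conj g⁻¹).toMonoidHom) (MulAut.conj g⁻¹).injective]
    exact Subgroup.card_le_of_le h1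

theorem frattini_mem {T X A : Subgroup G} (hT : IsSylowIn p T X) (hAX : A ≤ X)
    (hXA : X ≤ Subgroup.normalizer (A : Set G)) {y : G} (hy : y ∈ X) :
    ∃ a ∈ A, ∃ n ∈ X, n ∈ Subgroup.normalizer ((T ⊓ A : Subgroup G) : Set G) ∧ y = a * n := by
  have hR := inter_normal hT hAX hXA
  have hRy : IsSylowIn p ((T ⊓ A).map (MulAut.conj y).toMonoidHom) A := by
    have := hR.conj y
    rwa [conj_map_eq_self (hXA hy)] at this
  obtain ⟨a, ha, hae⟩ := hR.exists_conj hRy
  refine ⟨a, ha, a⁻¹ * y, mul_mem (inv_mem (hAX ha)) hy, mem_normalizer_of_forall fun x hx => ?_,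
    by group⟩
  have h1 : y * x * y⁻¹ ∈ (T ⊓ A).map (MulAut.conj a).toMonoidHom := by
    rw [hae]; exact ⟨x, hx, rfl⟩
  have h2 := mem_map_conj.1 h1
  simpa [mul_assoc] using h2

/-- a `p'`-element congruent modulo `A` to an element with `p'`-part in `A` lies in `A` -/
theorem mem_of_coset {X A : Subgroup G} (hXA : X ≤ Subgroup.normalizer (A : Set G))
    {a n y : G} (hn : n ∈ X) (ha : a ∈ A) (haX : a ∈ X) (hy : y = a * n)
    (hyp : (orderOf y).Coprime p) (h : ∀ m ∈ X, m ∈ Subgroup.zpowers n → (orderOf m).Coprime p → m ∈ A) :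
    y ∈ A := by
  have : (A.subgroupOf X).Normal := Subgroup.normal_subgroupOf_of_le_normalizer hXA
  set f := QuotientGroup.mk' (A.subgroupOf X)
  have hfy : f ⟨y, hy ▸ mul_mem haX hn⟩ = f ⟨n, hn⟩ := by
    have : (⟨y, hy ▸ mul_mem haX hn⟩ : X) = ⟨a, haX⟩ * ⟨n, hn⟩ := Subtype.ext hy
    rw [this, map_mul, show f ⟨a, haX⟩ = 1 from (QuotientGroup.eq_one_iff _).2 ha, one_mul]
  set k := (orderOf n).factorization p
  have hm : (orderOf (n ^ p ^ k)).Coprime p := by
    rw [orderOf_pow_of_dvd (pow_ne_zero _ hp.out.ne_zero) (Nat.ordProj_dvd _ p)]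
    exact (Nat.coprime_ordCompl hp.out (orderOf_pos n).ne').symm
  have hmA := h _ (pow_mem hn _) (Subgroup.npow_mem_zpowers _ _) hm
  have h1 : f ⟨n, hn⟩ ^ p ^ k = 1 := by
    rw [← map_pow]; exact (QuotientGroup.eq_one_iff _).2 hmA
  have h2 : f ⟨y, hy ▸ mul_mem haX hn⟩ = 1 := by
    have d1 : orderOf (f ⟨y, hy ▸ mul_mem haX hn⟩) ∣ p ^ k :=
      orderOf_dvd_of_pow_eq_one (by rw [hfy]; exact h1)
    have d2 : orderOf (f ⟨y, hy ▸ mul_mem haX hn⟩) ∣ orderOf y := by
      refine (orderOf_map_dvd f _).trans ?_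
      rw [← Subgroup.orderOf_coe]
    exact orderOf_eq_one_iff.1 (Nat.eq_one_of_dvd_coprimes (hyp.symm.pow_left k) d1 d2)
  exact (QuotientGroup.eq_one_iff (N := A.subgroupOf X) (⟨y, hy ▸ mul_mem haX hn⟩ : X)).1 h2

theorem conj_eq_of_stable {U : Subgroup G} (hU : IsPGroup p U) {y q : G}
    (hyp : (orderOf y).Coprime p) (hyU : ∀ u ∈ U, u * y = y * u) (hq : q⁻¹ * (y * q * y⁻¹) ∈ U) :
    q * y = y * q := by
  set u := q⁻¹ * (y * q * y⁻¹) with hu
  have h1 : ∀ i : ℕ, y ^ i * q * (y ^ i)⁻¹ = q * u ^ i := by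
    intro i
    induction i with
    | zero => simp
    | succ i ih =>
      have e : y ^ (i + 1) * q * (y ^ (i + 1))⁻¹ = y * (y ^ i * q * (y ^ i)⁻¹) * y⁻¹ := by
        rw [pow_succ']; group
      have e2 : y * u ^ i * y⁻¹ = u ^ i := by
        rw [← hyU _ (pow_mem hq i), mul_inv_cancel_right]
      rw [e, ih, show y * (q * u ^ i) * y⁻¹ = (y * q * y⁻¹) * (y * u ^ i * y⁻¹) by group, e2,
        show y * q * y⁻¹ = q * u by rw [hu]; group, pow_succ', mul_assoc]
  have h2 := h1 (orderOf y)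
  rw [pow_orderOf_eq_one, inv_one, mul_one, one_mul, left_eq_mul] at h2
  obtain ⟨k, hk⟩ := hU ⟨u, hq⟩
  have h3 : orderOf u = 1 := Nat.eq_one_of_dvd_coprimes (hyp.symm.pow_left k)
    (orderOf_dvd_of_pow_eq_one (congrArg Subtype.val hk)) (orderOf_dvd_of_pow_eq_one h2)
  have h4 : y * q * y⁻¹ = q := by
    have : u = 1 := orderOf_eq_one_iff.1 h3
    rwa [hu, inv_mul_eq_one, eq_comm] at this
  exact (mul_inv_eq_iff_eq_mul.1 h4).symm

theorem normalizes_sup {n : G} {H K : Subgroup G} (hH : n ∈ Subgroup.normalizer (H : Set G))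
    (hK : n ∈ Subgroup.normalizer (K : Set G)) :
    n ∈ Subgroup.normalizer ((H ⊔ K : Subgroup G) : Set G) := by
  rw [Subgroup.mem_normalizer_iff_map_conj_eq] at hH hK ⊢
  rw [Subgroup.map_sup, hH, hK]

theorem normalizes_inter {S : Sylow p G} {D R : Subgroup G}
    (hD : Cfsg.IsStronglyClosed D (S : Subgroup G)) (hRS : R ≤ (S : Subgroup G)) {n : G}
    (hn : n ∈ Subgroup.normalizer (R : Set G)) :
    n ∈ Subgroup.normalizer ((D ⊓ R : Subgroup G) : Set G) :=
  mem_normalizer_of_forall fun x hx =>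
    ⟨hD.2 x hx.1 n (hRS (conj_mem_of_normalizer hn hx.2)), conj_mem_of_normalizer hn hx.2⟩

theorem centralizes_of_complement {V Q : Subgroup G}
    (hV : Cfsg.HasNormalPComplement p ↥(Subgroup.normalizer (V : Set G))) (hQ : IsPGroup p Q)
    (hQV : Q ≤ Subgroup.normalizer (V : Set G)) {m : G} (hmV : m ∈ Subgroup.normalizer (V : Set G))
    (hmQ : m ∈ Subgroup.normalizer (Q : Set G)) (hm : (orderOf m).Coprime p) :
    m ∈ Subgroup.centralizer (Q : Set G) := by
  have h1 := Frobenius.mem_centralizer_of_hasNormalPComplement hV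
    (Q := Q.subgroupOf (Subgroup.normalizer (V : Set G))) hQ.comap_subtype (g := ⟨m, hmV⟩)
    (Subgroup.mem_normalizer_iff.2 fun q => by
      simpa [Subgroup.mem_subgroupOf] using Subgroup.mem_normalizer_iff.1 hmQ q)
    (by rwa [← Subgroup.orderOf_coe])
  rw [Subgroup.mem_centralizer_iff]
  intro q hq
  exact congrArg Subtype.val (Subgroup.mem_centralizer_iff.1 h1 ⟨q, hQV hq⟩ hq)

set_option maxHeartbeats 1000000 in
theorem main : ∀ (d : ℕ) (U : Subgroup G) (S : Sylow p G) (D : Subgroup G),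
    Nat.card G ≤ Nat.card U + d → Pair p S D → U ≤ D → D ≠ ⊥ →
    Cfsg.HasNormalPComplement p ↥(Subgroup.normalizer (U : Set G)) := by
  intro d
  induction d with
  | zero =>
    intro U S D hd hP hUD _
    have hU : U = ⊤ := Subgroup.eq_top_of_card_eq U
      (le_antisymm (Subgroup.card_le_card_group _) (by simpa using hd))
    exact hP.hyp U hUD fun x _ => hU ▸ Subgroup.mem_top x
  | succ d ih =>
    intro U S D hd hP hUD hD1
    by_cases hcen : D ⊓ Subgroup.centralizer (U : Set G) ≤ U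
    · exact hP.hyp U hUD hcen
    have big : ∀ (S' : Sylow p G) (D' V : Subgroup G), Pair p S' D' → V ≤ D' → D' ≠ ⊥ → U < V →
        Cfsg.HasNormalPComplement p ↥(Subgroup.normalizer (V : Set G)) := by
      intro S' D' V hP' hV hD' hlt
      refine ih V S' D' ?_ hP' hV hD'
      have : Nat.card U < Nat.card V := lt_of_not_ge fun h => hlt.ne (Subgroup.eq_of_le_of_card_ge hlt.le h)
      omega
    have hUp : IsPGroup p U := S.2.to_le (hUD.trans hP.closed.1)
    -- `p'`-elements of `N(U)` centralise `U`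
    have hcent : ∀ y ∈ Subgroup.normalizer (U : Set G), (orderOf y).Coprime p →
        y ∈ Subgroup.centralizer (U : Set G) := by
      intro y hy hyp
      set X := Subgroup.normalizer (U : Set G) with hX
      obtain ⟨T, hT, hUT⟩ := IsSylowIn.exists_le (H := X) hUp Subgroup.le_normalizer
      obtain ⟨S', D', hP', hTS, hUD', hne⟩ := hP.move hT.isPGroup hUT hUD
      by_cases hc' : D' ⊓ Subgroup.centralizer (U : Set G) ≤ U
      · exact centralizes_of_complement (hP'.hyp U hUD' hc') hUp Subgroup.le_normalizer hy hy hyp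
      set A := Subgroup.centralizer (U : Set G) with hA
      have hAX : A ≤ X := fun a ha => mem_normalizer_of_forall fun u hu => by
        rw [← Subgroup.mem_centralizer_iff.1 ha u hu, mul_inv_cancel_right]
        exact hu
      have hXA : X ≤ Subgroup.normalizer (A : Set G) := fun x hx =>
        mem_normalizer_of_forall fun a ha => by
          rw [hA, Subgroup.mem_centralizer_iff]
          intro u hu
          have h1 := Subgroup.mem_centralizer_iff.1 ha _ (conj_inv_mem_of_normalizer hx hu)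
          calc u * (x * a * x⁻¹) = x * ((x⁻¹ * u * x) * a) * x⁻¹ := by group
            _ = x * (a * (x⁻¹ * u * x)) * x⁻¹ := by rw [h1]
            _ = x * a * x⁻¹ * u := by group
      obtain ⟨a, ha, n, hn, hnR, rfl⟩ := frattini_mem hT hAX hXA hy
      refine mem_of_coset hXA hn ha (hAX ha) rfl hyp fun m hm hmn hmp => ?_
      set E := D' ⊓ (T ⊓ A) with hE
      have hlt : U < U ⊔ E := by
        refine lt_of_le_of_ne le_sup_left fun h => hc' fun w hw => ?_
        have hwT : w ∈ T := by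
          rw [← eq_inter hT hTS]; exact ⟨hP'.closed.1 hw.1, hAX hw.2⟩
        rw [h]
        exact Subgroup.mem_sup_right ⟨hw.1, hwT, hw.2⟩
      have hnE : m ∈ Subgroup.normalizer ((U ⊔ E : Subgroup G) : Set G) := by
        have hmR : m ∈ Subgroup.normalizer ((T ⊓ A : Subgroup G) : Set G) :=
          (Subgroup.zpowers_le.2 hnR) hmn
        exact normalizes_sup hm (normalizes_inter hP'.closed (inf_le_left.trans hTS) hmR)
      exact centralizes_of_complement
        (big S' D' (U ⊔ E) hP' (sup_le hUD' inf_le_left) (hne hD1) hlt) hUp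
        (le_sup_left.trans Subgroup.le_normalizer) hnE hm hmp
    set N := Subgroup.normalizer (U : Set G) with hN
    refine Frobenius.hasNormalPComplement_of_forall_centralizes fun Q hQ _ y hy hyp => ?_
    rw [← Subgroup.orderOf_coe] at hyp
    set Q1 : Subgroup G := Q.map N.subtype ⊔ U with hQ1
    have hQN : Q.map N.subtype ≤ N := Subgroup.map_subtype_le _
    have hQp : IsPGroup p ↥(Q.map N.subtype) := IsPGroup.map hQ N.subtype
    have hQ1p : IsPGroup p ↥(Q.map N.subtype ⊔ U) :=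
      IsPGroup.to_sup_of_normal_right' hQp hUp hQN
    have hQ1N : Q1 ≤ N := sup_le hQN Subgroup.le_normalizer
    have hyQ : (y : G) ∈ Subgroup.normalizer ((Q.map N.subtype : Subgroup G) : Set G) :=
      mem_normalizer_of_forall fun x ⟨q, hq, e⟩ => ⟨y * q * y⁻¹, conj_mem_of_normalizer hy hq, by
        rw [← e]; rfl⟩
    have hyU : (y : G) ∈ N := y.2
    have hy1 : (y : G) ∈ Subgroup.normalizer (Q1 : Set G) := normalizes_sup hyQ hyU
    suffices hgoal : (y : G) ∈ Subgroup.centralizer (Q1 : Set G) by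
      rw [Subgroup.mem_centralizer_iff]
      intro q hq
      exact Subtype.ext (Subgroup.mem_centralizer_iff.1 hgoal (q : G)
        (Subgroup.mem_sup_left ⟨q, hq, rfl⟩))
    set X := N ⊓ Subgroup.normalizer (Q1 : Set G) with hX
    have hQ1X : Q1 ≤ X := le_inf hQ1N Subgroup.le_normalizer
    obtain ⟨T, hT, hQT⟩ := IsSylowIn.exists_le (H := X) hQ1p hQ1X
    obtain ⟨S', D', hP', hTS, hUD', hne⟩ :=
      hP.move hT.isPGroup ((le_sup_right : U ≤ Q1).trans hQT) hUD
    by_cases hc' : D' ⊓ Subgroup.centralizer (U : Set G) ≤ U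
    · exact centralizes_of_complement (hP'.hyp U hUD' hc') hQ1p hQ1N hyU hy1 hyp
    by_cases hQD : U < D' ⊓ Q1
    · have hyD := normalizes_inter hP'.closed (hQT.trans hTS) hy1
      refine centralizes_of_complement (big S' D' _ hP' inf_le_left (hne hD1) hQD) hQ1p
        (fun q hq => normalizes_inter hP'.closed (hQT.trans hTS) (Subgroup.le_normalizer hq))
        hyD hy1 hyp
    have hQDU : D' ⊓ Q1 ≤ U := by
      by_contra h
      exact hQD (lt_of_le_not_ge (le_inf hUD' le_sup_right) h)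
    -- an element of `D'` normalising `U` and `Q1` and centralising `Q1 / U`
    have hDN : U < D' ⊓ N := by
      refine lt_of_le_not_ge (le_inf hUD' Subgroup.le_normalizer) fun hle => hc' fun w hw => hle ⟨hw.1, ?_⟩
      exact mem_normalizer_of_forall fun u hu => by
        rw [← Subgroup.mem_centralizer_iff.1 hw.2 u hu, mul_inv_cancel_right]
        exact hu
    obtain ⟨d, hdD, hdN, hdU, hdQ⟩ : ∃ d ∈ D', d ∈ N ∧ d ∉ U ∧ ∀ q ∈ Q1, q⁻¹ * (d * q * d⁻¹) ∈ U := by
      set K := (S' : Subgroup G) ⊓ N with hK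
      have hUK : U ≤ K := le_inf (hUD'.trans hP'.closed.1) Subgroup.le_normalizer
      have : (U.subgroupOf K).Normal :=
        Subgroup.normal_subgroupOf_of_le_normalizer (inf_le_right : K ≤ N)
      have hKp : IsPGroup p (K ⧸ U.subgroupOf K) :=
        (S'.2.to_le inf_le_left).to_quotient _
      set f := QuotientGroup.mk' (U.subgroupOf K)
      have hDn : ((D' ⊓ N).subgroupOf K).Normal := by
        refine Subgroup.normal_subgroupOf_of_le_normalizer fun x hx => mem_normalizer_of_forall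
          fun w hw => ?_
        have hxS : x ∈ (S' : Subgroup G) := hx.1
        have hxN : x ∈ N := hx.2
        have hwD : w ∈ D' := hw.1
        have hwN : w ∈ N := hw.2
        have h1 : x * w * x⁻¹ ∈ D' := hP'.closed.2 w hwD x (mul_mem (mul_mem hxS (hP'.closed.1 hwD))
            (inv_mem hxS))
        have h2 : x * w * x⁻¹ ∈ N := mul_mem (mul_mem hxN hwN) (inv_mem hxN)
        exact ⟨h1, h2⟩
      have hMn : (((D' ⊓ N).subgroupOf K).map f).Normal :=
        hDn.map f (QuotientGroup.mk'_surjective _)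
      have hMne : ((D' ⊓ N).subgroupOf K).map f ≠ ⊥ := by
        obtain ⟨w, hw, hwU⟩ := SetLike.exists_of_lt hDN
        intro h
        have : f ⟨w, hP'.closed.1 hw.1, hw.2⟩ ∈ ((D' ⊓ N).subgroupOf K).map f := ⟨_, hw, rfl⟩
        rw [h, Subgroup.mem_bot] at this
        exact hwU ((QuotientGroup.eq_one_iff (N := U.subgroupOf K)
          (⟨w, hP'.closed.1 hw.1, hw.2⟩ : K)).1 this)
      obtain ⟨z, hz, hz1⟩ := (Subgroup.bot_or_exists_ne_one _).resolve_left
        (Cfsg.Agent.Lib.PGroups.normal_inf_center_ne_bot hKp _ hMne)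
      obtain ⟨⟨d0, hd0, rfl⟩, hzc⟩ := hz
      refine ⟨d0, hd0.1, hd0.2, fun h => hz1 ((QuotientGroup.eq_one_iff _).2 h), fun q hq => ?_⟩
      have hqK : q ∈ K := ⟨hTS (hQT hq), hQ1N hq⟩
      have h1 : f ((⟨q, hqK⟩ : K)⁻¹ * (d0 * ⟨q, hqK⟩ * d0⁻¹)) = 1 := by
        simp only [map_mul, map_inv]
        rw [← Subgroup.mem_center_iff.1 hzc (f ⟨q, hqK⟩)]
        group
      exact (QuotientGroup.eq_one_iff (N := U.subgroupOf K)
        ((⟨q, hqK⟩ : K)⁻¹ * (d0 * (⟨q, hqK⟩ : K) * d0⁻¹))).1 h1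
    have hdX : d ∈ X := ⟨hdN, mem_normalizer_of_forall fun q hq => by
      have : d * q * d⁻¹ = q * (q⁻¹ * (d * q * d⁻¹)) := by group
      rw [this]
      exact mul_mem hq (le_sup_right (a := Q.map N.subtype) (hdQ q hq))⟩
    let A : Subgroup G :=
      { carrier := {x | x ∈ X ∧ ∀ q ∈ Q1, q⁻¹ * (x * q * x⁻¹) ∈ U}
        mul_mem' := fun {a b} ha hb => ⟨mul_mem ha.1 hb.1, fun q hq => by
          have hq' : b * q * b⁻¹ ∈ Q1 := conj_mem_of_normalizer hb.1.2 hq
          have := mul_mem (hb.2 q hq) (ha.2 _ hq')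
          convert this using 1
          group⟩
        one_mem' := ⟨one_mem _, fun q hq => by simp⟩
        inv_mem' := fun {a} ha => ⟨inv_mem ha.1, fun q hq => by
          have hq' : a⁻¹ * q * a ∈ Q1 := conj_inv_mem_of_normalizer ha.1.2 hq
          have := inv_mem (ha.2 _ hq')
          convert this using 1
          group⟩ }
    have hXA : X ≤ Subgroup.normalizer (A : Set G) := fun x hx => mem_normalizer_of_forall
      fun a ha => ⟨mul_mem (mul_mem hx ha.1) (inv_mem hx), fun q hq => by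
        have hq' : x⁻¹ * q * x ∈ Q1 := conj_inv_mem_of_normalizer hx.2 hq
        have := conj_mem_of_normalizer hx.1 (ha.2 _ hq')
        convert this using 1
        group⟩
    have hAX : A ≤ X := fun a ha => ha.1
    obtain ⟨a, ha, n, hn, hnR, hyn⟩ := frattini_mem hT hAX hXA (⟨hyU, hy1⟩ : (y : G) ∈ X)
    set E := D' ⊓ (T ⊓ A) with hE
    have hUE : U < E := by
      refine lt_of_le_not_ge (le_inf hUD' (le_inf ((le_sup_right : U ≤ Q1).trans hQT) fun u hu =>
        ⟨hQ1X (le_sup_right (a := Q.map N.subtype) hu), fun q hq => ?_⟩)) fun hle => hdU (hle ?_)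
      · rw [show q⁻¹ * (u * q * u⁻¹) = (q⁻¹ * u * q) * u⁻¹ by group]
        exact mul_mem (conj_inv_mem_of_normalizer (hQ1N hq) hu) (inv_mem hu)
      · refine ⟨hdD, ?_, hdX, hdQ⟩
        rw [← eq_inter hT hTS]; exact ⟨hP'.closed.1 hdD, hdX⟩
    have hcE := big S' D' E hP' inf_le_left (hne hD1) hUE
    have hQ1E : Q1 ≤ Subgroup.normalizer (E : Set G) := fun q hq => by
      refine normalizes_inter hP'.closed (inf_le_left.trans hTS) (mem_normalizer_of_forall fun w hw => ?_)
      have hqT : q ∈ T := hQT hq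
      have hwT : w ∈ T := hw.1
      have h1 : q * w * q⁻¹ ∈ T := mul_mem (mul_mem hqT hwT) (inv_mem hqT)
      exact ⟨h1, conj_mem_of_normalizer (hXA (hQ1X hq)) hw.2⟩
    have hyA : (y : G) ∈ A := mem_of_coset hXA hn ha (hAX ha) hyn hyp fun m hm hmn hmp => by
      have hmE := normalizes_inter hP'.closed (inf_le_left.trans hTS)
        ((Subgroup.zpowers_le.2 hnR) hmn)
      have hmc := centralizes_of_complement hcE hQ1p hQ1E hmE hm.2 hmp
      exact ⟨hm, fun q hq => by
        rw [← Subgroup.mem_centralizer_iff.1 hmc q hq, mul_inv_cancel_right, inv_mul_cancel]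
        exact one_mem _⟩
    rw [Subgroup.mem_centralizer_iff]
    exact fun q hq => conj_eq_of_stable hUp hyp
      (Subgroup.mem_centralizer_iff.1 (hcent _ hyU hyp)) (hyA.2 q hq)

/-- A Frobenius normal p-complement criterion relative to a strongly closed subgroup. Let G be a finite group, S a Sylow p-subgroup and D a subgroup of S strongly closed in S with respect to G. Then G has a normal p-complement if and only if N_G(U) has a normal p-complement for every subgroup U of D with C_D(U) ≤ U. -/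
theorem result {G : Type*} [Group G] [Finite G] {p : ℕ} [Fact p.Prime] (S : Sylow p G) (D : Subgroup G) (hD : Cfsg.IsStronglyClosed D (S : Subgroup G)) : Cfsg.HasNormalPComplement p G ↔ ∀ U : Subgroup G, U ≤ D → D ⊓ Subgroup.centralizer (U : Set G) ≤ U → Cfsg.HasNormalPComplement p ↥(Subgroup.normalizer (U : Set G)) := by
  constructor
  · exact fun h U _ _ => PResidual.hasNormalPComplement_subgroup h _
  · intro h
    have hn : Subgroup.normalizer (((⊥ : Subgroup G)) : Set G) = ⊤ := Subgroup.normalizer_eq_top _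
    have hbot : Cfsg.HasNormalPComplement p ↥(Subgroup.normalizer (((⊥ : Subgroup G)) : Set G)) := by
      by_cases hD1 : D = ⊥
      · exact h ⊥ bot_le (by rw [hD1, bot_inf_eq])
      · exact main (Nat.card G) ⊥ S D le_add_self ⟨hD, h⟩ bot_le hD1
    rw [hn] at hbot
    exact (PResidual.hasNormalPComplement_congr Subgroup.topEquiv).1 hbot

end Cfsg.Agent.S3839
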