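import Cfsg.Statements.S3858


set_option autoImplicit false
open Cfsg

namespace Cfsg.Agent.S3858

theorem exists_conj_le {G : Type*} [Group G] [Finite G] {r : ℕ} [Fact r.Prime] (R : Sylow r G)
    {M : Subgroup G} (hM : ¬ r ∣ M.index) :
    ∃ g : G, (R : Subgroup G) ≤ M.map (MulAut.conj g).toMonoidHom := by
  obtain ⟨S⟩ := (inferInstance : Nonempty (Sylow r M))
  have hS : IsPGroup r ((S : Subgroup M).map M.subtype) := S.2.map _
  have hidx : ¬ r ∣ ((S : Subgroup M).map M.subtype).index := by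
    rw [Subgroup.index_map_subtype]
    exact (Fact.out : r.Prime).not_dvd_mul S.not_dvd_index hM
  obtain ⟨g, hg⟩ := MulAction.exists_smul_eq G (hS.toSylow hidx) R
  refine ⟨g, ?_⟩
  rw [← hg]
  exact Subgroup.map_mono (Subgroup.map_subtype_le _)


/-- Let G be a finite group with a normal non-abelian simple subgroup T whose centralizer is trivial (G almost simple with socle T), r a prime and R a Sylow r-subgroup of G meeting T nontrivially. Then R lies in exactly one maximal subgroup of G if and only if G has exactly one conjugacy class of maximal subgroups whose index is prime to r. -/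
theorem result {G : Type*} [Group G] [Finite G] (T : Subgroup G) [T.Normal] (hT : IsSimpleGroup T) (hna : ¬ IsMulCommutative T)
    (hC : Subgroup.centralizer (T : Set G) = ⊥) {r : ℕ} [Fact r.Prime] (R : Sylow r G) (hR0 : (R : Subgroup G) ⊓ T ≠ ⊥) :
    (∃! M : Subgroup G, IsCoatom M ∧ (R : Subgroup G) ≤ M) ↔
      ((∃ M : Subgroup G, IsCoatom M ∧ ¬ r ∣ M.index) ∧
        ∀ M₁ M₂ : Subgroup G, IsCoatom M₁ → ¬ r ∣ M₁.index → IsCoatom M₂ → ¬ r ∣ M₂.index → ∃ g : G, M₂ = M₁.map (MulAut.conj g).toMonoidHom) := by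
  constructor
  · rintro ⟨M, ⟨hM, hRM⟩, huM⟩
    refine ⟨⟨M, hM, fun hd => R.not_dvd_index (hd.trans (Subgroup.index_dvd_of_le hRM))⟩,
      fun M₁ M₂ h₁ hi₁ h₂ hi₂ => ?_⟩
    obtain ⟨g₁, hg₁⟩ := exists_conj_le R hi₁
    obtain ⟨g₂, hg₂⟩ := exists_conj_le R hi₂
    have hco : ∀ (g : G) (K : Subgroup G), IsCoatom K → IsCoatom (K.map (MulAut.conj g).toMonoidHom) :=
      fun g K hK => ((MulAut.conj g).mapSubgroup.isCoatom_iff K).2 hK
    have e := (huM _ ⟨hco g₁ _ h₁, hg₁⟩).trans (huM _ ⟨hco g₂ _ h₂, hg₂⟩).symm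
    refine ⟨g₂⁻¹ * g₁, ?_⟩
    ext x
    constructor
    · intro hx
      obtain ⟨y, hy, he⟩ : (MulAut.conj g₂) x ∈ M₁.map (MulAut.conj g₁).toMonoidHom := e ▸ ⟨x, hx, rfl⟩
      refine ⟨y, hy, ?_⟩
      have he' : g₁ * y * g₁⁻¹ = g₂ * x * g₂⁻¹ := he
      change g₂⁻¹ * g₁ * y * (g₂⁻¹ * g₁)⁻¹ = x
      calc g₂⁻¹ * g₁ * y * (g₂⁻¹ * g₁)⁻¹ = g₂⁻¹ * (g₁ * y * g₁⁻¹) * g₂ := by group
        _ = x := by rw [he']; group
    · rintro ⟨y, hy, rfl⟩
      obtain ⟨x, hx, he⟩ : (MulAut.conj g₁) y ∈ M₂.map (MulAut.conj g₂).toMonoidHom := e ▸ ⟨y, hy, rfl⟩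
      have he' : g₂ * x * g₂⁻¹ = g₁ * y * g₁⁻¹ := he
      change g₂⁻¹ * g₁ * y * (g₂⁻¹ * g₁)⁻¹ ∈ M₂
      have : g₂⁻¹ * g₁ * y * (g₂⁻¹ * g₁)⁻¹ = x := by
        calc g₂⁻¹ * g₁ * y * (g₂⁻¹ * g₁)⁻¹ = g₂⁻¹ * (g₁ * y * g₁⁻¹) * g₂ := by group
          _ = x := by rw [← he']; group
      rwa [this]
  · rintro ⟨-, hconj⟩
    have hRn : Subgroup.normalizer ((R : Subgroup G) : Set G) ≠ ⊤ := fun h => by
      have hR := Subgroup.normalizer_eq_top_iff.1 h
      have hn : (((R : Subgroup G) ⊓ T).subgroupOf T).Normal :=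
        (Subgroup.normal_inf_normal _ _).subgroupOf _
      rcases hT.eq_bot_or_eq_top_of_normal _ hn with h1 | h1
      · exact hR0 (by
          rw [Subgroup.subgroupOf_eq_bot, disjoint_iff, inf_assoc, inf_idem] at h1
          exact h1)
      · rw [Subgroup.subgroupOf_eq_top] at h1
        have hTp : IsPGroup r T := R.2.to_le (h1.trans inf_le_left)
        have : Nontrivial T := hT.toNontrivial
        have : Group.IsNilpotent T := hTp.isNilpotent
        rcases hT.eq_bot_or_eq_top_of_normal (Subgroup.center T) inferInstance with h2 | h2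
        · exact absurd h2 hTp.bot_lt_center.ne'
        · exact hna ⟨⟨fun x y => Subgroup.mem_center_iff.1 (h2 ▸ Subgroup.mem_top y : y ∈ Subgroup.center T) x⟩⟩
    obtain ⟨M0, hM0, hNM0⟩ := (eq_top_or_exists_le_coatom _).resolve_left hRn
    have hidx : ∀ M : Subgroup G, (R : Subgroup G) ≤ M → ¬ r ∣ M.index :=
      fun M hM hd => R.not_dvd_index (hd.trans (Subgroup.index_dvd_of_le hM))
    have hRM0 : (R : Subgroup G) ≤ M0 := Subgroup.le_normalizer.trans hNM0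
    refine ⟨M0, ⟨hM0, hRM0⟩, fun M ⟨hM, hRM⟩ => ?_⟩
    obtain ⟨g, hg⟩ := hconj M0 M hM0 (hidx _ hRM0) hM (hidx _ hRM)
    -- both Sylow subgroups of `M0` are conjugate in it
    set Q : Sylow r G := g⁻¹ • R
    have hQ : (Q : Subgroup G) ≤ M0 := by
      rintro _ ⟨x, hx, rfl⟩
      obtain ⟨y, hy, he⟩ := hg ▸ hRM hx
      have he' : g * y * g⁻¹ = x := he
      change g⁻¹ * x * g⁻¹⁻¹ ∈ M0
      rw [← he']
      simpa [mul_assoc] using hy
    obtain ⟨m, hm⟩ := MulAction.exists_smul_eq M0 (Q.subtype hQ) (R.subtype hRM0)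
    rw [Sylow.smul_subtype hQ m] at hm
    have hm' := Sylow.subtype_injective hm
    have hmem : (m : G) * g⁻¹ ∈ Subgroup.normalizer ((R : Subgroup G) : Set G) :=
      Sylow.smul_eq_iff_mem_normalizer.1 (by rw [mul_smul]; exact hm')
    have hgM : g ∈ M0 := inv_mem_iff.1 ((Subgroup.mul_mem_cancel_left M0 m.2).1 (hNM0 hmem))
    rw [hg]
    refine le_antisymm ?_ fun x hx => ⟨g⁻¹ * x * g, mul_mem (mul_mem (inv_mem hgM) hx) hgM, by simp [mul_assoc]⟩
    rintro _ ⟨x, hx, rfl⟩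
    exact mul_mem (mul_mem hgM hx) (inv_mem hgM)

end Cfsg.Agent.S3858
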