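import Cfsg.Statements.S3859
import Cfsg.Agent.Lib.FusionSystem.Hyperfocal


set_option autoImplicit false
open scoped Pointwise
open Cfsg

namespace Cfsg.Agent.S3859

/-- Let G be a finite group with a normal non-abelian simple subgroup T whose centralizer is trivial (G almost simple with socle T), r a prime and R a Sylow r-subgroup of G meeting T nontrivially. If R lies in exactly one maximal subgroup of G, then G/T is an r-group. -/
theorem result {G : Type*} [Group G] [Finite G] (T : Subgroup G) [T.Normal] (hT : IsSimpleGroup T) (hna : ¬ IsMulCommutative T)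
    (hC : Subgroup.centralizer (T : Set G) = ⊥) {r : ℕ} [Fact r.Prime] (R : Sylow r G) (hR0 : (R : Subgroup G) ⊓ T ≠ ⊥)
    (huniq : ∃! M : Subgroup G, IsCoatom M ∧ (R : Subgroup G) ≤ M) : IsPGroup r (G ⧸ T) := by
  obtain ⟨M, ⟨hM, hRM⟩, huM⟩ := huniq
  have hRn : Subgroup.normalizer ((R : Subgroup G) : Set G) ≠ ⊤ := fun h => by
    have hR := Subgroup.normalizer_eq_top_iff.1 h
    have hn : (((R : Subgroup G) ⊓ T).subgroupOf T).Normal :=
      (Subgroup.normal_inf_normal _ _).subgroupOf _
    rcases hT.eq_bot_or_eq_top_of_normal _ hn with h1 | h1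
    · exact hR0 (by
        rw [Subgroup.subgroupOf_eq_bot, disjoint_iff, inf_assoc, inf_idem] at h1
        exact h1)
    · rw [Subgroup.subgroupOf_eq_top] at h1
      have hTp : IsPGroup r T := R.2.to_le (h1.trans inf_le_left)
      have : Nontrivial T := hT.toNontrivial
      have : Group.IsNilpotent T := hTp.isNilpotent
      rcases hT.eq_bot_or_eq_top_of_normal (Subgroup.center T) inferInstance with h2 | h2
      · exact absurd h2 hTp.bot_lt_center.ne'
      · exact hna ⟨⟨fun x y => Subgroup.mem_center_iff.1 (h2 ▸ Subgroup.mem_top y : y ∈ Subgroup.center T) x⟩⟩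
  obtain ⟨M0, hM0, hNM0⟩ := (eq_top_or_exists_le_coatom _).resolve_left hRn
  have hM0M := huM M0 ⟨hM0, Subgroup.le_normalizer.trans hNM0⟩
  have htop : (R : Subgroup G) ⊔ T = ⊤ := by
    by_contra hne
    obtain ⟨M1, hM1, hle⟩ := (eq_top_or_exists_le_coatom _).resolve_left hne
    have h1 := huM M1 ⟨hM1, le_sup_left.trans hle⟩
    subst h1
    obtain ⟨S, hS⟩ := Cfsg.Agent.Lib.FS.exists_sylow_inf_normal_hyp R T
    have hfr := Sylow.normalizer_sup_eq_top S
    rw [hS, Subgroup.subgroupOf_map_subtype, inf_assoc, inf_idem] at hfr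
    set R' := (R : Subgroup G) ⊓ T with hR'
    have hRN : (R : Subgroup G) ≤ Subgroup.normalizer (R' : Set G) := fun x hx => by
      refine Subgroup.mem_normalizer_iff.2 fun y => ?_
      simp only [hR', Subgroup.mem_inf]
      exact and_congr (by rw [Subgroup.mul_mem_cancel_right _ (inv_mem hx), Subgroup.mul_mem_cancel_left _ hx])
        ⟨fun h => Subgroup.Normal.conj_mem inferInstance y h x,
          fun h => by simpa [mul_assoc] using Subgroup.Normal.conj_mem inferInstance _ h x⁻¹⟩
    have hN' : Subgroup.normalizer (R' : Set G) ≠ ⊤ := fun h => by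
      have hn := Subgroup.normalizer_eq_top_iff.1 h
      rcases hT.eq_bot_or_eq_top_of_normal _ (hn.subgroupOf T) with h1 | h1
      · rw [Subgroup.subgroupOf_eq_bot, disjoint_iff, hR', inf_assoc, inf_idem] at h1
        exact hR0 h1
      · rw [Subgroup.subgroupOf_eq_top] at h1
        have hTR : T ≤ (R : Subgroup G) := h1.trans inf_le_left
        have hTp : IsPGroup r T := R.2.to_le hTR
        have : Nontrivial T := hT.toNontrivial
        rcases hT.eq_bot_or_eq_top_of_normal (Subgroup.center T) inferInstance with h2 | h2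
        · exact hTp.bot_lt_center.ne' h2
        · exact hna ⟨⟨fun x y => Subgroup.mem_center_iff.1 (h2 ▸ Subgroup.mem_top y : y ∈ Subgroup.center T) x⟩⟩
    obtain ⟨M2, hM2, hle2⟩ := (eq_top_or_exists_le_coatom _).resolve_left hN'
    have h2 := huM M2 ⟨hM2, hRN.trans hle2⟩
    subst h2
    exact hM2.1 (eq_top_iff.2 (hfr ▸ sup_le hle2 (le_sup_right.trans hle)))
  intro q
  induction q using QuotientGroup.induction_on with
  | _ g =>
    have hg : g ∈ ((R : Subgroup G) : Set G) * (T : Set G) := by
      rw [← Subgroup.mul_normal, htop]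
      exact Subgroup.mem_top g
    obtain ⟨x, hx, t, ht, rfl⟩ := hg
    obtain ⟨k, hk⟩ := R.2 ⟨x, hx⟩
    refine ⟨k, ?_⟩
    rw [QuotientGroup.mk_mul, (QuotientGroup.eq_one_iff t).2 ht, mul_one, ← QuotientGroup.mk_pow,
      show x ^ r ^ k = 1 from congrArg Subtype.val hk, QuotientGroup.mk_one]

end Cfsg.Agent.S3859
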