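import Cfsg.Statements.S3863
import Mathlib.Tactic.Group
import Mathlib.Data.Nat.Factorization.Basic

set_option autoImplicit false
set_option linter.style.haveILetI false
open Cfsg

namespace Cfsg.Agent.S3863

open scoped Pointwise

variable {G : Type*} [Group G]

theorem exists_two_inverter [Finite G] {x : G} (hx : IsConj x x⁻¹) :
    ∃ t : G, (∃ j : ℕ, orderOf t = 2 ^ j) ∧ t * x * t⁻¹ = x⁻¹ := by
  obtain ⟨t, ht⟩ := isConj_iff.1 hx
  obtain ⟨j, m, hm, hjm⟩ : ∃ j m, Odd m ∧ orderOf t = 2 ^ j * m := by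
    obtain ⟨j, m, hm, h⟩ := Nat.exists_eq_two_pow_mul_odd (orderOf_pos t).ne'
    exact ⟨j, m, hm, h⟩
  have key : ∀ i : ℕ, t ^ i * x * (t ^ i)⁻¹ = x ^ ((-1 : ℤ) ^ i) := by
    intro i
    induction i with
    | zero => simp
    | succ i ih =>
      calc t ^ (i + 1) * x * (t ^ (i + 1))⁻¹ = t * (t ^ i * x * (t ^ i)⁻¹) * t⁻¹ := by
            rw [pow_succ']; group
        _ = (t * x * t⁻¹) ^ ((-1 : ℤ) ^ i) := by rw [ih, conj_zpow]
        _ = x ^ ((-1 : ℤ) ^ (i + 1)) := by rw [ht, inv_zpow', pow_succ, mul_neg_one]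
  refine ⟨t ^ m, ⟨j, ?_⟩, ?_⟩
  · rw [orderOf_pow, hjm, Nat.gcd_eq_right (dvd_mul_left m _), Nat.mul_div_cancel _ hm.pos]
  · rw [key, hm.neg_one_pow, zpow_neg_one]

theorem mem_of_real [Finite G] {x : G} (hx : IsConj x x⁻¹) (N : Subgroup G) [N.Normal] (hN : Odd N.index) :
    ∃ hxN : x ∈ N, IsConj (⟨x, hxN⟩ : N) (⟨x, hxN⟩ : N)⁻¹ := by
  obtain ⟨t, ⟨j, hj⟩, ht⟩ := exists_two_inverter hx
  have small : ∀ y : G ⧸ N, ∀ i : ℕ, y ^ (2 ^ i) = 1 → y = 1 := fun y i hy =>
    orderOf_eq_one_iff.1 (Nat.eq_one_of_dvd_coprimes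
      (Nat.Coprime.pow_left i (Nat.coprime_two_left.2 hN))
      (orderOf_dvd_of_pow_eq_one hy) (Subgroup.index_eq_card N ▸ orderOf_dvd_natCard y))
  have htN : t ∈ N := (QuotientGroup.eq_one_iff t).1 <| small _ j <| by
    rw [← QuotientGroup.mk_pow, ← hj, pow_orderOf_eq_one, QuotientGroup.mk_one]
  have hxN : x ∈ N := by
    refine (QuotientGroup.eq_one_iff x).1 (small _ 1 ?_)
    have h := congrArg (QuotientGroup.mk' N) ht
    simp only [map_mul, map_inv, QuotientGroup.mk'_apply, (QuotientGroup.eq_one_iff t).2 htN,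
      one_mul, inv_one, mul_one] at h
    rw [pow_one, pow_two]
    exact eq_inv_iff_mul_eq_one.1 h
  exact ⟨hxN, isConj_iff.2 ⟨⟨t, htN⟩, Subtype.ext ht⟩⟩


/-- Let x be an element of the finite group G that is conjugate to its inverse. Then some 2-element conjugates x to its inverse; if the conjugacy class of x has odd size then x ^ 2 = 1; and x lies in, and is conjugate to its inverse inside, every normal subgroup of odd index. -/
theorem result {G : Type*} [Group G] [Finite G] (x : G) (hx : IsConj x x⁻¹) : (∃ t : G, (∃ j : ℕ, orderOf t = 2 ^ j) ∧ t * x * t⁻¹ = x⁻¹) ∧ (Odd (Subgroup.centralizer ({x} : Set G)).index → x ^ 2 = 1) ∧ ∀ (N : Subgroup G) [N.Normal], Odd N.index → ∃ hxN : x ∈ N, IsConj (⟨x, hxN⟩ : N) (⟨x, hxN⟩ : N)⁻¹ := by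
  refine ⟨exists_two_inverter hx, fun hodd => ?_, fun N _ hN => mem_of_real hx N hN⟩
  by_contra hne
  obtain ⟨t, ht⟩ := isConj_iff.1 hx
  set C := Subgroup.centralizer ({x} : Set G) with hC
  let N : Subgroup G :=
    { carrier := {g | g * x * g⁻¹ = x ∨ g * x * g⁻¹ = x⁻¹}
      one_mem' := Or.inl (by simp)
      mul_mem' := fun {a b} ha hb => by
        have h1 : a * b * x * (a * b)⁻¹ = a * (b * x * b⁻¹) * a⁻¹ := by group
        have h2 : a * x⁻¹ * a⁻¹ = (a * x * a⁻¹)⁻¹ := by group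
        rcases ha with ha | ha <;> rcases hb with hb | hb <;>
          simp only [Set.mem_setOf_eq, h1, hb, ha, h2, inv_inv, true_or, or_true]
      inv_mem' := fun {a} ha => by
        rcases ha with ha | ha
        · exact Or.inl (by nth_rewrite 1 [← ha]; group)
        · refine Or.inr ?_
          have : x = (a * x * a⁻¹)⁻¹ := by rw [ha, inv_inv]
          nth_rewrite 1 [this]
          group }
  have hCN : C ≤ N := fun g hg =>
    Or.inl (mul_inv_eq_iff_eq_mul.2 (Subgroup.mem_centralizer_singleton_iff.1 hg))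
  have hidx : C.relIndex N = 2 := by
    refine Subgroup.index_eq_two_iff.2 ⟨⟨t, Or.inr ht⟩, fun ⟨b, hb⟩ => ?_⟩
    show Xor' (b * t ∈ C) (b ∈ C)
    rw [hC, Subgroup.mem_centralizer_singleton_iff, Subgroup.mem_centralizer_singleton_iff]
    have hne' : x ≠ x⁻¹ := fun h => hne (by rw [pow_two]; exact eq_inv_iff_mul_eq_one.1 h)
    have h1 : b * t * x * (b * t)⁻¹ = b * x⁻¹ * b⁻¹ := by rw [← ht]; group
    have h2 : b * x⁻¹ * b⁻¹ = (b * x * b⁻¹)⁻¹ := by group
    rcases hb with hb | hb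
    · refine Or.inr ⟨mul_inv_eq_iff_eq_mul.1 hb, fun h => hne' ?_⟩
      have h3 : b * t * x * (b * t)⁻¹ = x := mul_inv_eq_iff_eq_mul.2 h
      rwa [h1, h2, hb, eq_comm] at h3
    · refine Or.inl ⟨?_, fun h => hne' ?_⟩
      · refine mul_inv_eq_iff_eq_mul.1 ?_
        rw [h1, h2, hb, inv_inv]
      · rw [← hb]; exact (mul_inv_eq_iff_eq_mul.2 h).symm
  have h2 := Subgroup.relIndex_mul_index hCN
  rw [hidx] at h2
  exact Nat.not_even_iff_odd.2 hodd ⟨N.index, by rw [← h2, two_mul]⟩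

end Cfsg.Agent.S3863
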