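import Cfsg.Statements.S3861
import Cfsg.Agent.S3863
import Cfsg.Agent.Lib.Coprime.Glauberman
import Cfsg.Agent.Lib.Involutions.BaerSuzuki
import Cfsg.Agent.Lib.Cores.Basic
import Mathlib.Tactic.Linarith

set_option autoImplicit false
set_option linter.style.haveILetI false
open Cfsg

namespace Cfsg.Agent.S3861

open scoped Pointwise

variable {G : Type*} [Group G] [Finite G]

theorem exists_lift {O : Subgroup G} [O.Normal] (hO : IsPGroup 2 O) {t : G}
    {hb : G ⧸ O} (hodd : Odd (orderOf hb))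
    (hinv : (t : G ⧸ O) * hb * (t : G ⧸ O)⁻¹ = hb⁻¹) (hne : hb ≠ 1) :
    ∃ x : G, x ≠ 1 ∧ Odd (orderOf x) ∧ IsConj x x⁻¹ := by
  haveI : Fact (Nat.Prime 2) := ⟨Nat.prime_two⟩
  obtain ⟨g, rfl⟩ := QuotientGroup.mk'_surjective O hb
  obtain ⟨j, hj⟩ := IsPGroup.iff_card.1 hO
  set m := orderOf (QuotientGroup.mk' O g) with hm
  have hcop : (2 ^ j).Coprime m := Nat.Coprime.pow_left j (Nat.coprime_two_left.2 hodd)
  obtain ⟨u, v, huv⟩ : IsCoprime ((2 ^ j : ℕ) : ℤ) (m : ℤ) :=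
    Int.isCoprime_iff_nat_coprime.2 (by simpa using hcop)
  set h := g ^ (u * ((2 ^ j : ℕ) : ℤ)) with hh
  have hπ : QuotientGroup.mk' O h = QuotientGroup.mk' O g := by
    rw [hh, map_zpow, show u * ((2 ^ j : ℕ) : ℤ) = 1 - v * (m : ℤ) by linarith, zpow_sub, zpow_one,
      mul_comm v, zpow_mul, zpow_natCast, hm, pow_orderOf_eq_one, one_zpow, inv_one, mul_one]
  have hgm : g ^ m ∈ O := (QuotientGroup.eq_one_iff _).1 (by
    rw [QuotientGroup.mk_pow]; exact pow_orderOf_eq_one _)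
  have hhm : h ^ m = 1 := by
    have h1 : (g ^ m) ^ (2 ^ j) = 1 := by
      have := pow_card_eq_one' (x := (⟨g ^ m, hgm⟩ : O))
      rw [hj] at this
      exact congrArg Subtype.val this
    rw [hh, ← zpow_natCast, ← zpow_mul, show u * ((2 ^ j : ℕ) : ℤ) * (m : ℤ) = ((m * 2 ^ j : ℕ) : ℤ) * u
      by push_cast; ring, zpow_mul, zpow_natCast, pow_mul, h1, one_zpow]
  have hord : orderOf h = m := Nat.dvd_antisymm (orderOf_dvd_of_pow_eq_one hhm)
    (by rw [hm, ← hπ]; exact orderOf_map_dvd _ _)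
  have hcard : Nat.card (Subgroup.zpowers h) = m := by rw [Nat.card_zpowers, hord]
  have hB : MulAut.conj t • Subgroup.zpowers h ≤ Subgroup.zpowers h ⊔ O := by
    have hc := Subgroup.comap_map_eq (QuotientGroup.mk' O) (Subgroup.zpowers h)
    rw [QuotientGroup.ker_mk'] at hc
    rw [← hc, ← Subgroup.map_le_iff_le_comap, Lib.Coprime.map_conj_smul, MonoidHom.map_zpowers, hπ]
    rintro _ ⟨y, ⟨i, rfl⟩, rfl⟩
    refine ⟨-i, ?_⟩
    show _ = (QuotientGroup.mk' O t) * (QuotientGroup.mk' O g) ^ i * (QuotientGroup.mk' O t)⁻¹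
    rw [← conj_zpow, QuotientGroup.mk'_apply, QuotientGroup.mk'_apply]
    rw [show ((t : G ⧸ O)) * ↑g * (↑t)⁻¹ = (↑g)⁻¹ from hinv, inv_zpow']
  obtain ⟨n, hn, hnh⟩ := Lib.Coprime.exists_conj_eq_of_coprime (A := Subgroup.zpowers h)
    (B := MulAut.conj t • Subgroup.zpowers h) (K := O)
    (by rw [Subgroup.normalizer_eq_top]; exact le_top) (by rw [hcard, hj]; exact hcop.symm)
    (Or.inl (Lib.Coprime.isSolvable_zpowers h)) hB (Lib.Coprime.card_conj_smul _ _)
  have hfix : MulAut.conj (n⁻¹ * t) • Subgroup.zpowers h = Subgroup.zpowers h := by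
    rw [map_mul, mul_smul, ← hnh, ← mul_smul, ← map_mul, inv_mul_cancel, map_one, one_smul]
  obtain ⟨i, hi⟩ : (n⁻¹ * t) * h * (n⁻¹ * t)⁻¹ ∈ Subgroup.zpowers h :=
    hfix.le ⟨h, Subgroup.mem_zpowers h, rfl⟩
  simp only at hi
  have himg := congrArg (QuotientGroup.mk' O) hi
  simp only [map_zpow, map_mul, map_inv] at himg
  rw [hπ] at himg
  have hn1 : QuotientGroup.mk' O n = 1 := (QuotientGroup.eq_one_iff n).2 hn
  rw [hn1, inv_one, one_mul] at himg
  rw [show (QuotientGroup.mk' O t) * (QuotientGroup.mk' O g) * (QuotientGroup.mk' O t)⁻¹ =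
    (QuotientGroup.mk' O g)⁻¹ from hinv] at himg
  have hdvd : (m : ℤ) ∣ i + 1 := by
    rw [hm, orderOf_dvd_iff_zpow_eq_one, zpow_add, zpow_one, himg, inv_mul_cancel]
  have hhi : h ^ i = h⁻¹ := by
    rw [← hord, orderOf_dvd_iff_zpow_eq_one, zpow_add, zpow_one] at hdvd
    exact eq_inv_of_mul_eq_one_left hdvd
  refine ⟨h, fun h1 => hne ?_, hord ▸ hodd, isConj_iff.2 ⟨n⁻¹ * t, by rw [← hi, hhi]⟩⟩
  rw [← hπ, h1, map_one]


/-- A finite group G has no non-identity element of odd order that is conjugate to its inverse if and only if the Sylow 2-subgroups of G are normal. -/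
theorem result {G : Type*} [Group G] [Finite G] (P : Sylow 2 G) : (∀ x : G, x ≠ 1 → Odd (orderOf x) → ¬ IsConj x x⁻¹) ↔ (P : Subgroup G).Normal := by
  haveI : Fact (Nat.Prime 2) := ⟨Nat.prime_two⟩
  constructor
  · intro h
    set O := Cfsg.pCore 2 G with hO
    have hO2 : IsPGroup 2 O := Lib.Cores.pCore_isPGroup 2
    have heq : (P : Subgroup G) = O := by
      refine le_antisymm (fun x hx => ?_) (Lib.Cores.pCore_le_sylow P)
      by_contra hxO
      -- an involution in the image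
      obtain ⟨k, hk⟩ : ∃ k, orderOf (QuotientGroup.mk' O x) = 2 ^ k := by
        obtain ⟨j, hj⟩ := IsPGroup.iff_orderOf.1 P.isPGroup' ⟨x, hx⟩
        rw [Subgroup.orderOf_mk] at hj
        obtain ⟨k, -, hk⟩ := (Nat.dvd_prime_pow Nat.prime_two).1 (hj ▸ orderOf_map_dvd (QuotientGroup.mk' O) x)
        exact ⟨k, hk⟩
      have hk0 : k ≠ 0 := fun h0 => hxO ((QuotientGroup.eq_one_iff x).1
        (orderOf_eq_one_iff.1 (by rw [h0, pow_zero] at hk; exact hk)))
      have ht : orderOf ((QuotientGroup.mk' O x) ^ (orderOf (QuotientGroup.mk' O x) / 2)) = 2 :=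
        orderOf_pow_orderOf_div (orderOf_pos _).ne' (hk ▸ dvd_pow_self 2 hk0)
      obtain ⟨t, ht'⟩ := QuotientGroup.mk'_surjective O
        ((QuotientGroup.mk' O x) ^ (orderOf (QuotientGroup.mk' O x) / 2))
      rw [← ht'] at ht
      obtain ⟨hb, hb1, hbodd, hbinv⟩ := Lib.Involutions.BaerSuzuki.exists_odd_inverted
        (QuotientGroup.mk' O t) ht fun N hN hN2 htN => by
          haveI := hN
          have h1 : N ≤ ⊥ := Lib.Cores.pCore_quotient_pCore (G := G) 2 ▸ Lib.Cores.le_pCore hN2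
          rw [Subgroup.mem_bot.1 (h1 htN), orderOf_one] at ht
          exact absurd ht (by norm_num)
      obtain ⟨y, hy1, hyodd, hyc⟩ := exists_lift hO2 hbodd hbinv hb1
      exact h y hy1 hyodd hyc
    rw [heq]
    infer_instance
  · intro hP x hx1 hodd hreal
    obtain ⟨hxP, -⟩ := S3863.mem_of_real hreal (P : Subgroup G)
      (Nat.odd_iff.2 (Nat.two_dvd_ne_zero.1 P.not_dvd_index))
    obtain ⟨j, hj⟩ := IsPGroup.iff_orderOf.1 P.isPGroup' ⟨x, hxP⟩
    rw [Subgroup.orderOf_mk] at hj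
    rw [hj] at hodd
    rcases j with _ | j
    · exact hx1 (orderOf_eq_one_iff.1 (by simpa using hj))
    · exact Nat.not_even_iff_odd.2 hodd ⟨2 ^ j, by rw [pow_succ, mul_two]⟩

end Cfsg.Agent.S3861
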