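import Cfsg.Statements.S3864
import Cfsg.Agent.Lib.Fusion.DihedralClasses

set_option autoImplicit false
open Cfsg

namespace Cfsg.Agent.S3864

open Cfsg.Agent.Lib.Fusion Cfsg.Agent.Lib.Fusion.Dihedral DihedralGroup

theorem zmod_two_cases : ∀ v : ZMod 2, v = 0 ∨ v = 1 := by decide

theorem zmod_two_add_self : ∀ v : ZMod 2, v + v = 0 := by decide

variable {X : Type*} [Group X] [Finite X] {S : Sylow 2 X} {m : ℕ} (D : Coords S m)

include D in
/-- The involution classes of the reflections whose four-groups have 2-automisers are closed. -/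
theorem refl_closed (hm : 4 ≤ m) (hm2 : 2 ∣ m) {U : Subgroup X} (hU : U ≤ S) (hf : IsFour U)
    {i : ZMod m} (hi : D.φ (sr i) ∈ U) (hodd : OddTrivial U) (g : X)
    (hg : g * D.φ (sr i) * g⁻¹ ∈ (S : Subgroup X)) :
    ∃ j, par hm2 j = par hm2 i ∧ g * D.φ (sr i) * g⁻¹ = D.φ (sr j) := by
  have : Fact (Nat.Prime 2) := ⟨Nat.prime_two⟩
  refine Alperin.fusion_invariant S (fun x => ∃ j, par hm2 j = par hm2 i ∧ x = D.φ (sr j)) ?_ _ g
    (D.mem _) hg ⟨i, rfl, rfl⟩
  rintro R hR n hn _ hxR ⟨j, hj, rfl⟩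
  obtain ⟨s, hs, hsx⟩ := D.base_step hR (fun hfR => by
    obtain ⟨t, ht, htU⟩ := D.four_conj (by omega) hm2 hU hf hR.1 hfR hi hxR hj.symm
    exact htU ▸ hodd.map t) hn
  obtain ⟨k, hk⟩ := D.exists_conj_sr hs j
  exact ⟨k, (D.par_conj hm2 hs hk).trans hj, (hsx _ hxR).trans hk⟩

include D in
theorem refl_isConj (hm : 2 ≤ m) (hm2 : 2 ∣ m) {i j : ZMod m} (h : par hm2 i = par hm2 j) :
    IsConj (D.φ (sr i)) (D.φ (sr j)) := by
  have : NeZero m := ⟨by omega⟩
  obtain ⟨l, rfl⟩ := par_surjective_two hm2 h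
  exact isConj_iff.2 ⟨D.φ (r l), by rw [D.conj_sr, show j + (l + l) - (l + l) = j by abel]⟩

include D in
/-- With one parity of reflections fused to the centre there is no normal subgroup of index four. -/
theorem index_ne_four (hm : 4 ≤ m) (hm2 : 2 ∣ m) {a b : ZMod m} (hab : par hm2 a ≠ par hm2 b)
    (hz : IsConj (D.φ (sr a)) (D.φ (r ((m / 2 : ℕ) : ZMod m))))
    (N : Subgroup X) (hN : N.Normal) : N.index ≠ 4 := by
  intro h4
  have : Fact (Nat.Prime 2) := ⟨Nat.prime_two⟩
  have hq : Nat.card (X ⧸ N) = 2 ^ 2 := h4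
  have : IsMulCommutative (X ⧸ N) := IsPGroup.isMulCommutative_of_card_eq_prime_sq hq
  set f := (QuotientGroup.mk' N).comp D.φ
  have hconst : ∀ {x y : X}, IsConj x y → QuotientGroup.mk' N x = QuotientGroup.mk' N y := fun {x y} h => by
    obtain ⟨c, rfl⟩ := isConj_iff.1 h
    rw [map_mul, map_mul, mul_comm' (QuotientGroup.mk' N c), map_inv, mul_inv_cancel_right]
  have hr : ∀ l : ZMod m, f (r (l + l)) = 1 := by
    intro l
    have h1 : f (sr l) = f (sr 0 * r l) := by rw [sr_mul_r, zero_add]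
    have hp : par hm2 (l + l) = par hm2 0 := by
      rw [map_add, map_zero]
      exact zmod_two_add_self _
    have h2 : f (sr (l + l)) = f (sr 0) := hconst (refl_isConj D (by omega) hm2 hp)
    have h3 : f (sr 0 * r (l + l)) = f (sr 0) := by rw [sr_mul_r, zero_add]; exact h2
    rwa [map_mul, mul_eq_left] at h3
  have hm4 := D.four_dvd hm
  have hzf : f (r ((m / 2 : ℕ) : ZMod m)) = 1 := by
    rw [show m / 2 = m / 4 + m / 4 by omega, Nat.cast_add]
    exact hr _
  have ha : f (sr a) = 1 := (hconst hz).trans hzf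
  have hS : ∀ i, f (sr i) = 1 ∨ f (sr i) = f (sr b) := by
    intro i
    by_cases h : par hm2 i = par hm2 a
    · exact Or.inl ((hconst (refl_isConj D (by omega) hm2 h)).trans ha)
    · refine Or.inr (hconst (refl_isConj D (by omega) hm2 ?_))
      revert h hab
      generalize par hm2 i = u
      generalize par hm2 a = v
      generalize par hm2 b = w
      revert u v w
      decide
  have hle : ((S : Subgroup X).map (QuotientGroup.mk' N)) ≤ Subgroup.zpowers (f (sr b)) := by
    rintro _ ⟨x, hx, rfl⟩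
    have hsr : ∀ i, f (sr i) ∈ Subgroup.zpowers (f (sr b)) := fun i => by
      rcases hS i with h | h <;> rw [h]
      · exact one_mem _
      · exact Subgroup.mem_zpowers _
    rcases D.cases hx with ⟨i, rfl⟩ | ⟨i, rfl⟩
    · change f (r i) ∈ _
      rw [show r i = sr 0 * sr i by rw [sr_mul_sr, sub_zero], map_mul]
      exact mul_mem (hsr 0) (hsr i)
    · exact hsr i
  have htop : (S : Subgroup X).map (QuotientGroup.mk' N) = ⊤ := by
    rw [← Sylow.coe_mapSurjective (QuotientGroup.mk'_surjective N) S]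
    exact ((S.mapSurjective (QuotientGroup.mk'_surjective N)).3
      ((IsPGroup.of_card hq).of_equiv Subgroup.topEquiv.symm) le_top).symm
  have h2 : orderOf (f (sr b)) ∣ 2 := by
    refine orderOf_dvd_of_pow_eq_one ?_
    rw [← map_pow, pow_two, sr_mul_sr, sub_self, ← one_def, map_one]
  have := Subgroup.card_le_of_le (htop ▸ hle)
  rw [Subgroup.card_top, Nat.card_zpowers, hq] at this
  have := Nat.le_of_dvd two_pos h2
  omega


/-- Let G be a finite group whose Sylow 2-subgroups are dihedral of order 2 ^ n with n ≥ 3, and count the conjugacy classes of involutions of G. Then exactly one of the following holds: there is one class of involutions and no normal subgroup of index 2; there are two classes of involutions, a normal subgroup of index 2 and none of index 4; there are three classes of involutions and G has a normal 2-complement. -/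
theorem result {G : Type*} [Group G] [Finite G] (P : Sylow 2 G) (n : ℕ) (hn : 3 ≤ n) (hdih : Nonempty (↥(P : Subgroup G) ≃* DihedralGroup (2 ^ (n - 1)))) : (Nat.card {C : ConjClasses G // ∃ g : G, ConjClasses.mk g = C ∧ orderOf g = 2} = 1 ∧ ∀ N : Subgroup G, N.Normal → N.index ≠ 2) ∨ (Nat.card {C : ConjClasses G // ∃ g : G, ConjClasses.mk g = C ∧ orderOf g = 2} = 2 ∧ (∃ N : Subgroup G, N.Normal ∧ N.index = 2) ∧ ∀ N : Subgroup G, N.Normal → N.index ≠ 4) ∨ (Nat.card {C : ConjClasses G // ∃ g : G, ConjClasses.mk g = C ∧ orderOf g = 2} = 3 ∧ Cfsg.HasNormalPComplement 2 G) := by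
  have : Fact (Nat.Prime 2) := ⟨Nat.prime_two⟩
  obtain ⟨e⟩ := hdih
  let D := Coords.ofEquiv e
  set m := 2 ^ (n - 1)
  have hm : 4 ≤ m := le_trans (by norm_num) (Nat.pow_le_pow_right two_pos (show 2 ≤ n - 1 by omega))
  have hm2 := D.two_dvd (by omega)
  set z := D.φ (r ((m / 2 : ℕ) : ZMod m))
  set T : ZMod m → Prop := fun i => ∀ U : Subgroup G, U ≤ P → IsFour U → D.φ (sr i) ∈ U →
    3 ∣ (Subgroup.centralizer (U : Set G)).relIndex (Subgroup.normalizer (U : Set G))
  have hTz : ∀ i, T i → IsConj (D.φ (sr i)) z := by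
    intro i hi
    obtain ⟨U, hU, hf, hiU, hzU⟩ := D.exists_four_of_le (by omega) i
    exact isConj_iff.2 (exists_conj_of_three hf (hi U hU hf hiU) hiU
      (fun h => by have := D.orderOf_sr' i; rw [h, orderOf_one] at this; omega) hzU
      (fun h => by have := D.orderOf_half (by omega) hm2; rw [show D.φ (r ((m / 2 : ℕ) : ZMod m)) = 1 from h, orderOf_one] at this; omega))
  have hTodd : ∀ i, ¬ T i → ∃ U : Subgroup G, U ≤ P ∧ IsFour U ∧ D.φ (sr i) ∈ U ∧ OddTrivial U := by
    intro i hi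
    simp only [T, not_forall] at hi
    obtain ⟨U, hU, hf, hiU, h3⟩ := hi
    exact ⟨U, hU, hf, hiU, fun x hx ho => commute_of_not_three hf h3 hx ho⟩
  have hnot : ∀ i, ¬ T i → ∀ x, x ∈ (P : Subgroup G) → IsConj (D.φ (sr i)) x →
      ∃ j, par hm2 j = par hm2 i ∧ x = D.φ (sr j) := by
    intro i hi x hx hc
    obtain ⟨g, rfl⟩ := isConj_iff.1 hc
    obtain ⟨U, hU, hf, hiU, hodd⟩ := hTodd i hi
    exact refl_closed D hm hm2 hU hf hiU hodd g hx
  have hnz : ∀ i, ¬ T i → ConjClasses.mk (D.φ (sr i)) ≠ ConjClasses.mk z := fun i hi h => by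
    obtain ⟨j, -, hj⟩ := hnot i hi z (D.mem _) (ConjClasses.mk_eq_mk_iff_isConj.1 h)
    exact absurd (D.inj hj) (by simp)
  -- the classes of involutions
  have hset : {C : ConjClasses G | ∃ g : G, ConjClasses.mk g = C ∧ orderOf g = 2} =
      {ConjClasses.mk z, ConjClasses.mk (D.φ (sr 0)), ConjClasses.mk (D.φ (sr 1))} := by
    ext C
    constructor
    · rintro ⟨g, rfl, hg⟩
      obtain ⟨c, hc⟩ := exists_conj_mem_sylow D hg
      have ho : orderOf (c * g * c⁻¹) = 2 := (MulEquiv.orderOf_eq (MulAut.conj c) g).trans hg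
      rw [ConjClasses.mk_eq_mk_iff_isConj.2 (isConj_iff.2 ⟨c, rfl⟩ : IsConj g (c * g * c⁻¹))]
      rcases D.invol_cases (by omega) hc ho with h | ⟨i, h⟩ <;> rw [h]
      · simp [z]
      · rcases zmod_two_cases (par hm2 i) with h | h
        · exact Or.inr (Or.inl (ConjClasses.mk_eq_mk_iff_isConj.2 (refl_isConj D (by omega) hm2 (by rw [h, map_zero]))))
        · exact Or.inr (Or.inr (ConjClasses.mk_eq_mk_iff_isConj.2 (refl_isConj D (by omega) hm2 (by rw [h, map_one]))))
    · rintro (rfl | rfl | rfl)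
      exacts [⟨z, rfl, D.orderOf_half (by omega) hm2⟩, ⟨_, rfl, D.orderOf_sr' 0⟩, ⟨_, rfl, D.orderOf_sr' 1⟩]
  have hcount : Nat.card {C : ConjClasses G // ∃ g : G, ConjClasses.mk g = C ∧ orderOf g = 2} =
      ({ConjClasses.mk z, ConjClasses.mk (D.φ (sr 0)), ConjClasses.mk (D.φ (sr 1))} : Set (ConjClasses G)).ncard := by
    rw [← hset, ← Nat.card_coe_set_eq]
    rfl
  have hex2 : ∀ i, ¬ T i → ∃ N : Subgroup G, N.Normal ∧ N.index = 2 := by
    intro i hi
    obtain ⟨U, hU, hf, -, hodd⟩ := hTodd i hi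
    obtain ⟨H, hH⟩ := D.exists_index_two (by omega) hU hf hodd
    exact ⟨H, Subgroup.normal_of_index_eq_two hH, hH⟩
  have h01 : par hm2 (0 : ZMod m) ≠ par hm2 1 := by rw [map_zero, map_one]; exact zero_ne_one
  rw [hcount]
  by_cases h0 : T 0 <;> by_cases h1 : T 1
  · left
    have e0 := ConjClasses.mk_eq_mk_iff_isConj.2 (hTz 0 h0)
    have e1 := ConjClasses.mk_eq_mk_iff_isConj.2 (hTz 1 h1)
    refine ⟨by rw [e0, e1]; simp, fun N _ => (D.fusionSimple_of_isConj (by omega) fun a b ha hb => ?_).1 N⟩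
    have key : ∀ g : G, orderOf g = 2 → ConjClasses.mk g = ConjClasses.mk z := fun g hg => by
      have : ConjClasses.mk g ∈ {C : ConjClasses G | ∃ g : G, ConjClasses.mk g = C ∧ orderOf g = 2} := ⟨g, rfl, hg⟩
      rw [hset, e0, e1] at this
      simpa using this
    exact ConjClasses.mk_eq_mk_iff_isConj.1 ((key a ha).trans (key b hb).symm)
  · right; left
    rw [ConjClasses.mk_eq_mk_iff_isConj.2 (hTz 0 h0), Set.insert_idem, Set.ncard_pair (hnz 1 h1).symm]
    exact ⟨rfl, hex2 1 h1, index_ne_four D hm hm2 h01 (hTz 0 h0)⟩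
  · right; left
    rw [ConjClasses.mk_eq_mk_iff_isConj.2 (hTz 1 h1), Set.pair_comm, Set.insert_eq_of_mem (Set.mem_insert _ _),
      Set.ncard_pair (hnz 0 h0).symm]
    exact ⟨rfl, hex2 0 h0, index_ne_four D hm hm2 h01.symm (hTz 1 h1)⟩
  · right; right
    refine ⟨?_, D.hasNormalPComplement fun R hR hf => ?_⟩
    · have hne : ConjClasses.mk (D.φ (sr 0)) ≠ ConjClasses.mk (D.φ (sr 1)) := fun h => by
        obtain ⟨j, hj, he⟩ := hnot 0 h0 _ (D.mem _) (ConjClasses.mk_eq_mk_iff_isConj.1 h)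
        rw [sr.inj (D.inj he)] at h01
        exact h01 hj.symm
      rw [Set.ncard_insert_of_notMem (by simp [(hnz 0 h0).symm, (hnz 1 h1).symm]), Set.ncard_pair hne]
    · obtain ⟨i, hi⟩ := D.four_contains_sr (by omega) hR hf
      have key : ∀ j, ¬ T j → par hm2 i = par hm2 j → OddTrivial R := fun j hj he => by
        obtain ⟨U, hU, hfU, hjU, hodd⟩ := hTodd j hj
        obtain ⟨t, -, htU⟩ := D.four_conj (by omega) hm2 hU hfU hR hf hjU hi he.symm
        exact htU ▸ hodd.map t
      rcases zmod_two_cases (par hm2 i) with h | h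
      · exact key 0 h0 (by rw [h, map_zero])
      · exact key 1 h1 (by rw [h, map_one])

end Cfsg.Agent.S3864
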