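import Cfsg.Statements.S3865
import Cfsg.Agent.Lib.MaxClass.Chain
import Cfsg.Agent.Lib.MaxClass.UniformGen
import Cfsg.Agent.Lib.Transfer.Tate
import Cfsg.Agent.Lib.Cores.Basic
import Cfsg.Agent.Lib.FusionSystem.Group
import Cfsg.Agent.Lib.FusionSystem.Essential

set_option autoImplicit false
set_option linter.style.haveILetI false
set_option linter.unusedSectionVars false
open scoped commutatorElement
open Cfsg

namespace Cfsg.Agent.S3865

private theorem not_fused {G : Type*} [Group G] [Finite G] (p : ℕ) [Fact p.Prime] (P : Sylow p G) (n : ℕ)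
    (hP : Nat.card P = p ^ n) (hn : 3 ≤ n) (hmax : Group.nilpotencyClass ↥(P : Subgroup G) = n - 1)
    [Group.IsNilpotent ↥(P : Subgroup G)]
    (hno : ∀ x ∈ (P : Subgroup G), (Nat.card (Subgroup.centralizer ({x} : Set G))).factorization p ≠ 2)
    (N : Subgroup G) [N.Normal] (hZN : Subgroup.center ↥(P : Subgroup G) < N.subgroupOf P)
    (hPN : ¬ (P : Subgroup G) ≤ N) : False := by
  classical
  have hp := (Fact.out : p.Prime)
  set T : Subgroup G := (P : Subgroup G) with hT
  have hPp : IsPGroup p T := P.2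
  have hF : (groupFusionSystem T).IsSaturated p := Cfsg.Agent.Lib.FS.isSaturated_group P
  obtain ⟨y, hyN, hyZ, hy⟩ := Cfsg.Agent.Lib.MaxClass.exists_uniform_notMem hn hP hmax (N.subgroupOf T)
    (fun h => hPN (Subgroup.subgroupOf_eq_top.1 h))
  have hcZ := Cfsg.Agent.Lib.MaxClass.card_center_eq hn hP hmax
  -- the set of uniform elements outside `N`
  let U : G → Prop := fun g => ∃ hg : g ∈ T, g ∉ N ∧
    Nat.card (Subgroup.centralizer ({(⟨g, hg⟩ : T)} : Set T)) = p ^ 2
  -- a conjugate of `y` in `P` with a larger centraliser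
  obtain ⟨g, hgy, hbig⟩ : ∃ g : G, g * y * g⁻¹ ∈ T ∧ ∀ hm : g * y * g⁻¹ ∈ T,
      p ^ 2 < Nat.card (Subgroup.centralizer ({(⟨g * y * g⁻¹, hm⟩ : T)} : Set T)) := by
    set C := Subgroup.centralizer ({(y : G)} : Set G) with hC
    have hCy : (Subgroup.centralizer ({y} : Set T)).map T.subtype ≤ C := by
      rintro _ ⟨c, hc, rfl⟩
      exact Subgroup.mem_centralizer_singleton_iff.2
        (congrArg Subtype.val (Subgroup.mem_centralizer_singleton_iff.1 hc) :)
    let R : Sylow p C := default
    have hR : p ^ 3 ≤ Nat.card R := by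
      rw [R.card_eq_multiplicity]
      refine Nat.pow_le_pow_right hp.pos ?_
      have h2 : p ^ 2 ∣ Nat.card C := by
        have := Subgroup.card_dvd_of_le hCy
        rwa [Subgroup.card_map_of_injective T.subtype_injective, hy] at this
      have h3 := (hp.pow_dvd_iff_le_factorization Nat.card_pos.ne').1 h2
      have h4 : (Nat.card C).factorization p ≠ 2 := hno y y.2
      omega
    haveI hzn : (Subgroup.zpowers ((⟨(y : G), Subgroup.mem_centralizer_singleton_iff.2 rfl⟩ : C))).Normal :=
      ⟨fun z hz c => by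
        obtain ⟨i, rfl⟩ := hz
        refine ⟨i, Subtype.ext ?_⟩
        have hcy : Commute (c : G) (y : G) := Subgroup.mem_centralizer_singleton_iff.1 c.2
        show ((⟨(y : G), Subgroup.mem_centralizer_singleton_iff.2 rfl⟩ : C) ^ i : C).1 =
          (c : G) * ((⟨(y : G), Subgroup.mem_centralizer_singleton_iff.2 rfl⟩ : C) ^ i : C).1 * (c : G)⁻¹
        simp only [Subgroup.coe_zpow]
        rw [(hcy.zpow_right i).eq, mul_inv_cancel_right]⟩
    have hyR : (⟨(y : G), Subgroup.mem_centralizer_singleton_iff.2 rfl⟩ : C) ∈ (R : Subgroup C) := by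
      refine Subgroup.zpowers_le.1 ((Cfsg.Agent.Lib.Cores.le_pCore (p := p) ?_).trans
        (Cfsg.Agent.Lib.Cores.pCore_le_sylow R))
      obtain ⟨k, hk⟩ := hPp y
      have hk' : ((⟨(y : G), Subgroup.mem_centralizer_singleton_iff.2 rfl⟩ : C)) ^ p ^ k = 1 :=
        Subtype.ext (congrArg Subtype.val hk :)
      obtain ⟨j, -, hj⟩ := (Nat.dvd_prime_pow hp).1 (orderOf_dvd_of_pow_eq_one hk')
      exact IsPGroup.of_card (n := j) (by rw [Nat.card_zpowers, hj])
    obtain ⟨Q, hQ⟩ := (R.2.map C.subtype).exists_le_sylow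
    obtain ⟨g, hg⟩ := MulAction.exists_smul_eq G Q P
    have hmem : ∀ c ∈ (R : Subgroup C).map C.subtype, g * c * g⁻¹ ∈ T := fun c hc => by
      have := Subgroup.smul_mem_pointwise_smul c (MulAut.conj g) (Q : Subgroup G) (hQ hc)
      rw [← Sylow.pointwise_smul_def, show (MulAut.conj g • Q : Sylow p G) = P from hg] at this
      exact this
    refine ⟨g, hmem _ ⟨_, hyR, rfl⟩, fun hm => ?_⟩
    refine lt_of_lt_of_le (lt_of_lt_of_le (Nat.pow_lt_pow_right hp.one_lt (by omega : 2 < 3)) hR) ?_
    let f : ↥(R : Subgroup C) → Subgroup.centralizer ({(⟨g * (y : G) * g⁻¹, hm⟩ : T)} : Set T) := fun c =>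
      ⟨⟨g * ((c : C) : G) * g⁻¹, hmem _ ⟨_, c.2, rfl⟩⟩, Subgroup.mem_centralizer_singleton_iff.2
        (Subtype.ext (by
          have h1 : Commute ((c : C) : G) (y : G) := Subgroup.mem_centralizer_singleton_iff.1 (c : C).2
          show g * ((c : C) : G) * g⁻¹ * (g * (y : G) * g⁻¹) = g * (y : G) * g⁻¹ * (g * ((c : C) : G) * g⁻¹)
          exact ((Commute.conj_iff g).2 h1).eq))⟩
    refine Nat.card_le_card_of_injective f fun a b hab => Subtype.ext (Subtype.ext ?_)
    have := congrArg (fun z : Subgroup.centralizer ({(⟨g * (y : G) * g⁻¹, hm⟩ : T)} : Set T) => ((z : T) : G)) hab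
    exact conj_injective this
  -- Alperin
  have hM := Cfsg.Agent.Lib.FS.essential_induction hPp hF
    (M := fun Q φ => ∀ x : Q, U x → U (φ x))
    (fun Q R φ ψ χ _ _ h hχ h1 h2 x hx => by rw [hχ]; exact h2 ⟨φ x, h x⟩ (h1 x hx))
    (fun Q R φ ψ h _ he h1 x hx => by rw [he]; exact h1 ⟨x, h x.2⟩ hx)
    (by
      intro Q hQ α hα x hx
      obtain ⟨hxT, hxN, hxc⟩ := hx
      rcases hQ with rfl | hess
      · rw [Cfsg.Agent.Lib.FS.group_autGroup le_rfl, Cfsg.Agent.Lib.FS.mem_autInducedBy] at hα
        obtain ⟨c, -, hc⟩ := hα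
        refine ⟨(α x).2, fun h1 => hxN ?_, ?_⟩
        · show (x : G) ∈ N
          have h2 : c * (x : G) * c⁻¹ ∈ N := hc x ▸ h1
          have := (inferInstance : N.Normal).conj_mem _ h2 c⁻¹
          rwa [show c⁻¹ * (c * (x : G) * c⁻¹) * c⁻¹⁻¹ = x by group] at this
        · rw [← hxc]
          refine Eq.trans ?_ (Nat.card_congr (α.subgroupMap (Subgroup.centralizer ({x} : Set T))).toEquiv).symm
          congr 2
          ext z
          rw [Subgroup.mem_map]
          constructor
          · intro hz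
            refine ⟨α.symm z, Subgroup.mem_centralizer_singleton_iff.2 ?_, by simp⟩
            have h1 := congrArg α.symm (Subgroup.mem_centralizer_singleton_iff.1 hz :
              z * α x = α x * z)
            rwa [map_mul, map_mul, α.symm_apply_apply] at h1
          · rintro ⟨w, hw, rfl⟩
            have h1 := congrArg α (Subgroup.mem_centralizer_singleton_iff.1 hw)
            rw [map_mul, map_mul] at h1
            exact Subgroup.mem_centralizer_singleton_iff.2 h1
      · exfalso
        have hQT := hess.2.1.1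
        refine Cfsg.Agent.Lib.MaxClass.not_invariant_of_uniform hPp hF hess hcZ (y := ⟨(x : G), hxT⟩) hxc
          (fun hc => ?_) x.2 (N.subgroupOf T) hZN hxN ?_
        · have htop : Subgroup.centralizer ({(⟨(x : G), hxT⟩ : T)} : Set T) = ⊤ := eq_top_iff.2 fun z _ =>
            Subgroup.mem_centralizer_singleton_iff.2 (Subgroup.mem_center_iff.1 hc z)
          rw [htop, Subgroup.card_top] at hxc
          have := Nat.pow_right_injective hp.two_le (hP.symm.trans hxc)
          omega
        · intro γ hγ z hz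
          rw [Cfsg.Agent.Lib.FS.group_autGroup hQT, Cfsg.Agent.Lib.FS.mem_autInducedBy] at hγ
          obtain ⟨c, -, hc⟩ := hγ
          rw [Subgroup.subgroupOf_map_subtype] at hz ⊢
          refine ⟨?_, hQT (γ z).2⟩
          rw [hc z]
          exact (inferInstance : N.Normal).conj_mem _ hz.1 c)
  have hUy : U y := ⟨y.2, hyN, hy⟩
  have hz : Subgroup.zpowers (y : G) ≤ T := (Subgroup.zpowers_le).2 y.2
  have h1 := hM _ (conjHom (Subgroup.zpowers (y : G)) g) (Cfsg.Agent.Lib.FS.conjHom_mem_group hz fun x hx => by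
    obtain ⟨i, rfl⟩ := hx
    show g * (y : G) ^ i * g⁻¹ ∈ T
    rw [← conj_zpow]
    exact T.zpow_mem hgy i) ⟨y, Subgroup.mem_zpowers _⟩ hUy
  obtain ⟨hm, -, hc⟩ := h1
  exact (hbig hgy).ne' (by simpa [conjHom] using hc)


/-- Let G be a finite group whose Sylow p-subgroup P has order p ^ n with n ≥ 2 and nilpotency class n - 1 (maximal class), whose largest normal subgroup of order prime to p is trivial, and which has no proper normal subgroup of index prime to p. Then either some x ∈ P has a centralizer in G whose order has p-part p ^ 2, or G is quasisimple with centre of order at most p. -/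
theorem result {G : Type*} [Group G] [Finite G] (p : ℕ) [Fact p.Prime] (P : Sylow p G) (n : ℕ) (hP : Nat.card P = p ^ n) (hn : 2 ≤ n) (hmax : Group.nilpotencyClass ↥(P : Subgroup G) = n - 1) (hcore : Cfsg.pPrimeCore p G = ⊥) (hres : ∀ N : Subgroup G, N.Normal → (N.index).Coprime p → N = ⊤) : (∃ x ∈ (P : Subgroup G), (Nat.card (Subgroup.centralizer ({x} : Set G))).factorization p = 2) ∨ (Cfsg.IsQuasisimple G ∧ Nat.card (Subgroup.center G) ≤ p) := by
  classical
  have hp := (Fact.out : p.Prime)
  by_cases hex : ∃ x ∈ (P : Subgroup G), (Nat.card (Subgroup.centralizer ({x} : Set G))).factorization p = 2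
  · exact Or.inl hex
  push Not at hex
  right
  haveI : Group.IsNilpotent ↥(P : Subgroup G) := P.2.isNilpotent
  rcases Nat.lt_or_ge n 3 with hn3 | hn3
  · exfalso
    refine hex 1 (one_mem _) ?_
    have htop : Subgroup.centralizer ({1} : Set G) = ⊤ := eq_top_iff.2 fun z _ =>
      Subgroup.mem_centralizer_singleton_iff.2 (by rw [one_mul, mul_one])
    rw [htop, Subgroup.card_top]
    have h1 := P.card_eq_multiplicity
    rw [show Nat.card P = p ^ 2 by rw [hP, show n = 2 by omega]] at h1
    exact (Nat.pow_right_injective hp.two_le h1).symm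
  have hcZ := Cfsg.Agent.Lib.MaxClass.card_center_eq hn3 hP hmax
  -- proper normal subgroups are small and central
  have hsmall : ∀ N : Subgroup G, N.Normal → N ≠ ⊤ → N ≤ Subgroup.center G ∧ Nat.card N ≤ p := by
    intro N hN hNtop
    have hPN : ¬ (P : Subgroup G) ≤ N := fun hle => hNtop (hres N hN
      ((hp.coprime_iff_not_dvd.2 fun hd => P.not_dvd_index (hd.trans (Subgroup.index_dvd_of_le hle))).symm))
    have hle : N.subgroupOf P ≤ Subgroup.center ↥(P : Subgroup G) := by
      by_contra hnle
      refine not_fused p P n hP hn3 hmax (fun x hx => hex x hx) N ?_ hPN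
      have hne : N.subgroupOf (P : Subgroup G) ≠ ⊥ := fun hb => hnle (hb ▸ bot_le)
      obtain ⟨⟨z, hz⟩, hz0⟩ := Subgroup.ne_bot_iff_exists_ne_one.1
        (Cfsg.Agent.Lib.PGroups.normal_inf_center_ne_bot P.2 _ hne)
      have hz1 : z ≠ 1 := fun h1 => hz0 (Subtype.ext h1)
      have hzc : Subgroup.zpowers z = Subgroup.center ↥(P : Subgroup G) :=
        Subgroup.eq_of_le_of_card_ge ((Subgroup.zpowers_le).2 hz.2) (by
          rw [hcZ, Nat.card_zpowers]
          have hzp : (⟨z, hz.2⟩ : Subgroup.center ↥(P : Subgroup G)) ^ p = 1 :=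
            (congrArg (_ ^ ·) hcZ.symm).trans pow_card_eq_one'
          exact (orderOf_eq_prime (congrArg Subtype.val hzp :) hz1).ge)
      refine lt_of_le_of_ne (hzc ▸ (Subgroup.zpowers_le).2 hz.1) fun hc => hnle hc.ge
    -- `N ∩ P ≤ Φ(P)`, so `N` has a normal `p`-complement
    have hΦ : N ⊓ (P : Subgroup G) ≤ (frattini ↥(P : Subgroup G)).map (P : Subgroup G).subtype := by
      rintro x ⟨hxN, hxP⟩
      refine ⟨⟨x, hxP⟩, ?_, rfl⟩
      refine (?_ : Subgroup.center ↥(P : Subgroup G) ≤ _) (hle hxN)
      refine le_trans ?_ (Cfsg.Agent.Lib.PGroups.commutator_le_frattini (p := p) P.2)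
      by_contra hnle
      have hidx := Cfsg.Agent.Lib.PGroups.index_commutator_of_class (p := p) n (by omega) hP hmax
      haveI : (commutator ↥(P : Subgroup G)).Normal := inferInstance
      have hne : commutator ↥(P : Subgroup G) ≠ ⊥ := fun hb => by
        rw [hb, Subgroup.index_bot] at hidx
        have := Nat.pow_right_injective hp.two_le (hP.symm.trans hidx)
        omega
      obtain ⟨⟨z, hz⟩, hz0⟩ := Subgroup.ne_bot_iff_exists_ne_one.1
        (Cfsg.Agent.Lib.PGroups.normal_inf_center_ne_bot P.2 _ hne)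
      have hz1 : z ≠ 1 := fun h1 => hz0 (Subtype.ext h1)
      refine hnle ((Subgroup.eq_of_le_of_card_ge ((Subgroup.zpowers_le).2 hz.2) ?_).ge.trans
        ((Subgroup.zpowers_le).2 hz.1))
      rw [hcZ, Nat.card_zpowers]
      have hzp : (⟨z, hz.2⟩ : Subgroup.center ↥(P : Subgroup G)) ^ p = 1 :=
        (congrArg (_ ^ ·) hcZ.symm).trans pow_card_eq_one'
      exact (orderOf_eq_prime (congrArg Subtype.val hzp :) hz1).ge
    obtain ⟨R, K, hKn, hK⟩ := Cfsg.Agent.Lib.Transfer.Tate.hasNormalPComplement_of_inf_le_frattini P N hΦ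
    haveI := hKn
    have hKcop : (Nat.card K).Coprime p := by
      refine ((hp.coprime_iff_not_dvd).2 fun hd => R.not_dvd_index ?_).symm
      have h1 := hK.card_mul
      have h2 := (R : Subgroup N).card_mul_index
      rw [← h1, Nat.mul_comm (Nat.card K)] at h2
      rwa [Nat.eq_of_mul_eq_mul_left Nat.card_pos h2]
    haveI : K.Characteristic := by
      refine Subgroup.characteristic_iff_le_comap.2 fun φ k hk => ?_
      have himg : K.map φ.toMonoidHom ≤ Cfsg.pPrimeCore p N := by
        haveI : (K.map φ.toMonoidHom).Normal := Subgroup.Normal.map hKn _ φ.surjective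
        exact Cfsg.Agent.Lib.Cores.le_pPrimeCore (by rwa [Subgroup.card_map_of_injective φ.injective])
      have hKeq : K = Cfsg.pPrimeCore p N := by
        refine Subgroup.eq_of_le_of_card_ge (Cfsg.Agent.Lib.Cores.le_pPrimeCore hKcop) ?_
        refine Nat.le_of_dvd Nat.card_pos ?_
        have h3 := Subgroup.card_subgroup_dvd_card (Cfsg.pPrimeCore p N)
        rw [← hK.card_mul] at h3
        refine ((Nat.Coprime.dvd_mul_right ?_).1 h3)
        obtain ⟨i, hi⟩ := IsPGroup.iff_card.1 R.2
        rw [hi]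
        exact (Cfsg.Agent.Lib.Cores.pPrimeCore_coprime p).pow_right i
      rw [← hKeq] at himg
      exact himg ⟨k, hk, rfl⟩
    haveI : (K.map N.subtype).Normal := Cfsg.Agent.Lib.Cores.normal_map_subtype N K
    have hKbot : K = ⊥ := by
      have h1 : K.map N.subtype ≤ Cfsg.pPrimeCore p G :=
        Cfsg.Agent.Lib.Cores.le_pPrimeCore (by rwa [Subgroup.card_map_of_injective N.subtype_injective])
      rw [hcore, le_bot_iff, Subgroup.map_eq_bot_iff_of_injective _ N.subtype_injective] at h1
      exact h1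
    have hNp : IsPGroup p N := by
      obtain ⟨i, hi⟩ := IsPGroup.iff_card.1 R.2
      refine IsPGroup.of_card (n := i) ?_
      rw [← hK.card_mul, hKbot, Subgroup.card_bot, one_mul, hi]
    have hNP : N ≤ (P : Subgroup G) :=
      (Cfsg.Agent.Lib.Cores.le_pCore hNp).trans (Cfsg.Agent.Lib.Cores.pCore_le_sylow P)
    refine ⟨?_, ?_⟩
    · have hCn : (Subgroup.centralizer (N : Set G)).Normal := inferInstance
      have hPC : (P : Subgroup G) ≤ Subgroup.centralizer (N : Set G) := fun g hg =>
        Subgroup.mem_centralizer_iff.2 fun m hm =>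
          (congrArg Subtype.val (Subgroup.mem_center_iff.1 (hle (show (⟨m, hNP hm⟩ : (P : Subgroup G)) ∈
            N.subgroupOf P from hm)) ⟨g, hg⟩)).symm
      have htop := hres _ hCn
        ((hp.coprime_iff_not_dvd.2 fun hd => P.not_dvd_index (hd.trans (Subgroup.index_dvd_of_le hPC))).symm)
      intro m hm
      exact Subgroup.mem_center_iff.2 fun g =>
        (Subgroup.mem_centralizer_iff.1 (htop.symm ▸ Subgroup.mem_top g : g ∈ Subgroup.centralizer (N : Set G)) m hm).symm
    · have h1 := Subgroup.card_le_of_le hle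
      rwa [hcZ, Nat.card_congr (Subgroup.subgroupOfEquivOfLe hNP).toEquiv] at h1
  have hnab : Subgroup.center G ≠ ⊤ := fun hc => by
    have hcomm : IsMulCommutative ↥(P : Subgroup G) := ⟨⟨fun a b => Subtype.ext
      (Subgroup.mem_center_iff.1 (hc ▸ Subgroup.mem_top (b : G) : (b : G) ∈ Subgroup.center G) a)⟩⟩
    have := Cfsg.Agent.Lib.PGroups.nilpotencyClass_le_one_of_comm hcomm
    omega
  have hcen := hsmall _ inferInstance hnab
  have hperf : commutator G = ⊤ := by
    by_contra hne
    obtain ⟨hle, -⟩ := hsmall _ inferInstance hne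
    -- then `P Z(G) = G` is a `p`-group
    set M : Subgroup G := (P : Subgroup G) ⊔ Subgroup.center G with hM
    have hMn : M.Normal := ⟨fun m hm g => by
      rw [show g * m * g⁻¹ = ⁅g, m⁆ * m by group]
      exact mul_mem (Subgroup.mem_sup_right (hle (Subgroup.commutator_mem_commutator (Subgroup.mem_top g)
        (Subgroup.mem_top m)))) hm⟩
    have hMtop := hres M hMn ((hp.coprime_iff_not_dvd.2 fun hd =>
      P.not_dvd_index (hd.trans (Subgroup.index_dvd_of_le le_sup_left))).symm)
    have hZP : Subgroup.center G ≤ (P : Subgroup G) := by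
      obtain ⟨i, hi⟩ : ∃ i, Nat.card (Subgroup.center G) = p ^ i := by
        refine ⟨_, Nat.eq_prime_pow_of_unique_prime_dvd Nat.card_pos.ne' fun {q} hq hdvd => ?_⟩
        by_contra hqp
        haveI : Fact q.Prime := ⟨hq⟩
        obtain ⟨z, hz⟩ := exists_prime_orderOf_dvd_card' q hdvd
        have hzn : (Subgroup.zpowers (z : G)).Normal := ⟨fun w hw g => by
          obtain ⟨j, rfl⟩ := hw
          refine ⟨j, ?_⟩
          show (z : G) ^ j = g * (z : G) ^ j * g⁻¹
          rw [Subgroup.mem_center_iff.1 (Subgroup.zpow_mem _ z.2 j) g, mul_inv_cancel_right]⟩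
        haveI := hzn
        have hzc : Subgroup.zpowers (z : G) ≤ Cfsg.pPrimeCore p G := Cfsg.Agent.Lib.Cores.le_pPrimeCore (by
          rw [Nat.card_zpowers, Subgroup.orderOf_coe, hz]
          exact (Nat.coprime_primes hq hp).2 hqp)
        rw [hcore] at hzc
        have : orderOf (z : G) = 1 := orderOf_eq_one_iff.2 (Subgroup.mem_bot.1 (hzc (Subgroup.mem_zpowers _)))
        rw [Subgroup.orderOf_coe, hz] at this
        exact hq.ne_one this
      exact (Cfsg.Agent.Lib.Cores.le_pCore (IsPGroup.of_card hi)).trans (Cfsg.Agent.Lib.Cores.pCore_le_sylow P)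
    have hPtop : (P : Subgroup G) = ⊤ := by
      rw [← hMtop, hM, sup_eq_left.2 hZP]
    obtain ⟨x, -, -, hx⟩ := Cfsg.Agent.Lib.MaxClass.exists_uniform_notMem hn3 hP hmax ⊥ (by
      intro hb
      have := congrArg (fun H : Subgroup ↥(P : Subgroup G) => Nat.card H) hb
      simp only [Subgroup.card_bot, Subgroup.card_top, hP] at this
      exact (Nat.one_lt_pow (by omega) hp.one_lt).ne this)
    refine hex x x.2 ?_
    have he : Nat.card (Subgroup.centralizer ({(x : G)} : Set G)) =
        Nat.card (Subgroup.centralizer ({x} : Set ↥(P : Subgroup G))) := by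
      refine Nat.card_congr
        { toFun := fun c => ⟨⟨c, hPtop.ge (Subgroup.mem_top _)⟩, Subgroup.mem_centralizer_singleton_iff.2
            (Subtype.ext (Subgroup.mem_centralizer_singleton_iff.1 c.2))⟩
          invFun := fun c => ⟨(c : ↥(P : Subgroup G)), Subgroup.mem_centralizer_singleton_iff.2
            (congrArg Subtype.val (Subgroup.mem_centralizer_singleton_iff.1 c.2))⟩
          left_inv := fun c => rfl
          right_inv := fun c => rfl }
    rw [he, hx, hp.factorization_pow, Finsupp.single_eq_same]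
  refine ⟨⟨⟨hperf⟩, ?_⟩, hcen.2⟩
  haveI : Nontrivial (G ⧸ Subgroup.center G) := by
    rw [← Finite.one_lt_card_iff_nontrivial, ← Subgroup.index_eq_card]
    exact Nat.one_lt_iff_ne_zero_and_ne_one.2 ⟨Subgroup.index_ne_zero_of_finite, fun h1 =>
      hnab (Subgroup.index_eq_one.1 h1)⟩
  refine ⟨fun N hN => ?_⟩
  haveI := hN
  by_cases htop : N.comap (QuotientGroup.mk' (Subgroup.center G)) = ⊤
  · right
    rw [← Subgroup.map_comap_eq_self_of_surjective (QuotientGroup.mk'_surjective (Subgroup.center G)) N, htop,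
      Subgroup.map_top_of_surjective _ (QuotientGroup.mk'_surjective _)]
  · left
    obtain ⟨hle, -⟩ := hsmall _ inferInstance htop
    rw [← Subgroup.map_comap_eq_self_of_surjective (QuotientGroup.mk'_surjective (Subgroup.center G)) N,
      Subgroup.map_eq_bot_iff, QuotientGroup.ker_mk']
    exact hle

end Cfsg.Agent.S3865
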