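import Cfsg.Statements.S3866
import Cfsg.Agent.Lib.Coprime.Glauberman

set_option autoImplicit false
set_option linter.style.haveILetI false
open Cfsg

namespace Cfsg.Agent.S3866

open scoped commutatorElement Pointwise


/-- Let A be a commutative normal subgroup of the finite group G with G generated by A and an element x. Then a ↦ x a x⁻¹ a⁻¹ is a surjective homomorphism from A onto the commutator subgroup of G whose kernel is the centralizer of x in A; in particular the commutator subgroup has order equal to the index in A of that centralizer. -/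
theorem result {G : Type*} [Group G] [Finite G] (A : Subgroup G) [A.Normal] (hA : IsMulCommutative A) (x : G) (hgen : A ⊔ Subgroup.zpowers x = ⊤) : (∀ a ∈ A, x * a * x⁻¹ * a⁻¹ ∈ commutator G) ∧ (∀ c ∈ commutator G, ∃ a ∈ A, x * a * x⁻¹ * a⁻¹ = c) ∧ (∀ a ∈ A, ∀ b ∈ A, x * (a * b) * x⁻¹ * (a * b)⁻¹ = (x * a * x⁻¹ * a⁻¹) * (x * b * x⁻¹ * b⁻¹)) ∧ Nat.card (commutator G) * Nat.card ↥(A ⊓ Subgroup.centralizer ({x} : Set G)) = Nat.card A := by
  haveI := hA
  have hn : A.Normal := inferInstance
  have hcomm : ∀ a ∈ A, ∀ b ∈ A, a * b = b * a := fun a ha b hb =>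
    congrArg Subtype.val (mul_comm' (⟨a, ha⟩ : A) ⟨b, hb⟩)
  have hmem : ∀ a ∈ A, x * a * x⁻¹ * a⁻¹ ∈ A := fun a ha =>
    A.mul_mem (hn.conj_mem a ha x) (A.inv_mem ha)
  have hmul : ∀ a ∈ A, ∀ b ∈ A, x * (a * b) * x⁻¹ * (a * b)⁻¹ =
      (x * a * x⁻¹ * a⁻¹) * (x * b * x⁻¹ * b⁻¹) := by
    intro a ha b hb
    calc x * (a * b) * x⁻¹ * (a * b)⁻¹
        = (x * a * x⁻¹) * ((x * b * x⁻¹ * b⁻¹) * a⁻¹) := by group
      _ = (x * a * x⁻¹) * (a⁻¹ * (x * b * x⁻¹ * b⁻¹)) := by
          rw [hcomm _ (hmem b hb) _ (A.inv_mem ha)]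
      _ = _ := by group
  let f : A →* A := MonoidHom.mk' (fun a => ⟨x * a * x⁻¹ * (a : G)⁻¹, hmem a a.2⟩)
    (fun a b => Subtype.ext (hmul a a.2 b b.2))
  have hc : ∀ a ∈ A, x * a * x⁻¹ * a⁻¹ ∈ commutator G := fun a _ => by
    rw [commutator_def]
    exact Subgroup.commutator_mem_commutator (Subgroup.mem_top x) (Subgroup.mem_top a)
  let D : Subgroup G := f.range.map A.subtype
  have hDle : D ≤ A := Subgroup.map_subtype_le _
  have hxD : ∀ d ∈ D, x * d * x⁻¹ ∈ D := by
    rintro _ ⟨_, ⟨a, rfl⟩, rfl⟩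
    refine ⟨f ⟨x * a * x⁻¹, hn.conj_mem a a.2 x⟩, ⟨_, rfl⟩, ?_⟩
    show x * (x * a * x⁻¹) * x⁻¹ * (x * a * x⁻¹)⁻¹ = x * (x * a * x⁻¹ * (a : G)⁻¹) * x⁻¹
    group
  have hDn : D.Normal := by
    rw [← Subgroup.normalizer_eq_top_iff, ← top_le_iff, ← hgen]
    refine sup_le (Subgroup.le_normalizer_iff.2 fun a ha d hd => ?_) (Subgroup.zpowers_le.2 ?_)
    · rwa [hcomm a ha d (hDle hd), mul_inv_cancel_right]
    · refine (Lib.Coprime.smul_eq_iff_le_normalizer (A := Subgroup.zpowers x) (H := D)).1 ?_ (Subgroup.mem_zpowers x)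
      intro y hy
      have hx' : MulAut.conj x • D = D := by
        refine Subgroup.eq_of_le_of_card_ge ?_ (Lib.Coprime.card_conj_smul x D).ge
        rintro _ ⟨d, hd, rfl⟩
        exact hxD d hd
      obtain ⟨i, rfl⟩ := hy
      exact Lib.Coprime.conj_smul_eq_self_of_mem_normalizer
        (Subgroup.zpow_mem _ (Lib.Coprime.mem_normalizer_of_conj_smul_eq hx') i)
  haveI := hDn
  have hcl : commutator G ≤ D := by
    let π := QuotientGroup.mk' D
    have hax : ∀ a ∈ A, π x * π a = π a * π x := fun a ha => by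
      rw [← commutatorElement_eq_one_iff_mul_comm, ← map_commutatorElement,
        QuotientGroup.mk'_apply, QuotientGroup.eq_one_iff]
      exact ⟨f ⟨a, ha⟩, ⟨_, rfl⟩, rfl⟩
    have hall : ∀ g h : G, π g * π h = π h * π g := by
      have hcz : ∀ g : G, π g ∈ Subgroup.centralizer ((A.map π : Subgroup _) : Set (G ⧸ D)) ⊓
          Subgroup.centralizer ({π x} : Set (G ⧸ D)) := by
        intro g
        have hle : (⊤ : Subgroup G) ≤ (Subgroup.centralizer ((A.map π : Subgroup _) : Set (G ⧸ D)) ⊓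
            Subgroup.centralizer ({π x} : Set (G ⧸ D))).comap π := by
          rw [← hgen]
          refine sup_le (fun a ha => ⟨?_, ?_⟩) (Subgroup.zpowers_le.2 ⟨?_, ?_⟩)
          · show _ ∈ Subgroup.centralizer _
            rw [Subgroup.mem_centralizer_iff]
            rintro _ ⟨b, hb, rfl⟩
            rw [← map_mul, ← map_mul, hcomm a ha b hb]
          · show _ ∈ Subgroup.centralizer _
            rw [Subgroup.mem_centralizer_singleton_iff]
            exact (hax a ha).symm
          · show _ ∈ Subgroup.centralizer _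
            rw [Subgroup.mem_centralizer_iff]
            rintro _ ⟨b, hb, rfl⟩
            exact (hax b hb).symm
          · show _ ∈ Subgroup.centralizer _
            rw [Subgroup.mem_centralizer_singleton_iff]
        exact hle (Subgroup.mem_top g)
      intro g h
      have hle : (⊤ : Subgroup G) ≤ (Subgroup.centralizer ({π h} : Set (G ⧸ D))).comap π := by
        rw [← hgen]
        refine sup_le (fun a ha => ?_) (Subgroup.zpowers_le.2 ?_)
        · rw [Subgroup.mem_comap, Subgroup.mem_centralizer_singleton_iff]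
          exact Subgroup.mem_centralizer_iff.1 (hcz h).1 _ ⟨a, ha, rfl⟩
        · rw [Subgroup.mem_comap, Subgroup.mem_centralizer_singleton_iff]
          exact (Subgroup.mem_centralizer_singleton_iff.1 (hcz h).2).symm
      exact Subgroup.mem_centralizer_singleton_iff.1 (hle (Subgroup.mem_top g))
    rw [commutator_def, Subgroup.commutator_le]
    intro g _ h _
    rw [← QuotientGroup.eq_one_iff, ← QuotientGroup.mk'_apply, map_commutatorElement,
      commutatorElement_eq_one_iff_mul_comm]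
    exact hall g h
  have heq : commutator G = D := le_antisymm hcl (by rintro _ ⟨_, ⟨a, rfl⟩, rfl⟩; exact hc a a.2)
  refine ⟨hc, fun c hc' => ?_, hmul, ?_⟩
  · rw [heq] at hc'
    obtain ⟨_, ⟨a, rfl⟩, rfl⟩ := hc'
    exact ⟨a, a.2, rfl⟩
  · have hker : f.ker.map A.subtype = A ⊓ Subgroup.centralizer ({x} : Set G) := by
      ext a
      constructor
      · rintro ⟨b, hb, rfl⟩
        have h1 : x * b * x⁻¹ * (b : G)⁻¹ = 1 := congrArg Subtype.val (MonoidHom.mem_ker.1 hb)
        refine ⟨b.2, ?_⟩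
        show _ ∈ Subgroup.centralizer _
        rw [Subgroup.mem_centralizer_singleton_iff]
        rw [mul_inv_eq_one, mul_inv_eq_iff_eq_mul] at h1
        exact h1.symm
      · rintro ⟨ha, hac⟩
        refine ⟨⟨a, ha⟩, MonoidHom.mem_ker.2 (Subtype.ext ?_), rfl⟩
        show x * a * x⁻¹ * a⁻¹ = 1
        rw [← Subgroup.mem_centralizer_singleton_iff.1 hac, mul_inv_cancel_right, mul_inv_cancel]
    rw [← hker, Subgroup.card_map_of_injective A.subtype_injective, heq,
      Subgroup.card_map_of_injective A.subtype_injective, ← Subgroup.index_ker, Nat.mul_comm,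
      Subgroup.card_mul_index]

end Cfsg.Agent.S3866
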