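import Cfsg.Statements.S3867
import Cfsg.Agent.Lib.Coprime.Conjugacy

set_option autoImplicit false
set_option linter.style.haveILetI false
open Cfsg

namespace Cfsg.Agent.S3867

open scoped Pointwise

variable {G : Type*} [Group G] [Finite G] {p : ℕ} [Fact p.Prime]

theorem frattini_map (P : Sylow p G) (M : Subgroup G) [M.Normal] :
    (Subgroup.normalizer (((P : Subgroup G).map (QuotientGroup.mk' M)) : Set (G ⧸ M))).comap
      (QuotientGroup.mk' M) = Subgroup.normalizer ((P : Subgroup G) : Set G) ⊔ M := by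
  refine le_antisymm (fun g hg => ?_) (sup_le (Subgroup.map_le_iff_le_comap.1
    (Subgroup.le_normalizer_map _)) fun m hm => ?_)
  · have hmap : ((g • P : Sylow p G) : Subgroup G).map (QuotientGroup.mk' M) =
        (P : Subgroup G).map (QuotientGroup.mk' M) := by
      rw [Sylow.coe_subgroup_smul, Lib.Coprime.map_conj_smul]
      exact Lib.Coprime.conj_smul_eq_self_of_mem_normalizer hg
    have hgL : ((g • P : Sylow p G) : Subgroup G) ≤ (P : Subgroup G) ⊔ M := by
      have h1 := Subgroup.comap_map_eq (QuotientGroup.mk' M) (P : Subgroup G)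
      rw [QuotientGroup.ker_mk'] at h1
      rw [← h1, ← hmap]
      exact Subgroup.le_comap_map _ _
    obtain ⟨⟨l, hl⟩, hlP⟩ := MulAction.exists_smul_eq ↥((P : Subgroup G) ⊔ M)
      (P.subtype le_sup_left) ((g • P).subtype hgL)
    rw [Sylow.smul_subtype] at hlP
    have h2 : (l • P : Sylow p G) = g • P := by
      apply Sylow.ext
      have h3 := congrArg (fun S : Sylow p ↥((P : Subgroup G) ⊔ M) =>
        (S : Subgroup ↥((P : Subgroup G) ⊔ M)).map (Subgroup.subtype _)) hlP
      simp only [Sylow.coe_subtype] at h3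
      rwa [Subgroup.map_subgroupOf_eq_of_le, Subgroup.map_subgroupOf_eq_of_le hgL] at h3
      exact (Sylow.coe_subgroup_smul (g := l) (P := P)).le.trans (fun x hx => by
        obtain ⟨y, hy, rfl⟩ := hx
        exact mul_mem (mul_mem hl (Subgroup.mem_sup_left hy)) (inv_mem hl))
    have h4 : l⁻¹ * g ∈ Subgroup.normalizer ((P : Subgroup G) : Set G) := by
      refine Sylow.smul_eq_iff_mem_normalizer.1 ?_
      rw [mul_smul, ← h2, inv_smul_smul]
    have h5 : (P : Subgroup G) ⊔ M ≤ Subgroup.normalizer ((P : Subgroup G) : Set G) ⊔ M :=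
      sup_le_sup_right Subgroup.le_normalizer _
    simpa using mul_mem (h5 hl) (Subgroup.mem_sup_left h4)
  · rw [Subgroup.mem_comap]
    rw [QuotientGroup.mk'_apply, (QuotientGroup.eq_one_iff m).2 hm]
    exact one_mem _

theorem card_sylow_quotient (P : Sylow p G) (M : Subgroup G) [M.Normal] :
    Nat.card (Sylow p (G ⧸ M)) = (Subgroup.normalizer ((P : Subgroup G) : Set G) ⊔ M).index := by
  rw [Sylow.card_eq_index_normalizer (P.mapSurjective (QuotientGroup.mk'_surjective M)),
    ← frattini_map P M, Subgroup.index_comap_of_surjective _ (QuotientGroup.mk'_surjective M)]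
  rfl


/-- Let M and N be nontrivial normal subgroups of the finite group G with M ⊓ N trivial, and let p be a prime. Writing n(X) for the number of Sylow p-subgroups of a group X, one has n(G) · n(G/MN) = n(G/M) · n(G/N). -/
theorem result {G : Type*} [Group G] [Finite G] (p : ℕ) [Fact p.Prime] (M N : Subgroup G) [M.Normal] [N.Normal] (hM : M ≠ ⊥) (hN : N ≠ ⊥) (hMN : M ⊓ N = ⊥) : Nat.card (Sylow p G) * Nat.card (Sylow p (G ⧸ (M ⊔ N))) = Nat.card (Sylow p (G ⧸ M)) * Nat.card (Sylow p (G ⧸ N)) := by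
  obtain ⟨P⟩ : Nonempty (Sylow p G) := inferInstance
  rw [Sylow.card_eq_index_normalizer P, card_sylow_quotient P, card_sylow_quotient P,
    card_sylow_quotient P]
  set R := Subgroup.normalizer ((P : Subgroup G) : Set G) with hR
  -- the key intersection
  have hint : (R ⊔ M) ⊓ (R ⊔ N) = R := by
    refine le_antisymm (fun g hg => ?_) (le_inf le_sup_left le_sup_left)
    have h1 : ∀ (K : Subgroup G) [K.Normal], g ∈ R ⊔ K →
        g ∈ Subgroup.normalizer ((((P : Subgroup G).map (QuotientGroup.mk' K)).comap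
          (QuotientGroup.mk' K) : Subgroup G) : Set G) := by
      intro K _ hgK
      rw [hR, ← frattini_map P K] at hgK
      exact Subgroup.le_normalizer_comap _ hgK
    let X := ((P : Subgroup G).map (QuotientGroup.mk' M)).comap (QuotientGroup.mk' M) ⊓
      ((P : Subgroup G).map (QuotientGroup.mk' N)).comap (QuotientGroup.mk' N)
    have hX : IsPGroup p X := by
      let f : X →* ((P : Subgroup G).map (QuotientGroup.mk' M)) × ((P : Subgroup G).map (QuotientGroup.mk' N)) :=
        MonoidHom.prod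
          (((QuotientGroup.mk' M).comp X.subtype).codRestrict _ fun x => x.2.1)
          (((QuotientGroup.mk' N).comp X.subtype).codRestrict _ fun x => x.2.2)
      refine IsPGroup.of_injective ?_ f ?_
      · intro ⟨a, b⟩
        obtain ⟨i, hi⟩ := (P.isPGroup'.map (QuotientGroup.mk' M)) a
        obtain ⟨j, hj⟩ := (P.isPGroup'.map (QuotientGroup.mk' N)) b
        refine ⟨i + j, Prod.ext ?_ ?_⟩
        · rw [Prod.pow_fst, pow_add, pow_mul, hi, one_pow, Prod.fst_one]
        · rw [Prod.pow_snd, add_comm, pow_add, pow_mul, hj, one_pow, Prod.snd_one]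
      · rw [injective_iff_map_eq_one]
        intro x hx
        have hxM : (x : G) ∈ M := (QuotientGroup.eq_one_iff (x : G)).1
          (congrArg (fun z => ((z.1 : _) : G ⧸ M)) hx)
        have hxN : (x : G) ∈ N := (QuotientGroup.eq_one_iff (x : G)).1
          (congrArg (fun z => ((z.2 : _) : G ⧸ N)) hx)
        have : (x : G) ∈ M ⊓ N := ⟨hxM, hxN⟩
        rw [hMN] at this
        exact Subtype.ext this
    have hPX : X = P := P.3 hX (le_inf (Subgroup.le_comap_map _ _) (Subgroup.le_comap_map _ _))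
    rw [hR, ← hPX, Subgroup.mem_normalizer_iff]
    intro y
    exact and_congr ((Subgroup.mem_normalizer_iff.1 (h1 M hg.1)) y)
      ((Subgroup.mem_normalizer_iff.1 (h1 N hg.2)) y)
  have hA : (R ⊔ M) ⊓ N = R ⊓ N :=
    le_antisymm (le_inf ((inf_le_inf_left _ le_sup_right).trans hint.le) inf_le_right)
      (inf_le_inf_right N le_sup_left)
  have hcard : ∀ X : Subgroup G, Nat.card ↥(X ⊔ N) * Nat.card ↥(X ⊓ N) = Nat.card X * Nat.card N := by
    intro X
    have h1 := Subgroup.relIndex_mul_relIndex ⊥ N (X ⊔ N) bot_le le_sup_right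
    have h2 := Subgroup.relIndex_mul_relIndex ⊥ (X ⊓ N) X bot_le inf_le_left
    rw [Subgroup.relIndex_bot_left, Subgroup.relIndex_bot_left, Subgroup.relIndex_sup_right] at h1
    rw [Subgroup.relIndex_bot_left, Subgroup.relIndex_bot_left, Subgroup.inf_relIndex_left] at h2
    rw [← h1, ← h2]
    ring
  have hC := hcard (R ⊔ M)
  have hB := hcard R
  rw [hA, sup_assoc] at hC
  have key : Nat.card ↥(R ⊔ (M ⊔ N)) * Nat.card R = Nat.card ↥(R ⊔ M) * Nat.card ↥(R ⊔ N) := by
    refine Nat.eq_of_mul_eq_mul_left (Nat.card_pos (α := ↥(R ⊓ N))) ?_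
    calc _ = Nat.card ↥(R ⊔ (M ⊔ N)) * Nat.card ↥(R ⊓ N) * Nat.card R := by ring
      _ = Nat.card ↥(R ⊔ M) * (Nat.card R * Nat.card N) := by rw [hC]; ring
      _ = _ := by rw [← hB]; ring
  refine Nat.eq_of_mul_eq_mul_left (Nat.mul_pos (Nat.card_pos (α := ↥(R ⊔ M))) (Nat.card_pos (α := ↥(R ⊔ N)))) ?_
  change Nat.card ↥(R ⊔ M) * Nat.card ↥(R ⊔ N) * (R.index * (R ⊔ (M ⊔ N)).index) = _
  conv_lhs => rw [← key]
  calc _ = (Nat.card R * R.index) * (Nat.card ↥(R ⊔ (M ⊔ N)) * (R ⊔ (M ⊔ N)).index) := by ring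
    _ = (Nat.card ↥(R ⊔ M) * (R ⊔ M).index) * (Nat.card ↥(R ⊔ N) * (R ⊔ N).index) := by
        simp only [Subgroup.card_mul_index]
    _ = _ := by ring

end Cfsg.Agent.S3867
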