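import Cfsg.Statements.S3869
import Cfsg.Agent.Lib.MinimalNonClosed67.NonSimple

set_option autoImplicit false
open Cfsg

namespace Cfsg.Agent.S3869

open Cfsg.Agent.Lib

theorem mem_normalizer_of_comm {G : Type*} [Group G] {A B : Subgroup G}
    (hAc : ∀ a ∈ A, ∀ b ∈ A, a * b = b * a) (hB : B ≤ A) {a : G} (ha : a ∈ A) :
    a ∈ Subgroup.normalizer (B : Set G) := by
  refine Subgroup.mem_normalizer_iff.2 fun y => ⟨fun hy => ?_, fun hy => ?_⟩
  · rwa [hAc a ha y (hB hy), mul_inv_cancel_right]
  · have h1 : a⁻¹ * (a * y * a⁻¹) * a = a * y * a⁻¹ := by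
      rw [hAc a⁻¹ (inv_mem ha) _ (hB hy), inv_mul_cancel_right]
    have h2 : y = a * y * a⁻¹ := Eq.trans (by group) h1
    rwa [h2]

/-- Let p and q be distinct primes and G a finite non-abelian group with a normal elementary abelian q-subgroup A that is a minimal normal subgroup of G and has index p. Then A has order q^e with e the multiplicative order of q modulo p, and G is minimal non-p-closed: its Sylow p-subgroups are not normal, while in every proper subgroup and in every proper quotient of G the Sylow p-subgroups are normal. -/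
theorem result {G : Type*} [Group G] [Finite G] {p q : ℕ} [Fact p.Prime] (hq : q.Prime) (hpq : q ≠ p)
    (hna : ¬ IsMulCommutative G) (A : Subgroup G) [A.Normal] (hA : Cfsg.IsElementaryAbelian q A) (hidx : A.index = p)
    (hmin : ∀ B : Subgroup G, B.Normal → B ≤ A → B = ⊥ ∨ B = A) :
    Nat.card ↥A = q ^ orderOf (q : ZMod p) ∧ ¬ Cfsg.IsPClosed p G ∧ (∀ H : Subgroup G, H ≠ ⊤ → Cfsg.IsPClosed p ↥H) ∧
      ∀ (N : Subgroup G) [N.Normal], N ≠ ⊥ → Cfsg.IsPClosed p (G ⧸ N) := by
  have hp := (Fact.out : p.Prime)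
  have := Fact.mk hq
  have hAn : A.Normal := inferInstance
  have hclosed : ∀ {K : Type _} [Group K] [Finite K], IsPGroup p K → IsPClosed p K := by
    intro K _ _ hK P
    rw [show (P : Subgroup K) = ⊤ from (P.3 (hK.of_equiv Subgroup.topEquiv.symm) le_top).symm]
    infer_instance
  obtain ⟨P⟩ : Nonempty (Sylow p G) := inferInstance
  have hpA : ¬ p ∣ Nat.card A := by
    obtain ⟨k, hk⟩ := IsPGroup.iff_card.1 (PGroups.elemAb_isPGroup hA)
    rw [hk]
    intro h
    exact hpq ((Nat.prime_dvd_prime_iff_eq hp hq).1 (hp.dvd_of_dvd_pow h)).symm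
  have hA1 : A ≠ ⊥ := fun h => by
    rw [h, Subgroup.index_bot] at hidx
    have := isCyclic_of_prime_card hidx
    exact hna inferInstance
  have hPcard : Nat.card (P : Subgroup G) = p := by
    rw [P.card_eq_multiplicity, ← A.card_mul_index, hidx,
      Nat.factorization_mul Nat.card_pos.ne' hp.ne_zero, Finsupp.add_apply,
      Nat.factorization_eq_zero_of_not_dvd hpA, hp.factorization_self, zero_add, pow_one]
  have := isCyclic_of_prime_card hPcard
  obtain ⟨⟨x, hxP⟩, hxgen⟩ := IsCyclic.exists_generator (α := (P : Subgroup G))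
  have hxo : orderOf x = p := by
    rw [← hPcard, ← orderOf_eq_card_of_forall_mem_zpowers hxgen, Subgroup.orderOf_mk]
  have hxA : x ∉ A := fun h => hpA (hxo ▸ Subgroup.orderOf_dvd_natCard A h)
  have hmax : ∀ H : Subgroup G, ¬ H ≤ A → H ⊔ A = ⊤ := by
    intro H hH
    rw [← Subgroup.index_eq_one]
    have h1 := Subgroup.relIndex_mul_index (le_sup_right : A ≤ H ⊔ A)
    rw [hidx] at h1
    refine ((Nat.dvd_prime hp).1 ⟨_, by rw [mul_comm] at h1; exact h1.symm⟩).resolve_right fun h => hH ?_
    rw [h, Nat.mul_eq_right hp.ne_zero, Subgroup.relIndex_eq_one] at h1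
    exact le_sup_left.trans h1
  have hgen : Subgroup.zpowers x ⊔ A = ⊤ := hmax _ fun h => hxA (h (Subgroup.mem_zpowers x))
  have hAc : ∀ a ∈ A, ∀ b ∈ A, a * b = b * a := fun a ha b hb => PGroups.elemAb_comm hA ha hb
  have hcA : A ≤ Subgroup.centralizer (A : Set G) := fun a ha =>
    Subgroup.mem_centralizer_iff.2 fun b hb => hAc b hb a ha
  obtain ⟨a, ha, hxa⟩ : ∃ a ∈ A, x * a ≠ a * x := by
    by_contra h
    push Not at h
    have hcx : ∀ g : G, g * x = x * g := fun g => by
      have : Subgroup.zpowers x ⊔ A ≤ Subgroup.centralizer {x} := sup_le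
        (Subgroup.zpowers_le.2 (Subgroup.mem_centralizer_singleton_iff.2 rfl))
        (fun a ha => Subgroup.mem_centralizer_singleton_iff.2 (h a ha).symm)
      exact Subgroup.mem_centralizer_singleton_iff.1 (this (hgen ▸ Subgroup.mem_top g))
    have hcg : ∀ a ∈ A, ∀ g : G, g * a = a * g := fun a ha g => by
      have : Subgroup.zpowers x ⊔ A ≤ Subgroup.centralizer {a} := sup_le
        (Subgroup.zpowers_le.2 (Subgroup.mem_centralizer_singleton_iff.2 (hcx a).symm))
        (fun b hb => Subgroup.mem_centralizer_singleton_iff.2 (hAc b hb a ha))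
      exact Subgroup.mem_centralizer_singleton_iff.1 (this (hgen ▸ Subgroup.mem_top g))
    refine hna ⟨⟨fun g g' => ?_⟩⟩
    have : Subgroup.zpowers x ⊔ A ≤ Subgroup.centralizer {g'} := sup_le
      (Subgroup.zpowers_le.2 (Subgroup.mem_centralizer_singleton_iff.2 (hcx g').symm))
      (fun b hb => Subgroup.mem_centralizer_singleton_iff.2 (hcg b hb g').symm)
    exact Subgroup.mem_centralizer_singleton_iff.1 (this (hgen ▸ Subgroup.mem_top g))
  have hnormal : ∀ B : Subgroup G, B ≤ A → x ∈ Subgroup.normalizer (B : Set G) → B.Normal := by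
    intro B hB hx
    rw [← Subgroup.normalizer_eq_top_iff, eq_top_iff, ← hgen]
    exact sup_le (Subgroup.zpowers_le.2 hx) fun a ha => mem_normalizer_of_comm hAc hB ha
  have hdvd : ∀ H : Subgroup G, H ⊓ A = ⊥ → Nat.card H ∣ A.index := fun H h => by
    have h1 := Subgroup.relIndex_dvd_index_of_normal A H
    rwa [← Subgroup.inf_relIndex_right, inf_comm, h, Subgroup.relIndex_bot_left] at h1
  refine ⟨?_, ?_, ?_, ?_⟩
  · refine MinimalNonClosed67.card_eq_of_irreducible hpq hA (hxo ▸ pow_orderOf_eq_one x) ha hxa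
      fun B hB hinv => hmin B (hnormal B hB ?_) hB
    have hle : B.map (MulAut.conj x).toMonoidHom ≤ B := by
      rintro _ ⟨b, hb, rfl⟩
      exact hinv b hb
    have heq : B.map (MulAut.conj x).toMonoidHom = B := Subgroup.eq_of_le_of_card_ge hle
      (le_of_eq (Nat.card_congr (B.equivMapOfInjective _ (MulAut.conj x).injective).toEquiv))
    refine Subgroup.mem_normalizer_iff.2 fun y => ⟨fun hy => hinv y hy, fun hy => ?_⟩
    rw [← heq] at hy
    obtain ⟨b, hb, he⟩ := hy
    rwa [show y = b from ((MulAut.conj x).injective (by simpa [MulAut.conj_apply] using he)).symm]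
  · intro hc
    have hPn : (P : Subgroup G).Normal := hc P
    have hd : (P : Subgroup G) ⊓ A = ⊥ := Subgroup.inf_eq_bot_of_coprime
      (hPcard.symm ▸ hp.coprime_iff_not_dvd.2 hpA)
    exact hxa (Subgroup.commute_of_normal_of_disjoint _ _ hPn hAn (disjoint_iff.2 hd) x a hxP ha)
  · intro H hH
    by_cases hHA : H ≤ A
    · intro S
      have h1 := (IsPGroup.iff_card.1 S.2)
      obtain ⟨k, hk⟩ := h1
      rcases Nat.eq_zero_or_pos k with rfl | hk0
      · rw [Subgroup.card_eq_one.1 (by simpa using hk : Nat.card (S : Subgroup H) = 1)]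
        infer_instance
      · exact absurd ((dvd_pow_self p hk0.ne').trans
          ((hk ▸ Subgroup.card_subgroup_dvd_card (S : Subgroup H)).trans (Subgroup.card_dvd_of_le hHA))) hpA
    · have hsup := hmax H hHA
      have hn : (H ⊓ A).Normal := by
        rw [← Subgroup.normalizer_eq_top_iff, eq_top_iff, ← hsup]
        refine sup_le (fun h hh => Subgroup.mem_normalizer_iff.2 fun y => ?_)
          (fun a ha => mem_normalizer_of_comm hAc inf_le_right ha)
        simp only [Subgroup.mem_inf]
        exact and_congr (by rw [Subgroup.mul_mem_cancel_right _ (inv_mem hh), Subgroup.mul_mem_cancel_left _ hh])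
          ⟨fun h' => hAn.conj_mem y h' h, fun h' => by simpa [mul_assoc] using hAn.conj_mem _ h' h⁻¹⟩
      rcases hmin _ hn inf_le_right with h | h
      · obtain ⟨k, -, hk⟩ := (Nat.dvd_prime_pow hp).1 ((pow_one p).symm ▸ hidx ▸ hdvd H h)
        exact hclosed (IsPGroup.of_card hk)
      · rw [inf_eq_right] at h
        rw [sup_eq_left.2 h] at hsup
        exact absurd hsup hH
  · intro N hNn hN
    rcases hmin (N ⊓ A) inferInstance inf_le_right with h | h
    · exfalso
      have hcomm : N ≤ Subgroup.centralizer {a} := fun n hn => Subgroup.mem_centralizer_singleton_iff.2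
        (Subgroup.commute_of_normal_of_disjoint _ _ hNn hAn (disjoint_iff.2 h) n a hn ha)
      have hNA : ¬ N ≤ A := fun hle => hN (by rwa [inf_eq_left.2 hle] at h)
      exact hxa (Subgroup.mem_centralizer_singleton_iff.1 (sup_le hcomm
        (fun b hb => Subgroup.mem_centralizer_singleton_iff.2 (hAc b hb a ha))
        (hmax N hNA ▸ Subgroup.mem_top x)))
    · rw [inf_eq_right] at h
      refine hclosed fun g => ⟨1, ?_⟩
      induction g using QuotientGroup.induction_on with
      | _ g =>
        rw [← QuotientGroup.mk_pow, QuotientGroup.eq_one_iff, pow_one]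
        exact h (hidx ▸ A.pow_index_mem g)

end Cfsg.Agent.S3869
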