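import Cfsg.Statements.S3870
import Cfsg.Agent.Lib.Cores.Normalizer

set_option autoImplicit false
set_option linter.style.haveILetI false
open Cfsg

namespace Cfsg.Agent.S3870

open scoped Pointwise


/-- Let G be a finite simple group whose Sylow p-subgroups are not normal but such that every proper subgroup of G has a normal Sylow p-subgroup. Then any two distinct Sylow p-subgroups of G intersect trivially, and for every Sylow p-subgroup P the normalizer of every non-identity subgroup of P lies in the normalizer of P. -/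
theorem result {G : Type*} [Group G] [Finite G] [IsSimpleGroup G] {p : ℕ} [Fact p.Prime]
    (hnc : ¬ Cfsg.IsPClosed p G) (hsub : ∀ H : Subgroup G, H ≠ ⊤ → Cfsg.IsPClosed p ↥H) :
    (∀ P Q : Sylow p G, P ≠ Q → (P : Subgroup G) ⊓ (Q : Subgroup G) = ⊥) ∧
      ∀ (P : Sylow p G) (R : Subgroup G), R ≤ P → R ≠ ⊥ →
        Subgroup.normalizer (R : Set G) ≤ Subgroup.normalizer ((P : Subgroup G) : Set G) := by
  have hTI : ∀ P Q : Sylow p G, P ≠ Q → (P : Subgroup G) ⊓ (Q : Subgroup G) = ⊥ := by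
    by_contra hcon
    push Not at hcon
    obtain ⟨P₁, Q₁, hne₁, hint₁⟩ := hcon
    let S := {D : Subgroup G | D ≠ ⊥ ∧ ∃ P Q : Sylow p G, P ≠ Q ∧ D = (P : Subgroup G) ⊓ (Q : Subgroup G)}
    obtain ⟨D, hD⟩ := (Set.toFinite S).exists_maximal ⟨_, hint₁, P₁, Q₁, hne₁, rfl⟩
    obtain ⟨hD0, P, Q, hne, hDPQ⟩ := hD.1
    have hlt : ∀ P' Q' : Sylow p G, P' ≠ Q' → D = (P' : Subgroup G) ⊓ (Q' : Subgroup G) →
        D < (P' : Subgroup G) := by
      intro P' Q' h1 h2
      refine lt_of_le_of_ne (h2 ▸ inf_le_left) fun he => h1 ?_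
      have h3 : (P' : Subgroup G) ≤ Q' := by rw [← he, h2]; exact inf_le_right
      exact (Sylow.ext (P'.3 Q'.isPGroup' h3)).symm
    have hDne : Subgroup.normalizer (D : Set G) ≠ ⊤ := fun h => by
      haveI := Subgroup.normalizer_eq_top_iff.1 h
      rcases IsSimpleGroup.eq_bot_or_eq_top_of_normal D inferInstance with h' | h'
      · exact hD0 h'
      · exact absurd (hlt P Q hne hDPQ) (h' ▸ not_top_lt)
    let N := Subgroup.normalizer (D : Set G)
    have hcl := hsub N hDne
    haveI : Finite (Sylow p N) := inferInstance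
    obtain ⟨S₀⟩ : Nonempty (Sylow p N) := inferInstance
    haveI := S₀.unique_of_normal (hcl S₀)
    have hS₀ : IsPGroup p ((S₀ : Subgroup N).map N.subtype) := S₀.isPGroup'.map _
    obtain ⟨R, hR⟩ := hS₀.exists_le_sylow
    have key : ∀ P' Q' : Sylow p G, P' ≠ Q' → D = (P' : Subgroup G) ⊓ (Q' : Subgroup G) → P' = R := by
      intro P' Q' h1 h2
      by_contra hne'
      haveI : Fact p.Prime := inferInstance
      have h3 := Lib.Cores.Normalizer.lt_normalizer_inf P'.isPGroup'.isNilpotent (hlt P' Q' h1 h2)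
      have h4 : N ⊓ (P' : Subgroup G) ≤ (R : Subgroup G) := by
        refine le_trans ?_ hR
        intro x hx
        obtain ⟨T, hT⟩ := (P'.isPGroup'.comap_subtype (K := N)).exists_le_sylow
        rw [Subsingleton.elim T S₀] at hT
        exact ⟨⟨x, hx.1⟩, hT hx.2, rfl⟩
      have h5 : D < (P' : Subgroup G) ⊓ (R : Subgroup G) := h3.trans_le (le_inf inf_le_right h4)
      exact h5.not_ge (hD.2 ⟨fun h => hD0 (le_bot_iff.1 (h ▸ h5.le)), P', R, hne', rfl⟩ h5.le)
    exact hne ((key P Q hne hDPQ).trans (key Q P (Ne.symm hne) (by rw [hDPQ, inf_comm])).symm)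
  refine ⟨hTI, fun P R hRP hR0 g hg => ?_⟩
  refine Sylow.smul_eq_iff_mem_normalizer.1 ?_
  by_contra hne
  refine hR0 (le_bot_iff.1 ?_)
  rw [← hTI _ _ hne]
  refine le_inf ?_ hRP
  intro r hr
  rw [Sylow.coe_subgroup_smul]
  rw [Subgroup.mem_pointwise_smul_iff_inv_smul_mem]
  refine hRP ?_
  have := (Subgroup.mem_normalizer_iff.1 (inv_mem hg) r).1 hr
  simpa [MulAut.smul_def] using this

end Cfsg.Agent.S3870
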