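import Cfsg.Statements.S3872
import Cfsg.Agent.Lib.PGroupTheory.Regular
import Cfsg.Agent.Lib.PGroupTheory.RankTwoLarge
import Cfsg.Agent.Lib.PGroups.UniqueInvolution

set_option autoImplicit false
open Cfsg

namespace Cfsg.Agent.S3872

open Cfsg.Agent.Lib Cfsg.Agent.Lib.PGroupTheory

theorem card_lt_of_lt_aux {G : Type*} [Group G] [Finite G] {H K : Subgroup G} (h : H < K) :
    Nat.card H < Nat.card K :=
  lt_of_not_ge fun hle => h.ne (Subgroup.eq_of_le_of_card_ge h.le hle)

theorem mul_pow_of_comm_aux {G : Type*} [Group G] (h : IsMulCommutative G) (a b : G) (n : ℕ) :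
    (a * b) ^ n = a ^ n * b ^ n :=
  Commute.mul_pow (h.is_comm.comm a b) n


/-- Say that a finite group is p-exponent closed when its elements of order dividing p form a subgroup. Let G be a finite p-group that is not p-exponent closed, but all of whose proper subgroups and proper quotients are. Then G is generated by two elements, has nilpotency class at least p, has exponent p², has cyclic center, and has order at least p^(p+1). -/
theorem result {G : Type*} [Group G] [Finite G] {p : ℕ} [Fact p.Prime] (hG : IsPGroup p G)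
    (hnc : ¬ (∃ H : Subgroup G, (H : Set G) = {g : G | g ^ p = 1})) (hsub : ∀ K : Subgroup G, K ≠ ⊤ → (∃ H : Subgroup ↥K, (H : Set ↥K) = {g : ↥K | g ^ p = 1}))
    (hquo : ∀ (N : Subgroup G) [N.Normal], N ≠ ⊥ → (∃ H : Subgroup (G ⧸ N), (H : Set (G ⧸ N)) = {g : (G ⧸ N) | g ^ p = 1})) :
    (∃ x y : G, Subgroup.closure ({x, y} : Set G) = ⊤) ∧ (⊤ : Subgroup G).lowerCentralSeries (p - 1) ≠ ⊥ ∧
      Monoid.exponent G = p ^ 2 ∧ IsCyclic ↥(Subgroup.center G) ∧ p ^ (p + 1) ≤ Nat.card G := by
  have hp := (Fact.out : p.Prime)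
  obtain ⟨a, b, ha, hb, hab⟩ : ∃ a b : G, a ^ p = 1 ∧ b ^ p = 1 ∧ (a * b) ^ p ≠ 1 := by
    by_contra h
    push Not at h
    exact hnc ⟨{ carrier := {g : G | g ^ p = 1}
                 mul_mem' := fun {x y} hx hy => h x y hx hy
                 one_mem' := one_pow p
                 inv_mem' := fun {x} hx => by
                   change x⁻¹ ^ p = 1
                   rw [inv_pow, show x ^ p = 1 from hx, inv_one] }, rfl⟩
  have hgen : Subgroup.closure ({a, b} : Set G) = ⊤ := by
    by_contra hne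
    set K := Subgroup.closure ({a, b} : Set G)
    obtain ⟨H, hH⟩ := hsub K hne
    have hmem : ∀ g : K, g ∈ H ↔ g ^ p = 1 := fun g => by rw [← SetLike.mem_coe, hH]; rfl
    let a' : K := ⟨a, Subgroup.subset_closure (by simp)⟩
    let b' : K := ⟨b, Subgroup.subset_closure (by simp)⟩
    exact hab (congrArg Subtype.val ((hmem (a' * b')).1
      (mul_mem ((hmem a').2 (Subtype.ext ha)) ((hmem b').2 (Subtype.ext hb)))))
  have hqexp : ∀ (M : Subgroup G) [M.Normal], M ≠ ⊥ → ∀ g : G, g ^ p ∈ M := by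
    intro M _ hM g
    obtain ⟨H, hH⟩ := hquo M hM
    have h : ((g : G ⧸ M)) ∈ H := by
      have hle : Subgroup.closure ({a, b} : Set G) ≤ H.comap (QuotientGroup.mk' M) :=
        (Subgroup.closure_le _).2 fun u hu => by
          have hu' : u ^ p = 1 := by
            rcases hu with rfl | rfl
            exacts [ha, hb]
          change (u : G ⧸ M) ∈ H
          rw [← SetLike.mem_coe, hH, Set.mem_setOf_eq, ← QuotientGroup.mk_pow, hu', QuotientGroup.mk_one]
      exact hle (hgen ▸ Subgroup.mem_top g)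
    rw [← SetLike.mem_coe, hH, Set.mem_setOf_eq, ← QuotientGroup.mk_pow, QuotientGroup.eq_one_iff] at h
    exact h
  have hGp : ∀ e, ¬ (RegularAt p e G ∧ e = 1) := by
    rintro e ⟨hR, rfl⟩
    exact hab (by simpa using pow_mul_eq_one hG hR (a := a) (b := b) (by simpa using ha) (by simpa using hb))
  have hclass : (⊤ : Subgroup G).lowerCentralSeries (p - 1) ≠ ⊥ := fun h =>
    hGp 1 ⟨(isRegularPGroup_iff.1 (isRegularPGroup_of_lowerCentralSeries_eq_bot hG h)).2 1, rfl⟩
  have hcent : ∀ z ∈ Subgroup.center G, orderOf z = p → ∀ g : G, g ^ p ∈ Subgroup.zpowers z := by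
    intro z hz hzo
    have : (Subgroup.zpowers z).Normal := ⟨fun n hn g => by
      have hnc : n ∈ Subgroup.center G := (Subgroup.zpowers_le.2 hz) hn
      rwa [Subgroup.mem_center_iff.1 hnc g, mul_inv_cancel_right]⟩
    refine hqexp _ fun h => ?_
    rw [Subgroup.zpowers_eq_bot] at h
    rw [h, orderOf_one] at hzo
    exact hp.one_lt.ne hzo
  have : Nontrivial G := ⟨⟨(a * b) ^ p, 1, hab⟩⟩
  have hZne : Subgroup.center G ≠ ⊥ := hG.bot_lt_center.ne'
  obtain ⟨z, hz, hzo⟩ := PGroups.exists_orderOf_eq_prime_of_ne_bot (hG.to_subgroup _) hZne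
  refine ⟨⟨a, b, hgen⟩, hclass, ?_, ?_, ?_⟩
  · have hd : Monoid.exponent G ∣ p ^ 2 := Monoid.exponent_dvd_of_forall_pow_eq_one fun g => by
      obtain ⟨i, hi⟩ := Subgroup.mem_zpowers_iff.1 (hcent z hz hzo g)
      rw [pow_two, pow_mul, ← hi, ← zpow_natCast, ← zpow_mul, mul_comm, zpow_mul, zpow_natCast,
        ← hzo, pow_orderOf_eq_one, one_zpow]
    obtain ⟨j, hj, he⟩ := (Nat.dvd_prime_pow hp).1 hd
    have hj2 : ¬ j ≤ 1 := fun h => hab (by
      have h1 : Monoid.exponent G ∣ p := he ▸ (pow_dvd_pow p h).trans (pow_one p).dvd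
      obtain ⟨c, hc⟩ := h1
      rw [hc, pow_mul, Monoid.pow_exponent_eq_one, one_pow])
    rw [he, show j = 2 by omega]
  · refine PGroups.isCyclic_of_comm_omega inferInstance (hG.to_subgroup _) ?_
    obtain ⟨g, hg⟩ : ∃ g : G, g ^ p ≠ 1 := ⟨_, hab⟩
    have hle : Cfsg.omegaOne p (Subgroup.center G) ≤ Subgroup.zpowers (g ^ p) := by
      refine (Subgroup.closure_le _).2 fun y hy => ?_
      rcases eq_or_ne y 1 with rfl | hy1
      · exact one_mem _
      have hyo : orderOf y = p := orderOf_eq_prime hy.2 hy1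
      have hm := hcent y hy.1 hyo g
      exact RankTwo.zpowers_eq_of_prime hyo hm hg
    refine (Subgroup.card_le_of_le hle).trans ?_
    rw [Nat.card_zpowers]
    refine Nat.le_of_dvd hp.pos (orderOf_dvd_of_pow_eq_one ?_)
    obtain ⟨i, hi⟩ := Subgroup.mem_zpowers_iff.1 (hcent z hz hzo g)
    rw [← hi, ← zpow_natCast, ← zpow_mul, mul_comm, zpow_mul, zpow_natCast, ← hzo, pow_orderOf_eq_one, one_zpow]
  · by_contra hlt
    push Not at hlt
    obtain ⟨n, hn⟩ := IsPGroup.iff_card.1 hG
    have hnp : n ≤ p := Nat.lt_succ_iff.1 ((Nat.pow_lt_pow_iff_right hp.one_lt).1 (hn ▸ hlt))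
    have : Group.IsNilpotent G := hG.isNilpotent
    obtain ⟨k, hk⟩ := IsPGroup.iff_card.1 (hG.to_subgroup (commutator G))
    have hab2 : commutator G ≠ ⊥ := fun h => hab (by
      rw [commutator_eq_bot_iff] at h
      rw [mul_pow_of_comm_aux h a b p, ha, hb, one_mul])
    have hk2 : k + 2 ≤ n := by
      have hlt1 : commutator G < Subgroup.zpowers a ⊔ commutator G := by
        refine lt_of_le_of_ne le_sup_right fun h => ?_
        have haC : a ∈ commutator G := h.symm ▸ Subgroup.mem_sup_left (Subgroup.mem_zpowers a)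
        have htop : Subgroup.zpowers b ⊔ commutator G = ⊤ := by
          rw [eq_top_iff, ← hgen, Subgroup.closure_le]
          rintro u (rfl | rfl)
          · exact Subgroup.mem_sup_right haC
          · exact Subgroup.mem_sup_left (Subgroup.mem_zpowers u)
        exact zpowers_sup_commutator_ne_top b hab2 htop
      have hlt2 : Subgroup.zpowers a ⊔ commutator G < ⊤ :=
        lt_top_iff_ne_top.2 (zpowers_sup_commutator_ne_top a hab2)
      obtain ⟨l, hl⟩ := IsPGroup.iff_card.1 (hG.to_subgroup (Subgroup.zpowers a ⊔ commutator G))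
      have c1 : k < l := (Nat.pow_lt_pow_iff_right hp.one_lt).1 (hk ▸ hl ▸ card_lt_of_lt_aux hlt1)
      have c2 : l < n := (Nat.pow_lt_pow_iff_right hp.one_lt).1 (by
        have := card_lt_of_lt_aux hlt2
        rwa [Subgroup.card_top, hl, hn] at this)
      omega
    exact hclass (eq_bot_iff.2 ((Subgroup.lowerCentralSeries_antitone _ (show k + 1 ≤ p - 1 by omega)).trans
      (RankTwo.lowerCentralSeries_eq_bot_of_card_le hG hk.le).le))

end Cfsg.Agent.S3872
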