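import Cfsg.Statements.S3873
import Cfsg.Agent.Lib.MinimalNonClosed67.NonSimple

set_option autoImplicit false
open Cfsg

namespace Cfsg.Agent.S3873

open Cfsg.Agent.Lib

/-- With Sylow subgroups of exponent `p`, being `p`-exponent closed is being `p`-closed. -/
theorem isPClosed_of_exponent_closed {K : Type*} [Group K] [Finite K] {p : ℕ} [Fact p.Prime]
    (hexp : ∀ g : K, ∀ k : ℕ, g ^ p ^ k = 1 → g ^ p = 1)
    (h : ∃ H : Subgroup K, (H : Set K) = {g : K | g ^ p = 1}) : IsPClosed p K := by
  obtain ⟨H, hH⟩ := h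
  have hmem : ∀ g : K, g ∈ H ↔ g ^ p = 1 := fun g => by
    rw [← SetLike.mem_coe, hH]; rfl
  have hHn : H.Normal := ⟨fun n hn g => by
    rw [hmem, conj_pow, (hmem n).1 hn, mul_one, mul_inv_cancel]⟩
  intro P
  have hP : (P : Subgroup K) ≤ H := fun g hg => by
    obtain ⟨k, hk⟩ := P.2 ⟨g, hg⟩
    exact (hmem g).2 (hexp g k (congrArg Subtype.val hk))
  have hHp : IsPGroup p H := fun g => ⟨1, Subtype.ext (by simpa using (hmem g.1).1 g.2)⟩
  rw [← P.3 hHp hP]
  exact hHn


/-- Say that a finite group is p-exponent closed when its elements of order dividing p form a subgroup. Let G be a finite group that is not p-exponent closed, but all of whose proper subgroups and proper quotients are, and suppose G is neither simple nor a p-group. Then there is a prime q ≠ p such that G has order p · q^e, where e is the multiplicative order of q modulo p, and G has a normal elementary abelian subgroup of order q^e that is a minimal normal subgroup of G. -/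
theorem result {G : Type*} [Group G] [Finite G] {p : ℕ} [Fact p.Prime]
    (hnc : ¬ (∃ H : Subgroup G, (H : Set G) = {g : G | g ^ p = 1})) (hsub : ∀ K : Subgroup G, K ≠ ⊤ → (∃ H : Subgroup ↥K, (H : Set ↥K) = {g : ↥K | g ^ p = 1}))
    (hquo : ∀ (N : Subgroup G) [N.Normal], N ≠ ⊥ → (∃ H : Subgroup (G ⧸ N), (H : Set (G ⧸ N)) = {g : (G ⧸ N) | g ^ p = 1}))
    (hns : ¬ IsSimpleGroup G) (hnp : ¬ IsPGroup p G) :
    ∃ q : ℕ, q.Prime ∧ q ≠ p ∧ Nat.card G = p * q ^ orderOf (q : ZMod p) ∧
      ∃ A : Subgroup G, A.Normal ∧ Nat.card ↥A = q ^ orderOf (q : ZMod p) ∧ Cfsg.IsElementaryAbelian q A ∧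
        ∀ B : Subgroup G, B.Normal → B ≤ A → B = ⊥ ∨ B = A := by
  have hp := (Fact.out : p.Prime)
  -- the elements of order dividing `p` generate
  have hgen : Subgroup.closure {g : G | g ^ p = 1} = ⊤ := by
    by_contra hne
    obtain ⟨H, hH⟩ := hsub _ hne
    refine hnc ⟨H.map (Subgroup.closure {g : G | g ^ p = 1}).subtype, ?_⟩
    ext g
    simp only [Subgroup.coe_map, Set.mem_image, Subgroup.coe_subtype]
    constructor
    · rintro ⟨u, hu, rfl⟩
      rw [hH] at hu
      exact congrArg Subtype.val (hu : u ^ p = 1)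
    · intro hg
      refine ⟨⟨g, Subgroup.subset_closure hg⟩, ?_, rfl⟩
      rw [hH]
      exact Subtype.ext hg
  have : Nontrivial G := by
    by_contra h
    rw [not_nontrivial_iff_subsingleton] at h
    exact hnp fun g => ⟨0, Subsingleton.elim _ _⟩
  obtain ⟨N, hNn, hNb, hNt⟩ : ∃ N : Subgroup G, N.Normal ∧ N ≠ ⊥ ∧ N ≠ ⊤ := by
    by_contra h
    push Not at h
    exact hns ⟨fun H hH => (eq_or_ne H ⊥).imp id (h H hH)⟩
  -- quotients have exponent `p`
  have hqexp : ∀ (M : Subgroup G) [M.Normal], M ≠ ⊥ → ∀ g : G, g ^ p ∈ M := by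
    intro M _ hM g
    obtain ⟨H, hH⟩ := hquo M hM
    have h : ((g : G ⧸ M)) ∈ H := by
      have hle : Subgroup.closure {g : G | g ^ p = 1} ≤ H.comap (QuotientGroup.mk' M) :=
        (Subgroup.closure_le _).2 fun u hu => by
          change (u : G ⧸ M) ∈ H
          rw [← SetLike.mem_coe, hH, Set.mem_setOf_eq, ← QuotientGroup.mk_pow, hu, QuotientGroup.mk_one]
      exact hle (hgen ▸ Subgroup.mem_top g)
    rw [← SetLike.mem_coe, hH, Set.mem_setOf_eq, ← QuotientGroup.mk_pow, QuotientGroup.eq_one_iff] at h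
    exact h
  have hpN : ¬ p ∣ Nat.card N := by
    intro hd
    obtain ⟨H, hH⟩ := hsub N hNt
    obtain ⟨z, hz⟩ := exists_prime_orderOf_dvd_card' p hd
    have hmem : ∀ g : N, g ∈ H ↔ g ^ p = 1 := fun g => by rw [← SetLike.mem_coe, hH]; rfl
    set M := H.map N.subtype with hMdef
    have hMn : M.Normal := ⟨fun m hm g => by
      obtain ⟨u, hu, rfl⟩ := hm
      refine ⟨⟨g * u * g⁻¹, hNn.conj_mem u u.2 g⟩, (hmem _).2 (Subtype.ext ?_), rfl⟩
      have := congrArg Subtype.val ((hmem u).1 hu)
      rw [Subgroup.coe_pow, OneMemClass.coe_one] at this ⊢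
      rw [conj_pow, this, mul_one, mul_inv_cancel]⟩
    have hMb : M ≠ ⊥ := fun h => by
      rw [hMdef, Subgroup.map_eq_bot_iff_of_injective _ N.subtype_injective] at h
      have h1 : z ∈ H := (hmem z).2 (hz ▸ pow_orderOf_eq_one z)
      rw [h, Subgroup.mem_bot] at h1
      rw [h1, orderOf_one] at hz
      exact hp.one_lt.ne hz
    refine hnp fun g => ⟨2, ?_⟩
    obtain ⟨u, hu, he⟩ := hqexp M hMb g
    rw [pow_two, pow_mul, ← he]
    exact congrArg Subtype.val ((hmem u).1 hu)
  have hexp : ∀ g : G, ∀ k : ℕ, g ^ p ^ k = 1 → g ^ p = 1 := by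
    intro g k hk
    have h1 : orderOf (g ^ p) ∣ Nat.card N := Subgroup.orderOf_dvd_natCard N (hqexp N hNb g)
    have h2 : orderOf (g ^ p) ∣ p ^ k := (orderOf_pow_dvd p).trans (orderOf_dvd_of_pow_eq_one hk)
    obtain ⟨j, -, hj⟩ := (Nat.dvd_prime_pow hp).1 h2
    rcases Nat.eq_zero_or_pos j with rfl | hj0
    · exact orderOf_eq_one_iff.1 (hj.trans (pow_zero p))
    · exact absurd ((dvd_pow_self p hj0.ne').trans (hj ▸ h1)) hpN
  refine MinimalNonClosed67.structure_of_not_simple (fun hc => hnc ?_) (fun K hK => ?_) (fun M _ hM => ?_) hns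
  · obtain ⟨P⟩ : Nonempty (Sylow p G) := inferInstance
    have := hc P
    refine ⟨P, ?_⟩
    ext g
    constructor
    · intro hg
      obtain ⟨k, hk⟩ := P.2 ⟨g, hg⟩
      exact hexp g k (congrArg Subtype.val hk)
    · intro hg
      have hpg : IsPGroup p (Subgroup.zpowers g) := (PGroups.elemAb_zpowers (hg : g ^ p = 1) |> PGroups.elemAb_isPGroup)
      obtain ⟨R, hR⟩ := hpg.exists_le_sylow
      have := P.unique_of_normal (hc P)
      rw [Subsingleton.elim R P] at hR
      exact hR (Subgroup.mem_zpowers g)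
  · exact isPClosed_of_exponent_closed (fun g k hk => Subtype.ext (by
      have := congrArg Subtype.val hk
      rw [Subgroup.coe_pow, OneMemClass.coe_one] at this ⊢
      exact hexp _ k this)) (hsub K hK)
  · refine isPClosed_of_exponent_closed (fun g k _ => ?_) (hquo M hM)
    induction g using QuotientGroup.induction_on with
    | _ g =>
      rw [← QuotientGroup.mk_pow, QuotientGroup.eq_one_iff]
      exact hqexp M hM g

end Cfsg.Agent.S3873
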