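import Cfsg.Statements.S3875
import Cfsg.Agent.Lib.LAEven57.LeastNonClosed
import Cfsg.Agent.S0999

set_option autoImplicit false
open Cfsg

namespace Cfsg.Agent.S3875

/-- Let p be an odd prime and let m be the least prime power congruent to 1 modulo p. Then the least order of a finite group whose Sylow p-subgroups are not normal is the smaller of p · m and p(p² − 1)/2: every finite group whose Sylow p-subgroups are not normal has at least that order, and some group of exactly that order has non-normal Sylow p-subgroups. -/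
theorem result (p : ℕ) [Fact p.Prime] (hp : p ≠ 2) (m : ℕ) (hm : IsPrimePow m) (hm1 : m % p = 1)
    (hleast : ∀ k : ℕ, IsPrimePow k → k % p = 1 → m ≤ k) :
    (∀ (H : Type) [Group H] [Finite H], ¬ Cfsg.IsPClosed p H → min (p * m) (p * (p ^ 2 - 1) / 2) ≤ Nat.card H) ∧
      ∃ (H : Type) (_ : Group H) (_ : Finite H), Nat.card H = min (p * m) (p * (p ^ 2 - 1) / 2) ∧ ¬ Cfsg.IsPClosed p H := by
  exact ⟨fun H _ _ h => Cfsg.Agent.Lib.LAEven57.LeastNonClosed.le_card hp hleast
      (fun K _ _ _ hK hd hlt => Cfsg.Agent.S0999.result hK p Fact.out hd hlt) _ H rfl h,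
    Cfsg.Agent.Lib.LAEven57.LeastNonClosed.exists_example hp hm hm1 hleast⟩

end Cfsg.Agent.S3875
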