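import Cfsg.Statements.S3878
import Cfsg.Agent.Lib.HallExist67.PSL

set_option autoImplicit false
open Cfsg

namespace Cfsg.Agent.S3878

/-- `D_π` implies `E_π`. -/
theorem ePi_of_dPi {π : Set ℕ} {G : Type} [Group G] [Finite G] (h : IsDPiGroup π G) : IsEPiGroup π G := by
  classical
  have hex : ∀ K : Subgroup G, IsPiSubgroup π K → ∃ M, K ≤ M ∧ Maximal (IsPiSubgroup π) M := fun K hK =>
    (Set.toFinite {M : Subgroup G | IsPiSubgroup π M}).exists_le_maximal hK
  obtain ⟨M, -, hM⟩ := hex ⊥ (fun p hp hd => by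
    rw [Subgroup.card_bot] at hd
    exact absurd hd hp.not_dvd_one)
  refine ⟨M, hM.1, fun p hp hπ hd => ?_⟩
  have := Fact.mk hp
  obtain ⟨S⟩ : Nonempty (Sylow p G) := inferInstance
  obtain ⟨K, hSK, hK⟩ := hex (S : Subgroup G) (fun s hs hd => by
    obtain ⟨k, hk⟩ := IsPGroup.iff_card.1 S.2
    rw [hk] at hd
    rwa [(Nat.prime_dvd_prime_iff_eq hs hp).1 (hs.dvd_of_dvd_pow hd)])
  obtain ⟨g, hg⟩ := h K M hK hM
  refine S.not_dvd_index ((dvd_trans ?_ (Subgroup.index_dvd_of_le hSK)))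
  rw [hg] at hd
  exact (Subgroup.index_map_equiv K (MulAut.conj g)) ▸ hd

/-- All groups are `D_π` for the degenerate sets. -/
theorem dPi_of_small {π : Set ℕ} (h : (∀ p q : ℕ, p.Prime → q.Prime → p ∈ π → q ∈ π → p = q) ∨
    ∀ p : ℕ, p.Prime → p ∈ π) (G : Type) [Group G] [Finite G] : IsDPiGroup π G := by
  intro H K hH hK
  rcases h with h | h
  · by_cases hp : ∃ p, p.Prime ∧ p ∈ π
    · obtain ⟨p, hp, hπ⟩ := hp
      have := Fact.mk hp
      have key : ∀ M : Subgroup G, Maximal (IsPiSubgroup π) M → ∃ S : Sylow p G, (S : Subgroup G) = M := by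
        intro M hM
        have hMp : IsPGroup p M := by
          intro x
          obtain ⟨n, hn⟩ : ∃ n, orderOf x = p ^ n :=
            ⟨_, Nat.eq_prime_pow_of_unique_prime_dvd (orderOf_pos x).ne' fun {d} hd hdx =>
              h d p hd hp (hM.1 d hd (hdx.trans (orderOf_dvd_natCard x))) hπ⟩
          exact ⟨n, hn ▸ pow_orderOf_eq_one x⟩
        obtain ⟨S, hS⟩ := hMp.exists_le_sylow
        refine ⟨S, le_antisymm (hM.2 (fun s hs hd => ?_) hS) hS⟩
        obtain ⟨k, hk⟩ := IsPGroup.iff_card.1 S.2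
        rw [hk] at hd
        rwa [(Nat.prime_dvd_prime_iff_eq hs hp).1 (hs.dvd_of_dvd_pow hd)]
      obtain ⟨S, rfl⟩ := key H hH
      obtain ⟨T, rfl⟩ := key K hK
      obtain ⟨g, hg⟩ := MulAction.exists_smul_eq G S T
      exact ⟨g, (congrArg Sylow.toSubgroup hg).symm⟩
    · push Not at hp
      have key : ∀ M : Subgroup G, Maximal (IsPiSubgroup π) M → M = ⊥ := fun M hM => by
        rw [← Subgroup.card_eq_one]
        by_contra hne
        obtain ⟨s, hs, hd⟩ := Nat.exists_prime_and_dvd hne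
        exact hp s hs (hM.1 s hs hd)
      exact ⟨1, by rw [key H hH, key K hK, Subgroup.map_bot]⟩
  · have key : ∀ M : Subgroup G, Maximal (IsPiSubgroup π) M → M = ⊤ := fun M hM =>
      le_antisymm le_top (hM.2 (fun s hs _ => h s hs) le_top)
    exact ⟨1, by rw [key H hH, key K hK, Subgroup.map_top_of_surjective _ (MulAut.conj 1).surjective]⟩

/-- Otherwise some finite group has no Hall `π`-subgroup. -/
theorem exists_not_ePi {π : Set ℕ} {p q r : ℕ} (hp : p.Prime) (hq : q.Prime) (hr : r.Prime)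
    (hq2 : q ≠ 2) (hpq : p ≠ q) (hπp : p ∈ π) (hπq : q ∈ π) (hπr : r ∉ π) :
    ¬ ∀ (G : Type) [Group G] [Finite G], IsEPiGroup π G := by
  intro hall
  have hrq : r ≠ q := fun h => hπr (h ▸ hπq)
  have hco : (16 * p * r).Coprime (q ^ 2) := by
    refine Nat.Coprime.pow_right 2 (Nat.Coprime.mul_left (Nat.Coprime.mul_left ?_
      ((Nat.coprime_primes hp hq).2 hpq)) ((Nat.coprime_primes hr hq).2 hrq))
    exact ((Nat.coprime_primes Nat.prime_two hq).2 hq2.symm).pow_left 4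
  obtain ⟨a, ha1, ha2⟩ := Nat.chineseRemainder hco 1 (q ^ 2 - 1)
  have hq1 : 1 < q ^ 2 := Nat.one_lt_pow two_ne_zero hq.one_lt
  have hn : 16 * p * r * q ^ 2 ≠ 0 := by
    have := hp.pos; have := hr.pos; have := hq.pos
    positivity
  have hac : a.Coprime (16 * p * r * q ^ 2) := by
    refine Nat.Coprime.mul_right ?_ ?_
    · exact (ha1.gcd_eq).trans (Nat.gcd_one_left _)
    · refine (ha2.gcd_eq).trans ?_
      exact (Nat.coprime_self_sub_left hq1.le).2 (Nat.coprime_one_left _)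
  obtain ⟨ℓ, hℓb, hℓ, hℓc⟩ := Nat.forall_exists_prime_gt_and_modEq 2 (q := 16 * p * r * q ^ 2) (a := a) hn hac
  have := Fact.mk hℓ
  have h1 : 16 * p * r ∣ ℓ - 1 :=
    (Nat.modEq_iff_dvd' hℓ.one_le).1 ((hℓc.of_mul_right _).trans ha1).symm
  have h2 : q ^ 2 ∣ ℓ + 1 := by
    have h := ((hℓc.of_mul_left _).trans ha2).add_right 1
    rw [Nat.sub_add_cancel hq1.le] at h
    exact Nat.modEq_zero_iff_dvd.1 (h.trans (Nat.modEq_zero_iff_dvd.2 dvd_rfl))
  obtain ⟨c, hc⟩ := h1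
  refine Cfsg.Agent.Lib.HallExist67.not_ePi (ℓ := ℓ) hp hq hr hq2 hpq hπp hπq hπr ⟨2 * p * r * c, by rw [hc]; ring⟩
    ?_ ?_ h2 (hall _)
  · rw [hc, show 16 * p * r * c = 2 * (p * (8 * r * c)) by ring, Nat.mul_div_cancel_left _ two_pos]
    exact dvd_mul_right _ _
  · rw [hc, show 16 * p * r * c = 2 * (r * (8 * p * c)) by ring, Nat.mul_div_cancel_left _ two_pos]
    exact dvd_mul_right _ _


/-- For a set of primes π the following are equivalent: every finite group has a Hall π-subgroup; in every finite group the maximal π-subgroups are pairwise conjugate; π contains at most one prime or contains every prime. -/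
theorem result (π : Set ℕ) :
    ((∀ (G : Type) [Group G] [Finite G], Cfsg.IsEPiGroup π G) ↔
      ((∀ p q : ℕ, p.Prime → q.Prime → p ∈ π → q ∈ π → p = q) ∨ ∀ p : ℕ, p.Prime → p ∈ π)) ∧
    ((∀ (G : Type) [Group G] [Finite G], Cfsg.IsDPiGroup π G) ↔
      ((∀ p q : ℕ, p.Prime → q.Prime → p ∈ π → q ∈ π → p = q) ∨ ∀ p : ℕ, p.Prime → p ∈ π)) := by
  have key : (∀ (G : Type) [Group G] [Finite G], Cfsg.IsEPiGroup π G) →
      ((∀ p q : ℕ, p.Prime → q.Prime → p ∈ π → q ∈ π → p = q) ∨ ∀ p : ℕ, p.Prime → p ∈ π) := by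
    intro h
    by_contra hno
    push Not at hno
    obtain ⟨⟨p, q, hp, hq, hπp, hπq, hpq⟩, r, hr, hπr⟩ := hno
    rcases eq_or_ne q 2 with rfl | hq2
    · exact exists_not_ePi hq hp hr hpq hpq.symm hπq hπp hπr h
    · exact exists_not_ePi hp hq hr hq2 hpq hπp hπq hπr h
  refine ⟨⟨key, fun h G _ _ => ePi_of_dPi (dPi_of_small h G)⟩, ⟨fun h => key fun G _ _ => ePi_of_dPi (h G), fun h G _ _ => dPi_of_small h G⟩⟩

end Cfsg.Agent.S3878
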