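import Cfsg.Statements.S3881
import Cfsg.Agent.Lib.PGroupTheory.MetacyclicFacts

set_option autoImplicit false
open Cfsg

namespace Cfsg.Agent.S3881

open Cfsg.Agent.Lib.PGroupTheory Cfsg.Agent.Lib.PGroupTheory.Metacyclic Cfsg.Agent.Lib.PGroupTheory.ZModPlane

/-- Let p be an odd prime and G a finite metacyclic p-group (G has a cyclic normal subgroup with cyclic quotient). Suppose G is non-abelian with |G'| = p^n. Then for 1 ≤ i ≤ n the number of elements of G whose conjugacy class has exactly p^i elements is |Z(G)| · (p^(2i) − p^(2i−2)). -/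
theorem result {G : Type*} [Group G] [Finite G] {p : ℕ} [Fact p.Prime] (hp : p ≠ 2) (hG : IsPGroup p G) (hmc : Cfsg.IsMetacyclic G) (n : ℕ) (hn : n ≠ 0) (hGn : Nat.card ↥(commutator G) = p ^ n) (i : ℕ) (hi : 1 ≤ i) (hin : i ≤ n) :
    Nat.card {g : G // (Subgroup.centralizer ({g} : Set G)).index = p ^ i} =
      Nat.card ↥(Subgroup.center G) * (p ^ (2 * i) - p ^ (2 * i - 2)) := by
  have hodd : Odd p := (Fact.out : p.Prime).odd_of_ne_two hp
  obtain ⟨m, -, ⟨D⟩⟩ := exists_coord hp hG hmc
  obtain rfl := D.n_eq hGn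
  have hiff : ∀ g : G, (Subgroup.centralizer ({g} : Set G)).index = p ^ i ↔
      D.φ g ∈ layer (p := p) (n := n) (n - i) \ layer (p := p) (n := n) (n - i + 1) := by
    intro g
    obtain ⟨v, hv, h1, h2⟩ := D.exists_level g
    rw [h2, Set.mem_sdiff, h1 _ (n.sub_le i), h1 _ (by omega),
      Nat.pow_right_injective (Fact.out : p.Prime).two_le |>.eq_iff]
    omega
  rw [Nat.card_congr (Equiv.subtypeEquivRight hiff), D.card_fiber]
  congr 1
  have hsub : layer (p := p) (n := n) (n - i + 1) ⊆ layer (p := p) (n := n) (n - i) := fun x hx =>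
    ⟨(pow_dvd_pow _ (by omega)).trans hx.1, (pow_dvd_pow _ (by omega)).trans hx.2⟩
  refine (Nat.card_coe_set_eq _).trans ?_
  rw [Set.ncard_sdiff hsub (Set.toFinite _), ← Nat.card_coe_set_eq, ← Nat.card_coe_set_eq,
    card_layer (n.sub_le i), card_layer (by omega)]
  rw [Nat.sub_sub_self hin, show 2 * (n - (n - i + 1)) = 2 * i - 2 by omega]

end Cfsg.Agent.S3881
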