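import Cfsg.Statements.S3882
import Cfsg.Agent.Lib.PGroupTheory.MetacyclicFacts

set_option autoImplicit false
open Cfsg

namespace Cfsg.Agent.S3882

open Cfsg.Agent.Lib.PGroupTheory Cfsg.Agent.Lib.PGroupTheory.Metacyclic Cfsg.Agent.Lib.PGroupTheory.ZModPlane

/-- Let p be an odd prime and G a finite metacyclic p-group (G has a cyclic normal subgroup with cyclic quotient). Suppose |G'| = p^n and 0 ≤ s ≤ n. Then an element g lies in the subgroup generated by the p^s-th powers if and only if its conjugacy class has at most p^(n−s) elements; in particular the subgroup generated by the p^n-th powers is the center of G. -/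
theorem result {G : Type*} [Group G] [Finite G] {p : ℕ} [Fact p.Prime] (hp : p ≠ 2) (hG : IsPGroup p G) (hmc : Cfsg.IsMetacyclic G) (n : ℕ) (hGn : Nat.card ↥(commutator G) = p ^ n) (s : ℕ) (hs : s ≤ n) (g : G) :
    (g ∈ Subgroup.closure {x : G | ∃ y : G, y ^ p ^ s = x} ↔ (Subgroup.centralizer ({g} : Set G)).index ≤ p ^ (n - s)) ∧
      Subgroup.closure {x : G | ∃ y : G, y ^ p ^ n = x} = Subgroup.center G := by
  have hodd : Odd p := (Fact.out : p.Prime).odd_of_ne_two hp
  obtain ⟨m, -, ⟨D⟩⟩ := exists_coord hp hG hmc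
  obtain rfl := D.n_eq hGn
  have key : ∀ t ≤ n, Subgroup.closure {x : G | ∃ y : G, y ^ p ^ t = x} =
      Cfsg.powerClosure p t (⊤ : Subgroup G) := by
    intro t _
    simp [Cfsg.powerClosure, eq_comm]
  refine ⟨?_, ?_⟩
  · rw [key s hs, D.mem_powerClosure_iff hodd hs, D.index_le_iff g hs]
  · rw [key n le_rfl]
    ext x
    rw [D.mem_powerClosure_iff hodd le_rfl, D.mem_layer_top_iff]

end Cfsg.Agent.S3882
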