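import Cfsg.Statements.S3883
import Cfsg.Agent.Lib.PGroupTheory.MetacyclicFacts

set_option autoImplicit false
open Cfsg

namespace Cfsg.Agent.S3883

open Cfsg.Agent.Lib.PGroupTheory Cfsg.Agent.Lib.PGroupTheory.Metacyclic Cfsg.Agent.Lib.PGroupTheory.ZModPlane

/-- Let p be an odd prime and G a finite metacyclic p-group (G has a cyclic normal subgroup with cyclic quotient). Suppose G is non-abelian. Then an element g of G lies outside the Frattini subgroup if and only if its centralizer C_G(g) is abelian. -/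
theorem result {G : Type*} [Group G] [Finite G] {p : ℕ} [Fact p.Prime] (hp : p ≠ 2) (hG : IsPGroup p G) (hmc : Cfsg.IsMetacyclic G) (hna : ¬ IsMulCommutative G) (g : G) :
    g ∉ frattini G ↔ IsMulCommutative ↥(Subgroup.centralizer ({g} : Set G)) := by
  have hodd : Odd p := (Fact.out : p.Prime).odd_of_ne_two hp
  obtain ⟨n, -, ⟨D⟩⟩ := exists_coord hp hG hmc
  have hn : n ≠ 0 := by
    rintro rfl
    refine hna ⟨⟨fun a b => (D.commute_iff a b).2 ?_⟩⟩
    have : Subsingleton (ZMod (p ^ 0)) := by rw [pow_zero]; infer_instance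
    exact Subsingleton.elim _ _
  rw [D.mem_frattini_iff hodd hG hn, D.comm_iff_card_le hodd hG]
  obtain ⟨v, hv, h1, h2⟩ := D.exists_level g
  have h3 := (Subgroup.centralizer ({g} : Set G)).card_mul_index
  rw [h2, D.card_G hodd] at h3
  have h4 : Nat.card ↥(Subgroup.centralizer ({g} : Set G)) =
      Nat.card ↥(Subgroup.center G) * p ^ (n + v) := by
    refine Nat.eq_of_mul_eq_mul_right (pow_pos (Fact.out : p.Prime).pos (n - v)) (h3.trans ?_)
    rw [mul_assoc, ← pow_add]
    congr 2
    omega
  rw [h1 1 (Nat.one_le_iff_ne_zero.2 hn), h4, D.index_commutator hodd,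
    Nat.mul_le_mul_left_iff Nat.card_pos, Nat.pow_le_pow_iff_right (Fact.out : p.Prime).one_lt]
  omega

end Cfsg.Agent.S3883
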