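import Cfsg.Statements.S3884
import Cfsg.Agent.Lib.PGroupTheory.MetacyclicFacts

set_option autoImplicit false
open Cfsg

namespace Cfsg.Agent.S3884

open Cfsg.Agent.Lib.PGroupTheory Cfsg.Agent.Lib.PGroupTheory.Metacyclic

/-- Two nontrivial subgroups of a cyclic `p`-group meet nontrivially. -/
theorem meet_of_cyclic {G : Type*} [Group G] [Finite G] {p : ℕ} [Fact p.Prime] (hG : IsPGroup p G)
    (b : G) : ∃ w : G, (b ≠ 1 → w ≠ 1) ∧ ∀ x ∈ Subgroup.zpowers b, x ≠ 1 → w ∈ Subgroup.zpowers x := by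
  obtain ⟨N, hN⟩ := IsPGroup.iff_orderOf.1 hG b
  rcases Nat.eq_zero_or_pos N with rfl | hNpos
  · refine ⟨1, fun h => absurd (orderOf_eq_one_iff.1 (by simpa using hN)) h, fun x _ _ => one_mem _⟩
  have hp := (Fact.out : p.Prime)
  have hq : orderOf (b ^ p ^ (N - 1)) = p := by
    rw [orderOf_pow_of_dvd (pow_ne_zero _ hp.ne_zero) (hN ▸ pow_dvd_pow p (N.sub_le 1)), hN,
      Nat.pow_div (N.sub_le 1) hp.pos, Nat.sub_sub_self hNpos, pow_one]
  refine ⟨b ^ p ^ (N - 1), fun _ h => ?_, fun x hx hx1 => ?_⟩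
  · rw [h, orderOf_one] at hq
    exact hp.one_lt.ne hq
  obtain ⟨e, he⟩ := IsPGroup.iff_orderOf.1 hG x
  have hepos : 0 < e := Nat.pos_of_ne_zero fun h => hx1 (orderOf_eq_one_iff.1 (by rw [he, h, pow_zero]))
  have hx' : orderOf (x ^ p ^ (e - 1)) = p := by
    rw [orderOf_pow_of_dvd (pow_ne_zero _ hp.ne_zero) (he ▸ pow_dvd_pow p (e.sub_le 1)), he,
      Nat.pow_div (e.sub_le 1) hp.pos, Nat.sub_sub_self hepos, pow_one]
  have hle : Subgroup.zpowers (x ^ p ^ (e - 1)) ≤ Subgroup.zpowers (b ^ p ^ (N - 1)) := by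
    rw [Subgroup.zpowers_le]
    obtain ⟨i, rfl⟩ := (Subgroup.mem_zpowers_iff.1 hx : ∃ i : ℤ, b ^ i = x)
    set y := (b ^ i) ^ p ^ (e - 1)
    obtain ⟨j, hj⟩ := Subgroup.mem_zpowers_iff.1
      (pow_mem (zpow_mem (Subgroup.mem_zpowers b) i) (p ^ (e - 1)) : y ∈ Subgroup.zpowers b)
    have h1 : ((orderOf b : ℤ)) ∣ j * p := by
      rw [orderOf_dvd_iff_zpow_eq_one, _root_.zpow_mul, hj, zpow_natCast]
      exact orderOf_dvd_iff_pow_eq_one.1 hx'.dvd
    rw [hN, show p ^ N = p ^ (N - 1) * p by rw [← pow_succ, Nat.sub_add_cancel hNpos], Nat.cast_mul]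
      at h1
    obtain ⟨k, hk⟩ := Int.dvd_of_mul_dvd_mul_right (by exact_mod_cast hp.ne_zero) h1
    rw [show y = b ^ j from hj.symm, hk, _root_.zpow_mul, zpow_natCast]
    exact zpow_mem (Subgroup.mem_zpowers _) k
  have heq := Subgroup.eq_of_le_of_card_ge hle (by rw [Nat.card_zpowers, Nat.card_zpowers, hq, hx'])
  have : Subgroup.zpowers (x ^ p ^ (e - 1)) ≤ Subgroup.zpowers x :=
    Subgroup.zpowers_le.2 (pow_mem (Subgroup.mem_zpowers x) _)
  exact this (heq ▸ Subgroup.mem_zpowers _)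


/-- Let p be an odd prime and G a finite metacyclic p-group (G has a cyclic normal subgroup with cyclic quotient). Then G is the product of two cyclic subgroups with trivial intersection: there are cyclic subgroups A and B with A ∩ B = 1 and |A| · |B| = |G|. -/
theorem result {G : Type*} [Group G] [Finite G] {p : ℕ} [Fact p.Prime] (hp : p ≠ 2) (hG : IsPGroup p G) (hmc : Cfsg.IsMetacyclic G) : ∃ A B : Subgroup G, IsCyclic ↥A ∧ IsCyclic ↥B ∧ A ⊓ B = ⊥ ∧ Nat.card ↥A * Nat.card ↥B = Nat.card G := by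
  obtain ⟨n, -, ⟨D⟩⟩ := exists_coord hp hG hmc
  have hR := (isRegularPGroup_iff.1 (isRegularPGroup_of_commutator_cyclic hG hp
    (by rw [D.c_gen]; infer_instance))).2
  have hpp := (Fact.out : p.Prime)
  obtain ⟨A, hA, hAc, hQc⟩ := hmc
  obtain ⟨⟨α, hα⟩, hgen⟩ := IsCyclic.exists_generator (α := ↥A)
  have hAeq : A = Subgroup.zpowers α := by
    refine le_antisymm (fun z hz => ?_) (Subgroup.zpowers_le.2 hα)
    obtain ⟨k, hk⟩ := Subgroup.mem_zpowers_iff.1 (hgen ⟨z, hz⟩)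
    exact ⟨k, by simpa using congrArg Subtype.val hk⟩
  obtain ⟨b', hb⟩ := IsCyclic.exists_generator (α := G ⧸ A)
  obtain ⟨b, rfl⟩ := QuotientGroup.mk'_surjective A b'
  set π := QuotientGroup.mk' A
  have hπA : ∀ z : G, π z = 1 ↔ z ∈ A := fun z => QuotientGroup.eq_one_iff z
  obtain ⟨β, hβ⟩ := IsPGroup.iff_orderOf.1 (hG.to_quotient A) (π b)
  obtain ⟨ea, hea⟩ := IsPGroup.iff_orderOf.1 hG α
  have hcA : Nat.card A = p ^ ea := by rw [hAeq, Nat.card_zpowers, hea]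
  have hcG : Nat.card G = p ^ ea * p ^ β := by
    rw [← hcA, ← hβ, orderOf_eq_card_of_forall_mem_zpowers hb, ← Subgroup.index_eq_card,
      Subgroup.card_mul_index]
  -- the key lemma: an element of full order modulo `A` splits off
  have split : ∀ (y : G) (k : ℕ), y ^ p ^ k = 1 → orderOf (π y) = p ^ k →
      orderOf y = p ^ k ∧ A ⊓ Subgroup.zpowers y = ⊥ := by
    intro y k hy hyk
    have h1 : orderOf y = p ^ k :=
      Nat.dvd_antisymm (orderOf_dvd_of_pow_eq_one hy) (hyk ▸ orderOf_map_dvd π y)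
    refine ⟨h1, eq_bot_iff.2 ?_⟩
    rintro z ⟨hzA, hzy⟩
    obtain ⟨j, rfl⟩ := Subgroup.mem_zpowers_iff.1 hzy
    replace hzA := (hπA (y ^ j)).2 hzA
    rw [map_zpow, ← orderOf_dvd_iff_zpow_eq_one, hyk, ← h1, orderOf_dvd_iff_zpow_eq_one] at hzA
    exact hzA
  have hbA : b ^ p ^ β ∈ A := by rw [← hπA, map_pow, ← hβ, pow_orderOf_eq_one]
  obtain ⟨i, hi⟩ : ∃ i : ℕ, b ^ p ^ β = α ^ i := by
    rw [hAeq, ← mem_powers_iff_mem_zpowers] at hbA
    obtain ⟨i, hi⟩ := (Submonoid.mem_powers_iff _ _).1 hbA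
    exact ⟨i, hi.symm⟩
  by_cases h1 : b ^ p ^ β = 1
  · obtain ⟨ho, hinf⟩ := split b β h1 hβ
    exact ⟨A, _, hAc, inferInstance, hinf, by rw [Nat.card_zpowers, ho, hcA, hcG]⟩
  have hi0 : i ≠ 0 := fun h => h1 (by rw [hi, h, pow_zero])
  obtain ⟨γ, u, hu, rfl⟩ := Nat.exists_eq_pow_mul_and_not_dvd hi0 p hpp.ne_one
  have hγ : γ < ea := by
    by_contra hle
    apply h1
    rw [hi, ← orderOf_dvd_iff_pow_eq_one, hea]
    exact (pow_dvd_pow p (by omega)).trans (dvd_mul_right _ _)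
  have hucop : ∀ k, u.Coprime (p ^ k) := fun k =>
    Nat.Coprime.pow_right k ((hpp.coprime_iff_not_dvd.2 hu).symm)
  rcases le_or_gt β γ with hle | hlt
  · set w := α ^ (u * p ^ (γ - β))
    have hw : w ^ p ^ β = b ^ p ^ β := by
      rw [hi, ← pow_mul, mul_assoc, ← pow_add, Nat.sub_add_cancel hle, mul_comm]
    have hy := (pow_eq_pow_iff hG (hR β)).1 hw
    have hπy : π (w⁻¹ * b) = π b := by
      rw [map_mul, (hπA _).2 (inv_mem (pow_mem hα _)), one_mul]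
    obtain ⟨ho, hinf⟩ := split _ β hy (by rw [hπy, hβ])
    exact ⟨A, _, hAc, inferInstance, hinf, by rw [Nat.card_zpowers, ho, hcA, hcG]⟩
  · have hordγ : orderOf (α ^ p ^ γ) = p ^ (ea - γ) := by
      rw [orderOf_pow_of_dvd (pow_ne_zero _ hpp.ne_zero) (hea ▸ pow_dvd_pow p hγ.le), hea,
        Nat.pow_div hγ.le hpp.pos]
    obtain ⟨v, hv⟩ := exists_pow_eq_self_of_coprime (x := α ^ p ^ γ) (hordγ ▸ hucop _)
    have hvp : ¬ p ∣ v := by
      intro hdvd
      have h3 : u * v ≡ 1 [MOD p ^ (ea - γ)] := by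
        rw [← hordγ, ← pow_eq_pow_iff_modEq, pow_mul, hv, pow_one]
      have h4 := h3.of_dvd (dvd_pow_self p (by omega : ea - γ ≠ 0))
      rw [Nat.ModEq, Nat.mul_mod, Nat.mod_eq_zero_of_dvd hdvd, mul_zero, Nat.zero_mod,
        Nat.one_mod_eq_one.2 hpp.ne_one] at h4
      exact zero_ne_one h4
    set w := b ^ (p ^ (β - γ) * v)
    have hw : w ^ p ^ γ = α ^ p ^ γ := by
      rw [← pow_mul, mul_right_comm, ← pow_add, Nat.sub_add_cancel hlt.le, pow_mul, hi, pow_mul α, hv]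
    have hy := (pow_eq_pow_iff hG (hR γ)).1 hw
    have hπy : orderOf (π (w⁻¹ * α)) = p ^ γ := by
      rw [map_mul, (hπA _).2 hα, mul_one, map_inv, orderOf_inv, map_pow, pow_mul]
      have ho : orderOf ((π b) ^ p ^ (β - γ)) = p ^ γ := by
        rw [orderOf_pow_of_dvd (pow_ne_zero _ hpp.ne_zero) (hβ ▸ pow_dvd_pow p (β.sub_le γ)), hβ,
          Nat.pow_div (β.sub_le γ) hpp.pos, Nat.sub_sub_self hlt.le]
      rw [Nat.Coprime.orderOf_pow, ho]
      rw [ho]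
      exact Nat.Coprime.pow_left γ (hpp.coprime_iff_not_dvd.2 hvp)
    obtain ⟨ho, hinf⟩ := split _ γ hy hπy
    have hbo : orderOf b = p ^ β * p ^ (ea - γ) := by
      have hd : p ^ β ∣ orderOf b := hβ ▸ orderOf_map_dvd π b
      have h5 := orderOf_pow_of_dvd (pow_ne_zero β hpp.ne_zero) hd
      have h6 : orderOf (b ^ p ^ β) = p ^ (ea - γ) := by
        rw [hi, pow_mul, Nat.Coprime.orderOf_pow, hordγ]
        exact hordγ ▸ (hucop _).symm
      rw [← h6, h5, Nat.mul_div_cancel' hd]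
    refine ⟨Subgroup.zpowers b, Subgroup.zpowers (w⁻¹ * α), inferInstance, inferInstance, ?_, ?_⟩
    · refine eq_bot_iff.2 fun x hx => ?_
      rw [Subgroup.mem_bot]
      by_contra hx1
      obtain ⟨q, hq1, hq⟩ := meet_of_cyclic hG b
      have hbne : b ≠ 1 := fun h => h1 (by rw [h, one_pow])
      have hqA : q ∈ A := Subgroup.zpowers_le.2 hbA (hq _ (pow_mem (Subgroup.mem_zpowers b) _) h1)
      have hqy : q ∈ Subgroup.zpowers (w⁻¹ * α) := Subgroup.zpowers_le.2 hx.2 (hq x hx.1 hx1)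
      exact hq1 hbne (Subgroup.mem_bot.1 (hinf ▸ Subgroup.mem_inf.2 ⟨hqA, hqy⟩))
    · rw [Nat.card_zpowers, Nat.card_zpowers, ho, hbo, hcG, mul_assoc, ← pow_add,
        Nat.sub_add_cancel hγ.le, mul_comm]

end Cfsg.Agent.S3884
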