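import Cfsg.Statements.S3885
import Cfsg.Agent.Lib.PGroupTheory.MetacyclicFacts

set_option autoImplicit false
open Cfsg

namespace Cfsg.Agent.S3885

open Cfsg.Agent.Lib.PGroupTheory Cfsg.Agent.Lib.PGroupTheory.Metacyclic Cfsg.Agent.Lib.PGroupTheory.ZModPlane

/-- Let p be an odd prime and G a finite metacyclic p-group (G has a cyclic normal subgroup with cyclic quotient). Then every abelian subgroup K of G containing the center of G is the center of its own centralizer: K = Z(C_G(K)). -/
theorem result {G : Type*} [Group G] [Finite G] {p : ℕ} [Fact p.Prime] (hp : p ≠ 2) (hG : IsPGroup p G) (hmc : Cfsg.IsMetacyclic G) (K : Subgroup G) (hK : IsMulCommutative ↥K) (hZ : Subgroup.center G ≤ K) :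
    K = Subgroup.centralizer (K : Set G) ⊓ Subgroup.centralizer (Subgroup.centralizer (K : Set G) : Set G) := by
  have hodd : Odd p := (Fact.out : p.Prime).odd_of_ne_two hp
  obtain ⟨n, -, ⟨D⟩⟩ := exists_coord hp hG hmc
  have hKC : K ≤ Subgroup.centralizer (K : Set G) := Subgroup.le_centralizer_iff_isMulCommutative.2 hK
  refine le_antisymm (le_inf hKC (Subgroup.le_centralizer_iff.1 le_rfl)) ?_
  rintro x ⟨-, hx⟩
  have h := (D.mem_centralizer_iff hodd).1 hx
  rw [D.img_centralizer hodd, perp_perp] at h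
  obtain ⟨y, hy, hyx⟩ := h
  have := mul_mem hy (hZ (D.φ_eq_iff.1 hyx))
  rwa [mul_inv_cancel_left] at this

end Cfsg.Agent.S3885
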