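import Cfsg.Statements.S3887
import Cfsg.Agent.Lib.PGroupTheory.MetacyclicFacts

set_option autoImplicit false
open Cfsg

namespace Cfsg.Agent.S3887

open Cfsg.Agent.Lib.PGroupTheory Cfsg.Agent.Lib.PGroupTheory.Metacyclic Cfsg.Agent.Lib.PGroupTheory.ZModPlane

/-- Let p be an odd prime and G a finite metacyclic p-group (G has a cyclic normal subgroup with cyclic quotient). Then a subgroup R of G maximizes |R| · |C_G(R)| over all subgroups of G if and only if R contains the center of G. -/
theorem result {G : Type*} [Group G] [Finite G] {p : ℕ} [Fact p.Prime] (hp : p ≠ 2) (hG : IsPGroup p G) (hmc : Cfsg.IsMetacyclic G) (R : Subgroup G) : Cfsg.IsCentralizerLarge R ↔ Subgroup.center G ≤ R := by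
  have hodd : Odd p := (Fact.out : p.Prime).odd_of_ne_two hp
  obtain ⟨n, -, ⟨D⟩⟩ := exists_coord hp hG hmc
  set M := Nat.card ↥(Subgroup.center G) * p ^ (2 * n)
  have hM : 0 < M := Nat.mul_pos Nat.card_pos (pow_pos (Fact.out : p.Prime).pos _)
  have hmax : Cfsg.maxCentralizerProduct G = Nat.card ↥(Subgroup.center G) * M := by
    refine IsGreatest.csSup_eq ⟨⟨⊤, ?_⟩, ?_⟩
    · rw [D.centralizer_product hodd, top_inf_eq]
    · rintro k ⟨R, rfl⟩
      rw [D.centralizer_product hodd]
      exact Nat.mul_le_mul_right _ (Subgroup.card_le_of_le inf_le_right)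
  rw [Cfsg.IsCentralizerLarge, hmax, D.centralizer_product hodd, Nat.mul_left_inj hM.ne']
  refine ⟨fun h => ?_, fun h => by rw [inf_eq_right.2 h]⟩
  rw [← Subgroup.eq_of_le_of_card_ge (inf_le_right : R ⊓ Subgroup.center G ≤ _) h.ge]
  exact inf_le_left

end Cfsg.Agent.S3887
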