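import Cfsg.Statements.S3889

set_option autoImplicit false
set_option linter.style.haveILetI false
open Cfsg

namespace Cfsg.Agent.S3889


/-- A finite abelian group that is the union of a family of proper subgroups any two of which intersect trivially is elementary abelian: its exponent is a prime. -/
theorem result {G : Type*} [CommGroup G] [Finite G] (𝓑 : Set (Subgroup G)) (hprop : ∀ B ∈ 𝓑, B ≠ ⊤)
    (hcov : ∀ g : G, ∃ B ∈ 𝓑, g ∈ B) (hdisj : ∀ B ∈ 𝓑, ∀ C ∈ 𝓑, B ≠ C → B ⊓ C = ⊥) :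
    (Monoid.exponent G).Prime := by
  classical
  obtain ⟨x, hx⟩ := Monoid.exists_orderOf_eq_exponent (G := G) Monoid.ExponentExists.of_finite
  obtain ⟨B, hB, hxB⟩ := hcov x
  -- every element outside `B` has the same order as `x`
  have key : ∀ C ∈ 𝓑, C ≠ B → ∀ y ∈ C, y ≠ 1 → ∀ k : ℕ, y ^ k = 1 → x ^ k = 1 := by
    intro C hC hCB y hy hy1 k hk
    by_contra hne
    obtain ⟨D, hD, hxy⟩ := hcov (x * y)
    have hxk : (x * y) ^ k = x ^ k := by rw [mul_pow, hk, mul_one]
    have h1 : x ^ k ∈ D ⊓ B := ⟨hxk ▸ D.pow_mem hxy k, B.pow_mem hxB k⟩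
    have hDB : D = B := by
      by_contra h
      rw [hdisj D hD B hB h, Subgroup.mem_bot] at h1
      exact hne h1
    subst hDB
    have h2 : y ∈ D ⊓ C := ⟨by simpa using D.mul_mem (D.inv_mem hxB) hxy, hy⟩
    rw [hdisj D hB C hC (Ne.symm hCB), Subgroup.mem_bot] at h2
    exact hy1 h2
  obtain ⟨y, hyB⟩ : ∃ y, y ∉ B := by
    by_contra h
    push Not at h
    exact hprop B hB ((Subgroup.eq_top_iff' B).2 h)
  obtain ⟨C, hC, hyC⟩ := hcov y
  have hCB : C ≠ B := fun h => hyB (h ▸ hyC)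
  have hy1 : y ≠ 1 := fun h => hyB (h ▸ B.one_mem)
  have hexp : orderOf y = orderOf x := Nat.dvd_antisymm (hx ▸ Monoid.order_dvd_exponent y)
    (orderOf_dvd_of_pow_eq_one (key C hC hCB y hyC hy1 _ (pow_orderOf_eq_one y)))
  obtain ⟨p, hp, hpd⟩ := Nat.exists_prime_and_dvd (n := orderOf y) (by rwa [Ne, orderOf_eq_one_iff])
  haveI := Fact.mk hp
  have hz : orderOf (y ^ (orderOf y / p)) = p := orderOf_pow_orderOf_div (orderOf_pos y).ne' hpd
  have h := key C hC hCB _ (C.pow_mem hyC (orderOf y / p))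
    (fun h => by rw [h, orderOf_one] at hz; exact hp.ne_one hz.symm) p
    (by have := pow_orderOf_eq_one (y ^ (orderOf y / p)); rwa [hz] at this)
  have hd : Monoid.exponent G ∣ p := hx ▸ orderOf_dvd_of_pow_eq_one h
  rcases (Nat.dvd_prime hp).1 hd with h1 | h1
  · rw [← hx, ← hexp, orderOf_eq_one_iff] at h1
    exact absurd h1 hy1
  · rw [h1]; exact hp

end Cfsg.Agent.S3889
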