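import Cfsg.Statements.S3893
import Cfsg.Agent.Lib.NilpotentCover.Basic
import Cfsg.Agent.Lib.NilpotentCover.SzDiag

set_option autoImplicit false
open Cfsg

namespace Cfsg.Agent.S3893

open Matrix
open Cfsg.Agent.Lib.NilpotentCover.Basic Cfsg.Agent.Lib.NilpotentCover.SzDiag

variable {F : Type*} [Field F]

/-- A regular unipotent matrix of `Sz`. -/
def uMat : Matrix (Fin 4) (Fin 4) F := !![1, 1, 0, 1; 0, 1, 1, 1; 0, 0, 1, 1; 0, 0, 0, 1]

/-- The antidiagonal matrix. -/
def jMat : Matrix (Fin 4) (Fin 4) F := !![0, 0, 0, 1; 0, 0, 1, 0; 0, 1, 0, 0; 1, 0, 0, 0]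

/-- The defining set of `Sz`. -/
def szSet (F : Type*) [Field F] (e : ℕ) : Set (GL (Fin 4) F) :=
  {g | g ∈ Lie.Sp4 F ∧ Lie.star4 (g : Matrix (Fin 4) (Fin 4) F) =
    (g : Matrix (Fin 4) (Fin 4) F).map (fun x => x ^ e)}

theorem sz_le_sp4 (e : ℕ) : Lie.Sz F e ≤ Lie.Sp4 F :=
  (Subgroup.closure_le _).2 fun _ hg => hg.1

theorem mem_sz {e : ℕ} (g : GL (Fin 4) F)
    (h1 : ∀ x y, Lie.altForm4 ((g : Matrix (Fin 4) (Fin 4) F) *ᵥ x) ((g : Matrix (Fin 4) (Fin 4) F) *ᵥ y) =
      Lie.altForm4 x y)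
    (h2 : Lie.star4 (g : Matrix (Fin 4) (Fin 4) F) = (g : Matrix (Fin 4) (Fin 4) F).map (fun x => x ^ e)) :
    g ∈ Lie.Sz F e :=
  Subgroup.subset_closure ⟨h1, h2⟩

theorem sp4_form {g : GL (Fin 4) F} (hg : g ∈ Lie.Sp4 F) (x y : Fin 4 → F) :
    Lie.altForm4 ((g : Matrix (Fin 4) (Fin 4) F) *ᵥ x) ((g : Matrix (Fin 4) (Fin 4) F) *ᵥ y) =
      Lie.altForm4 x y :=
  hg x y

theorem uMat_fixed {w : Fin 4 → F} (h : (uMat : Matrix (Fin 4) (Fin 4) F) *ᵥ w = w) :
    ∃ c : F, w = c • Pi.single (0 : Fin 4) (1 : F) := by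
  have h2 := congrFun h 2
  have h1 := congrFun h 1
  have h0 := congrFun h 0
  simp [uMat, mulVec, dotProduct, Fin.sum_univ_four] at h0 h1 h2
  refine ⟨w 0, funext fun i => ?_⟩
  fin_cases i
  · simp
  · simp; linear_combination h0 - h2
  · simp; linear_combination h1 - h2
  · simp; linear_combination h2

theorem uMat_unipotent : ((uMat : Matrix (Fin 4) (Fin 4) F) - 1) ^ 4 = 0 := by
  have htri : (uMat : Matrix (Fin 4) (Fin 4) F).IsUpperTriangular := by
    intro i j h
    fin_cases i <;> fin_cases j <;> simp [uMat] <;> simp at h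
  have h := Matrix.aeval_self_charpoly (uMat : Matrix (Fin 4) (Fin 4) F)
  rw [Matrix.charpoly_of_isUpperTriangular _ htri] at h
  simpa [uMat, Fin.prod_univ_four, pow_succ, mul_assoc] using h

theorem uMat_mem [CharP F 2] {e : ℕ} (he : e ≠ 0) {g : GL (Fin 4) F}
    (hg : (g : Matrix (Fin 4) (Fin 4) F) = uMat) : g ∈ Lie.Sz F e := by
  refine mem_sz g (fun x y => ?_) ?_
  · rw [hg]
    simp [Lie.altForm4, uMat, mulVec, dotProduct, Fin.sum_univ_four]
    ring_nf
    simp [(CharTwo.two_eq_zero : (2 : F) = 0),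
      show (4 : F) = 0 by linear_combination 2 * (CharTwo.two_eq_zero : (2 : F) = 0)]
  · rw [hg]
    ext i j
    fin_cases i <;> fin_cases j <;>
      simp [Lie.star4, Lie.pairOf, uMat, zero_pow he, CharTwo.sub_eq_add, CharTwo.add_self_eq_zero]

theorem jMat_mem [CharP F 2] {e : ℕ} (he : e ≠ 0) {g : GL (Fin 4) F}
    (hg : (g : Matrix (Fin 4) (Fin 4) F) = jMat) : g ∈ Lie.Sz F e := by
  refine mem_sz g (fun x y => ?_) ?_
  · rw [hg]
    simp [Lie.altForm4, jMat, mulVec, dotProduct, Fin.sum_univ_four]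
    ring
  · rw [hg]
    ext i j
    fin_cases i <;> fin_cases j <;>
      simp [Lie.star4, Lie.pairOf, jMat, zero_pow he, CharTwo.neg_eq]

variable [Fintype F]

theorem false_of_cover (m : ℕ) (hm : 1 ≤ m) (hF : Fintype.card F = 2 ^ (2 * m + 1))
    (𝓐 : Finset (Subgroup ↥(Lie.Sz F (2 ^ (m + 1))))) (hc : IsCover 𝓐)
    (hmin : ∀ 𝓑 : Finset (Subgroup ↥(Lie.Sz F (2 ^ (m + 1)))), IsCover 𝓑 → 𝓐.card ≤ 𝓑.card) (hnil : ∀ A ∈ 𝓐, Group.IsNilpotent ↥A) : False := by
  classical
  obtain ⟨p, hp⟩ := CharP.exists F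
  have hpp : p.Prime := CharP.char_is_prime F p
  have h2p : p = 2 := by
    obtain ⟨n, _, hn⟩ := FiniteField.card F p
    rw [hF] at hn
    exact ((Nat.prime_dvd_prime_iff_eq Nat.prime_two hpp).1
      (Nat.prime_two.dvd_of_dvd_pow (hn ▸ dvd_pow_self 2 (Nat.succ_ne_zero _)))).symm
  subst h2p
  have h20 : (2 : F) = 0 := CharTwo.two_eq_zero
  set q := Fintype.card F with hq
  set e := 2 ^ (m + 1) with he
  have he4 : 4 ≤ e := by
    rw [he, show (4 : ℕ) = 2 ^ 2 by norm_num]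
    exact Nat.pow_le_pow_right (by norm_num) (by omega)
  have heq : e ≤ q / 2 := by
    rw [hF, pow_succ, Nat.mul_div_cancel _ (by norm_num : 0 < 2), he]
    exact Nat.pow_le_pow_right (by norm_num) (by omega)
  have he2 : e * e = 2 * q := by rw [he, hF, ← pow_add, ← pow_succ']; congr 1; omega
  -- the torus element
  obtain ⟨a, hgen⟩ := IsCyclic.exists_generator (α := Fˣ)
  have hord : orderOf a = q - 1 := by
    rw [orderOf_eq_card_of_forall_mem_zpowers hgen, Nat.card_eq_fintype_card, Fintype.card_units]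
  set b : Fˣ := a ^ (e - 1) with hb
  have hee : (a : F) ^ (e * e) = (a : F) ^ 2 := by
    rw [he2, mul_comm, pow_mul, hq, FiniteField.pow_card]
  have hbv : (b : F) * a = (a : F) ^ e := by
    rw [hb, Units.val_pow_eq_pow_val, ← pow_succ, Nat.sub_add_cancel (by omega)]
  set l : Fin 4 → F := ![(a : F), (b : F), (b : F)⁻¹, (a : F)⁻¹] with hl
  have hne : ∀ k, 0 < k → k < q - 1 → a ^ k ≠ 1 := fun k hk1 hk2 h => by
    have := Nat.le_of_dvd hk1 (orderOf_dvd_of_pow_eq_one h)
    omega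
  have hpw : ∀ (k : ℕ), 0 < k → k < q - 1 → ∀ x y : F, x = (a : F) ^ k * y → y ≠ 0 → x ≠ y := by
    intro k h1 h2 x y hxy hy hxy'
    refine hne k h1 h2 (Units.ext ?_)
    rw [Units.val_pow_eq_pow_val, Units.val_one]
    exact mul_right_cancel₀ hy (by rw [← hxy, hxy', one_mul])
  have hlinj : Function.Injective l := by
    have hbe : (b : F) = (a : F) ^ (e - 1) := by rw [hb, Units.val_pow_eq_pow_val]
    have e01 : (b : F) ≠ a := hpw (e - 2) (by omega) (by omega) _ _
      (by rw [hbe, ← pow_succ]; congr 1; omega) a.ne_zero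
    have e03 : (a : F) ≠ (a : F)⁻¹ := hpw 2 (by omega) (by omega) _ _
      (by field_simp) (inv_ne_zero a.ne_zero)
    have e13 : (b : F) ≠ (a : F)⁻¹ := hpw e (by omega) (by omega) _ _
      (by field_simp; linear_combination hbv) (inv_ne_zero a.ne_zero)
    have e12 : (b : F) ≠ (b : F)⁻¹ := hpw (2 * (e - 1)) (by omega) (by omega) _ _
      (by field_simp; rw [hbe, ← pow_mul, mul_comm]) (inv_ne_zero b.ne_zero)
    have e02 : (a : F) ≠ (b : F)⁻¹ := fun h => e13 (by rw [h, inv_inv])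
    have e23 : (b : F)⁻¹ ≠ (a : F)⁻¹ := fun h => e01 (inv_injective h)
    intro i j h
    fin_cases i <;> fin_cases j <;> simp [hl] at h <;>
      first
        | rfl
        | exact absurd h e01 | exact absurd h e01.symm | exact absurd h e02 | exact absurd h e02.symm
        | exact absurd h e03 | exact absurd h e03.symm | exact absurd h e12 | exact absurd h e12.symm
        | exact absurd h e13 | exact absurd h e13.symm | exact absurd h e23 | exact absurd h e23.symm
  have hl0 : ∀ i, l i ≠ 0 := fun i => by fin_cases i <;> simp [hl]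
  have hlq : ∀ i, l i ^ (q - 1) = 1 := fun i => FiniteField.pow_card_sub_one_eq_one _ (hl0 i)
  let t : GL (Fin 4) F := GeneralLinearGroup.mkOfDetNeZero (diagonal l)
    (by rw [det_diagonal]; exact Finset.prod_ne_zero_iff.2 fun i _ => hl0 i)
  have htv : (t : Matrix (Fin 4) (Fin 4) F) = diagonal l := rfl
  have ht : t ∈ Lie.Sz F e := by
    refine mem_sz t (fun x y => ?_) ?_
    · rw [htv]
      simp only [Lie.altForm4, mulVec_diagonal]
      simp only [hl, Matrix.cons_val]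
      field_simp
    · rw [htv]
      have f0 : (a : F) * b = (a : F) ^ e := by linear_combination hbv
      have f1 : (a : F) * (b : F)⁻¹ = (b : F) ^ e := by
        have h1 : (b : F) ^ e * (a : F) ^ e = (a : F) ^ 2 := by
          rw [← mul_pow, hbv, ← pow_mul, hee]
        rw [← hbv] at h1
        field_simp
        have h2 : (b : F) ^ e * b * a = (a : F) * a := by linear_combination h1
        exact (mul_right_cancel₀ a.ne_zero h2).symm.trans (mul_comm _ _)
      ext i j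
      fin_cases i <;> fin_cases j <;>
        simp [Lie.star4, Lie.pairOf, hl, zero_pow (show e ≠ 0 by omega)] <;>
        first
          | exact f0
          | exact f1
          | (rw [← f1]; field_simp)
          | (rw [← f0]; field_simp)
  -- the regular unipotent element and the antidiagonal element
  let u : GL (Fin 4) F := GeneralLinearGroup.mkOfDetNeZero uMat (by
    simp [uMat, det_succ_row_zero, Fin.sum_univ_succ, Fin.succAbove])
  have huv : (u : Matrix (Fin 4) (Fin 4) F) = uMat := rfl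
  have hu : u ∈ Lie.Sz F e := uMat_mem (by omega) huv
  let J : GL (Fin 4) F := GeneralLinearGroup.mkOfDetNeZero jMat (by
    simp [jMat, det_succ_row_zero, Fin.sum_univ_succ, Fin.succAbove])
  have hJv : (J : Matrix (Fin 4) (Fin 4) F) = jMat := rfl
  have hJ : J ∈ Lie.Sz F e := jMat_mem (by omega) hJv
  -- members
  obtain ⟨A, hA, huA⟩ := hc.2 ⟨u, hu⟩
  obtain ⟨B, hB, htB⟩ := hc.2 ⟨t, ht⟩
  set A' := A.map (Lie.Sz F e).subtype
  set B' := B.map (Lie.Sz F e).subtype
  have hA' : Group.IsNilpotent ↥A' := by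
    have := hnil A hA
    exact Group.nilpotent_of_mulEquiv
      (A.equivMapOfInjective (Lie.Sz F e).subtype (Lie.Sz F e).subtype_injective)
  have hB' : Group.IsNilpotent ↥B' := by
    have := hnil B hB
    exact Group.nilpotent_of_mulEquiv
      (B.equivMapOfInjective (Lie.Sz F e).subtype (Lie.Sz F e).subtype_injective)
  set v : Fin 4 → F := Pi.single 0 1 with hv
  have hv0 : v ≠ 0 := fun h => one_ne_zero (α := F) (by simpa [hv] using congrFun h 0)
  have huA' : u ∈ A' := ⟨_, huA, rfl⟩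
  have htB' : t ∈ B' := ⟨_, htB, rfl⟩
  have hAle : A' ≤ lineStab v :=
    le_lineStab 2 (by norm_num) hA' huA' uMat_unipotent (fun w hw => uMat_fixed hw)
  have htm : t ^ (q - 1) = 1 := by
    refine Units.ext ?_
    rw [Units.val_pow_eq_pow_val, htv, diagonal_pow, Units.val_one, ← diagonal_one]
    congr 1
    funext i
    exact hlq i
  have hodd : ¬ 2 ∣ q - 1 := by
    have h1 : 2 ∣ q := hF ▸ dvd_pow_self 2 (Nat.succ_ne_zero _)
    have h2 : 0 < q := Fintype.card_pos
    omega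
  have hBd : ∀ g ∈ B', IsDiagMat (g : Matrix (Fin 4) (Fin 4) F) := fun g hg =>
    isDiagMat_of_mem hB' (fun x ⟨z, _, hz⟩ => hz ▸ sz_le_sp4 e z.2) htB' hlinj htv hodd htm hg
  have hBle : B' ≤ lineStab v := by
    intro g hg
    refine mem_lineStab_of_smul hv0 (c := (g : Matrix (Fin 4) (Fin 4) F) 0 0) (funext fun i => ?_)
    by_cases hi : i = 0
    · subst hi; simp [hv]
    · simp [hv, hi, hBd g hg i 0 hi]
  have hne' : A ≠ B := by
    intro h
    subst h
    have := hBd u huA' 0 1 (by decide)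
    simp [huv, uMat] at this
  have hM : (lineStab v).subgroupOf (Lie.Sz F e) ≠ ⊤ := by
    intro h
    obtain ⟨c, _, hcJ⟩ := Subgroup.subgroupOf_eq_top.1 h hJ
    have := congrFun hcJ 3
    simp [hv, hJv, jMat] at this
  exact false_of_two_le hc hmin hA hB hne' hM (fun g hg => hAle ⟨g, hg, rfl⟩) (fun g hg => hBle ⟨g, hg, rfl⟩)


/-- A cover of a group is a finite set of proper subgroups whose union is the whole group; it is minimal when no cover has fewer members, and nilpotent when all its members are nilpotent. The Suzuki groups Sz(q), q = 2^(2m+1) with m ≥ 1, have no nilpotent minimal cover. -/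
theorem result {F : Type*} [Field F] [Fintype F] (m : ℕ) (hm : 1 ≤ m) (hF : Fintype.card F = 2 ^ (2 * m + 1)) :
    ¬ ∃ 𝓐 : Finset (Subgroup ↥(Cfsg.Lie.Sz F (2 ^ (m + 1)))), ((∀ A ∈ 𝓐, A ≠ ⊤) ∧ (∀ g : ↥(Cfsg.Lie.Sz F (2 ^ (m + 1))), ∃ A ∈ 𝓐, g ∈ A)) ∧ (∀ 𝓑 : Finset (Subgroup ↥(Cfsg.Lie.Sz F (2 ^ (m + 1)))), (∀ A ∈ 𝓑, A ≠ ⊤) ∧ (∀ g : ↥(Cfsg.Lie.Sz F (2 ^ (m + 1))), ∃ A ∈ 𝓑, g ∈ A) → 𝓐.card ≤ 𝓑.card) ∧ (∀ A ∈ 𝓐, Group.IsNilpotent ↥A) := by
  rintro ⟨𝓐, hc, hmin, hnil⟩
  exact false_of_cover m hm hF 𝓐 hc hmin hnil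

end Cfsg.Agent.S3893
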