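import Cfsg.Statements.S3898
import Cfsg.Agent.Lib.PiClasses.TwoElements
import Cfsg.Agent.Lib.PiClasses.OddElements

set_option autoImplicit false
open Cfsg
open scoped commutatorElement

namespace Cfsg.Agent.S3898

open Lib.PiClasses in
/-- Peeling off the prime `r`: many `π`-classes force more than `|R| / 2` classes of `r`-elements. -/
theorem sylow_lt {G : Type*} [Group G] [Finite G] (π : Finset ℕ) (hπ : ∀ r ∈ π, r.Prime)
    (hk : π.prod (fun r => r ^ (Nat.card G).factorization r) < 2 * Nat.card (PiCls π G))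
    {r : ℕ} [Fact r.Prime] (hr : r ∈ π) (R : Sylow r G) :
    Nat.card ↥(R : Subgroup G) < 2 * Nat.card (PiCls {r} G) := by
  set B := (π.erase r).prod (fun s => s ^ (Nat.card G).factorization s) with hB
  have hle : Nat.card (PiCls π G) ≤ Nat.card (PiCls {r} G) * B :=
    card_piClasses_le_mul (hπ r hr) fun x =>
      (card_piClasses_le _ (fun s hs => hπ s (Finset.mem_of_mem_erase hs)) _).trans
        (prod_pow_factorization_le (fun s hs => hπ s (Finset.mem_of_mem_erase hs)) _)
  rw [← Finset.mul_prod_erase π _ hr, ← hB, ← Sylow.card_eq_multiplicity R] at hk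
  refine Nat.lt_of_mul_lt_mul_right (a := B) ?_
  calc Nat.card ↥(R : Subgroup G) * B < 2 * Nat.card (PiCls π G) := hk
    _ ≤ 2 * (Nat.card (PiCls {r} G) * B) := Nat.mul_le_mul_left _ hle
    _ = 2 * Nat.card (PiCls {r} G) * B := (mul_assoc _ _ _).symm

/-- For `r` odd, many classes of `r`-elements give a normal `r`-complement with abelian quotient in
the odd normal 2-complement. -/
theorem exists_complement {G : Type*} [Group G] [Finite G] (N : Subgroup G)
    (hN2 : ¬ 2 ∣ Nat.card ↥N) {r : ℕ} [hr : Fact r.Prime] (hr2 : r ≠ 2) (R : Sylow r G)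
    (hRN : (R : Subgroup G) ≤ N)
    (hlt : Nat.card ↥(R : Subgroup G) < 2 * Nat.card (Lib.PiClasses.PiCls {r} G)) :
    ∃ K : Subgroup ↥N, K.Normal ∧ ¬ r ∣ Nat.card ↥K ∧
      K.index = r ^ (Nat.card G).factorization r ∧ ∀ a b : ↥N, ⁅a, b⁆ ∈ K := by
  have hab : IsMulCommutative ↥(R : Subgroup G) := by
    by_contra h
    exact absurd (Lib.PiClasses.two_mul_card_pClasses_le_of_nonabelian R hr2 h) (not_le.2 hlt)
  set R' : Sylow r ↥N := R.subtype hRN with hR'
  have hcoe : (R' : Subgroup ↥N) = (R : Subgroup G).subgroupOf N := rfl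
  have hle : Subgroup.normalizer ((R' : Subgroup ↥N) : Set ↥N) ≤
      Subgroup.centralizer ((R' : Subgroup ↥N) : Set ↥N) := by
    intro n hn
    have hnG : (n : G) ∈ Subgroup.normalizer ((R : Subgroup G) : Set G) := by
      rw [Subgroup.mem_normalizer_iff]
      intro y
      refine ⟨fun hy => ?_, fun hy => ?_⟩
      · have := (Subgroup.mem_normalizer_iff.1 hn ⟨y, hRN hy⟩).1 (by
          rw [hcoe, Subgroup.mem_subgroupOf]; exact hy)
        simpa [hcoe, Subgroup.mem_subgroupOf] using this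
      · have hyN : y ∈ N := by
          have := mul_mem (mul_mem (inv_mem n.2) (hRN hy)) n.2
          simpa [mul_assoc] using this
        have := (Subgroup.mem_normalizer_iff.1 hn ⟨y, hyN⟩).2 (by
          rw [hcoe, Subgroup.mem_subgroupOf]; simpa using hy)
        simpa [hcoe, Subgroup.mem_subgroupOf] using this
    have hodd : Odd (orderOf (n : G)) := by
      rw [Subgroup.orderOf_coe, Nat.odd_iff, ← Nat.two_dvd_ne_zero]
      exact fun h => hN2 (h.trans (orderOf_dvd_natCard n))
    obtain ⟨a, m, hm, hord⟩ := Nat.exists_eq_pow_mul_and_not_dvd (orderOf_pos (n : G)).ne' r hr.out.ne_one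
    obtain ⟨u, v, huv⟩ : ∃ u v : ℤ, u * ((r ^ a : ℕ) : ℤ) + v * (m : ℤ) = 1 :=
      Nat.isCoprime_iff_coprime.2 (Nat.Coprime.pow_left a ((hr.out.coprime_iff_not_dvd).2 hm))
    have h1 : (n : G) ^ r ^ a ∈ Subgroup.centralizer ((R : Subgroup G) : Set G) := by
      by_contra h
      have hdvd : orderOf ((n : G) ^ r ^ a) = m := by
        rw [orderOf_pow_of_dvd (pow_ne_zero _ hr.out.ne_zero) (hord ▸ dvd_mul_right _ _), hord,
          Nat.mul_div_cancel_left _ (pow_pos hr.out.pos _)]
      exact absurd (Lib.PiClasses.two_mul_card_pClasses_le_of_not_centralizing R hr2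
        (pow_mem hnG _) (hdvd ▸ (Nat.odd_mul.1 (hord ▸ hodd)).2) (hdvd ▸ hm) h) (not_le.2 hlt)
    have h2 : (n : G) ^ m ∈ Subgroup.centralizer ((R : Subgroup G) : Set G) := by
      have hp : IsPGroup r ↥(Subgroup.zpowers ((n : G) ^ m)) := by
        obtain ⟨i, -, hi⟩ := (Nat.dvd_prime_pow hr.out).1
          (orderOf_dvd_of_pow_eq_one (n := r ^ a) (x := (n : G) ^ m) (by
            rw [← pow_mul, mul_comm, ← hord, pow_orderOf_eq_one]))
        exact IsPGroup.of_card (by rw [Nat.card_zpowers, hi])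
      have hsup := IsPGroup.to_sup_of_normal_right' hp R.2
        (Subgroup.zpowers_le.2 (pow_mem hnG m))
      have hmem : (n : G) ^ m ∈ (R : Subgroup G) := by
        rw [← R.3 hsup le_sup_right]
        exact Subgroup.mem_sup_left (Subgroup.mem_zpowers _)
      exact Subgroup.mem_centralizer_iff.2 fun y hy =>
        congrArg Subtype.val (hab.1.1 ⟨y, hy⟩ ⟨_, hmem⟩)
    have hnC : (n : G) ∈ Subgroup.centralizer ((R : Subgroup G) : Set G) := by
      have := mul_mem (Subgroup.zpow_mem _ h1 u) (Subgroup.zpow_mem _ h2 v)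
      rwa [← zpow_natCast, ← zpow_natCast, ← zpow_mul, ← zpow_mul, ← zpow_add,
        mul_comm _ u, mul_comm _ v, huv, zpow_one] at this
    refine Subgroup.mem_centralizer_iff.2 fun y hy => ?_
    rw [SetLike.mem_coe, hcoe, Subgroup.mem_subgroupOf] at hy
    exact Subtype.ext (Subgroup.mem_centralizer_iff.1 hnC _ hy)
  set K := (MonoidHom.transferSylow R' hle).ker
  have hc : K.IsComplement' (R' : Subgroup ↥N) :=
    MonoidHom.ker_transferSylow_isComplement' R' hle
  have hcard : Nat.card ↥(R' : Subgroup ↥N) = Nat.card ↥(R : Subgroup G) :=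
    Nat.card_congr (Subgroup.subgroupOfEquivOfLe hRN).toEquiv
  have hidx : K.index = Nat.card ↥(R : Subgroup G) := hc.symm.index_eq_card.trans hcard
  refine ⟨K, inferInstance, ?_, hidx.trans (Sylow.card_eq_multiplicity R), fun a b => ?_⟩
  · rw [← hc.index_eq_card]
    exact R'.not_dvd_index
  · have : IsMulCommutative (↥N ⧸ K) := by
      refine ⟨⟨fun x y => ?_⟩⟩
      have hbij : Function.Bijective ((QuotientGroup.mk' K).comp (R' : Subgroup ↥N).subtype) := by
        refine (Nat.bijective_iff_injective_and_card _).2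
          ⟨?_, by rw [← Subgroup.index_eq_card, hidx, hcard]⟩
        rw [← MonoidHom.ker_eq_bot_iff, eq_bot_iff]
        intro z hz
        have hzK : (z : ↥N) ∈ K := by simpa [QuotientGroup.eq_one_iff] using hz
        exact Subtype.ext (Subgroup.disjoint_def.1 hc.disjoint hzK z.2)
      obtain ⟨x, rfl⟩ := hbij.2 x
      obtain ⟨y, rfl⟩ := hbij.2 y
      have hxy : x * y = y * x := Subtype.ext (Subtype.ext
        (congrArg Subtype.val (hab.1.1 ⟨_, x.2⟩ ⟨_, y.2⟩) :))
      rw [← map_mul, ← map_mul, hxy]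
    exact Subgroup.Normal.quotient_commutative_iff_commutator_le.1 this
      (Subgroup.commutator_mem_commutator (Subgroup.mem_top a) (Subgroup.mem_top b))

/-- Let π be a finite set of primes containing 2 and G a finite group. Write k_π(G) for the number of conjugacy classes of G consisting of π-elements (elements all of whose order's prime divisors lie in π) and |G|_π for the π-part of the order of G. If k_π(G) > |G|_π/2, then G has a normal π-complement (a normal subgroup of order prime to π whose index is a π-number) and an abelian Hall subgroup for the set of odd primes in π. -/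
theorem result {G : Type*} [Group G] [Finite G] (π : Finset ℕ) (hπ : ∀ r ∈ π, r.Prime) (h2 : 2 ∈ π)
    (hk : π.prod (fun r => r ^ (Nat.card G).factorization r) < 2 * Nat.card {c : ConjClasses G // ∀ x ∈ c.carrier, ∀ r : ℕ, r.Prime → r ∣ orderOf x → r ∈ π}) :
    (∃ N : Subgroup G, N.Normal ∧ (∀ r : ℕ, r.Prime → r ∣ Nat.card ↥N → r ∉ π) ∧ ∀ r : ℕ, r.Prime → r ∣ N.index → r ∈ π) ∧ ∃ H : Subgroup G, Cfsg.IsPiHall ((↑π : Set ℕ) \ {2}) H ∧ IsMulCommutative ↥H := by
  classical
  haveI : Fact (Nat.Prime 2) := ⟨Nat.prime_two⟩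
  have hk' : π.prod (fun r => r ^ (Nat.card G).factorization r) <
      2 * Nat.card (Lib.PiClasses.PiCls π G) := hk
  obtain ⟨P⟩ := (inferInstance : Nonempty (Sylow 2 G))
  obtain ⟨Q, N, hN, hc⟩ : Cfsg.HasNormalPComplement 2 G := by
    by_contra h
    exact absurd (Lib.PiClasses.two_mul_card_pClasses_le_card P h)
      (not_le.2 (sylow_lt π hπ hk' h2 P))
  have hN2 : ¬ 2 ∣ Nat.card ↥N := hc.index_eq_card ▸ Q.not_dvd_index
  have hNidx : N.index = 2 ^ (Nat.card G).factorization 2 :=
    hc.symm.index_eq_card.trans (Sylow.card_eq_multiplicity Q)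
  set S := π.erase 2 with hS
  have hdata : ∀ r : S, ∃ K : Subgroup ↥N, K.Normal ∧ ¬ (r : ℕ) ∣ Nat.card ↥K ∧
      K.index = (r : ℕ) ^ (Nat.card G).factorization r ∧ ∀ a b : ↥N, ⁅a, b⁆ ∈ K := by
    rintro ⟨r, hr⟩
    obtain ⟨hr2, hrπ⟩ := Finset.mem_erase.1 hr
    have := Fact.mk (hπ r hrπ)
    obtain ⟨R⟩ := (inferInstance : Nonempty (Sylow r G))
    refine exists_complement N hN2 hr2 R (fun x hx => ?_) (sylow_lt π hπ hk' hrπ R)
    rw [← QuotientGroup.eq_one_iff, ← orderOf_eq_one_iff]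
    have h1 : orderOf (x : G ⧸ N) ∣ N.index := N.index_eq_card ▸ orderOf_dvd_natCard _
    have h2' : orderOf (x : G ⧸ N) ∣ orderOf x := orderOf_map_dvd (QuotientGroup.mk' N) x
    exact Nat.eq_one_of_dvd_coprimes (Nat.Coprime.pow_left _
      (Nat.coprime_two_left.2 (Lib.PiClasses.odd_orderOf_of_mem R hr2 hx))) (hNidx ▸ h1) h2'
  choose K hK hnd hidx hcomm using hdata
  set M := ⨅ r, K r with hM
  have hMn : M.Normal := Subgroup.normal_iInf_normal hK
  have hMS : ∀ r : ℕ, r.Prime → r ∣ Nat.card ↥M → r ∉ S := fun r _ hd hr =>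
    hnd ⟨r, hr⟩ (hd.trans (Subgroup.card_dvd_of_le (iInf_le K ⟨r, hr⟩)))
  have hMi : ∀ r : ℕ, r.Prime → r ∣ M.index → r ∈ S := by
    intro r hr hd
    let φ : ↥N →* ∀ s : S, ↥N ⧸ K s := MonoidHom.pi fun s => QuotientGroup.mk' (K s)
    have hker : φ.ker = M := by
      ext x
      simp [φ, hM, funext_iff, Subgroup.mem_iInf, MonoidHom.pi_apply, QuotientGroup.eq_one_iff]
    have hdiv : M.index ∣ ∏ s : S, (s : ℕ) ^ (Nat.card G).factorization s := by
      rw [← hker, Subgroup.index_ker]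
      have : Nat.card (∀ s : S, ↥N ⧸ K s) = ∏ s : S, (s : ℕ) ^ (Nat.card G).factorization s := by
        rw [Nat.card_pi]
        exact Finset.prod_congr rfl fun s _ => by rw [← Subgroup.index_eq_card, hidx]
      rw [← this]
      exact Subgroup.card_subgroup_dvd_card φ.range
    obtain ⟨s, -, hs⟩ := (Prime.dvd_finsetProd_iff hr.prime _).1 (hd.trans hdiv)
    have := (Nat.prime_dvd_prime_iff_eq hr (hπ _ (Finset.mem_of_mem_erase s.2))).1
      (hr.dvd_of_dvd_pow hs)
    exact this ▸ s.2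
  have hcop : (Nat.card ↥M).Coprime M.index := Nat.coprime_of_dvd fun r hr hd hd' =>
    hMS r hr hd (hMi r hr hd')
  set L : Subgroup G := M.map N.subtype with hL
  have hLcard : Nat.card ↥L = Nat.card ↥M := Subgroup.card_map_of_injective N.subtype_injective
  have hLidx : L.index = M.index * N.index := Subgroup.index_map_subtype M
  haveI : M.Characteristic := Subgroup.characteristic_iff_map_le.2 fun e => by
    rintro _ ⟨x, hx, rfl⟩
    rw [← QuotientGroup.eq_one_iff, ← orderOf_eq_one_iff]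
    refine Nat.eq_one_of_dvd_coprimes hcop ?_ (M.index_eq_card ▸ orderOf_dvd_natCard _)
    refine (orderOf_map_dvd ((QuotientGroup.mk' M).comp e.toMonoidHom) x).trans ?_
    exact Subgroup.orderOf_mk x hx ▸ orderOf_dvd_natCard (⟨x, hx⟩ : M)
  have hLn : L.Normal := inferInstance
  refine ⟨⟨L, hLn, fun r hr hd hrπ => ?_, fun r hr hd => ?_⟩, ?_⟩
  · rw [hLcard] at hd
    by_cases hr2 : r = 2
    · exact hN2 (hr2 ▸ hd.trans M.card_subgroup_dvd_card)
    · exact hMS r hr hd (Finset.mem_erase.2 ⟨hr2, hrπ⟩)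
  · rcases hr.dvd_mul.1 (hLidx ▸ hd) with h | h
    · exact Finset.mem_of_mem_erase (hMi r hr h)
    · exact ((Nat.prime_dvd_prime_iff_eq hr Nat.prime_two).1 (hr.dvd_of_dvd_pow (hNidx ▸ h))) ▸ h2
  obtain ⟨H, hH⟩ := Subgroup.exists_right_complement'_of_coprime hcop
  have hHcard : Nat.card ↥(H.map N.subtype) = Nat.card ↥H :=
    Subgroup.card_map_of_injective N.subtype_injective
  refine ⟨H.map N.subtype, ⟨fun r hr hd => ?_, fun r hr hrπ hd => ?_⟩, ?_⟩
  · rw [hHcard, ← hH.symm.index_eq_card] at hd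
    obtain ⟨hr2, hrπ⟩ := Finset.mem_erase.1 (hMi r hr hd)
    exact ⟨hrπ, hr2⟩
  · rw [Subgroup.index_map_subtype, hH.index_eq_card] at hd
    rcases hr.dvd_mul.1 hd with h | h
    · exact hMS r hr h (Finset.mem_erase.2 ⟨hrπ.2, hrπ.1⟩)
    · exact hrπ.2 ((Nat.prime_dvd_prime_iff_eq hr Nat.prime_two).1 (hr.dvd_of_dvd_pow (hNidx ▸ h)))
  · refine ⟨⟨?_⟩⟩
    rintro ⟨_, a, ha, rfl⟩ ⟨_, b, hb, rfl⟩
    have h1 : ⁅a, b⁆ ∈ M := Subgroup.mem_iInf.2 fun s => hcomm s _ _
    have h2 : ⁅a, b⁆ ∈ H := by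
      rw [commutatorElement_def]
      exact mul_mem (mul_mem (mul_mem ha hb) (inv_mem ha)) (inv_mem hb)
    exact Subtype.ext (congrArg N.subtype
      (commutatorElement_eq_one_iff_mul_comm.1 (Subgroup.disjoint_def.1 hH.disjoint h1 h2)))

end Cfsg.Agent.S3898
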