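import Cfsg.Statements.S3899
import Cfsg.Agent.Lib.PiClasses.Count

set_option autoImplicit false
open Cfsg
open scoped commutatorElement

namespace Cfsg.Agent.S3899

/-- Let π be a finite non-empty set of odd primes with smallest member p and G a finite group. Write k_π(G) for the number of conjugacy classes of G consisting of π-elements (elements all of whose order's prime divisors lie in π) and |G|_π for the π-part of the order of G. If k_π(G) > (p + 1)|G|_π/(2p), then G has a normal π-complement (a normal subgroup of order prime to π whose index is a π-number) and an abelian Hall π-subgroup. -/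
theorem result {G : Type*} [Group G] [Finite G] (π : Finset ℕ) (hπ : ∀ r ∈ π, r.Prime) (h2 : 2 ∉ π) (p : ℕ) (hp : p ∈ π)
    (hmin : ∀ r ∈ π, p ≤ r) (hk : (p + 1) * π.prod (fun r => r ^ (Nat.card G).factorization r) < 2 * p * Nat.card {c : ConjClasses G // ∀ x ∈ c.carrier, ∀ r : ℕ, r.Prime → r ∣ orderOf x → r ∈ π}) :
    (∃ N : Subgroup G, N.Normal ∧ (∀ r : ℕ, r.Prime → r ∣ Nat.card ↥N → r ∉ π) ∧ ∀ r : ℕ, r.Prime → r ∣ N.index → r ∈ π) ∧ ∃ H : Subgroup G, Cfsg.IsPiHall (↑π : Set ℕ) H ∧ IsMulCommutative ↥H := by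
  classical
  have hdata : ∀ r : π, ∃ N : Subgroup G, N.Normal ∧ ¬ (r : ℕ) ∣ Nat.card ↥N ∧
      N.index = (r : ℕ) ^ (Nat.card G).factorization r ∧ ∀ a b : G, ⁅a, b⁆ ∈ N := by
    rintro ⟨r, hr⟩
    have := Fact.mk (hπ r hr)
    obtain ⟨P⟩ := (inferInstance : Nonempty (Sylow r G))
    set R := (π.erase r).prod (fun s => s ^ (Nat.card G).factorization s) with hR
    have hRpos : 0 < R := Finset.prod_pos fun s hs => pow_pos (hπ s (Finset.mem_of_mem_erase hs)).pos _
    have hle : Nat.card (Lib.PiClasses.PiCls π G) ≤ Nat.card (Lib.PiClasses.PiCls {r} G) * R :=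
      Lib.PiClasses.card_piClasses_le_mul (hπ r hr) fun x =>
        (Lib.PiClasses.card_piClasses_le _ (fun s hs => hπ s (Finset.mem_of_mem_erase hs)) _).trans
          (Lib.PiClasses.prod_pow_factorization_le (fun s hs => hπ s (Finset.mem_of_mem_erase hs)) _)
    have hk' : (p + 1) * π.prod (fun r => r ^ (Nat.card G).factorization r) <
        2 * p * Nat.card (Lib.PiClasses.PiCls π G) := hk
    rw [← Finset.mul_prod_erase π _ hr, ← hR, ← Sylow.card_eq_multiplicity P] at hk'
    set c := Nat.card ↥(P : Subgroup G)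
    set k := Nat.card (Lib.PiClasses.PiCls {r} G)
    have h1 : (p + 1) * c < 2 * p * k := by
      have h0 : (p + 1) * c * R < 2 * p * k * R :=
        calc (p + 1) * c * R = (p + 1) * (c * R) := mul_assoc _ _ _
          _ < 2 * p * Nat.card (Lib.PiClasses.PiCls π G) := hk'
          _ ≤ 2 * p * (k * R) := Nat.mul_le_mul_left _ hle
          _ = 2 * p * k * R := (mul_assoc _ _ _).symm
      exact Nat.lt_of_mul_lt_mul_right h0
    have h2 : (r + 1) * c < 2 * r * k := by
      have hpr := hmin r hr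
      have h0 : p * ((r + 1) * c) < p * (2 * r * k) :=
        calc p * ((r + 1) * c) ≤ r * ((p + 1) * c) := by
              rw [← mul_assoc, ← mul_assoc]
              exact Nat.mul_le_mul_right _ (by rw [mul_add, mul_add, mul_comm p r]; omega)
          _ < r * (2 * p * k) := Nat.mul_lt_mul_of_pos_left h1 (hπ r hr).pos
          _ = p * (2 * r * k) := by ring
      exact Nat.lt_of_mul_lt_mul_left h0
    obtain ⟨N, hN, hc⟩ := Lib.PiClasses.hasNormalPComplement_of_lt P h2
    have hab := Lib.PiClasses.sylow_comm_of_lt P h2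
    have hidx : N.index = c := hc.symm.index_eq_card
    refine ⟨N, hN, ?_, hidx.trans (Sylow.card_eq_multiplicity P), fun a b => ?_⟩
    · rw [← hc.index_eq_card]
      exact P.not_dvd_index
    · have : IsMulCommutative (G ⧸ N) := by
        refine ⟨⟨fun x y => ?_⟩⟩
        have hbij : Function.Bijective ((QuotientGroup.mk' N).comp (P : Subgroup G).subtype) := by
          refine (Nat.bijective_iff_injective_and_card _).2 ⟨?_, by rw [← Subgroup.index_eq_card, hidx]⟩
          rw [← MonoidHom.ker_eq_bot_iff, eq_bot_iff]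
          intro z hz
          have hzN : (z : G) ∈ N := by simpa using hz
          exact Subtype.ext (Subgroup.disjoint_def.1 hc.disjoint hzN z.2)
        obtain ⟨x, rfl⟩ := hbij.2 x
        obtain ⟨y, rfl⟩ := hbij.2 y
        rw [← map_mul, ← map_mul, hab.1.1 x y]
      exact Subgroup.Normal.quotient_commutative_iff_commutator_le.1 this
        (Subgroup.commutator_mem_commutator (Subgroup.mem_top a) (Subgroup.mem_top b))
  choose N hN hnd hidx hcomm using hdata
  set M := ⨅ r, N r with hM
  have hMn : M.Normal := Subgroup.normal_iInf_normal hN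
  have hMπ : ∀ r : ℕ, r.Prime → r ∣ Nat.card ↥M → r ∉ π := fun r _ hd hr =>
    hnd ⟨r, hr⟩ (hd.trans (Subgroup.card_dvd_of_le (iInf_le N ⟨r, hr⟩)))
  have hMi : ∀ r : ℕ, r.Prime → r ∣ M.index → r ∈ π := by
    intro r hr hd
    let φ : G →* ∀ s : π, G ⧸ N s := MonoidHom.pi fun s => QuotientGroup.mk' (N s)
    have hker : φ.ker = M := by
      ext x
      simp [φ, hM, funext_iff, Subgroup.mem_iInf, MonoidHom.pi_apply, QuotientGroup.eq_one_iff]
    have hdiv : M.index ∣ ∏ s : π, (s : ℕ) ^ (Nat.card G).factorization s := by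
      rw [← hker, Subgroup.index_ker]
      have : Nat.card (∀ s : π, G ⧸ N s) = ∏ s : π, (s : ℕ) ^ (Nat.card G).factorization s := by
        rw [Nat.card_pi]
        exact Finset.prod_congr rfl fun s _ => by rw [← Subgroup.index_eq_card, hidx]
      rw [← this]
      exact Subgroup.card_subgroup_dvd_card φ.range
    obtain ⟨s, -, hs⟩ := (Prime.dvd_finsetProd_iff hr.prime _).1 (hd.trans hdiv)
    have := (Nat.prime_dvd_prime_iff_eq hr (hπ _ s.2)).1 (hr.dvd_of_dvd_pow hs)
    exact this ▸ s.2
  refine ⟨⟨M, hMn, hMπ, hMi⟩, ?_⟩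
  have hcop : (Nat.card ↥M).Coprime M.index := Nat.coprime_of_dvd fun r hr hd hd' =>
    hMπ r hr hd (hMi r hr hd')
  obtain ⟨H, hH⟩ := Subgroup.exists_right_complement'_of_coprime hcop
  refine ⟨H, ⟨fun r hr hd => ?_, fun r hr hrπ hd => ?_⟩, ⟨⟨fun a b => ?_⟩⟩⟩
  · exact hMi r hr (by rwa [hH.symm.index_eq_card])
  · exact hMπ r hr (by rwa [← hH.index_eq_card]) hrπ
  · have h1 : ⁅(a : G), (b : G)⁆ ∈ M := Subgroup.mem_iInf.2 fun s => hcomm s _ _
    have h2 : ⁅(a : G), (b : G)⁆ ∈ H := by
      rw [commutatorElement_def]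
      exact mul_mem (mul_mem (mul_mem a.2 b.2) (inv_mem a.2)) (inv_mem b.2)
    exact Subtype.ext (commutatorElement_eq_one_iff_mul_comm.1 (Subgroup.disjoint_def.1 hH.disjoint h1 h2))

end Cfsg.Agent.S3899
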