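import Cfsg.Statements.S3903
-- import your own Cfsg.Agent.* helpers here

set_option autoImplicit false
open Cfsg

namespace Cfsg.Agent.S3903

/-- A normal subgroup with solvable quotient of a solvable group: solvable group. -/
theorem solvable_of_ker {G H : Type*} [Group G] [Group H] (f : G →* H) (hk : Group.IsSolvable ↥f.ker)
    (hH : Group.IsSolvable H) : Group.IsSolvable G :=
  Group.isSolvable_of_ker_le_range f.ker.subtype f (by simp)

/-- The centralizer of an element outside `N` is a `p`-group. -/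
theorem isPGroup_centralizer {G : Type*} [Group G] [Finite G] (N : Subgroup G) [N.Normal]
    (h : ∀ x : G, x ∉ N → IsPrimePow (orderOf x)) {x : G} (hx : x ∉ N) {p k : ℕ} (hp : p.Prime)
    (hk : orderOf x = p ^ k) : IsPGroup p ↥(Subgroup.centralizer ({x} : Set G)) := by
  have := Fact.mk hp
  have key : ∀ q : ℕ, q.Prime → q ∣ Nat.card ↥(Subgroup.centralizer ({x} : Set G)) → q = p := by
    intro q hq hdvd
    by_contra hne
    have := Fact.mk hq
    obtain ⟨c, hc⟩ := exists_prime_orderOf_dvd_card' q hdvd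
    rw [← Subgroup.orderOf_coe] at hc
    have hcomm : Commute x (c : G) := (Subgroup.mem_centralizer_singleton_iff.1 c.2).symm
    have hk0 : k ≠ 0 := by rintro rfl; simp at hk; exact hx (hk ▸ one_mem N)
    have hcop : Nat.Coprime (p ^ k) q := Nat.Coprime.pow_left _ ((Nat.coprime_primes hp hq).2 (Ne.symm hne))
    have hord : orderOf (x * (c : G)) = p ^ k * q := by
      rw [hcomm.orderOf_mul_eq_mul_orderOf_of_coprime (by rw [hk, hc]; exact hcop), hk, hc]
    have hxc : x * (c : G) ∈ N := by
      by_contra hxc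
      obtain ⟨r, j, hr, _, hrj⟩ := (isPrimePow_nat_iff _).1 (h _ hxc)
      rw [hord] at hrj
      have h1 : p = r := (Nat.prime_dvd_prime_iff_eq hp hr).1
        (hp.dvd_of_dvd_pow (hrj ▸ (dvd_pow_self p hk0).mul_right q))
      have h2 : q = r := (Nat.prime_dvd_prime_iff_eq hq hr).1
        (hq.dvd_of_dvd_pow (hrj ▸ dvd_mul_left q (p ^ k)))
      exact hne (h2.trans h1.symm)
    have hxq : x ^ q ∈ N := by
      have := pow_mem hxc q
      rwa [hcomm.mul_pow, ← hc, pow_orderOf_eq_one, mul_one, hc] at this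
    apply hx
    obtain ⟨m, hm⟩ := exists_pow_eq_self_of_coprime (hk ▸ hcop.symm : Nat.Coprime q (orderOf x))
    exact hm ▸ pow_mem hxq m
  exact IsPGroup.of_card (Nat.eq_prime_pow_of_unique_prime_dvd Nat.card_pos.ne' (fun {d} hd hdvd => key d hd hdvd))

/-- Elements outside `N`: maximal `p`-group centralizers force solvability. -/
theorem solvable_of_coatom_centralizers {G : Type*} [Group G] [Finite G] (N : Subgroup G) [N.Normal]
    (hN : N ≠ ⊤)
    (h : ∀ x : G, x ∉ N → IsPrimePow (orderOf x) ∧ IsCoatom (Subgroup.centralizer ({x} : Set G))) :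
    Group.IsSolvable ↥N := by
  obtain ⟨x, hx⟩ : ∃ x, x ∉ N := by
    by_contra hall
    push Not at hall
    exact hN (eq_top_iff.2 fun g _ => hall g)
  obtain ⟨p, k, hp, hk0, hk⟩ := (isPrimePow_nat_iff _).1 (h x hx).1
  have := Fact.mk hp
  obtain ⟨P, hxP⟩ := (isPGroup_centralizer N (fun y hy => (h y hy).1) hx hp hk.symm).exists_le_sylow
  have hxmem : x ∈ (P : Subgroup G) := hxP (Subgroup.mem_centralizer_singleton_iff.2 rfl)
  have solvP : Group.IsSolvable ↥(P : Subgroup G) := by
    have := P.2.isNilpotent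
    infer_instance
  by_cases hPtop : (P : Subgroup G) = ⊤
  · have hG : IsPGroup p G := (hPtop ▸ P.2 : IsPGroup p (⊤ : Subgroup G)).of_equiv Subgroup.topEquiv
    have := hG.isNilpotent
    infer_instance
  have hPC : Subgroup.centralizer ({x} : Set G) = (P : Subgroup G) :=
    hxP.antisymm (((h x hx).2.le_iff.1 hxP).resolve_left hPtop).le
  have hPmax : IsCoatom (P : Subgroup G) := hPC ▸ (h x hx).2
  by_cases hNP : N ≤ (P : Subgroup G)
  · have := (P.2.to_le hNP).isNilpotent
    infer_instance
  have hPN : (P : Subgroup G) ⊔ N = ⊤ := hPmax.2 _ (left_lt_sup.2 hNP)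
  suffices Group.IsSolvable G from inferInstance
  rcases hPmax.le_iff.1 (Subgroup.le_normalizer (H := (P : Subgroup G))) with hnorm | hnorm
  · -- the Sylow subgroup is normal
    have : (P : Subgroup G).Normal := Subgroup.normalizer_eq_top_iff.1 hnorm
    refine solvable_of_ker (QuotientGroup.mk' (P : Subgroup G)) (by rw [QuotientGroup.ker_mk']; exact solvP) ?_
    obtain ⟨y, hy⟩ : ∃ y, y ∉ (P : Subgroup G) := by
      by_contra hall
      push Not at hall
      exact hPtop (eq_top_iff.2 fun g _ => hall g)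
    have htop := hPmax.2 ((P : Subgroup G) ⊔ Subgroup.zpowers y)
      (left_lt_sup.2 fun hle => hy (hle (Subgroup.mem_zpowers y)))
    have : commutator G ≤ (P : Subgroup G) :=
      Subgroup.Normal.commutator_le_of_self_sup_commutative_eq_top htop inferInstance
    have := Subgroup.Normal.quotient_commutative_iff_commutator_le.2 this
    exact Group.isSolvable_of_comm fun a b => this.1.1 a b
  -- now `P` is self-normalizing
  have hall : ∀ g : G, g ∉ N → ∃ z ∈ (P : Subgroup G), z ∉ N ∧
      Subgroup.centralizer ({z} : Set G) = (P : Subgroup G) ∧ ∃ k : G, g = k * z * k⁻¹ := by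
    intro g hg
    obtain ⟨q, j, hq, hj0, hj⟩ := (isPrimePow_nat_iff _).1 (h g hg).1
    have hqp : q = p := by
      have hdvd : orderOf (QuotientGroup.mk' N g) ∣ orderOf g := orderOf_map_dvd _ g
      have hne : orderOf (QuotientGroup.mk' N g) ≠ 1 := by
        rw [Ne, orderOf_eq_one_iff, QuotientGroup.mk'_apply, QuotientGroup.eq_one_iff]
        exact hg
      have hsurj : Function.Surjective ((QuotientGroup.mk' N).comp (P : Subgroup G).subtype) := by
        intro y
        obtain ⟨y, rfl⟩ := QuotientGroup.mk'_surjective N y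
        obtain ⟨a, ha, b, hb, rfl⟩ := Subgroup.mem_sup_of_normal_right.1 (hPN ▸ Subgroup.mem_top y : y ∈ (P : Subgroup G) ⊔ N)
        exact ⟨⟨a, ha⟩, by simp [(QuotientGroup.eq_one_iff b).2 hb]⟩
      obtain ⟨i, hi⟩ := IsPGroup.iff_orderOf.1 (P.2.of_surjective _ hsurj) (QuotientGroup.mk' N g)
      rw [hi] at hdvd hne
      have hi0 : i ≠ 0 := by rintro rfl; exact hne (pow_zero p)
      exact (Nat.prime_dvd_prime_iff_eq hp hq).1
        (hp.dvd_of_dvd_pow (((dvd_pow_self p hi0).trans hdvd).trans hj.symm.dvd)) |>.symm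
    subst hqp
    obtain ⟨Q, hQ⟩ := (isPGroup_centralizer N (fun y hy => (h y hy).1) hg hp hj.symm).exists_le_sylow
    obtain ⟨c, hc⟩ := MulAction.exists_smul_eq G P Q
    have hQP : ∀ y, y ∈ (Q : Subgroup G) ↔ c⁻¹ * y * c ∈ (P : Subgroup G) := by
      intro y
      rw [← hc, Sylow.coe_subgroup_smul, Subgroup.mem_pointwise_smul_iff_inv_smul_mem]
      simp [MulAut.conj_symm_apply]
    have hgQ : g ∈ (Q : Subgroup G) := hQ (Subgroup.mem_centralizer_singleton_iff.2 rfl)
    have hzP : c⁻¹ * g * c ∈ (P : Subgroup G) := (hQP g).1 hgQ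
    have hzN : c⁻¹ * g * c ∉ N := fun hn => hg (by
      have := ‹N.Normal›.conj_mem _ hn c
      simpa [mul_assoc] using this)
    refine ⟨_, hzP, hzN, ?_, c, by group⟩
    have hle : Subgroup.centralizer ({c⁻¹ * g * c} : Set G) ≤ (P : Subgroup G) := by
      intro y hy
      have hy' : c * y * c⁻¹ ∈ Subgroup.centralizer ({g} : Set G) := by
        rw [Subgroup.mem_centralizer_singleton_iff] at hy ⊢
        calc c * y * c⁻¹ * g = c * (y * (c⁻¹ * g * c)) * c⁻¹ := by group
          _ = c * ((c⁻¹ * g * c) * y) * c⁻¹ := by rw [hy]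
          _ = g * (c * y * c⁻¹) := by group
      simpa [mul_assoc] using (hQP _).1 (hQ hy')
    exact hle.antisymm (((h _ hzN).2.le_iff.1 hle).resolve_left hPtop).le
  let Z : Type _ := {z : G // z ∈ (P : Subgroup G) ∧ z ∉ N ∧
      Subgroup.centralizer ({z} : Set G) = (P : Subgroup G)}
  have hwd : ∀ (z : Z) (a b : G), a⁻¹ * b ∈ (P : Subgroup G) → a * z.1 * a⁻¹ = b * z.1 * b⁻¹ := by
    intro z a b hab
    rw [← z.2.2.2, Subgroup.mem_centralizer_singleton_iff] at hab
    calc a * z.1 * a⁻¹ = a * (z.1 * (a⁻¹ * b)) * b⁻¹ := by group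
      _ = a * ((a⁻¹ * b) * z.1) * b⁻¹ := by rw [hab]
      _ = b * z.1 * b⁻¹ := by group
  let f : Z × (G ⧸ (P : Subgroup G)) → {g : G // g ∉ N} := fun zq =>
    ⟨zq.2.out * zq.1.1 * zq.2.out⁻¹, fun hn => zq.1.2.2.1 (by
      have := ‹N.Normal›.conj_mem _ hn zq.2.out⁻¹
      simpa [mul_assoc] using this)⟩
  have hf : Function.Bijective f := by
    refine ⟨?_, ?_⟩
    · rintro ⟨z, a⟩ ⟨w, b⟩ hab
      have hab' : a.out * z.1 * a.out⁻¹ = b.out * w.1 * b.out⁻¹ := congrArg Subtype.val hab
      set d := b.out⁻¹ * a.out with hd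
      have hw : w.1 = d * z.1 * d⁻¹ := by
        calc w.1 = b.out⁻¹ * (b.out * w.1 * b.out⁻¹) * b.out := by group
          _ = d * z.1 * d⁻¹ := by rw [← hab', hd]; group
      have hdn : d ∈ Subgroup.normalizer ((P : Subgroup G) : Set G) := by
        rw [Subgroup.mem_normalizer_iff]
        intro y
        conv_lhs => rw [← z.2.2.2]
        conv_rhs => rw [← w.2.2.2, hw]
        rw [Subgroup.mem_centralizer_singleton_iff, Subgroup.mem_centralizer_singleton_iff]
        constructor
        · intro hy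
          calc d * y * d⁻¹ * (d * z.1 * d⁻¹) = d * (y * z.1) * d⁻¹ := by group
            _ = d * (z.1 * y) * d⁻¹ := by rw [hy]
            _ = d * z.1 * d⁻¹ * (d * y * d⁻¹) := by group
        · intro hy
          calc y * z.1 = d⁻¹ * (d * y * d⁻¹ * (d * z.1 * d⁻¹)) * d := by group
            _ = d⁻¹ * (d * z.1 * d⁻¹ * (d * y * d⁻¹)) * d := by rw [hy]
            _ = z.1 * y := by group
      rw [hnorm] at hdn
      have hqab : b = a := by
        rw [← QuotientGroup.out_eq' a, ← QuotientGroup.out_eq' b, QuotientGroup.eq]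
        exact hdn
      subst hqab
      have hzw : z = w := Subtype.ext (by rw [hw, hd]; group)
      rw [hzw]
    · rintro ⟨g, hg⟩
      obtain ⟨z, hzP, hzN, hzC, c, rfl⟩ := hall g hg
      refine ⟨(⟨z, hzP, hzN, hzC⟩, (c : G ⧸ (P : Subgroup G))), Subtype.ext ?_⟩
      exact hwd ⟨z, hzP, hzN, hzC⟩ _ _ (QuotientGroup.eq.1 (QuotientGroup.out_eq' _))
  have hcard := Nat.card_eq_of_bijective f hf
  rw [Nat.card_prod] at hcard
  let ι : Z → {y : ↥(P : Subgroup G) // (y : G) ∉ N} := fun z => ⟨⟨z.1, z.2.1⟩, z.2.2.1⟩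
  have hι : Function.Injective ι := fun z w hzw => Subtype.ext (congrArg (fun t => (t.1 : G)) hzw)
  have hcentral : ∀ y ∈ (P : Subgroup G), y ∉ N →
      Subgroup.centralizer ({y} : Set G) = (P : Subgroup G) := by
    have hle := Nat.card_le_card_of_injective ι hι
    have hge : Nat.card {y : ↥(P : Subgroup G) // (y : G) ∉ N} * (P : Subgroup G).index ≤
        Nat.card {g : G // g ∉ N} := by
      have e1 : Nat.card {g : G // g ∉ N} = Nat.card G - Nat.card N := by
        change Nat.card ↥((N : Set G)ᶜ) = _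
        rw [Nat.card_coe_set_eq, Set.ncard_compl, ← Nat.card_coe_set_eq]
        rfl
      have e2 : Nat.card {y : ↥(P : Subgroup G) // (y : G) ∉ N} =
          Nat.card ↥(P : Subgroup G) - Nat.card ↥(N.subgroupOf (P : Subgroup G)) := by
        change Nat.card ↥(((N.subgroupOf (P : Subgroup G)) : Set ↥(P : Subgroup G))ᶜ) = _
        rw [Nat.card_coe_set_eq, Set.ncard_compl, ← Nat.card_coe_set_eq]
        rfl
      have e3 : Nat.card ↥(N.subgroupOf (P : Subgroup G)) * (P : Subgroup G).index = Nat.card N := by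
        have h1 := (N.subgroupOf (P : Subgroup G)).card_mul_index
        have h2 := N.card_mul_index
        have h3 := (P : Subgroup G).card_mul_index
        have h4 : (N.subgroupOf (P : Subgroup G)).index = N.index := by
          rw [← Subgroup.relIndex, ← Subgroup.relIndex_sup_right, hPN, Subgroup.relIndex_top_right]
        rw [h4] at h1
        apply Nat.eq_of_mul_eq_mul_right (Nat.pos_of_ne_zero N.index_ne_zero_of_finite)
        rw [h2, ← h3, ← h1]; ring
      rw [e1, e2, Nat.sub_mul, Subgroup.card_mul_index, e3]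
    have hbij : Function.Bijective ι := by
      refine (Nat.bijective_iff_injective_and_card ι).2 ⟨hι, le_antisymm hle ?_⟩
      rw [← hcard, ← Subgroup.index_eq_card] at hge
      exact Nat.le_of_mul_le_mul_right hge (Nat.pos_of_ne_zero (P : Subgroup G).index_ne_zero_of_finite)
    intro y hy hyN
    obtain ⟨z, hz⟩ := hbij.2 ⟨⟨y, hy⟩, hyN⟩
    have : z.1 = y := congrArg (fun t => (t.1 : G)) hz
    exact this ▸ z.2.2.2
  have hab : (P : Subgroup G) ≤ Subgroup.centralizer ((P : Subgroup G) : Set G) := by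
    have hc : ∀ y ∈ (P : Subgroup G), y ∉ N → ∀ w ∈ (P : Subgroup G), w * y = y * w := fun y hy hyN w hw =>
      Subgroup.mem_centralizer_singleton_iff.1 ((hcentral y hy hyN).symm ▸ hw)
    intro a ha
    rw [Subgroup.mem_centralizer_iff]
    intro b hb
    by_cases haN : a ∈ N
    · have hxa : x * a ∉ N := fun hn => hx (by simpa using mul_mem hn (inv_mem haN))
      have h1 := hc _ (mul_mem hxmem ha) hxa b hb
      have h2 := hc x hxmem hx b hb
      calc b * a = x⁻¹ * (x * b) * a := by group
        _ = x⁻¹ * (b * (x * a)) := by rw [← h2]; group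
        _ = a * b := by rw [h1]; group
    · exact hc a ha haN b hb
  have hB : Subgroup.normalizer ((P : Subgroup G) : Set G) ≤
      Subgroup.centralizer ((P : Subgroup G) : Set G) := hnorm.le.trans hab
  have hM := MonoidHom.ker_transferSylow_isComplement' P hB
  set M := (MonoidHom.transferSylow P hB).ker
  refine solvable_of_ker (MonoidHom.transferSylow P hB) ?_ solvP
  have hnotdvd : ¬ p ∣ Nat.card M := MonoidHom.not_dvd_card_ker_transferSylow P hB
  by_cases hM1 : Nat.card M = 1
  · have : Subsingleton M := (Nat.card_eq_one_iff_unique.1 hM1).1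
    infer_instance
  obtain ⟨q, hq, hqM⟩ := Nat.exists_prime_and_dvd hM1
  have := Fact.mk hq
  obtain ⟨Q⟩ := (inferInstance : Nonempty (Sylow q M))
  set Q' := (Q : Subgroup M).map M.subtype
  have hfr : Subgroup.normalizer (Q' : Set G) ⊔ M = ⊤ := Sylow.normalizer_sup_eq_top Q
  have hQpg : IsPGroup q Q' := Q.2.map _
  have hQle : Q' ≤ M := Subgroup.map_subtype_le _
  have hpN : Nat.card ↥(P : Subgroup G) ∣ Nat.card ↥(Subgroup.normalizer (Q' : Set G)) := by
    have hidx : (P : Subgroup G).index = Nat.card M := hM.index_eq_card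
    have hd : M.index = Nat.card ↥(P : Subgroup G) := hM.symm.index_eq_card
    rw [← hd, ← Subgroup.relIndex_top_right M, ← hfr, Subgroup.relIndex_sup_right]
    exact Subgroup.relIndex_dvd_card _ _
  obtain ⟨S⟩ := (inferInstance : Nonempty (Sylow p ↥(Subgroup.normalizer (Q' : Set G))))
  set S' := (S : Subgroup ↥(Subgroup.normalizer (Q' : Set G))).map (Subgroup.normalizer (Q' : Set G)).subtype
  obtain ⟨T, hT⟩ := (S.2.map (Subgroup.normalizer (Q' : Set G)).subtype).exists_le_sylow
  have hScard : Nat.card S' = Nat.card ↥(P : Subgroup G) := by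
    apply le_antisymm
    · rw [Sylow.card_eq_multiplicity P, ← Sylow.card_eq_multiplicity T]
      exact Subgroup.card_le_of_le hT
    · rw [Subgroup.card_map_of_injective Subtype.val_injective, Sylow.card_eq_multiplicity S,
        Sylow.card_eq_multiplicity P]
      refine Nat.le_of_dvd (pow_pos hp.pos _) (pow_dvd_pow p ?_)
      refine (hp.pow_dvd_iff_le_factorization Nat.card_pos.ne').1 ?_
      rwa [← Sylow.card_eq_multiplicity P]
  have hST : S' = (T : Subgroup G) := Subgroup.eq_of_le_of_card_ge hT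
    (by rw [hScard, Sylow.card_eq_multiplicity P, Sylow.card_eq_multiplicity T])
  obtain ⟨c, hc⟩ := MulAction.exists_smul_eq G P T
  have hTmax : IsCoatom (T : Subgroup G) := by
    rw [← hc, Sylow.coe_subgroup_smul]
    exact (MulDistribMulAction.toMulAut _ _ (MulAut.conj c)).mapSubgroup.isCoatom_iff _ |>.2 hPmax
  have hTN : (T : Subgroup G) ≤ Subgroup.normalizer (Q' : Set G) := hST ▸ Subgroup.map_subtype_le _
  have hQne : Q' ≠ ⊥ := by
    intro h0
    have := (Q : Subgroup M).map_eq_bot_iff_of_injective M.subtype_injective |>.1 h0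
    exact Q.ne_bot_of_dvd_card hqM this
  have hQT : ¬ Q' ≤ (T : Subgroup G) := by
    intro hle
    apply hQne
    have h1 : Nat.card Q' ∣ Nat.card M := Subgroup.card_dvd_of_le hQle
    obtain ⟨i, hi⟩ := IsPGroup.iff_card.1 (T.2.to_le hle : IsPGroup p Q')
    rw [hi] at h1
    rcases Nat.eq_zero_or_pos i with rfl | hi0
    · exact Subgroup.card_eq_one.1 (by simpa using hi)
    · exact absurd ((dvd_pow_self p hi0.ne').trans h1) hnotdvd
  have hNtop : Subgroup.normalizer (Q' : Set G) = ⊤ :=
    hTmax.2 _ (lt_of_le_of_ne hTN fun he => hQT (he ▸ Subgroup.le_normalizer))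
  have : Q'.Normal := Subgroup.normalizer_eq_top_iff.1 hNtop
  have hsup : (T : Subgroup G) ⊔ Q' = ⊤ := hTmax.2 _ (left_lt_sup.2 hQT)
  have hMQ : M ≤ Q' := by
    have h1 : Q'.index ∣ Nat.card ↥(T : Subgroup G) := by
      rw [← Subgroup.relIndex_top_right Q', ← hsup, Subgroup.relIndex_sup_right]
      exact Subgroup.relIndex_dvd_card _ _
    have hTP : Nat.card ↥(T : Subgroup G) = Nat.card ↥(P : Subgroup G) := by
      rw [Sylow.card_eq_multiplicity T, Sylow.card_eq_multiplicity P]
    have h2 : Q'.index = Q'.relIndex M * M.index := (Subgroup.relIndex_mul_index hQle).symm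
    have h3 : M.index = Nat.card ↥(P : Subgroup G) := hM.symm.index_eq_card
    rw [h2, h3, hTP] at h1
    have h4 : Q'.relIndex M = 1 := Nat.dvd_one.1 ((Nat.mul_dvd_mul_iff_right Nat.card_pos).1 (by simpa using h1))
    exact Subgroup.relIndex_eq_one.1 h4
  have hMpg : IsPGroup q M := hQpg.to_le hMQ
  have := hMpg.isNilpotent
  infer_instance

/-- Let N be a proper normal subgroup of the finite group G such that every element x of G outside N has prime power order and has centralizer C_G(x) a maximal subgroup of G. Then N is solvable. -/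
theorem result {G : Type*} [Group G] [Finite G] (N : Subgroup G) [N.Normal] (hN : N ≠ ⊤)
    (h : ∀ x : G, x ∉ N → IsPrimePow (orderOf x) ∧ IsCoatom (Subgroup.centralizer ({x} : Set G))) : Group.IsSolvable ↥N := by
  exact solvable_of_coatom_centralizers N hN h

end Cfsg.Agent.S3903
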