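import Cfsg.Statements.S3906
import Cfsg.Agent.Lib.RankFixedClass.Main

set_option autoImplicit false
open Cfsg

namespace Cfsg.Agent.S3906

/-- Let p be a prime and let k ≥ 3, c ≥ 0 and d ≥ 0 be integers with 2^d + 2 ≤ k. There is a bound B depending only on p, k, c and d such that the following holds for every finite group G of order prime to p and every elementary abelian subgroup A of order p^k of the automorphism group of G: if, for every non-identity a ∈ A, the d-th derived subgroup of the fixed-point subgroup C_G(a) (the 0-th derived subgroup of a group being the group itself) is nilpotent of class at most c, then the d-th derived subgroup of G is nilpotent of class at most B. -/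
theorem result (p k c d : ℕ) (hp : p.Prime) (hk : 3 ≤ k) (hd : 2 ^ d + 2 ≤ k) :
    ∃ B : ℕ, ∀ (G : Type) [Group G] [Finite G], (Nat.card G).Coprime p →
      ∀ A : Subgroup (MulAut G), Cfsg.IsElementaryAbelian p A → Nat.card ↥A = p ^ k →
        (∀ a ∈ A, a ≠ 1 → (derivedSeries ↥((a : MulAut G).toMonoidHom.eqLocus (MonoidHom.id G)) d).lowerCentralSeries c = ⊥) →
        (derivedSeries G d).lowerCentralSeries B = ⊥ := by
  haveI := Fact.mk hp
  refine ⟨Lib.RankFixedClass.classBound p k c (c + d), fun G _ _ hcop A hA hcard h => ?_⟩
  haveI := hA.1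
  haveI : Finite A := Nat.finite_of_card_ne_zero (by rw [hcard]; exact pow_ne_zero _ hp.ne_zero)
  letI : CommGroup A := { (inferInstance : Group A) with mul_comm := IsMulCommutative.is_comm.comm }
  have hexp : ∀ a : A, a ^ p = 1 := fun a => Subtype.ext (hA.2 a a.2)
  have hfix : ∀ a : A, Lib.RankFixedClass.fixE G a =
      ((a : MulAut G).toMonoidHom.eqLocus (MonoidHom.id G)) := fun a => by
    ext x
    exact Iff.rfl
  refine Lib.RankFixedClass.derived_bound (A := A) hcard hexp hcop hd ?_
  intro a ha
  have h1 := h a a.2 (fun e => ha (Subtype.ext e))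
  rw [hfix]
  generalize ((a : MulAut G).toMonoidHom.eqLocus (MonoidHom.id G)) = S at h1 ⊢
  have h2 : (derivedSeries S d).map S.subtype = Lib.RankFixedClass.dS S d := by
    rw [← Lib.RankFixedClass.dS_top, Lib.RankFixedClass.map_dS, ← MonoidHom.range_eq_map,
      Subgroup.range_subtype]
  rw [← h2, ← Subgroup.map_lowerCentralSeries, h1, Subgroup.map_bot]

end Cfsg.Agent.S3906
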