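import Cfsg.Statements.S3910
import Cfsg.Agent.Lib.Brauer.Monomial
import Cfsg.Agent.Lib.Transfer.PResidual
import Cfsg.Agent.Lib.Transfer.Frobenius

set_option autoImplicit false
set_option linter.style.haveILetI false
open Cfsg

namespace Cfsg.Agent.S3910

open Lib.Transfer


/-- A finite nilpotent group in which any two abelian subgroups of the same order are conjugate is cyclic. -/
theorem result {G : Type*} [Group G] [Finite G] (hB : ∀ A B : Subgroup G, IsMulCommutative ↥A → IsMulCommutative ↥B → Nat.card ↥A = Nat.card ↥B → ∃ g : G, B = A.map (MulAut.conj g).toMonoidHom) (hnil : Group.IsNilpotent G) : IsCyclic G := by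
  haveI := hnil
  obtain ⟨A, hAn, hab, hself⟩ := Lib.Brauer.Monomial.exists_selfCentralizing (G := G)
  haveI := hAn
  have hpp : ∀ (p : ℕ), p.Prime → ∀ x : G, (∃ k, orderOf x = p ^ k) → x ∈ A := by
    intro p hp x ⟨k, hk⟩
    haveI := Fact.mk hp
    by_contra hx
    have hAm : IsMulCommutative A := ⟨⟨fun a b => Subtype.ext (hab a a.2 b b.2)⟩⟩
    obtain ⟨P⟩ : Nonempty (Sylow p A) := inferInstance
    set P' := (P : Subgroup A).map A.subtype with hP'
    have hP'le : P' ≤ A := Subgroup.map_subtype_le _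
    haveI : IsMulCommutative P' := ⟨⟨fun a b => Subtype.ext (hab a (hP'le a.2) b (hP'le b.2))⟩⟩
    obtain ⟨j, hj⟩ := IsPGroup.iff_card.1 P.isPGroup'
    have hcard : Nat.card P' = p ^ j := by
      rw [hP', Subgroup.card_map_of_injective A.subtype_injective, hj]
    rcases le_or_gt k j with hkj | hjk
    · obtain ⟨E, hE, -⟩ := Sylow.exists_subgroup_card_pow_prime_le (p := p) (G := P') (n := 0) (m := k)
        (hcard ▸ pow_dvd_pow p hkj) ⊥ (by simp) (Nat.zero_le _)
      obtain ⟨g, hg⟩ := hB (E.map P'.subtype) (Subgroup.zpowers x) inferInstance inferInstance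
        (by rw [Subgroup.card_map_of_injective P'.subtype_injective, hE, Nat.card_zpowers, hk])
      refine hx ?_
      obtain ⟨a, ha, hax⟩ := hg.le (Subgroup.mem_zpowers x)
      rw [← hax]
      exact hAn.conj_mem a (hP'le ((Subgroup.map_subtype_le E) ha)) g
    · have hord : orderOf (x ^ p ^ (k - j)) = p ^ j := by
        rw [orderOf_pow, hk, Nat.gcd_eq_right (pow_dvd_pow p (Nat.sub_le k j)),
          Nat.pow_div (Nat.sub_le k j) hp.pos]
        congr 1
        omega
      obtain ⟨g, hg⟩ := hB (Subgroup.zpowers (x ^ p ^ (k - j))) P' inferInstance inferInstance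
        (by rw [Nat.card_zpowers, hord, hcard])
      have hPn : P'.Normal := by
        haveI hn : (P : Subgroup A).Normal :=
          ⟨fun a ha b => by rwa [mul_comm' b a, mul_inv_cancel_right]⟩
        haveI := P.characteristic_of_normal hn
        exact ConjAct.normal_of_characteristic_of_normal
      have hle : P' ≤ Subgroup.zpowers x := by
        intro y hy
        have h1 : g * y * g⁻¹ ∈ P' := hPn.conj_mem y hy g
        rw [hg] at h1
        obtain ⟨z, hz, hzy⟩ := h1
        simp at hzy
        subst hzy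
        exact Subgroup.zpowers_le.2 (Subgroup.npow_mem_zpowers x _) hz
      refine hx (hself (Subgroup.mem_centralizer_iff.2 fun a ha => ?_))
      obtain ⟨u, v, hu, hv, huv, -, ⟨i, hi⟩, hv'⟩ :=
        PResidual.exists_pPart_mul_pPrimePart (p := p) a (isOfFinOrder_of_finite a)
      have huP : u ∈ P' := by
        have huA : u ∈ A := Subgroup.zpowers_le.2 ha hu
        refine ⟨⟨u, huA⟩, ?_, rfl⟩
        obtain ⟨Q, hQ⟩ := IsPGroup.exists_le_sylow (P := Subgroup.zpowers (⟨u, huA⟩ : A))
          (IsPGroup.iff_card.2 (by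
            obtain ⟨i', -, hi'⟩ := (Nat.dvd_prime_pow hp).1 (orderOf_dvd_of_pow_eq_one hi)
            exact ⟨i', by rw [Nat.card_zpowers, Subgroup.orderOf_mk, hi']⟩))
        haveI : (P : Subgroup A).Normal := ⟨fun a ha b => by rwa [mul_comm' b a, mul_inv_cancel_right]⟩
        haveI := P.unique_of_normal this
        rw [← Subsingleton.elim Q P]
        exact hQ (Subgroup.mem_zpowers _)
      obtain ⟨i₁, hi₁⟩ := hle huP
      simp only at hi₁
      have hvx : v * x = x * v := Frobenius.commute_of_coprime_of_isNilpotent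
        (by rw [hk]; exact hv'.pow_right k)
      rw [← huv, mul_assoc, hvx, ← mul_assoc, ← hi₁]
      rw [← mul_assoc, ((Commute.refl x).zpow_left i₁).eq]
  have hAtop : A = ⊤ := by
    refine Subgroup.index_eq_one.1 (by_contra fun hne => ?_)
    obtain ⟨p, hp, hdvd⟩ := Nat.exists_prime_and_dvd hne
    haveI := Fact.mk hp
    obtain ⟨P⟩ : Nonempty (Sylow p G) := inferInstance
    refine P.not_dvd_index (hdvd.trans (Subgroup.index_dvd_of_le fun x hx => hpp p hp x ?_))
    obtain ⟨k, hk⟩ := IsPGroup.iff_orderOf.1 P.isPGroup' ⟨x, hx⟩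
    exact ⟨k, by rw [← hk, Subgroup.orderOf_mk]⟩
  subst hAtop
  have hcomm : ∀ a b : G, a * b = b * a := fun a b => hab a (Subgroup.mem_top a) b (Subgroup.mem_top b)
  letI : CommGroup G := { ‹Group G› with mul_comm := hcomm }
  obtain ⟨x, hx⟩ := Monoid.exists_orderOf_eq_exponent
    (G := G) (Monoid.ExponentExists.of_finite)
  refine ⟨⟨x, fun y => ?_⟩⟩
  have hd : orderOf y ∣ orderOf x := hx ▸ Monoid.order_dvd_exponent y
  have hord : orderOf (x ^ (orderOf x / orderOf y)) = orderOf y :=
    orderOf_pow_orderOf_div (orderOf_pos x).ne' hd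
  obtain ⟨g, hg⟩ := hB (Subgroup.zpowers (x ^ (orderOf x / orderOf y))) (Subgroup.zpowers y)
    inferInstance inferInstance (by rw [Nat.card_zpowers, Nat.card_zpowers, hord])
  obtain ⟨z, hz, hzy⟩ := hg.le (Subgroup.mem_zpowers y)
  simp [hcomm g z] at hzy
  rw [← hzy]
  exact Subgroup.zpowers_le.2 (Subgroup.npow_mem_zpowers x _) hz

end Cfsg.Agent.S3910
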