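import Cfsg.Statements.S3917
import Cfsg.Agent.Lib.Frobenius.FixedPointFree
-- import your own Cfsg.Agent.* helpers here

set_option autoImplicit false
open Cfsg

namespace Cfsg.Agent.S3917

/-- Say that a group has self-centralizing non-cyclic subgroups when every non-cyclic subgroup H satisfies C_G(H) ≤ H. A finite abelian group with self-centralizing non-cyclic subgroups is cyclic or elementary abelian of order p² for a prime p. -/
theorem result {G : Type*} [CommGroup G] [Finite G] (hX : (∀ H : Subgroup G, ¬ IsCyclic ↥H → Subgroup.centralizer (H : Set G) ≤ H)) :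
    IsCyclic G ∨ ∃ p : ℕ, p.Prime ∧ Nat.card G = p ^ 2 ∧ Monoid.exponent G = p := by
  classical
  by_cases hcyc : IsCyclic G
  · exact Or.inl hcyc
  right
  have htop : ∀ H : Subgroup G, ¬ IsCyclic ↥H → H = ⊤ := fun H hH =>
    top_le_iff.mp fun x _ => hX H hH (Subgroup.mem_centralizer_iff.mpr fun h _ => mul_comm h x)
  obtain ⟨p, hp, hker⟩ : ∃ p, p.Prime ∧ p < Nat.card (powMonoidHom p : G →* G).ker := by
    by_contra hne
    push Not at hne
    exact hcyc (Cfsg.Agent.Lib.Frobenius.isCyclic_of_forall_prime fun p hp => hne p hp)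
  have := Fact.mk hp
  have hK : (powMonoidHom p : G →* G).ker = ⊤ := by
    refine htop _ fun hc => ?_
    rw [← hc.exponent_eq_card] at hker
    have : Monoid.exponent (powMonoidHom p : G →* G).ker ∣ p :=
      Monoid.exponent_dvd_of_forall_pow_eq_one fun x => Subtype.ext x.2
    exact absurd (Nat.le_of_dvd hp.pos this) (not_le.mpr hker)
  have hpow : ∀ x : G, x ^ p = 1 := fun x => MonoidHom.mem_ker.mp (hK.symm ▸ Subgroup.mem_top x)
  have hnt : Nontrivial G := by
    by_contra h
    rw [not_nontrivial_iff_subsingleton] at h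
    exact hcyc inferInstance
  obtain ⟨x, hx⟩ := exists_ne (1 : G)
  have hox : orderOf x = p := orderOf_eq_prime (hpow x) hx
  obtain ⟨y, hy⟩ : ∃ y, y ∉ Subgroup.zpowers x := by
    by_contra h
    push Not at h
    exact hcyc ⟨x, h⟩
  have hoy : orderOf y = p := orderOf_eq_prime (hpow y) (fun h => hy (h ▸ Subgroup.one_mem _))
  have hexp : Monoid.exponent G = p := by
    refine ((Nat.dvd_prime hp).mp (Monoid.exponent_dvd_of_forall_pow_eq_one hpow)).resolve_left ?_
    intro h
    exact hx (by simpa [h] using Monoid.pow_exponent_eq_one x)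
  refine ⟨p, hp, ?_, hexp⟩
  have hnc : ¬ IsCyclic ↥(Subgroup.zpowers x ⊔ Subgroup.zpowers y) := by
    intro hc
    have h1 : Nat.card ↥(Subgroup.zpowers x ⊔ Subgroup.zpowers y) ∣ p := by
      rw [← hc.exponent_eq_card]
      exact Monoid.exponent_dvd_of_forall_pow_eq_one fun z => Subtype.ext (hpow z)
    apply hy
    rw [Subgroup.eq_of_le_of_card_ge (le_sup_left (a := Subgroup.zpowers x) (b := Subgroup.zpowers y))
      (by rw [Nat.card_zpowers, hox]; exact Nat.le_of_dvd hp.pos h1)]
    exact le_sup_right (a := Subgroup.zpowers x) (Subgroup.mem_zpowers y)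
  have hc : Subgroup.IsComplement' (Subgroup.zpowers x) (Subgroup.zpowers y) := by
    refine Subgroup.isComplement'_of_disjoint_and_mul_eq_univ ?_ ?_
    · rw [Subgroup.disjoint_def]
      intro z hzx hzy
      by_contra hz
      apply hy
      have h1 : Subgroup.zpowers z = Subgroup.zpowers y :=
        Subgroup.eq_of_le_of_card_ge (Subgroup.zpowers_le.mpr hzy)
          (by rw [Nat.card_zpowers, Nat.card_zpowers, hoy, orderOf_eq_prime (hpow z) hz])
      exact Subgroup.zpowers_le.mpr hzx (h1 ▸ Subgroup.mem_zpowers y)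
    · rw [← Subgroup.mul_normal, htop _ hnc, Subgroup.coe_top]
  rw [← hc.card_mul_card, Nat.card_zpowers, Nat.card_zpowers, hox, hoy, sq]

end Cfsg.Agent.S3917
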