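import Cfsg.Statements.S3918
import Cfsg.Agent.Lib.Frobenius.PGroupOdd
import Mathlib.GroupTheory.PGroup
-- import your own Cfsg.Agent.* helpers here

set_option autoImplicit false
open Cfsg

namespace Cfsg.Agent.S3918

/-- A nontrivial normal subgroup of a finite `p`-group meets the centre. -/
theorem inf_center_ne_bot_aux {X : Type*} [Group X] [Finite X] {p : ℕ} [Fact p.Prime]
    (hX : IsPGroup p X) (N : Subgroup X) [N.Normal] [Nontrivial N] :
    N ⊓ Subgroup.center X ≠ ⊥ := by
  intro hbot
  have hP : IsPGroup p (ConjAct X) := hX.of_equiv ConjAct.toConjAct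
  have hdvd : p ∣ Nat.card N := by
    obtain ⟨m, hm⟩ := IsPGroup.iff_card.1 (hX.to_subgroup N)
    rcases m with _ | m
    · exact absurd hm (Finite.one_lt_card (α := N)).ne'
    · exact hm ▸ dvd_pow_self p m.succ_ne_zero
  have h1 : (1 : N) ∈ MulAction.fixedPoints (ConjAct X) N := fun g => smul_one g
  obtain ⟨b, hb, hne⟩ := hP.exists_fixed_point_of_prime_dvd_card_of_fixed_point N hdvd h1
  refine hne (Subtype.ext ?_)
  have hmem : b.1 ∈ N ⊓ Subgroup.center X := ⟨b.2, Subgroup.mem_center_iff.2 fun g => by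
    have hfix : (ConjAct.toConjAct g • b).1 = b.1 := congrArg Subtype.val (hb (ConjAct.toConjAct g))
    rw [ConjAct.Subgroup.val_conj_smul, ConjAct.toConjAct_smul] at hfix
    exact mul_inv_eq_iff_eq_mul.1 hfix⟩
  rw [hbot, Subgroup.mem_bot] at hmem
  exact hmem.symm

/-- The order of an image in a quotient. -/
theorem card_map_mk_aux {X : Type*} [Group X] (E Z : Subgroup X) [Z.Normal] (h : Z ≤ E) :
    Nat.card (E.map (QuotientGroup.mk' Z)) * Nat.card Z = Nat.card E := by
  let f := (QuotientGroup.mk' Z).domRestrict E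
  rw [← f.ker.card_mul_index, Subgroup.index_ker]
  have hker : f.ker = Z.subgroupOf E := by
    ext x; exact QuotientGroup.eq_one_iff _
  have hrange : f.range = E.map (QuotientGroup.mk' Z) := MonoidHom.domRestrict_range E _
  rw [hker, hrange, Nat.card_congr (Subgroup.subgroupOfEquivOfLe h).toEquiv, mul_comm]


/-- Say that a group has self-centralizing non-cyclic subgroups when every non-cyclic subgroup H satisfies C_G(H) ≤ H. For an odd prime p, a finite non-abelian p-group has self-centralizing non-cyclic subgroups if and only if it has order p³. -/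
theorem result {G : Type*} [Group G] [Finite G] {p : ℕ} [Fact p.Prime] (hp : p ≠ 2) (hG : IsPGroup p G) (hna : ¬ IsMulCommutative G) :
    (∀ H : Subgroup G, ¬ IsCyclic ↥H → Subgroup.centralizer (H : Set G) ≤ H) ↔ Nat.card G = p ^ 3 := by
  haveI hpf : Fact p.Prime := inferInstance
  have hpp : p.Prime := hpf.out
  constructor
  · intro hsc
    have hnc : ¬ IsCyclic G := fun h => hna inferInstance
    obtain ⟨E, hEn, hE, hEc⟩ := Lib.Frobenius.PGroupOdd.exists_normal_elemAb hG hp hnc
    haveI := hEn
    have hEcomm : ∀ a ∈ E, ∀ b ∈ E, a * b = b * a := fun a ha b hb =>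
      congrArg Subtype.val (hE.1.is_comm.comm (⟨a, ha⟩ : E) ⟨b, hb⟩)
    have hEnc : ¬ IsCyclic E := fun hc => by
      obtain ⟨g, hg⟩ := hc.exists_ofOrder_eq_natCard
      have h1 : orderOf g ∣ p := orderOf_dvd_of_pow_eq_one (Subtype.ext (hE.2 g.1 g.2))
      rw [hg, hEc] at h1
      have := Nat.le_of_dvd hpp.pos h1
      have := hpp.two_le
      nlinarith
    have hCE := hsc E hEnc
    haveI : Nontrivial E := by
      rw [← Finite.one_lt_card_iff_nontrivial, hEc]
      exact Nat.one_lt_pow (by norm_num) hpp.one_lt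
    -- a central subgroup of order `p` inside `E`
    obtain ⟨z, hzE, hzZ, hzo⟩ : ∃ z ∈ E, z ∈ Subgroup.center G ∧ orderOf z = p := by
      have hne : E ⊓ Subgroup.center G ≠ ⊥ :=
        inf_center_ne_bot_aux hG E
      obtain ⟨z, hz, hz1⟩ := (Subgroup.bot_or_exists_ne_one _).resolve_left hne
      exact ⟨z, hz.1, hz.2, orderOf_eq_prime
        (hE.2 z hz.1) hz1⟩
    let Z := Subgroup.zpowers z
    have hZle : Z ≤ E := Subgroup.zpowers_le.2 hzE
    haveI : Z.Normal := ⟨fun x hx g => by
      have : x ∈ Subgroup.center G := Subgroup.zpowers_le.2 hzZ hx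
      rw [Subgroup.mem_center_iff.1 this g, mul_inv_cancel_right]; exact hx⟩
    have hZc : Nat.card Z = p := (Nat.card_zpowers z).trans hzo
    obtain ⟨e, heE, heZ⟩ : ∃ e ∈ E, e ∉ Z := by
      by_contra hne
      push Not at hne
      have := Subgroup.card_le_of_le (fun x hx => hne x hx : E ≤ Z)
      rw [hEc, hZc] at this
      nlinarith [hpp.two_le]
    -- `E / Z` is central in `G / Z`
    have hcomm : ∀ g : G, g * e * g⁻¹ * e⁻¹ ∈ Z := by
      let q := QuotientGroup.mk' Z
      let X : Subgroup (G ⧸ Z) := E.map q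
      have hX : Nat.card X = p := by
        have h2 := card_map_mk_aux E Z hZle
        rw [hEc, hZc, pow_two] at h2
        exact Nat.eq_of_mul_eq_mul_right hpp.pos h2
      haveI : Nontrivial X := by
        rw [← Finite.one_lt_card_iff_nontrivial, hX]; exact hpp.one_lt
      haveI : X.Normal := hEn.map q (QuotientGroup.mk'_surjective Z)
      have hne : X ⊓ Subgroup.center (G ⧸ Z) ≠ ⊥ :=
        inf_center_ne_bot_aux (hG.to_quotient Z) X
      have hXc : X ≤ Subgroup.center (G ⧸ Z) := by
        have hd : Nat.card ↥(X ⊓ Subgroup.center (G ⧸ Z)) ∣ p :=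
          hX ▸ Subgroup.card_dvd_of_le inf_le_left
        rcases hpp.eq_one_or_self_of_dvd _ hd with h1 | h1
        · exact absurd (Subgroup.card_eq_one.1 h1) hne
        · exact (Subgroup.eq_of_le_of_card_ge inf_le_left (hX.trans h1.symm).le) ▸ inf_le_right
      intro g
      have h1 := Subgroup.mem_center_iff.1 (hXc (Subgroup.mem_map_of_mem q heE)) (q g)
      rw [← QuotientGroup.eq_one_iff]
      show q (g * e * g⁻¹ * e⁻¹) = 1
      rw [map_mul, map_mul, map_mul, h1, mul_assoc (q e), ← map_mul q g g⁻¹, mul_inv_cancel,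
        map_one, mul_one, ← map_mul, mul_inv_cancel, map_one]
    let φ : G →* Z :=
      { toFun := fun g => ⟨_, hcomm g⟩
        map_one' := Subtype.ext (by simp)
        map_mul' := fun g h => Subtype.ext (by
          have hc : h * e * h⁻¹ * e⁻¹ ∈ Subgroup.center G :=
            Subgroup.zpowers_le.2 hzZ (hcomm h)
          show g * h * e * (g * h)⁻¹ * e⁻¹ = g * e * g⁻¹ * e⁻¹ * (h * e * h⁻¹ * e⁻¹)
          rw [Subgroup.mem_center_iff.1 hc (g * e * g⁻¹ * e⁻¹)]
          calc g * h * e * (g * h)⁻¹ * e⁻¹ = g * (h * e * h⁻¹ * e⁻¹) * (e * g⁻¹ * e⁻¹) := by group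
            _ = (h * e * h⁻¹ * e⁻¹) * g * (e * g⁻¹ * e⁻¹) := by
                rw [Subgroup.mem_center_iff.1 hc g]
            _ = _ := by group) }
    have hker : φ.ker ≤ E := by
      intro g hg
      have hg' : g * e = e * g := by
        have h1 : g * e * g⁻¹ * e⁻¹ = 1 := congrArg Subtype.val hg
        calc g * e = g * e * g⁻¹ * e⁻¹ * (e * g) := by group
          _ = e * g := by rw [h1, one_mul]
      apply hCE
      intro x hx
      -- `E` is generated by `Z` and `e`
      have hgen : (Z ⊔ Subgroup.zpowers e) = E := by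
        refine Subgroup.eq_of_le_of_card_ge (sup_le hZle (Subgroup.zpowers_le.2 heE)) ?_
        have hlt : Z < Z ⊔ Subgroup.zpowers e :=
          lt_of_le_of_ne le_sup_left fun h => heZ (h ▸ Subgroup.mem_sup_right (Subgroup.mem_zpowers e))
        have hdvd : Nat.card ↥(Z ⊔ Subgroup.zpowers e) ∣ p ^ 2 :=
          hEc ▸ Subgroup.card_dvd_of_le (sup_le hZle (Subgroup.zpowers_le.2 heE))
        obtain ⟨i, hi, hic⟩ := (Nat.dvd_prime_pow hpp).1 hdvd
        have h2 : p ^ 1 < p ^ i := by
          rw [pow_one, ← hic, ← hZc]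
          by_contra hle
          exact hlt.ne (Subgroup.eq_of_le_of_card_ge hlt.le (not_lt.1 hle))
        have h3 : 1 < i := (Nat.pow_lt_pow_iff_right hpp.one_lt).1 h2
        rw [hEc, hic]
        exact Nat.pow_le_pow_right hpp.pos h3
      have hxmem : x ∈ Subgroup.centralizer ({g} : Set G) := by
        have hle : Z ⊔ Subgroup.zpowers e ≤ Subgroup.centralizer ({g} : Set G) := by
          refine sup_le ?_ ?_ <;> rw [Subgroup.zpowers_le, Subgroup.mem_centralizer_singleton_iff]
          · exact (Subgroup.mem_center_iff.1 hzZ g).symm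
          · exact hg'.symm
        exact hle (hgen.symm ▸ hx)
      exact Subgroup.mem_centralizer_singleton_iff.1 hxmem
    have hub : Nat.card G ≤ p ^ 3 := by
      rw [← φ.ker.card_mul_index, Subgroup.index_ker, pow_succ]
      exact Nat.mul_le_mul (hEc ▸ Subgroup.card_le_of_le hker)
        (hZc ▸ Nat.card_le_card_of_injective _ φ.range.subtype_injective)
    obtain ⟨m, hm⟩ := IsPGroup.iff_card.1 hG
    have hm3 : m ≤ 3 := (Nat.pow_le_pow_iff_right hpp.one_lt).1 (hm ▸ hub)
    have hm2 : ¬ m ≤ 2 := fun hm2 => by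
      refine hna ⟨⟨fun a b => ?_⟩⟩
      have hall : ∀ x : G, x ∈ E := fun x => by
        have : E = ⊤ := Subgroup.eq_top_of_le_card _ (by
          rw [hEc, hm]; exact Nat.pow_le_pow_right hpp.pos hm2)
        rw [this]; trivial
      exact hEcomm a (hall a) b (hall b)
    rw [hm, show m = 3 by omega]
  · intro hcard H hHnc
    obtain ⟨i, hi, hiH⟩ := (Nat.dvd_prime_pow hpp).1 (hcard ▸ H.card_subgroup_dvd_card)
    have hi2 : 2 ≤ i := by
      by_contra hlt
      interval_cases i
      · rw [pow_zero] at hiH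
        haveI : Subsingleton H := (Nat.card_eq_one_iff_unique.1 hiH).1
        exact hHnc inferInstance
      · rw [pow_one] at hiH
        exact hHnc (isCyclic_of_prime_card hiH)
    intro x hx
    by_contra hxH
    have hi3 : i = 2 := by
      by_contra hne
      have : H = ⊤ := Subgroup.eq_top_of_card_eq _ (by rw [hiH, hcard, show i = 3 by omega])
      exact hxH (this ▸ Subgroup.mem_top x)
    subst hi3
    haveI : IsMulCommutative H :=
      ⟨⟨IsPGroup.commutative_of_card_eq_prime_sq (G := H) hiH⟩⟩
    -- `H` and `x` generate `G`, so `H` is central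
    have hlt : H < H ⊔ Subgroup.zpowers x :=
      lt_of_le_of_ne le_sup_left fun h => hxH (h ▸ Subgroup.mem_sup_right (Subgroup.mem_zpowers x))
    have hgen : H ⊔ Subgroup.zpowers x = ⊤ := by
      obtain ⟨j, hj, hjc⟩ := (Nat.dvd_prime_pow hpp).1
        (hcard ▸ (H ⊔ Subgroup.zpowers x).card_subgroup_dvd_card)
      refine Subgroup.eq_top_of_le_card _ ?_
      have h2 : p ^ 2 < p ^ j := by
        rw [← hjc, ← hiH]
        by_contra hle
        exact hlt.ne (Subgroup.eq_of_le_of_card_ge hlt.le (not_lt.1 hle))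
      rw [hcard, hjc]
      exact Nat.pow_le_pow_right hpp.pos ((Nat.pow_lt_pow_iff_right hpp.one_lt).1 h2)
    have hHc : H ≤ Subgroup.center G := by
      intro h hh
      rw [Subgroup.mem_center_iff]
      intro g
      have hle : H ⊔ Subgroup.zpowers x ≤ Subgroup.centralizer ({h} : Set G) := by
        refine sup_le ?_ ?_
        · intro y hy
          rw [Subgroup.mem_centralizer_singleton_iff]
          exact congrArg Subtype.val ((IsMulCommutative.is_comm).comm (⟨y, hy⟩ : H) ⟨h, hh⟩)
        · rw [Subgroup.zpowers_le, Subgroup.mem_centralizer_singleton_iff]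
          exact (hx h hh).symm
      exact Subgroup.mem_centralizer_singleton_iff.1 (hle (hgen ▸ Subgroup.mem_top g))
    have htop : Subgroup.center G = ⊤ := by
      refine top_le_iff.1 (hgen ▸ sup_le hHc ?_)
      rw [Subgroup.zpowers_le, Subgroup.mem_center_iff]
      intro g
      have hle : H ⊔ Subgroup.zpowers x ≤ Subgroup.centralizer ({x} : Set G) := by
        refine sup_le ?_ ?_
        · intro y hy
          rw [Subgroup.mem_centralizer_singleton_iff]
          exact hx y hy
        · rw [Subgroup.zpowers_le, Subgroup.mem_centralizer_singleton_iff]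
      exact Subgroup.mem_centralizer_singleton_iff.1 (hle (hgen ▸ Subgroup.mem_top g))
    exact hna ⟨⟨fun a b => Subgroup.mem_center_iff.1 (htop ▸ Subgroup.mem_top b) a⟩⟩

end Cfsg.Agent.S3918
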