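import Cfsg.Statements.S3919
import Cfsg.Agent.Lib.PGroups.MaximalClass
import Cfsg.Agent.Lib.PGroups.UniqueInvolution
-- import your own Cfsg.Agent.* helpers here

set_option autoImplicit false
open Cfsg

namespace Cfsg.Agent.S3919

/-- Say that a group has self-centralizing non-cyclic subgroups when every non-cyclic subgroup H satisfies C_G(H) ≤ H. A finite non-abelian 2-group G of order 2^n has self-centralizing non-cyclic subgroups if and only if G has nilpotency class n − 1 (that is, G is dihedral, semidihedral or generalized quaternion). -/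
theorem result {G : Type*} [Group G] [Finite G] (hna : ¬ IsMulCommutative G) (n : ℕ) (hG : Nat.card G = 2 ^ n) :
    (∀ H : Subgroup G, ¬ IsCyclic ↥H → Subgroup.centralizer (H : Set G) ≤ H) ↔ (⊤ : Subgroup G).lowerCentralSeries (n - 2) ≠ ⊥ := by
  haveI : Fact (Nat.Prime 2) := ⟨Nat.prime_two⟩
  have hp : IsPGroup 2 G := IsPGroup.of_card hG
  haveI := hp.isNilpotent
  have hle : Group.nilpotencyClass G + 1 ≤ n :=
    Lib.PGroups.nilpotencyClass_le_pred (p := 2) n hG hna
  have hn3 : 3 ≤ n := by
    have : ¬ Group.nilpotencyClass G ≤ 1 := fun h =>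
      hna (Group.IsNilpotent.nilpotencyClass_le_one_iff.mp h)
    omega
  have hiff : (⊤ : Subgroup G).lowerCentralSeries (n - 2) ≠ ⊥ ↔
      Group.nilpotencyClass G = n - 1 := by
    rw [Ne, Subgroup.lowerCentralSeries_eq_bot_iff_nilpotencyClass_le]
    omega
  rw [hiff]
  constructor
  · intro hsc
    suffices hA : ∃ A : Subgroup G, Nat.card A = 2 ^ 2 ∧ Subgroup.centralizer (A : Set G) = A by
      obtain ⟨A, hA, hC⟩ := hA
      exact Lib.PGroups.class_of_self_centralizing_sq (p := 2) n A hG hA hC
    by_cases hA : ∃ A : Subgroup G, Nat.card A = 2 ^ 2 ∧ ¬ IsCyclic A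
    · obtain ⟨A, hA, hAn⟩ := hA
      refine ⟨A, hA, le_antisymm (hsc A hAn) fun x hx y hy => ?_⟩
      exact congrArg Subtype.val
        (IsPGroup.commutative_of_card_eq_prime_sq (G := A) hA ⟨y, hy⟩ ⟨x, hx⟩)
    · push Not at hA
      -- there is a unique involution
      have hu : ∀ x y : G, orderOf x = 2 → orderOf y = 2 → y ∈ Subgroup.zpowers x := by
        haveI : Nontrivial G := by
          rw [← Finite.one_lt_card_iff_nontrivial, hG]
          exact Nat.one_lt_pow (by omega) (by norm_num)
        haveI := hp.center_nontrivial
        obtain ⟨k, hk⟩ := IsPGroup.iff_card.1 (hp.to_subgroup (Subgroup.center G))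
        have hk0 : k ≠ 0 := fun h => by
          rw [h, pow_zero] at hk
          exact (Finite.one_lt_card (α := Subgroup.center G)).ne' hk
        obtain ⟨z, hz⟩ := exists_prime_orderOf_dvd_card' (G := Subgroup.center G) 2
          (hk ▸ dvd_pow_self 2 hk0)
        have hz2 : orderOf (z : G) = 2 := by rw [Subgroup.orderOf_coe, hz]
        have key : ∀ y : G, orderOf y = 2 → y = (z : G) := by
          intro y hy
          by_contra hne
          have hcy : y * (z : G) = z * y := Subgroup.mem_center_iff.1 z.2 y
          let A := Subgroup.zpowers y ⊔ Subgroup.zpowers (z : G)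
          haveI : (Subgroup.zpowers (z : G)).Normal := ⟨fun a ha g => by
            have : a ∈ Subgroup.center G := Subgroup.zpowers_le.2 z.2 ha
            rw [Subgroup.mem_center_iff.1 this g, mul_inv_cancel_right]; exact ha⟩
          have hzy : (z : G) ∉ Subgroup.zpowers y := by
            intro h
            obtain ⟨i, hi⟩ := h
            rcases Int.even_or_odd i with ⟨j, rfl⟩ | ⟨j, rfl⟩
            · have : (z : G) = 1 := by
                rw [← hi]
                show y ^ (j + j) = 1
                rw [← two_mul, zpow_mul, zpow_two, ← pow_two, ← hy, pow_orderOf_eq_one, one_zpow]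
              rw [this, orderOf_one] at hz2
              exact absurd hz2 (by norm_num)
            · refine hne ?_
              rw [← hi]
              show y = y ^ (2 * j + 1)
              rw [zpow_add_one, zpow_mul, zpow_two, ← pow_two, ← hy, pow_orderOf_eq_one, one_zpow,
                one_mul]
          have hexp : ∀ a ∈ A, a ^ 2 = 1 := by
            intro a ha
            obtain ⟨u, ⟨i, rfl⟩, v, ⟨j, rfl⟩, rfl⟩ := Subgroup.mem_sup_of_normal_right.1 ha
            show (y ^ i * (z : G) ^ j) ^ 2 = 1
            rw [((show Commute y (z : G) from hcy).zpow_zpow i j).mul_pow,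
              ← zpow_natCast (y ^ i), ← zpow_natCast ((z : G) ^ j), ← zpow_mul, ← zpow_mul,
              mul_comm i, mul_comm j, zpow_mul, zpow_mul, zpow_natCast, zpow_natCast]
            nth_rewrite 1 [← hy]
            nth_rewrite 1 [← hz2]
            rw [pow_orderOf_eq_one, pow_orderOf_eq_one, one_zpow, one_zpow, one_mul]
          have hA4 : Nat.card A = 2 ^ 2 := by
            let S : Subgroup A := (Subgroup.zpowers (z : G)).subgroupOf A
            have h1 : Nat.card S = 2 := by
              rw [Nat.card_congr (Subgroup.subgroupOfEquivOfLe le_sup_right).toEquiv,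
                Nat.card_zpowers, hz2]
            have h2 : S.index = 2 := by
              rw [Subgroup.index_eq_two_iff']
              refine ⟨⟨y, Subgroup.mem_sup_left (Subgroup.mem_zpowers y)⟩, fun b => ?_⟩
              obtain ⟨u, ⟨i, rfl⟩, v, hv, hb⟩ := Subgroup.mem_sup_of_normal_right.1 b.2
              have hy2 : y * y = 1 := by rw [← pow_two, ← hy, pow_orderOf_eq_one]
              have hymem : y ∉ Subgroup.zpowers (z : G) := fun hh => by
                obtain ⟨i, hi⟩ := hh
                rcases Int.even_or_odd i with ⟨j, rfl⟩ | ⟨j, rfl⟩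
                · have : y = 1 := by
                    rw [← hi]
                    show (z : G) ^ (j + j) = 1
                    rw [← two_mul, zpow_mul, zpow_two, ← pow_two, ← hz2, pow_orderOf_eq_one,
                      one_zpow]
                  rw [this, orderOf_one] at hy
                  exact absurd hy (by norm_num)
                · refine hne ?_
                  rw [← hi]
                  show (z : G) ^ (2 * j + 1) = (z : G)
                  rw [zpow_add_one, zpow_mul, zpow_two, ← pow_two, ← hz2, pow_orderOf_eq_one,
                    one_zpow, one_mul]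
              show Xor (y * (b : G) ∈ Subgroup.zpowers (z : G)) ((b : G) ∈ Subgroup.zpowers (z : G))
              rw [← hb]
              rcases Int.even_or_odd i with ⟨j, rfl⟩ | ⟨j, rfl⟩
              · refine Or.inr ⟨?_, fun hh => hymem ?_⟩
                · show y ^ (j + j) * v ∈ _
                  rwa [← two_mul, zpow_mul, zpow_two, hy2, one_zpow, one_mul]
                · have : y * (y ^ (j + j) * v) * v⁻¹ ∈ Subgroup.zpowers (z : G) :=
                    mul_mem hh (inv_mem hv)
                  rwa [← two_mul, zpow_mul, zpow_two, hy2, one_zpow, one_mul,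
                    mul_inv_cancel_right] at this
              · refine Or.inl ⟨?_, fun hh => hymem ?_⟩
                · show y * (y ^ (2 * j + 1) * v) ∈ _
                  rwa [zpow_add_one, zpow_mul, zpow_two, hy2, one_zpow, one_mul, ← mul_assoc, hy2,
                    one_mul]
                · have : y ^ (2 * j + 1) * v * v⁻¹ ∈ Subgroup.zpowers (z : G) :=
                    mul_mem hh (inv_mem hv)
                  rwa [zpow_add_one, zpow_mul, zpow_two, hy2, one_zpow, one_mul,
                    mul_inv_cancel_right] at this
            rw [← S.card_mul_index, h1, h2]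
            norm_num
          haveI := hA A hA4
          obtain ⟨g, hg⟩ := IsCyclic.exists_ofOrder_eq_natCard (α := A)
          have h1 : orderOf g ∣ 2 := orderOf_dvd_of_pow_eq_one (Subtype.ext (hexp g.1 g.2))
          rw [hg, hA4] at h1
          exact absurd (Nat.le_of_dvd (by norm_num) h1) (by norm_num)
        intro x y hx hy
        rw [key y hy, ← key x hx]
        exact Subgroup.mem_zpowers x
      obtain hcyc | ⟨-, k, hk, ⟨e⟩⟩ := Lib.PGroups.isCyclic_or_quaternion hp hu
      · exact absurd (hcyc.isMulCommutative) hna
      let x : G := e.symm (QuaternionGroup.xa 0)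
      have hord : orderOf x = 4 :=
        (orderOf_injective e.symm.toMonoidHom e.symm.injective _).trans (QuaternionGroup.orderOf_xa 0)
      refine ⟨Subgroup.zpowers x, by rw [Nat.card_zpowers, hord]; norm_num,
        le_antisymm (fun y hy => ?_) fun y hy w hw => ?_⟩
      swap
      · obtain ⟨i, rfl⟩ := hy
        obtain ⟨j, rfl⟩ := hw
        exact (Commute.zpow_zpow_self x j i).eq
      have hc : x * y = y * x := hy x (Subgroup.mem_zpowers x)
      have hc' : QuaternionGroup.xa 0 * e y = e y * QuaternionGroup.xa 0 := by
        have := congrArg e hc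
        rwa [map_mul, map_mul, e.apply_symm_apply] at this
      have key : e y ∈ Subgroup.zpowers (QuaternionGroup.xa (0 : ZMod (2 * 2 ^ k))) := by
        have two_cases : ∀ i : ZMod (2 * 2 ^ k), i + i = 0 → i = 0 ∨ i = ((2 ^ k : ℕ) : ZMod _) := by
          intro i hi
          obtain ⟨v, hv, rfl⟩ : ∃ v : ℕ, v < 2 * 2 ^ k ∧ (v : ZMod (2 * 2 ^ k)) = i :=
            ⟨i.val, i.val_lt, ZMod.natCast_zmod_val i⟩
          rw [← Nat.cast_add, ZMod.natCast_eq_zero_iff, ← two_mul,
            Nat.mul_dvd_mul_iff_left (by norm_num)] at hi
          obtain ⟨c, rfl⟩ := hi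
          have : c < 2 := Nat.lt_of_mul_lt_mul_left (by rwa [mul_comm 2] at hv)
          interval_cases c <;> simp
        rcases hey : e y with i | i
        · rw [hey] at hc'
          simp only [QuaternionGroup.xa_mul_a, QuaternionGroup.a_mul_xa, QuaternionGroup.xa.injEq,
            zero_add, zero_sub] at hc'
          rcases two_cases i (by rw [eq_neg_iff_add_eq_zero] at hc'; exact hc') with rfl | rfl
          · rw [show QuaternionGroup.a (0 : ZMod (2 * 2 ^ k)) = 1 from rfl]; exact one_mem _
          · rw [← QuaternionGroup.xa_sq (0 : ZMod (2 * 2 ^ k))]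
            exact pow_mem (Subgroup.mem_zpowers _) 2
        · rw [hey] at hc'
          simp only [QuaternionGroup.xa_mul_xa, QuaternionGroup.a.injEq] at hc'
          rcases two_cases i (by linear_combination hc') with rfl | rfl
          · exact Subgroup.mem_zpowers _
          · refine ⟨3, ?_⟩
            show QuaternionGroup.xa (0 : ZMod (2 * 2 ^ k)) ^ (3 : ℤ) = _
            rw [show (3 : ℤ) = ((2 : ℕ) : ℤ) + 1 from rfl, zpow_add_one, zpow_natCast,
              QuaternionGroup.xa_sq, QuaternionGroup.a_mul_xa, zero_sub]
            congr 1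
            rw [neg_eq_iff_add_eq_zero, ← Nat.cast_add, ← two_mul, ZMod.natCast_self]
      obtain ⟨i, hi⟩ := key
      refine ⟨i, e.injective ?_⟩
      show e (x ^ i) = e y
      rw [map_zpow, e.apply_symm_apply]
      exact hi
  · intro hcl H hH x hx
    have hd : (commutator G).index = 4 :=
      (Lib.PGroups.index_commutator_of_class (p := 2) n (by omega) hG hcl).trans (by norm_num)
    obtain ⟨C, hCc, hCi⟩ := Lib.PGroups.exists_cyclic_index_two n hn3 hG hd
    obtain ⟨t, htH, htC⟩ : ∃ t ∈ H, t ∉ C := by
      by_contra hall
      push Not at hall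
      haveI := hCc
      exact hH ((Subgroup.subgroupOfEquivOfLe hall).isCyclic.mp inferInstance)
    have hfix := Lib.PGroups.card_fixed_eq_two C hCc.isMulCommutative hCi hd t htC
    have hHC : H ⊓ C ≠ ⊥ := by
      intro hbot
      refine hH ?_
      have hH2 : Nat.card H ≤ 2 := by
        haveI : C.Normal := Subgroup.normal_of_index_eq_two hCi
        have hinj : Function.Injective ((QuotientGroup.mk' C).comp H.subtype) := by
          rw [← MonoidHom.ker_eq_bot_iff, eq_bot_iff]
          intro a ha
          have hmem : a.1 ∈ H ⊓ C := ⟨a.2, (QuotientGroup.eq_one_iff _).1 ha⟩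
          rw [hbot, Subgroup.mem_bot] at hmem
          exact Subgroup.mem_bot.2 (Subtype.ext hmem)
        calc Nat.card H ≤ Nat.card (G ⧸ C) := Nat.card_le_card_of_injective _ hinj
          _ = 2 := by rw [← Subgroup.index_eq_card, hCi]
      have hpos : 0 < Nat.card H := Nat.card_pos
      rcases (by omega : Nat.card H = 1 ∨ Nat.card H = 2) with h1 | h1
      · haveI : Subsingleton H := (Nat.card_eq_one_iff_unique.1 h1).1
        infer_instance
      · exact isCyclic_of_prime_card h1
    have hle2 : C ⊓ Subgroup.centralizer ({t} : Set G) ≤ H := by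
      obtain ⟨w, hw, hw1⟩ := (Subgroup.bot_or_exists_ne_one _).resolve_left hHC
      obtain ⟨m, hm⟩ := IsPGroup.iff_card.1 (hp.to_subgroup (Subgroup.zpowers w))
      have hm0 : m ≠ 0 := fun h => by
        rw [h, pow_zero, Nat.card_zpowers, orderOf_eq_one_iff] at hm
        exact hw1 hm
      obtain ⟨⟨u, hu⟩, huo⟩ := exists_prime_orderOf_dvd_card' (G := Subgroup.zpowers w) 2
        (hm ▸ dvd_pow_self 2 hm0)
      rw [Subgroup.orderOf_mk] at huo
      intro v hv
      by_cases hv1 : v = 1
      · exact hv1 ▸ H.one_mem
      have hvo : orderOf v = 2 := by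
        refine orderOf_eq_prime ?_ hv1
        have := pow_card_eq_one' (x := (⟨v, hv⟩ : ↥(C ⊓ Subgroup.centralizer ({t} : Set G))))
        rw [hfix] at this
        exact congrArg Subtype.val this
      haveI := hCc
      have huC : u ∈ C := Subgroup.zpowers_le.2 hw.2 hu
      -- a cyclic group has one involution
      haveI : Fintype C := Fintype.ofFinite C
      classical
      have hcard := IsCyclic.card_orderOf_eq_totient (α := C) (d := 2) (by
        rw [← Nat.card_eq_fintype_card]
        have := orderOf_dvd_natCard (⟨v, hv.1⟩ : C)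
        rwa [Subgroup.orderOf_mk, hvo] at this)
      rw [Nat.totient_two, Finset.card_eq_one] at hcard
      obtain ⟨a, ha⟩ := hcard
      have h1 : (⟨v, hv.1⟩ : C) ∈ ({a} : Finset C) := by
        rw [← ha]; simp [Subgroup.orderOf_mk, hvo]
      have h2 : (⟨u, huC⟩ : C) ∈ ({a} : Finset C) := by
        rw [← ha]; simp [Subgroup.orderOf_mk, huo]
      rw [Finset.mem_singleton] at h1 h2
      have : v = u := congrArg Subtype.val (h1.trans h2.symm)
      rw [this]
      exact Subgroup.zpowers_le.2 hw.1 hu
    have hxt : x * t = t * x := (hx t htH).symm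
    by_cases hxC : x ∈ C
    · exact hle2 ⟨hxC, Subgroup.mem_centralizer_singleton_iff.2 hxt⟩
    · have hmem : x * t ∈ C ⊓ Subgroup.centralizer ({t} : Set G) := by
        refine ⟨(Subgroup.mul_mem_iff_of_index_two hCi).2 (iff_of_false hxC htC), ?_⟩
        show x * t ∈ Subgroup.centralizer ({t} : Set G)
        rw [Subgroup.mem_centralizer_singleton_iff]
        exact (congrArg (· * t) hxt).trans (mul_assoc t x t)
      have := H.mul_mem (hle2 hmem) (H.inv_mem htH)
      rwa [mul_inv_cancel_right] at this

end Cfsg.Agent.S3919
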