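import Cfsg.Statements.S3920
import Mathlib.GroupTheory.SpecificGroups.Dihedral
import Mathlib.GroupTheory.SpecificGroups.Cyclic
-- import your own Cfsg.Agent.* helpers here

set_option autoImplicit false
open Cfsg

namespace Cfsg.Agent.S3920

/-- Say that a group has self-centralizing non-cyclic subgroups when every non-cyclic subgroup H satisfies C_G(H) ≤ H. For n ≥ 3, the dihedral group of order 2n has self-centralizing non-cyclic subgroups if and only if n is odd or a power of 2. -/
theorem result (n : ℕ) (hn : 3 ≤ n) : (∀ H : Subgroup (DihedralGroup n), ¬ IsCyclic ↥H → Subgroup.centralizer (H : Set (DihedralGroup n)) ≤ H) ↔ (Odd n ∨ ∃ k : ℕ, n = 2 ^ k) := by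
  have : NeZero n := ⟨by omega⟩
  have htwo : ∀ a : ZMod n, a + a = 0 → a = 0 ∨ (a.val + a.val = n) := by
    intro a ha
    rcases eq_or_ne a 0 with h0 | h0
    · exact Or.inl h0
    right
    have h1 : ((a.val + a.val : ℕ) : ZMod n) = 0 := by
      rw [Nat.cast_add, ZMod.natCast_zmod_val]; exact ha
    obtain ⟨k, hk⟩ := (ZMod.natCast_eq_zero_iff _ n).mp h1
    have h2 := ZMod.val_lt a
    have h3 : a.val ≠ 0 := fun h => h0 ((ZMod.val_eq_zero a).mp h)
    rcases Nat.lt_or_ge k 2 with hk2 | hk2
    · rcases k with _ | _ | k <;> omega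
    · have : n * 2 ≤ n * k := Nat.mul_le_mul_left n hk2
      omega
  constructor
  · intro h
    by_contra hcon
    rw [not_or] at hcon
    obtain ⟨hodd, hpow⟩ := hcon
    obtain ⟨m, rfl⟩ : 2 ∣ n := even_iff_two_dvd.mp (Nat.not_odd_iff_even.mp hodd)
    obtain ⟨q, hq, hqd, hq2⟩ : ∃ q, q.Prime ∧ q ∣ 2 * m ∧ q ≠ 2 := by
      by_contra hc
      push Not at hc
      exact hpow ⟨_, Nat.eq_prime_pow_of_unique_prime_dvd (by omega) fun {d} hd hdd => hc d hd hdd⟩
    have hqm : q ∣ m := (hq.dvd_mul.mp hqd).resolve_left fun h2 =>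
      hq2 ((Nat.prime_dvd_prime_iff_eq hq Nat.prime_two).mp h2)
    obtain ⟨l, rfl⟩ := hqm
    have hl : 0 < l := Nat.pos_of_ne_zero fun h0 => by simp [h0] at hn
    let d := 2 * l
    let c : ZMod (2 * (q * l)) →+* ZMod d := ZMod.castHom ⟨q, by ring⟩ _
    let H : Subgroup (DihedralGroup (2 * (q * l))) :=
      { carrier := {x | match x with | .r i => c i = 0 | .sr i => c i = 0}
        one_mem' := by change c 0 = 0; simp
        mul_mem' := by
          rintro (a | a) (b | b) (ha : c a = 0) (hb : c b = 0) <;>
            simp [DihedralGroup.r_mul_r, DihedralGroup.r_mul_sr, DihedralGroup.sr_mul_r,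
              DihedralGroup.sr_mul_sr, ha, hb]
        inv_mem' := by
          rintro (a | a) (ha : c a = 0) <;> simp [DihedralGroup.inv_r, DihedralGroup.inv_sr, ha] }
    have hd0 : c (d : ℕ) = 0 := by rw [map_natCast, ZMod.natCast_self]
    have hH : ¬ IsCyclic H := by
      intro hc
      let _ := hc.commGroup
      have h1 := mul_comm (⟨DihedralGroup.r ((d : ℕ) : ZMod (2 * (q * l))), hd0⟩ : H)
        ⟨DihedralGroup.sr 0, show c 0 = 0 from map_zero c⟩
      have h2 := congrArg Subtype.val h1
      change DihedralGroup.r _ * DihedralGroup.sr 0 = DihedralGroup.sr 0 * DihedralGroup.r _ at h2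
      rw [DihedralGroup.r_mul_sr, DihedralGroup.sr_mul_r, DihedralGroup.sr.injEq] at h2
      have h3 : ((d + d : ℕ) : ZMod (2 * (q * l))) = 0 := by
        rw [Nat.cast_add]
        rw [zero_sub, zero_add] at h2
        exact eq_neg_iff_add_eq_zero.mp h2.symm
      have h4 := Nat.le_of_dvd (by omega) ((ZMod.natCast_eq_zero_iff _ _).mp h3)
      have : 3 ≤ q := by have := hq.two_le; omega
      have : 3 * l ≤ q * l := Nat.mul_le_mul_right l this
      omega
    have hz : DihedralGroup.r (((q * l : ℕ)) : ZMod (2 * (q * l))) ∈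
        Subgroup.centralizer (H : Set (DihedralGroup (2 * (q * l)))) := by
      refine Subgroup.mem_centralizer_iff.mpr ?_
      rintro (a | a) -
      · rw [DihedralGroup.r_mul_r, DihedralGroup.r_mul_r, add_comm]
      · rw [DihedralGroup.sr_mul_r, DihedralGroup.r_mul_sr, DihedralGroup.sr.injEq, sub_eq_add_neg]
        congr 1
        refine eq_neg_iff_add_eq_zero.mpr ?_
        rw [← Nat.cast_add, ← two_mul, ZMod.natCast_self]
    have h5 : c ((q * l : ℕ) : ZMod (2 * (q * l))) = 0 := h H hH hz
    rw [map_natCast, ZMod.natCast_eq_zero_iff] at h5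
    obtain ⟨t, ht⟩ := h5
    have h6 : q * l = l * (2 * t) := by rw [ht]; ring
    rw [mul_comm q l] at h6
    exact hq2 ((Nat.prime_dvd_prime_iff_eq Nat.prime_two hq).mp
      ⟨t, Nat.eq_of_mul_eq_mul_left hl h6⟩).symm
  · intro hn' H hH
    -- a reflection and every rotation of order 2
    obtain ⟨j, hj⟩ : ∃ j, DihedralGroup.sr j ∈ H := by
      by_contra hc
      push Not at hc
      apply hH
      have hle : H ≤ Subgroup.zpowers (DihedralGroup.r (1 : ZMod n)) := by
        rintro (a | a) ha
        · exact ⟨(a.val : ℤ), by simp⟩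
        · exact absurd ha (hc a)
      exact isCyclic_of_injective (Subgroup.inclusion hle) (Subgroup.inclusion_injective hle)
    have hrot : ∀ a : ZMod n, a + a = 0 → DihedralGroup.r a ∈ H := by
      intro a ha
      rcases htwo a ha with rfl | ha'
      · exact H.one_mem
      obtain ⟨k, rfl⟩ : ∃ k, n = 2 ^ k := hn'.resolve_left fun ho => by
        rw [← ha'] at ho
        exact Nat.not_even_iff_odd.mpr ho ⟨_, rfl⟩
      obtain ⟨b, hb, hb0⟩ : ∃ b, DihedralGroup.r b ∈ H ∧ b ≠ (0 : ZMod (2 ^ k)) := by
        by_contra hc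
        push Not at hc
        apply hH
        have hle : H ≤ Subgroup.zpowers (DihedralGroup.sr j) := by
          rintro (x | x) hx
          · rw [hc x hx]; exact one_mem _
          · have h1 := H.mul_mem hj hx
            rw [DihedralGroup.sr_mul_sr] at h1
            rw [sub_eq_zero.mp (hc _ h1)]
            exact Subgroup.mem_zpowers _
        exact isCyclic_of_injective (Subgroup.inclusion hle) (Subgroup.inclusion_injective hle)
      -- some multiple of `b` has order 2
      suffices ∀ i, ∀ b : ZMod (2 ^ k), 2 ^ i • b = 0 → b ≠ 0 → DihedralGroup.r b ∈ H →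
          DihedralGroup.r a ∈ H from this k b (by rw [nsmul_eq_mul, ZMod.natCast_self, zero_mul]) hb0 hb
      intro i
      induction i with
      | zero => intro b h1 h2; simp at h1; exact absurd h1 h2
      | succ i ih =>
        intro b h1 h2 h3
        by_cases hbb : b + b = 0
        · rcases htwo b hbb with h4 | h4
          · exact absurd h4 h2
          · rwa [show a = b from ZMod.val_injective _ (by omega)]
        · refine ih (b + b) ?_ hbb ?_
          · rw [← two_nsmul, ← mul_nsmul', ← pow_succ]; exact h1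
          · rw [← DihedralGroup.r_mul_r]; exact H.mul_mem h3 h3
    intro z hz
    have hc := Subgroup.mem_centralizer_iff.mp hz _ hj
    rcases z with a | a
    · rw [DihedralGroup.sr_mul_r, DihedralGroup.r_mul_sr, DihedralGroup.sr.injEq, sub_eq_add_neg,
        add_right_inj, eq_neg_iff_add_eq_zero] at hc
      exact hrot a hc
    · rw [DihedralGroup.sr_mul_sr, DihedralGroup.sr_mul_sr, DihedralGroup.r.injEq] at hc
      have h1 := hrot (a - j) (by
        calc a - j + (a - j) = (a - j) + (a - j) := rfl
          _ = (a - j) + (j - a) := by rw [hc]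
          _ = 0 := by ring)
      have h2 := H.mul_mem hj h1
      rwa [DihedralGroup.sr_mul_r, add_sub_cancel] at h2

end Cfsg.Agent.S3920
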