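import Cfsg.Statements.S3928
import Cfsg.Agent.Lib.Subnormality.InvolutoryBound
import Cfsg.Agent.S3927
import Cfsg.Agent.S3949
-- import your own Cfsg.Agent.* helpers here

set_option autoImplicit false
open Cfsg

namespace Cfsg.Agent.S3928

/-- There is a function f such that for every non-trivial finite group G and every automorphism α of G of order 2 with [G, α] = G (the elements g·α(g)⁻¹ generate G), the order of G is at most f(m), where m is the number of elements of odd order inverted by α. -/
theorem result : ∃ f : ℕ → ℕ, ∀ (G : Type) [Group G] [Finite G] [Nontrivial G] (α : MulAut G), orderOf α = 2 →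
    Subgroup.closure (Set.range (fun c : G => c * (α c)⁻¹)) = ⊤ →
      Nat.card G ≤ f (Nat.card {g : G // Odd (orderOf g) ∧ α g = g⁻¹}) := by
  choose B hB using Lib.Subnormality.InvolutoryBound.card_bounded.{0}
  refine ⟨B, fun G _ _ _ α hα hG => hB _ G α ⟨fun c => ?_, ?_⟩ le_rfl |>.trans_eq ?_⟩
  · change (α * α) c = c
    rw [← pow_two, ← hα, pow_orderOf_eq_one, MulAut.one_apply]
  · have hj : ∀ g : G, α g = g⁻¹ → ¬ 2 ^ Nat.card G ∣ orderOf g := fun g _ hd =>
      absurd ((Nat.le_of_dvd (orderOf_pos g) hd).trans
        (Nat.le_of_dvd Nat.card_pos (orderOf_dvd_natCard g)))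
        (not_le.mpr Nat.lt_two_pow_self)
    have h1 := S3927.result α hG (Nat.card G) Nat.card_pos
    rw [S3949.result α hα hG _ hj] at h1
    exact h1
  · rw [← Nat.card_coe_set_eq]; rfl

end Cfsg.Agent.S3928
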