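import Cfsg.Statements.S3930
import Cfsg.Agent.Lib.PrimeInvol7.Reduce
import Cfsg.Agent.Lib.PrimeInvol7.Example
-- import your own Cfsg.Agent.* helpers here

set_option autoImplicit false
open Cfsg

namespace Cfsg.Agent.S3930

/-- Call a finite group m-pyramidal when it has exactly m involutions and they form a single conjugacy class. Let p be an odd prime and k ≥ 1. Then every p^k-pyramidal finite group is solvable if and only if k is odd or p^k = 9. -/
theorem result (p k : ℕ) (hp : p.Prime) (hp2 : p ≠ 2) (hk : 1 ≤ k) :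
    (∀ (G : Type) [Group G] [Finite G], Nat.card {x : G // orderOf x = 2} = p ^ k →
      (∀ x y : G, orderOf x = 2 → orderOf y = 2 → ∃ g : G, g * x * g⁻¹ = y) → Group.IsSolvable G) ↔ (Odd k ∨ p ^ k = 9) := by
  haveI : Fact p.Prime := ⟨hp⟩
  constructor
  · intro h
    by_contra hno
    push Not at hno
    obtain ⟨hodd, h9⟩ := hno
    obtain ⟨j, rfl⟩ := Nat.not_odd_iff_even.1 hodd
    have hj : j ≠ 0 := by omega
    have hp3 : 3 ≤ p := by
      have := hp.two_le
      omega
    have h4 : 4 ≤ p ^ j := by
      rcases Nat.lt_or_ge j 2 with h1 | h1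
      · obtain rfl : j = 1 := by omega
        rw [pow_one]
        by_contra hlt
        exact h9 (by rw [show p = 3 by omega]; rfl)
      · calc 4 ≤ 3 ^ 2 := by norm_num
          _ ≤ p ^ 2 := Nat.pow_le_pow_left hp3 2
          _ ≤ p ^ j := Nat.pow_le_pow_right (by omega) h1
    obtain ⟨G, _, _, hcard, hcls, hns⟩ := Lib.PrimeInvol7.exists_nonsolvable p j hp2 hj h4
    exact hns (h G (by rw [hcard, two_mul]) hcls)
  · intro h G _ _ hcard hcls
    by_contra hns
    obtain ⟨he, h9⟩ := Lib.PrimeInvol7.key _ G rfl p k hp hp2 hns hcard hcls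
    exact h.elim (Nat.not_odd_iff_even.2 he) h9

end Cfsg.Agent.S3930
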