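import Cfsg.Statements.S3933
import Cfsg.Agent.Lib.Induced.Burnside
-- import your own Cfsg.Agent.* helpers here

set_option autoImplicit false
open Cfsg

namespace Cfsg.Agent.S3933

universe u

theorem card_eq_index {G : Type u} [Group G] [Finite G] {r : ℕ} [Fact r.Prime] (R : Sylow r G) :
    Nat.card (Sylow r G) = (Subgroup.normalizer ((R : Subgroup G) : Set G)).index :=
  R.card_eq_index_normalizer

/-- If the normalizers of two Sylow subgroups have prime power indices for different primes, then one contains the other Sylow subgroup. -/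
theorem sylow_le_normalizer {G : Type u} [Group G] [Finite G] {r s p t a b : ℕ} [Fact r.Prime]
    [Fact s.Prime] (hp : p.Prime) (ht : t.Prime) (hpt : p ≠ t) (hsp : s ≠ p) (hst : s ≠ t)
    (R : Sylow r G) (S : Sylow s G) (hR : Nat.card (Sylow r G) = p ^ a)
    (hS : Nat.card (Sylow s G) = t ^ b) :
    (S : Subgroup G) ≤ Subgroup.normalizer ((R : Subgroup G) : Set G) := by
  let H := Subgroup.normalizer ((R : Subgroup G) : Set G)
  let L := Subgroup.normalizer ((S : Subgroup G) : Set G)
  have hH : H.index = p ^ a := by rw [← hR, (card_eq_index R)]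
  have hL : L.index = t ^ b := by rw [← hS, (card_eq_index S)]
  have hidx : ¬ s ∣ (H ⊓ L).index := by
    intro hd
    have h1 : (H ⊓ L).index = H.relIndex L * L.index := by
      rw [← Subgroup.relIndex_mul_index (inf_le_right : H ⊓ L ≤ L), Subgroup.inf_relIndex_right]
    have h2 : (H ⊓ L).index = L.relIndex H * H.index := by
      rw [← Subgroup.relIndex_mul_index (inf_le_left : H ⊓ L ≤ H), Subgroup.inf_relIndex_left]
    have hco : H.index.Coprime L.index := by
      rw [hH, hL]; exact Nat.Coprime.pow a b ((Nat.coprime_primes hp ht).mpr hpt)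
    have h3 : H.index ∣ H.relIndex L :=
      hco.dvd_of_dvd_mul_right ⟨L.relIndex H, by rw [← h1, h2, mul_comm]⟩
    have h4 : H.relIndex L ≤ H.index := by
      rw [← Subgroup.relIndex_top_right H]
      exact Subgroup.relIndex_le_of_le_right le_top (by rw [Subgroup.relIndex_top_right]; exact H.index_ne_zero_of_finite)
    have h5 : H.relIndex L = H.index := le_antisymm h4
      (Nat.le_of_dvd (Nat.pos_of_ne_zero fun h0 => by
        rw [h0, zero_mul] at h1
        exact (H ⊓ L).index_ne_zero_of_finite h1) h3)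
    rw [h1, h5, hH, hL] at hd
    rcases (Fact.out : s.Prime).dvd_mul.mp hd with h | h
    · exact hsp ((Nat.prime_dvd_prime_iff_eq Fact.out hp).mp ((Fact.out : s.Prime).dvd_of_dvd_pow h))
    · exact hst ((Nat.prime_dvd_prime_iff_eq Fact.out ht).mp ((Fact.out : s.Prime).dvd_of_dvd_pow h))
  obtain ⟨T⟩ : Nonempty (Sylow s (H ⊓ L : Subgroup G)) := inferInstance
  let T' : Subgroup G := (T : Subgroup (H ⊓ L : Subgroup G)).map (H ⊓ L : Subgroup G).subtype
  have hT' : IsPGroup s T' := T.2.map _
  have hTi : ¬ s ∣ T'.index := by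
    rw [Subgroup.index_map_subtype, (Fact.out : s.Prime).dvd_mul]
    exact not_or_intro T.not_dvd_index hidx
  have hTHL : T' ≤ H ⊓ L := Subgroup.map_subtype_le _
  have hle : T' ≤ (S : Subgroup G) := by
    have h1 := hT'.inf_normalizer_sylow S
    rw [inf_eq_left.mpr (show T' ≤ Subgroup.normalizer (S : Set G) from hTHL.trans inf_le_right)] at h1
    exact inf_eq_left.mp h1.symm
  have heq : T' = (S : Subgroup G) := ((hT'.toSylow hTi).3 S.2 hle).symm
  exact heq ▸ hTHL.trans inf_le_left

/-- In a simple group the exceptional primes of two distinct primes agree, or point at each other. -/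
theorem exceptional {G : Type u} [Group G] [Finite G] [IsSimpleGroup G] {r s p t a b : ℕ}
    [Fact r.Prime] [Fact s.Prime] (hs : s ∣ Nat.card G) (hp : p.Prime) (ht : t.Prime)
    (hst : s ≠ t) (ha : 1 ≤ a) (hR : Nat.card (Sylow r G) = p ^ a)
    (hS : Nat.card (Sylow s G) = t ^ b) : p = t ∨ s = p := by
  by_contra hcon
  rw [not_or] at hcon
  obtain ⟨R⟩ : Nonempty (Sylow r G) := inferInstance
  obtain ⟨S⟩ : Nonempty (Sylow s G) := inferInstance
  have hle : Subgroup.normalClosure ((S : Subgroup G) : Set G) ≤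
      Subgroup.normalizer ((R : Subgroup G) : Set G) := by
    refine (Subgroup.closure_le _).mpr fun x hx => ?_
    obtain ⟨y, hy, hc⟩ := Group.mem_conjugatesOfSet_iff.mp hx
    obtain ⟨g, rfl⟩ := isConj_iff.mp hc
    exact sylow_le_normalizer hp ht hcon.1 hcon.2 hst R (g • S) hR hS ⟨y, hy, rfl⟩
  have hne : Subgroup.normalClosure ((S : Subgroup G) : Set G) ≠ ⊥ := by
    intro h
    have h1 := S.dvd_card_of_dvd_card hs
    have h2 : (S : Subgroup G) = ⊥ :=
      le_bot_iff.mp (h ▸ fun x hx => Subgroup.subset_normalClosure hx)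
    rw [h2, Subgroup.card_bot] at h1
    exact (Fact.out : s.Prime).not_dvd_one h1
  have htop := (Subgroup.Normal.eq_bot_or_eq_top (Subgroup.normalClosure_normal
    (s := ((S : Subgroup G) : Set G)))).resolve_left hne
  rw [htop, top_le_iff] at hle
  have h1 := (card_eq_index R)
  rw [hle, Subgroup.index_top, hR] at h1
  exact absurd h1 (Nat.one_lt_pow (by omega) hp.one_lt).ne'

theorem card_sylow_subgroup_dvd {G : Type u} [Group G] [Finite G] (N : Subgroup G) [N.Normal]
    (r : ℕ) [Fact r.Prime] : Nat.card (Sylow r N) ∣ Nat.card (Sylow r G) := by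
  obtain ⟨Q⟩ : Nonempty (Sylow r N) := inferInstance
  let Q' : Subgroup G := (Q : Subgroup N).map N.subtype
  obtain ⟨R, hR⟩ := (Q.2.map N.subtype).exists_le_sylow
  have hRN : (R : Subgroup G) ⊓ N = Q' := by
    refine le_antisymm (fun x hx => ⟨⟨x, hx.2⟩, ?_, rfl⟩) (le_inf hR (Subgroup.map_subtype_le _))
    exact (Q.3 (Q := (R : Subgroup G).subgroupOf N) R.2.comap_subtype fun y hy => hR ⟨y, hy, rfl⟩).le hx.1
  have hle : Subgroup.normalizer ((R : Subgroup G) : Set G) ≤
      Subgroup.normalizer (Q' : Set G) := by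
    intro g hg
    refine Subgroup.mem_normalizer_iff.mpr fun x => ?_
    rw [← hRN, Subgroup.mem_inf, Subgroup.mem_inf, Subgroup.Normal.mem_comm_iff ‹N.Normal›]
    rw [Subgroup.mem_normalizer_iff.mp hg x]
    simp [← mul_assoc]
  have h1 : Nat.card (Sylow r N) = (Subgroup.normalizer (Q' : Set G)).index := by
    rw [(card_eq_index Q)]
    have h2 : (Subgroup.normalizer ((Q : Subgroup N) : Set N)) =
        (Subgroup.normalizer (Q' : Set G)).subgroupOf N := by
      ext x
      rw [Subgroup.mem_subgroupOf, Subgroup.mem_normalizer_iff, Subgroup.mem_normalizer_iff]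
      constructor
      · intro hx y
        constructor
        · rintro ⟨z, hz, rfl⟩
          exact ⟨_, (hx z).mp hz, by simp⟩
        · rintro ⟨z, hz, hzy⟩
          refine ⟨x⁻¹ * z * x, (hx _).mpr ?_, ?_⟩
          · rwa [show x * (x⁻¹ * z * x) * x⁻¹ = z from by group]
          · rw [map_mul, map_mul, map_inv, hzy, Subgroup.coe_subtype]
            group
      · intro hx y
        have := hx (y : G)
        have hm : ∀ w : N, (w : G) ∈ Q' ↔ w ∈ (Q : Subgroup N) := fun w =>
          Subgroup.mem_map_iff_mem N.subtype_injective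
        rw [hm, show (x : G) * (y : G) * (x : G)⁻¹ = ((x * y * x⁻¹ : N) : G) from rfl, hm] at this
        exact this
    have h3 : Subgroup.normalizer (Q' : Set G) ⊔ N = ⊤ := Sylow.normalizer_sup_eq_top Q
    rw [h2]
    change Subgroup.relIndex _ N = _
    rw [← Subgroup.relIndex_top_right (Subgroup.normalizer (Q' : Set G)), ← h3]
    have h4 := Subgroup.relIndex_mul_relIndex ((Subgroup.normalizer (Q' : Set G)) ⊓ N)
      (Subgroup.normalizer (Q' : Set G)) (Subgroup.normalizer (Q' : Set G) ⊔ N) inf_le_left le_sup_left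
    have h5 := Subgroup.relIndex_mul_relIndex ((Subgroup.normalizer (Q' : Set G)) ⊓ N)
      N (Subgroup.normalizer (Q' : Set G) ⊔ N) inf_le_right le_sup_right
    rw [Subgroup.inf_relIndex_left] at h4
    rw [Subgroup.inf_relIndex_right, Subgroup.relIndex_sup_right] at h5
    rw [← h5, mul_comm (Subgroup.relIndex _ N)] at h4
    exact (Nat.eq_of_mul_eq_mul_left (Nat.pos_of_ne_zero Subgroup.index_ne_zero_of_finite) h4).symm
  rw [h1, (card_eq_index R)]
  exact Subgroup.index_dvd_of_le hle

theorem card_sylow_quotient_dvd {G : Type u} [Group G] [Finite G] (N : Subgroup G) [N.Normal]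
    (r : ℕ) [Fact r.Prime] : Nat.card (Sylow r (G ⧸ N)) ∣ Nat.card (Sylow r G) := by
  obtain ⟨R⟩ : Nonempty (Sylow r G) := inferInstance
  let f := QuotientGroup.mk' N
  have hf : Function.Surjective f := QuotientGroup.mk'_surjective N
  rw [(card_eq_index R), (card_eq_index (R.mapSurjective hf)),
    Sylow.coe_mapSurjective]
  exact (Subgroup.index_dvd_of_le (Subgroup.le_normalizer_map f)).trans
    (Subgroup.index_map_dvd _ hf)

/-- The induction. -/
theorem solvable_aux : ∀ (n : ℕ) (G : Type u) [Group G] [Finite G], Nat.card G ≤ n →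
    (∀ (r : ℕ) [Fact r.Prime], Nat.card (Sylow r G) = 1 ∨ IsPrimePow (Nat.card (Sylow r G))) →
    Group.IsSolvable G := by
  intro n
  induction n with
  | zero => intro G _ _ h; exact absurd h (not_le.mpr Nat.card_pos)
  | succ n ih =>
  intro G _ _ hn h
  classical
  have key : ∀ m k : ℕ, m ∣ k → (k = 1 ∨ IsPrimePow k) → m = 1 ∨ IsPrimePow m := by
    intro m k hd hk
    rcases hk with rfl | hk
    · exact Or.inl (Nat.dvd_one.mp hd)
    · by_cases hm : m = 1
      · exact Or.inl hm
      · exact Or.inr (hk.dvd hd hm)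
  by_cases hsimp : ∃ N : Subgroup G, N.Normal ∧ N ≠ ⊥ ∧ N ≠ ⊤
  · obtain ⟨N, hN, hb, ht⟩ := hsimp
    have hlt : Nat.card N < Nat.card G := lt_of_le_of_ne (Subgroup.card_le_card_group N)
      fun e => ht (Subgroup.eq_top_of_card_eq N e)
    have h1 := Subgroup.card_eq_card_quotient_mul_card_subgroup N
    have h2 : 2 ≤ Nat.card N := (Subgroup.one_lt_card_iff_ne_bot N).mpr hb
    have h3 : Nat.card (G ⧸ N) * 2 ≤ Nat.card G := h1 ▸ Nat.mul_le_mul_left _ h2
    have h4 : 0 < Nat.card (G ⧸ N) := Nat.card_pos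
    have hN1 : Group.IsSolvable N := ih N (by omega) fun r _ =>
      key _ _ (card_sylow_subgroup_dvd N r) (h r)
    have hN2 : Group.IsSolvable (G ⧸ N) := ih (G ⧸ N) (by omega) fun r _ =>
      key _ _ (card_sylow_quotient_dvd N r) (h r)
    exact solvable_of_ker_le_range N.subtype (QuotientGroup.mk' N) (by simp)
  rcases subsingleton_or_nontrivial G with hG | hG
  · infer_instance
  have : IsSimpleGroup G := ⟨fun N hN => or_iff_not_imp_left.mpr fun hb =>
    by_contra fun ht => hsimp ⟨N, hN, hb, ht⟩⟩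
  let π := (Nat.card G).primeFactors
  by_cases hex : ∃ r, ∃ _ : Fact r.Prime, r ∣ Nat.card G ∧ Nat.card (Sylow r G) = 1
  · obtain ⟨r, hr, hrd, hr1⟩ := hex
    obtain ⟨R⟩ : Nonempty (Sylow r G) := inferInstance
    have hR : (R : Subgroup G).Normal := by
      rw [← Subgroup.normalizer_eq_top_iff, ← Subgroup.index_eq_one, ← (card_eq_index R), hr1]
    rcases hR.eq_bot_or_eq_top with hb | ht
    · have h1 := R.dvd_card_of_dvd_card hrd
      rw [hb, Subgroup.card_bot] at h1
      exact absurd h1 hr.out.not_dvd_one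
    · have hRp : IsPGroup r (⊤ : Subgroup G) := ht ▸ R.2
      have := (hRp.of_equiv Subgroup.topEquiv).isNilpotent
      infer_instance
  have hdata : ∀ r ∈ π, ∃ p a, p ∈ π ∧ p.Prime ∧ p ≠ r ∧ 1 ≤ a ∧
      ∀ hr : r.Prime, haveI := Fact.mk hr; Nat.card (Sylow r G) = p ^ a := by
    intro r hr
    obtain ⟨hrp, hrd, -⟩ := Nat.mem_primeFactors.mp hr
    have := Fact.mk hrp
    rcases h r with h1 | h1
    · exact absurd ⟨r, this, hrd, h1⟩ hex
    obtain ⟨p, a, hp, ha, he⟩ := h1
    have hp' := hp.nat_prime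
    obtain ⟨R⟩ : Nonempty (Sylow r G) := inferInstance
    have hpd : p ∣ Nat.card G := (dvd_pow_self p (show a ≠ 0 by omega)).trans
      (by rw [he, card_eq_index R]; exact Subgroup.index_dvd_card _)
    refine ⟨p, a, Nat.mem_primeFactors.mpr ⟨hp', hpd, Nat.card_pos.ne'⟩, hp', ?_, ha, fun _ => he.symm⟩
    rintro rfl
    have h2 := not_dvd_card_sylow p G
    rw [← he] at h2
    exact h2 (dvd_pow_self p (by omega))
  choose! f e hf1 hf2 hf3 hf4 hf5 using hdata
  have hrel : ∀ r ∈ π, ∀ s ∈ π, r ≠ s → f r = f s ∨ s = f r := by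
    intro r hr s hs _
    obtain ⟨hrp, -, -⟩ := Nat.mem_primeFactors.mp hr
    obtain ⟨hsp, hsd, -⟩ := Nat.mem_primeFactors.mp hs
    have := Fact.mk hrp
    have := Fact.mk hsp
    exact exceptional hsd (hf2 r hr) (hf2 s hs) (hf3 s hs).symm (hf4 r hr) (hf5 r hr hrp) (hf5 s hs hsp)
  obtain ⟨r, hr⟩ : π.Nonempty := Nat.nonempty_primeFactors.mpr Finite.one_lt_card
  have hp := hf1 r hr
  have hfp : f (f r) = r := by
    rcases hrel (f r) hp r hr (hf3 r hr) with h1 | h1
    · exact absurd h1 (hf3 (f r) hp)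
    · exact h1.symm
  have hπ : π ⊆ {r, f r} := by
    intro s hs
    by_contra hns
    simp only [Finset.mem_insert, Finset.mem_singleton, not_or] at hns
    have h1 : f r = f s := (hrel r hr s hs (Ne.symm hns.1)).resolve_right hns.2
    rcases hrel (f r) hp s hs (Ne.symm hns.2) with h2 | h2
    · exact hf3 r hr (by rw [h1, ← h2, hfp])
    · exact hns.1 (by rw [h2, hfp])
  obtain ⟨hrp, -, -⟩ := Nat.mem_primeFactors.mp hr
  refine Lib.Induced.Burnside.isSolvable_of_card_eq r (f r) ((Nat.card G).factorization r)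
    ((Nat.card G).factorization (f r)) hrp (hf2 r hr) ?_
  have hsupp : (Nat.card G).factorization.support = {r, f r} :=
    (Nat.support_factorization _).trans (Finset.Subset.antisymm hπ
      (Finset.insert_subset hr (Finset.singleton_subset_iff.mpr hp)))
  conv_lhs => rw [← Nat.prod_factorization_pow_eq_self (n := Nat.card G) Nat.card_pos.ne']
  rw [Finsupp.prod, hsupp, Finset.prod_pair (hf3 r hr).symm]


/-- If for every prime r the number of Sylow r-subgroups of the finite group G is a prime power or 1, then G is solvable. -/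
theorem result {G : Type*} [Group G] [Finite G] (h : ∀ (r : ℕ) [Fact r.Prime], Nat.card (Sylow r G) = 1 ∨ IsPrimePow (Nat.card (Sylow r G))) :
    Group.IsSolvable G := by
  exact solvable_aux (Nat.card G) G le_rfl h

end Cfsg.Agent.S3933
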