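import Cfsg.Statements.S3937
import Cfsg.Agent.Lib.Cores.Basic
import Cfsg.Agent.Lib.Cores.Subnormal
import Cfsg.Agent.Lib.Coprime.Conjugacy

set_option autoImplicit false
set_option linter.style.haveILetI false
open Cfsg

namespace Cfsg.Agent.S3937

open scoped commutatorElement Pointwise

universe u

theorem subnormal_of_engel (n : ℕ) : ∀ (G : Type u) [Group G] [Finite G] (g : G), Nat.card G = n →
    (∀ x : G, ∃ m : ℕ, (fun a => ⁅a, g⁆)^[m] x = 1) → (Subgroup.zpowers g).IsSubnormal := by
  induction n using Nat.strong_induction_on with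
  | _ n ih =>
  intro G _ _ g hn h
  by_contra hnot
  have hprop : ∀ H : Subgroup G, H ≠ ⊤ → Subgroup.zpowers g ≤ H →
      ((Subgroup.zpowers g).subgroupOf H).IsSubnormal := by
    intro H hH hle
    have hg : g ∈ H := hle (Subgroup.mem_zpowers g)
    have h1 := ih _ (hn ▸ Lib.Cores.Subnormal.card_lt_of_ne_top hH) H ⟨g, hg⟩ rfl fun x => by
      obtain ⟨m, hm⟩ := h x
      refine ⟨m, Subtype.ext ?_⟩
      have key : ∀ k, (((fun a : H => ⁅a, ⟨g, hg⟩⁆)^[k] x : H) : G) = (fun a => ⁅a, g⁆)^[k] (x : G) := by
        intro k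
        induction k with
        | zero => rfl
        | succ k ihk =>
          rw [Function.iterate_succ_apply', Function.iterate_succ_apply', ← ihk]
          exact map_commutatorElement H.subtype _ _
      rw [key, hm]; rfl
    refine (congrArg Subgroup.IsSubnormal ?_).mp h1
    apply Subgroup.map_injective H.subtype_injective
    rw [Subgroup.map_subgroupOf_eq_of_le hle, MonoidHom.map_zpowers]
    rfl
  obtain ⟨M, hM, hAM, huniq⟩ := Lib.Cores.Subnormal.zipper hprop hnot
  have hNM : Subgroup.normalizer (M : Set G) = M := by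
    refine (hM.le_iff.1 Subgroup.le_normalizer).resolve_left fun ht => hnot ?_
    haveI := Subgroup.normalizer_eq_top_iff.1 ht
    exact Subgroup.IsSubnormal.trans hAM (hprop M hM.1 hAM) (Subgroup.Normal.isSubnormal ‹_›)
  refine hM.1 ((Subgroup.eq_top_iff' M).2 fun x => ?_)
  obtain ⟨m, hm⟩ := h x
  have key : ∀ k, (fun a => ⁅a, g⁆)^[k] x ∈ M → x ∈ M := by
    intro k
    induction k with
    | zero => exact id
    | succ k ihk =>
      intro hk
      rw [Function.iterate_succ_apply'] at hk
      refine ihk ?_
      obtain ⟨y, hy⟩ : ∃ y, y = (fun a => ⁅a, g⁆)^[k] x := ⟨_, rfl⟩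
      rw [← hy] at hk ⊢
      have hc : y * g * y⁻¹ ∈ M := by
        have := M.mul_mem hk (hAM (Subgroup.mem_zpowers g))
        simpa [commutatorElement_def] using this
      have hle : Subgroup.zpowers g ≤ MulAut.conj y⁻¹ • M := by
        refine Subgroup.zpowers_le.2 ?_
        rw [Subgroup.mem_pointwise_smul_iff_inv_smul_mem]
        simpa [MulAut.smul_def] using hc
      have hco : IsCoatom (MulAut.conj y⁻¹ • M) :=
        (OrderIso.isCoatom_iff (MulEquiv.mapSubgroup (MulAut.conj y⁻¹)) M).2 hM
      have h2 : y⁻¹ ∈ Subgroup.normalizer (M : Set G) :=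
        Lib.Coprime.mem_normalizer_of_conj_smul_eq (huniq _ hco hle)
      rw [hNM] at h2
      simpa using M.inv_mem h2
  exact key m (hm ▸ M.one_mem)


/-- Baer's characterization of the Fitting subgroup: in a finite group G, an element g lies in the Fitting subgroup if and only if g is a left Engel element, that is, for every x there is n with [x, g, g, …, g] = 1 (n entries g, [a, b] = aba⁻¹b⁻¹). -/
theorem result {G : Type*} [Group G] [Finite G] (g : G) :
    g ∈ Cfsg.fittingSubgroup G ↔ ∀ x : G, ∃ n : ℕ, (List.replicate n g).foldl (fun a b => a * b * a⁻¹ * b⁻¹) x = 1 := by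
  have hfold : ∀ (n : ℕ) (x : G), (List.replicate n g).foldl (fun a b => a * b * a⁻¹ * b⁻¹) x =
      (fun a => ⁅a, g⁆)^[n] x := by
    intro n
    induction n with
    | zero => intro x; rfl
    | succ n ih =>
      intro x
      rw [List.replicate_succ, List.foldl_cons, ih, Function.iterate_succ_apply, commutatorElement_def]
  simp only [hfold]
  constructor
  · intro hg x
    let F := Cfsg.fittingSubgroup G
    have hFn : F.Normal := inferInstance
    have h1 : ⁅x, g⁆ ∈ F := by
      rw [commutatorElement_def]
      exact F.mul_mem (hFn.conj_mem g hg x) (F.inv_mem hg)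
    haveI : Group.IsNilpotent F := Lib.Cores.fittingSubgroup_isNilpotent
    obtain ⟨m, hm⟩ := Subgroup.nilpotent_iff_lowerCentralSeries.1 (inferInstance : Group.IsNilpotent F)
    refine ⟨m + 1, ?_⟩
    have key : ∀ k, ∃ y : F, ((fun a => ⁅a, g⁆)^[k] ⁅x, g⁆) = (y : G) ∧
        y ∈ (⊤ : Subgroup F).lowerCentralSeries k := by
      intro k
      induction k with
      | zero => exact ⟨⟨_, h1⟩, rfl, Subgroup.mem_top _⟩
      | succ k ihk =>
        obtain ⟨y, hy, hyk⟩ := ihk
        refine ⟨⁅y, ⟨g, hg⟩⁆, ?_, ?_⟩
        · rw [Function.iterate_succ_apply', hy]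
          exact (map_commutatorElement F.subtype y ⟨g, hg⟩).symm
        · rw [Subgroup.lowerCentralSeries_succ]
          exact Subgroup.commutator_mem_commutator hyk (Subgroup.mem_top _)
    obtain ⟨y, hy, hym⟩ := key m
    rw [Function.iterate_succ_apply, hy]
    rw [hm, Subgroup.mem_bot] at hym
    rw [hym]; rfl
  · intro h
    haveI : IsMulCommutative (Subgroup.zpowers g) := inferInstance
    haveI : Group.IsNilpotent (Subgroup.zpowers g) := by
      open IsMulCommutative in exact CommGroup.isNilpotent
    exact Lib.Cores.IsSubnormal.le_fittingSubgroup (subnormal_of_engel _ G g rfl h) inferInstance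
      (Subgroup.mem_zpowers g)

end Cfsg.Agent.S3937
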