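import Cfsg.Statements.S3939
import Cfsg.Agent.Lib.Transfer.PResidual
import Cfsg.Agent.Lib.Transfer.Frobenius
import Cfsg.Agent.Lib.PGroups.Omega
import Cfsg.Agent.Lib.Cores.Basic
import Cfsg.Agent.Lib.Involutions.BaerSuzuki
-- import your own Cfsg.Agent.* helpers here

set_option autoImplicit false
open Cfsg

namespace Cfsg.Agent.S3939

open scoped commutatorElement

section Hyper

variable {G : Type*} [Group G] [Finite G]

theorem exists_stable : ∃ n, (⨆ i, Subgroup.upperCentralSeries G i) = Subgroup.upperCentralSeries G n := by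
  obtain ⟨Z, ⟨n, rfl⟩, hmax⟩ := Set.exists_max_image (Set.range (Subgroup.upperCentralSeries G))
    (fun H => Nat.card H) (Set.toFinite _) (Set.range_nonempty _)
  refine ⟨n, le_antisymm (iSup_le fun i => ?_) (le_iSup _ n)⟩
  rcases le_total i n with h | h
  · exact Subgroup.upperCentralSeries_mono G h
  · exact (Subgroup.eq_of_le_of_card_ge (Subgroup.upperCentralSeries_mono G h) (hmax _ ⟨i, rfl⟩)).ge

theorem inf_upperCentralSeries_le (H : Subgroup G) (i : ℕ) :
    ∀ x : H, (x : G) ∈ Subgroup.upperCentralSeries G i → x ∈ Subgroup.upperCentralSeries H i := by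
  induction i with
  | zero =>
    intro x hx
    rw [Subgroup.upperCentralSeries_zero, Subgroup.mem_bot] at hx ⊢
    exact Subtype.ext hx
  | succ i ih =>
    intro x hx
    rw [Subgroup.mem_upperCentralSeries_succ_iff] at hx ⊢
    exact fun y => ih _ (hx y)

theorem isNilpotent_closure_pair {g : G} {n : ℕ} (hg : g ∈ Subgroup.upperCentralSeries G n) (x : G) :
    Group.IsNilpotent (Subgroup.closure ({x, g} : Set G)) := by
  set H := Subgroup.closure ({x, g} : Set G) with hH
  let Z := Subgroup.upperCentralSeries H n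
  refine ⟨n + 1, eq_top_iff.mpr fun a _ => Subgroup.mem_upperCentralSeries_succ_iff.mpr fun b => ?_⟩
  have hgen : ∀ c : H, ∃ k : ℤ, (QuotientGroup.mk' Z c) =
      (QuotientGroup.mk' Z ⟨x, Subgroup.subset_closure (Or.inl rfl)⟩) ^ k := by
    rintro ⟨c, hc⟩
    let x' : H := ⟨x, Subgroup.subset_closure (Or.inl rfl)⟩
    suffices hle : H ≤ ((Subgroup.zpowers (QuotientGroup.mk' Z x')).comap
        (QuotientGroup.mk' Z)).map H.subtype by
      obtain ⟨d, hd, hdc⟩ := hle hc
      obtain rfl : d = ⟨c, hc⟩ := Subtype.ext hdc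
      obtain ⟨k, hk⟩ := Subgroup.mem_zpowers_iff.mp hd
      exact ⟨k, hk.symm⟩
    refine (Subgroup.closure_le _).mpr ?_
    rintro y (rfl | rfl)
    · exact ⟨x', Subgroup.mem_zpowers _, rfl⟩
    · have hyH : y ∈ H := Subgroup.subset_closure (Or.inr rfl)
      have hyZ : QuotientGroup.mk' Z ⟨y, hyH⟩ = 1 :=
        (QuotientGroup.eq_one_iff _).mpr (inf_upperCentralSeries_le H n ⟨y, hyH⟩ hg)
      refine ⟨⟨y, hyH⟩, ?_, rfl⟩
      change QuotientGroup.mk' Z ⟨y, hyH⟩ ∈ Subgroup.zpowers (QuotientGroup.mk' Z x')
      rw [hyZ]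
      exact one_mem _
  obtain ⟨k, hk⟩ := hgen a
  obtain ⟨l, hl⟩ := hgen b
  apply (QuotientGroup.eq_one_iff _).mp
  change QuotientGroup.mk' Z ⁅a, b⁆ = 1
  rw [map_commutatorElement, hk, hl, commutatorElement_eq_one_iff_mul_comm]
  exact ((Commute.refl _).zpow_zpow k l).eq

theorem pGroup_le_hyper {p : ℕ} [Fact p.Prime] {Q : Subgroup G} [Q.Normal] (hQ : IsPGroup p Q)
    (hc : Q ≤ Subgroup.centralizer (Cfsg.pResidual p G : Set G)) :
    Q ≤ ⨆ i, Subgroup.upperCentralSeries G i := by
  obtain ⟨n, hn⟩ := exists_stable (G := G)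
  rw [hn]
  by_contra hle
  set Z := Subgroup.upperCentralSeries G n
  let π := QuotientGroup.mk' Z
  obtain ⟨P⟩ : Nonempty (Sylow p G) := inferInstance
  let Pb := (P : Subgroup G).map π
  let Qb := (Q.map π).subgroupOf Pb
  have hQP : Q ≤ (P : Subgroup G) := hQ.le_sylow_of_normal P
  have hQbn : (Q.map π).Normal := Subgroup.Normal.map inferInstance π (QuotientGroup.mk'_surjective _)
  have hne : Qb ≠ ⊥ := by
    intro h
    apply hle
    intro q hq
    have hm : (⟨π q, Subgroup.mem_map_of_mem π (hQP hq)⟩ : Pb) ∈ Qb := Subgroup.mem_map_of_mem π hq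
    rw [h, Subgroup.mem_bot] at hm
    exact (QuotientGroup.eq_one_iff q).mp (congrArg Subtype.val hm)
  obtain ⟨⟨z, hz⟩, hz1⟩ := Subgroup.ne_bot_iff_exists_ne_one.mp
    (Lib.PGroups.normal_inf_center_ne_bot (P.2.map π) Qb hne)
  obtain ⟨q, hq, hqz⟩ := (hz.1 : (z : G ⧸ Z) ∈ Q.map π)
  have hq' : q ∈ Subgroup.upperCentralSeries G (n + 1) := by
    refine Subgroup.mem_upperCentralSeries_succ_iff.mpr fun y => (QuotientGroup.eq_one_iff _).mp ?_
    change π ⁅q, y⁆ = 1
    rw [map_commutatorElement, commutatorElement_eq_one_iff_mul_comm]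
    obtain ⟨a, ha, b, hb, rfl⟩ := Lib.Transfer.PResidual.exists_mul_sylow P y
    have h1 : Commute (π q) (π a) := (Subgroup.mem_centralizer_iff.mp (hc hq) a ha).symm |> fun h =>
      Commute.map h π
    have h2 : Commute (π q) (π b) := by
      rw [hqz]
      exact (congrArg Subtype.val (Subgroup.mem_center_iff.mp hz.2
        ⟨π b, Subgroup.mem_map_of_mem π hb⟩)).symm
    rw [map_mul]
    exact (h1.mul_right h2).eq
  have hqn : q ∈ Z := by
    have := le_iSup (Subgroup.upperCentralSeries G) (n + 1) hq'
    rwa [hn] at this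
  exact hz1 (Subtype.ext (Subtype.ext (hqz.symm.trans ((QuotientGroup.eq_one_iff q).mpr hqn))))

end Hyper


/-- In a finite group G the set of elements g such that the subgroup generated by g and x is nilpotent for every x ∈ G is exactly the hypercenter of G (the last term of the upper central series). -/
theorem result {G : Type*} [Group G] [Finite G] (g : G) :
    (∀ x : G, Group.IsNilpotent ↥(Subgroup.closure ({x, g} : Set G))) ↔ g ∈ ⨆ n : ℕ, Subgroup.upperCentralSeries G n := by
  constructor
  · intro h
    suffices ∀ n, ∀ g : G, orderOf g = n → (∀ x : G, Group.IsNilpotent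
        (Subgroup.closure ({x, g} : Set G))) → g ∈ ⨆ i, Subgroup.upperCentralSeries G i from
      this _ g rfl h
    clear h g
    intro n
    induction n using Nat.strong_induction_on with
    | _ n ih =>
    intro g hgn h
    rcases eq_or_ne g 1 with rfl | hg1
    · exact one_mem _
    obtain ⟨p, hp, hpd⟩ := Nat.exists_prime_and_dvd (fun he => hg1 (orderOf_eq_one_iff.mp he))
    have := Fact.mk hp
    have hsub : ∀ {a : G}, a ∈ Subgroup.zpowers g → ∀ x : G,
        Group.IsNilpotent (Subgroup.closure ({x, a} : Set G)) := by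
      intro a ha x
      have hle : Subgroup.closure ({x, a} : Set G) ≤ Subgroup.closure ({x, g} : Set G) := by
        refine (Subgroup.closure_le _).mpr ?_
        rintro y (rfl | rfl)
        · exact Subgroup.subset_closure (Or.inl rfl)
        · exact Subgroup.zpowers_le.mpr
            (Subgroup.subset_closure (show g ∈ ({x, g} : Set G) from Or.inr rfl)) ha
      exact Lib.Cores.isNilpotent_of_le hle (h x)
    obtain ⟨a, b, ha, hb, hab, -, ⟨k, hk⟩, hbp⟩ :=
      Lib.Transfer.PResidual.exists_pPart_mul_pPrimePart (p := p) g (isOfFinOrder_of_finite g)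
    rw [← hab]
    refine mul_mem ?_ (ih (orderOf b) ?_ b rfl (hsub hb))
    · -- the `p`-part
      have hcomm : ∀ x : G, ∀ y : G, y ∈ Subgroup.zpowers x → (orderOf y).Coprime p →
          y * a = a * y := by
        intro x y hy hyp
        have hn := hsub ha x
        have ham : a ∈ Subgroup.closure ({x, a} : Set G) := Subgroup.subset_closure (Or.inr rfl)
        have hym : y ∈ Subgroup.closure ({x, a} : Set G) :=
          Subgroup.zpowers_le.mpr
            (Subgroup.subset_closure (show x ∈ ({x, a} : Set G) from Or.inl rfl)) hy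
        have hc := Lib.Transfer.Frobenius.commute_of_coprime_of_isNilpotent
          (a := (⟨y, hym⟩ : Subgroup.closure ({x, a} : Set G))) (b := ⟨a, ham⟩) (by
            rw [Subgroup.orderOf_mk, Subgroup.orderOf_mk]
            exact (hyp.pow_right k).coprime_dvd_right (orderOf_dvd_of_pow_eq_one hk))
        exact congrArg Subtype.val hc
      have hac : a ∈ Subgroup.centralizer (Cfsg.pResidual p G : Set G) := by
        have hle : Cfsg.pResidual p G ≤ Subgroup.centralizer ({a} : Set G) :=
          Lib.Transfer.PResidual.pResidual_le_iff.mpr fun y hy =>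
            Subgroup.mem_centralizer_iff.mpr (by
              rintro w rfl
              exact (hcomm y y (Subgroup.mem_zpowers y) hy).symm)
        exact Subgroup.mem_centralizer_iff.mpr fun y hy =>
          (Subgroup.mem_centralizer_iff.mp (hle hy) a rfl).symm
      obtain ⟨N, hN, hNp, haN⟩ := Lib.Involutions.BaerSuzuki.baer_suzuki_elem (p := p) (x := a)
        (fun ⟨y, hy⟩ => by
          obtain ⟨i, rfl⟩ := Subgroup.mem_zpowers_iff.mp hy
          exact ⟨k, Subtype.ext (by
            change (a ^ i) ^ p ^ k = 1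
            rw [← zpow_natCast, ← zpow_mul, mul_comm, zpow_mul, zpow_natCast, hk, one_zpow])⟩)
        (fun x => by
          -- two conjugates generate a nilpotent group generated by `p`-elements
          set H := Subgroup.closure ({a, x * a * x⁻¹} : Set G) with hHdef
          have hle : H ≤ Subgroup.closure ({x, a} : Set G) := by
            refine (Subgroup.closure_le _).mpr ?_
            rintro y (rfl | rfl)
            · exact Subgroup.subset_closure (Or.inr rfl)
            · exact mul_mem (mul_mem (Subgroup.subset_closure (Or.inl rfl))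
                (Subgroup.subset_closure (Or.inr rfl))) (inv_mem (Subgroup.subset_closure (Or.inl rfl)))
          have hn : Group.IsNilpotent H := Lib.Cores.isNilpotent_of_le hle (hsub ha x)
          obtain ⟨S⟩ : Nonempty (Sylow p H) := inferInstance
          have hSn : (S : Subgroup H).Normal :=
            ((Group.isNilpotent_of_finite_tfae (G := H)).out 0 3 rfl rfl).mp hn p inferInstance S
          have hmem : ∀ y : G, ∀ hy : y ∈ H, y ^ p ^ k = 1 → (⟨y, hy⟩ : H) ∈ (S : Subgroup H) := by
            intro y hy hyk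
            have hz : IsPGroup p (Subgroup.zpowers (⟨y, hy⟩ : H)) := fun ⟨w, hw⟩ => by
              obtain ⟨i, rfl⟩ := Subgroup.mem_zpowers_iff.mp hw
              exact ⟨k, Subtype.ext (Subtype.ext (by
                change (y ^ i) ^ p ^ k = 1
                rw [← zpow_natCast, ← zpow_mul, mul_comm, zpow_mul, zpow_natCast, hyk, one_zpow]))⟩
            obtain ⟨T, hT⟩ := hz.exists_le_sylow
            have := Sylow.unique_of_normal S hSn
            rw [Subsingleton.elim T S] at hT
            exact hT (Subgroup.mem_zpowers _)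
          refine (S.2.map H.subtype).to_le ((Subgroup.closure_le _).mpr ?_)
          rintro y (rfl | rfl)
          · exact ⟨_, hmem _ (Subgroup.subset_closure (Or.inl rfl)) hk, rfl⟩
          · exact ⟨_, hmem _ (Subgroup.subset_closure (Or.inr rfl))
              (by rw [conj_pow, hk, mul_one, mul_inv_cancel]), rfl⟩)
      exact pGroup_le_hyper (Q := N ⊓ Subgroup.centralizer (Cfsg.pResidual p G : Set G))
        (hNp.to_le inf_le_left) inf_le_right ⟨haN, hac⟩
    · have hd : orderOf b ∣ orderOf g := orderOf_dvd_of_mem_zpowers hb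
      rw [← hgn]
      refine lt_of_le_of_ne (Nat.le_of_dvd (orderOf_pos g) hd) fun he => ?_
      rw [he] at hbp
      exact hp.one_lt.ne' (Nat.eq_one_of_dvd_coprimes hbp hpd dvd_rfl)
  · intro hg x
    obtain ⟨n, hn⟩ := exists_stable (G := G)
    rw [hn] at hg
    exact isNilpotent_closure_pair hg x

end Cfsg.Agent.S3939
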