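import Cfsg.Statements.S3941
import Mathlib.GroupTheory.SpecificGroups.Alternating.Simple
-- import your own Cfsg.Agent.* helpers here

set_option autoImplicit false
open Cfsg

namespace Cfsg.Agent.S3941

/-- Let n ≥ 5 and p an odd prime with p ≤ n, and suppose that every proper subgroup of the alternating group of degree n whose order is divisible by p has a normal Sylow p-subgroup. Then n = p. -/
theorem result (n p : ℕ) (hn : 5 ≤ n) [Fact p.Prime] (hp : p ≠ 2) (hpn : p ≤ n)
    (h : ∀ H : Subgroup ↥(alternatingGroup (Fin n)), H ≠ ⊤ → p ∣ Nat.card ↥H → Cfsg.IsPClosed p ↥H) : n = p := by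
  by_contra hne
  have hlt : p < n := lt_of_le_of_ne hpn (Ne.symm hne)
  have hp3 : 3 ≤ p := by have := (Fact.out : p.Prime).two_le; omega
  by_cases h6 : 6 ≤ n
  · let s : Finset (Fin n) := Finset.univ.erase ⟨0, by omega⟩
    have hs : Nat.card s = n - 1 := by
      simp [s]
    have : Nontrivial s := Finite.one_lt_card_iff_nontrivial.mp (by omega)
    have : Nontrivial (Fin n) := Fin.nontrivial_iff_two_le.mpr (by omega)
    have hA : 2 * Nat.card (alternatingGroup s) = (n - 1).factorial := by
      rw [two_mul_nat_card_alternatingGroup, Nat.card_perm, hs]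
    have hB : 2 * Nat.card (alternatingGroup (Fin n)) = n.factorial := by
      rw [two_mul_nat_card_alternatingGroup, Nat.card_perm, Nat.card_fin]
    let H := (alternatingGroup.ofSubtype (s := s)).range
    have hH : Nat.card H = Nat.card (alternatingGroup s) :=
      Nat.card_congr (MonoidHom.ofInjective alternatingGroup.ofSubtype_injective).toEquiv.symm
    have hHtop : H ≠ ⊤ := by
      intro he
      rw [he, Subgroup.card_top] at hH
      have := Nat.factorial_lt (show 0 < n - 1 by omega) |>.mpr (show n - 1 < n by omega)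
      omega
    have hpd : p ∣ Nat.card (alternatingGroup s) := by
      have h1 : p ∣ (n - 1).factorial := Nat.dvd_factorial (Fact.out : p.Prime).pos (by omega)
      rw [← hA] at h1
      exact ((Fact.out : p.Prime).dvd_mul.mp h1).resolve_left fun h2 =>
        hp ((Nat.prime_dvd_prime_iff_eq Fact.out Nat.prime_two).mp h2)
    have hcl := h H hHtop (hH ▸ hpd)
    have : IsSimpleGroup (alternatingGroup s) := alternatingGroup.isSimpleGroup (by omega)
    obtain ⟨P⟩ : Nonempty (Sylow p H) := inferInstance
    let e := MonoidHom.ofInjective (alternatingGroup.ofSubtype_injective (s := s))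
    let Q : Subgroup (alternatingGroup s) := (P : Subgroup H).comap e.toMonoidHom
    have hQ : Q.Normal := (hcl P).comap _
    rcases hQ.eq_bot_or_eq_top with hb | ht
    · have hPb : (P : Subgroup H) = ⊥ := by
        rw [← Subgroup.map_comap_eq_self_of_surjective (f := e.toMonoidHom) e.surjective
          (P : Subgroup H), show (P : Subgroup H).comap e.toMonoidHom = ⊥ from hb, Subgroup.map_bot]
      have := P.dvd_card_of_dvd_card (hH ▸ hpd)
      rw [hPb, Subgroup.card_bot] at this
      exact (Fact.out : p.Prime).not_dvd_one this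
    · have hPt : (P : Subgroup H) = ⊤ := by
        rw [← Subgroup.map_comap_eq_self_of_surjective (f := e.toMonoidHom) e.surjective
          (P : Subgroup H), show (P : Subgroup H).comap e.toMonoidHom = ⊤ from ht]
        exact Subgroup.map_top_of_surjective e.toMonoidHom e.surjective
      obtain ⟨k, hk⟩ := IsPGroup.iff_card.mp P.2
      rw [hPt, Subgroup.card_top, hH] at hk
      have h4 : 4 ∣ (n - 1).factorial :=
        dvd_trans (by decide) (Nat.factorial_dvd_factorial (show 4 ≤ n - 1 by omega))
      rw [← hA, hk] at h4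
      have h2 : 2 ∣ p ^ k := (Nat.mul_dvd_mul_iff_left (by omega : 0 < 2)).mp
        (show 2 * 2 ∣ 2 * p ^ k from h4)
      exact hp ((Nat.prime_dvd_prime_iff_eq Nat.prime_two Fact.out).mp
        (Nat.prime_two.dvd_of_dvd_pow h2)).symm
  obtain rfl : n = 5 := by omega
  obtain rfl : p = 3 := by
    rcases (show p = 3 ∨ p = 4 by omega) with h' | h'
    · exact h'
    · exact absurd (h' ▸ (Fact.out : p.Prime)) (by decide)
  let u : alternatingGroup (Fin 5) := ⟨Equiv.swap 0 1 * Equiv.swap 1 2, Equiv.Perm.mem_alternatingGroup.mpr (by decide)⟩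
  let v : alternatingGroup (Fin 5) := ⟨Equiv.swap 0 1 * Equiv.swap 1 3, Equiv.Perm.mem_alternatingGroup.mpr (by decide)⟩
  let H : Subgroup (alternatingGroup (Fin 5)) :=
    { carrier := {g | (g : Equiv.Perm (Fin 5)) 4 = 4}
      one_mem' := rfl
      mul_mem' := fun {a b} ha hb => by
        change (a : Equiv.Perm (Fin 5)) ((b : Equiv.Perm (Fin 5)) 4) = 4
        rw [show (b : Equiv.Perm (Fin 5)) 4 = 4 from hb]; exact ha
      inv_mem' := fun {a} ha => by
        change (a : Equiv.Perm (Fin 5))⁻¹ 4 = 4
        rw [Equiv.Perm.inv_eq_iff_eq]; exact ha.symm }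
  have hu : u ∈ H := by change (u : Equiv.Perm (Fin 5)) 4 = 4; decide
  have hv : v ∈ H := by change (v : Equiv.Perm (Fin 5)) 4 = 4; decide
  have hou : orderOf (⟨u, hu⟩ : H) = 3 := by
    have h3 : u ^ 3 = 1 := Subtype.ext (by decide)
    have h1 : (u : Equiv.Perm (Fin 5)) 0 ≠ 0 := by decide
    exact orderOf_eq_prime (Subtype.ext h3) (fun he => h1 (by
      rw [show u = 1 from congrArg Subtype.val he]; rfl))
  have hov : orderOf (⟨v, hv⟩ : H) = 3 := by
    have h3 : v ^ 3 = 1 := Subtype.ext (by decide)
    have h1 : (v : Equiv.Perm (Fin 5)) 0 ≠ 0 := by decide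
    exact orderOf_eq_prime (Subtype.ext h3) (fun he => h1 (by
      rw [show v = 1 from congrArg Subtype.val he]; rfl))
  have hHtop : H ≠ ⊤ := by
    intro he
    let g : alternatingGroup (Fin 5) := ⟨Equiv.swap 0 1 * Equiv.swap 1 4, Equiv.Perm.mem_alternatingGroup.mpr (by decide)⟩
    have hg : (g : Equiv.Perm (Fin 5)) 4 = 4 := (he ▸ Subgroup.mem_top g : g ∈ H)
    revert hg; decide
  have hcl := h H hHtop (hou ▸ orderOf_dvd_natCard _)
  obtain ⟨P⟩ : Nonempty (Sylow 3 H) := inferInstance
  have := Sylow.unique_of_normal P (hcl P)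
  have hin : ∀ w : H, orderOf w = 3 → w ∈ (P : Subgroup H) := by
    intro w hw
    obtain ⟨T, hT⟩ := (IsPGroup.of_card (p := 3) (n := 1)
      (by rw [Nat.card_zpowers, hw, pow_one] : Nat.card (Subgroup.zpowers w) = 3 ^ 1)).exists_le_sylow
    rw [Subsingleton.elim T P] at hT
    exact hT (Subgroup.mem_zpowers w)
  obtain ⟨k, hk⟩ := P.2 ⟨_, mul_mem (hin _ hou) (hin _ hov)⟩
  have hk' : (u * v) ^ 3 ^ k = 1 := congrArg (fun w : (P : Subgroup H) => ((w : H) : alternatingGroup (Fin 5))) hk
  have h2 : (u * v) ^ 2 = 1 := Subtype.ext (by decide)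
  have hne' : u * v ≠ 1 := fun he => by
    have := congrArg (fun w : alternatingGroup (Fin 5) => (w : Equiv.Perm (Fin 5)) 0) he
    revert this; decide
  exact hne' (orderOf_eq_one_iff.mp (Nat.eq_one_of_dvd_coprimes
    ((by decide : Nat.Coprime 2 3).pow_right k) (orderOf_dvd_of_pow_eq_one h2)
    (orderOf_dvd_of_pow_eq_one hk')))

end Cfsg.Agent.S3941
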