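import Cfsg.Statements.S3950
import Cfsg.Agent.Lib.Multiplier.Central
import Cfsg.Agent.Lib.Multiplier.Sylow
import Mathlib.GroupTheory.FiniteAbelian.Basic
import Mathlib.Algebra.GCDMonoid.FinsetLemmas
-- import your own Cfsg.Agent.* helpers here

set_option autoImplicit false
open Cfsg

namespace Cfsg.Agent.S3950

/-- A finite abelian group has trivial Schur multiplier if and only if it is cyclic. -/
theorem result {G : Type*} [CommGroup G] [Finite G] : Cfsg.HasCyclicSchurMultiplier G 1 ↔ IsCyclic G := by
  constructor
  · intro h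
    obtain ⟨ι, _, n, hn, ⟨e⟩⟩ := CommGroup.equiv_prod_multiplicative_zmod_of_finite G
    classical
    have hcop : ∀ i j, i ≠ j → Nat.Coprime (n i) (n j) := by
      intro i j hij
      by_contra hc
      obtain ⟨p, hp, hpi, hpj⟩ := Nat.Prime.not_coprime_iff_dvd.1 hc
      haveI : Fact p.Prime := ⟨hp⟩
      let a : G →* Multiplicative (ZMod p) :=
        (AddMonoidHom.toMultiplicative (ZMod.castHom hpi (ZMod p)).toAddMonoidHom).comp
          ((Pi.evalMonoidHom _ i).comp e.toMonoidHom)
      let b : G →* Multiplicative (ZMod p) :=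
        (AddMonoidHom.toMultiplicative (ZMod.castHom hpj (ZMod p)).toAddMonoidHom).comp
          ((Pi.evalMonoidHom _ j).comp e.toMonoidHom)
      have := Lib.Multiplier.dependent_of_trivial h a b
        (e.symm (Pi.mulSingle i (Multiplicative.ofAdd 1)))
        (e.symm (Pi.mulSingle j (Multiplicative.ofAdd 1)))
      simp [a, b, Pi.mulSingle_apply, hij, hij.symm, ZMod.cast_one hpi, ZMod.cast_one hpj] at this
    haveI : ∀ i, NeZero (n i) := fun i => ⟨by have := hn i; omega⟩
    rw [IsCyclic.iff_exponent_eq_card, Monoid.exponent_eq_of_mulEquiv e,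
      Nat.card_congr e.toEquiv, Monoid.exponent_pi, Nat.card_pi]
    simp only [Monoid.exponent_multiplicative, ZMod.exponent, Nat.card_congr Multiplicative.toAdd,
      Nat.card_zmod]
    exact Finset.lcm_eq_prod (fun i _ j _ hij => hcop i j hij)
  · intro h
    refine Lib.Multiplier.hasCyclicSchurMultiplier_one_of_sylow_cyclic fun p hp S => ?_
    exact inferInstance

end Cfsg.Agent.S3950
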