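import Cfsg.Statements.S3951
import Cfsg.Agent.Lib.Multiplier.Product
import Cfsg.Agent.Lib.Multiplier.Sylow
import Mathlib.Data.ZMod.Basic
-- import your own Cfsg.Agent.* helpers here

set_option autoImplicit false
open Cfsg

namespace Cfsg.Agent.S3951

/-- For positive integers `m` and `n` with `n` dividing `m`, the Schur multiplier of the abelian group `ZMod m × ZMod n` (written multiplicatively) is cyclic of order `n`. In particular the elementary abelian group of order `p ^ 2` has multiplier of order `p`. -/
theorem result (m n : ℕ) [NeZero m] [NeZero n] (hnm : n ∣ m) : Cfsg.HasCyclicSchurMultiplier (Multiplicative (ZMod m × ZMod n)) n := by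
  haveI : Subsingleton (Multiplicative (ZMod 1)) := inferInstanceAs (Subsingleton (ZMod 1))
  have h1 : Cfsg.HasCyclicSchurMultiplier (Multiplicative (ZMod m)) 1 :=
    Lib.Multiplier.hasCyclicSchurMultiplier_one_of_sylow_cyclic fun p hp S => inferInstance
  have h2 : Cfsg.HasCyclicSchurMultiplier (Multiplicative (ZMod n)) 1 :=
    Lib.Multiplier.hasCyclicSchurMultiplier_one_of_sylow_cyclic fun p hp S => inferInstance
  let c : ZMod m →+ ZMod n →+ ZMod n :=
    AddMonoidHom.mul.comp (ZMod.castHom hnm (ZMod n)).toAddMonoidHom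
  let f : TensorProduct ℤ (ZMod m) (ZMod n) →+ ZMod n :=
    TensorProduct.liftAddHom c (fun r a b => by
      rw [map_zsmul, AddMonoidHom.smul_apply, map_zsmul])
  let g : ZMod n →+ TensorProduct ℤ (ZMod m) (ZMod n) :=
    (TensorProduct.mk ℤ (ZMod m) (ZMod n) 1).toAddMonoidHom
  have hgf : ∀ t, g (f t) = t := by
    intro t
    induction t using TensorProduct.induction_on with
    | zero => simp
    | tmul a b =>
      show (1 : ZMod m) ⊗ₜ[ℤ] (ZMod.castHom hnm (ZMod n) a * b) = a ⊗ₜ[ℤ] b
      obtain ⟨i, rfl⟩ := ZMod.intCast_surjective a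
      rw [map_intCast, ← zsmul_eq_mul, ← TensorProduct.smul_tmul, zsmul_eq_mul, mul_one]
    | add s t hs ht => rw [map_add, map_add, hs, ht]
  have hfg : ∀ k, f (g k) = k := fun k => by
    show ZMod.castHom hnm (ZMod n) 1 * k = k
    rw [map_one, one_mul]
  let e : TensorProduct ℤ (ZMod m) (ZMod n) ≃+ ZMod n :=
    { toFun := f, invFun := g, left_inv := hgf, right_inv := hfg, map_add' := map_add f }
  let a₁ : Additive (Abelianization (Multiplicative (ZMod m))) ≃+ ZMod m :=
    (MulEquiv.toAdditive Abelianization.equivOfComm.symm).trans (AddEquiv.additiveMultiplicative _)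
  let a₂ : Additive (Abelianization (Multiplicative (ZMod n))) ≃+ ZMod n :=
    (MulEquiv.toAdditive Abelianization.equivOfComm.symm).trans (AddEquiv.additiveMultiplicative _)
  let eT : Lib.Multiplier.AbTensor (Multiplicative (ZMod m)) (Multiplicative (ZMod n)) ≃+ ZMod n :=
    (TensorProduct.congr a₁.toIntLinearEquiv a₂.toIntLinearEquiv).toAddEquiv.trans e
  refine Lib.Multiplier.hasSchurMultiplier_congr
    (MulEquiv.prodMultiplicative (G := ZMod m) (H := ZMod n)).symm ?_
    (Lib.Multiplier.hasSchurMultiplier_prod h1 h2)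
  exact
    { toFun := fun p => AddEquiv.toMultiplicative eT p.2.2
      invFun := fun t => (1, 1, (AddEquiv.toMultiplicative eT).symm t)
      left_inv := fun p => Prod.ext (Subsingleton.elim _ _)
        (Prod.ext (Subsingleton.elim _ _) ((AddEquiv.toMultiplicative eT).symm_apply_apply _))
      right_inv := fun t => (AddEquiv.toMultiplicative eT).apply_symm_apply t
      map_mul' := fun p q => map_mul _ _ _ }

end Cfsg.Agent.S3951
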