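import Cfsg.Statements.S3954
import Cfsg.Agent.Lib.Multiplier.Restriction
-- import your own Cfsg.Agent.* helpers here

set_option autoImplicit false
open Cfsg

namespace Cfsg.Agent.S3954

/-- Let `U` be a subgroup of index `m` in the finite group `G`, let `A` be the Schur multiplier of `G` and `B` that of `U`. Then the subgroup of `m`-th powers of `A` is isomorphic to a subgroup of `B`. -/
theorem result {G : Type*} [Group G] [Finite G] (U : Subgroup G) {A B : Type*} [CommGroup A] [CommGroup B] (hA : Cfsg.HasSchurMultiplier G A) (hB : Cfsg.HasSchurMultiplier U B) : ∃ C : Subgroup B, Nonempty ((powMonoidHom U.index : A →* A).range ≃* C) := by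
  obtain ⟨eA⟩ := Lib.Multiplier.mulEquiv_of_hasSchurMultiplier hA
  obtain ⟨eB⟩ := Lib.Multiplier.mulEquiv_of_hasSchurMultiplier hB
  haveI : Finite B := Lib.Multiplier.finite_of_hasSchurMultiplier hB
  obtain ⟨ψ, h, hh⟩ := Lib.Multiplier.exists_restriction U
  let R := (powMonoidHom U.index : A →* A).range
  let f : A →* B := eB.symm.toMonoidHom.comp (ψ.comp eA.toMonoidHom)
  let g : B →* A := eA.symm.toMonoidHom.comp (h.comp eB.toMonoidHom)
  have hfg : ∀ a, g (f a) = a ^ U.index := fun a => by
    simp [f, g, hh, map_pow]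
  let k : f.range →* R := (g.comp f.range.subtype).codRestrict R (fun x => by
    obtain ⟨a, ha⟩ := x.2
    exact ⟨a, by rw [powMonoidHom_apply, ← hfg, ha]; rfl⟩)
  have hk : Function.Surjective k := by
    rintro ⟨_, a, rfl⟩
    exact ⟨⟨f a, a, rfl⟩, Subtype.ext (hfg a)⟩
  obtain ⟨i, hi⟩ := Lib.Multiplier.exists_injective_of_surjective k hk
  exact ⟨_, ⟨MonoidHom.ofInjective (f := f.range.subtype.comp i)
    (f.range.subtype_injective.comp hi)⟩⟩

end Cfsg.Agent.S3954
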