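import Cfsg.Statements.S3955
import Cfsg.Agent.Lib.Multiplier.Scalars
-- import your own Cfsg.Agent.* helpers here

set_option autoImplicit false
open Cfsg

namespace Cfsg.Agent.S3955

/-- Let `Q` be a finite group with Schur multiplier `A`, and let `σ : Γ →* Q` be a finite stem extension whose kernel is isomorphic to `A` (a Schur covering group of `Q`). Then every homomorphism `γ` from `Q` to the quotient of `GL n ℂ` by its centre lifts along `σ`: there is a homomorphism `ρ : Γ →* GL n ℂ` which, followed by the quotient map, equals `γ ∘ σ`. -/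
theorem result {Q : Type*} [Group Q] [Finite Q] {A : Type*} [CommGroup A] (hA : Cfsg.HasSchurMultiplier Q A) {Γ : Type*} [Group Γ] [Finite Γ] (σ : Γ →* Q) (hσ : Cfsg.IsStemExtension σ) (hk : Nonempty (σ.ker ≃* A)) (n : ℕ) (γ : Q →* (GL (Fin n) ℂ ⧸ Subgroup.center (GL (Fin n) ℂ))) : ∃ ρ : Γ →* GL (Fin n) ℂ, (QuotientGroup.mk' (Subgroup.center (GL (Fin n) ℂ))).comp ρ = γ.comp σ := by
  obtain ⟨f, hf⟩ := Lib.Multiplier.exists_lift Q σ hσ.1 hσ.2.1
  obtain ⟨e⟩ := Lib.Multiplier.mulEquiv_of_hasSchurMultiplier hA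
  obtain ⟨e'⟩ := hk
  have hmap := (Lib.Multiplier.lift_surjective hσ hf).2
  let r : Lib.Multiplier.schurM Q →* σ.ker :=
    (f.domRestrict (Lib.Multiplier.schurM Q)).codRestrict σ.ker
      (fun x => by rw [← hmap]; exact ⟨x, x.2, rfl⟩)
  have hr : Function.Surjective r := by
    rintro ⟨z, hz⟩
    obtain ⟨x, hx, hxz⟩ := hmap.symm ▸ hz
    exact ⟨⟨x, hx⟩, Subtype.ext hxz⟩
  have hri : Function.Injective r :=
    ((Nat.bijective_iff_surjective_and_card r).2
      ⟨hr, Nat.card_congr (e'.trans e).symm.toEquiv⟩).1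
  refine Lib.Multiplier.exists_linear_lift hσ hf ?_ n γ
  rw [eq_bot_iff]
  intro x hx
  have h1 : r ⟨x, hx.2⟩ = r 1 := by
    rw [map_one]; exact Subtype.ext hx.1
  exact Subgroup.mem_bot.2 (congrArg Subtype.val (hri h1))

end Cfsg.Agent.S3955
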