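import Cfsg.Statements.S3962
import Mathlib.GroupTheory.Abelianization.Defs
-- import your own Cfsg.Agent.* helpers here

set_option autoImplicit false
open Cfsg

namespace Cfsg.Agent.S3962

/-- Let `G` be a perfect group and `π : G →* Q` a surjective homomorphism whose kernel is central. Then `π` maps the centre of `G` onto the centre of `Q`. Taking `π` to be the map to `G ⧸ Z(G)` shows that the central quotient of a perfect group has trivial centre. -/
theorem result {G Q : Type*} [Group G] [Group Q] (hG : Group.IsPerfect G) (π : G →* Q) (hπ : Function.Surjective π) (hker : π.ker ≤ Subgroup.center G) : (Subgroup.center G).map π = Subgroup.center Q := by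
  refine le_antisymm ?_ ?_
  · rintro _ ⟨x, hx, rfl⟩
    rw [Subgroup.mem_center_iff]
    intro q
    obtain ⟨g, rfl⟩ := hπ q
    rw [← map_mul, ← map_mul, Subgroup.mem_center_iff.mp hx g]
  intro q hq
  obtain ⟨x, rfl⟩ := hπ q
  refine ⟨x, ?_, rfl⟩
  have hk : ∀ g, g * x * g⁻¹ * x⁻¹ ∈ π.ker := fun g => by
    rw [MonoidHom.mem_ker, map_mul, map_mul, map_mul, Subgroup.mem_center_iff.mp hq (π g),
      map_inv, map_inv, mul_inv_cancel_right, mul_inv_cancel]
  let f : G →* Subgroup.center G :=
    { toFun := fun g => ⟨g * x * g⁻¹ * x⁻¹, hker (hk g)⟩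
      map_one' := Subtype.ext (by simp)
      map_mul' := fun a b => Subtype.ext <| by
        have hb := Subgroup.mem_center_iff.mp (hker (hk b)) a
        change a * b * x * (a * b)⁻¹ * x⁻¹ = a * x * a⁻¹ * x⁻¹ * (b * x * b⁻¹ * x⁻¹)
        rw [← Subgroup.mem_center_iff.mp (hker (hk a)) (b * x * b⁻¹ * x⁻¹)]
        calc a * b * x * (a * b)⁻¹ * x⁻¹
            = a * (b * x * b⁻¹ * x⁻¹) * a⁻¹ * (a * x * a⁻¹ * x⁻¹) := by group
          _ = _ := by rw [hb, mul_inv_cancel_right] }
  refine Subgroup.mem_center_iff.mpr ?_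
  intro g
  let _ : CommGroup (Subgroup.center G) :=
    { (Subgroup.center G).toGroup with
      mul_comm := fun a b => Subtype.ext (Subgroup.mem_center_iff.mp b.2 a) }
  have hg : g ∈ f.ker := Abelianization.commutator_subset_ker f (by rw [hG.commutator_eq_top]; trivial)
  have h1 : g * x * g⁻¹ * x⁻¹ = 1 := congrArg Subtype.val (MonoidHom.mem_ker.mp hg)
  exact mul_inv_eq_iff_eq_mul.mp (mul_inv_eq_one.mp h1)

end Cfsg.Agent.S3962
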