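import Cfsg.Statements.S3964
import Cfsg.Agent.Lib.Fg6.InvertedExt

set_option autoImplicit false
open Cfsg

namespace Cfsg.Agent.S3964

/-- For odd `n` the dihedral group of order `2 n` has trivial Schur multiplier. -/
theorem result (n : ℕ) (hn : Odd n) : Cfsg.HasCyclicSchurMultiplier (DihedralGroup n) 1 := by
  haveI : NeZero n := ⟨hn.pos.ne'⟩
  refine Lib.Multiplier.hasCyclicSchurMultiplier_one_iff.2 ?_
  intro Δ _ _ τ hτ
  obtain ⟨c, hcn, hle, hk⟩ := Lib.Fg6.InvertedExt.ker_dihedral hτ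
  rw [eq_bot_iff]
  intro g hg
  obtain ⟨k, rfl⟩ := Subgroup.mem_zpowers_iff.1 (hle hg)
  have hd : (n : ℤ) ∣ k := by
    refine Int.dvd_of_dvd_mul_right_of_gcd_one (hk k hg) ?_
    rw [Int.gcd_def]; exact (Nat.coprime_two_right.2 hn)
  obtain ⟨j, rfl⟩ := hd
  rw [Subgroup.mem_bot, zpow_mul, zpow_natCast, hcn, one_zpow]

end Cfsg.Agent.S3964
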