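import Cfsg.Statements.S3966
import Mathlib.GroupTheory.SpecificGroups.Quaternion
import Mathlib.GroupTheory.SpecificGroups.Dihedral
import Mathlib.Tactic.LinearCombination

set_option autoImplicit false
open Cfsg

namespace Cfsg.Agent.S3966

open scoped commutatorElement

/-- Reduction modulo `n`. -/
def red (n : ℕ) : ZMod (2 * n) →+* ZMod n := ZMod.castHom (dvd_mul_left n 2) (ZMod n)

/-- The projection of the dicyclic group onto the dihedral group. -/
def proj (n : ℕ) : QuaternionGroup n →* DihedralGroup n where
  toFun g := match g with
    | .a i => .r (red n i)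
    | .xa i => .sr (red n i)
  map_one' := by
    show DihedralGroup.r (red n 0) = DihedralGroup.r 0
    rw [map_zero]
  map_mul' := by
    rintro (i | i) (j | j) <;> simp

theorem red_surjective (n : ℕ) : Function.Surjective (red n) := ZMod.ringHom_surjective _

theorem proj_surjective (n : ℕ) : Function.Surjective (proj n) := by
  rintro (i | i) <;> obtain ⟨j, rfl⟩ := red_surjective n i
  · exact ⟨.a j, rfl⟩
  · exact ⟨.xa j, rfl⟩

theorem neg_n (n : ℕ) : (-(n : ZMod (2 * n))) = n := by
  rw [neg_eq_iff_add_eq_zero, ← Nat.cast_add, ← two_mul, ZMod.natCast_self]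

theorem mem_ker_proj (n : ℕ) [NeZero n] (g : QuaternionGroup n) :
    g ∈ (proj n).ker ↔ g = 1 ∨ g = QuaternionGroup.a (n : ZMod (2 * n)) := by
  rw [MonoidHom.mem_ker]
  constructor
  · cases g with
    | xa i => intro h; simp [proj, DihedralGroup.one_def, -DihedralGroup.r_zero] at h
    | a i =>
      intro h
      replace h : red n i = 0 := by simpa [proj, DihedralGroup.one_def, -DihedralGroup.r_zero] using h
      obtain ⟨k, rfl⟩ := ZMod.natCast_zmod_surjective i
      rw [map_natCast, ZMod.natCast_eq_zero_iff] at h
      obtain ⟨j, rfl⟩ := h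
      obtain ⟨l, rfl | rfl⟩ := Nat.even_or_odd' j
      · left
        rw [QuaternionGroup.one_def, QuaternionGroup.a.injEq, ZMod.natCast_eq_zero_iff]
        exact ⟨l, by ring⟩
      · right
        have h0 : (2 : ZMod (2 * n)) * n = 0 := by
          exact_mod_cast ZMod.natCast_self (2 * n)
        congr 1
        push_cast
        linear_combination (l : ZMod (2 * n)) * h0
  · rintro (rfl | rfl)
    · exact map_one _
    · simp [proj, DihedralGroup.one_def, -DihedralGroup.r_zero]

/-- For even `n ≥ 2` the dicyclic group of order `4 n` is a stem extension of the dihedral group of order `2 n` with kernel of order `2`: there is a surjective homomorphism `QuaternionGroup n →* DihedralGroup n` whose kernel is central, lies in the commutator subgroup and has two elements. Together with the order of the multiplier this exhibits the dicyclic group as a Schur covering group of the dihedral group. -/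
theorem result (n : ℕ) [NeZero n] (hn : Even n) : ∃ σ : QuaternionGroup n →* DihedralGroup n, Cfsg.IsStemExtension σ ∧ Nat.card σ.ker = 2 := by
  refine ⟨proj n, ⟨proj_surjective n, ?_, ?_⟩, ?_⟩
  · intro g hg
    rcases (mem_ker_proj n g).1 hg with rfl | rfl
    · exact one_mem _
    · rw [Subgroup.mem_center_iff]
      intro h
      cases h with
      | a i => simp [add_comm]
      | xa i => simp [neg_n, sub_eq_add_neg]
  · intro g hg
    rcases (mem_ker_proj n g).1 hg with rfl | rfl
    · exact one_mem _
    · obtain ⟨m, hm⟩ := hn
      have h2 : ⁅(QuaternionGroup.a 1 : QuaternionGroup n), (QuaternionGroup.xa 0 : QuaternionGroup n)⁆ ^ m =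
          QuaternionGroup.a (n : ZMod (2 * n)) := by
        have : ⁅(QuaternionGroup.a 1 : QuaternionGroup n), (QuaternionGroup.xa 0 : QuaternionGroup n)⁆ =
            QuaternionGroup.a 1 ^ 2 := by
          rw [commutatorElement_def, mul_inv_eq_iff_eq_mul, mul_inv_eq_iff_eq_mul]
          rw [QuaternionGroup.a_one_pow]
          simp; ring
        rw [this, ← pow_mul, QuaternionGroup.a_one_pow]
        congr 1
        rw [hm]; push_cast; ring
      rw [← h2]
      exact pow_mem (Subgroup.commutator_mem_commutator (Subgroup.mem_top _) (Subgroup.mem_top _)) m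
  · rw [Nat.card_eq_two_iff]
    refine ⟨⟨1, one_mem _⟩, ⟨QuaternionGroup.a (n : ZMod (2 * n)), (mem_ker_proj n _).2 (Or.inr rfl)⟩, ?_, ?_⟩
    · intro h
      have h' := congrArg Subtype.val h
      simp only at h'
      rw [QuaternionGroup.one_def, QuaternionGroup.a.injEq, eq_comm,
        ZMod.natCast_eq_zero_iff] at h'
      have := Nat.le_of_dvd (NeZero.pos n) h'
      have := NeZero.pos n
      omega
    · rw [Set.eq_univ_iff_forall]
      rintro ⟨g, hg⟩
      rcases (mem_ker_proj n g).1 hg with rfl | rfl <;> simp

end Cfsg.Agent.S3966
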