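import Cfsg.Statements.S3965
import Cfsg.Agent.Lib.Fg6.InvertedExt
import Cfsg.Agent.S3966

set_option autoImplicit false
open Cfsg

namespace Cfsg.Agent.S3965

/-- For even `n ≥ 2` the dihedral group of order `2 n` has Schur multiplier cyclic of order `2`. -/
theorem result (n : ℕ) [NeZero n] (hn : Even n) : Cfsg.HasCyclicSchurMultiplier (DihedralGroup n) 2 := by
  obtain ⟨σ, hσ, hcard⟩ := Cfsg.Agent.S3966.result n hn
  haveI : IsCyclic σ.ker := isCyclic_of_prime_card (p := 2) hcard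
  refine Lib.Multiplier.hasSchurMultiplier_of_cover σ hσ
    (mulEquivOfCyclicCardEq (by rw [hcard]; simp)) ?_
  intro Δ _ _ τ hτ
  obtain ⟨c, hcn, hle, hk⟩ := Lib.Fg6.InvertedExt.ker_dihedral hτ
  obtain ⟨m, hm⟩ := hn
  have hle' : τ.ker ≤ Subgroup.zpowers (c ^ m) := by
    intro g hg
    obtain ⟨k, rfl⟩ := Subgroup.mem_zpowers_iff.1 (hle hg)
    have := hk k hg
    rw [hm, ← two_mul, Nat.cast_mul, Nat.cast_two] at this
    obtain ⟨j, rfl⟩ := Int.dvd_of_mul_dvd_mul_left (by norm_num) this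
    rw [zpow_mul, zpow_natCast]
    exact Subgroup.zpow_mem _ (Subgroup.mem_zpowers _) j
  have h2 : (c ^ m) ^ 2 = 1 := by rw [← pow_mul, mul_two, ← hm, hcn]
  calc Nat.card τ.ker ≤ Nat.card (Subgroup.zpowers (c ^ m)) := Subgroup.card_le_of_le hle'
    _ = orderOf (c ^ m) := Nat.card_zpowers _
    _ ≤ 2 := orderOf_le_of_pow_eq_one (by norm_num) h2
    _ = _ := by simp

end Cfsg.Agent.S3965
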