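import Cfsg.Statements.S3967
import Cfsg.Agent.Lib.Fg6.Metacyclic

set_option autoImplicit false
open Cfsg

namespace Cfsg.Agent.S3967

/-- Let `m, n ≥ 1`, `r ≥ 1` with `r ^ n ≡ 1 (mod m)`, and `l` a natural number; put `d = gcd(m, r - 1)`, `t = m l / d` and `h = d · gcd(m, 1 + r + ⋯ + r^(n-1)) / m`. The group presented by generators `a, b` and relations `a ^ m = 1`, `b ^ n = a ^ t`, `b a b⁻¹ = a ^ r` (a metacyclic group of order `m n`) has Schur multiplier cyclic of order `gcd(l, h)`. -/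
theorem result (m n r l : ℕ) (hm : 0 < m) (hn : 0 < n) (hr : 0 < r) (hrn : r ^ n ≡ 1 [MOD m]) : Cfsg.HasCyclicSchurMultiplier (PresentedGroup ({FreeGroup.of true ^ m, (FreeGroup.of false) ^ n * (FreeGroup.of true ^ (m * l / Nat.gcd m (r - 1)))⁻¹, FreeGroup.of false * FreeGroup.of true * (FreeGroup.of false)⁻¹ * (FreeGroup.of true ^ r)⁻¹} : Set (FreeGroup Bool))) (Nat.gcd l (Nat.gcd m (r - 1) * Nat.gcd m (∑ i ∈ Finset.range n, r ^ i) / m)) := by
  set d := Nat.gcd m (r - 1) with hd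
  set S := ∑ i ∈ Finset.range n, r ^ i with hSdef
  have hd0 : 0 < d := Nat.gcd_pos_of_pos_left _ hm
  obtain ⟨md, rd, hcop, hmd, hrd⟩ := Nat.exists_coprime m (r - 1)
  rw [← hd] at hmd hrd
  have hmd0 : 0 < md := Nat.pos_of_mul_pos_right (hmd ▸ hm)
  have hdvdS : md ∣ S := by
    suffices h0 : md ∣ rd * S from hcop.dvd_of_dvd_mul_left h0
    have h1 : (m : ℤ) ∣ ((r - 1 : ℕ) : ℤ) * (S : ℤ) := by
      have h2 : (m : ℤ) ∣ (r : ℤ) ^ n - 1 := by
        have := Nat.modEq_iff_dvd.1 hrn.symm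
        simpa using this
      have h3 : ((r - 1 : ℕ) : ℤ) * (S : ℤ) = (r : ℤ) ^ n - 1 := by
        rw [hSdef, Nat.cast_sum, mul_comm, Nat.cast_sub hr, Nat.cast_one, ← geom_sum_mul]
        simp
      rwa [h3]
    have h4 : m ∣ (r - 1) * S := by exact_mod_cast h1
    rw [hmd, hrd, mul_right_comm] at h4
    exact Nat.dvd_of_mul_dvd_mul_right hd0 h4
  obtain ⟨s, hs⟩ := hdvdS
  have hh : d * Nat.gcd m S / m = Nat.gcd d s := by
    rw [hs, hmd, Nat.gcd_mul_left, ← mul_assoc, mul_comm d md, Nat.mul_div_cancel_left _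
      (Nat.mul_pos hmd0 hd0)]
  rw [hh]
  set g := Nat.gcd l (Nat.gcd d s) with hg
  have hg0 : 0 < g := Nat.gcd_pos_of_pos_right _ (Nat.gcd_pos_of_pos_left _ hd0)
  have ht : m * l / d = md * l := by
    rw [hmd, mul_right_comm, Nat.mul_div_cancel _ hd0]
  rw [ht]
  have hrdZ : (r : ℤ) - 1 = (rd : ℤ) * d := by
    rw [← Nat.cast_mul, ← hrd, Nat.cast_sub hr, Nat.cast_one]
  have hmdZ : (m : ℤ) = (md : ℤ) * d := by rw [← Nat.cast_mul, ← hmd]
  obtain ⟨Δ, _, _, σ, hσ, ⟨e⟩, hord⟩ := Lib.Fg6.Metacyclic.exists_cover m n r g md rd d S s l hm hn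
    hg0 hmdZ hrdZ (Nat.Coprime.isCoprime hcop.symm) (by rw [hSdef]; simp) (by rw [hs]; simp)
    (Int.natCast_dvd_natCast.2 ((Nat.gcd_dvd_right l _).trans (Nat.gcd_dvd_left d s)))
    (Int.natCast_dvd_natCast.2 ((Nat.gcd_dvd_right l _).trans (Nat.gcd_dvd_right d s)))
    (Int.natCast_dvd_natCast.2 (Nat.gcd_dvd_left l _)) (md * l) (by simp)
  have : Finite (PresentedGroup (Lib.Fg6.Metacyclic.rels m n r (md * l))) :=
    Finite.of_surjective σ hσ.1
  refine @Lib.Multiplier.hasSchurMultiplier_of_cover _ _ this _ _ _ _ σ hσ e fun Θ _ _ τ hτ => ?_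
  have hcard : Nat.card (Multiplicative (ZMod g)) = g := by
    rw [Nat.card_congr Multiplicative.toAdd, Nat.card_zmod]
  refine (Nat.le_of_dvd hg0 ?_).trans_eq hcard.symm
  refine Lib.Fg6.Metacyclic.card_ker_dvd m n r (md * l) g md hn hm hord ?_ ?_ τ hτ
  · intro j hj
    rw [hrdZ, hmdZ, ← mul_assoc] at hj
    refine Int.dvd_of_dvd_mul_left_of_gcd_one (Int.dvd_of_mul_dvd_mul_right (by omega) hj) ?_
    simpa using hcop
  · intro N hN
    have h1 : N.natAbs ∣ md * d := by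
      have := Int.natAbs_dvd_natAbs.2 (hN _ (Or.inl rfl))
      rwa [Int.natAbs_natCast, hmd] at this
    have h2 : N.natAbs ∣ md * s := by
      have := Int.natAbs_dvd_natAbs.2 (hN _ (Or.inr (Or.inl rfl)))
      rwa [show (∑ q ∈ Finset.range n, (r : ℤ) ^ q) = (S : ℤ) by rw [hSdef]; simp,
        Int.natAbs_natCast, hs] at this
    have h3 : N.natAbs ∣ md * l := by
      have := Int.natAbs_dvd_natAbs.2 (hN _ (Or.inr (Or.inr rfl)))
      rwa [Int.natAbs_natCast] at this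
    rw [Int.natAbs_natCast, hg, ← Nat.gcd_mul_left, ← Nat.gcd_mul_left]
    exact Nat.dvd_gcd h3 (Nat.dvd_gcd h1 h2)

end Cfsg.Agent.S3967
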