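import Cfsg.Statements.S3968
import Cfsg.Agent.Lib.Characters.Basic
import Cfsg.Agent.Lib.Induced.Integral
import Mathlib.GroupTheory.Sylow

set_option autoImplicit false
open Cfsg

namespace Cfsg.Agent.S3968

/-- Let `p` be a prime and `G` a finite group with a faithful irreducible complex character of degree `p` (so `G` is an irreducible linear group in `p` variables). If `p ^ 2` divides the order of `G`, then the centre of `G` is nontrivial. -/
theorem result {G : Type*} [Group G] [Finite G] (p : ℕ) (hp : p.Prime) (χ : Cfsg.IrrCharacter G) (hdeg : χ.1 1 = p) (hfaith : ∀ g : G, χ.1 g = χ.1 1 → g = 1) (hdiv : p ^ 2 ∣ Nat.card G) : Subgroup.center G ≠ ⊥ := by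
  classical
  intro hcen
  haveI := Fintype.ofFinite G
  haveI := Fact.mk hp
  obtain ⟨m, ρ, hρ, hχ⟩ := Lib.Characters.Basic.exists_rep χ
  haveI := hρ
  have hfr : Module.finrank ℂ (Fin m → ℂ) = p := by
    have : (Module.finrank ℂ (Fin m → ℂ) : ℂ) = p := by rw [← Representation.char_one ρ, hχ, hdeg]
    exact_mod_cast this
  have hker : ∀ g, ρ g = 1 → g = 1 := fun g hg => hfaith g (by
    rw [← hχ]
    show LinearMap.trace ℂ _ (ρ g) = LinearMap.trace ℂ _ (ρ 1)
    rw [hg, ← map_one ρ])
  have hinj : ∀ a b, ρ a = ρ b → a = b := by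
    intro a b hab
    refine (eq_of_inv_mul_eq_one (hker _ ?_))
    rw [map_mul, ← hab, ← map_mul, inv_mul_cancel, map_one]
  obtain ⟨P⟩ : Nonempty (Sylow p G) := inferInstance
  have hvan : ∀ z ∈ (P : Subgroup G), (∀ y ∈ (P : Subgroup G), z * y = y * z) → z ≠ 1 →
      ρ.character z = 0 := by
    intro z hz hzc hz1
    rcases Lib.Induced.Integral.zero_or_norm_eq_of_coprime ρ z (by
      rw [hfr, hp.coprime_iff_not_dvd]
      exact fun hd => P.not_dvd_index (hd.trans (Subgroup.index_dvd_of_le fun y hy =>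
        Subgroup.mem_centralizer_singleton_iff.2 (hzc y hy).symm))) with h | h
    · exact h
    · obtain ⟨c, hc⟩ := Lib.Induced.Integral.scalar_of_norm_character_eq ρ h
      refine absurd ?_ hz1
      have : z ∈ Subgroup.center G := Subgroup.mem_center_iff.2 fun g => hinj _ _ (by
        rw [map_mul, map_mul, hc]
        ext v; simp)
      rwa [hcen, Subgroup.mem_bot] at this
  have hPcard : p ^ 2 ≤ Nat.card (P : Subgroup G) :=
    Nat.le_of_dvd Nat.card_pos (P.pow_dvd_card_of_pow_dvd_card hdiv)
  have hnc : ¬ ∀ a ∈ (P : Subgroup G), ∀ b ∈ (P : Subgroup G), a * b = b * a := by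
    intro hab
    obtain ⟨k, hk⟩ := Lib.Characters.Basic.exists_classInner_nat
      (Lib.Characters.Basic.isCharacter_comp (P : Subgroup G).subtype
        (Lib.Characters.Basic.isCharacter_character ρ))
      (Lib.Characters.Basic.isCharacter_one (G := (P : Subgroup G)))
    rw [Cfsg.classInner, Finset.sum_eq_single (1 : (P : Subgroup G))] at hk
    · simp only [Function.comp_apply, map_one, Representation.char_one, hfr, Pi.one_apply, mul_one] at hk
      have hne : (Nat.card (P : Subgroup G) : ℂ) ≠ 0 := Nat.cast_ne_zero.2 Nat.card_pos.ne'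
      rw [inv_mul_eq_iff_eq_mul₀ hne] at hk
      have hk' : p = Nat.card (P : Subgroup G) * k := by exact_mod_cast hk
      have h1 := Nat.le_of_dvd hp.pos ⟨k, hk'⟩
      have := hp.two_le
      nlinarith
    · intro y _ hy
      simp only [Function.comp_apply, Subgroup.coe_subtype]
      rw [hvan y y.2 (fun w hw => hab y y.2 w hw) (fun h => hy (Subtype.ext h)), zero_mul]
    · simp
  haveI : Nontrivial (P : Subgroup G) := Finite.one_lt_card_iff_nontrivial.1
    ((Nat.one_lt_pow two_ne_zero hp.one_lt).trans_le hPcard)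
  haveI := P.2.center_nontrivial
  obtain ⟨⟨⟨z, hzP⟩, hzc⟩, hzo⟩ := exists_prime_orderOf_dvd_card' (G := Subgroup.center (P : Subgroup G)) p (by
    obtain ⟨k, hk⟩ := (P.2.to_subgroup (Subgroup.center (P : Subgroup G))).exists_card_eq
    have h1 := Finite.one_lt_card (α := Subgroup.center (P : Subgroup G))
    rw [hk] at h1 ⊢
    exact dvd_pow_self p (fun h => by simp [h] at h1))
  rw [Subgroup.orderOf_mk, Subgroup.orderOf_mk] at hzo
  have hzc' : ∀ y ∈ (P : Subgroup G), z * y = y * z := fun y hy =>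
    (congrArg Subtype.val (Subgroup.mem_center_iff.1 hzc ⟨y, hy⟩)).symm
  obtain ⟨ι, hι, b, ζ, hζ, hcard, -⟩ :=
    Lib.Characters.Diag.exists_eigenbasis ρ z hp.ne_zero (by rw [← hzo, pow_orderOf_eq_one])
  rw [hfr] at hcard
  have hpow : ∀ (k : ℕ) (i : ι), ρ (z ^ k) (b i) = ζ i ^ k • b i := by
    intro k
    induction k with
    | zero => intro i; simp
    | succ k ih => intro i; rw [pow_succ, map_mul, Module.End.mul_apply, (hζ i).1, map_smul, ih, smul_smul, pow_succ, mul_comm]
  have hsum : ∀ k : ℕ, 0 < k → k < p → ∑ i, ζ i ^ k = 0 := by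
    intro k hk hkp
    rw [← Lib.Characters.Diag.trace_eq_sum_eigenvalues b (ρ (z ^ k)) (fun i => ζ i ^ k) (hpow k)]
    exact hvan _ (pow_mem hzP k) (fun y hy => (Commute.pow_left (hzc' y hy) k).eq)
      (fun h => by
        have := Nat.le_of_dvd hk (hzo ▸ orderOf_dvd_of_pow_eq_one h)
        omega)
  have hz0 : ∀ i, ζ i ≠ 0 := fun i h => by
    have := (hζ i).2; rw [h, zero_pow hp.ne_zero] at this; exact zero_ne_one this
  have hzinj : Function.Injective ζ := by
    intro i j hij
    -- count the indices with eigenvalue `ζ i`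
    have hgeo : ∀ l, ∑ k ∈ Finset.range p, (ζ l / ζ i) ^ k = if ζ l = ζ i then (p : ℂ) else 0 := by
      intro l
      split_ifs with h
      · rw [h, div_self (hz0 i)]; simp
      · rw [geom_sum_eq (fun h' => h ((div_eq_one_iff_eq (hz0 i)).1 h')), div_pow, (hζ l).2, (hζ i).2,
          div_one, sub_self, zero_div]
    have htot : ∑ l, ∑ k ∈ Finset.range p, (ζ l / ζ i) ^ k = (p : ℂ) := by
      rw [Finset.sum_comm, Finset.sum_eq_single 0]
      · simp [hcard]
      · intro k hk hk0
        simp only [div_pow, ← Finset.sum_div]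
        rw [hsum k (Nat.pos_of_ne_zero hk0) (Finset.mem_range.1 hk), zero_div]
      · simp [hp.ne_zero]
    rw [Finset.sum_congr rfl fun l _ => hgeo l, ← Finset.sum_filter, Finset.sum_const,
      nsmul_eq_mul] at htot
    have hc1 : ((Finset.univ.filter fun l => ζ l = ζ i).card : ℂ) = 1 :=
      mul_right_cancel₀ (Nat.cast_ne_zero.2 hp.ne_zero) (by rw [htot, one_mul])
    obtain ⟨w, hw⟩ := Finset.card_eq_one.1 (by exact_mod_cast hc1 :
      (Finset.univ.filter fun l => ζ l = ζ i).card = 1)
    have h1 : i ∈ Finset.univ.filter fun l => ζ l = ζ i := by simp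
    have h2 : j ∈ Finset.univ.filter fun l => ζ l = ζ i := by simp [hij]
    rw [hw, Finset.mem_singleton] at h1 h2
    rw [h1, h2]
  have hdiag : ∀ y ∈ (P : Subgroup G), ∀ i, ρ y (b i) = b.repr (ρ y (b i)) i • b i := by
    intro y hy i
    set v := ρ y (b i) with hv
    have heig : ρ z v = ζ i • v := by
      rw [hv, ← Module.End.mul_apply, ← map_mul, hzc' y hy, map_mul, Module.End.mul_apply,
        (hζ i).1, map_smul]
    have hrepr : ∀ l, l ≠ i → b.repr v l = 0 := by
      intro l hl
      have e1 : b.repr (ρ z v) l = ζ l * b.repr v l := by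
        conv_lhs => rw [← b.sum_repr v]
        simp only [map_sum, map_smul, (hζ _).1, smul_smul, Finsupp.finsetSum_apply,
          Finsupp.smul_apply, Module.Basis.repr_self, Finsupp.single_apply, smul_eq_mul, mul_ite,
          mul_one, mul_zero, Finset.sum_ite_eq', Finset.mem_univ, if_true]
        ring
      rw [heig, map_smul, Finsupp.smul_apply, smul_eq_mul] at e1
      have : (ζ i - ζ l) * b.repr v l = 0 := by rw [sub_mul, e1, sub_self]
      exact (mul_eq_zero.1 this).resolve_left (sub_ne_zero.2 fun h => hl (hzinj h).symm)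
    conv_lhs => rw [← b.sum_repr v]
    exact Finset.sum_eq_single i (fun l _ hl => by rw [hrepr l hl, zero_smul]) (by simp)
  refine hnc fun u hu w hw => hinj _ _ (b.ext fun i => ?_)
  obtain ⟨cw, hcw⟩ : ∃ c : ℂ, ρ w (b i) = c • b i := ⟨_, hdiag w hw i⟩
  obtain ⟨cu, hcu⟩ : ∃ c : ℂ, ρ u (b i) = c • b i := ⟨_, hdiag u hu i⟩
  rw [map_mul, map_mul, Module.End.mul_apply, Module.End.mul_apply, hcw, hcu, map_smul, map_smul,
    hcw, hcu, smul_smul, smul_smul, mul_comm]

end Cfsg.Agent.S3968
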