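import Cfsg.Statements.S3969
import Cfsg.Agent.Lib.Fg6.RankComplement
import Mathlib.GroupTheory.Transfer

set_option autoImplicit false
open Cfsg

namespace Cfsg.Agent.S3969

/-- Let `P` be an abelian Sylow `p`-subgroup of the finite group `G`, generated by `d` elements (`d` its minimal number of generators). If the order of `G` is coprime to `(p - 1)(p ^ 2 - 1) ⋯ (p ^ d - 1)`, then `G` has a normal `p`-complement. (The classical statement needs only the largest number of cyclic factors of `P` of equal order in place of `d`; the form here follows from it.) -/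
theorem result {G : Type*} [Group G] [Finite G] (p : ℕ) [Fact p.Prime] (P : Sylow p G) (hab : IsMulCommutative (P : Subgroup G)) (hcop : Nat.Coprime (Nat.card G) (∏ i ∈ Finset.Icc 1 (Group.rank (P : Subgroup G)), (p ^ i - 1))) : Cfsg.HasNormalPComplement p G := by
  have hNC : Subgroup.normalizer ((P : Subgroup G) : Set G) ≤ Subgroup.centralizer ((P : Subgroup G) : Set G) := by
    rw [← Subgroup.subgroupOf_eq_top, ← Subgroup.index_eq_one]
    by_contra hne
    obtain ⟨q, hq, hqd⟩ := Nat.exists_prime_and_dvd hne
    haveI := Fact.mk hq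
    have hPC : (P : Subgroup G) ≤ Subgroup.centralizer ((P : Subgroup G) : Set G) :=
      Subgroup.le_centralizer_iff_isMulCommutative.2 hab
    by_cases hqp : q = p
    · subst hqp
      refine P.not_dvd_index ?_
      refine (hqd.trans (Subgroup.index_dvd_of_le
        (H := (P : Subgroup G).subgroupOf (Subgroup.normalizer ((P : Subgroup G) : Set G))) ?_)).trans ?_
      · exact fun y hy => hPC hy
      · exact Subgroup.relIndex_dvd_index_of_le Subgroup.le_normalizer
    obtain ⟨S⟩ : Nonempty (Sylow q (Subgroup.normalizer ((P : Subgroup G) : Set G))) := inferInstance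
    have hqG : q ∣ Nat.card G :=
      hqd.trans ((Subgroup.index_dvd_card _).trans (Subgroup.card_subgroup_dvd_card _))
    refine S.not_dvd_index (hqd.trans (Subgroup.index_dvd_of_le fun y hy => ?_))
    obtain ⟨k, hk⟩ := IsPGroup.iff_orderOf.1 S.2 ⟨y, hy⟩
    rw [Subgroup.orderOf_mk] at hk
    refine Subgroup.mem_subgroupOf.2 (Lib.Fg6.RankComplement.mem_centralizer_of_rank_le P.2 le_rfl y.2 hq hqp
      (by rw [Subgroup.orderOf_coe, hk]) fun i hi1 hi2 hd => ?_)
    exact hq.not_dvd_one (hcop ▸ Nat.dvd_gcd hqG (hd.trans (Finset.dvd_prod_of_mem _ (Finset.mem_Icc.2 ⟨hi1, hi2⟩))))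
  exact ⟨P, _, inferInstance, MonoidHom.ker_transferSylow_isComplement' P hNC⟩

end Cfsg.Agent.S3969
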