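import Cfsg.Statements.S3970
import Cfsg.Agent.S3969
import Mathlib.GroupTheory.Solvable
import Mathlib.GroupTheory.Nilpotent

set_option autoImplicit false
open Cfsg

namespace Cfsg.Agent.S3970

universe u

theorem solvable_aux : ∀ (n : ℕ) (G : Type u) [Group G] [Finite G], Nat.card G = n →
    (∀ p : ℕ, p.Prime → p ∣ Nat.card G → (∃ q : ℕ, q.Prime ∧ q ∣ Nat.card G ∧ p < q) →
      ∀ P : Sylow p G, IsMulCommutative (P : Subgroup G) ∧ Group.rank (P : Subgroup G) ≤ 2) →
    ¬ 12 ∣ Nat.card G → Group.IsSolvable G := by
  intro n
  induction n using Nat.strong_induction_on with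
  | _ n ih =>
    intro G _ _ hn h h12
    by_cases h1 : Nat.card G = 1
    · haveI : Subsingleton G := (Nat.card_eq_one_iff_unique.1 h1).1
      infer_instance
    obtain ⟨p, hp, hpd, hmin⟩ : ∃ p, p.Prime ∧ p ∣ Nat.card G ∧ ∀ q : ℕ, q.Prime → q ∣ Nat.card G → p ≤ q :=
      ⟨(Nat.card G).minFac, Nat.minFac_prime h1, Nat.minFac_dvd _,
        fun q hq hd => Nat.minFac_le_of_dvd hq.two_le hd⟩
    haveI := Fact.mk hp
    by_cases hmax : ∃ q : ℕ, q.Prime ∧ q ∣ Nat.card G ∧ p < q
    swap
    · obtain ⟨k, hk⟩ : ∃ k, Nat.card G = p ^ k := ⟨_, Nat.eq_prime_pow_of_unique_prime_dvd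
        Nat.card_pos.ne' fun {q} hq hd => le_antisymm (not_lt.1 fun hlt => hmax ⟨q, hq, hd, hlt⟩) (hmin q hq hd)⟩
      haveI := (IsPGroup.of_card hk).isNilpotent
      infer_instance
    obtain ⟨P⟩ : Nonempty (Sylow p G) := inferInstance
    obtain ⟨hab, hrk⟩ := h p hp hpd hmax P
    have hcop : Nat.Coprime (Nat.card G)
        (∏ i ∈ Finset.Icc 1 (Group.rank (P : Subgroup G)), (p ^ i - 1)) := by
      refine Nat.coprime_of_dvd fun q hq hqG hqP => ?_
      haveI := Fact.mk hq
      obtain ⟨i, hi, hqi⟩ := (hq.prime.dvd_finset_prod_iff _).1 hqP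
      rw [Finset.mem_Icc] at hi
      have hp2 := hp.two_le
      have hpq := hmin q hq hqG
      have hi2 : i = 1 ∨ i = 2 := by omega
      rcases hi2 with rfl | rfl
      · rw [pow_one] at hqi
        have := Nat.le_of_dvd (by omega) hqi
        omega
      · have hf : p ^ 2 - 1 = (p + 1) * (p - 1) := by rw [← Nat.sq_sub_sq, one_pow]
        rw [hf] at hqi
        rcases hq.dvd_mul.1 hqi with hd | hd
        · have hle := Nat.le_of_dvd (by omega) hd
          have hne : q ≠ p := by
            rintro rfl
            have := (Nat.dvd_add_right (dvd_refl q)).1 hd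
            exact hq.not_dvd_one this
          obtain rfl : q = p + 1 := by omega
          have hpe : p = 2 := by
            rcases hp.eq_two_or_odd' with h2 | h2
            · exact h2
            · have he : Even (p + 1) := h2.add_one
              have := (Nat.Prime.even_iff hq).1 he
              omega
          subst hpe
          -- a Sylow 2-subgroup of order at most two needs one generator
          have h4 : ¬ 4 ∣ Nat.card G := fun h4 =>
            h12 (Nat.Coprime.mul_dvd_of_dvd_of_dvd (by norm_num : Nat.Coprime 4 3) h4 hqG)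
          have hP2 : Nat.card (P : Subgroup G) ≤ 2 := by
            obtain ⟨k, hk⟩ := P.2.exists_card_eq
            have hk2 : k < 2 := by
              by_contra hk'
              have : 4 ∣ 2 ^ k := by
                have := pow_dvd_pow 2 (not_lt.1 hk')
                simpa using this
              exact h4 (this.trans (hk ▸ Subgroup.card_subgroup_dvd_card _))
            rw [hk]
            calc 2 ^ k ≤ 2 ^ 1 := Nat.pow_le_pow_right (by norm_num) (by omega)
              _ = 2 := by norm_num
          haveI : IsCyclic (P : Subgroup G) := by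
            obtain ⟨g, hg⟩ : ∃ g : (P : Subgroup G), orderOf g = Nat.card (P : Subgroup G) := by
              by_cases h' : Nat.card (P : Subgroup G) = 1
              · exact ⟨1, by rw [orderOf_one, h']⟩
              · have : Nat.card (P : Subgroup G) = 2 := by
                  have := Nat.card_pos (α := (P : Subgroup G)); omega
                obtain ⟨g, hg⟩ := exists_prime_orderOf_dvd_card' (G := (P : Subgroup G)) 2 (by rw [this])
                exact ⟨g, hg.trans this.symm⟩
            exact isCyclic_of_orderOf_eq_card g hg
          have hr1 : Group.rank (P : Subgroup G) ≤ 1 := by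
            obtain ⟨g, hg⟩ := IsCyclic.exists_generator (α := (P : Subgroup G))
            classical
            refine (Group.rank_le (S := {g}) ?_).trans (by simp)
            rw [Finset.coe_singleton, ← Subgroup.zpowers_eq_closure, eq_top_iff]
            exact fun y _ => hg y
          omega
        · have := Nat.le_of_dvd (by omega) hd
          omega
    obtain ⟨P', N, hNn, hNc⟩ := Cfsg.Agent.S3969.result p P hab hcop
    have hNlt : Nat.card N < n := by
      rw [← hn, ← hNc.card_mul_card]
      exact lt_mul_of_one_lt_right Nat.card_pos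
        (hp.one_lt.trans_le (Nat.le_of_dvd Nat.card_pos (P'.dvd_card_of_dvd_card hpd)))
    haveI := hNn
    have hsub : Nat.card N ∣ Nat.card G := Subgroup.card_subgroup_dvd_card N
    have hsolN : Group.IsSolvable N := by
      refine ih _ hNlt N rfl (fun r hr hrN hex R => ?_) (fun h' => h12 (h'.trans hsub))
      haveI := Fact.mk hr
      obtain ⟨q, hq, hqN, hrq⟩ := hex
      obtain ⟨S, hS⟩ := (R.2.map N.subtype).exists_le_sylow
      obtain ⟨hSab, hSrk⟩ := h r hr (hrN.trans hsub) ⟨q, hq, hqN.trans hsub, hrq⟩ S
      have hrp : r ≠ p := by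
        rintro rfl
        refine P'.not_dvd_index ?_
        rw [hNc.index_eq_card]
        exact hrN
      have hSN : (S : Subgroup G) ≤ N := by
        intro y hy
        obtain ⟨k, hk⟩ := IsPGroup.iff_orderOf.1 S.2 ⟨y, hy⟩
        rw [Subgroup.orderOf_mk] at hk
        rw [← QuotientGroup.eq_one_iff, ← orderOf_eq_one_iff]
        refine Nat.eq_one_of_dvd_coprimes (a := r ^ k) (b := Nat.card (P' : Subgroup G)) ?_
          (hk ▸ orderOf_map_dvd (QuotientGroup.mk' N) y) ?_
        · obtain ⟨l, hl⟩ := P'.2.exists_card_eq
          rw [hl]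
          exact ((Nat.coprime_primes hr hp).2 hrp).pow _ _
        · rw [← hNc.symm.index_eq_card, Subgroup.index_eq_card]
          exact orderOf_dvd_natCard _
      have heq : (R : Subgroup N) = (S : Subgroup G).subgroupOf N :=
        (R.3 (S.2.comap_subtype) fun y hy => hS ⟨y, hy, rfl⟩).symm
      have e : (R : Subgroup N) ≃* (S : Subgroup G) :=
        (MulEquiv.subgroupCongr heq).trans (Subgroup.subgroupOfEquivOfLe hSN)
      refine ⟨⟨⟨fun x y => e.injective ?_⟩⟩, (Group.rank_congr e).le.trans hSrk⟩
      rw [map_mul, map_mul]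
      exact hSab.is_comm.comm _ _
    haveI := hsolN
    haveI : Group.IsSolvable (G ⧸ N) := by
      have hc : Nat.card (G ⧸ N) = Nat.card (P' : Subgroup G) := by
        rw [← Subgroup.index_eq_card, hNc.symm.index_eq_card]
      obtain ⟨l, hl⟩ := P'.2.exists_card_eq
      haveI := (IsPGroup.of_card (G := G ⧸ N) (hc.trans hl)).isNilpotent
      infer_instance
    exact Group.isSolvable_of_ker_le_range N.subtype (QuotientGroup.mk' N) (by simp)


/-- Let `G` be a finite group such that for every prime `p` dividing its order, other than the largest such prime, the Sylow `p`-subgroups are abelian and generated by at most two elements, and suppose `12` does not divide the order of `G`. Then `G` is solvable. In particular a group of cube-free order not divisible by `12` is solvable. -/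
theorem result {G : Type*} [Group G] [Finite G] (h : ∀ p : ℕ, p.Prime → p ∣ Nat.card G → (∃ q : ℕ, q.Prime ∧ q ∣ Nat.card G ∧ p < q) → ∀ P : Sylow p G, IsMulCommutative (P : Subgroup G) ∧ Group.rank (P : Subgroup G) ≤ 2) (h12 : ¬ 12 ∣ Nat.card G) : Group.IsSolvable G := by
  exact solvable_aux _ G rfl h h12

end Cfsg.Agent.S3970
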