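import Cfsg.Statements.S3971
import Cfsg.Agent.Lib.Fg6.RankComplement
import Cfsg.Agent.Lib.Transfer.Frobenius

set_option autoImplicit false
open Cfsg

namespace Cfsg.Agent.S3971

/-- Let `G` be a finite group of order `2 ^ a * n` with `n` odd and not divisible by `3`, and suppose `G` has an element of order `2 ^ (a - 1)` (so a Sylow `2`-subgroup has a cyclic subgroup of index at most `2`). Then `G` has a normal subgroup of order `n`. -/
theorem result {G : Type*} [Group G] [Finite G] (a n : ℕ) (hG : Nat.card G = 2 ^ a * n) (hn : Odd n) (h3 : ¬ 3 ∣ n) (hx : ∃ x : G, orderOf x = 2 ^ (a - 1)) : ∃ N : Subgroup G, N.Normal ∧ Nat.card N = n := by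
  haveI : Fact (Nat.Prime 2) := ⟨Nat.prime_two⟩
  obtain ⟨x, hxo⟩ := hx
  have hfac : (Nat.card G).factorization 2 = a := by
    rw [hG, Nat.factorization_mul (by positivity) hn.pos.ne']
    simp [Nat.factorization_eq_zero_of_not_dvd hn.not_two_dvd_nat, Nat.prime_two.factorization_self]
  have hrank : ∀ Q : Subgroup G, IsPGroup 2 Q → Group.rank Q ≤ 2 := by
    intro Q hQ
    obtain ⟨S, hS⟩ := hQ.exists_le_sylow
    obtain ⟨P, hP⟩ := (IsPGroup.of_card (G := Subgroup.zpowers x) (p := 2)
      (by rw [Nat.card_zpowers, hxo])).exists_le_sylow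
    obtain ⟨g, hg⟩ := MulAction.exists_smul_eq G P S
    let C₀ : Subgroup G := (Subgroup.zpowers x).map (MulAut.conj g).toMonoidHom
    have hC₀ : C₀ ≤ S := by
      rw [← hg, Sylow.coe_subgroup_smul]
      exact Subgroup.map_mono hP
    have hcard : Nat.card C₀ = 2 ^ (a - 1) := by
      rw [Subgroup.card_map_of_injective (MulAut.conj g).injective, Nat.card_zpowers, hxo]
    haveI : IsCyclic C₀ :=
      isCyclic_of_surjective _ (MulEquiv.surjective
        ((Subgroup.zpowers x).equivMapOfInjective (MulAut.conj g).toMonoidHom (MulAut.conj g).injective))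
    haveI : IsCyclic (C₀.subgroupOf Q) := by
      let f : C₀.subgroupOf Q →* C₀ :=
        { toFun := fun y => ⟨((y : Q) : G), y.2⟩, map_one' := rfl, map_mul' := fun _ _ => rfl }
      exact isCyclic_of_injective f fun y z h =>
        Subtype.ext (Subtype.ext (congrArg (fun w : C₀ => (w : G)) h))
    refine Lib.Fg6.RankComplement.rank_le_two_of_cyclic (C₀.subgroupOf Q) ?_
    have h1 : (C₀.subgroupOf (S : Subgroup G)).index ≤ 2 := by
      have h := Subgroup.card_mul_index (C₀.subgroupOf (S : Subgroup G))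
      rw [Nat.card_congr (Subgroup.subgroupOfEquivOfLe hC₀).toEquiv, hcard, S.card_eq_multiplicity,
        hfac] at h
      have h2 : 2 ^ a ≤ 2 ^ (a - 1) * 2 := by
        rw [← pow_succ]; exact Nat.pow_le_pow_right (by norm_num) (by omega)
      exact Nat.le_of_mul_le_mul_left (h.le.trans h2) (by positivity)
    exact le_trans (Subgroup.relIndex_le_of_le_right hS Subgroup.index_ne_zero_of_finite) h1
  obtain ⟨P, N, hNn, hNc⟩ := Lib.Transfer.Frobenius.hasNormalPComplement_of_forall_centralizes (p := 2)
    (G := G) fun Q hQ _ g hg hgc => by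
      refine Lib.Fg6.RankComplement.mem_centralizer_of_coprime hQ (hrank Q hQ) hg hgc ?_
      intro q hq hqg i hi1 hi2 hd
      have hi : i = 1 ∨ i = 2 := by omega
      rcases hi with rfl | rfl
      · norm_num at hd; exact hq.ne_one hd
      · norm_num at hd
        obtain rfl : q = 3 := (Nat.prime_dvd_prime_iff_eq hq Nat.prime_three).1 hd
        have h3G : 3 ∣ 2 ^ a * n := hG ▸ hqg.trans (orderOf_dvd_natCard g)
        rcases Nat.prime_three.dvd_mul.1 h3G with h | h
        · exact absurd (Nat.prime_three.dvd_of_dvd_pow h) (by norm_num)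
        · exact h3 h
  refine ⟨N, hNn, Nat.eq_of_mul_eq_mul_left (show 0 < 2 ^ a by positivity) ?_⟩
  rw [← hG, ← hNc.card_mul_card, P.card_eq_multiplicity, hfac, mul_comm]

end Cfsg.Agent.S3971
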