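import Cfsg.Statements.S3973
import Cfsg.Agent.Lib.Multiplier.Basic
import Mathlib.GroupTheory.Rank
import Mathlib.GroupTheory.PresentedGroup
import Mathlib.LinearAlgebra.FreeModule.PID
import Mathlib.LinearAlgebra.Dimension.Constructions
import Mathlib.LinearAlgebra.Dimension.Localization

set_option autoImplicit false
open Cfsg

namespace Cfsg.Agent.S3973

/-- If a finite group is presented by `n` generators and a finite set of `r` relators, then its Schur multiplier can be generated by `r - n` elements. In particular a finite group with a presentation having as many relators as generators has trivial Schur multiplier. -/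
theorem result (n : ℕ) (rels : Finset (FreeGroup (Fin n))) [Finite (PresentedGroup (rels : Set (FreeGroup (Fin n))))] {A : Type*} [CommGroup A] [Finite A] (hA : Cfsg.HasSchurMultiplier (PresentedGroup (rels : Set (FreeGroup (Fin n)))) A) : Group.rank A ≤ rels.card - n := by
  classical
  set G := PresentedGroup (rels : Set (FreeGroup (Fin n))) with hG
  obtain ⟨⟨Γ, _, _, σ, hσ, ⟨e⟩⟩, -⟩ := hA
  have hcen : ∀ z : Γ, z ∈ σ.ker → ∀ g, g * z = z * g := fun z hz => Subgroup.mem_center_iff.1 (hσ.2.1 hz)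
  let pm : FreeGroup (Fin n) →* G := PresentedGroup.mk _
  let f : FreeGroup (Fin n) →* Γ := FreeGroup.lift fun i => Function.surjInv hσ.1 (pm (FreeGroup.of i))
  have hf : σ.comp f = pm := by ext i; simp [f, Function.surjInv_eq hσ.1]
  have hfs : ∀ x, σ (f x) = pm x := fun x => DFunLike.congr_fun hf x
  have hrel : ∀ r : {x // x ∈ rels}, f r ∈ σ.ker := fun r => by
    rw [MonoidHom.mem_ker, hfs]; exact PresentedGroup.one_of_mem r.2
  let ev : FreeGroup (Fin n) →* Multiplicative (Fin n → ℤ) :=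
    FreeGroup.lift fun i => Multiplicative.ofAdd (Pi.single i 1)
  let ψ : ({x // x ∈ rels} → ℤ) →ₗ[ℤ] (Fin n → ℤ) :=
    ∑ r : {x // x ∈ rels}, (LinearMap.proj r).smulRight (Multiplicative.toAdd (ev r))
  have hψ : ∀ c, ψ c = ∑ r, c r • Multiplicative.toAdd (ev r) := fun c => by
    simp [ψ, LinearMap.sum_apply]
  letI : CommGroup σ.ker :=
    { σ.ker.toGroup with mul_comm := fun a b => Subtype.ext (hcen b.1 b.2 a.1) }
  let Φ : ({x // x ∈ rels} → ℤ) →+ Additive σ.ker :=
    ∑ r : {x // x ∈ rels}, (AddMonoidHom.mk' (fun c => c r • Additive.ofMul (⟨f r, hrel r⟩ : σ.ker))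
      (fun c d => by simp [add_zsmul]))
  have hΦ : ∀ c, Φ c = ∑ r, c r • Additive.ofMul (⟨f r, hrel r⟩ : σ.ker) := fun c => by
    simp [Φ]
  let Φv : ({x // x ∈ rels} → ℤ) → Γ := fun c => ((Φ c).toMul : σ.ker)
  let H : Subgroup (FreeGroup (Fin n)) :=
    { carrier := {x | ∃ c, f x = Φv c ∧ Multiplicative.toAdd (ev x) = ψ c}
      one_mem' := ⟨0, by simp [Φv]⟩
      mul_mem' := fun {a b} ⟨c, hc, hc'⟩ ⟨d, hd, hd'⟩ => ⟨c + d, by
        rw [map_mul, hc, hd]; simp [Φv], by rw [map_mul, toAdd_mul, hc', hd', map_add]⟩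
      inv_mem' := fun {a} ⟨c, hc, hc'⟩ => ⟨-c, by rw [map_inv, hc]; simp [Φv],
        by rw [map_inv, toAdd_inv, hc', map_neg]⟩ }
  have hΦv : ∀ c, Φv c ∈ σ.ker := fun c => ((Φ c).toMul : σ.ker).2
  have hHn : H.Normal := ⟨by
    rintro x ⟨c, hc, hc'⟩ g
    refine ⟨c, ?_, ?_⟩
    · rw [map_mul f, map_mul f, map_inv f, hc, hcen _ (hΦv c) (f g), mul_inv_cancel_right]
    · rw [map_mul ev, map_mul ev, map_inv ev, toAdd_mul, toAdd_mul, toAdd_inv, hc',
        add_neg_cancel_comm]⟩
  have hRH : ∀ x, pm x = 1 → ∃ c, f x = Φv c ∧ Multiplicative.toAdd (ev x) = ψ c := by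
    intro x hx
    refine (Subgroup.normalClosure_le_normal (N := H) ?_) (PresentedGroup.mk_eq_one_iff.1 hx)
    intro r hr
    refine ⟨Pi.single ⟨r, hr⟩ 1, ?_, ?_⟩
    · simp [Φv, hΦ, Pi.single_apply, ite_smul]
    · rw [hψ]; simp [Pi.single_apply, ite_smul]
  -- surjectivity from the kernel of the exponent map
  have hsurj : ∀ z : σ.ker, ∃ c ∈ LinearMap.ker ψ, (Φ c).toMul = z := by
    intro z
    have hsup : f.range ⊔ σ.ker = ⊤ := by
      refine top_le_iff.1 fun g _ => ?_
      obtain ⟨x, hx⟩ := PresentedGroup.mk_surjective _ (σ g)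
      have h1 : (f x)⁻¹ * g ∈ σ.ker := by
        rw [MonoidHom.mem_ker, map_mul, map_inv, hfs, show pm x = σ g from hx, inv_mul_cancel]
      have := (f.range ⊔ σ.ker).mul_mem (Subgroup.mem_sup_left (show f x ∈ f.range from ⟨x, rfl⟩))
        (Subgroup.mem_sup_right h1)
      rwa [mul_inv_cancel_left] at this
    have h2 : (z : Γ) ∈ (commutator (FreeGroup (Fin n))).map f := by
      rw [_root_.commutator_def, Subgroup.map_commutator, ← MonoidHom.range_eq_map]
      exact Lib.Multiplier.commutator_le_of_sup_central f.range σ.ker hσ.2.1 hsup (hσ.2.2 z.2)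
    obtain ⟨x, hx, hxz⟩ := h2
    obtain ⟨c, hc, hc'⟩ := hRH x (by rw [← hfs, hxz]; exact z.2)
    refine ⟨c, ?_, Subtype.ext (hc.symm.trans hxz)⟩
    rw [LinearMap.mem_ker, ← hc', MonoidHom.mem_ker.1 (Abelianization.commutator_subset_ker ev hx)]
    rfl
  -- the kernel of the exponent map has rank `r - n`
  have hrank : Module.finrank ℤ (LinearMap.ker ψ) ≤ rels.card - n := by
    set N := Nat.card G with hN
    have hN0 : (N : ℤ) ≠ 0 := by exact_mod_cast Nat.card_pos.ne'
    have hrange : ∀ v : Fin n → ℤ, (N : ℤ) • v ∈ LinearMap.range ψ := by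
      intro v
      rw [pi_eq_sum_univ' v, Finset.smul_sum]
      refine Submodule.sum_mem _ fun i _ => ?_
      rw [smul_comm]
      refine Submodule.smul_mem _ _ ?_
      obtain ⟨c, -, hc⟩ := hRH ((FreeGroup.of i) ^ N) (by rw [map_pow]; exact pow_card_eq_one')
      refine ⟨c, ?_⟩
      rw [← hc, map_pow, toAdd_pow]
      simp [ev]
    let m : (Fin n → ℤ) →ₗ[ℤ] LinearMap.range ψ :=
      LinearMap.codRestrict _ ((N : ℤ) • LinearMap.id) hrange
    have hm : Function.Injective m := fun a b hab => by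
      have := congrArg Subtype.val hab
      exact smul_right_injective (Fin n → ℤ) hN0 this
    have h1 := LinearMap.finrank_le_finrank_of_injective hm
    have h2 := (LinearMap.ker ψ).finrank_quotient_add_finrank
    rw [ψ.quotKerEquivRange.finrank_eq, Module.finrank_fintype_fun_eq_card, Fintype.card_coe] at h2
    rw [Module.finrank_fin_fun] at h1
    omega
  let b := Module.finBasis ℤ (LinearMap.ker ψ)
  let S : Finset A := Finset.univ.image fun j => e (Φ (b j).1).toMul
  refine le_trans (Group.rank_le (S := S) ?_) (le_trans Finset.card_image_le (by simpa using hrank))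
  rw [eq_top_iff]
  intro a _
  obtain ⟨c, hc, hca⟩ := hsurj (e.symm a)
  have hsum : c = ∑ j, b.repr ⟨c, hc⟩ j • (b j).1 :=
    (congrArg Subtype.val (b.sum_repr ⟨c, hc⟩)).symm.trans (AddSubmonoidClass.coe_finset_sum _ _)
  rw [hsum, map_sum] at hca
  have : a = e (∑ j, Φ (b.repr ⟨c, hc⟩ j • (b j).1)).toMul := by rw [hca, MulEquiv.apply_symm_apply]
  rw [this, toMul_sum, map_prod]
  refine Subgroup.prod_mem _ fun j _ => ?_
  rw [map_zsmul, toMul_zsmul, map_zpow]
  exact Subgroup.zpow_mem _ (Subgroup.subset_closure (by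
    simp only [S, Finset.coe_image, Finset.coe_univ, Set.image_univ, Set.mem_range]
    exact ⟨j, rfl⟩)) _

end Cfsg.Agent.S3973
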