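import Cfsg.Statements.S3976
import Cfsg.Agent.Lib.Fg6.SubgroupCount

set_option autoImplicit false
open Cfsg

namespace Cfsg.Agent.S3976

/-- Let `p` be a prime and `G` a group of order `p ^ m`. For every `s ≤ m` the number of normal subgroups of `G` of order `p ^ s` is congruent to `1` modulo `p`. -/
theorem result {G : Type*} [Group G] [Finite G] (p m s : ℕ) (hp : p.Prime) (hG : Nat.card G = p ^ m) (hs : s ≤ m) : Nat.card {H : Subgroup G // H.Normal ∧ Nat.card H = p ^ s} ≡ 1 [MOD p] := by
  haveI := Fact.mk hp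
  refine Nat.ModEq.trans ?_ (Lib.Fg6.SubgroupCount.card_subgroup_modEq_one p s hp (hG ▸ pow_dvd_pow p hs))
  letI : MulAction G {H : Subgroup G // Nat.card H = p ^ s} :=
    { smul := fun g H => ⟨H.1.map (MulAut.conj g).toMonoidHom,
        (Subgroup.card_map_of_injective (MulAut.conj g).injective).trans H.2⟩
      one_smul := fun H => Subtype.ext (by
        show H.1.map (MulAut.conj (1 : G)).toMonoidHom = H.1
        rw [map_one]; exact Subgroup.map_id _)
      mul_smul := fun g h H => Subtype.ext (by
        show H.1.map (MulAut.conj (g * h)).toMonoidHom =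
          (H.1.map (MulAut.conj h).toMonoidHom).map (MulAut.conj g).toMonoidHom
        rw [map_mul, Subgroup.map_map]; rfl) }
  have hP : IsPGroup p G := IsPGroup.of_card hG
  refine Nat.ModEq.trans ?_ (hP.card_modEq_card_fixedPoints {H : Subgroup G // Nat.card H = p ^ s}).symm
  refine Eq.subst ?_ (Nat.ModEq.refl _)
  refine Nat.card_congr
    { toFun := fun H => ⟨⟨H.1, H.2.2⟩, fun g => Subtype.ext
        (Subgroup.mem_normalizer_iff_map_conj_eq.1 ((Subgroup.normalizer_eq_top_iff.2 H.2.1) ▸ Subgroup.mem_top g))⟩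
      invFun := fun H => ⟨H.1.1, ⟨fun x hx g => ?_⟩, H.1.2⟩
      left_inv := fun _ => rfl
      right_inv := fun _ => rfl }
  have h1 : H.1.1.map (MulAut.conj g).toMonoidHom = H.1.1 := congrArg Subtype.val (H.2 g)
  rw [← h1]
  exact ⟨x, hx, rfl⟩

end Cfsg.Agent.S3976
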