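import Cfsg.Statements.S3977
import Cfsg.Agent.Lib.PGroups.Frattini
import Mathlib.GroupTheory.PGroup
import Mathlib.GroupTheory.Sylow
import Mathlib.Data.Nat.Choose.Dvd
import Mathlib.RingTheory.Int.Basic

set_option autoImplicit false
open Cfsg

namespace Cfsg.Agent.S3977

universe u

open Subgroup in
open scoped commutatorElement in
theorem cyclic_aux (p : ℕ) (hp : p.Prime) : ∀ (m : ℕ) (G : Type u) [Group G] [Finite G],
    Nat.card G = p ^ m → ∀ s : ℕ, 1 ≤ s → s < m → (p ≠ 2 ∨ 2 ≤ s) →
    (∀ H K : Subgroup G, Nat.card H = p ^ s → Nat.card K = p ^ s → H = K) → IsCyclic G := by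
  intro m
  induction m using Nat.strong_induction_on with
  | _ m ih =>
    intro G _ _ hG s hs hsm h2 huniq
    haveI := Fact.mk hp
    have hP : IsPGroup p G := IsPGroup.of_card hG
    have hidx : ∀ M : Subgroup G, IsCoatom M → Nat.card M = p ^ (m - 1) := by
      intro M hM
      have h := M.card_mul_index
      rw [Lib.PGroups.coatom_index hP hM, hG, ← Nat.succ_pred_eq_of_pos (show 0 < m by omega), pow_succ] at h
      exact Nat.eq_of_mul_eq_mul_right hp.pos h
    have huniqCoatom : (∀ A B : Subgroup G, IsCoatom A → IsCoatom B → A = B) → IsCyclic G := by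
      intro h
      obtain ⟨x, hx⟩ : ∃ x : G, ∀ A : Subgroup G, IsCoatom A → x ∉ A := by
        rcases eq_top_or_exists_le_coatom (⊥ : Subgroup G) with h0 | ⟨A, hA, -⟩
        · haveI : Nontrivial G := Finite.one_lt_card_iff_nontrivial.1
            (hG ▸ Nat.one_lt_pow (by omega) hp.one_lt)
          exact absurd h0 bot_ne_top
        · obtain ⟨x, -, hx⟩ := SetLike.exists_of_lt (lt_top_iff_ne_top.2 hA.1)
          exact ⟨x, fun B hB => h A B hA hB ▸ hx⟩
      rcases eq_top_or_exists_le_coatom (zpowers x) with h0 | ⟨A, hA, hle⟩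
      · exact ⟨x, fun y => (h0 ▸ mem_top y : y ∈ zpowers x)⟩
      · exact absurd (hle (mem_zpowers x)) (hx A hA)
    by_cases htop : s = m - 1
    · exact huniqCoatom fun A B hA hB => huniq A B (by rw [hidx A hA, htop]) (by rw [hidx B hB, htop])
    have hcyc : ∀ M : Subgroup G, IsCoatom M → IsCyclic M := fun M hM =>
      ih (m - 1) (by omega) M (hidx M hM) s hs (by omega) h2 fun H K hH hK =>
        map_injective M.subtype_injective (huniq _ _ ((card_map_of_injective M.subtype_injective).trans hH)
          ((card_map_of_injective M.subtype_injective).trans hK))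
    refine huniqCoatom fun A B hA hB => ?_
    by_contra hAB
    obtain ⟨⟨a, haA⟩, hga⟩ := (hcyc A hA).exists_generator
    obtain ⟨⟨b, hbB⟩, hgb⟩ := (hcyc B hB).exists_generator
    have hAz : A = zpowers a := le_antisymm (fun y hy => by
      obtain ⟨i, hi⟩ := mem_zpowers_iff.1 (hga ⟨y, hy⟩)
      exact mem_zpowers_iff.2 ⟨i, congrArg Subtype.val hi⟩) (zpowers_le.2 haA)
    have hBz : B = zpowers b := le_antisymm (fun y hy => by
      obtain ⟨i, hi⟩ := mem_zpowers_iff.1 (hgb ⟨y, hy⟩)
      exact mem_zpowers_iff.2 ⟨i, congrArg Subtype.val hi⟩) (zpowers_le.2 hbB)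
    have hsup : A ⊔ B = ⊤ := hA.2 _ (lt_of_le_of_ne le_sup_left fun he => hAB
      (((hB.le_iff).1 (he ▸ le_sup_right : B ≤ A)).resolve_left hA.1))
    set D := A ⊓ B with hD
    have hDc : D ≤ center G := by
      intro y hy
      obtain ⟨i, hi⟩ := mem_zpowers_iff.1 (hAz ▸ hy.1 : y ∈ zpowers a)
      obtain ⟨j, hj⟩ := mem_zpowers_iff.1 (hBz ▸ hy.2 : y ∈ zpowers b)
      rw [mem_center_iff]
      intro g
      have : A ⊔ B ≤ centralizer ({y} : Set G) := by
        refine sup_le (fun z hz => ?_) (fun z hz => ?_)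
        · obtain ⟨k, rfl⟩ := mem_zpowers_iff.1 (hAz ▸ hz : z ∈ zpowers a)
          exact mem_centralizer_singleton_iff.2 (hi ▸ ((Commute.refl a).zpow_zpow k i))
        · obtain ⟨k, rfl⟩ := mem_zpowers_iff.1 (hBz ▸ hz : z ∈ zpowers b)
          exact mem_centralizer_singleton_iff.2 (hj ▸ ((Commute.refl b).zpow_zpow k j))
      exact mem_centralizer_singleton_iff.1 (this (hsup ▸ mem_top g))
    have hbA : b ∉ A := fun h => hAB (((hA.le_iff).1 (le_refl A)).elim (fun h' => absurd h' hA.1) fun _ => by
      have hBA : B ≤ A := hBz ▸ zpowers_le.2 h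
      exact ((hB.le_iff).1 hBA).resolve_left hA.1)
    have hfr : ∀ x : G, x ∈ frattini G → x ∈ D := fun x hx => ⟨frattini_le_coatom hA hx, frattini_le_coatom hB hx⟩
    have hp' : ∀ x : G, x ^ p ∈ D := fun x => hfr _ (Lib.PGroups.pow_mem_frattini hP x)
    have hcm : ∀ x y : G, ⁅x, y⁆ ∈ D := fun x y => hfr _ (Lib.PGroups.commutatorElement_mem_frattini hP x y)
    -- the exact orders
    have hao : orderOf a = p ^ (m - 1) := by rw [← Nat.card_zpowers, ← hAz, hidx A hA]
    have hbo : orderOf b = p ^ (m - 1) := by rw [← Nat.card_zpowers, ← hBz, hidx B hB]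
    obtain ⟨e, he⟩ : ∃ e, m = e + 2 := ⟨m - 2, by omega⟩
    subst he
    have hap : ∀ c : G, orderOf c = p ^ (e + 1) → Nat.card (zpowers (c ^ p)) = p ^ e := by
      intro c hc
      rw [Nat.card_zpowers, orderOf_pow_of_dvd hp.ne_zero (hc ▸ dvd_pow_self p (Nat.succ_ne_zero e)), hc,
        pow_succ, Nat.mul_div_cancel _ hp.pos]
    have hao' : orderOf a = p ^ (e + 1) := by simpa using hao
    have hbo' : orderOf b = p ^ (e + 1) := by simpa using hbo
    have hDb : D ≤ zpowers (b ^ p) := by
      intro y hy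
      obtain ⟨j, rfl⟩ := mem_zpowers_iff.1 (hBz ▸ hy.2 : y ∈ zpowers b)
      by_cases hj : (p : ℤ) ∣ j
      · obtain ⟨l, rfl⟩ := hj
        exact mem_zpowers_iff.2 ⟨l, by rw [← zpow_natCast, ← zpow_mul]⟩
      · exfalso
        have hco : IsCoprime ((orderOf b : ℕ) : ℤ) j := by
          rw [hbo', Nat.cast_pow]
          exact ((Nat.prime_iff_prime_int.1 hp).coprime_iff_not_dvd.2 hj).pow_left
        obtain ⟨u, v, huv⟩ := hco
        refine hbA ?_
        have : b = (b ^ j) ^ v := by
          conv_lhs => rw [← zpow_one b, ← huv, zpow_add, mul_comm u, zpow_mul, zpow_natCast,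
            pow_orderOf_eq_one, one_zpow, one_mul, mul_comm v, zpow_mul]
        rw [this]
        exact Subgroup.zpow_mem A hy.1 v
    obtain ⟨k, hk⟩ := mem_zpowers_iff.1 (hDb (inv_mem (hp' a)))
    set c := b ^ k with hc
    have hcp : c ^ p = (a ^ p)⁻¹ := by
      rw [← hk, hc, ← zpow_natCast, ← zpow_mul, mul_comm, zpow_mul, zpow_natCast]
    have hcA : c ∉ A := by
      intro hcA
      have hpk : (p : ℤ) ∣ k := by
        by_contra hk'
        have hco : IsCoprime ((orderOf b : ℕ) : ℤ) k := by
          rw [hbo', Nat.cast_pow]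
          exact ((Nat.prime_iff_prime_int.1 hp).coprime_iff_not_dvd.2 hk').pow_left
        obtain ⟨u, v, huv⟩ := hco
        refine hbA ?_
        have : b = c ^ v := by
          conv_lhs => rw [← zpow_one b, ← huv, zpow_add, mul_comm u, zpow_mul, zpow_natCast,
            pow_orderOf_eq_one, one_zpow, one_mul, mul_comm v, zpow_mul]
        rw [this]
        exact zpow_mem hcA v
      obtain ⟨l, rfl⟩ := hpk
      have hord : (a ^ p) ^ (p ^ (e - 1)) = 1 := by
        rw [← inv_inj, inv_one, ← inv_pow, ← hcp, hc, ← zpow_natCast (b ^ _), ← zpow_mul,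
          ← zpow_natCast (b ^ _), ← zpow_mul]
        rw [← orderOf_dvd_iff_zpow_eq_one, hbo']
        have : e + 1 = 1 + 1 + (e - 1) := by omega
        rw [this]
        push_cast
        exact ⟨l, by ring⟩
      have := orderOf_dvd_of_pow_eq_one hord
      rw [← Nat.card_zpowers, hap a hao'] at this
      have := (Nat.pow_dvd_pow_iff_le_right hp.one_lt).1 this
      omega
    set w := ⁅c, a⁆ with hw
    have hwc : ∀ g, g * w = w * g := mem_center_iff.1 (hDc (hcm c a))
    have hca : c * a = w * a * c := by simp [hw, commutatorElement_def]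
    have hpow : ∀ n : ℕ, (a * c) ^ n = w ^ (n.choose 2) * (a ^ n * c ^ n) := by
      intro n
      induction n with
      | zero => simp
      | succ n ihn =>
        have hcn : ∀ n : ℕ, c ^ n * a = w ^ n * (a * c ^ n) := by
          intro n
          induction n with
          | zero => simp
          | succ n ihn' =>
            rw [pow_succ' c, mul_assoc, ihn', ← mul_assoc c, ← (Commute.pow_left (hwc c).symm n).eq,
              mul_assoc, ← mul_assoc c, hca, pow_succ]
            group
        rw [pow_succ, ihn, mul_assoc, mul_assoc, ← mul_assoc (c ^ n), hcn, pow_succ a, pow_succ c,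
          Nat.choose_succ_succ', Nat.choose_one_right, pow_add]
        have hwn : Commute (a ^ n) (w ^ n) := (Commute.pow_pow (hwc a) n n)
        simp only [mul_assoc]
        rw [← mul_assoc (a ^ n), hwn.eq]
        simp only [← mul_assoc]
        rw [(Commute.pow_pow_self w n (n.choose 2)).eq]
    have hwp : w ^ p = 1 := by
      have h1 : ∀ n : ℕ, ⁅c ^ n, a⁆ = w ^ n := by
        intro n
        induction n with
        | zero => simp
        | succ n ihn =>
          have hmul : ⁅c * c ^ n, a⁆ = c * ⁅c ^ n, a⁆ * c⁻¹ * ⁅c, a⁆ := by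
            simp only [commutatorElement_def]; group
          rw [pow_succ' c, hmul, ihn, ← hw]
          rw [Commute.eq (Commute.pow_right (hwc c) n), mul_inv_cancel_right, pow_succ]
      rw [← h1, commutatorElement_eq_one_iff_mul_comm, hcp]
      exact (((Commute.refl a).pow_left p).inv_left).eq
    have hyp : (a * c) ^ (p ^ 2) = 1 ∧ (p ≠ 2 → (a * c) ^ p = 1) := by
      have h1 : (a * c) ^ p = w ^ (p.choose 2) := by rw [hpow, hcp, mul_inv_cancel, mul_one]
      refine ⟨?_, fun hp2 => ?_⟩
      · rw [pow_two, pow_mul, h1, ← pow_mul, mul_comm, pow_mul, hwp, one_pow]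
      · obtain ⟨l, hl⟩ := hp.dvd_choose_self two_ne_zero (lt_of_le_of_ne hp.two_le (Ne.symm hp2))
        rw [h1, hl, pow_mul, hwp, one_pow]
    have hyA : a * c ∉ A := fun h => hcA ((mul_mem_cancel_left haA).1 h)
    rcases eq_top_or_exists_le_coatom (zpowers (a * c)) with h0 | ⟨C, hC, hle⟩
    · have := Nat.card_zpowers (a * c)
      rw [h0, card_top, hG] at this
      have hd := orderOf_dvd_of_pow_eq_one hyp.1
      rw [← this] at hd
      have := (Nat.pow_dvd_pow_iff_le_right hp.one_lt).1 hd
      omega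
    obtain ⟨⟨z, hzC⟩, hgz⟩ := (hcyc C hC).exists_generator
    obtain ⟨i, hi⟩ := mem_zpowers_iff.1 (hgz ⟨a * c, hle (mem_zpowers _)⟩)
    replace hi : z ^ i = a * c := congrArg Subtype.val hi
    have hzo : orderOf z = p ^ (e + 1) := by
      have hCz : C = zpowers z := le_antisymm (fun y hy => by
        obtain ⟨i, hi⟩ := mem_zpowers_iff.1 (hgz ⟨y, hy⟩)
        exact mem_zpowers_iff.2 ⟨i, congrArg Subtype.val hi⟩) (zpowers_le.2 hzC)
      rw [← Nat.card_zpowers, ← hCz, hidx C hC]; simp
    by_cases hpi : (p : ℤ) ∣ i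
    · obtain ⟨l, rfl⟩ := hpi
      refine hyA ?_
      rw [← hi, zpow_mul, zpow_natCast]
      exact Subgroup.zpow_mem A (hp' z).1 l
    · have hco : IsCoprime ((orderOf z : ℕ) : ℤ) i := by
        rw [hzo, Nat.cast_pow]
        exact ((Nat.prime_iff_prime_int.1 hp).coprime_iff_not_dvd.2 hpi).pow_left
      have hord : ∀ n : ℕ, (a * c) ^ n = 1 → p ^ (e + 1) ∣ n := by
        intro n hn
        rw [← hi, ← zpow_natCast, ← zpow_mul, ← orderOf_dvd_iff_zpow_eq_one] at hn
        rw [← hzo]
        exact_mod_cast hco.dvd_of_dvd_mul_left hn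
      have h1 := (Nat.pow_dvd_pow_iff_le_right hp.one_lt).1 (hord _ hyp.1)
      by_cases hp2 : p = 2
      · rcases h2 with h2 | h2
        · exact h2 hp2
        · omega
      · have := (Nat.pow_dvd_pow_iff_le_right hp.one_lt).1 (by simpa using hord _ (hyp.2 hp2) :
          p ^ (e + 1) ∣ p ^ 1)
        omega


/-- Let `p` be a prime and `G` a group of order `p ^ m` which has exactly one subgroup of order `p ^ s`, where `1 ≤ s < m`, and where `s ≥ 2` if `p = 2`. Then `G` is cyclic. (For `p = 2` and `s = 1` the generalized quaternion groups also occur; that case is the classical criterion for a unique involution.) -/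
theorem result {G : Type*} [Group G] [Finite G] (p m s : ℕ) (hp : p.Prime) (hG : Nat.card G = p ^ m) (hs : 1 ≤ s) (hsm : s < m) (h2 : p ≠ 2 ∨ 2 ≤ s) (huniq : ∀ H K : Subgroup G, Nat.card H = p ^ s → Nat.card K = p ^ s → H = K) : IsCyclic G := by
  exact cyclic_aux p hp m G hG s hs hsm h2 huniq

end Cfsg.Agent.S3977
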