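import Cfsg.Statements.S3978
import Cfsg.Agent.Lib.Multiplier.Basic
import Mathlib.Algebra.Category.Grp.Injective
import Mathlib.LinearAlgebra.Matrix.GeneralLinearGroup.Basic
import Mathlib.LinearAlgebra.Matrix.ToLin
import Mathlib.GroupTheory.FiniteAbelian.Duality
import Mathlib.RingTheory.RootsOfUnity.AlgebraicallyClosed
import Mathlib.Analysis.Complex.Polynomial.Basic

set_option autoImplicit false
open Cfsg

namespace Cfsg.Agent.S3978

open Lib.Multiplier
open scoped commutatorElement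

theorem divisible_center {n : ℕ} {k : ℕ} (hk : k ≠ 0) (z : Subgroup.center (GL (Fin n) ℂ)) :
    ∃ w : Subgroup.center (GL (Fin n) ℂ), w ^ k = z := by
  obtain ⟨a, ha⟩ : (z : GL (Fin n) ℂ) ∈ (Matrix.GeneralLinearGroup.scalar (Fin n)).range :=
    Matrix.GeneralLinearGroup.center_eq_range_scalar (n := Fin n) (R := ℂ) ▸ z.2
  obtain ⟨b, hb⟩ := IsAlgClosed.exists_pow_nat_eq (a : ℂ) (Nat.pos_of_ne_zero hk)
  have hb0 : b ≠ 0 := by
    rintro rfl
    rw [zero_pow hk] at hb
    exact a.ne_zero hb.symm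
  refine ⟨⟨Matrix.GeneralLinearGroup.scalar (Fin n) (Units.mk0 b hb0), ?_⟩, Subtype.ext ?_⟩
  · rw [Matrix.GeneralLinearGroup.center_eq_range_scalar]; exact ⟨_, rfl⟩
  · rw [Subgroup.coe_pow, ← map_pow, ← ha]
    exact congrArg _ (Units.ext hb)

/-- Homomorphisms into the scalars extend from relators to the whole exponent lattice. -/
theorem exists_extension {Q : Type*} [Group Q] {A : Type*} [CommGroup A]
    (hdiv : ∀ k : ℕ, k ≠ 0 → ∀ a : A, ∃ b : A, b ^ k = a) (K : Subgroup (FreeCE Q))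
    (hK : ∀ k ∈ K, ceExp Q k = 1 → k = 1) (χ : K →* A) :
    ∃ ψ : Multiplicative (Q →₀ ℤ) →* A, ∀ k : K, ψ (ceExp Q k) = χ k := by
  let L : AddSubgroup (Q →₀ ℤ) := (MonoidHom.toAdditiveLeft ((ceExp Q).comp K.subtype)).range
  let eK : Additive K ≃+ L := AddEquiv.ofBijective
    (MonoidHom.toAdditiveLeft ((ceExp Q).comp K.subtype)).rangeRestrict ⟨by
      intro a b hab
      have h1 : ceExp Q ((a.toMul : K) : FreeCE Q) = ceExp Q ((b.toMul : K) : FreeCE Q) :=
        Multiplicative.toAdd.injective (congrArg Subtype.val hab)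
      have h2 := hK ((a.toMul⁻¹ * b.toMul : K) : FreeCE Q) (a.toMul⁻¹ * b.toMul).2
        (by simp [h1])
      exact Additive.toMul.injective (inv_mul_eq_one.1 (Subtype.ext h2)),
      AddMonoidHom.rangeRestrict_surjective _⟩
  letI : DivisibleBy (Additive A) ℕ :=
    { div := fun a k => if hk : k = 0 then 0 else Additive.ofMul (hdiv k hk a.toMul).choose
      div_zero := fun a => dif_pos rfl
      div_cancel := fun {k} a hk => by
        rw [dif_neg hk, ← ofMul_pow, (hdiv k hk a.toMul).choose_spec]; rfl }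
  letI : DivisibleBy (Additive A) ℤ := AddGroup.divisibleByIntOfDivisibleByNat (Additive A)
  obtain ⟨h, hh⟩ := (Module.Baer.of_divisible (Additive A)).extension_property_addMonoidHom
    L.subtype Subtype.val_injective
    ((MonoidHom.toAdditive χ).comp eK.symm.toAddMonoidHom)
  refine ⟨AddMonoidHom.toMultiplicativeLeft h, fun k => ?_⟩
  have h1 := DFunLike.congr_fun hh (eK (Additive.ofMul k))
  rw [AddMonoidHom.comp_apply, AddMonoidHom.comp_apply, AddEquiv.coe_toAddMonoidHom,
    AddEquiv.symm_apply_apply] at h1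
  exact congrArg Additive.toMul h1

/-- A finite group `Q` has trivial Schur multiplier if and only if, for every `n`, every homomorphism from `Q` to the projective general linear group (the quotient of `GL n ℂ` by its centre) lifts to a homomorphism into `GL n ℂ`. -/
theorem result {Q : Type*} [Group Q] [Finite Q] : Cfsg.HasCyclicSchurMultiplier Q 1 ↔ ∀ (n : ℕ) (γ : Q →* (GL (Fin n) ℂ ⧸ Subgroup.center (GL (Fin n) ℂ))), ∃ ρ : Q →* GL (Fin n) ℂ, (QuotientGroup.mk' (Subgroup.center (GL (Fin n) ℂ))).comp ρ = γ := by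
  constructor
  · intro hM n γ
    obtain ⟨eM⟩ := mulEquiv_of_hasSchurMultiplier hM
    have hsub : Subsingleton (schurM Q) := eM.symm.injective.subsingleton
    set Z := Subgroup.center (GL (Fin n) ℂ) with hZ
    let Γ : Subgroup (Q × GL (Fin n) ℂ) :=
      (γ.comp (MonoidHom.fst Q _)).eqLocus ((QuotientGroup.mk' Z).comp (MonoidHom.snd Q _))
    let σ : Γ →* Q := (MonoidHom.fst Q _).comp Γ.subtype
    obtain ⟨f, hf⟩ := exists_lift Q σ (fun q => by
        obtain ⟨g, hg⟩ := QuotientGroup.mk'_surjective Z (γ q)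
        exact ⟨⟨(q, g), hg.symm⟩, rfl⟩)
      (fun x hx => Subgroup.mem_center_iff.2 fun y => by
        have hx1 : (x : Q × GL (Fin n) ℂ).1 = 1 := hx
        have hx2 : γ (x : Q × GL (Fin n) ℂ).1 = QuotientGroup.mk' Z (x : Q × GL (Fin n) ℂ).2 := x.2
        rw [hx1, map_one, eq_comm, QuotientGroup.mk'_apply, QuotientGroup.eq_one_iff] at hx2
        exact Subtype.ext (Prod.ext (by simp [hx1]) (Subgroup.mem_center_iff.1 hx2 _)))
    let h : FreeCE Q →* GL (Fin n) ℂ := ((MonoidHom.snd Q _).comp Γ.subtype).comp f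
    have hh : ∀ x, QuotientGroup.mk' Z (h x) = γ (ceHom Q x) := fun x => by
      rw [← hf]; exact ((f x).2).symm
    let χ : (ceHom Q).ker →* Z := (h.domRestrict (ceHom Q).ker).codRestrict Z fun x => by
      have := hh x
      rw [MonoidHom.mem_ker.1 x.2, map_one, QuotientGroup.mk'_apply, QuotientGroup.eq_one_iff] at this
      exact this
    letI : CommGroup Z :=
      { Z.toGroup with mul_comm := fun a b => Subtype.ext (Subgroup.mem_center_iff.1 b.2 a.1) }
    obtain ⟨ψ, hψ⟩ := exists_extension (fun k hk a => divisible_center hk a) (ceHom Q).ker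
      (fun k hk h1 => congrArg Subtype.val (Subsingleton.elim
        (⟨k, hk, (ceExp_ker Q).le h1⟩ : schurM Q) 1)) χ
    let h' : FreeCE Q →* GL (Fin n) ℂ := MonoidHom.mk'
      (fun x => h x * ((ψ (ceExp Q x) : Z) : GL (Fin n) ℂ)⁻¹) (fun x y => by
        have hc := Subgroup.mem_center_iff.1 (Z.inv_mem (ψ (ceExp Q x)).2) (h y)
        rw [map_mul, map_mul, map_mul, mul_comm (ψ (ceExp Q x)), Subgroup.coe_mul, mul_inv_rev,
          mul_assoc, ← mul_assoc (h y), hc, mul_assoc, ← mul_assoc])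
    refine ⟨(ceHom Q).liftOfSurjective (ceHom_surjective Q) ⟨h', fun x hx => ?_⟩, ?_⟩
    · have e : ((χ ⟨x, hx⟩ : Z) : GL (Fin n) ℂ) = h x := rfl
      show h x * _ = 1
      rw [hψ ⟨x, hx⟩, e, mul_inv_cancel]
    · refine MonoidHom.ext fun q => ?_
      obtain ⟨x, rfl⟩ := ceHom_surjective Q q
      show QuotientGroup.mk' Z _ = _
      erw [MonoidHom.liftOfRightInverse_comp_apply]
      show QuotientGroup.mk' Z (h x * _) = _
      rw [map_mul, hh, QuotientGroup.mk'_apply _ (_ : GL (Fin n) ℂ)⁻¹,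
        (QuotientGroup.eq_one_iff _).2 (Z.inv_mem (ψ (ceExp Q x)).2), mul_one]
  · intro hlift
    rw [hasCyclicSchurMultiplier_one_iff]
    intro Δ _ _ σ hσ
    rw [Subgroup.eq_bot_iff_forall]
    intro z hz
    by_contra hz1
    have hcen : ∀ z : Δ, z ∈ σ.ker → ∀ g, g * z = z * g := fun z hz =>
      Subgroup.mem_center_iff.1 (hσ.2.1 hz)
    letI : CommGroup σ.ker :=
      { σ.ker.toGroup with mul_comm := fun a b => Subtype.ext (hcen b.1 b.2 a.1) }
    obtain ⟨χ, hχ⟩ := CommGroup.exists_apply_ne_one_of_hasEnoughRootsOfUnity σ.ker ℂ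
      (a := ⟨z, hz⟩) (fun e => hz1 (congrArg Subtype.val e))
    let s := Function.surjInv hσ.1
    have hs : ∀ q, σ (s q) = q := Function.surjInv_eq hσ.1
    let ζ : Δ → σ.ker := fun x => ⟨x * (s (σ x))⁻¹, by
      rw [MonoidHom.mem_ker, map_mul, map_inv, hs, mul_inv_cancel]⟩
    have hζmul : ∀ (w : σ.ker) (y : Δ), ζ ((w : Δ) * y) = w * ζ y := fun w y => Subtype.ext (by
      show (w : Δ) * y * (s (σ ((w : Δ) * y)))⁻¹ = w * (y * (s (σ y))⁻¹)
      rw [map_mul, MonoidHom.mem_ker.1 w.2, one_mul, mul_assoc])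
    have := Fintype.ofFinite Q
    let e : Fin (Fintype.card Q) ≃ Q := (Fintype.equivFin Q).symm
    let L : Δ → Module.End ℂ (Fin (Fintype.card Q) → ℂ) := fun g =>
      LinearMap.pi fun i => ((χ (ζ (s (e i) * g)) : ℂˣ) : ℂ) • LinearMap.proj (e.symm (e i * σ g))
    have hL : ∀ g f i, L g f i = ((χ (ζ (s (e i) * g)) : ℂˣ) : ℂ) * f (e.symm (e i * σ g)) :=
      fun g f i => rfl
    have hLz : ∀ w : σ.ker, L w = ((χ w : ℂˣ) : ℂ) • 1 := by
      intro w
      apply LinearMap.ext; intro f; funext i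
      have e1 : ζ (s (e i) * w) = w := by
        rw [hcen _ w.2, hζmul]
        refine (mul_eq_left.2 ?_)
        exact Subtype.ext (show s (e i) * (s (σ (s (e i))))⁻¹ = 1 by rw [hs, mul_inv_cancel])
      rw [hL, e1, MonoidHom.mem_ker.1 w.2, mul_one, Equiv.symm_apply_apply]
      rfl
    let R₀ : Δ →* Module.End ℂ (Fin (Fintype.card Q) → ℂ) :=
      { toFun := L
        map_one' := by
          rw [show (1 : Δ) = ((1 : σ.ker) : Δ) from rfl, hLz, map_one, Units.val_one, one_smul]
        map_mul' := fun g h => by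
          apply LinearMap.ext; intro f; funext i
          rw [Module.End.mul_apply, hL, hL, hL, Equiv.apply_symm_apply, map_mul σ, ← mul_assoc (e i),
            ← mul_assoc ((χ (ζ (s (e i) * g)) : ℂˣ) : ℂ), ← Units.val_mul, ← map_mul χ]
          congr 4
          rw [← hζmul]
          congr 1
          show _ = s (e i) * g * (s (σ (s (e i) * g)))⁻¹ * (s (e i * σ g) * h)
          rw [map_mul, hs]; group }
    let R : Δ →* GL (Fin (Fintype.card Q)) ℂ :=
      (Units.map (LinearMap.toMatrixAlgEquiv' : Module.End ℂ (Fin (Fintype.card Q) → ℂ) ≃ₐ[ℂ]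
        Matrix (Fin (Fintype.card Q)) (Fin (Fintype.card Q)) ℂ).toRingEquiv.toMonoidHom).comp
        R₀.toHomUnits
    have hRval : ∀ g, (R g).val = LinearMap.toMatrixAlgEquiv' (L g) := fun g => rfl
    have hRz : ∀ w : σ.ker, R w ∈ Subgroup.center (GL (Fin (Fintype.card Q)) ℂ) := by
      intro w
      rw [Matrix.GeneralLinearGroup.mem_center_iff_val_mem_range_scalar]
      refine ⟨((χ w : ℂˣ) : ℂ), ?_⟩
      rw [hRval, hLz, map_smul, map_one, Matrix.scalar_apply, Matrix.smul_one_eq_diagonal]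
    set Z := Subgroup.center (GL (Fin (Fintype.card Q)) ℂ) with hZ
    obtain ⟨ρ, hρ⟩ := hlift (Fintype.card Q) (σ.liftOfSurjective hσ.1
      ⟨(QuotientGroup.mk' Z).comp R, fun x hx =>
        (QuotientGroup.eq_one_iff _).2 (hRz ⟨x, hx⟩)⟩)
    have hdiff : ∀ g, (ρ (σ g))⁻¹ * R g ∈ Z := fun g => by
      have h1 := DFunLike.congr_fun hρ (σ g)
      rw [MonoidHom.comp_apply] at h1
      erw [MonoidHom.liftOfRightInverse_comp_apply] at h1
      exact QuotientGroup.eq.1 h1
    letI : CommGroup Z :=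
      { Z.toGroup with mul_comm := fun a b => Subtype.ext (Subgroup.mem_center_iff.1 b.2 a.1) }
    let ε : Δ →* Z := MonoidHom.mk' (fun g => ⟨_, hdiff g⟩) (fun g h => Subtype.ext (by
      show (ρ (σ (g * h)))⁻¹ * R (g * h) = (ρ (σ g))⁻¹ * R g * ((ρ (σ h))⁻¹ * R h)
      have hc := Subgroup.mem_center_iff.1 (hdiff g) (ρ (σ h))⁻¹
      rw [map_mul, map_mul, map_mul, mul_inv_rev]
      calc (ρ (σ h))⁻¹ * (ρ (σ g))⁻¹ * (R g * R h)
          = (ρ (σ h))⁻¹ * ((ρ (σ g))⁻¹ * R g) * R h := by group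
        _ = _ := by rw [hc]; group))
    have h1 : ε z = 1 := MonoidHom.mem_ker.1 (Abelianization.commutator_subset_ker ε (hσ.2.2 hz))
    have h2 : R z = 1 := by
      have := congrArg Subtype.val h1
      change (ρ (σ z))⁻¹ * R z = 1 at this
      rwa [MonoidHom.mem_ker.1 hz, map_one, inv_one, one_mul] at this
    have h3 : L z = 1 := LinearMap.toMatrixAlgEquiv'.injective
      (by rw [← hRval, h2, map_one]; rfl)
    refine hχ (Units.ext ?_)
    have h4 := congrFun (LinearMap.congr_fun ((hLz ⟨z, hz⟩).symm.trans h3) (fun _ => 1)) (e.symm 1)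
    simpa using h4

end Cfsg.Agent.S3978
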