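import Cfsg.Statements.S3980
import Cfsg.Agent.Lib.Multiplier.Basic
import Mathlib.GroupTheory.NoncommCoprod

set_option autoImplicit false
universe u v w
open Cfsg

namespace Cfsg.Agent.S3980

open Subgroup
open scoped commutatorElement

/-- Derived central elements over `G` come from the multiplier of `G`. -/
theorem exists_of_mem_commutator {G : Type u} [Group G] {Γ : Type*} [Group Γ] (σ : Γ →* G)
    (hs : Function.Surjective σ) (hc : σ.ker ≤ center Γ) :
    ∃ π : Lib.Multiplier.schurM G →* Γ, (∀ x, σ (π x) = 1) ∧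
      ∀ z ∈ σ.ker, z ∈ commutator Γ → z ∈ π.range := by
  obtain ⟨f, hf⟩ := Lib.Multiplier.exists_lift G σ hs hc
  refine ⟨f.comp (Lib.Multiplier.schurM G).subtype, fun x => ?_, fun z hz hzd => ?_⟩
  · show σ (f x.1) = 1
    rw [← MonoidHom.comp_apply, hf]; exact x.2.1
  have hsup : f.range ⊔ σ.ker = ⊤ := by
    refine top_le_iff.1 fun g _ => ?_
    obtain ⟨e, he⟩ := Lib.Multiplier.ceHom_surjective G (σ g)
    have h1 : (f e)⁻¹ * g ∈ σ.ker := by
      rw [MonoidHom.mem_ker, map_mul, map_inv, ← MonoidHom.comp_apply, hf, he, inv_mul_cancel]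
    have := (f.range ⊔ σ.ker).mul_mem (mem_sup_left (show f e ∈ f.range from ⟨e, rfl⟩))
      (mem_sup_right h1)
    rwa [mul_inv_cancel_left] at this
  have h2 : z ∈ (commutator (Lib.Multiplier.FreeCE G)).map f := by
    rw [_root_.commutator_def, map_commutator, ← MonoidHom.range_eq_map]
    exact Lib.Multiplier.commutator_le_of_sup_central f.range σ.ker hc hsup hzd
  obtain ⟨x, hx, rfl⟩ := h2
  exact ⟨⟨x, ⟨show Lib.Multiplier.ceHom G x = 1 by rw [← hf]; exact hz, hx⟩⟩, rfl⟩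

theorem orderOf_dvd_abelianization {H : Type*} [Group H] {C : Type*} [CommGroup C] {Q : Type*}
    [Group Q] [Finite Q] (χ : H →* C) (π : H →* Q) (hπ : Function.Surjective π)
    (hle : π.ker ≤ χ.ker) (i : H) : orderOf (χ i) ∣ Nat.card (Abelianization Q) := by
  let χ' : Abelianization Q →* C := Abelianization.lift (π.liftOfSurjective hπ ⟨χ, hle⟩)
  have e : χ i = χ' (Abelianization.of (π i)) := by
    simp only [χ', Abelianization.lift_apply_of]
    exact (MonoidHom.liftOfRightInverse_comp_apply π _ (Function.rightInverse_surjInv hπ)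
      ⟨χ, hle⟩ i).symm
  rw [e]
  exact (orderOf_map_dvd χ' _).trans (orderOf_dvd_natCard _)

/-- Let `Q₁` and `Q₂` be finite groups whose commutator quotients have coprime orders, with Schur multipliers `A` and `B`. Then the Schur multiplier of `Q₁ × Q₂` is isomorphic to `A × B`. -/
theorem result {Q₁ : Type u} {Q₂ : Type v} [Group Q₁] [Group Q₂] [Finite Q₁] [Finite Q₂] {A B : Type w} [CommGroup A] [CommGroup B] (hA : Cfsg.HasSchurMultiplier Q₁ A) (hB : Cfsg.HasSchurMultiplier Q₂ B) (hcop : Nat.Coprime (Nat.card (Abelianization Q₁)) (Nat.card (Abelianization Q₂))) : Cfsg.HasSchurMultiplier (Q₁ × Q₂) (A × B) := by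
  obtain ⟨m₁⟩ := Lib.Multiplier.mulEquiv_of_hasSchurMultiplier hA
  obtain ⟨m₂⟩ := Lib.Multiplier.mulEquiv_of_hasSchurMultiplier hB
  obtain ⟨⟨Γ₁, _, _, σ₁, hσ₁, ⟨e₁⟩⟩, -⟩ := hA
  obtain ⟨⟨Γ₂, _, _, σ₂, hσ₂, ⟨e₂⟩⟩, -⟩ := hB
  constructor
  · -- the product of the covers
    refine ⟨Γ₁ × Γ₂, inferInstance, inferInstance, σ₁.prodMap σ₂, ⟨?_, ?_, ?_⟩, ⟨?_⟩⟩
    · exact Function.Surjective.prodMap hσ₁.1 hσ₂.1
    · rintro ⟨a, b⟩ hab
      have hab' := Prod.ext_iff.1 (MonoidHom.mem_ker.1 hab)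
      refine mem_center_iff.2 fun c => Prod.ext ?_ ?_
      · exact mem_center_iff.1 (hσ₁.2.1 hab'.1) c.1
      · exact mem_center_iff.1 (hσ₂.2.1 hab'.2) c.2
    · rintro ⟨a, b⟩ hab
      have hab' := Prod.ext_iff.1 (MonoidHom.mem_ker.1 hab)
      rw [_root_.commutator_def, ← top_prod_top, commutator_prod_prod, mem_prod]
      exact ⟨by rw [← _root_.commutator_def]; exact hσ₁.2.2 hab'.1,
        by rw [← _root_.commutator_def]; exact hσ₂.2.2 hab'.2⟩
    · refine MulEquiv.trans ?_ (MulEquiv.prodCongr e₁ e₂)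
      exact
        { toFun := fun x => (⟨x.1.1, (Prod.ext_iff.1 (MonoidHom.mem_ker.1 x.2)).1⟩,
            ⟨x.1.2, (Prod.ext_iff.1 (MonoidHom.mem_ker.1 x.2)).2⟩)
          invFun := fun y => ⟨(y.1.1, y.2.1), MonoidHom.mem_ker.2 (Prod.ext y.1.2 y.2.2)⟩
          left_inv := fun _ => rfl
          right_inv := fun _ => rfl
          map_mul' := fun _ _ => rfl }
  · intro Γ _ _ σ hσ
    have hcen := fun z hz => mem_center_iff.1 (hσ.2.1 (x := z) hz)
    let G₁ : Subgroup Γ := ((MonoidHom.snd Q₁ Q₂).comp σ).ker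
    let G₂ : Subgroup Γ := ((MonoidHom.fst Q₁ Q₂).comp σ).ker
    -- the two preimages commute
    have hcomm : ∀ x ∈ G₁, ∀ y ∈ G₂, x * y = y * x := by
      have hker : ∀ x ∈ G₁, ∀ y ∈ G₂, ⁅x, y⁆ ∈ σ.ker := fun x hx y hy => by
        have hx' : (σ x).2 = 1 := hx
        have hy' : (σ y).1 = 1 := hy
        rw [MonoidHom.mem_ker, map_commutatorElement, commutatorElement_eq_one_iff_mul_comm]
        exact Prod.ext (by simp [hy']) (by simp [hx'])
      letI : CommGroup σ.ker :=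
        { σ.ker.toGroup with mul_comm := fun a b => Subtype.ext (hcen b.1 b.2 a.1) }
      have hl : ∀ a x y : Γ, ⁅a, y⁆ ∈ σ.ker → ⁅x * a, y⁆ = ⁅a, y⁆ * ⁅x, y⁆ := fun a x y h => by
        calc ⁅x * a, y⁆ = x * ⁅a, y⁆ * x⁻¹ * ⁅x, y⁆ := by simp only [commutatorElement_def]; group
          _ = ⁅a, y⁆ * ⁅x, y⁆ := by rw [hcen _ h x, mul_inv_cancel_right]
      intro x hx y hy
      rw [← commutatorElement_eq_one_iff_mul_comm]
      -- `u ↦ [u, y]` on `G₁` factors through `Q₁` and its abelianization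
      let φ : G₁ →* σ.ker := MonoidHom.mk' (fun u => ⟨⁅(u : Γ), y⁆, hker u u.2 y hy⟩)
        (fun u v => Subtype.ext (by
          show ⁅(u : Γ) * v, y⁆ = ⁅(u : Γ), y⁆ * ⁅(v : Γ), y⁆
          rw [hl _ _ _ (hker v v.2 y hy)]; exact hcen _ (hker u u.2 y hy) _))
      let ψ : G₂ →* σ.ker := MonoidHom.mk' (fun v => ⟨⁅(v : Γ), x⁆, by
          rw [← commutatorElement_inv]; exact inv_mem (hker x hx v v.2)⟩)
        (fun u v => Subtype.ext (by
          show ⁅(u : Γ) * v, x⁆ = ⁅(u : Γ), x⁆ * ⁅(v : Γ), x⁆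
          have h : ⁅(v : Γ), x⁆ ∈ σ.ker := by
            rw [← commutatorElement_inv]; exact inv_mem (hker x hx v v.2)
          have h' : ⁅(u : Γ), x⁆ ∈ σ.ker := by
            rw [← commutatorElement_inv]; exact inv_mem (hker x hx u u.2)
          rw [hl _ _ _ h]; exact hcen _ h' _))
      have hz1 : ∀ z : Γ, σ z = 1 → ∀ w : Γ, ⁅z, w⁆ = 1 := fun z hz w =>
        commutatorElement_eq_one_iff_mul_comm.2 (hcen z hz w).symm
      have d₁ : orderOf (φ ⟨x, hx⟩) ∣ Nat.card (Abelianization Q₁) := by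
        refine orderOf_dvd_abelianization φ (((MonoidHom.fst Q₁ Q₂).comp σ).comp G₁.subtype) ?_ ?_ _
        · intro q
          obtain ⟨g, hg⟩ := hσ.1 (q, 1)
          exact ⟨⟨g, show (σ g).2 = 1 by rw [hg]⟩, show (σ g).1 = q by rw [hg]⟩
        · intro u hu
          exact Subtype.ext (hz1 u (Prod.ext hu u.2) y)
      have d₂ : orderOf (ψ ⟨y, hy⟩) ∣ Nat.card (Abelianization Q₂) := by
        refine orderOf_dvd_abelianization ψ (((MonoidHom.snd Q₁ Q₂).comp σ).comp G₂.subtype) ?_ ?_ _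
        · intro q
          obtain ⟨g, hg⟩ := hσ.1 (1, q)
          exact ⟨⟨g, show (σ g).1 = 1 by rw [hg]⟩, show (σ g).2 = q by rw [hg]⟩
        · intro u hu
          exact Subtype.ext (hz1 u (Prod.ext u.2 hu) x)
      have h1 : ((φ ⟨x, hx⟩ : σ.ker) : Γ) = ⁅x, y⁆ := rfl
      have h2 : ψ ⟨y, hy⟩ = (φ ⟨x, hx⟩)⁻¹ := Subtype.ext (commutatorElement_inv x y).symm
      rw [h2, orderOf_inv] at d₂
      rw [← h1, show φ ⟨x, hx⟩ = 1 from
        orderOf_eq_one_iff.1 (Nat.eq_one_of_dvd_coprimes hcop d₁ d₂)]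
      rfl
    let σ₁' : G₁ →* Q₁ := ((MonoidHom.fst Q₁ Q₂).comp σ).comp G₁.subtype
    let σ₂' : G₂ →* Q₂ := ((MonoidHom.snd Q₁ Q₂).comp σ).comp G₂.subtype
    have hs₁ : Function.Surjective σ₁' := fun q => by
      obtain ⟨g, hg⟩ := hσ.1 (q, 1)
      exact ⟨⟨g, show (σ g).2 = 1 by rw [hg]⟩, show (σ g).1 = q by rw [hg]⟩
    have hs₂ : Function.Surjective σ₂' := fun q => by
      obtain ⟨g, hg⟩ := hσ.1 (1, q)
      exact ⟨⟨g, show (σ g).1 = 1 by rw [hg]⟩, show (σ g).2 = q by rw [hg]⟩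
    obtain ⟨π₁, hk₁, hπ₁⟩ := exists_of_mem_commutator σ₁' hs₁ (fun u hu => mem_center_iff.2 fun w =>
      Subtype.ext (hcen u (MonoidHom.mem_ker.2 (Prod.ext hu u.2)) w))
    obtain ⟨π₂, hk₂, hπ₂⟩ := exists_of_mem_commutator σ₂' hs₂ (fun u hu => mem_center_iff.2 fun w =>
      Subtype.ext (hcen u (MonoidHom.mem_ker.2 (Prod.ext u.2 hu)) w))
    -- products of elements of the two preimages
    have hdec : ∀ g : Γ, ∃ a ∈ G₁, ∃ b ∈ G₂, a * b = g := fun g => by
      obtain ⟨⟨a, ha⟩, e⟩ := hs₁ (σ g).1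
      refine ⟨a, ha, a⁻¹ * g, ?_, mul_inv_cancel_left a g⟩
      show (σ (a⁻¹ * g)).1 = 1
      rw [map_mul, map_inv, Prod.fst_mul, Prod.fst_inv, show (σ a).1 = (σ g).1 from e, inv_mul_cancel]
    let M : G₁ × G₂ →* Γ := MonoidHom.noncommCoprod G₁.subtype G₂.subtype
      (fun a b => hcomm a a.2 b b.2)
    have hM : Function.Surjective M := fun g => by
      obtain ⟨a, ha, b, hb, e⟩ := hdec g
      exact ⟨(⟨a, ha⟩, ⟨b, hb⟩), by exact e⟩
    let ι : A × B →* Γ := MonoidHom.noncommCoprod (G₁.subtype.comp (π₁.comp m₁.toMonoidHom))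
      (G₂.subtype.comp (π₂.comp m₂.toMonoidHom)) (fun a b => hcomm _ (π₁ (m₁ a)).2 _ (π₂ (m₂ b)).2)
    have hrange : σ.ker ≤ ι.range := by
      intro z hz
      have h : z ∈ (commutator (G₁ × G₂)).map M := by
        rw [_root_.commutator_def, map_commutator, ← MonoidHom.range_eq_map,
          MonoidHom.range_eq_top.2 hM]
        exact hσ.2.2 hz
      obtain ⟨⟨a, b⟩, hab, rfl⟩ := h
      rw [_root_.commutator_def, ← top_prod_top, commutator_prod_prod] at hab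
      replace hab := mem_prod.1 hab
      have hσab : σ (M (a, b)) = 1 := hz
      change σ ((a : Γ) * b) = 1 at hσab
      have ha : (σ (a : Γ)).1 = 1 := by
        have := congrArg Prod.fst hσab
        rwa [map_mul, Prod.fst_mul, show (σ (b : Γ)).1 = 1 from b.2, mul_one] at this
      have hb : (σ (b : Γ)).2 = 1 := by
        have := congrArg Prod.snd hσab
        rwa [map_mul, Prod.snd_mul, show (σ (a : Γ)).2 = 1 from a.2, one_mul] at this
      obtain ⟨x, hx⟩ := hπ₁ a ha (by rw [_root_.commutator_def]; exact hab.1)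
      obtain ⟨w, hw⟩ := hπ₂ b hb (by rw [_root_.commutator_def]; exact hab.2)
      refine ⟨(m₁.symm x, m₂.symm w), ?_⟩
      show (π₁ (m₁ (m₁.symm x)) : Γ) * (π₂ (m₂ (m₂.symm w)) : Γ) = (a : Γ) * b
      rw [MulEquiv.apply_symm_apply, MulEquiv.apply_symm_apply, hx, hw]
    refine ⟨(ι.codRestrict σ.ker ?_), fun z => ?_⟩
    · rintro ⟨a, b⟩
      show σ ((π₁ (m₁ a) : Γ) * (π₂ (m₂ b) : Γ)) = 1
      rw [map_mul, show σ (π₁ (m₁ a) : Γ) = 1 from Prod.ext (hk₁ (m₁ a)) (π₁ (m₁ a)).2,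
        show σ (π₂ (m₂ b) : Γ) = 1 from Prod.ext (π₂ (m₂ b)).2 (hk₂ (m₂ b)), one_mul]
    · obtain ⟨p, hp⟩ := hrange z.2
      exact ⟨p, Subtype.ext hp⟩

end Cfsg.Agent.S3980
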