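import Cfsg.Statements.S3981
import Mathlib.GroupTheory.Sylow
import Mathlib.GroupTheory.Nilpotent

set_option autoImplicit false
open Cfsg

namespace Cfsg.Agent.S3981

/-- Let p be an odd prime, Q a p-subgroup of the finite group G and y an involution normalizing Q. Then Q is maximal among the p-subgroups of G normalized by y if and only if the image of y in N_G(Q) ⧸ Q neither inverts nor centralizes any element of order p there; the latter is phrased inside N_G(Q): for every x in N_G(Q) outside Q with x ^ p ∈ Q, neither y x y⁻¹ x nor y x y⁻¹ x⁻¹ lies in Q. -/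
theorem result {G : Type*} [Group G] [Finite G] (p : ℕ) [Fact p.Prime] (hp2 : p ≠ 2) (Q : Subgroup G) (hQ : IsPGroup p ↥Q) (y : G) (hy : orderOf y = 2) (hyQ : y ∈ Subgroup.normalizer (Q : Set G)) : (∀ R : Subgroup G, IsPGroup p ↥R → Q ≤ R → y ∈ Subgroup.normalizer (R : Set G) → R = Q) ↔ ∀ x : G, x ∈ Subgroup.normalizer (Q : Set G) → x ∉ Q → x ^ p ∈ Q → (y * x * y⁻¹ * x ∉ Q ∧ y * x * y⁻¹ * x⁻¹ ∉ Q) := by
  set N := Subgroup.normalizer (Q : Set G) with hN
  have hy2 : y * y = 1 := by rw [← sq, ← hy]; exact pow_orderOf_eq_one y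
  have hyy : y⁻¹ = y := inv_eq_of_mul_eq_one_right hy2
  have conjN : ∀ {a : G}, a ∈ N → ∀ q, q ∈ Q ↔ a * q * a⁻¹ ∈ Q := fun ha q =>
    Subgroup.mem_normalizer_iff.1 ha q
  constructor
  · intro hmax x hx hxQ hxp
    have key : y * x * y⁻¹ ∈ Q ⊔ Subgroup.zpowers x → False := by
      intro h
      have hR : IsPGroup p ↥(Q ⊔ Subgroup.zpowers x) := by
        rw [sup_comm]
        refine IsPGroup.to_sup_of_normal_right' ?_ hQ ?_
        · obtain ⟨k, hk⟩ := hQ ⟨_, hxp⟩
          refine IsPGroup.of_card_dvd_pow (n := k + 1) ?_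
          rw [Nat.card_zpowers]
          refine orderOf_dvd_of_pow_eq_one ?_
          rw [pow_succ', pow_mul]
          exact congrArg Subtype.val hk
        · rw [Subgroup.zpowers_le]; exact hx
      have hle : (Q ⊔ Subgroup.zpowers x).map (MulAut.conj y).toMonoidHom
          ≤ Q ⊔ Subgroup.zpowers x := by
        rw [Subgroup.map_sup, sup_le_iff]
        constructor
        · rintro _ ⟨q, hq, rfl⟩
          exact Subgroup.mem_sup_left ((conjN hyQ q).1 hq)
        · rw [MonoidHom.map_zpowers, Subgroup.zpowers_le]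
          exact h
      have hyR : y ∈ Subgroup.normalizer ((Q ⊔ Subgroup.zpowers x : Subgroup G) : Set G) := by
        refine Subgroup.mem_normalizer_iff.2 fun a => ⟨fun ha => hle ⟨a, ha, rfl⟩, fun ha => ?_⟩
        have h1 : y * (y * a * y⁻¹) * y⁻¹ = a := by
          rw [hyy]; simp only [← mul_assoc, hy2, one_mul]; rw [mul_assoc, hy2, mul_one]
        exact h1 ▸ hle ⟨_, ha, rfl⟩
      exact hxQ (hmax _ hR le_sup_left hyR ▸
        Subgroup.mem_sup_right (Subgroup.mem_zpowers x))
    have hmem : ∀ {e : G}, e ∈ Subgroup.zpowers x → y * x * y⁻¹ * e ∈ Q → False := by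
      intro e he h
      refine key ?_
      have h1 := Subgroup.mul_mem _ (Subgroup.mem_sup_left (T := Subgroup.zpowers x) h)
        (Subgroup.mem_sup_right (S := Q) (Subgroup.inv_mem _ he))
      rwa [mul_inv_cancel_right] at h1
    exact ⟨hmem (Subgroup.mem_zpowers x), hmem (Subgroup.inv_mem _ (Subgroup.mem_zpowers x))⟩
  · intro h R hR hQR hyR
    by_contra hne
    have hlt : Q < R := lt_of_le_of_ne hQR (Ne.symm hne)
    have : Group.IsNilpotent R := hR.isNilpotent
    have hlt' : Q.subgroupOf R < ⊤ := by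
      rw [lt_top_iff_ne_top, Ne, Subgroup.subgroupOf_eq_top]
      exact fun h' => hne (le_antisymm h' hQR)
    have hnc := normalizerCondition_of_isNilpotent (G := R) (Q.subgroupOf R) hlt'
    set S := R ⊓ N with hS
    have hQS : Q ≤ S := le_inf hQR Subgroup.le_normalizer
    have hnorm : (Q.subgroupOf S).Normal :=
      ⟨fun q hq g => Subgroup.mem_subgroupOf.2 (by
        simpa using (conjN g.2.2 (q : G)).1 (Subgroup.mem_subgroupOf.1 hq))⟩
    obtain ⟨r, hr, hrQ⟩ := SetLike.exists_of_lt hnc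
    have hrN : (r : G) ∈ S := by
      refine ⟨r.2, Subgroup.mem_normalizer_iff.2 fun q => ⟨fun hq => ?_, fun hq => ?_⟩⟩
      · have := (Subgroup.mem_normalizer_iff.1 hr ⟨q, hQR hq⟩).1 (Subgroup.mem_subgroupOf.2 hq)
        simpa [Subgroup.mem_subgroupOf] using this
      · have hqR : q ∈ R := by
          have := R.mul_mem (R.mul_mem (R.inv_mem r.2) (hQR hq)) r.2
          simpa [mul_assoc] using this
        refine (Subgroup.mem_subgroupOf).1
          ((Subgroup.mem_normalizer_iff.1 hr ⟨q, hqR⟩).2 (Subgroup.mem_subgroupOf.2 ?_))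
        simpa using hq
    let M := ↥S ⧸ Q.subgroupOf S
    let π : S →* M := QuotientGroup.mk' _
    have hπ : ∀ s : S, π s = 1 ↔ (s : G) ∈ Q := fun s =>
      (QuotientGroup.eq_one_iff s).trans Subgroup.mem_subgroupOf
    have hMp : IsPGroup p M := ((hR.to_le inf_le_left).to_quotient _)
    have : Nontrivial M := ⟨⟨π ⟨r, hrN⟩, 1, fun h' =>
      hrQ (Subgroup.mem_subgroupOf.2 ((hπ _).1 h'))⟩⟩
    have := hMp.center_nontrivial
    obtain ⟨k, hk0, hk⟩ := (hMp.to_subgroup (Subgroup.center M)).nontrivial_iff_card.1 this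
    obtain ⟨z, hz⟩ := exists_prime_orderOf_dvd_card' (G := Subgroup.center M) p
      (by rw [hk]; exact dvd_pow_self p hk0.ne')
    obtain ⟨x, hx⟩ := QuotientGroup.mk'_surjective (Q.subgroupOf S) (z : M)
    change π x = _ at hx
    have hz' : orderOf (π x) = p := by rw [hx, Subgroup.orderOf_coe]; exact hz
    have hxc : ∀ s, π x * π s = π s * π x := fun s => by
      rw [hx]; exact (Subgroup.mem_center_iff.1 z.2 (π s)).symm
    have hyS : ∀ s : S, y * (s : G) * y⁻¹ ∈ S := fun s =>
      ⟨(Subgroup.mem_normalizer_iff.1 hyR _).1 s.2.1,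
        N.mul_mem (N.mul_mem hyQ s.2.2) (N.inv_mem hyQ)⟩
    let x' : S := ⟨y * (x : G) * y⁻¹, hyS x⟩
    have hx'p : π x' ^ p = 1 := by
      rw [← map_pow, hπ]
      have h1 : ((x : G)) ^ p ∈ Q := by
        have := (hπ (x ^ p)).1 (by rw [map_pow, ← hz']; exact pow_orderOf_eq_one _)
        simpa using this
      have h2 := (conjN hyQ _).1 h1
      rw [← conj_pow] at h2
      simpa [x'] using h2
    have hxQ : (x : G) ∉ Q := fun h' => (Fact.out : p.Prime).ne_one
      (by rw [← hz', orderOf_eq_one_iff]; exact (hπ x).2 h')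
    by_cases hb : ((x * x' : S) : G) ∈ Q
    · have h1 := (conjN (N.inv_mem x.2.2) _).1 hb
      have h2 : y * (x : G) * y⁻¹ * x ∈ Q := by
        simpa [x', mul_assoc] using h1
      exact (h x x.2.2 hxQ (by
        simpa using (hπ (x ^ p)).1 (by rw [map_pow, ← hz']; exact pow_orderOf_eq_one _))).1 h2
    · have hbp : ((x * x' : S) : G) ^ p ∈ Q := by
        rw [← Subgroup.coe_pow, ← hπ, map_pow, map_mul, Commute.mul_pow (hxc x'), hx'p, ← hz',
          pow_orderOf_eq_one, one_mul]
      refine (h _ (x * x' : S).2.2 hb hbp).2 ?_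
      have h1 : ((x' * x * (x'⁻¹ * x⁻¹) : S) : G) ∈ Q := by
        rw [← hπ]
        simp only [map_mul, map_inv]
        rw [← hxc x']; group
      have h2 : y * ((x * x' : S) : G) * y⁻¹ * ((x * x' : S) : G)⁻¹
          = ((x' * x * (x'⁻¹ * x⁻¹) : S) : G) := by
        simp only [x', Subgroup.coe_mul, Subgroup.coe_inv, hyy]
        simp only [mul_inv_rev, hyy, mul_assoc]
        rw [← mul_assoc y y, hy2, one_mul]
      rw [h2]; exact h1

end Cfsg.Agent.S3981
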