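import Cfsg.Statements.S3982
import Mathlib.GroupTheory.Sylow
import Mathlib.GroupTheory.Nilpotent
import Mathlib.GroupTheory.Perm.Cycle.Type
import Mathlib.GroupTheory.FixedPointFree

set_option autoImplicit false
open Cfsg

namespace Cfsg.Agent.S3982

/-- Let p be an odd prime and G a finite group of even order divisible by p in which the centralizer of every non-identity p-element has odd order. If some nontrivial p-subgroup of G has a normalizer of even order, then the normalizer of every Sylow p-subgroup of G has even order. -/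
theorem result {G : Type*} [Group G] [Finite G] (p : ℕ) [Fact p.Prime] (hp2 : p ≠ 2) (hpG : p ∣ Nat.card G) (h2G : 2 ∣ Nat.card G) (hC : ∀ g : G, g ≠ 1 → (∃ k : ℕ, orderOf g = p ^ k) → Odd (Nat.card ↥(Subgroup.centralizer ({g} : Set G)))) (Q : Subgroup G) (hQ : IsPGroup p ↥Q) (hQ1 : Q ≠ ⊥) (hev : Even (Nat.card ↥(Subgroup.normalizer (Q : Set G)))) (P : Sylow p G) : Even (Nat.card ↥(Subgroup.normalizer ((P : Subgroup G) : Set G))) := by
  have hpp : p.Prime := Fact.out
  -- `Fg6`: an involution normalising a nontrivial `p`-subgroup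
  obtain ⟨y', hy'⟩ := exists_prime_orderOf_dvd_card' (G := Subgroup.normalizer (Q : Set G)) 2
    (even_iff_two_dvd.1 hev)
  set y : G := (y' : G) with hydef
  have hy : orderOf y = 2 := by rw [hydef, Subgroup.orderOf_coe]; exact hy'
  have hy2 : y * y = 1 := by rw [← sq, ← hy]; exact pow_orderOf_eq_one y
  have hyy : y⁻¹ = y := inv_eq_of_mul_eq_one_right hy2
  have hnc : ∀ g : G, g ≠ 1 → (∃ k : ℕ, orderOf g = p ^ k) → y * g ≠ g * y := by
    intro g hg hgp hc
    have h1 : y ∈ Subgroup.centralizer ({g} : Set G) :=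
      Subgroup.mem_centralizer_singleton_iff.2 hc
    have h2 := Subgroup.orderOf_dvd_natCard _ h1
    rw [hy] at h2
    exact (Nat.not_even_iff_odd.2 (hC g hg hgp)) (even_iff_two_dvd.2 h2)
  let A : Set (Subgroup G) :=
    {R | IsPGroup p R ∧ y ∈ Subgroup.normalizer (R : Set G) ∧ Q ≤ R}
  obtain ⟨R, -, hR⟩ := (Set.toFinite A).exists_le_maximal (a := Q) ⟨hQ, y'.2, le_rfl⟩
  obtain ⟨⟨hRp, hyR, hQR⟩, hmax⟩ := hR
  have hconjR : ∀ r, r ∈ R → y * r * y⁻¹ ∈ R := fun r hr =>
    (Subgroup.mem_normalizer_iff.1 hyR r).1 hr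
  -- `y` inverts `R`
  have hinv : ∀ r, r ∈ R → y * r * y⁻¹ = r⁻¹ := by
    let φ : R →* R :=
      { toFun := fun r => ⟨y * r * y⁻¹, hconjR r r.2⟩
        map_one' := by ext; simp
        map_mul' := fun a b => by ext; simp [mul_assoc] }
    have h1 : MonoidHom.FixedPointFree φ := by
      intro r hr
      by_contra hne
      refine hnc (r : G) (by simpa using hne) ?_ ?_
      · obtain ⟨k, hk⟩ := IsPGroup.iff_orderOf.1 hRp r
        exact ⟨k, by rw [Subgroup.orderOf_coe]; exact hk⟩
      · exact mul_inv_eq_iff_eq_mul.1 (congrArg Subtype.val hr)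
    have h2 : Function.Involutive φ := fun r => by
      ext
      show y * (y * (r : G) * y⁻¹) * y⁻¹ = r
      rw [hyy]; simp only [← mul_assoc, hy2, one_mul]; rw [mul_assoc, hy2, mul_one]
    intro r hr
    exact congrArg Subtype.val (congrFun (h1.coe_eq_inv_of_involutive h2) ⟨r, hr⟩)
  obtain ⟨q, hq, hq1⟩ := (Subgroup.ne_bot_iff_exists_ne_one.1 hQ1).elim
    (fun a ha => (⟨a.1, a.2, by simpa using ha⟩ : ∃ q : G, q ∈ Q ∧ q ≠ 1))
  have hRcomm : ∀ a ∈ R, ∀ b ∈ R, a * b = b * a := by
    intro a ha b hb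
    have h1 := hinv _ (R.mul_mem ha hb)
    rw [show y * (a * b) * y⁻¹ = (y * a * y⁻¹) * (y * b * y⁻¹) by group, hinv a ha, hinv b hb,
      mul_inv_rev] at h1
    simpa using congrArg (fun t : G => t⁻¹) h1.symm
  set C := Subgroup.centralizer (R : Set G) with hCdef
  have hRC : R ≤ C := fun r hr => Subgroup.mem_centralizer_iff.2 fun s hs => hRcomm s hs r hr
  have hCodd : Odd (Nat.card C) := by
    obtain ⟨k, hk⟩ := IsPGroup.iff_orderOf.1 hRp ⟨q, hQR hq⟩
    have h1 := hC q hq1 ⟨k, by rw [← Subgroup.orderOf_mk q (hQR hq)]; exact hk⟩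
    refine Odd.of_dvd_nat h1 (Subgroup.card_dvd_of_le ?_)
    exact fun c hc => Subgroup.mem_centralizer_singleton_iff.2
      ((Subgroup.mem_centralizer_iff.1 hc q (hQR hq)).symm)
  -- every Sylow subgroup of `C` has the order of `R`
  have hyC : ∀ c, c ∈ C → y * c * y⁻¹ ∈ C := by
    intro c hc
    refine Subgroup.mem_centralizer_iff.2 fun s hs => ?_
    have h1 := Subgroup.mem_centralizer_iff.1 hc _ (hconjR s hs)
    have h2 := congrArg (fun t => y * t * y⁻¹) h1
    simp only [hyy] at h2 ⊢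
    simpa [mul_assoc, ← mul_assoc y y, hy2] using h2
  let α : MulAut C :=
    { toFun := fun c => ⟨y * c * y⁻¹, hyC c c.2⟩
      invFun := fun c => ⟨y * c * y⁻¹, hyC c c.2⟩
      left_inv := fun c => by
        ext; simp [hyy, mul_assoc, ← mul_assoc y y, hy2]
      right_inv := fun c => by
        ext; simp [hyy, mul_assoc, ← mul_assoc y y, hy2]
      map_mul' := fun a b => by ext; simp [mul_assoc] }
  have hα : α * α = 1 := MulEquiv.ext fun c => by
    ext
    show y * (y * (c : G) * y⁻¹) * y⁻¹ = c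
    simp [hyy, mul_assoc, ← mul_assoc y y, hy2]
  have hSyl : ∀ T : Sylow p C, Nat.card T = Nat.card R := by
    have hRn : (R.subgroupOf C).Normal := ⟨fun r hr c => Subgroup.mem_subgroupOf.2 (by
      have h1 := Subgroup.mem_centralizer_iff.1 c.2 _ (Subgroup.mem_subgroupOf.1 hr)
      have h2 : ((c * r * c⁻¹ : C) : G) = r := by
        simp only [Subgroup.coe_mul, Subgroup.coe_inv]; rw [← h1, mul_inv_cancel_right]
      rw [h2]; exact Subgroup.mem_subgroupOf.1 hr)⟩
    have := Fintype.ofFinite (Sylow p C)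
    let σ : Equiv.Perm (Sylow p C) := MulAction.toPerm α
    obtain ⟨T₀, hT₀⟩ := Equiv.Perm.exists_fixed_point_of_prime (p := 2) (n := 1) (σ := σ)
      (by
        rw [← Nat.card_eq_fintype_card]
        intro h
        obtain ⟨P₀⟩ := (inferInstance : Nonempty (Sylow p C))
        exact (Nat.not_even_iff_odd.2 hCodd) (even_iff_two_dvd.2
          (h.trans ((Sylow.card_dvd_index P₀).trans (Subgroup.index_dvd_card _)))))
      (by
        rw [pow_one, sq]
        ext1 T
        show α • α • T = T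
        rw [smul_smul, hα, one_smul])
    have hRT : R.subgroupOf C ≤ (T₀ : Subgroup C) := by
      obtain ⟨T₁, hT₁⟩ := (hRp.comap_subtype (K := C)).exists_le_sylow
      obtain ⟨c, rfl⟩ := MulAction.exists_smul_eq C T₁ T₀
      intro r hr
      rw [Sylow.coe_subgroup_smul, Subgroup.mem_pointwise_smul_iff_inv_smul_mem]
      exact hT₁ (by simpa using hRn.conj_mem r hr c⁻¹)
    have hmapT : (T₀ : Subgroup C).map C.subtype ≤ R := by
      refine hmax ⟨T₀.2.map _, ?_, ?_⟩ ?_
      · refine Subgroup.mem_normalizer_iff.2 ?_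
        have h1 : ∀ a, a ∈ (T₀ : Subgroup C).map C.subtype →
            y * a * y⁻¹ ∈ (T₀ : Subgroup C).map C.subtype := by
          rintro _ ⟨t, ht, rfl⟩
          refine ⟨α t, ?_, rfl⟩
          have h2 : α • T₀ = T₀ := hT₀
          rw [← h2]
          exact Subgroup.smul_mem_pointwise_smul t α _ ht
        refine fun a => ⟨h1 a, fun ha => ?_⟩
        have h2 := h1 _ ha
        simpa [hyy, mul_assoc, ← mul_assoc y y, hy2] using h2
      · exact hQR.trans fun r hr => ⟨⟨r, hRC hr⟩, hRT (Subgroup.mem_subgroupOf.2 hr), rfl⟩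
      · exact fun r hr => ⟨⟨r, hRC hr⟩, hRT (Subgroup.mem_subgroupOf.2 hr), rfl⟩
    intro T
    rw [T.card_eq_multiplicity, ← T₀.card_eq_multiplicity,
      ← Subgroup.card_map_of_injective (f := C.subtype) C.subtype_injective]
    exact le_antisymm (Subgroup.card_le_of_le hmapT) (Subgroup.card_le_of_le
      fun r hr => ⟨⟨r, hRC hr⟩, hRT (Subgroup.mem_subgroupOf.2 hr), rfl⟩)
  -- hence `R` is a Sylow subgroup
  obtain ⟨P₁, hP₁⟩ := hRp.exists_le_sylow
  have heq : R = (P₁ : Subgroup G) := by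
    by_contra hne
    have : Group.IsNilpotent P₁ := P₁.2.isNilpotent
    have hlt' : R.subgroupOf P₁ < ⊤ := by
      rw [lt_top_iff_ne_top, Ne, Subgroup.subgroupOf_eq_top]
      exact fun h' => hne (le_antisymm hP₁ h')
    obtain ⟨m, hm, hmR⟩ := SetLike.exists_of_lt
      (normalizerCondition_of_isNilpotent (G := P₁) (R.subgroupOf P₁) hlt')
    set n : G := (m : G) with hn
    have hnR : n ∉ R := fun h => hmR (Subgroup.mem_subgroupOf.2 h)
    have hnN : ∀ r, r ∈ R → n * r * n⁻¹ ∈ R := fun r hr => by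
      have := (Subgroup.mem_normalizer_iff.1 hm ⟨r, hP₁ hr⟩).1 (Subgroup.mem_subgroupOf.2 hr)
      simpa [Subgroup.mem_subgroupOf] using this
    have hnN' : ∀ r, r ∈ R → n⁻¹ * r * n ∈ R := fun r hr => by
      have := (Subgroup.mem_normalizer_iff.1 (Subgroup.inv_mem _ hm) ⟨r, hP₁ hr⟩).1
        (Subgroup.mem_subgroupOf.2 hr)
      simpa [Subgroup.mem_subgroupOf] using this
    set z := n * y * n⁻¹ * y with hz
    have hzC : z ∈ C := Subgroup.mem_centralizer_iff.2 fun r hr => by
      have h1 : z * r * z⁻¹ = r := by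
        have e1 : z * r * z⁻¹ = n * (y * (n⁻¹ * (y * r * y⁻¹) * n) * y⁻¹) * n⁻¹ := by
          rw [hz]; group
        rw [e1, hinv r hr, hinv _ (hnN' _ (R.inv_mem hr))]
        group
      exact (mul_inv_eq_iff_eq_mul.1 h1).symm
    obtain ⟨k, hk⟩ : Odd (orderOf z) := Odd.of_dvd_nat hCodd (Subgroup.orderOf_dvd_natCard _ hzC)
    set c := z ^ (k + 1) with hc
    have hcc : c * c = z := by
      rw [hc, ← pow_add, show k + 1 + (k + 1) = orderOf z + 1 by omega, pow_succ,
        pow_orderOf_eq_one, one_mul]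
    have hyc : y * c * y⁻¹ = c⁻¹ := by
      rw [hc, ← conj_pow, ← inv_pow]
      congr 1
      rw [hz]
      simp [hyy, mul_assoc, ← mul_assoc y y, hy2]
    have hd : y * (c⁻¹ * n) = c⁻¹ * n * y := by
      have h1 : y * c⁻¹ = c * y := by
        have h2 : y * c⁻¹ * y⁻¹ = c := by
          have := congrArg (fun t => t⁻¹) hyc
          simpa [mul_assoc] using this
        exact mul_inv_eq_iff_eq_mul.1 h2
      have h3 : n * y = z * y * n := by
        rw [hz]; simp [mul_assoc, ← mul_assoc y y, hy2]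
      calc y * (c⁻¹ * n) = c * y * n := by rw [← mul_assoc, h1]
        _ = c⁻¹ * (z * y * n) := by rw [← hcc]; group
        _ = c⁻¹ * n * y := by rw [← h3, mul_assoc]
    set d := c⁻¹ * n with hddef
    have hcop : Nat.Coprime p (orderOf d) := (Nat.Prime.coprime_iff_not_dvd hpp).2 fun h => by
      have ho := orderOf_pow_of_dvd (x := d) (n := orderOf d / p)
        (Nat.div_pos (Nat.le_of_dvd (orderOf_pos d) h) hpp.pos).ne' (Nat.div_dvd_of_dvd h)
      rw [Nat.div_div_self h (orderOf_pos d).ne'] at ho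
      refine hnc (d ^ (orderOf d / p)) (fun h1 => hpp.ne_one (by rw [← ho, h1]; exact orderOf_one)) ⟨1, by rw [ho, pow_one]⟩ ?_
      exact ((Commute.pow_right (hd : Commute y d) _) : Commute y _)
    have hact : ∀ i : ℕ, ∀ r, r ∈ R →
        n ^ i * r * (n ^ i)⁻¹ = d ^ i * r * (d ^ i)⁻¹ ∧ n ^ i * r * (n ^ i)⁻¹ ∈ R := by
      intro i
      induction i with
      | zero => intro r hr; simpa using hr
      | succ i ih =>
        intro r hr
        obtain ⟨h1, h2⟩ := ih r hr
        have hcC : c ∈ C := C.pow_mem hzC _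
        have hd1 : ∀ s, s ∈ R → n * s * n⁻¹ = d * s * d⁻¹ := fun s hs => by
          have h3 := Subgroup.mem_centralizer_iff.1 hcC _ (hnN s hs)
          have h4 : c⁻¹ * (n * s * n⁻¹) * c = n * s * n⁻¹ := by
            rw [mul_assoc, h3, inv_mul_cancel_left]
          conv_lhs => rw [← h4]
          rw [hddef]; group
        have e : n ^ (i + 1) * r * (n ^ (i + 1))⁻¹ = n * (n ^ i * r * (n ^ i)⁻¹) * n⁻¹ := by
          rw [pow_succ']; group
        refine ⟨?_, e ▸ hnN _ h2⟩
        rw [e, hd1 _ h2, h1, pow_succ']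
        group
    have hnm : n ^ orderOf d ∈ C := Subgroup.mem_centralizer_iff.2 fun r hr => by
      have h1 := (hact (orderOf d) r hr).1
      rw [pow_orderOf_eq_one, one_mul, inv_one, mul_one] at h1
      exact (mul_inv_eq_iff_eq_mul.1 h1).symm
    obtain ⟨a, ha⟩ := IsPGroup.iff_orderOf.1 P₁.2 m
    have hnC : n ∈ C := by
      obtain ⟨e, he⟩ := exists_pow_eq_self_of_coprime (x := n) (n := orderOf d) (by
        rw [show orderOf n = p ^ a by rw [hn, Subgroup.orderOf_coe]; exact ha]
        exact (Nat.Coprime.pow_left a hcop).symm)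
      rw [← he]; exact C.pow_mem hnm e
    obtain ⟨T, hT⟩ := ((P₁.2).comap_subtype (K := C)).exists_le_sylow
    have hRT : R.subgroupOf C ≤ (T : Subgroup C) := le_trans (fun r hr => hP₁ hr) hT
    have heqT := Subgroup.eq_of_le_of_card_ge hRT (by
      rw [hSyl T]
      exact (Nat.card_congr (Subgroup.subgroupOfEquivOfLe hRC).toEquiv).ge)
    exact hnR (Subgroup.mem_subgroupOf.1 (heqT ▸ hT (show (⟨n, hnC⟩ : C) ∈
      (P₁ : Subgroup G).comap C.subtype from m.2) : (⟨n, hnC⟩ : C) ∈ R.subgroupOf C))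
  obtain ⟨g, rfl⟩ := MulAction.exists_smul_eq G P₁ P
  have h1 : g * y * g⁻¹ ∈
      Subgroup.normalizer (((g • P₁ : Sylow p G) : Subgroup G) : Set G) := by
    refine (Sylow.smul_eq_iff_mem_normalizer (P := g • P₁)).1 ?_
    have h2 : y • P₁ = P₁ := Sylow.smul_eq_iff_mem_normalizer.2 (by rw [heq] at hyR; exact hyR)
    rw [smul_smul, inv_mul_cancel_right, ← smul_smul, h2]
  have h3 := Subgroup.orderOf_dvd_natCard _ h1
  rw [show g * y * g⁻¹ = MulAut.conj g y from rfl, MulEquiv.orderOf_eq, hy] at h3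
  exact even_iff_two_dvd.2 h3

end Cfsg.Agent.S3982
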