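import Cfsg.Statements.S3983
import Mathlib.GroupTheory.Sylow

set_option autoImplicit false
open scoped Pointwise
open Cfsg

namespace Cfsg.Agent.S3983

/-- Let P be a Sylow p-subgroup of the finite group G that meets each conjugate g P g⁻¹ with g outside N_G(P) trivially, and let U be a subgroup of G of order divisible by p. Then a Sylow p-subgroup Q of U has the same property inside U: Q meets each conjugate u Q u⁻¹ with u ∈ U outside N_U(Q) trivially. -/
theorem result {G : Type*} [Group G] [Finite G] (p : ℕ) [Fact p.Prime] (P : Sylow p G) (hTI : ∀ g : G, g ∉ Subgroup.normalizer ((P : Subgroup G) : Set G) → (P : Subgroup G) ⊓ (MulAut.conj g • (P : Subgroup G)) = ⊥) (U : Subgroup G) (hU : p ∣ Nat.card ↥U) (Q : Sylow p ↥U) : ∀ u : ↥U, u ∉ Subgroup.normalizer ((Q : Subgroup ↥U) : Set ↥U) → (Q : Subgroup ↥U) ⊓ (MulAut.conj u • (Q : Subgroup ↥U)) = ⊥ := by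
  intro u hu
  have hQ : IsPGroup p ((Q : Subgroup U).map U.subtype) := Q.2.map _
  obtain ⟨R, hR⟩ := hQ.exists_le_sylow
  obtain ⟨a, ha⟩ := MulAction.exists_smul_eq G P R
  have hmax : (R : Subgroup G).subgroupOf U = Q := by
    refine Q.3 (R.2.comap_subtype) ?_
    intro x hx
    exact hR ⟨x, hx, rfl⟩
  by_contra hne
  obtain ⟨⟨y, hy⟩, hy1⟩ := Subgroup.ne_bot_iff_exists_ne_one.1 hne
  rw [Subgroup.mem_inf, Subgroup.mem_pointwise_smul_iff_inv_smul_mem, ← map_inv, MulAut.smul_def,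
    MulAut.conj_apply, inv_inv] at hy
  have hyR : (y : G) ∈ (R : Subgroup G) := hR ⟨y, hy.1, rfl⟩
  have hy'R : (u : G)⁻¹ * y * u ∈ (R : Subgroup G) := hR ⟨_, hy.2, rfl⟩
  have hconjR : ∀ z : G, z ∈ (R : Subgroup G) ↔ a⁻¹ * z * a ∈ (P : Subgroup G) := by
    intro z
    rw [← ha, Sylow.coe_subgroup_smul, Subgroup.mem_pointwise_smul_iff_inv_smul_mem,
      ← map_inv, MulAut.smul_def, MulAut.conj_apply, inv_inv]
  have hN : a⁻¹ * u * a ∈ Subgroup.normalizer ((P : Subgroup G) : Set G) := by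
    by_contra hg
    refine hy1 (Subtype.ext (Subtype.ext ?_))
    have hz : a⁻¹ * (y : G) * a ∈ (P : Subgroup G) ⊓ (MulAut.conj (a⁻¹ * u * a) • (P : Subgroup G)) := by
      refine ⟨(hconjR _).1 hyR, ?_⟩
      show _ ∈ MulAut.conj (a⁻¹ * (u : G) * a) • (P : Subgroup G)
      rw [Subgroup.mem_pointwise_smul_iff_inv_smul_mem, ← map_inv, MulAut.smul_def, MulAut.conj_apply, inv_inv]
      convert (hconjR _).1 hy'R using 1
      group
    rw [hTI _ hg, Subgroup.mem_bot] at hz
    have : (y : G) = a * (a⁻¹ * y * a) * a⁻¹ := by group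
    rw [this, hz]; simp
  refine hu (Subgroup.mem_normalizer_iff.2 fun z => ?_)
  rw [← hmax, Subgroup.mem_subgroupOf, Subgroup.mem_subgroupOf, hconjR, hconjR,
    (Subgroup.mem_normalizer_iff.1 hN (a⁻¹ * (z : G) * a))]
  push_cast
  exact Iff.of_eq (by congr 1; group)

end Cfsg.Agent.S3983
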