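import Cfsg.Statements.S3984
import Mathlib.GroupTheory.Sylow
import Mathlib.GroupTheory.QuotientGroup.Basic

set_option autoImplicit false
open scoped Pointwise
open Cfsg

namespace Cfsg.Agent.S3984

/-- Let P be a Sylow p-subgroup of the finite group G that meets each conjugate g P g⁻¹ with g outside N_G(P) trivially, and let N be a normal subgroup of G of order prime to p. Then every Sylow p-subgroup Q of G ⧸ N meets each conjugate x Q x⁻¹ with x outside its normalizer trivially. -/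
theorem result {G : Type*} [Group G] [Finite G] (p : ℕ) [Fact p.Prime] (P : Sylow p G) (hTI : ∀ g : G, g ∉ Subgroup.normalizer ((P : Subgroup G) : Set G) → (P : Subgroup G) ⊓ (MulAut.conj g • (P : Subgroup G)) = ⊥) (N : Subgroup G) [N.Normal] (hN : (Nat.card ↥N).Coprime p) (Q : Sylow p (G ⧸ N)) : ∀ x : G ⧸ N, x ∉ Subgroup.normalizer ((Q : Subgroup (G ⧸ N)) : Set (G ⧸ N)) → (Q : Subgroup (G ⧸ N)) ⊓ (MulAut.conj x • (Q : Subgroup (G ⧸ N))) = ⊥ := by
  intro x hx
  obtain ⟨g, rfl⟩ := QuotientGroup.mk'_surjective N x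
  obtain ⟨P₁, rfl⟩ := Sylow.mapSurjective_surjective (QuotientGroup.mk'_surjective N) p Q
  obtain ⟨a, rfl⟩ := MulAction.exists_smul_eq G P P₁
  by_contra hne
  obtain ⟨⟨z, hz⟩, hz1⟩ := Subgroup.ne_bot_iff_exists_ne_one.1 hne
  rw [Subgroup.mem_inf, Subgroup.mem_pointwise_smul_iff_inv_smul_mem, ← map_inv, MulAut.smul_def,
    MulAut.conj_apply, inv_inv, Sylow.coe_mapSurjective] at hz
  obtain ⟨⟨u, hu, hu'⟩, ⟨v, hv, hv'⟩⟩ := hz
  have hz1' : z ≠ 1 := fun h => hz1 (Subtype.ext h)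
  set R : Subgroup G := ((a • P : Sylow p G) : Subgroup G) with hR
  have hTI' : ∀ c : G, c ∉ Subgroup.normalizer (R : Set G) → ∀ y, y ∈ R → c⁻¹ * y * c ∈ R → y = 1 := by
    intro c hc y hy hy'
    have hmem : ∀ w, w ∈ R ↔ a⁻¹ * w * a ∈ (P : Subgroup G) := fun w => by
      rw [hR, Sylow.coe_subgroup_smul, Subgroup.mem_pointwise_smul_iff_inv_smul_mem,
        ← map_inv, MulAut.smul_def, MulAut.conj_apply, inv_inv]
    have hg : a⁻¹ * c * a ∉ Subgroup.normalizer ((P : Subgroup G) : Set G) := fun h => by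
      refine hc (Subgroup.mem_normalizer_iff.2 fun w => ?_)
      rw [hmem, hmem, Subgroup.mem_normalizer_iff.1 h (a⁻¹ * w * a)]
      exact Iff.of_eq (by congr 1; group)
    have hh : a⁻¹ * y * a ∈ (P : Subgroup G) ⊓ (MulAut.conj (a⁻¹ * c * a) • (P : Subgroup G)) := by
      refine ⟨(hmem _).1 hy, ?_⟩
      show _ ∈ MulAut.conj (a⁻¹ * c * a) • (P : Subgroup G)
      rw [Subgroup.mem_pointwise_smul_iff_inv_smul_mem, ← map_inv, MulAut.smul_def, MulAut.conj_apply, inv_inv]
      convert (hmem _).1 hy' using 1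
      group
    rw [hTI _ hg, Subgroup.mem_bot] at hh
    calc y = a * (a⁻¹ * y * a) * a⁻¹ := by group
      _ = 1 := by rw [hh]; simp
  let mk := QuotientGroup.mk' N
  have hinj : ∀ {w : G}, w ∈ R → mk w = 1 → w = 1 := by
    intro w hw h1
    have hwN : w ∈ N := (QuotientGroup.eq_one_iff w).1 h1
    obtain ⟨k, hk⟩ := IsPGroup.iff_orderOf.1 (a • P : Sylow p G).2 ⟨w, hw⟩
    rw [Subgroup.orderOf_mk] at hk
    rw [← orderOf_eq_one_iff]
    exact Nat.eq_one_of_dvd_coprimes (hN.pow_right k) (Subgroup.orderOf_dvd_natCard N hwN) hk.dvd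
  -- `u` and `g v g⁻¹` generate conjugate Sylow subgroups of `N ⟨u⟩`
  let w := g * v * g⁻¹
  have hwz : mk w = z := by
    show mk (g * v * g⁻¹) = z
    rw [map_mul, map_mul, map_inv, show mk v = _ from hv']
    show mk g * ((mk g)⁻¹ * z * mk g) * (mk g)⁻¹ = z
    group
  let K : Subgroup G := (Subgroup.zpowers z).comap mk
  have hKN : N ≤ K := fun y hy => by
    show (y : G ⧸ N) ∈ Subgroup.zpowers z
    rw [(QuotientGroup.eq_one_iff y).2 hy]; exact one_mem _
  have hp := (Fact.out : p.Prime)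
  obtain ⟨k, hk⟩ := IsPGroup.iff_orderOf.1 (a • P : Sylow p G).2 ⟨u, hu⟩
  rw [Subgroup.orderOf_mk] at hk
  have hord : ∀ {y : G}, mk y = z → (∀ i : ℕ, mk (y ^ i) = 1 → y ^ i = 1) → orderOf y = orderOf z := by
    intro y hy hi
    refine Nat.dvd_antisymm (orderOf_dvd_of_pow_eq_one (hi _ ?_)) (hy ▸ orderOf_map_dvd mk y)
    rw [map_pow, hy, pow_orderOf_eq_one]
  have hou : orderOf u = orderOf z := hord hu' fun i hi => hinj (pow_mem hu i) hi
  have how : orderOf w = orderOf z := hord hwz fun i hi => by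
    have h' : mk (v ^ i) = 1 := by
      rw [show v ^ i = g⁻¹ * w ^ i * g by simp only [w, conj_pow]; group, map_mul, map_mul, hi, map_inv]
      group
    simp only [w, conj_pow, hinj (pow_mem hv i) h', mul_one, mul_inv_cancel]
  have hKcard : Nat.card K = p ^ k * Nat.card N := by
    have h := Subgroup.index_ker (mk.subgroupComap (Subgroup.zpowers z))
    have hr : (mk.subgroupComap (Subgroup.zpowers z)).range = ⊤ :=
      MonoidHom.range_eq_top.2 (MonoidHom.subgroupComap_surjective_of_surjective _ _ (QuotientGroup.mk'_surjective N))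
    rw [hr, Subgroup.card_top, Nat.card_zpowers, ← hou, hk] at h
    have hker : (mk.subgroupComap (Subgroup.zpowers z)).ker = N.subgroupOf K := by
      ext y
      rw [MonoidHom.mem_ker, Subgroup.mem_subgroupOf, ← QuotientGroup.eq_one_iff]
      exact Subtype.ext_iff
    rw [hker] at h
    rw [← Subgroup.card_mul_index (N.subgroupOf K), h,
      Nat.card_congr (Subgroup.subgroupOfEquivOfLe hKN).toEquiv, mul_comm]
  have huK : u ∈ K := by show mk u ∈ Subgroup.zpowers z; rw [hu']; exact Subgroup.mem_zpowers z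
  have hwK : w ∈ K := by show mk w ∈ Subgroup.zpowers z; rw [hwz]; exact Subgroup.mem_zpowers z
  have hfac : (Nat.card K).factorization p = k := by
    rw [hKcard, Nat.factorization_mul (pow_ne_zero _ hp.ne_zero) Nat.card_pos.ne']
    simp [Nat.factorization_eq_zero_of_not_dvd (fun h => hp.not_dvd_one (hN.gcd_eq_one ▸ Nat.dvd_gcd h dvd_rfl) : ¬ p ∣ Nat.card N), hp.factorization_self]
  let Su : Sylow p K := Sylow.ofCard ((Subgroup.zpowers u).subgroupOf K)
    (by rw [Nat.card_congr (Subgroup.subgroupOfEquivOfLe (Subgroup.zpowers_le.2 huK)).toEquiv,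
      Nat.card_zpowers, hk, hfac])
  let Sw : Sylow p K := Sylow.ofCard ((Subgroup.zpowers w).subgroupOf K)
    (by rw [Nat.card_congr (Subgroup.subgroupOfEquivOfLe (Subgroup.zpowers_le.2 hwK)).toEquiv,
      Nat.card_zpowers, how, ← hou, hk, hfac])
  obtain ⟨⟨m, hm⟩, hmS⟩ := MulAction.exists_smul_eq K Su Sw
  obtain ⟨i, hi⟩ := Subgroup.mem_zpowers_iff.1 hm
  -- replace `m` by an element of `N`
  set c := m * (u ^ i)⁻¹ with hc
  have hcN : mk c = 1 := by rw [hc, map_mul, map_inv, map_zpow, hu', hi, mul_inv_cancel]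
  have hwu : w ∈ Subgroup.zpowers (c * u * c⁻¹) := by
    have h1 : (⟨w, hwK⟩ : K) ∈ ((Sw : Sylow p K) : Subgroup K) := by
      rw [Sylow.coe_ofCard, Subgroup.mem_subgroupOf]; exact Subgroup.mem_zpowers w
    rw [← hmS, Sylow.coe_subgroup_smul, Subgroup.mem_pointwise_smul_iff_inv_smul_mem,
      ← map_inv, MulAut.smul_def, MulAut.conj_apply, inv_inv, Sylow.coe_ofCard,
      Subgroup.mem_subgroupOf] at h1
    push_cast at h1
    obtain ⟨j, hj⟩ := Subgroup.mem_zpowers_iff.1 h1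
    refine Subgroup.mem_zpowers_iff.2 ⟨j, ?_⟩
    rw [conj_zpow, hc]
    calc m * (u ^ i)⁻¹ * u ^ j * (m * (u ^ i)⁻¹)⁻¹ = m * u ^ j * m⁻¹ := by group
      _ = w := by rw [hj]; group
  obtain ⟨j, hj⟩ := Subgroup.mem_zpowers_iff.1 hwu
  rw [conj_zpow] at hj
  have hnorm : c⁻¹ * g ∈ Subgroup.normalizer (R : Set G) := by
    by_contra hg
    have huj : u ^ j = 1 := hTI' _ hg _ (zpow_mem hu j) (by
      have : (c⁻¹ * g)⁻¹ * u ^ j * (c⁻¹ * g) = v := by
        calc (c⁻¹ * g)⁻¹ * u ^ j * (c⁻¹ * g) = g⁻¹ * (c * u ^ j * c⁻¹) * g := by group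
          _ = v := by rw [hj]; simp only [w]; group
      rw [this]; exact hv)
    rw [huj, mul_one, mul_inv_cancel] at hj
    exact hz1' (by rw [← hwz, ← hj, map_one])
  refine hx ?_
  rw [Sylow.coe_mapSurjective, show mk g = mk (c⁻¹ * g) by rw [map_mul, map_inv, hcN, inv_one, one_mul]]
  exact Subgroup.le_normalizer_map mk ⟨_, hnorm, rfl⟩

end Cfsg.Agent.S3984
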