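import Cfsg.Statements.S3985
import Mathlib.GroupTheory.Sylow
import Mathlib.GroupTheory.SpecificGroups.Cyclic
import Mathlib.NumberTheory.Basic
import Mathlib.RingTheory.Coprime.Lemmas
import Mathlib.RingTheory.Int.Basic

set_option autoImplicit false
open scoped Pointwise
open Cfsg

namespace Cfsg.Agent.S3985

/-- Let P be a cyclic Sylow p-subgroup of the finite group G. Then P meets each conjugate g P g⁻¹ with g outside N_G(P) trivially if and only if P is weakly self-centralizing: C_G(x) = C_G(P) for every non-identity x ∈ P. -/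
theorem result {G : Type*} [Group G] [Finite G] (p : ℕ) [Fact p.Prime] (P : Sylow p G) (hcyc : IsCyclic ↥(P : Subgroup G)) : (∀ g : G, g ∉ Subgroup.normalizer ((P : Subgroup G) : Set G) → (P : Subgroup G) ⊓ (MulAut.conj g • (P : Subgroup G)) = ⊥) ↔ ∀ x : G, x ∈ (P : Subgroup G) → x ≠ 1 → Subgroup.centralizer ({x} : Set G) = Subgroup.centralizer ((P : Subgroup G) : Set G) := by
  have hp := (Fact.out : p.Prime)
  obtain ⟨⟨a, ha⟩, hgen⟩ := hcyc.exists_generator
  have hgen' : ∀ y ∈ (P : Subgroup G), ∃ i : ℤ, a ^ i = y := fun y hy => by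
    obtain ⟨i, hi⟩ := Subgroup.mem_zpowers_iff.1 (hgen ⟨y, hy⟩)
    exact ⟨i, congrArg Subtype.val hi⟩
  constructor
  · intro hTI x hx hx1
    refine le_antisymm (fun c hc => ?_) (fun c hc => ?_)
    swap
    · exact Subgroup.centralizer_le (Set.singleton_subset_iff.2 hx) hc
    have hcx : c * x = x * c := Subgroup.mem_centralizer_singleton_iff.1 hc
    have hcN : c ∈ Subgroup.normalizer ((P : Subgroup G) : Set G) := by
      by_contra h
      have hm : x ∈ (P : Subgroup G) ⊓ (MulAut.conj c • (P : Subgroup G)) := by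
        refine ⟨hx, ?_⟩
        show x ∈ MulAut.conj c • (P : Subgroup G)
        rw [Subgroup.mem_pointwise_smul_iff_inv_smul_mem, ← map_inv, MulAut.smul_def,
          MulAut.conj_apply, inv_inv, mul_assoc, ← hcx, inv_mul_cancel_left]
        exact hx
      rw [hTI c h, Subgroup.mem_bot] at hm
      exact hx1 hm
    obtain ⟨i, hi⟩ := hgen' _ ((Subgroup.mem_normalizer_iff.1 hcN a).1 ha)
    obtain ⟨e, he⟩ := P.2.exists_card_eq
    have hao : orderOf a = p ^ e := by
      rw [← he, ← Nat.card_congr (Subgroup.topEquiv (G := (P : Subgroup G))).toEquiv,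
        ← (Subgroup.eq_top_iff' _).2 hgen, Nat.card_zpowers, Subgroup.orderOf_mk]
    obtain ⟨j, hj⟩ := hgen' x hx
    have hpi : (p : ℤ) ∣ i - 1 := by
      have h1 : a ^ (i * j) = a ^ j := by
        calc a ^ (i * j) = (c * a * c⁻¹) ^ j := by rw [zpow_mul, hi]
          _ = c * x * c⁻¹ := by rw [conj_zpow, hj]
          _ = a ^ j := by rw [hcx, mul_inv_cancel_right, hj]
      have h2 : (orderOf a : ℤ) ∣ (i - 1) * j := by
        rw [orderOf_dvd_iff_zpow_eq_one, sub_one_mul, zpow_sub, h1, mul_inv_cancel]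
      by_contra h
      have hco : IsCoprime ((orderOf a : ℕ) : ℤ) (i - 1) := by
        rw [hao, Nat.cast_pow]
        exact ((Nat.prime_iff_prime_int.1 hp).coprime_iff_not_dvd.2 h).pow_left
      have h3 : (orderOf a : ℤ) ∣ j := hco.dvd_of_dvd_mul_left h2
      rw [orderOf_dvd_iff_zpow_eq_one, hj] at h3
      exact hx1 h3
    have hce : Commute (c ^ (p ^ e)) a := by
      have hpow : ∀ n : ℕ, c ^ n * a * (c ^ n)⁻¹ = a ^ (i ^ n) := by
        intro n
        induction n with
        | zero => simp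
        | succ n ih =>
          calc c ^ (n + 1) * a * (c ^ (n + 1))⁻¹ = c * (c ^ n * a * (c ^ n)⁻¹) * c⁻¹ := by
                rw [pow_succ']; group
            _ = (c * a * c⁻¹) ^ (i ^ n) := by rw [ih, conj_zpow]
            _ = a ^ (i ^ (n + 1)) := by rw [← hi, ← zpow_mul, pow_succ']
      have h2 : ((orderOf a : ℕ) : ℤ) ∣ i ^ (p ^ e) - 1 := by
        have := dvd_sub_pow_of_dvd_sub hpi e
        rw [one_pow] at this
        rw [hao, Nat.cast_pow]
        exact (pow_dvd_pow _ (Nat.le_succ e)).trans this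
      rw [orderOf_dvd_iff_zpow_eq_one, zpow_sub, zpow_one, ← hpow, mul_inv_eq_one,
        mul_inv_eq_iff_eq_mul] at h2
      exact h2
    set n := orderOf c with hn
    obtain ⟨v, r, hr, hvr⟩ := Nat.exists_eq_pow_mul_and_not_dvd (orderOf_pos c).ne' p hp.ne_one
    have hcr : c ^ r ∈ (P : Subgroup G) := by
      have hord : orderOf (c ^ r) = p ^ v := by
        rw [orderOf_pow_of_dvd (by rintro rfl; simp at hr) (hvr ▸ dvd_mul_left r _), hvr,
          Nat.mul_div_cancel _ (Nat.pos_of_ne_zero (by rintro rfl; simp at hr))]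
      have hz : IsPGroup p (Subgroup.zpowers (c ^ r)) :=
        IsPGroup.of_card (n := v) (by rw [Nat.card_zpowers, hord])
      have hsup := hz.to_sup_of_normal_right' P.2 (Subgroup.zpowers_le.2 (pow_mem hcN r))
      have := P.3 hsup le_sup_right
      have hm : c ^ r ∈ Subgroup.zpowers (c ^ r) ⊔ (P : Subgroup G) :=
        Subgroup.mem_sup_left (Subgroup.mem_zpowers _)
      rwa [this] at hm
    obtain ⟨l, hl⟩ := hgen' _ hcr
    have hca : Commute (c ^ r) a := hl ▸ (Commute.refl a).zpow_left l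
    have hco : Nat.Coprime (p ^ e) r := (hp.coprime_iff_not_dvd.2 hr).pow_left e
    have hbez : c = (c ^ (p ^ e)) ^ Nat.gcdA (p ^ e) r * (c ^ r) ^ Nat.gcdB (p ^ e) r := by
      rw [← zpow_natCast c (p ^ e), ← zpow_natCast c r, ← zpow_mul, ← zpow_mul, ← zpow_add,
        ← Nat.gcd_eq_gcd_ab, hco, Nat.cast_one, zpow_one]
    have hCa : Commute c a := hbez ▸ (hce.zpow_left _).mul_left (hca.zpow_left _)
    refine Subgroup.mem_centralizer_iff.2 fun y hy => ?_
    obtain ⟨k, rfl⟩ := hgen' y hy
    exact (hCa.zpow_right k).eq.symm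
  · intro h g hg
    by_contra hne
    obtain ⟨⟨y, hy⟩, hy1⟩ := Subgroup.ne_bot_iff_exists_ne_one.1 hne
    rw [Subgroup.mem_inf, Subgroup.mem_pointwise_smul_iff_inv_smul_mem, ← map_inv, MulAut.smul_def,
      MulAut.conj_apply, inv_inv] at hy
    have hy1' : y ≠ 1 := fun he => hy1 (Subtype.ext he)
    have hCy := h y hy.1 hy1'
    have hCx := h _ hy.2 (fun he => hy1' (by
      calc y = g * (g⁻¹ * y * g) * g⁻¹ := by group
        _ = 1 := by rw [he]; simp))
    have hC : ∀ z, z ∈ Subgroup.centralizer ((P : Subgroup G) : Set G) →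
        g * z * g⁻¹ ∈ Subgroup.centralizer ((P : Subgroup G) : Set G) := by
      intro z hz
      rw [← hCy, Subgroup.mem_centralizer_singleton_iff]
      rw [← hCx, Subgroup.mem_centralizer_singleton_iff] at hz
      calc g * z * g⁻¹ * y = g * (z * (g⁻¹ * y * g)) * g⁻¹ := by group
        _ = g * (g⁻¹ * y * g * z) * g⁻¹ := by rw [hz]
        _ = y * (g * z * g⁻¹) := by group
    have hPC : (P : Subgroup G) ≤ Subgroup.centralizer ((P : Subgroup G) : Set G) := by
      intro z hz
      refine Subgroup.mem_centralizer_iff.2 fun w hw => ?_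
      obtain ⟨k, rfl⟩ := hgen' z hz
      obtain ⟨l, rfl⟩ := hgen' w hw
      exact ((Commute.refl a).zpow_zpow l k).eq
    let R : Subgroup G := (P : Subgroup G).map (MulAut.conj g).toMonoidHom
    have hRC : R ≤ Subgroup.normalizer ((P : Subgroup G) : Set G) := by
      rintro _ ⟨z, hz, rfl⟩
      exact Subgroup.centralizer_le_normalizer _ (hC z (hPC hz))
    have hsup := (P.2.map (MulAut.conj g).toMonoidHom).to_sup_of_normal_right' P.2 hRC
    have hRP : R ≤ (P : Subgroup G) := (le_sup_left (b := (P : Subgroup G))).trans (P.3 hsup le_sup_right).le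
    refine hg (Subgroup.mem_normalizer_iff_map_conj_eq.2 (Subgroup.eq_of_le_of_card_ge hRP ?_))
    exact (Subgroup.card_map_of_injective (MulAut.conj g).injective).ge

end Cfsg.Agent.S3985
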