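import Cfsg.Statements.S3989
import Cfsg.Agent.Lib.PSolvable.Basic
import Cfsg.Agent.Lib.Transfer.Frobenius
-- import your own Cfsg.Agent.* helpers here

set_option autoImplicit false
open Cfsg

namespace Cfsg.Agent.S3989

universe u

open Cfsg.Agent.Lib

/-- The property of the statement. -/
def ClassProduct (p : ℕ) (G : Type u) [Group G] : Prop :=
  ∀ x y : G, (∃ a : ℕ, orderOf x = p ^ a) → (∃ q b : ℕ, q.Prime ∧ q ≠ p ∧ orderOf y = q ^ b) →
    ∀ z : G, IsConj (x * y) z ↔ ∃ a b : G, z = a * x * a⁻¹ * (b * y * b⁻¹)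

/-- A commutator which is a nontrivial `p`-element generates a normal subgroup avoiding its
second entry. -/
theorem notMem_normalClosure {G : Type u} [Group G] [Finite G] {p : ℕ} (h : ClassProduct p G)
    {x u k : G} (hx : ∃ a : ℕ, orderOf x = p ^ a)
    (hk : ∃ q b : ℕ, q.Prime ∧ q ≠ p ∧ orderOf k = q ^ b) (hk1 : k ≠ 1)
    (hxk : x * k = u * k * u⁻¹) : k ∉ Subgroup.normalClosure {x} := by
  intro hmem
  have hstep : ∀ c z : G, IsConj k z → IsConj k (c * x * c⁻¹ * z) := by
    intro c z hz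
    obtain ⟨b, rfl⟩ := isConj_iff.mp hz
    exact (isConj_iff.mpr ⟨u, hxk.symm⟩).trans ((h x k hx hk _).mpr ⟨c, b, rfl⟩)
  let D : Subgroup G :=
    { carrier := {d | ∀ z, IsConj k z → IsConj k (d * z)}
      one_mem' := fun z hz => by rwa [one_mul]
      mul_mem' := fun {d e} hd he z hz => by rw [mul_assoc]; exact hd _ (he z hz)
      inv_mem' := fun {d} hd z hz => by
        have hp : ∀ j : ℕ, IsConj k (d ^ j * z) := fun j => by
          induction j with
          | zero => rwa [pow_zero, one_mul]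
          | succ j ih => rw [pow_succ', mul_assoc]; exact hd _ ih
        have h1 := hp (orderOf d - 1)
        rwa [pow_sub d (orderOf_pos d), pow_orderOf_eq_one, pow_one, one_mul] at h1 }
  have hle : Subgroup.normalClosure {x} ≤ D := by
    rw [Subgroup.normalClosure, Subgroup.closure_le]
    intro w hw
    obtain ⟨x', hx', hw'⟩ := Group.mem_conjugatesOfSet_iff.mp hw
    rw [Set.mem_singleton_iff] at hx'
    subst hx'
    obtain ⟨c, rfl⟩ := isConj_iff.mp hw'
    exact hstep c
  have h1 := hle (inv_mem hmem) k (IsConj.refl k)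
  rw [inv_mul_cancel] at h1
  exact hk1 (isConj_one_left.mp h1)

/-- A minimal normal subgroup is a `p`-group or a `p'`-group. -/
theorem minimal_isPSolvable {G : Type u} [Group G] [Finite G] {p : ℕ} [Fact p.Prime]
    (h : ClassProduct p G) (N : Subgroup G) [N.Normal]
    (hmin : ∀ K : Subgroup G, K.Normal → K ≤ N → K = ⊥ ∨ K = N) : Cfsg.IsPSolvable p N := by
  classical
  have hcompl : Cfsg.HasNormalPComplement p N := by
    refine Transfer.Frobenius.hasNormalPComplement_of_forall_centralizes fun Q hQ _ g hg hgp => ?_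
    by_contra hgc
    have hne : ∃ n, ∃ k : N, k ∈ Subgroup.zpowers g ∧ k ∉ Subgroup.centralizer (Q : Set N) ∧
        orderOf k = n := ⟨_, g, Subgroup.mem_zpowers g, hgc, rfl⟩
    obtain ⟨k, hkg, hkc, hkn⟩ := Nat.find_spec hne
    have hk1 : orderOf k ≠ 1 := fun h1 => hkc (by rw [orderOf_eq_one_iff.mp h1]; exact one_mem _)
    obtain ⟨q, hq, hqd⟩ := Nat.exists_prime_and_dvd hk1
    obtain ⟨e, m, hqm, hem⟩ := Nat.exists_eq_pow_mul_and_not_dvd (orderOf_pos k).ne' q hq.ne_one
    have hkp : (orderOf k).Coprime p := by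
      refine Nat.Coprime.of_dvd_left ?_ hgp
      obtain ⟨j, rfl⟩ := hkg
      exact orderOf_dvd_of_mem_zpowers ⟨j, rfl⟩
    have hqp : q ≠ p := fun h1 => hq.ne_one
      (Nat.eq_one_of_dvd_coprimes hkp hqd (dvd_of_eq h1))
    have hm1 : m = 1 := by
      by_contra hm1
      have hm0 : 0 < m := Nat.pos_of_ne_zero fun h0 => hqm (h0 ▸ dvd_zero q)
      have he : e ≠ 0 := fun h0 => hqm (by rw [h0, pow_zero, one_mul] at hem; rwa [hem] at hqd)
      have hsmall : ∀ d, d ∣ orderOf k → d ≠ 1 → k ^ d ∈ Subgroup.centralizer (Q : Set N) := by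
        intro d hd hd1
        by_contra hc
        refine Nat.find_min hne (m := orderOf (k ^ d)) ?_ ⟨k ^ d, pow_mem hkg d, hc, rfl⟩
        have hd0 : d ≠ 0 := fun h0 => (orderOf_pos k).ne' (Nat.eq_zero_of_zero_dvd (h0 ▸ hd))
        rw [← hkn, orderOf_pow_of_dvd hd0 hd]
        exact Nat.div_lt_self (orderOf_pos k) (by omega)
      have h1 := hsmall (q ^ e) (Dvd.intro m hem.symm) (Nat.one_lt_pow he hq.one_lt).ne'
      have h2 := hsmall m (Dvd.intro_left _ hem.symm) hm1
      have hco : (q ^ e).Coprime m := ((hq.coprime_iff_not_dvd).mpr hqm).pow_left e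
      apply hkc
      have hb : k ^ ((((q ^ e).gcd m : ℕ)) : ℤ) ∈ Subgroup.centralizer (Q : Set N) := by
        rw [Nat.gcd_eq_gcd_ab, zpow_add, zpow_mul, zpow_mul, zpow_natCast, zpow_natCast]
        exact mul_mem (zpow_mem h1 _) (zpow_mem h2 _)
      rwa [hco.gcd_eq_one, zpow_natCast, pow_one] at hb
    rw [hm1, mul_one] at hem
    have hkN : k ∈ Subgroup.normalizer (Q : Set N) := (Subgroup.zpowers_le.mpr hg : _) hkg
    rw [Subgroup.mem_centralizer_iff] at hkc
    push Not at hkc
    obtain ⟨u, hu, huk⟩ := hkc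
    set x := u * (k * u⁻¹ * k⁻¹) with hxdef
    have hxQ : x ∈ Q := mul_mem hu ((Subgroup.mem_normalizer_iff.mp hkN _).mp (inv_mem hu))
    have hx1 : x ≠ 1 := fun h1 => huk (by
      calc u * k = u * (k * u⁻¹ * k⁻¹) * k * u := by group
        _ = k * u := by rw [← hxdef, h1, one_mul])
    have hxord : ∃ a : ℕ, orderOf (x : G) = p ^ a := by
      obtain ⟨a, ha⟩ := hQ ⟨x, hxQ⟩
      have ha' : x ^ p ^ a = 1 := congrArg Subtype.val ha
      obtain ⟨b, -, hb⟩ := (Nat.dvd_prime_pow Fact.out).mp (orderOf_dvd_of_pow_eq_one ha')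
      exact ⟨b, by rw [Subgroup.orderOf_coe, hb]⟩
    have hnc : Subgroup.normalClosure {(x : G)} = N := by
      refine (hmin _ Subgroup.normalClosure_normal
        (Subgroup.normalClosure_le_normal (Set.singleton_subset_iff.mpr x.2))).resolve_left fun h1 => ?_
      have h2 : (x : G) ∈ Subgroup.normalClosure {(x : G)} :=
        Subgroup.subset_normalClosure (Set.mem_singleton _)
      rw [h1, Subgroup.mem_bot] at h2
      exact hx1 (Subtype.ext h2)
    refine notMem_normalClosure h (u := (u : G)) (k := (k : G)) hxord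
      ⟨q, e, hq, hqp, by rw [Subgroup.orderOf_coe, hem]⟩ (fun h1 => hk1 ?_) ?_ (hnc.symm ▸ k.2)
    · rw [orderOf_eq_one_iff]; exact Subtype.ext h1
    · rw [hxdef]; simp [mul_assoc]
  rcases hmin ((Cfsg.pPrimeCore p N).map N.subtype) inferInstance (Subgroup.map_subtype_le _)
    with he | he
  · refine PSolvable.isPSolvable_of_isPGroup ?_
    obtain ⟨P, K, hK, hKP⟩ := hcompl
    have hKb : K = ⊥ := by
      rw [← le_bot_iff, ← (Subgroup.map_eq_bot_iff_of_injective _ N.subtype_injective).mp he]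
      refine PSolvable.le_pPrimeCore hK ?_
      have h1 : ¬ p ∣ (P : Subgroup N).index := P.not_dvd_index
      rw [hKP.index_eq_card] at h1
      exact ((Fact.out : p.Prime).coprime_iff_not_dvd.mpr h1).symm
    rw [hKb, Subgroup.isComplement'_bot_left] at hKP
    exact fun n => let ⟨j, hj⟩ := P.2 ⟨n, hKP ▸ Subgroup.mem_top n⟩
      ⟨j, congrArg Subtype.val hj⟩
  · refine PSolvable.isPSolvable_of_coprime ?_
    have h1 : Cfsg.pPrimeCore p N = ⊤ := Subgroup.map_injective N.subtype_injective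
      (he.trans (by rw [← MonoidHom.range_eq_map, Subgroup.range_subtype]))
    have h2 := PSolvable.card_pPrimeCore_coprime (G := N) (p := p)
    rwa [h1, Subgroup.card_top] at h2

/-- Induction on the order. -/
theorem main (p : ℕ) [Fact p.Prime] : ∀ (n : ℕ) (G : Type u) [Group G] [Finite G],
    Nat.card G ≤ n → ClassProduct p G → Cfsg.IsPSolvable p G := by
  intro n
  induction n with
  | zero => intro G _ _ hc; exact absurd (Nat.card_pos (α := G)) (by omega)
  | succ n ih =>
    intro G _ _ hc h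
    classical
    rcases subsingleton_or_nontrivial G with hs | hs
    · exact PSolvable.isPSolvable_of_coprime (by rw [Nat.card_unique]; exact Nat.coprime_one_left p)
    obtain ⟨N, hN, hmin⟩ := (Set.toFinite {K : Subgroup G | K.Normal ∧ K ≠ ⊥}).exists_minimal
      ⟨⊤, inferInstance, top_ne_bot⟩
    obtain ⟨hNn, hNb⟩ := hN
    haveI := hNn
    have hmin' : ∀ K : Subgroup G, K.Normal → K ≤ N → K = ⊥ ∨ K = N := fun K hK hle =>
      or_iff_not_imp_left.mpr fun hKb => le_antisymm hle (hmin ⟨hK, hKb⟩ hle)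
    refine PSolvable.isPSolvable_of_extension N (minimal_isPSolvable h N hmin') (ih _ ?_ ?_)
    · have h1 := Subgroup.card_eq_card_quotient_mul_card_subgroup N
      have h2 : 1 < Nat.card N := (Subgroup.one_lt_card_iff_ne_bot N).mpr hNb
      have h3 : Nat.card (G ⧸ N) < Nat.card G := by
        rw [h1]; exact lt_mul_of_one_lt_right Nat.card_pos h2
      omega
    · intro x y hx hy z
      have hlift : ∀ (r : ℕ), r.Prime → ∀ c : G ⧸ N, (∃ a : ℕ, orderOf c = r ^ a) →
          ∃ g : G, (g : G ⧸ N) = c ∧ ∃ a : ℕ, orderOf g = r ^ a := by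
        rintro r hr c ⟨a, ha⟩
        obtain ⟨g, rfl⟩ := QuotientGroup.mk_surjective c
        obtain ⟨e, m, hm, hem⟩ := Nat.exists_eq_pow_mul_and_not_dvd (orderOf_pos g).ne' r hr.ne_one
        have hco : m.Coprime (orderOf (g : G ⧸ N)) := by
          rw [ha]; exact ((hr.coprime_iff_not_dvd).mpr hm).symm.pow_right a
        obtain ⟨m', hm'⟩ := exists_pow_eq_self_of_coprime hco
        refine ⟨(g ^ m) ^ m', by rw [QuotientGroup.mk_pow, QuotientGroup.mk_pow, hm'], ?_⟩
        have h1 : (g ^ m) ^ r ^ e = 1 := by rw [← pow_mul, mul_comm, ← hem, pow_orderOf_eq_one]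
        have h2 : ((g ^ m) ^ m') ^ r ^ e = 1 := by rw [← pow_mul, mul_comm, pow_mul, h1, one_pow]
        obtain ⟨b, -, hb⟩ := (Nat.dvd_prime_pow hr).mp (orderOf_dvd_of_pow_eq_one h2)
        exact ⟨b, hb⟩
      obtain ⟨x₀, rfl, hx₀⟩ := hlift p Fact.out x hx
      obtain ⟨q, b, hq, hqp, hb⟩ := hy
      obtain ⟨y₀, rfl, b', hb'⟩ := hlift q hq y ⟨b, hb⟩
      have hxy := h x₀ y₀ hx₀ ⟨q, b', hq, hqp, hb'⟩
      constructor
      · intro hz
        obtain ⟨c, rfl⟩ := isConj_iff.mp hz
        obtain ⟨c₀, rfl⟩ := QuotientGroup.mk_surjective c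
        obtain ⟨a, d, had⟩ := (hxy (c₀ * (x₀ * y₀) * c₀⁻¹)).mp (isConj_iff.mpr ⟨c₀, rfl⟩)
        refine ⟨a, d, ?_⟩
        simp only [← QuotientGroup.mk_mul, ← QuotientGroup.mk_inv, had]
      · rintro ⟨a, d, rfl⟩
        obtain ⟨a₀, rfl⟩ := QuotientGroup.mk_surjective a
        obtain ⟨d₀, rfl⟩ := QuotientGroup.mk_surjective d
        obtain ⟨c, hc⟩ := isConj_iff.mp ((hxy _).mpr ⟨a₀, d₀, rfl⟩)
        refine isConj_iff.mpr ⟨(c : G ⧸ N), ?_⟩
        simp only [← QuotientGroup.mk_mul, ← QuotientGroup.mk_inv, hc]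

/-- Let p be a prime and G a finite group such that for every element x of p-power order and every element y whose order is a power of a prime other than p, the conjugacy class of x y is the set of all products of a conjugate of x with a conjugate of y. Then G is p-solvable. -/
theorem result {G : Type*} [Group G] [Finite G] (p : ℕ) [Fact p.Prime] (h : ∀ x y : G, (∃ a : ℕ, orderOf x = p ^ a) → (∃ q b : ℕ, q.Prime ∧ q ≠ p ∧ orderOf y = q ^ b) → ∀ z : G, IsConj (x * y) z ↔ ∃ a b : G, z = a * x * a⁻¹ * (b * y * b⁻¹)) : Cfsg.IsPSolvable p G := by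
  exact main p (Nat.card G) G le_rfl h

end Cfsg.Agent.S3989
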