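import Cfsg.Statements.S3992
import Cfsg.Agent.Lib.PrimeGraph.Three
import Cfsg.Agent.Lib.PrimePowerClass.Radical
import Cfsg.Agent.Lib.Hall.Converse
import Mathlib.GroupTheory.Sylow

set_option autoImplicit false
open Cfsg

namespace Cfsg.Agent.S3992

open Subgroup
open scoped commutatorElement

theorem three_primes {G : Type*} [Group G] [Finite G] (h : ¬ Group.IsSolvable G) :
    3 ≤ (Nat.card G).primeFactors.card := by
  by_contra hlt
  exact h (Lib.Hall.Converse.isSolvable_of_card_primeFactors_le_two (by omega))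

theorem exists_other_prime {G : Type*} [Group G] [Finite G] (h : ¬ Group.IsSolvable G) (p q : ℕ) :
    ∃ r, r.Prime ∧ r ∣ Nat.card G ∧ r ≠ p ∧ r ≠ q := by
  obtain ⟨r, hr, hrpq⟩ : ∃ r ∈ (Nat.card G).primeFactors, r ∉ ({p, q} : Finset ℕ) :=
    Finset.exists_mem_notMem_of_card_lt_card
      (lt_of_le_of_lt Finset.card_le_two (three_primes h))
  simp only [Finset.mem_insert, Finset.mem_singleton, not_or] at hrpq
  exact ⟨r, (Nat.mem_primeFactors.1 hr).1, (Nat.mem_primeFactors.1 hr).2.1, hrpq⟩

theorem no_two_prime_divisors {n p q : ℕ} (hn : IsPrimePow n) (hp : p.Prime) (hq : q.Prime)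
    (hpn : p ∣ n) (hqn : q ∣ n) : p = q := by
  obtain ⟨r, k, hr, -, rfl⟩ := (isPrimePow_nat_iff n).1 hn
  rw [(Nat.prime_dvd_prime_iff_eq hp hr).1 (hp.dvd_of_dvd_pow hpn),
    (Nat.prime_dvd_prime_iff_eq hq hr).1 (hq.dvd_of_dvd_pow hqn)]

/-- Two nonsolvable subgroups cannot meet trivially and centralise each other. -/
theorem no_commuting {G : Type*} [Group G] [Finite G]
    (hpp : ∀ g : G, g ≠ 1 → IsPrimePow (orderOf g)) {A B : Subgroup G}
    (hA : ¬ Group.IsSolvable A) (hB : ¬ Group.IsSolvable B) (hd : A ⊓ B = ⊥)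
    (hAB : A ≤ normalizer (B : Set G)) (hBA : B ≤ normalizer (A : Set G)) : False := by
  have hcom : ∀ a ∈ A, ∀ b ∈ B, Commute a b := fun a ha b hb => by
    rw [commute_iff_eq, ← commutatorElement_eq_one_iff_mul_comm, ← mem_bot, ← hd,
      commutatorElement_def]
    refine ⟨?_, B.mul_mem ((mem_normalizer_iff.1 (hAB ha) b).1 hb) (B.inv_mem hb)⟩
    have h1 := (mem_normalizer_iff.1 (hBA hb) a⁻¹).1 (A.inv_mem ha)
    have h2 := A.mul_mem ha h1
    simpa [mul_assoc] using h2
  obtain ⟨p, hp, hpA, -⟩ := exists_other_prime hA 1 1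
  obtain ⟨q, hq, hqB, hqp, -⟩ := exists_other_prime hB p 1
  have := Fact.mk hp
  have := Fact.mk hq
  obtain ⟨a, ha⟩ := exists_prime_orderOf_dvd_card' (G := A) p hpA
  obtain ⟨b, hb⟩ := exists_prime_orderOf_dvd_card' (G := B) q hqB
  rw [← orderOf_coe] at ha hb
  have ho := (hcom a a.2 b b.2).orderOf_mul_eq_mul_orderOf_of_coprime
    (by rw [ha, hb]; exact (Nat.coprime_primes hp hq).2 (Ne.symm hqp))
  rw [ha, hb] at ho
  refine hqp (no_two_prime_divisors (hpp _ fun h1 => ?_) hp hq (ho ▸ dvd_mul_right p q)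
    (ho ▸ dvd_mul_left q p)).symm
  rw [h1, orderOf_one] at ho
  exact hp.ne_one (Nat.eq_one_of_mul_eq_one_right ho.symm)

/-- Let G be a finite non-solvable group in which every element has prime-power order, and let R be its largest solvable normal subgroup. Then R is a p-group for some prime p; G/R has a non-abelian simple normal subgroup contained in every nontrivial normal subgroup of G/R (its unique minimal normal subgroup); and the order of every solvable subgroup of G has at most two prime divisors. -/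
theorem result {G : Type*} [Group G] [Finite G] (hns : ¬ Group.IsSolvable G) (hpp : ∀ g : G, g ≠ 1 → IsPrimePow (orderOf g))
    (R : Subgroup G) [R.Normal] (hRs : Group.IsSolvable ↥R) (hRmax : ∀ N : Subgroup G, N.Normal → Group.IsSolvable ↥N → N ≤ R) :
    (∃ p : ℕ, p.Prime ∧ IsPGroup p ↥R) ∧
      (∃ M : Subgroup (G ⧸ R), M.Normal ∧ IsSimpleGroup ↥M ∧ ¬ IsMulCommutative ↥M ∧
        ∀ N : Subgroup (G ⧸ R), N.Normal → N ≠ ⊥ → M ≤ N) ∧
      ∀ H : Subgroup G, Group.IsSolvable ↥H → (Nat.card ↥H).primeFactors.card ≤ 2 := by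
  have hno : ∀ p q : ℕ, p.Prime → q.Prime → p ≠ q → ¬ Lib.PrimeGraph.Three.HasOrder G (p * q) := by
    rintro p q hp hq hne ⟨g, hg⟩
    refine hne (no_two_prime_divisors (hpp g fun h1 => ?_) hp hq (hg ▸ dvd_mul_right p q)
      (hg ▸ dvd_mul_left q p))
    rw [h1, orderOf_one] at hg
    exact hp.ne_one (Nat.eq_one_of_mul_eq_one_right hg.symm)
  refine ⟨?_, ?_, ?_⟩
  · by_cases hR : Nat.card R = 1
    · exact ⟨2, Nat.prime_two, IsPGroup.of_card (n := 0) (by simpa using hR)⟩
    obtain ⟨p, hp, hpR⟩ := Nat.exists_prime_and_dvd hR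
    refine ⟨p, hp, IsPGroup.of_card (n := (Nat.card R).primeFactorsList.length)
      (Nat.eq_prime_pow_of_unique_prime_dvd Nat.card_pos.ne' fun {q} hq hqR => ?_)⟩
    by_contra hne
    obtain ⟨r, hr, hrG, hrp, hrq⟩ := exists_other_prime hns p q
    exact Lib.PrimeGraph.Three.not_two_in_solvable hp hq hr (Ne.symm hne) hrp.symm hrq.symm R hRs
      hpR hqR hrG (hno p q hp hq (Ne.symm hne)) (hno p r hp hr hrp.symm) (hno q r hq hr hrq.symm)
  · have hnosol : ∀ N : Subgroup (G ⧸ R), N.Normal → Group.IsSolvable N → N = ⊥ := by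
      intro N hN hNs
      have hK : Group.IsSolvable (N.comap (QuotientGroup.mk' R)) := by
        refine Lib.PrimePowerClass.Radical.isSolvable_of_map (QuotientGroup.mk' R) _ ?_ ?_
        · exact Group.isSolvable_of_isSolvable_injective
            (f := inclusion (show (QuotientGroup.mk' R).ker ⊓ N.comap (QuotientGroup.mk' R) ≤ R by
              rw [QuotientGroup.ker_mk']; exact inf_le_left)) (inclusion_injective _)
        · rw [map_comap_eq_self_of_surjective (QuotientGroup.mk'_surjective R)]; exact hNs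
      have h1 := map_mono (f := QuotientGroup.mk' R) (hRmax _ (hN.comap _) hK)
      rwa [map_comap_eq_self_of_surjective (QuotientGroup.mk'_surjective R),
        QuotientGroup.map_mk'_self, le_bot_iff] at h1
    have hppQ : ∀ x : G ⧸ R, x ≠ 1 → IsPrimePow (orderOf x) := by
      intro x hx
      obtain ⟨g, rfl⟩ := QuotientGroup.mk'_surjective R x
      exact (hpp g fun h1 => hx (by rw [h1, map_one])).dvd (orderOf_map_dvd _ _)
        (fun h1 => hx (orderOf_eq_one_iff.1 h1))
    have hQ : Nontrivial (G ⧸ R) := QuotientGroup.nontrivial_iff.2 fun hR => hns (by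
      subst hR
      exact Group.isSolvable_of_surjective (f := (topEquiv : (⊤ : Subgroup G) ≃* G).toMonoidHom)
        topEquiv.surjective)
    obtain ⟨M, -, ⟨hMn, hMne⟩, hMmin⟩ :=
      (Set.toFinite {N : Subgroup (G ⧸ R) | N.Normal ∧ N ≠ ⊥}).exists_le_minimal
        (a := ⊤) ⟨inferInstance, top_ne_bot⟩
    have hmin : ∀ K : Subgroup (G ⧸ R), K.Normal → K ≤ M → K = ⊥ ∨ K = M := fun K hK hle =>
      or_iff_not_imp_left.2 fun hne => le_antisymm hle (hMmin ⟨hK, hne⟩ hle)
    have hMns : ¬ Group.IsSolvable M := fun h => hMne (hnosol M hMn h)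
    have hMnt : Nontrivial M := (nontrivial_iff_ne_bot M).2 hMne
    refine ⟨M, hMn, ?_, fun h => hMns (Group.isSolvable_of_comm fun a b => h.is_comm.comm a b), ?_⟩
    · obtain ⟨S, -, ⟨hSn, hSne⟩, hSmin⟩ :=
        (Set.toFinite {N : Subgroup M | N.Normal ∧ N ≠ ⊥}).exists_le_minimal
          (a := ⊤) ⟨inferInstance, top_ne_bot⟩
      suffices hS : S = ⊤ by
        exact ⟨fun K hK => or_iff_not_imp_left.2 fun hne =>
          top_le_iff.1 (hS ▸ hSmin ⟨hK, hne⟩ (hS ▸ le_top))⟩
      set S' := S.map M.subtype with hS'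
      have hS'M : S' ≤ M := map_subtype_le S
      have hS'norm : M ≤ normalizer (S' : Set (G ⧸ R)) := by
        rw [← normal_subgroupOf_iff_le_normalizer hS'M]
        rwa [hS', subgroupOf, comap_map_eq_self_of_injective M.subtype_injective]
      have hS'ne : S' ≠ ⊥ := by
        rw [hS', Ne, map_eq_bot_iff_of_injective _ M.subtype_injective]; exact hSne
      have hS'ns : ¬ Group.IsSolvable S' := fun h =>
        hS'ne (Lib.PrimePowerClass.Radical.eq_bot_of_minimal hMns hmin hS'M h hS'norm)
      have hS'n : S'.Normal := by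
        refine ⟨fun x hx g => ?_⟩
        set T := S'.map (MulAut.conj g).toMonoidHom with hT
        have hTM : T ≤ M := by
          rintro _ ⟨y, hy, rfl⟩; exact hMn.conj_mem y (hS'M hy) g
        have hTnorm : M ≤ normalizer (T : Set (G ⧸ R)) := by
          intro u hu
          have h1 : g⁻¹ * u * g ∈ normalizer (S' : Set (G ⧸ R)) :=
            hS'norm (by simpa using hMn.conj_mem u hu g⁻¹)
          have key : ∀ v, v ∈ T ↔ g⁻¹ * v * g ∈ S' := fun v =>
            ⟨by rintro ⟨y, hy, rfl⟩; simpa [mul_assoc] using hy,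
              fun h => ⟨_, h, by simp [mul_assoc]⟩⟩
          refine mem_normalizer_iff.2 fun v => ?_
          rw [key, key, show g⁻¹ * (u * v * u⁻¹) * g =
            (g⁻¹ * u * g) * (g⁻¹ * v * g) * (g⁻¹ * u * g)⁻¹ by group]
          exact mem_normalizer_iff.1 h1 _
        by_cases hd : S' ⊓ T = ⊥
        · refine (no_commuting hppQ hS'ns (fun h => hS'ns ?_) hd (hS'M.trans hTnorm)
            (hTM.trans hS'norm)).elim
          exact Group.isSolvable_of_isSolvable_injective
            (f := (S'.equivMapOfInjective (MulAut.conj g).toMonoidHom (MulAut.conj g).injective).toMonoidHom)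
            (S'.equivMapOfInjective (MulAut.conj g).toMonoidHom (MulAut.conj g).injective).injective
        · have hn : ((S' ⊓ T).subgroupOf M).Normal :=
            (normal_subgroupOf_iff_le_normalizer (inf_le_left.trans hS'M)).2 fun u hu =>
              mem_normalizer_iff.2 fun v => by
                rw [mem_inf, mem_inf, mem_normalizer_iff.1 (hS'norm hu) v,
                  mem_normalizer_iff.1 (hTnorm hu) v]
          have hne : (S' ⊓ T).subgroupOf M ≠ ⊥ := by
            rw [Ne, subgroupOf_eq_bot, disjoint_iff, inf_eq_left.2 (inf_le_left.trans hS'M)]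
            exact hd
          have hle : (S' ⊓ T).subgroupOf M ≤ S := fun u hu => by
            obtain ⟨w, hw, hwu⟩ := (mem_subgroupOf.1 hu).1
            rwa [← Subtype.ext hwu]
          have h2 : S' ≤ T := by
            rintro _ ⟨w, hw, rfl⟩
            exact (mem_subgroupOf.1 (hSmin ⟨hn, hne⟩ hle hw)).2
          have h3 : S' = T := eq_of_le_of_card_ge h2 (by
            rw [hT, card_map_of_injective (MulAut.conj g).injective])
          rw [h3]
          exact ⟨x, hx, by simp⟩
      rcases hmin S' hS'n hS'M with h | h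
      · exact absurd h hS'ne
      · rw [← comap_map_eq_self_of_injective M.subtype_injective S, ← hS', h]
        exact subgroupOf_self M
    · intro N hN hNne
      by_contra hle
      have hd : M ⊓ N = ⊥ := (hmin _ inferInstance inf_le_left).resolve_right
        fun h => hle (inf_eq_left.1 h)
      exact no_commuting hppQ hMns (fun h => hNne (hnosol N hN h)) hd
        (by rw [normalizer_eq_top]; exact le_top) (by rw [normalizer_eq_top]; exact le_top)
  · intro H hH
    by_contra hlt
    push Not at hlt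
    obtain ⟨p, q, r, hp, hq, hr, hpq, hpr, hqr⟩ := Finset.two_lt_card_iff.1 hlt
    have hd := fun {x : ℕ} (hx : x ∈ (Nat.card H).primeFactors) => (Nat.mem_primeFactors.1 hx).1
    have hnoH : ∀ p q : ℕ, p.Prime → q.Prime → p ≠ q →
        ¬ Lib.PrimeGraph.Three.HasOrder H (p * q) := fun p q hp hq hne ⟨x, hx⟩ =>
      hno p q hp hq hne ⟨(x : G), by rw [orderOf_coe, hx]⟩
    exact Lib.PrimeGraph.Three.not_isSolvable_of_three (hd hp) (hd hq) (hd hr) hpq hpr hqr
      (Nat.mem_primeFactors.1 hp).2.1 (Nat.mem_primeFactors.1 hq).2.1 (Nat.mem_primeFactors.1 hr).2.1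
      (hnoH p q (hd hp) (hd hq) hpq) (hnoH p r (hd hp) (hd hr) hpr) (hnoH q r (hd hq) (hd hr) hqr) hH

end Cfsg.Agent.S3992
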