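import Cfsg.Statements.S3995
import Cfsg.Agent.Lib.Fg6.OrderCount
import Cfsg.Agent.Lib.PGroups.UniqueInvolution
import Mathlib.Data.ZMod.Basic
import Mathlib.Algebra.Group.Shrink
import Mathlib.Logic.Small.Basic

set_option autoImplicit false
open Cfsg

namespace Cfsg.Agent.S3995

open Lib.Fg6.OrderCount

theorem isPGroup_of_primes {G : Type*} [Group G] [Finite G] {p : ℕ}
    (h : ∀ q, q.Prime → q ∣ Nat.card G → q = p) : IsPGroup p G :=
  IsPGroup.of_card (n := (Nat.card G).primeFactorsList.length)
    (Nat.eq_prime_pow_of_unique_prime_dvd Nat.card_pos.ne' fun {q} hq hd => h q hq hd)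

/-- Let G be a finite group such that the numbers of elements of each order that occurs in G (the numbers #{g : o(g) = m}, m ranging over the element orders of G) take exactly two values, 1 and some n ≠ 1. Then either G is a p-group of exponent p and order at least 3 for some prime p, or G is the quaternion group of order 8, or G is cyclic of order 4, or G ≅ Z₂ × P for a p-group P of exponent p with p an odd prime. -/
theorem result {G : Type*} [Group G] [Finite G] (n : ℕ) (hn : n ≠ 1) (h : ((fun m : ℕ => Nat.card {g : G // orderOf g = m}) '' Set.range (orderOf : G → ℕ)) = {1, n}) :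
    (∃ p : ℕ, p.Prime ∧ IsPGroup p G ∧ 3 ≤ Nat.card G ∧ Monoid.exponent G = p) ∨
      Nonempty (G ≃* QuaternionGroup 2) ∨ (IsCyclic G ∧ Nat.card G = 4) ∨
      (∃ (p : ℕ) (P : Type) (_ : Group P) (_ : Finite P), p.Prime ∧ p ≠ 2 ∧ IsPGroup p P ∧ Monoid.exponent P = p ∧
        Nonempty (G ≃* Multiplicative (ZMod 2) × P)) := by
  classical
  have himg : ∀ m ∈ Set.range (orderOf : G → ℕ), cnt G m = 1 ∨ cnt G m = n := fun m hm => by
    have := h ▸ Set.mem_image_of_mem (fun m : ℕ => Nat.card {g : G // orderOf g = m}) hm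
    simpa [cnt] using this
  obtain ⟨m₀, ⟨g₀, hg₀⟩, hm₀⟩ : ∃ m ∈ Set.range (orderOf : G → ℕ), cnt G m = n := by
    have : n ∈ ({1, n} : Set ℕ) := by simp
    rw [← h] at this
    exact this
  have hn2 : 2 ≤ n := by
    have := cnt_pos (G := G) (m := m₀) ⟨g₀, hg₀⟩
    omega
  have hbig : ∀ m ∈ Set.range (orderOf : G → ℕ), 2 < m → cnt G m = n := by
    intro m hm h2
    refine (himg m hm).resolve_left fun h1 => ?_
    have h3 := totient_dvd_cnt (G := G) m
    rw [h1, Nat.dvd_one] at h3
    rcases Nat.totient_eq_one_iff.1 h3 with e | e <;> omega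
  have hmem : ∀ {g : G} {d : ℕ}, d ∣ orderOf g → d ∈ Set.range (orderOf : G → ℕ) := by
    intro g d hd
    refine ⟨g ^ (orderOf g / d), ?_⟩
    have h1 := orderOf_pos g
    rw [orderOf_pow_of_dvd (Nat.div_pos (Nat.le_of_dvd h1 hd)
      (Nat.pos_of_dvd_of_pos hd h1)).ne' (Nat.div_dvd_of_dvd hd), Nat.div_div_self hd h1.ne']
  have hprime : ∀ q : ℕ, q.Prime → q ∣ Nat.card G → q ∈ Set.range (orderOf : G → ℕ) :=
    fun q hq hqG => by
      have := Fact.mk hq
      exact exists_prime_orderOf_dvd_card' q hqG
  have hrangedvd : ∀ d ∈ Set.range (orderOf : G → ℕ), d ∣ Nat.card G := by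
    rintro _ ⟨g, rfl⟩; exact orderOf_dvd_natCard g
  have hq1 : ∀ q : ℕ, q.Prime → q ∣ Nat.card G → q ∣ 1 + cnt G q := fun q hq hqG => by
    have := dvd_sum_cnt (G := G) hqG {1, q} (fun d => by rw [Nat.dvd_prime hq]; simp)
    rwa [Finset.sum_pair hq.one_lt.ne, cnt_one] at this
  -- no square of an odd prime, and two primes only in special shapes
  have hsq : ∀ q : ℕ, q.Prime → cnt G q = n → q ^ 2 ∉ Set.range (orderOf : G → ℕ) := by
    intro q hq hc hmem2
    have h1 := dvd_sum_cnt (G := G) (hrangedvd _ hmem2) _ (dvd_prime_sq hq)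
    rw [Finset.sum_insert (by simp [hq.one_lt.ne]; nlinarith [hq.two_le]),
      Finset.sum_pair (by nlinarith [hq.two_le]), cnt_one, hc,
      hbig _ hmem2 (by nlinarith [hq.two_le])] at h1
    have h2 : q ∣ 1 + (n + n) := (dvd_pow_self q two_ne_zero).trans h1
    have h3 := hq1 q hq ((dvd_pow_self q two_ne_zero).trans (hrangedvd _ hmem2))
    rw [hc] at h3
    have h4 : q ∣ 1 := (by
      have := Nat.dvd_sub (dvd_mul_of_dvd_right h3 2) h2
      rwa [show 2 * (1 + n) - (1 + (n + n)) = 1 by omega] at this)
    exact hq.ne_one (Nat.dvd_one.1 h4)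
  have hpair : ∀ q s : ℕ, q.Prime → s.Prime → q ≠ s → 2 < q → q ∣ Nat.card G → s ∣ Nat.card G →
      cnt G q = n → cnt G s = n → False := by
    intro q s hq hs hqs hq2 hqG hsG hcq hcs
    have hd : q * s ∣ Nat.card G :=
      ((Nat.coprime_primes hq hs).2 hqs).mul_dvd_of_dvd_of_dvd hqG hsG
    have hne : q * s ≠ q ∧ q * s ≠ s ∧ q * s ≠ 1 :=
      ⟨by nlinarith [hs.two_le, hq.two_le], by nlinarith [hs.two_le, hq.two_le],
        by nlinarith [hs.two_le, hq.two_le]⟩
    have h1 := dvd_sum_cnt (G := G) hd _ (dvd_prime_mul hq hs)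
    rw [Finset.sum_insert (by simp [hq.one_lt.ne, hs.one_lt.ne, hne.2.2.symm]),
      Finset.sum_insert (by simp [hqs, hne.1.symm]), Finset.sum_pair hne.2.1.symm, cnt_one,
      hcq, hcs] at h1
    have h3 := hq1 q hq hqG
    rw [hcq] at h3
    have h1' : q ∣ 1 + (n + (n + cnt G (q * s))) := (dvd_mul_right q s).trans h1
    by_cases hm : q * s ∈ Set.range (orderOf : G → ℕ)
    · rw [hbig _ hm (by nlinarith [hs.two_le])] at h1'
      have h4 : q ∣ 2 := (by
        have := Nat.dvd_sub (dvd_mul_of_dvd_right h3 3) h1'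
        rwa [show 3 * (1 + n) - (1 + (n + (n + n))) = 2 by omega] at this)
      have := Nat.le_of_dvd two_pos h4
      omega
    · rw [cnt_eq_zero hm] at h1'
      have h4 : q ∣ 1 := (by
        have := Nat.dvd_sub (dvd_mul_of_dvd_right h3 2) h1'
        rwa [show 2 * (1 + n) - (1 + (n + (n + 0))) = 1 by omega] at this)
      exact hq.ne_one (Nat.dvd_one.1 h4)
  by_cases hU : cnt G 2 = 1
  swap
  · -- no unique involution: prime exponent
    have hall : ∀ m ∈ Set.range (orderOf : G → ℕ), m ≠ 1 → cnt G m = n := by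
      intro m hm hm1
      rcases Nat.lt_or_ge 2 m with h2 | h2
      · exact hbig m hm h2
      · obtain ⟨g, hg⟩ := hm
        obtain rfl : m = 2 := by have := orderOf_pos g; omega
        exact (himg _ ⟨g, hg⟩).resolve_left hU
    obtain ⟨p, hp, hpm⟩ := Nat.exists_prime_and_dvd (show m₀ ≠ 1 by
      rintro rfl; rw [cnt_one] at hm₀; exact hn hm₀.symm)
    have hpG : p ∣ Nat.card G := hpm.trans (hrangedvd _ ⟨g₀, hg₀⟩)
    have hcp : ∀ q, q.Prime → q ∣ Nat.card G → cnt G q = n := fun q hq hqG =>
      hall q (hprime q hq hqG) hq.ne_one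
    have huniq : ∀ q, q.Prime → q ∣ Nat.card G → q = p := by
      intro q hq hqG
      by_contra hqp
      rcases Nat.lt_or_ge 2 q with h2 | h2
      · exact hpair q p hq hp hqp h2 hqG hpG (hcp q hq hqG) (hcp p hp hpG)
      · refine hpair p q hp hq (Ne.symm hqp) ?_ hpG hqG (hcp p hp hpG) (hcp q hq hqG)
        have := hq.two_le
        have := hp.two_le
        omega
    have hexp : ∀ g : G, g ^ p = 1 := by
      intro g
      have := Fact.mk hp
      obtain ⟨k, hk⟩ := IsPGroup.iff_orderOf.1 (isPGroup_of_primes huniq) g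
      refine orderOf_dvd_iff_pow_eq_one.1 ?_
      rcases Nat.lt_or_ge k 2 with h2 | h2
      · rw [hk]; simpa using pow_dvd_pow p (Nat.lt_succ_iff.1 h2)
      · exact absurd (hmem (g := g) (hk ▸ pow_dvd_pow p h2)) (hsq p hp (hcp p hp hpG))
    refine Or.inl ⟨p, hp, isPGroup_of_primes huniq, ?_, ?_⟩
    · have h1 : cnt G m₀ < Nat.card G :=
        Finite.card_subtype_lt (x := (1 : G)) (by
          rw [orderOf_one]; rintro rfl; rw [cnt_one] at hm₀; exact hn hm₀.symm)
      omega
    · refine (hp.eq_one_or_self_of_dvd _ (Monoid.exponent_dvd_of_forall_pow_eq_one hexp)).resolve_left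
        fun h1 => ?_
      have := Monoid.pow_exponent_eq_one g₀
      rw [h1, pow_one] at this
      subst this
      rw [orderOf_one] at hg₀
      rw [← hg₀, cnt_one] at hm₀
      exact hn hm₀.symm
  · -- unique involution
    right
    obtain ⟨⟨t, ht⟩⟩ := (Nat.card_pos_iff.1 (show 0 < cnt G 2 by omega)).1
    obtain ⟨hsub, -⟩ := Nat.card_eq_one_iff_unique.1 hU
    have huniq : ∀ x : G, orderOf x = 2 → x = t := fun x hx =>
      congrArg Subtype.val (hsub.elim ⟨x, hx⟩ ⟨t, ht⟩)
    have htc : ∀ g : G, Commute t g := fun g => by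
      have h1 : g * t * g⁻¹ = t :=
        huniq _ (by rw [← MulAut.conj_apply, MulEquiv.orderOf_eq]; exact ht)
      exact (mul_inv_eq_iff_eq_mul.1 h1).symm
    have h2G : 2 ∣ Nat.card G := ht ▸ orderOf_dvd_natCard t
    have hcq : ∀ q : ℕ, q.Prime → q ∣ Nat.card G → q ≠ 2 → cnt G q = n := fun q hq hqG h2 =>
      hbig q (hprime q hq hqG) (by have := hq.two_le; omega)
    have hodd : ∀ q s : ℕ, q.Prime → s.Prime → q ∣ Nat.card G → s ∣ Nat.card G → q ≠ 2 → s ≠ 2 →
        q = s := fun q s hq hs hqG hsG hq2 hs2 => by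
      by_contra hne
      exact hpair q s hq hs hne (by have := hq.two_le; omega) hqG hsG (hcq q hq hqG hq2)
        (hcq s hs hsG hs2)
    have htwoq : ∀ q : ℕ, q.Prime → q ∣ Nat.card G → q ≠ 2 →
        2 * q ∈ Set.range (orderOf : G → ℕ) := by
      intro q hq hqG hq2
      obtain ⟨x, hx⟩ := hprime q hq hqG
      refine ⟨t * x, ?_⟩
      rw [(htc x).orderOf_mul_eq_mul_orderOf_of_coprime
        (by rw [ht, hx]; exact (Nat.coprime_primes Nat.prime_two hq).2 (Ne.symm hq2)), ht, hx]
    have : Fact (Nat.Prime 2) := ⟨Nat.prime_two⟩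
    by_cases h4 : 4 ∈ Set.range (orderOf : G → ℕ)
    · have hno : ∀ q : ℕ, q.Prime → q ∣ Nat.card G → q = 2 := by
        intro q hq hqG
        by_contra hq2
        have hq3 : 3 ≤ q := by have := hq.two_le; omega
        have hcop : Nat.Coprime 4 q := by
          rw [show (4 : ℕ) = 2 ^ 2 by rfl]
          exact Nat.Coprime.pow_left _ ((Nat.coprime_primes Nat.prime_two hq).2 (Ne.symm hq2))
        have hd : 4 * q ∣ Nat.card G := hcop.mul_dvd_of_dvd_of_dvd (hrangedvd _ h4) hqG
        have h1 := dvd_sum_cnt (G := G) hd {1, 2, 4, q, 2 * q, 4 * q} (fun d => by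
          simp only [Finset.mem_insert, Finset.mem_singleton]
          constructor
          · intro h
            obtain ⟨a, b, ha, hb, rfl⟩ := Nat.dvd_mul.1 h
            rw [show (4 : ℕ) = 2 ^ 2 by rfl] at ha
            obtain ⟨i, hi, rfl⟩ := (Nat.dvd_prime_pow Nat.prime_two).1 ha
            rcases (Nat.dvd_prime hq).1 hb with rfl | rfl <;> interval_cases i <;> simp
          · rintro (rfl | rfl | rfl | rfl | rfl | rfl)
            · simp
            · exact dvd_mul_of_dvd_left (by norm_num) _
            · exact dvd_mul_right _ _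
            · exact dvd_mul_left _ _
            · exact mul_dvd_mul_right (by norm_num) _
            · exact dvd_rfl)
        have hq4 : q ≠ 4 := by rintro rfl; norm_num at hq
        rw [Finset.sum_insert (by simp; omega), Finset.sum_insert (by simp; omega),
          Finset.sum_insert (by simp; omega), Finset.sum_insert (by simp; omega),
          Finset.sum_pair (by omega), cnt_one, hU, hbig 4 h4 (by omega),
          hcq q hq hqG hq2, hbig _ (htwoq q hq hqG hq2) (by omega)] at h1
        have h3 := hq1 q hq hqG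
        rw [hcq q hq hqG hq2] at h3
        have h1' : q ∣ 1 + (1 + (n + (n + (n + cnt G (4 * q))))) := (dvd_mul_left q 4).trans h1
        by_cases hm : 4 * q ∈ Set.range (orderOf : G → ℕ)
        · rw [hbig _ hm (by omega)] at h1'
          have h5 : q ∣ 2 := (by
            have := Nat.dvd_sub (dvd_mul_of_dvd_right h3 4) h1'
            rwa [show 4 * (1 + n) - (1 + (1 + (n + (n + (n + n))))) = 2 by omega] at this)
          have := Nat.le_of_dvd two_pos h5
          omega
        · rw [cnt_eq_zero hm] at h1'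
          have h5 : q ∣ 1 := (by
            have := Nat.dvd_sub (dvd_mul_of_dvd_right h3 3) h1'
            rwa [show 3 * (1 + n) - (1 + (1 + (n + (n + (n + 0))))) = 1 by omega] at this)
          exact hq.ne_one (Nat.dvd_one.1 h5)
      have hG2 : IsPGroup 2 G := isPGroup_of_primes hno
      have h8 : 8 ∉ Set.range (orderOf : G → ℕ) := by
        intro h8
        have e4 := dvd_sum_cnt (G := G) (M := 4) (hrangedvd _ h4) {1, 2, 4} (fun d => by
          simpa using dvd_prime_sq Nat.prime_two d)
        have e8 := dvd_sum_cnt (G := G) (M := 8) (hrangedvd _ h8) {1, 2, 4, 8} (fun d => by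
          simp only [Finset.mem_insert, Finset.mem_singleton]
          rw [show (8 : ℕ) = 2 ^ 3 by rfl, Nat.dvd_prime_pow Nat.prime_two]
          constructor
          · rintro ⟨i, hi, rfl⟩; interval_cases i <;> simp
          · rintro (rfl | rfl | rfl | rfl)
            exacts [⟨0, by simp⟩, ⟨1, by simp⟩, ⟨2, by simp⟩, ⟨3, by simp⟩])
        have eφ := totient_dvd_cnt (G := G) 8
        rw [hbig 8 h8 (by norm_num), show Nat.totient 8 = 4 by
          rw [show (8 : ℕ) = 2 ^ 3 by rfl, Nat.totient_prime_pow Nat.prime_two (by norm_num)]; norm_num] at eφ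
        simp only [Finset.sum_insert, Finset.mem_insert, Finset.mem_singleton, Finset.sum_singleton,
          OfNat.one_ne_ofNat, OfNat.ofNat_eq_ofNat, Nat.reduceEqDiff, or_self, not_false_eq_true,
          cnt_one, hU, hbig 4 h4 (by norm_num), hbig 8 h8 (by norm_num)] at e4 e8
        omega
      have hord : ∀ g : G, orderOf g ∣ 4 := by
        intro g
        obtain ⟨k, hk⟩ := IsPGroup.iff_orderOf.1 hG2 g
        rcases Nat.lt_or_ge k 3 with h3 | h3
        · rw [hk]; exact pow_dvd_pow 2 (Nat.lt_succ_iff.1 h3)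
        · exact absurd (hmem (g := g) (hk ▸ pow_dvd_pow 2 h3)) h8
      rcases Lib.PGroups.isCyclic_or_quaternion hG2
        (fun x y hx hy => by rw [huniq x hx, huniq y hy]; exact Subgroup.mem_zpowers t) with
        hc | ⟨-, k, hk, ⟨e⟩⟩
      · refine Or.inr (Or.inl ⟨hc, ?_⟩)
        obtain ⟨g, hg⟩ := hc.exists_generator
        rw [← orderOf_eq_card_of_forall_mem_zpowers hg]
        refine Nat.dvd_antisymm (hord g) ?_
        rw [orderOf_eq_card_of_forall_mem_zpowers hg]
        exact hrangedvd _ h4
      · refine Or.inl ?_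
        have hk1 : k = 1 := by
          have h1 := hord (e.symm (QuaternionGroup.a 1))
          rw [MulEquiv.orderOf_eq, QuaternionGroup.orderOf_a_one] at h1
          have := Nat.le_of_dvd (by norm_num) h1
          have := Nat.pow_le_pow_right (show 0 < 2 by norm_num) hk
          by_contra hk1
          have := Nat.pow_le_pow_right (show 0 < 2 by norm_num) (show 2 ≤ k by omega)
          omega
        subst hk1
        exact ⟨e⟩
    · -- order `2 q ^ b`
      obtain ⟨S⟩ := (inferInstance : Nonempty (Sylow 2 G))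
      have hS : Nat.card S = 2 := by
        have hle : (S : Subgroup G) ≤ Subgroup.zpowers t := by
          intro x hx
          obtain ⟨k, hk⟩ := IsPGroup.iff_orderOf.1 S.2 ⟨x, hx⟩
          rw [Subgroup.orderOf_mk] at hk
          rcases Nat.lt_or_ge k 2 with h2 | h2
          · interval_cases k
            · rw [pow_zero, orderOf_eq_one_iff] at hk; rw [hk]; exact one_mem _
            · rw [huniq x (by simpa using hk)]; exact Subgroup.mem_zpowers t
          · exact absurd (hmem (g := x) (hk ▸ pow_dvd_pow 2 h2)) h4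
        refine Nat.le_antisymm ((Subgroup.card_le_of_le hle).trans_eq
          (by rw [Nat.card_zpowers, ht])) ?_
        obtain ⟨z, hz⟩ := exists_prime_orderOf_dvd_card' (G := S) 2
          (S.dvd_card_of_dvd_card h2G)
        exact le_of_eq_of_le hz.symm (Nat.le_of_dvd Nat.card_pos (orderOf_dvd_natCard z))
      obtain ⟨q, hq, hqG, hq2⟩ : ∃ q : ℕ, q.Prime ∧ q ∣ Nat.card G ∧ q ≠ 2 := by
        by_contra hcon
        push Not at hcon
        obtain ⟨k, hk⟩ := IsPGroup.iff_orderOf.1 (isPGroup_of_primes hcon) g₀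
        rw [← hg₀] at hm₀
        rcases Nat.lt_or_ge k 2 with h2 | h2
        · interval_cases k
          · rw [hk, pow_zero, cnt_one] at hm₀; exact hn hm₀.symm
          · rw [hk, pow_one, hU] at hm₀; exact hn hm₀.symm
        · exact h4 (hmem (g := g₀) (hk ▸ pow_dvd_pow 2 h2))
      have := Fact.mk hq
      obtain ⟨Q⟩ := (inferInstance : Nonempty (Sylow q G))
      have hQexp : ∀ x ∈ (Q : Subgroup G), x ^ q = 1 := by
        intro x hx
        obtain ⟨k, hk⟩ := IsPGroup.iff_orderOf.1 Q.2 ⟨x, hx⟩
        rw [Subgroup.orderOf_mk] at hk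
        refine orderOf_dvd_iff_pow_eq_one.1 ?_
        rcases Nat.lt_or_ge k 2 with h2 | h2
        · rw [hk]; simpa using pow_dvd_pow q (Nat.lt_succ_iff.1 h2)
        · exact absurd (hmem (g := x) (hk ▸ pow_dvd_pow q h2)) (hsq q hq (hcq q hq hqG hq2))
      have hc0 : Nat.card G ≠ 0 := Nat.card_pos.ne'
      have hcardG : Nat.card G = 2 * Nat.card Q := by
        rw [← hS, S.card_eq_multiplicity, Q.card_eq_multiplicity]
        refine Nat.eq_of_factorization_eq hc0 ?_ ?_
        · exact Nat.mul_ne_zero (pow_ne_zero _ (by norm_num)) (pow_ne_zero _ hq.ne_zero)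
        intro r
        rw [Nat.factorization_mul (pow_ne_zero _ (by norm_num)) (pow_ne_zero _ hq.ne_zero),
          Nat.Prime.factorization_pow Nat.prime_two, Nat.Prime.factorization_pow hq,
          Finsupp.add_apply]
        by_cases hr2 : r = 2
        · subst hr2; simp [hq2]
        by_cases hrq : r = q
        · subst hrq; simp [Ne.symm hq2]
        · rw [Finsupp.single_eq_of_ne hr2, Finsupp.single_eq_of_ne hrq]
          by_contra h0
          have hr := Nat.mem_primeFactors.1 (Nat.support_factorization (Nat.card G) ▸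
            Finsupp.mem_support_iff.2 h0)
          exact hrq (hodd r q hr.1 hq hr.2.1 hqG hr2 hq2)
      have hord : ∀ g : G, g ^ (2 * q) = 1 := by
        intro g
        refine orderOf_dvd_iff_pow_eq_one.1 ?_
        obtain ⟨k, hk⟩ := IsPGroup.iff_card.1 Q.2
        have hdvd : orderOf g ∣ 2 * q ^ k := by
          have := orderOf_dvd_natCard g
          rwa [hcardG, show Nat.card Q = q ^ k from hk] at this
        obtain ⟨a, b, ha, hb, hab⟩ := Nat.dvd_mul.1 hdvd
        obtain ⟨i, -, rfl⟩ := (Nat.dvd_prime_pow hq).1 hb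
        rw [← hab]
        refine mul_dvd_mul ha ?_
        rcases Nat.lt_or_ge i 2 with h2 | h2
        · simpa using pow_dvd_pow q (Nat.lt_succ_iff.1 h2)
        · exact absurd (hmem (g := g) ((pow_dvd_pow q h2).trans (hab ▸ dvd_mul_left _ a)))
            (hsq q hq (hcq q hq hqG hq2))
      have hcount : Nat.card {g : G // g ^ q = 1} = Nat.card Q := by
        have e1 := card_pow_eq (G := G) _ (dvd_prime_mul Nat.prime_two hq)
        rw [Nat.card_congr (Equiv.subtypeUnivEquiv hord),
          Finset.sum_insert (by simp [hq.one_lt.ne]; have := hq.two_le; omega),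
          Finset.sum_insert (by simp [Ne.symm hq2]; have := hq.two_le; omega),
          Finset.sum_pair (by have := hq.two_le; omega), cnt_one, hU, hcq q hq hqG hq2,
          hbig _ (htwoq q hq hqG hq2) (by have := hq.two_le; omega), hcardG] at e1
        have e2 := card_pow_eq (G := G) {1, q} (fun d => by rw [Nat.dvd_prime hq]; simp)
        rw [Finset.sum_pair hq.one_lt.ne, cnt_one, hcq q hq hqG hq2] at e2
        omega
      have hmemQ : ∀ g : G, g ^ q = 1 → g ∈ (Q : Subgroup G) := by
        have := Set.eq_of_subset_of_ncard_le (s := ((Q : Subgroup G) : Set G))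
          (t := {g : G | g ^ q = 1}) hQexp (by
            rw [← Nat.card_coe_set_eq, ← Nat.card_coe_set_eq]; exact hcount.le)
        intro g hg
        exact SetLike.mem_coe.1 (this ▸ hg)
      have hTQ : ∀ (a : Subgroup.zpowers t) (b : (Q : Subgroup G)),
          Commute (((Subgroup.zpowers t).subtype) a) ((Q : Subgroup G).subtype b) := fun a b => by
        obtain ⟨i, hi⟩ := Subgroup.mem_zpowers_iff.1 a.2
        show Commute (a : G) b
        rw [← hi]; exact (htc b).zpow_left i
      let F : Subgroup.zpowers t × (Q : Subgroup G) →* G :=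
        MonoidHom.noncommCoprod (Subgroup.zpowers t).subtype (Q : Subgroup G).subtype hTQ
      have hFinj : Function.Injective F := by
        rw [← MonoidHom.ker_eq_bot_iff, Subgroup.eq_bot_iff_forall]
        rintro ⟨a, b⟩ hab
        have e : (a : G) * b = 1 := hab
        have hb : (b : G) ∈ Subgroup.zpowers t := by
          rw [eq_inv_of_mul_eq_one_right e]; exact inv_mem a.2
        have hb1 : orderOf (b : G) = 1 := by
          refine Nat.eq_one_of_dvd_coprimes ((Nat.coprime_primes Nat.prime_two hq).2 (Ne.symm hq2))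
            (ht ▸ orderOf_dvd_of_mem_zpowers hb) (orderOf_dvd_of_pow_eq_one (hQexp b b.2))
        rw [orderOf_eq_one_iff] at hb1
        rw [hb1, mul_one] at e
        exact Prod.ext (Subtype.ext e) (Subtype.ext hb1)
      have hcardF : Nat.card (Subgroup.zpowers t × (Q : Subgroup G)) = Nat.card G := by
        rw [Nat.card_prod, Nat.card_zpowers, ht, hcardG]
      let e1 : Subgroup.zpowers t × (Q : Subgroup G) ≃* G :=
        MulEquiv.ofBijective F ((Nat.bijective_iff_injective_and_card F).2 ⟨hFinj, hcardF⟩)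
      let eM : (Q : Subgroup G) ≃* Shrink.{0} (Q : Subgroup G) := Shrink.mulEquiv.symm
      have hQq : IsPGroup q (Q : Subgroup G) := Q.2
      refine Or.inr (Or.inr ⟨q, Shrink.{0} (Q : Subgroup G), inferInstance, Finite.of_equiv _ (equivShrink _),
        hq, hq2, hQq.of_equiv eM, ?_, ⟨?_⟩⟩)
      · rw [← Monoid.exponent_eq_of_mulEquiv eM]
        refine (hq.eq_one_or_self_of_dvd _ (Monoid.exponent_dvd_of_forall_pow_eq_one
          fun x => Subtype.ext (by simpa using hQexp x x.2))).resolve_left fun h1 => ?_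
        obtain ⟨x, hx⟩ := exists_prime_orderOf_dvd_card' (G := (Q : Subgroup G)) q
          (Q.dvd_card_of_dvd_card hqG)
        have := Monoid.order_dvd_exponent x
        rw [hx, h1, Nat.dvd_one] at this
        exact hq.ne_one this
      · have : IsCyclic (Subgroup.zpowers t) := inferInstance
        have eT : Subgroup.zpowers t ≃* Multiplicative (ZMod 2) :=
          mulEquivOfCyclicCardEq (by rw [Nat.card_zpowers, ht]; simp)
        exact e1.symm.trans (MulEquiv.prodCongr eT eM)

end Cfsg.Agent.S3995
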