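import Cfsg.Statements.S3996
import Cfsg.Agent.Lib.Fg6.ThreeValues
import Cfsg.Agent.Lib.Hall.Converse
-- import your own Cfsg.Agent.* helpers here

set_option autoImplicit false
open Cfsg

namespace Cfsg.Agent.S3996

/-- A finite group in which the numbers of elements of each order that occurs (the numbers #{g : o(g) = m}, m ranging over the element orders) take exactly three different values is solvable. -/
theorem result {G : Type*} [Group G] [Finite G] (h : (((fun m : ℕ => Nat.card {g : G // orderOf g = m}) '' Set.range (orderOf : G → ℕ))).ncard = 3) : Group.IsSolvable G := by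
  classical
  obtain ⟨a, b, hab', ha, hb, hv, -, -⟩ := Lib.Fg6.ThreeValues.exists_values h
  open Lib.Fg6.ThreeValues Lib.Fg6.OrderCount in
  let π := (Nat.card G).primeFactors.filter (· ≠ 2)
  have hpf : (Nat.card G).primeFactors ⊆ insert 2 π := fun p hp => by
    by_cases h2 : p = 2
    · exact Finset.mem_insert.2 (Or.inl h2)
    · exact Finset.mem_insert_of_mem (Finset.mem_filter.2 ⟨hp, h2⟩)
  open Lib.Fg6.ThreeValues Lib.Fg6.OrderCount in
  have hVals : Vals G a b := vals_of_values ha hv
  have hπ : π.card ≤ 2 := Lib.Fg6.ThreeValues.card_odd_primes_le_two (by omega) hVals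
  by_cases h2G : 2 ∣ Nat.card G
  swap
  · refine Lib.Hall.Converse.isSolvable_of_card_primeFactors_le_two
      (le_trans (Finset.card_le_card fun p hp => ?_) hπ)
    exact Finset.mem_filter.2 ⟨hp, fun e => h2G (e ▸ (Nat.mem_primeFactors.1 hp).2.1)⟩
  by_cases hone : π.card ≤ 1
  · exact Lib.Hall.Converse.isSolvable_of_card_primeFactors_le_two
      ((Finset.card_le_card hpf).trans ((Finset.card_insert_le _ _).trans (by omega)))
  obtain ⟨p, q, hpq, hπe⟩ := Finset.card_eq_two.1 (show π.card = 2 by omega)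
  obtain ⟨⟨hp, hpG, -⟩, hp2⟩ :=
    (Finset.mem_filter.1 (show p ∈ π by rw [hπe]; simp)).imp_left Nat.mem_primeFactors.1
  obtain ⟨⟨hq, hqG, -⟩, hq2⟩ :=
    (Finset.mem_filter.1 (show q ∈ π by rw [hπe]; simp)).imp_left Nat.mem_primeFactors.1
  have hp' := Fact.mk hp
  have hq' := Fact.mk hq
  open Lib.Fg6.ThreeValues Lib.Fg6.OrderCount in
  have h2 : cnt G 2 = 1 := by
    by_contra hne
    have h2m : (2 : ℕ) ∈ Set.range (orderOf : G → ℕ) := exists_prime_orderOf_dvd_card' 2 h2G
    have hodd : ¬ 2 ∣ cnt G 2 := by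
      have e := cnt_prime_mod (G := G) Nat.prime_two h2G
      intro hd
      rw [(ZMod.natCast_eq_zero_iff _ _).2 hd] at e
      exact absurd e (by decide)
    obtain ⟨c, hc⟩ : ∃ c, Vals G c c := by
      rcases (hv 2 h2m).resolve_left hne with e | e
      · refine ⟨b, by omega, fun d hd => ?_⟩
        rcases hVals.2 d hd with f | f | f
        · exact Or.inl f
        · exact absurd (f ▸ two_dvd_cnt (G := G) hd) (e ▸ hodd)
        · exact Or.inr (Or.inl f)
      · refine ⟨a, by omega, fun d hd => ?_⟩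
        rcases hVals.2 d hd with f | f | f
        · exact Or.inl f
        · exact Or.inr (Or.inl f)
        · exact absurd (f ▸ two_dvd_cnt (G := G) hd) (e ▸ hodd)
    have e1 : cnt G p = c := (prime_value hc hp hp2 hpG).elim id id
    have e2 : cnt G q = c := (prime_value hc hq hq2 hqG).elim id id
    obtain ⟨-, h1, -⟩ := pair_same hc hp hq hpq hp2 hq2 hpG hqG e1 e2
    have h3 := cnt_prime_mod hp hpG
    rw [e1, h1] at h3
    exact two_ne_zero' hp hp2 (by linear_combination h3)
  open Lib.Fg6.ThreeValues Lib.Fg6.OrderCount in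
  have h4 : cnt G 4 = 0 := by
    rcases prime_value hVals hp hp2 hpG with p1 | p1 <;>
      rcases prime_value hVals hq hq2 hqG with q1 | q1
    · exact no_four_same h2 hVals hp hq hpq hp2 hq2 hpG hqG p1 q1
    · obtain ⟨-, hbp, haq⟩ := pair_diff (by omega) hVals hab' hp hq hpq hp2 hq2 hpG hqG p1 q1
      exact ((hVals.2 4 (by norm_num)).resolve_right (fun e => e.elim
        (no_four_diff h2 hVals hp hp2 hpG p1 hbp)
        (no_four_diff h2 (vals_comm (by omega) hVals) hq hq2 hqG q1 haq)))
    · obtain ⟨-, hbq, hap⟩ := pair_diff (by omega) hVals hab' hq hp hpq.symm hq2 hp2 hqG hpG q1 p1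
      exact ((hVals.2 4 (by norm_num)).resolve_right (fun e => e.elim
        (no_four_diff h2 hVals hq hq2 hqG q1 hbq)
        (no_four_diff h2 (vals_comm (by omega) hVals) hp hp2 hpG p1 hap)))
    · exact no_four_same h2 (vals_comm (by omega) hVals) hp hq hpq hp2 hq2 hpG hqG p1 q1
  -- the Sylow 2-subgroup is the central involution
  obtain ⟨hs, ⟨⟨z, hz⟩⟩⟩ := Nat.card_eq_one_iff_unique.1 h2
  have huniq : ∀ w : G, orderOf w = 2 → w = z := fun w hw =>
    congrArg Subtype.val (@Subsingleton.elim _ hs ⟨w, hw⟩ ⟨z, hz⟩)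
  have hZn : (Subgroup.zpowers z).Normal := ⟨fun w hw g => by
    obtain ⟨i, rfl⟩ := Subgroup.mem_zpowers_iff.1 hw
    rw [← conj_zpow, show g * z * g⁻¹ = z from
      huniq _ ((MulEquiv.orderOf_eq (MulAut.conj g) z).trans hz)]
    exact Subgroup.zpow_mem_zpowers _ _⟩
  have hindex : ¬ 2 ∣ Nat.card (G ⧸ Subgroup.zpowers z) := by
    intro hd
    obtain ⟨w, hw⟩ := exists_prime_orderOf_dvd_card' 2 hd
    obtain ⟨g, rfl⟩ := QuotientGroup.mk'_surjective (Subgroup.zpowers z) w
    have hgz : orderOf (QuotientGroup.mk' (Subgroup.zpowers z) g) ∣ orderOf g := orderOf_map_dvd _ g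
    rw [hw] at hgz
    have h4' : ∀ x : G, orderOf x ≠ 4 := fun x hx => by
      have := Lib.Fg6.OrderCount.cnt_pos (G := G) (m := 4) ⟨x, hx⟩
      omega
    obtain ⟨k, hk⟩ := hgz
    have hkodd : Odd k := by
      rw [Nat.odd_iff]
      by_contra hne
      obtain ⟨j, rfl⟩ : 2 ∣ k := by omega
      refine h4' (g ^ j) ?_
      have hj : j ≠ 0 := by
        rintro rfl
        exact (orderOf_pos g).ne' (by rw [hk])
      rw [orderOf_pow_of_dvd hj ⟨4, by rw [hk]; ring⟩, hk, show 2 * (2 * j) = 4 * j by ring]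
      exact Nat.mul_div_cancel _ (Nat.pos_of_ne_zero hj)
    have h1 : g ^ k = z := huniq _ (by
      rw [orderOf_pow_of_dvd (by rintro rfl; simp at hkodd) ⟨2, by rw [hk]; ring⟩, hk]
      exact Nat.mul_div_cancel _ (Nat.pos_of_ne_zero (by rintro rfl; simp at hkodd)))
    have h3 : QuotientGroup.mk' (Subgroup.zpowers z) g ^ k = 1 := by
      rw [← map_pow, h1]
      exact (QuotientGroup.eq_one_iff _).2 (Subgroup.mem_zpowers z)
    have h5 := orderOf_dvd_of_pow_eq_one h3
    rw [hw] at h5
    exact (Nat.not_even_iff_odd.2 hkodd) (even_iff_two_dvd.2 h5)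
  have hq1 : Group.IsSolvable (G ⧸ Subgroup.zpowers z) :=
    Lib.Hall.Converse.isSolvable_of_card_primeFactors_le_two
      (le_trans (Finset.card_le_card fun r hr => by
        obtain ⟨hr', hrd, -⟩ := Nat.mem_primeFactors.1 hr
        exact Finset.mem_filter.2 ⟨Nat.mem_primeFactors.2 ⟨hr', hrd.trans (Subgroup.card_quotient_dvd_card _),
          Nat.card_pos.ne'⟩, fun e => hindex (e ▸ hrd)⟩) hπ)
  have hq2' : Group.IsSolvable (Subgroup.zpowers z) :=
    Group.isSolvable_of_comm fun u v => mul_comm' u v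
  haveI := hq1
  haveI := hq2'
  exact Group.isSolvable_of_ker_le_range (Subgroup.zpowers z).subtype
    (QuotientGroup.mk' (Subgroup.zpowers z))
    (by rw [QuotientGroup.ker_mk', Subgroup.range_subtype])

end Cfsg.Agent.S3996
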