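import Cfsg.Statements.S3997
import Mathlib.GroupTheory.Nilpotent

set_option autoImplicit false
open Cfsg

namespace Cfsg.Agent.S3997

/-- Let G and H be finite groups with the same order type: for every m they have the same number of elements of order m. If G is nilpotent then so is H. -/
theorem result {G H : Type*} [Group G] [Finite G] [Group H] [Finite H] (hT : (∀ m : ℕ, Nat.card {g : G // orderOf g = m} = Nat.card {h : H // orderOf h = m})) (hG : Group.IsNilpotent G) :
    Group.IsNilpotent H := by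
  classical
  refine (Group.isNilpotent_of_finite_tfae (G := H)).out 3 0 |>.mp ?_
  intro p hp P
  haveI := hp
  obtain ⟨Q⟩ : Nonempty (Sylow p G) := inferInstance
  haveI := hG
  haveI hQn : (Q : Subgroup G).Normal := inferInstance
  haveI := Q.unique_of_normal hQn
  let S : Set ℕ := {n | ∃ a, n = p ^ a}
  have hfib : ∀ m : ℕ, Nonempty ({g : G // orderOf g = m} ≃ {h : H // orderOf h = m}) :=
    fun m => (Finite.card_eq.1 (hT m))
  let e : G ≃ H := Equiv.ofFiberEquiv fun m => (hfib m).some
  have he : ∀ g, orderOf (e g) = orderOf g := fun g =>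
    Equiv.ofFiberEquiv_map (fun m => (hfib m).some) g
  have hcard : Nat.card G = Nat.card H := Nat.card_congr e
  have hQ : ∀ g : G, g ∈ (Q : Subgroup G) ↔ orderOf g ∈ S := by
    intro g
    constructor
    · intro hg
      obtain ⟨a, ha⟩ := IsPGroup.iff_orderOf.1 Q.2 ⟨g, hg⟩
      exact ⟨a, by rw [← ha, Subgroup.orderOf_mk]⟩
    · rintro ⟨a, ha⟩
      have hz : IsPGroup p (Subgroup.zpowers g) := IsPGroup.of_card (n := a) (by rw [Nat.card_zpowers, ha])
      obtain ⟨Q', hQ'⟩ := hz.exists_le_sylow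
      rw [Subsingleton.elim Q Q']
      exact hQ' (Subgroup.mem_zpowers g)
  have hsub : ((P : Subgroup H) : Set H) ⊆ {h | orderOf h ∈ S} := by
    intro h hh
    obtain ⟨a, ha⟩ := IsPGroup.iff_orderOf.1 P.2 ⟨h, hh⟩
    exact ⟨a, by rw [← ha, Subgroup.orderOf_mk]⟩
  have hle : ({h : H | orderOf h ∈ S}).ncard ≤ ((P : Subgroup H) : Set H).ncard := by
    rw [← Nat.card_coe_set_eq, ← Nat.card_coe_set_eq]
    show Nat.card {h : H // orderOf h ∈ S} ≤ Nat.card (P : Subgroup H)
    rw [← Nat.card_congr (e.subtypeEquiv (p := fun g => g ∈ (Q : Subgroup G))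
      (q := fun h => orderOf h ∈ S) fun g => by rw [he, hQ]), P.card_eq_multiplicity, ← hcard,
      ← Q.card_eq_multiplicity]
  have heq := Set.eq_of_subset_of_ncard_le hsub hle
  refine ⟨fun x hx g => ?_⟩
  have hx' : x ∈ {h : H | orderOf h ∈ S} := hsub hx
  rw [← SetLike.mem_coe, heq]
  show orderOf (g * x * g⁻¹) ∈ S
  rw [← MulAut.conj_apply, MulEquiv.orderOf_eq]
  exact hx'

end Cfsg.Agent.S3997
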