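import Cfsg.Statements.S4001
import Cfsg.Agent.Lib.Fg6.TwoFrobenius

set_option autoImplicit false
open Cfsg

namespace Cfsg.Agent.S4001

open Lib.Frobenius Lib.Fg6.TwoFrobenius

/-- Let G be a 2-Frobenius group: it has normal subgroups H < K with K a Frobenius group with kernel H and G/H a Frobenius group with kernel K/H. Then G is solvable; K/H has odd order coprime to the order of H and to the order of G/K (it is the image of an odd-order Hall subgroup); G/K is cyclic; and the prime graph of G has exactly two connected components, both complete: for distinct primes p, q dividing the order of G, G has an element of order pq exactly when p and q either both divide the order of K/H or both do not. -/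
theorem result {G : Type*} [Group G] [Finite G] (H K : Subgroup G) [H.Normal] [K.Normal] (hlt : H < K)
    (hK : ∃ C : Subgroup ↥K, Cfsg.IsFrobeniusComplement C ∧ Cfsg.frobeniusKernel C = (H.subgroupOf K : Set ↥K))
    (hGH : ∃ C : Subgroup (G ⧸ H), Cfsg.IsFrobeniusComplement C ∧ Cfsg.frobeniusKernel C = (K.map (QuotientGroup.mk' H) : Set (G ⧸ H))) :
    Group.IsSolvable G ∧ Odd (Nat.card (↥K ⧸ H.subgroupOf K)) ∧
      Nat.Coprime (Nat.card (↥K ⧸ H.subgroupOf K)) (Nat.card ↥H * Nat.card (G ⧸ K)) ∧ IsCyclic (G ⧸ K) ∧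
      ∀ p q : ℕ, p.Prime → q.Prime → p ≠ q → p ∣ Nat.card G → q ∣ Nat.card G →
        ((∃ g : G, orderOf g = p * q) ↔ (p ∣ Nat.card (↥K ⧸ H.subgroupOf K) ↔ q ∣ Nat.card (↥K ⧸ H.subgroupOf K))) := by
  obtain ⟨C, hC, hCe⟩ := hK
  obtain ⟨D, hD, hDe⟩ := hGH
  set H' := H.subgroupOf K with hH'
  set Kb := K.map (QuotientGroup.mk' H) with hKb
  obtain ⟨hH'n, hcK⟩ := normal_and_isComplement'_of_coe_eq hC hCe.symm
  obtain ⟨hKbn, hcG⟩ := normal_and_isComplement'_of_coe_eq hD hDe.symm
  -- nilpotency of the kernels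
  have hHnil : Group.IsNilpotent H' := by
    obtain ⟨N, hNe, -, hN⟩ := S0042.result C hC
    obtain rfl : N = H' := SetLike.ext' (hNe.trans hCe)
    exact hN
  have hKbnil : Group.IsNilpotent Kb := by
    obtain ⟨N, hNe, -, hN⟩ := S0042.result D hD
    obtain rfl : N = Kb := SetLike.ext' (hNe.trans hDe)
    exact hN
  -- the complement of `K` is the layer
  let π : C →* Kb := ((QuotientGroup.mk' H).comp (K.subtype.comp C.subtype)).codRestrict Kb
    fun x => ⟨((x : K) : G), (x : K).2, rfl⟩
  have hπ : Function.Bijective π := by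
    refine ⟨?_, ?_⟩
    · rw [← MonoidHom.ker_eq_bot_iff, Subgroup.eq_bot_iff_forall]
      intro x hx
      have h1 : ((x : K) : G) ∈ H := (QuotientGroup.eq_one_iff _).1 (congrArg Subtype.val hx)
      exact Subtype.ext (Subgroup.disjoint_def.1 hcK.disjoint (Subgroup.mem_subgroupOf.2 h1) x.2)
    · rintro ⟨_, k, hk, rfl⟩
      obtain ⟨⟨h, c⟩, hhc, -⟩ := Subgroup.isComplement_iff_existsUnique.1 hcK ⟨k, hk⟩
      refine ⟨c, Subtype.ext ?_⟩
      show (QuotientGroup.mk' H) ((c : K) : G) = QuotientGroup.mk' H k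
      rw [show k = ((h : K) : G) * ((c : K) : G) from (congrArg Subtype.val hhc).symm, map_mul,
        show QuotientGroup.mk' H ((h : K) : G) = 1 from
          (QuotientGroup.eq_one_iff _).2 (Subgroup.mem_subgroupOf.1 h.2), one_mul]
  let eπ : C ≃* Kb := MulEquiv.ofBijective π hπ
  have hKbC : Nat.card Kb = Nat.card C := (Nat.card_congr eπ.toEquiv).symm
  have hquot : Nat.card (↥K ⧸ H') = Nat.card C := hcK.symm.index_eq_card
  have hGne : ∀ z : G ⧸ H, z ∈ Kb → z ≠ 1 → ∀ g, z * g = g * z → g ∈ Kb :=
    fun z hz hz1 g hc => kernel_centralizer hD hDe.symm hz hz1 hc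
  -- odd order
  have hodd : ¬ 2 ∣ Nat.card C := by
    intro h2
    obtain ⟨s, hs⟩ := exists_prime_orderOf_dvd_card' (G := C) 2 h2
    set z : G ⧸ H := ((π s : Kb) : G ⧸ H) with hz
    have hzo : orderOf z = 2 := by
      rw [hz, Subgroup.orderOf_coe, orderOf_injective π hπ.1, hs]
    have hz1 : z ≠ 1 := fun e => by rw [e, orderOf_one] at hzo; omega
    obtain ⟨g, hg⟩ : ∃ g : D, g ≠ 1 := by
      obtain ⟨g, hg⟩ := Subgroup.ne_bot_iff_exists_ne_one.1 hD.1
      exact ⟨g, hg⟩
    have hconj : (g : G ⧸ H) * z * (g : G ⧸ H)⁻¹ = z := by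
      obtain ⟨s', hs'⟩ := hπ.2 ⟨_, hKbn.conj_mem z (π s).2 (g : G ⧸ H)⟩
      have ho : orderOf s' = 2 := by
        rw [← orderOf_injective π hπ.1, hs', ← Subgroup.orderOf_coe]
        show orderOf (MulAut.conj (g : G ⧸ H) z) = 2
        rw [MulEquiv.orderOf_eq, hzo]
      have e : s' = s := Subtype.ext (eq_of_orderOf_eq_two hC hcK s'.2 s.2
        (by rw [Subgroup.orderOf_coe, ho]) (by rw [Subgroup.orderOf_coe, hs]))
      rw [e] at hs'
      exact (congrArg Subtype.val hs').symm
    have h1 := hGne z (π s).2 hz1 g (mul_inv_eq_iff_eq_mul.1 hconj).symm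
    exact hg (Subtype.ext (Subgroup.disjoint_def.1 hcG.disjoint h1 g.2))
  -- cyclic layer
  have hCnil : Group.IsNilpotent C := Group.nilpotent_of_mulEquiv eπ.symm
  have hCz : IsZGroup C := ⟨fun p hp P => by
    have := Fact.mk hp
    by_cases hpC : p ∣ Nat.card C
    · refine Lib.PGroups.isCyclic_of_unique_prime (fun h2 => hodd (h2 ▸ hpC)) P.2 fun x y hx hy => ?_
      exact zpowers_eq_of_isPGroup hC hcK P.2 hx hy ▸ Subgroup.mem_zpowers y
    · obtain ⟨k, hk⟩ := P.2.exists_card_eq
      have h1 : Nat.card P = 1 := by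
        rw [P.card_eq_multiplicity, Nat.factorization_eq_zero_of_not_dvd hpC, pow_zero]
      have : Subsingleton P := (Nat.card_eq_one_iff_unique.1 h1).1
      infer_instance⟩
  have hCcyc : IsCyclic C := inferInstance
  have hKbcyc : IsCyclic Kb := isCyclic_of_surjective eπ.toMonoidHom eπ.surjective
  -- the top
  have hDcomm : IsMulCommutative (⊤ : Subgroup D) := by
    refine ⟨⟨fun a b => ?_⟩⟩
    let φ : D →* MulAut Kb := (MulAut.conjNormal (H := Kb)).comp D.subtype
    have hinj : Function.Injective φ := by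
      rw [← MonoidHom.ker_eq_bot_iff, Subgroup.eq_bot_iff_forall]
      intro d hd
      obtain ⟨z, hz⟩ := Subgroup.ne_bot_iff_exists_ne_one.1
        (show Kb ≠ ⊥ from fun e => by
          rw [e, Subgroup.card_bot] at hKbC
          exact absurd hKbC (Nat.ne_of_lt (Finite.one_lt_card_iff_nontrivial.2
            ((Subgroup.nontrivial_iff_ne_bot C).2 hC.1))))
      have h1 : (d : G ⧸ H) * z * (d : G ⧸ H)⁻¹ = z := by
        rw [← MulAut.conjNormal_apply]
        exact congrArg Subtype.val (DFunLike.congr_fun hd z)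
      have h2 := hGne z z.2 (fun e => hz (Subtype.ext e)) d (mul_inv_eq_iff_eq_mul.1 h1).symm
      exact Subtype.ext (Subgroup.disjoint_def.1 hcG.disjoint h2 d.2)
    exact Subtype.ext (hinj (by
      show φ ((a : D) * (b : D)) = φ ((b : D) * (a : D))
      rw [map_mul, map_mul, mulAut_comm]))
  have hDcyc : IsCyclic D := by
    have := isCyclic_of_commutative_complement hD hcG (A := (⊤ : Subgroup D))
    exact isCyclic_of_surjective Subgroup.topEquiv.toMonoidHom Subgroup.topEquiv.surjective
  let top : D →* G ⧸ K := (QuotientGroup.map H K (MonoidHom.id G)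
    (by simpa using hlt.le)).comp D.subtype
  have htop : Function.Surjective top := by
    intro x
    obtain ⟨g, rfl⟩ := QuotientGroup.mk'_surjective K x
    obtain ⟨⟨k, d⟩, hkd, -⟩ :=
      Subgroup.isComplement_iff_existsUnique.1 hcG (QuotientGroup.mk' H g)
    obtain ⟨k', hk', hke⟩ := k.2
    refine ⟨d, ?_⟩
    show QuotientGroup.map H K (MonoidHom.id G) (by simpa using hlt.le) (d : G ⧸ H) = _
    rw [show (d : G ⧸ H) = QuotientGroup.mk' H (k'⁻¹ * g) by
      rw [map_mul, map_inv, hke, ← hkd, inv_mul_cancel_left]]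
    show QuotientGroup.mk' K (k'⁻¹ * g) = _
    rw [map_mul, map_inv, show QuotientGroup.mk' K k' = 1 from (QuotientGroup.eq_one_iff _).2 hk',
      inv_one, one_mul]
  have htopcyc : IsCyclic (G ⧸ K) := isCyclic_of_surjective top htop
  have hDcard : Nat.card (G ⧸ K) = Nat.card D := by
    show K.index = _
    exact (Subgroup.index_map_eq K (f := QuotientGroup.mk' H) (QuotientGroup.mk'_surjective H)
      (by rw [QuotientGroup.ker_mk']; exact hlt.le)).symm.trans hcG.symm.index_eq_card
  have hcop1 : (Nat.card C).Coprime (Nat.card H) := by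
    have h1 := coprime_card_index hC
    rw [hcK.index_eq_card] at h1
    rwa [show Nat.card H' = Nat.card H from
      Nat.card_congr (Subgroup.subgroupOfEquivOfLe hlt.le).toEquiv] at h1
  have hcop2 : (Nat.card C).Coprime (Nat.card D) := by
    have h1 := coprime_card_index hD
    rw [hcG.index_eq_card, hKbC] at h1
    exact h1.symm
  have hGcard : Nat.card G = Nat.card H * (Nat.card C * Nat.card D) := by
    rw [Subgroup.card_eq_card_quotient_mul_card_subgroup H, ← hcG.card_mul_card, hKbC, mul_comm]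
  have hsolH : Group.IsSolvable H := by
    have := hHnil
    exact Group.isSolvable_of_surjective (f := (Subgroup.subgroupOfEquivOfLe hlt.le).toMonoidHom)
      (Subgroup.subgroupOfEquivOfLe hlt.le).surjective
  have hsol : Group.IsSolvable G := by
    refine isSolvable_of_normal H hsolH ?_
    have hKbn' := hKbn
    refine isSolvable_of_normal Kb (Group.isSolvable_of_comm fun a b => (IsCyclic.isMulCommutative (α := _)).is_comm.comm a b) ?_
    have hD' : Group.IsSolvable D := Group.isSolvable_of_comm fun a b => (IsCyclic.isMulCommutative (α := _)).is_comm.comm a b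
    refine Group.isSolvable_of_surjective (f := (QuotientGroup.mk' Kb).comp D.subtype) fun x => ?_
    obtain ⟨g, rfl⟩ := QuotientGroup.mk'_surjective Kb x
    obtain ⟨⟨k, d⟩, hkd, -⟩ := Subgroup.isComplement_iff_existsUnique.1 hcG g
    refine ⟨d, ?_⟩
    show QuotientGroup.mk' Kb (d : G ⧸ H) = _
    rw [← hkd, map_mul, show QuotientGroup.mk' Kb (k : G ⧸ H) = 1 from
      (QuotientGroup.eq_one_iff _).2 k.2, one_mul]
  refine ⟨hsol, ?_, ?_, htopcyc, ?_⟩
  · rw [hquot]; exact Nat.not_even_iff_odd.1 fun h => hodd (even_iff_two_dvd.1 h)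
  · rw [hquot, hDcard]; exact Nat.Coprime.mul_right hcop1 hcop2
  intro p q hp hq hpq hpG hqG
  rw [hquot]
  have := Fact.mk hp
  have := Fact.mk hq
  have hside : ∀ r : ℕ, r.Prime → r ∣ Nat.card G → ¬ r ∣ Nat.card C →
      r ∣ Nat.card H ∨ r ∣ Nat.card D := by
    intro r hr hrG hrC
    rw [hGcard] at hrG
    rcases hr.dvd_mul.1 hrG with h | h
    · exact Or.inl h
    · exact Or.inr ((hr.dvd_mul.1 h).resolve_left hrC)
  -- no element joins the two classes
  have hcross : ∀ r s : ℕ, r.Prime → s.Prime → r ≠ s → r ∣ Nat.card C → ¬ s ∣ Nat.card C →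
      ∀ g : G, orderOf g = r * s → False := by
    intro r s hr hs hrs hrC hsC g hg
    set x := g ^ s with hx
    set y := g ^ r with hy
    have hxo : orderOf x = r := by
      rw [hx, orderOf_pow_of_dvd hs.ne_zero (hg ▸ dvd_mul_left s r), hg,
        Nat.mul_div_cancel _ hs.pos]
    have hyo : orderOf y = s := by
      rw [hy, orderOf_pow_of_dvd hr.ne_zero (hg ▸ dvd_mul_right r s), hg,
        Nat.mul_div_cancel_left _ hr.pos]
    have hxy : x * y = y * x := (Commute.pow_pow_self g s r).eq
    have hxK : x ∈ K := by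
      rw [← QuotientGroup.eq_one_iff, ← orderOf_eq_one_iff]
      refine Nat.eq_one_of_dvd_coprimes hcop2
        (((orderOf_map_dvd (QuotientGroup.mk' K) x).trans (dvd_of_eq hxo)).trans hrC)
        (hDcard ▸ orderOf_dvd_natCard _)
    have hxH : x ∉ H := fun h => hr.ne_one (hxo.symm.trans (Nat.eq_one_of_dvd_coprimes hcop1
      ((dvd_of_eq hxo).trans hrC) (Subgroup.orderOf_dvd_natCard H h)))
    by_cases hyK : y ∈ K
    · have hyH : y ∈ H := by
        rw [← QuotientGroup.eq_one_iff, ← orderOf_eq_one_iff]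
        rcases (Nat.dvd_prime hs).1 ((orderOf_map_dvd (QuotientGroup.mk' H) y).trans (dvd_of_eq hyo))
          with h | h
        · exact h
        · refine absurd (h ▸ ?_) hsC
          rw [← hKbC]
          exact Subgroup.orderOf_dvd_natCard Kb ⟨y, hyK, rfl⟩
      refine hxH (Subgroup.mem_subgroupOf.1 (kernel_centralizer hC hCe.symm
        (x := (⟨y, hyK⟩ : K)) (g := ⟨x, hxK⟩) (Subgroup.mem_subgroupOf.2 hyH) ?_
        (Subtype.ext hxy.symm)))
      intro e
      rw [show y = 1 from congrArg Subtype.val e, orderOf_one] at hyo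
      exact hs.ne_one hyo.symm
    · have h1 := hGne (QuotientGroup.mk' H x) ⟨x, hxK, rfl⟩
        (fun e => hxH ((QuotientGroup.eq_one_iff x).1 e)) (QuotientGroup.mk' H y)
        (by rw [← map_mul, hxy, map_mul])
      obtain ⟨k, hk, hke⟩ := h1
      have h2 : k⁻¹ * y ∈ H := (QuotientGroup.eq_one_iff _).1 (by
        rw [← QuotientGroup.mk'_apply, map_mul, map_inv, hke, inv_mul_cancel])
      exact hyK (by simpa using K.mul_mem hk (hlt.le h2))
  -- a fixed point in the lower kernel
  have hmixed : ∀ r s : ℕ, r.Prime → s.Prime → r ≠ s → r ∣ Nat.card H → ¬ s ∣ Nat.card C →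
      s ∣ Nat.card D → ∃ g : G, orderOf g = r * s := by
    intro r s hr hs hrs hrH hsC hsD
    have := Fact.mk hr
    have := Fact.mk hs
    let V : Subgroup G :=
      { carrier := {v | v ∈ H ∧ (∀ h ∈ H, h * v = v * h) ∧ v ^ r = 1}
        one_mem' := ⟨H.one_mem, fun h _ => by simp, one_pow r⟩
        mul_mem' := fun {a b} ⟨ha, ha1, ha2⟩ ⟨hb, hb1, hb2⟩ => ⟨H.mul_mem ha hb, fun h hh => by
          rw [← mul_assoc, ha1 h hh, mul_assoc, hb1 h hh, mul_assoc],
          by rw [(show Commute a b from hb1 a ha).mul_pow, ha2, hb2, one_mul]⟩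
        inv_mem' := fun {a} ⟨ha, ha1, ha2⟩ => ⟨H.inv_mem ha, fun h hh =>
          ((show Commute h a from ha1 h hh).inv_right).eq, by rw [inv_pow, ha2, inv_one]⟩ }
    have hVn : V.Normal := ⟨fun v ⟨hv, hv1, hv2⟩ g => ⟨Subgroup.Normal.conj_mem inferInstance v hv g,
      fun h hh => by
        have h1 := hv1 (g⁻¹ * h * g)
          (by simpa using Subgroup.Normal.conj_mem (inferInstance : H.Normal) h hh g⁻¹)
        calc h * (g * v * g⁻¹) = g * ((g⁻¹ * h * g) * v) * g⁻¹ := by group
          _ = g * (v * (g⁻¹ * h * g)) * g⁻¹ := by rw [h1]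
          _ = _ := by group,
      by rw [conj_pow, hv2, mul_one, mul_inv_cancel]⟩⟩
    have hVne : V ≠ ⊥ := by
      obtain ⟨h₀, hh₀⟩ := exists_prime_orderOf_dvd_card' (G := H') r (by
        rw [Nat.card_congr (Subgroup.subgroupOfEquivOfLe hlt.le).toEquiv]; exact hrH)
      obtain ⟨P, hP⟩ := (IsPGroup.of_card (p := r) (n := 1)
        (show Nat.card (Subgroup.zpowers h₀) = r ^ 1 by
          rw [Nat.card_zpowers, hh₀, pow_one])).exists_le_sylow
      have := hHnil
      have hPn := P.normal_of_normalizerCondition Group.normalizerCondition_of_isNilpotent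
      have hne : (P : Subgroup H') ≠ ⊥ := fun e => by
        have := hP (Subgroup.mem_zpowers h₀)
        rw [e, Subgroup.mem_bot] at this
        rw [this, orderOf_one] at hh₀
        exact hr.ne_one hh₀.symm
      obtain ⟨w, hw⟩ := Subgroup.ne_bot_iff_exists_ne_one.1
        (fun e => hne (Lib.Brauer.Monomial.eq_bot_of_inf_center e) :
          (P : Subgroup H') ⊓ Subgroup.center H' ≠ ⊥)
      obtain ⟨u, hu⟩ := exists_prime_orderOf_dvd_card'
        (G := ((P : Subgroup H') ⊓ Subgroup.center H' : Subgroup H')) r (by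
          obtain ⟨k, hk⟩ := (P.2.to_le inf_le_left :
            IsPGroup r ((P : Subgroup H') ⊓ Subgroup.center H' : Subgroup H')).exists_card_eq
          have h1 : Nontrivial ((P : Subgroup H') ⊓ Subgroup.center H' : Subgroup H') := ⟨w, 1, hw⟩
          have h1' := Finite.one_lt_card (α := ((P : Subgroup H') ⊓ Subgroup.center H' : Subgroup H'))
          rw [hk] at h1' ⊢
          exact dvd_pow_self r (fun e => by simp [e] at h1'))
      intro e
      have hu2 := u.2.2
      have hmem : (((u : H') : K) : G) ∈ V := by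
        refine ⟨Subgroup.mem_subgroupOf.1 (u : H').2, fun h hh => ?_, ?_⟩
        · exact congrArg (fun t : H' => ((t : K) : G)) (Subgroup.mem_center_iff.1 hu2
            ⟨⟨h, hlt.le hh⟩, Subgroup.mem_subgroupOf.2 hh⟩)
        · have hur : u ^ r = 1 := orderOf_dvd_iff_pow_eq_one.1 (dvd_of_eq hu)
          rw [← Subgroup.coe_pow, ← Subgroup.coe_pow, ← Subgroup.coe_pow, hur]
          rfl
      rw [e, Subgroup.mem_bot] at hmem
      have hu1 : u = 1 := Subtype.ext (Subtype.ext (Subtype.ext hmem))
      rw [hu1, orderOf_one] at hu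
      exact hr.ne_one hu.symm
    have := hVn
    have : Nontrivial V := (Subgroup.nontrivial_iff_ne_bot V).2 hVne
    have hker : H ≤ (MulAut.conjNormal (H := V)).ker := fun h hh => MonoidHom.mem_ker.2
      (MulEquiv.ext fun v => Subtype.ext (by
        rw [MulAut.conjNormal_apply, v.2.2.1 h hh, mul_inv_cancel_right]; rfl))
    let act : G ⧸ H →* MulAut V := QuotientGroup.lift H (MulAut.conjNormal (H := V)) hker
    letI : CommGroup V :=
      { V.toGroup with mul_comm := fun a b => Subtype.ext (b.2.2.1 a.1 a.2.1) }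
    let ρ : G ⧸ H →* AddMonoid.End (Additive V) :=
      { toFun := fun x => MonoidHom.toAdditive (act x).toMonoidHom
        map_one' := by ext v; rw [map_one]; rfl
        map_mul' := fun a b => by ext v; rw [map_mul]; rfl }
    obtain ⟨d, hd⟩ := exists_prime_orderOf_dvd_card' (G := D) s hsD
    set yb : G ⧸ H := (d : G ⧸ H) with hyb
    have hybo : orderOf yb = s := by rw [hyb, Subgroup.orderOf_coe, hd]
    obtain ⟨t, ht0, ht⟩ := exists_fixed ρ Kb yb hs.pos (hybo ▸ pow_orderOf_eq_one yb)
      (by
        intro i hi hilt a ha hc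
        by_contra ha1
        have h1 := hGne a ha ha1 _ hc
        have h2 : yb ^ i = 1 := Subgroup.disjoint_def.1 hcG.disjoint h1 (D.pow_mem d.2 i)
        have h3 := orderOf_dvd_of_pow_eq_one h2
        rw [hybo] at h3
        exact absurd (Nat.le_of_dvd hi h3) (by omega))
      (by
        intro v hv
        by_contra hv0
        obtain ⟨c, hc⟩ := Subgroup.ne_bot_iff_exists_ne_one.1 hC.1
        have hcH : ((c : K) : G) ∉ H := fun h => hc (Subtype.ext
          (Subgroup.disjoint_def.1 hcK.disjoint (Subgroup.mem_subgroupOf.2 h) c.2))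
        set u : V := Additive.toMul v with hu
        have huH : (u : G) ∈ H := u.2.1
        have h1 : ((c : K) : G) * u * ((c : K) : G)⁻¹ = u := by
          rw [← MulAut.conjNormal_apply]
          exact congrArg (fun w : Additive V => ((Additive.toMul w : V) : G))
            (hv _ (π c).2)
        refine hcH (Subgroup.mem_subgroupOf.1 (kernel_centralizer hC hCe.symm
          (x := (⟨u, hlt.le huH⟩ : K)) (g := (c : K)) (Subgroup.mem_subgroupOf.2 huH) ?_
          (Subtype.ext (mul_inv_eq_iff_eq_mul.1 h1).symm)))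
        intro e
        have e' : (u : G) = 1 := congrArg Subtype.val e
        exact hv0 (Additive.toMul.injective (Subtype.ext e')))
      (by
        rw [hKbC]
        have h1 : IsPGroup r V := fun w => ⟨1, Subtype.ext (by
          rw [pow_one]; exact w.2.2.2)⟩
        obtain ⟨k, hk⟩ := h1.exists_card_eq
        rw [show Nat.card (Additive V) = r ^ k from hk]
        exact Nat.Coprime.pow_right _ ((hr.coprime_iff_not_dvd).2 fun h =>
          hr.ne_one (Nat.eq_one_of_dvd_coprimes hcop1 h hrH)).symm)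
    obtain ⟨g, hg⟩ := QuotientGroup.mk'_surjective H yb
    set w : V := Additive.toMul t with hw
    have hwg : Commute (w : G) g := by
      have h1 : g * w * g⁻¹ = w := by
        rw [← MulAut.conjNormal_apply]
        have h0 : ρ (QuotientGroup.mk' H g) t = t := by rw [hg]; exact ht
        exact congrArg (fun z : Additive V => ((Additive.toMul z : V) : G)) h0
      exact (mul_inv_eq_iff_eq_mul.1 h1).symm
    have hwo : orderOf (w : G) = r := orderOf_eq_prime w.2.2.2 fun e =>
      ht0 (Additive.toMul.injective (Subtype.ext e))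
    obtain ⟨k, hk⟩ : s ∣ orderOf g := hybo ▸ hg ▸ orderOf_map_dvd (QuotientGroup.mk' H) g
    have hk0 : k ≠ 0 := by rintro rfl; exact (orderOf_pos g).ne' (by simpa using hk)
    refine ⟨(w : G) * g ^ k, ?_⟩
    have hgk : orderOf (g ^ k) = s := by
      rw [orderOf_pow_of_dvd hk0 (hk ▸ dvd_mul_left k s), hk,
        Nat.mul_div_cancel _ (Nat.pos_of_ne_zero hk0)]
    rw [(hwg.pow_right k).orderOf_mul_eq_mul_orderOf_of_coprime
      (by rw [hwo, hgk]; exact (Nat.coprime_primes hr hs).2 hrs), hwo, hgk]
  constructor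
  · rintro ⟨g, hg⟩
    by_cases hpC : p ∣ Nat.card C
    · simp only [hpC, true_iff]
      by_contra hqC
      exact hcross p q hp hq hpq hpC hqC g hg
    · simp only [hpC, false_iff]
      intro hqC
      exact hcross q p hq hp (Ne.symm hpq) hqC hpC g (by rw [hg, mul_comm])
  · intro hiff
    by_cases hpC : p ∣ Nat.card C
    · obtain ⟨c, hc⟩ := IsCyclic.exists_generator (α := C)
      have hd : p * q ∣ orderOf c := by
        rw [orderOf_eq_card_of_forall_mem_zpowers hc]
        exact ((Nat.coprime_primes hp hq).2 hpq).mul_dvd_of_dvd_of_dvd hpC (hiff.1 hpC)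
      obtain ⟨k, hk⟩ := hd
      have hk0 : k ≠ 0 := by rintro rfl; exact (orderOf_pos c).ne' (by simpa using hk)
      refine ⟨((c ^ k : C) : K), ?_⟩
      rw [Subgroup.orderOf_coe, Subgroup.orderOf_coe, orderOf_pow_of_dvd hk0
        (hk ▸ dvd_mul_left k (p * q)), hk, Nat.mul_div_cancel _ (Nat.pos_of_ne_zero hk0)]
    · have hqC : ¬ q ∣ Nat.card C := fun h => hpC (hiff.2 h)
      rcases hside p hp hpG hpC with hpH | hpD
      · rcases hside q hq hqG hqC with hqH | hqD
        · have := hHnil
          have hcard : Nat.card H' = Nat.card H :=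
            Nat.card_congr (Subgroup.subgroupOfEquivOfLe hlt.le).toEquiv
          obtain ⟨x, hx⟩ := exists_prime_orderOf_dvd_card' (G := H') p (hcard ▸ hpH)
          obtain ⟨y, hy⟩ := exists_prime_orderOf_dvd_card' (G := H') q (hcard ▸ hqH)
          refine ⟨(((x * y : H') : K) : G), ?_⟩
          rw [Subgroup.orderOf_coe, Subgroup.orderOf_coe,
            (commute_of_nilpotent hp hq hpq hx hy).orderOf_mul_eq_mul_orderOf_of_coprime
              (by rw [hx, hy]; exact (Nat.coprime_primes hp hq).2 hpq), hx, hy]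
        · exact hmixed p q hp hq hpq hpH hqC hqD
      · rcases hside q hq hqG hqC with hqH | hqD
        · obtain ⟨g, hg⟩ := hmixed q p hq hp (Ne.symm hpq) hqH hpC hpD
          exact ⟨g, by rw [hg, mul_comm]⟩
        · obtain ⟨d, hd⟩ := IsCyclic.exists_generator (α := D)
          obtain ⟨g, hg⟩ := QuotientGroup.mk'_surjective H (d : G ⧸ H)
          have hdvd : p * q ∣ orderOf g := by
            refine dvd_trans ?_ (orderOf_map_dvd (QuotientGroup.mk' H) g)
            rw [hg, Subgroup.orderOf_coe, orderOf_eq_card_of_forall_mem_zpowers hd]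
            exact ((Nat.coprime_primes hp hq).2 hpq).mul_dvd_of_dvd_of_dvd hpD hqD
          obtain ⟨k, hk⟩ := hdvd
          have hk0 : k ≠ 0 := by rintro rfl; exact (orderOf_pos g).ne' (by simpa using hk)
          exact ⟨g ^ k, by rw [orderOf_pow_of_dvd hk0 (hk ▸ dvd_mul_left k (p * q)), hk,
            Nat.mul_div_cancel _ (Nat.pos_of_ne_zero hk0)]⟩

end Cfsg.Agent.S4001
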