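import Cfsg.Statements.S4002
import Mathlib.NumberTheory.Bertrand
import Cfsg.Agent.Lib.PrimeGraph.Three

set_option autoImplicit false
open Cfsg

namespace Cfsg.Agent.S4002

/-- If the set of element orders of a finite group G is {1, 2, …, n} with n ≥ 7, then G is not solvable. -/
theorem result {G : Type*} [Group G] [Finite G] (n : ℕ) (hn : 7 ≤ n) (h : Set.range (orderOf : G → ℕ) = {k : ℕ | 1 ≤ k ∧ k ≤ n}) : ¬ Group.IsSolvable G := by
  suffices hex : ∃ p q r : ℕ, p.Prime ∧ q.Prime ∧ r.Prime ∧ p < q ∧ q < r ∧ r ≤ n ∧ n < p * q by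
    obtain ⟨p, q, r, hp, hq, hr, hpq, hqr, hrn, hn'⟩ := hex
    have hmem : ∀ k, Lib.PrimeGraph.Three.HasOrder G k ↔ 1 ≤ k ∧ k ≤ n := fun k =>
      (Set.ext_iff.1 h k : _)
    have hdvd : ∀ k, 1 ≤ k → k ≤ n → k ∣ Nat.card G := fun k h1 h2 => by
      obtain ⟨x, hx⟩ := (hmem k).2 ⟨h1, h2⟩
      exact hx ▸ orderOf_dvd_natCard x
    have hbig : ∀ k, n < k → ¬ Lib.PrimeGraph.Three.HasOrder G k := fun k hk hh =>
      absurd ((hmem k).1 hh).2 (by omega)
    refine Lib.PrimeGraph.Three.not_isSolvable_of_three hp hq hr hpq.ne (hpq.trans hqr).ne hqr.ne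
      (hdvd p hp.one_le (by omega)) (hdvd q hq.one_le (by omega)) (hdvd r hr.one_le hrn)
      (hbig _ hn') (hbig _ ?_) (hbig _ ?_)
    · exact hn'.trans ((Nat.mul_lt_mul_left hp.pos).2 hqr)
    · exact hn'.trans (Nat.mul_lt_mul'' hpq hqr)
  by_cases h15 : n < 15
  · exact ⟨3, 5, 7, by norm_num, by norm_num, by norm_num, by norm_num, by norm_num, by omega,
      by omega⟩
  by_cases h32 : n < 32
  · exact ⟨5, 7, 11, by norm_num, by norm_num, by norm_num, by norm_num, by norm_num, by omega,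
      by omega⟩
  obtain ⟨p, hp, hp1, hp2⟩ := Nat.exists_prime_lt_and_le_two_mul (n / 8) (by omega)
  obtain ⟨q, hq, hq1, hq2⟩ := Nat.exists_prime_lt_and_le_two_mul (n / 4) (by omega)
  obtain ⟨r, hr, hr1, hr2⟩ := Nat.exists_prime_lt_and_le_two_mul (n / 2) (by omega)
  refine ⟨p, q, r, hp, hq, hr, by omega, by omega, by omega, ?_⟩
  have h1 : (n / 8 + 1) * (2 * (n / 8) + 1) ≤ p * q := Nat.mul_le_mul (by omega) (by omega)
  have h2 : 4 * (2 * (n / 8)) ≤ (n / 8) * (2 * (n / 8)) := Nat.mul_le_mul_right _ (by omega)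
  have h3 : (n / 8 + 1) * (2 * (n / 8) + 1) = n / 8 * (2 * (n / 8)) + 3 * (n / 8) + 1 := by ring
  omega

end Cfsg.Agent.S4002
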