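import Cfsg.Statements.S4003
import Cfsg.Agent.Lib.Fg6.Kulakoff
import Mathlib.Algebra.Group.Subgroup.Pointwise
-- import your own Cfsg.Agent.* helpers here

set_option autoImplicit false
open Cfsg

namespace Cfsg.Agent.S4003

open scoped Pointwise
open Lib.Fg6.Kulakoff

/-- An invariant set is congruent to its fixed points. -/
theorem card_modEq_fixed {p : ℕ} [Fact p.Prime] {A : Type*} [Group A] [Finite A] (hA : IsPGroup p A)
    {α : Type*} [MulAction A α] [Finite α] (Q : α → Prop) (hQ : ∀ (a : A) x, Q x → Q (a • x)) :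
    Nat.card {x // Q x} ≡ Nat.card {x // Q x ∧ ∀ a : A, a • x = x} [MOD p] := by
  let T : SubMulAction A α := ⟨{x | Q x}, fun a {x} hx => hQ a x hx⟩
  have h := hA.card_modEq_card_fixedPoints T
  have e : MulAction.fixedPoints A T ≃ {x // Q x ∧ ∀ a : A, a • x = x} :=
    { toFun := fun x => ⟨x.1.1, x.1.2, fun a => congrArg Subtype.val (x.2 a)⟩
      invFun := fun x => ⟨⟨x.1, x.2.1⟩, fun a => Subtype.ext (x.2.2 a)⟩
      left_inv := fun _ => rfl
      right_inv := fun _ => rfl }
  rw [Nat.card_congr e] at h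
  exact h


/-- Let G be a finite group, p an odd prime dividing the order of G whose Sylow p-subgroups are not cyclic, and n = p^s·m with s > 1 and m coprime to p. Then the number of elements of G of order n is a multiple of p^s. -/
theorem result {G : Type*} [Group G] [Finite G] (p : ℕ) [Fact p.Prime] (hodd : p ≠ 2) (hpG : p ∣ Nat.card G)
    (P : Sylow p G) (hP : ¬ IsCyclic ↥(P : Subgroup G)) (s m : ℕ) (hs : 1 < s) (hm : Nat.Coprime p m) :
    p ^ s ∣ Nat.card {g : G // orderOf g = p ^ s * m} := by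
  classical
  have hpp : p.Prime := Fact.out
  have hm0 : 0 < m := by
    rcases Nat.eq_zero_or_pos m with rfl | h
    · exact absurd ((Nat.coprime_zero_right p).1 hm) hpp.one_lt.ne'
    · exact h
  set q := p ^ s with hq
  have hqm : Nat.Coprime q m := hq ▸ hm.pow_left s
  obtain ⟨e, he1, he0⟩ : ∃ e, e ≡ 1 [MOD q] ∧ e ≡ 0 [MOD m] :=
    ⟨_, (Nat.chineseRemainder hqm 1 0).2⟩
  obtain ⟨f, hf0, hf1⟩ : ∃ f, f ≡ 0 [MOD q] ∧ f ≡ 1 [MOD m] :=
    ⟨_, (Nat.chineseRemainder hqm 0 1).2⟩
  -- elements of order `q * m` are commuting pairs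
  have split : {g : G // orderOf g = q * m} ≃
      (Σ v : {v : G // orderOf v = m},
        {u : Subgroup.centralizer ({(v : G)} : Set G) // orderOf u = q}) := by
    have hsplit : ∀ g : G, orderOf g = q * m →
        g ^ e * g ^ f = g ∧ orderOf (g ^ e) = q ∧ orderOf (g ^ f) = m := by
      intro g hg
      have h1 : e + f ≡ 1 [MOD q * m] :=
        (Nat.modEq_and_modEq_iff_modEq_mul hqm).1
          ⟨by simpa using he1.add hf0, by simpa using he0.add hf1⟩
      have h2 : g ^ e * g ^ f = g := by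
        rw [← pow_add]
        conv_rhs => rw [← pow_one g]
        exact pow_eq_pow_iff_modEq.2 (hg ▸ h1)
      have h3 : orderOf (g ^ e) ∣ q := orderOf_dvd_of_pow_eq_one (by
        rw [← pow_mul, ← orderOf_dvd_iff_pow_eq_one, hg, mul_comm e q]
        exact Nat.mul_dvd_mul_left q (Nat.modEq_zero_iff_dvd.1 he0))
      have h4 : orderOf (g ^ f) ∣ m := orderOf_dvd_of_pow_eq_one (by
        rw [← pow_mul, ← orderOf_dvd_iff_pow_eq_one, hg, mul_comm q m, mul_comm f m]
        exact Nat.mul_dvd_mul_left m (Nat.modEq_zero_iff_dvd.1 hf0))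
      have h5 := ((Commute.refl g).pow_pow e f).orderOf_mul_eq_mul_orderOf_of_coprime
        ((hqm.coprime_dvd_left h3).coprime_dvd_right h4)
      rw [h2, hg] at h5
      have h6 := Nat.le_of_dvd (hq ▸ pow_pos hpp.pos s) h3
      have h7 := Nat.le_of_dvd hm0 h4
      have h8 : 0 < q := hq ▸ pow_pos hpp.pos s
      refine ⟨h2, le_antisymm h6 ?_, le_antisymm h7 ?_⟩ <;> nlinarith
    have hback : ∀ (u v : G), Commute u v → orderOf u = q → orderOf v = m →
        orderOf (u * v) = q * m ∧ (u * v) ^ e = u ∧ (u * v) ^ f = v := by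
      intro u v hc hu hv
      refine ⟨?_, ?_, ?_⟩
      · rw [hc.orderOf_mul_eq_mul_orderOf_of_coprime (by rw [hu, hv]; exact hqm), hu, hv]
      · have h1 : u ^ e = u := by
          conv_rhs => rw [← pow_one u]
          exact pow_eq_pow_iff_modEq.2 (hu ▸ he1)
        rw [hc.mul_pow, h1, orderOf_dvd_iff_pow_eq_one.1
          (hv ▸ Nat.modEq_zero_iff_dvd.1 he0 : orderOf v ∣ e), mul_one]
      · have h1 : v ^ f = v := by
          conv_rhs => rw [← pow_one v]
          exact pow_eq_pow_iff_modEq.2 (hv ▸ hf1)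
        rw [hc.mul_pow, h1, orderOf_dvd_iff_pow_eq_one.1
          (hu ▸ Nat.modEq_zero_iff_dvd.1 hf0 : orderOf u ∣ f), one_mul]
    refine (Equiv.ofBijective
      (fun x : (Σ v : {v : G // orderOf v = m},
        {u : Subgroup.centralizer ({(v : G)} : Set G) // orderOf u = q}) =>
        (⟨(x.2.1 : G) * (x.1 : G),
          (hback _ _ (Subgroup.mem_centralizer_singleton_iff.1 x.2.1.2)
            (by rw [Subgroup.orderOf_coe]; exact x.2.2) x.1.2).1⟩ :
          {g : G // orderOf g = q * m})) ⟨?_, ?_⟩).symm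
    · rintro ⟨⟨v, hv⟩, ⟨u, hu⟩, huo⟩ ⟨⟨v', hv'⟩, ⟨u', hu'⟩, huo'⟩ h
      have h' : u * v = u' * v' := congrArg Subtype.val h
      obtain ⟨-, h1, h2⟩ := hback u v (Subgroup.mem_centralizer_singleton_iff.1 hu)
        ((Subgroup.orderOf_mk u hu).symm.trans huo) hv
      obtain ⟨-, h3, h4⟩ := hback u' v' (Subgroup.mem_centralizer_singleton_iff.1 hu')
        ((Subgroup.orderOf_mk u' hu').symm.trans huo') hv'
      rw [h'] at h1 h2
      obtain rfl : v' = v := h4.symm.trans h2
      obtain rfl : u' = u := h3.symm.trans h1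
      rfl
    · intro g
      exact ⟨⟨⟨g.1 ^ f, (hsplit _ g.2).2.2⟩,
        ⟨g.1 ^ e, Subgroup.mem_centralizer_singleton_iff.2
          ((Commute.refl g.1).pow_pow e f).eq⟩,
        (Subgroup.orderOf_mk _ _).trans (hsplit _ g.2).2.1⟩, Subtype.ext (hsplit _ g.2).1⟩
  let X := {x : G × Subgroup G //
    orderOf x.1 = m ∧ IsCyclic x.2 ∧ Nat.card x.2 = q ∧ x.2 ≤ Subgroup.centralizer {x.1}}
  have hX : Nat.card {g : G // orderOf g = q * m} = q.totient * Nat.card X := by
    have := Fintype.ofFinite G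
    rw [Nat.card_congr split, Nat.card_sigma]
    have h1 : ∀ v : {v : G // orderOf v = m},
        Nat.card {u : Subgroup.centralizer ({(v : G)} : Set G) // orderOf u = q} =
          q.totient * Nat.card (CycIn (Subgroup.centralizer ({(v : G)} : Set G)) q) := fun v => by
      rw [card_orderOf_eq_totient_mul, card_cycIn]
    rw [Finset.sum_congr rfl fun v _ => h1 v, ← Finset.mul_sum, ← Nat.card_sigma]
    exact congrArg _ (Nat.card_congr
      { toFun := fun x => ⟨(x.1.1, x.2.1), x.1.2, x.2.2⟩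
        invFun := fun x => ⟨⟨x.1.1, x.2.1⟩, x.1.2, x.2.2⟩
        left_inv := fun _ => rfl
        right_inv := fun _ => rfl })
  have hpX : p ∣ Nat.card X := by
    have hcoef : ∀ (a : (P : Subgroup G)) (U : Subgroup G), IsCyclic U →
        IsCyclic (MulAut.conj (a : G) • U : Subgroup G) ∧
          Nat.card (MulAut.conj (a : G) • U : Subgroup G) = Nat.card U := fun a U hU =>
      ⟨(Subgroup.equivSMul (MulAut.conj (a : G)) U).isCyclic.1 hU,
        (Nat.card_congr (Subgroup.equivSMul (MulAut.conj (a : G)) U).toEquiv).symm⟩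
    let actG : MulAction (P : Subgroup G) G :=
      MulAction.compHom G ((MulAut.conj).comp (P : Subgroup G).subtype)
    let actS : MulAction (P : Subgroup G) (Subgroup G) :=
      MulAction.compHom (Subgroup G) ((MulAut.conj).comp (P : Subgroup G).subtype)
    have hfix : ∀ U : Subgroup G, IsPGroup p U → (∀ a : (P : Subgroup G), a • U = U) →
        U ≤ (P : Subgroup G) := by
      intro U hU ha
      have hn : (P : Subgroup G) ≤ Subgroup.normalizer (U : Set G) := fun x hx => by
        rw [Subgroup.mem_normalizer_iff]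
        intro h
        conv_rhs => rw [← show MulAut.conj x • U = U from ha ⟨x, hx⟩]
        exact (Subgroup.smul_mem_pointwise_smul_iff (a := MulAut.conj x) (S := U) (x := h)).symm
      exact le_sup_right.trans (P.is_maximal' (P.2.to_sup_of_normal_right' hU hn) le_sup_left).le
    have hPmem : ∀ (a : (P : Subgroup G)), MulAut.conj (a : G) • (P : Subgroup G) = P :=
      fun a => Subgroup.conj_smul_eq_self_of_mem a.2
    have h1 := card_modEq_fixed (p := p) P.2 (α := Subgroup G)
      (fun U => IsCyclic U ∧ Nat.card U = q ∧ U ≤ (P : Subgroup G)) (by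
        rintro a U ⟨h1, h2, h3⟩
        refine ⟨(hcoef a U h1).1, (hcoef a U h1).2.trans h2, ?_⟩
        show MulAut.conj (a : G) • U ≤ _
        exact (Subgroup.pointwise_smul_le_pointwise_smul_iff.2 h3).trans_eq (hPmem a))
    have h2 := card_modEq_fixed (p := p) P.2 (α := G × Subgroup G)
      (fun x => orderOf x.1 = m ∧ IsCyclic x.2 ∧ Nat.card x.2 = q ∧
        x.2 ≤ Subgroup.centralizer {x.1}) (by
        rintro a ⟨v, U⟩ ⟨h1, h2, h3, h4⟩
        refine ⟨?_, (hcoef a U h2).1, (hcoef a U h2).2.trans h3, ?_⟩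
        · show orderOf (MulAut.conj (a : G) v) = m
          rw [MulEquiv.orderOf_eq]; exact h1
        · show MulAut.conj (a : G) • U ≤ Subgroup.centralizer {MulAut.conj (a : G) v}
          intro x hx
          rw [Subgroup.mem_pointwise_smul_iff_inv_smul_mem] at hx
          have h5 := Subgroup.mem_centralizer_singleton_iff.1 (h4 hx)
          rw [Subgroup.mem_centralizer_singleton_iff]
          have h6 := congrArg (MulAut.conj (a : G)) h5
          simp [MulAut.smul_def, mul_assoc] at h6 ⊢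
          exact h6)
    have h3 : Nat.card {x : G × Subgroup G // (orderOf x.1 = m ∧ IsCyclic x.2 ∧ Nat.card x.2 = q ∧
        x.2 ≤ Subgroup.centralizer {x.1}) ∧ ∀ a : (P : Subgroup G), a • x = x} =
        Nat.card {v : G // orderOf v = m ∧ ∀ a : (P : Subgroup G), a • v = v} *
        Nat.card {U : Subgroup G // (IsCyclic U ∧ Nat.card U = q ∧ U ≤ (P : Subgroup G)) ∧
          ∀ a : (P : Subgroup G), a • U = U} := by
      rw [← Nat.card_prod]
      refine Nat.card_congr
        { toFun := fun x => (⟨x.1.1, x.2.1.1, fun a => congrArg Prod.fst (x.2.2 a)⟩,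
            ⟨x.1.2, ⟨x.2.1.2.1, x.2.1.2.2.1, hfix _ (IsPGroup.of_card (n := s) x.2.1.2.2.1)
              fun a => congrArg Prod.snd (x.2.2 a)⟩, fun a => congrArg Prod.snd (x.2.2 a)⟩)
          invFun := fun y => ⟨(y.1.1, y.2.1), ⟨y.1.2.1, y.2.2.1.1, y.2.2.1.2.1,
            fun x hx => Subgroup.mem_centralizer_singleton_iff.2
              (mul_inv_eq_iff_eq_mul.1 (y.1.2.2 ⟨x, y.2.2.1.2.2 hx⟩))⟩,
            fun a => Prod.ext (y.1.2.2 a) (y.2.2.2 a)⟩
          left_inv := fun _ => rfl
          right_inv := fun _ => rfl }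
    have hK : p ∣ Nat.card (CycIn (P : Subgroup G) q) :=
      hq ▸ dvd_card_cycIn hodd s hs _ P.2 hP
    refine Nat.modEq_zero_iff_dvd.1 (h2.trans ?_)
    rw [h3]
    simpa using (h1.symm.trans (Nat.modEq_zero_iff_dvd.2 hK)).mul_left _
  rw [hX, hq, Nat.totient_prime_pow hpp (by omega)]
  obtain ⟨c, hc⟩ := hpX
  refine ⟨(p - 1) * c, ?_⟩
  rw [hc, show s = (s - 1) + 1 by omega, pow_succ, Nat.add_sub_cancel]
  ring

end Cfsg.Agent.S4003
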