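import Cfsg.Statements.S4004
import Cfsg.Agent.Lib.Fg6.ThreeValues
import Cfsg.Agent.Lib.Fg6.TwoFrobenius
import Cfsg.Agent.Lib.SylowInter.OddCyclic
import Cfsg.Agent.Lib.Hall.Converse
-- import your own Cfsg.Agent.* helpers here

set_option autoImplicit false
open Cfsg

namespace Cfsg.Agent.S4004

open scoped Pointwise
open Lib.Fg6.ThreeValues Lib.Fg6.OrderCount

/-- Element orders `1`, `p`, `q`, with a normal abelian `p`-subgroup. -/
theorem exists_complement_of_normal {G : Type*} [Group G] [Finite G] {p q : ℕ} [Fact p.Prime]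
    [Fact q.Prime] (hpq : p ≠ q) (hq2 : q ≠ 2) (hord : ∀ g : G, g ≠ 1 → orderOf g = p ∨ orderOf g = q)
    (hpG : p ∣ Nat.card G) (hqG : q ∣ Nat.card G) (N : Subgroup G) [hNn : N.Normal] (hN1 : N ≠ ⊥)
    (hNc : ∀ u ∈ N, ∀ v ∈ N, u * v = v * u) (hNp : ∀ u ∈ N, u ^ p = 1) :
    ∃ C : Subgroup G, Cfsg.IsFrobeniusComplement C ∧ (Nat.card ↥C).Prime := by
  classical
  have hpp : p.Prime := Fact.out
  have hqq : q.Prime := Fact.out
  -- no mixed elements
  have hno : ∀ u w : G, Commute u w → u ^ p = 1 → w ^ q = 1 → u = 1 ∨ w = 1 := by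
    intro u w hc hu hw
    by_contra hne
    push Not at hne
    have h1 : orderOf u = p := orderOf_eq_prime hu hne.1
    have h2 : orderOf w = q := orderOf_eq_prime hw hne.2
    have h3 := hc.orderOf_mul_eq_mul_orderOf_of_coprime
      (by rw [h1, h2]; exact (Nat.coprime_primes hpp hqq).2 hpq)
    rw [h1, h2] at h3
    have h4 := hpp.two_le
    have h5 := hqq.two_le
    rcases eq_or_ne (u * w) 1 with e | e
    · rw [e, orderOf_one] at h3; nlinarith
    · rcases hord _ e with f | f <;> rw [f] at h3 <;> nlinarith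
  letI : CommGroup N := { (inferInstance : Group N) with
    mul_comm := fun u v => Subtype.ext (hNc u u.2 v v.2) }
  let Q : Sylow q G := default
  have hQne : (Q : Subgroup G) ≠ ⊥ := Q.ne_bot_of_dvd_card hqG
  have hQq : ∀ w ∈ (Q : Subgroup G), w ^ q = 1 := by
    intro w hw
    by_cases hw1 : w = 1
    · rw [hw1, one_pow]
    refine orderOf_dvd_iff_pow_eq_one.1 (dvd_of_eq ((hord w hw1).resolve_left fun e => ?_))
    obtain ⟨k, hk⟩ := IsPGroup.iff_orderOf.1 Q.2 ⟨w, hw⟩
    rw [Subgroup.orderOf_mk, e] at hk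
    exact hpq ((Nat.prime_dvd_prime_iff_eq hpp hqq).1 (hpp.dvd_of_dvd_pow (dvd_of_eq hk)))
  obtain ⟨u₀, hu₀⟩ := Subgroup.ne_bot_iff_exists_ne_one.1 hN1
  haveI : Nontrivial N := ⟨⟨u₀, 1, hu₀⟩⟩
  have hfpf : Lib.Frobenius.IsFPF
      ((MulAut.conjNormal (H := N)).comp (Q : Subgroup G).subtype) := by
    intro l hl v hv
    have h1 : (l : G) * v * (l : G)⁻¹ = v := congrArg Subtype.val hv
    rcases hno v l (mul_inv_eq_iff_eq_mul.1 h1).symm (hNp v v.2) (hQq l l.2) with e | e
    · exact Subtype.ext e
    · exact absurd (Subtype.ext e) hl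
  have hcyc := Lib.SylowInter.OddCyclic.isCyclic_of_fpf hfpf hq2 Q.2
  have hcQ : Nat.card (Q : Subgroup G) = q := by
    obtain ⟨w, hw⟩ := ((Q : Subgroup G).isCyclic_iff_exists_zpowers_eq_top).1 hcyc
    rw [← hw, Nat.card_zpowers]
    refine orderOf_eq_prime (hQq w (hw ▸ Subgroup.mem_zpowers w)) fun e => hQne ?_
    rw [← hw, e, Subgroup.zpowers_one_eq_bot]
  have hnorm : Subgroup.normalizer ((Q : Subgroup G) : Set G) ≤ (Q : Subgroup G) := by
    intro y hy
    by_contra hyQ
    have hy1 : y ≠ 1 := fun e => hyQ (e ▸ one_mem _)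
    have hyp : orderOf y = p := (hord y hy1).resolve_right fun e => hyQ (by
      have h1 : IsPGroup q (Subgroup.zpowers y) :=
        IsPGroup.of_card (n := 1) (by rw [Nat.card_zpowers, e, pow_one])
      exact (Q.is_maximal' (h1.to_sup_of_normal_right' Q.2 (Subgroup.zpowers_le.2 hy)) le_sup_right).le
        (le_sup_left (b := (Q : Subgroup G)) (Subgroup.mem_zpowers y)))
    have hyp' : y ^ p = 1 := orderOf_dvd_iff_pow_eq_one.1 (dvd_of_eq hyp)
    obtain ⟨w, hw1⟩ := Subgroup.ne_bot_iff_exists_ne_one.1 hQne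
    have hw1' : (w : G) ≠ 1 := fun e => hw1 (Subtype.ext e)
    have hyN : y ∉ N := by
      intro hyN
      have h1 : y * w * y⁻¹ * (w : G)⁻¹ ∈ N ⊓ (Q : Subgroup G) := Subgroup.mem_inf.2
        ⟨by rw [mul_assoc, mul_assoc, ← mul_assoc (w : G)]
            exact mul_mem hyN (hNn.conj_mem _ (inv_mem hyN) w),
          mul_mem ((Subgroup.mem_normalizer_iff.1 hy w).1 w.2) (inv_mem w.2)⟩
      have h2 : y * w * y⁻¹ * (w : G)⁻¹ = 1 :=
        (hno _ _ (Commute.refl _) (hNp _ h1.1) (hQq _ h1.2)).elim id id
      rcases hno y w (mul_inv_eq_iff_eq_mul.1 (mul_inv_eq_one.1 h2)) hyp' (hQq w w.2) with e | e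
      · exact hy1 e
      · exact hw1' e
    let K := Subgroup.normalizer ((Q : Subgroup G) : Set G)
    let A : Subgroup K := (Q : Subgroup G).subgroupOf K
    haveI : A.Normal := Subgroup.normal_in_normalizer
    let ρ : K →* AddMonoid.End (Additive N) :=
      { toFun := fun g => MonoidHom.toAdditive (MulAut.conjNormal (H := N) (g : G)).toMonoidHom
        map_one' := by
          refine AddMonoidHom.ext fun v => ?_
          apply Additive.toMul.injective
          apply Subtype.ext
          show ((1 : K) : G) * _ * _⁻¹ = _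
          simp
          rfl
        map_mul' := fun g h => by
          refine AddMonoidHom.ext fun v => ?_
          apply Additive.toMul.injective
          apply Subtype.ext
          show ((g * h : K) : G) * _ * _⁻¹ =
            (g : G) * ((h : G) * (v.toMul : N) * (h : G)⁻¹) * (g : G)⁻¹
          simp [mul_assoc] }
    have hρ : ∀ (g : K) (v : Additive N),
        ((ρ g v).toMul : G) = (g : G) * (v.toMul : N) * (g : G)⁻¹ := fun g v => rfl
    let yK : K := ⟨y, hy⟩
    have hsum : ∀ (v : Additive N) (n : ℕ), ((v.toMul : N) * y : G) ^ n =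
        (((∑ i ∈ Finset.range n, ρ (yK ^ i) v).toMul : N) : G) * y ^ n := by
      intro v n
      induction n with
      | zero => simp
      | succ n ih =>
        rw [Finset.sum_range_succ, toMul_add, Subgroup.coe_mul, hρ, pow_succ, ih,
          show ((yK ^ n : K) : G) = y ^ n from Subgroup.coe_pow _ _ _, pow_succ]
        group
    have hkill := Lib.Fg6.TwoFrobenius.nsmul_eq_zero_of_norm ρ A yK hpp.pos ?_ ?_ ?_
    rotate_left
    · intro i hi0 hi a ha hc
      have h1 : Commute (y ^ i) (a : G) := by
        have := congrArg Subtype.val hc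
        simp only [Subgroup.coe_mul, Subgroup.coe_pow] at this
        exact this.symm
      rcases hno _ _ h1 (by rw [← pow_mul, mul_comm, pow_mul, hyp', one_pow]) (hQq _ ha) with e | e
      · have := Nat.le_of_dvd hi0 (hyp ▸ orderOf_dvd_of_pow_eq_one e)
        omega
      · exact Subtype.ext e
    · intro v hv
      have h1 : ((ρ ⟨w, Subgroup.le_normalizer w.2⟩ v).toMul : G) = (v.toMul : N) :=
        congrArg (fun t : Additive N => ((t.toMul : N) : G)) (hv _ (show _ ∈ A from w.2))
      rw [hρ] at h1
      rcases hno _ _ (mul_inv_eq_iff_eq_mul.1 h1).symm (hNp _ (v.toMul : N).2) (hQq w w.2) with e | e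
      · exact Additive.toMul.injective (Subtype.ext e)
      · exact absurd e hw1'
    · intro v
      have h1 : orderOf ((v.toMul : N) * y : G) = p := by
        have hm : QuotientGroup.mk' N ((v.toMul : N) * y : G) = QuotientGroup.mk' N y := by
          rw [map_mul, show QuotientGroup.mk' N ((v.toMul : N) : G) = 1 from
            (QuotientGroup.eq_one_iff _).2 (v.toMul : N).2, one_mul]
        have hy' : orderOf (QuotientGroup.mk' N y) = p := orderOf_eq_prime
          (by rw [← map_pow, hyp', map_one]) fun e => hyN ((QuotientGroup.eq_one_iff _).1 e)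
        have hd : p ∣ orderOf ((v.toMul : N) * y : G) := by
          rw [← hy', ← hm]; exact orderOf_map_dvd _ _
        have hne : ((v.toMul : N) * y : G) ≠ 1 := fun e => by
          rw [e, orderOf_one, Nat.dvd_one] at hd
          exact hpp.one_lt.ne' hd
        exact (hord _ hne).resolve_right fun e => hpq ((Nat.prime_dvd_prime_iff_eq hpp hqq).1 (e ▸ hd))
      have h2 := hsum v p
      rw [orderOf_dvd_iff_pow_eq_one.1 (dvd_of_eq h1), hyp', mul_one] at h2
      exact Additive.toMul.injective (Subtype.ext h2.symm)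
    have h1 : (u₀ : G) ^ q = 1 := by
      have hA : Nat.card A = q :=
        (Nat.card_congr (Subgroup.subgroupOfEquivOfLe Subgroup.le_normalizer).toEquiv).trans hcQ
      have h2 := congrArg (fun t : Additive N => ((t.toMul : N) : G)) (hkill (Additive.ofMul u₀))
      simpa [hA] using h2
    exact hu₀ (Subtype.ext ((hno _ _ (Commute.refl (u₀ : G)) (hNp _ u₀.2) h1).elim id id))
  refine ⟨(Q : Subgroup G), ⟨hQne, fun e => ?_, fun g hg => ?_⟩, (by rw [hcQ]; exact hqq)⟩
  · rw [e, Subgroup.card_top] at hcQ
    rw [hcQ] at hpG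
    exact hpq ((Nat.prime_dvd_prime_iff_eq hpp hqq).1 hpG)
  · have hd := Subgroup.card_dvd_of_le
      (inf_le_left : (Q : Subgroup G) ⊓ MulAut.conj g • (Q : Subgroup G) ≤ _)
    rw [hcQ] at hd
    rcases (Nat.dvd_prime hqq).1 hd with e | e
    · exact Subgroup.eq_bot_of_card_eq _ e
    · exfalso
      have hc : Nat.card (MulAut.conj g • (Q : Subgroup G) : Subgroup G) = q :=
        (Nat.card_congr (Subgroup.equivSMul (MulAut.conj g) (Q : Subgroup G)).toEquiv).symm.trans hcQ
      have e1 : (Q : Subgroup G) ⊓ MulAut.conj g • (Q : Subgroup G) = (Q : Subgroup G) :=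
        Subgroup.eq_of_le_of_card_ge inf_le_left (by rw [e, hcQ])
      have e2 : MulAut.conj g • (Q : Subgroup G) = (Q : Subgroup G) :=
        (Subgroup.eq_of_le_of_card_ge (inf_eq_left.1 e1) (by rw [hc, hcQ])).symm
      refine hg (hnorm (Subgroup.mem_normalizer_iff.2 fun h => ?_))
      conv_rhs => rw [← e2]
      exact (Subgroup.smul_mem_pointwise_smul_iff (a := MulAut.conj g) (S := (Q : Subgroup G)) (x := h)).symm

theorem exists_abelian_normal {G : Type*} [Group G] [Nontrivial G] (h : Group.IsSolvable G) :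
    ∃ N : Subgroup G, N.Normal ∧ N ≠ ⊥ ∧ ∀ u ∈ N, ∀ v ∈ N, u * v = v * u := by
  classical
  have hex : ∃ n, derivedSeries G n = ⊥ := h.solvable
  obtain ⟨n, hn⟩ : ∃ n, Nat.find hex = n + 1 := by
    refine Nat.exists_eq_succ_of_ne_zero fun h0 => ?_
    have := Nat.find_spec hex
    rw [h0, derivedSeries_zero] at this
    exact top_ne_bot this
  refine ⟨derivedSeries G n, derivedSeries_normal G n, Nat.find_min hex (by omega), ?_⟩
  intro u hu v hv
  have h1 := Nat.find_spec hex
  rw [hn, derivedSeries_succ] at h1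
  have h2 := Subgroup.commutator_mem_commutator hu hv
  rw [h1, Subgroup.mem_bot, commutatorElement_eq_one_iff_mul_comm] at h2
  exact h2


/-- Let G be a finite group of odd order in which the numbers of elements of each order that occurs (the numbers #{g : o(g) = m}, m ranging over the element orders of G) take exactly three different values. Then the order of G has at most two prime divisors; and if it has exactly two, then every Sylow subgroup of G for a prime dividing its order has prime exponent, G is a Frobenius group, and some Frobenius complement of G has prime order. -/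
theorem result {G : Type*} [Group G] [Finite G] (hodd : Odd (Nat.card G)) (h : (((fun m : ℕ => Nat.card {g : G // orderOf g = m}) '' Set.range (orderOf : G → ℕ))).ncard = 3) :
    (Nat.card G).primeFactors.card ≤ 2 ∧
      ((Nat.card G).primeFactors.card = 2 →
        (∀ (p : ℕ) [Fact p.Prime] (P : Sylow p G), p ∣ Nat.card G → Monoid.exponent ↥(P : Subgroup G) = p) ∧
        ∃ C : Subgroup G, Cfsg.IsFrobeniusComplement C ∧ (Nat.card ↥C).Prime) := by
  classical
  obtain ⟨a, b, hab', ha, hb, hv, -, -⟩ := exists_values h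
  have hVals : Vals G a b := vals_of_values ha hv
  have hodd' : ∀ r ∈ (Nat.card G).primeFactors, r ≠ 2 := fun r hr e =>
    Nat.not_even_iff_odd.2 hodd (even_iff_two_dvd.2 (e ▸ (Nat.mem_primeFactors.1 hr).2.1))
  have hle := card_odd_primes_le_two (by omega) hVals
  rw [Finset.filter_true_of_mem hodd'] at hle
  refine ⟨hle, fun h2 => ?_⟩
  obtain ⟨p, q, hpq, hπ⟩ := Finset.card_eq_two.1 h2
  obtain ⟨hp, hpG, -⟩ := Nat.mem_primeFactors.1 (show p ∈ (Nat.card G).primeFactors by rw [hπ]; simp)
  obtain ⟨hq, hqG, -⟩ := Nat.mem_primeFactors.1 (show q ∈ (Nat.card G).primeFactors by rw [hπ]; simp)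
  have hp2 : p ≠ 2 := hodd' p (by rw [hπ]; simp)
  have hq2 : q ≠ 2 := hodd' q (by rw [hπ]; simp)
  have := Fact.mk hp
  have := Fact.mk hq
  have hb' : 0 < b := by omega
  have hprime : ∀ r : ℕ, r.Prime → r ∣ Nat.card G → r = p ∨ r = q := fun r hr hrG => by
    have : r ∈ (Nat.card G).primeFactors := Nat.mem_primeFactors.2 ⟨hr, hrG, Nat.card_pos.ne'⟩
    rw [hπ] at this
    simpa using this
  -- a bound on the counts
  have hbound : cnt G p + cnt G q + 1 ≤ Nat.card G := by
    have h1 := card_pow_eq (G := G) (M := p * q) _ (dvd_prime_mul hp hq)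
    have hne : p ≠ p * q := (lt_mul_of_one_lt_right hp.pos hq.one_lt).ne
    have hne' : q ≠ p * q := (lt_mul_of_one_lt_left hq.pos hp.one_lt).ne
    rw [Finset.sum_insert (by
        simp only [Finset.mem_insert, Finset.mem_singleton]
        have := two_lt_mul hp hq
        have := hp.one_lt
        have := hq.one_lt
        omega),
      Finset.sum_insert (by simp [hpq, hne]), Finset.sum_pair hne', cnt_one] at h1
    have h3 := Finite.card_subtype_le (α := G) (fun g => g ^ (p * q) = 1)
    omega
  have key : ∀ r s : ℕ, r.Prime → s.Prime → r ≠ s → r ≠ 2 → s ≠ 2 → r ∣ Nat.card G → s ∣ Nat.card G →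
      (cnt G r = cnt G s → cnt G (r ^ 2) = 0) ∧
      (∀ a' b', Vals G a' b' → 0 < b' → a' ≠ b' → cnt G r = a' → cnt G s = b' →
        cnt G (r ^ 2) = 0 ∧ cnt G (r * s) = 0) := by
    intro r s hr hs hrs hr2 hs2 hrG hsG
    have := Fact.mk hr
    have := Fact.mk hs
    have hdvd : r ∣ cnt G (r ^ 2) := dvd_trans
      (by rw [Nat.totient_prime_pow hr two_pos]; exact dvd_mul_of_dvd_left (by simp) _)
      (totient_dvd_cnt (r ^ 2))
    have h2r : 2 < r ^ 2 := by have := hr.two_le; nlinarith
    constructor
    · intro he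
      rcases hVals.2 _ h2r with e | e | e
      · exact e
      · rcases prime_value hVals hr hr2 hrG with f | f
        · have := cnt_prime_mod hr hrG
          rw [f, ← e, (ZMod.natCast_eq_zero_iff _ _).2 hdvd] at this
          exact absurd (neg_eq_zero.1 this.symm) one_ne_zero
        · obtain ⟨-, g1, -⟩ := pair_same (vals_comm hb' hVals) hr hs hrs hr2 hs2 hrG hsG f (he ▸ f)
          rw [← e, (ZMod.natCast_eq_zero_iff _ _).2 hdvd] at g1
          exact absurd g1.symm one_ne_zero
      · rcases prime_value hVals hr hr2 hrG with f | f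
        · obtain ⟨-, g1, -⟩ := pair_same hVals hr hs hrs hr2 hs2 hrG hsG f (he ▸ f)
          rw [← e, (ZMod.natCast_eq_zero_iff _ _).2 hdvd] at g1
          exact absurd g1.symm one_ne_zero
        · have := cnt_prime_mod hr hrG
          rw [f, ← e, (ZMod.natCast_eq_zero_iff _ _).2 hdvd] at this
          exact absurd (neg_eq_zero.1 this.symm) one_ne_zero
    · intro a' b' hV hb'' hne fr fs
      obtain ⟨hx, -, -⟩ := pair_diff hb'' hV hne hr hs hrs hr2 hs2 hrG hsG fr fs
      refine ⟨?_, hx⟩
      have hmix : cnt G (r ^ 2 * s) = 0 := by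
        by_contra hne0
        obtain ⟨g, hg⟩ := (Nat.card_ne_zero.1 hne0).1
        have : 0 < cnt G (r * s) := cnt_pos ⟨g ^ r, by
          rw [orderOf_pow_of_dvd hr.ne_zero ⟨r * s, by rw [hg]; ring⟩, hg, pow_two, mul_assoc]
          exact Nat.mul_div_cancel_left _ hr.pos⟩
        omega
      have hdvd' : s ∣ cnt G (r ^ 2) := by
        by_contra hns
        have h1 := totient_mul_cnt_le (G := G) hs
          (((Nat.coprime_primes hr hs).2 hrs).pow_left 2) hns
        rw [hmix, fs] at h1
        have : 0 < (r ^ 2).totient := Nat.totient_pos.2 (by positivity)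
        nlinarith
      rcases hV.2 _ h2r with e | e | e
      · exact e
      · have := cnt_prime_mod hr hrG
        rw [fr, ← e, (ZMod.natCast_eq_zero_iff _ _).2 hdvd] at this
        exact absurd (neg_eq_zero.1 this.symm) one_ne_zero
      · have := cnt_prime_mod hs hsG
        rw [fs, ← e, (ZMod.natCast_eq_zero_iff _ _).2 hdvd'] at this
        exact absurd (neg_eq_zero.1 this.symm) one_ne_zero
  -- different counts, so prime orders only
  have hfinal : cnt G (p ^ 2) = 0 ∧ cnt G (q ^ 2) = 0 ∧ cnt G (p * q) = 0 := by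
    rcases prime_value hVals hp hp2 hpG with p1 | p1 <;> rcases prime_value hVals hq hq2 hqG with q1 | q1
    rotate_left
    · exact ⟨((key p q hp hq hpq hp2 hq2 hpG hqG).2 a b hVals hb' hab' p1 q1).1,
        ((key q p hq hp hpq.symm hq2 hp2 hqG hpG).2 b a (vals_comm hb' hVals) (by omega) hab'.symm q1 p1).1,
        ((key p q hp hq hpq hp2 hq2 hpG hqG).2 a b hVals hb' hab' p1 q1).2⟩
    · exact ⟨((key p q hp hq hpq hp2 hq2 hpG hqG).2 b a (vals_comm hb' hVals) (by omega) hab'.symm p1 q1).1,
        ((key q p hq hp hpq.symm hq2 hp2 hqG hpG).2 a b hVals hb' hab' q1 p1).1,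
        ((key p q hp hq hpq hp2 hq2 hpG hqG).2 b a (vals_comm hb' hVals) (by omega) hab'.symm p1 q1).2⟩
    all_goals
      exfalso
      have he : cnt G p = cnt G q := p1.trans q1.symm
      have hp' := (key p q hp hq hpq hp2 hq2 hpG hqG).1 he
      have hq' := (key q p hq hp hpq.symm hq2 hp2 hqG hpG).1 he.symm
      have hfull : ∀ r : ℕ, r.Prime → r ∣ Nat.card G → cnt G (r ^ 2) = 0 →
          r ^ (Nat.card G).factorization r ∣ 1 + cnt G r := by
        intro r hr hrG hr0
        have := Fact.mk hr
        set α := (Nat.card G).factorization r with hα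
        have hα1 : 1 ≤ α := hr.factorization_pos_of_dvd Nat.card_pos.ne' hrG
        have h1 := dvd_sum_cnt (G := G) (Nat.ordProj_dvd (Nat.card G) r) (r ^ α).divisors
          (fun d => by simp [hr.ne_zero, hα])
        rw [Nat.sum_divisors_prime_pow hr, Finset.sum_eq_add_of_mem 0 1 (by simp) (by simp; omega)
          (by norm_num) ?_] at h1
        · simpa [cnt_one] using h1
        · intro i _ hi
          by_contra hne0
          obtain ⟨g, hg⟩ := (Nat.card_ne_zero.1 hne0).1
          have hi2 : 2 ≤ i := by omega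
          have : 0 < cnt G (r ^ 2) := cnt_pos ⟨g ^ r ^ (i - 2), by
            rw [orderOf_pow_of_dvd (pow_ne_zero _ hr.ne_zero)
              (hg ▸ pow_dvd_pow r (by omega)), hg, Nat.pow_div (by omega) hr.pos]
            congr 1
            omega⟩
          omega
      have h1 := hfull p hp hpG hp'
      have h2' := hfull q hq hqG hq'
      rw [← he] at h2'
      have h3 : Nat.card G ∣ 1 + cnt G p := by
        have hprod := Nat.prod_factorization_pow_eq_self (n := Nat.card G) Nat.card_pos.ne'
        rw [Finsupp.prod, Nat.support_factorization, hπ, Finset.prod_pair hpq] at hprod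
        rw [← hprod]
        exact ((Nat.coprime_primes hp hq).2 hpq).pow _ _ |>.mul_dvd_of_dvd_of_dvd h1 h2'
      have h4 := Nat.le_of_dvd (by omega) h3
      have h5 : 0 < cnt G q := cnt_pos (exists_prime_orderOf_dvd_card' q hqG)
      omega
  obtain ⟨hp', hq', hpq'⟩ := hfinal
  have hord : ∀ g : G, g ≠ 1 → orderOf g = p ∨ orderOf g = q := by
    intro g hg
    obtain ⟨r, hr, hrd⟩ := Nat.exists_prime_and_dvd (fun e => hg (orderOf_eq_one_iff.1 e))
    obtain ⟨k, hk⟩ := hrd
    rcases eq_or_ne k 1 with rfl | hk1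
    · rw [mul_one] at hk
      rw [hk]
      exact hprime r hr (hk ▸ orderOf_dvd_natCard g)
    · exfalso
      obtain ⟨s, hs, hsd⟩ := Nat.exists_prime_and_dvd hk1
      obtain ⟨l, rfl⟩ := hsd
      have hl : l ≠ 0 := by rintro rfl; exact (orderOf_pos g).ne' (by rw [hk]; ring)
      have hmem : 0 < cnt G (r * s) := cnt_pos ⟨g ^ l, by
        rw [orderOf_pow_of_dvd hl ⟨r * s, by rw [hk]; ring⟩, hk, ← mul_assoc]
        exact Nat.mul_div_cancel _ (Nat.pos_of_ne_zero hl)⟩
      have hsG : s ∣ Nat.card G :=
        ((dvd_mul_right s l).trans (hk ▸ dvd_mul_left _ r)).trans (orderOf_dvd_natCard g)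
      have hrG : r ∣ Nat.card G := (hk ▸ dvd_mul_right r _).trans (orderOf_dvd_natCard g)
      rcases hprime r hr hrG with rfl | rfl <;> rcases hprime s hs hsG with rfl | rfl
      · rw [← sq] at hmem; omega
      · omega
      · rw [mul_comm] at hmem; omega
      · rw [← sq] at hmem; omega
  refine ⟨fun r _ P hrG => ?_, ?_⟩
  · have hr : r.Prime := Fact.out
    refine ((Nat.dvd_prime hr).1 (Monoid.exponent_dvd_of_forall_pow_eq_one fun u => ?_)).resolve_left
      fun e => P.ne_bot_of_dvd_card hrG ?_
    · rcases eq_or_ne u 1 with rfl | hu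
      · exact one_pow r
      refine orderOf_dvd_iff_pow_eq_one.1 ?_
      obtain ⟨k, hk⟩ := IsPGroup.iff_orderOf.1 P.2 u
      have hu' : (u : G) ≠ 1 := fun e => hu (Subtype.ext e)
      have hprimeord : (orderOf u).Prime := by
        rw [← Subgroup.orderOf_coe]
        rcases hord _ hu' with f | f <;> rw [f] <;> assumption
      rw [(Nat.prime_dvd_prime_iff_eq hprimeord hr).1 (hprimeord.dvd_of_dvd_pow (dvd_of_eq hk))]
    · rw [Subgroup.eq_bot_iff_forall]
      intro u hu
      have h1 := Monoid.pow_exponent_eq_one (⟨u, hu⟩ : (P : Subgroup G))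
      rw [e, pow_one] at h1
      exact congrArg Subtype.val h1
  · haveI : Nontrivial G := Finite.one_lt_card_iff_nontrivial.1
      (lt_of_lt_of_le hp.one_lt (Nat.le_of_dvd Nat.card_pos hpG))
    obtain ⟨N, hNn, hN1, hNc⟩ := exists_abelian_normal
      (Lib.Hall.Converse.isSolvable_of_card_primeFactors_le_two (G := G) h2.le)
    obtain ⟨u, hu⟩ := Subgroup.ne_bot_iff_exists_ne_one.1 hN1
    have hu' : (u : G) ≠ 1 := fun e => hu (Subtype.ext e)
    have hsame : ∀ v ∈ N, v ^ orderOf (u : G) = 1 := by
      intro v hv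
      rcases eq_or_ne v 1 with rfl | hv1
      · exact one_pow _
      refine orderOf_dvd_iff_pow_eq_one.1 (dvd_of_eq ?_)
      by_contra hne
      have hc : Commute (u : G) v := hNc u u.2 v hv
      have hno : ∀ x y : G, Commute x y → orderOf x = p → orderOf y = q → False := fun x y hxy hx hy => by
        have h3 := hxy.orderOf_mul_eq_mul_orderOf_of_coprime
          (by rw [hx, hy]; exact (Nat.coprime_primes hp hq).2 hpq)
        rw [hx, hy] at h3
        have := cnt_pos (G := G) (m := p * q) ⟨_, h3⟩
        omega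
      rcases hord _ hu' with f | f <;> rcases hord _ hv1 with g | g
      · exact hne (g.trans f.symm)
      · exact hno _ _ hc f g
      · exact hno _ _ hc.symm g f
      · exact hne (g.trans f.symm)
    rcases hord _ hu' with f | f
    · exact exists_complement_of_normal hpq hq2 hord hpG hqG N hN1 hNc (f ▸ hsame)
    · exact exists_complement_of_normal hpq.symm hp2 (fun g hg => (hord g hg).symm) hqG hpG N hN1 hNc (f ▸ hsame)

end Cfsg.Agent.S4004
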