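import Cfsg.Statements.S4005
import Cfsg.Agent.Lib.Fg6.SmallSpectrum
import Cfsg.Agent.Lib.Induced.Burnside
import Mathlib.GroupTheory.PGroup

set_option autoImplicit false
open Cfsg

namespace Cfsg.Agent.S4005

open Lib.Fg6.SmallSpectrum

theorem pow_two_or_three {G : Type*} [Group G] [Finite G]
    (h : ∀ g : G, orderOf g ≤ 3) (g : G) : g ^ 2 = 1 ∨ g ^ 3 = 1 := by
  have h1 := orderOf_pos g
  have h2 := h g
  rcases (show orderOf g = 1 ∨ orderOf g = 2 ∨ orderOf g = 3 by omega) with e | e | e
  · left; rw [orderOf_eq_one_iff.1 e, one_pow]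
  · left; rw [← e]; exact pow_orderOf_eq_one g
  · right; rw [← e]; exact pow_orderOf_eq_one g

theorem sylow_exponent {G : Type*} [Group G] [Finite G] (h : ∀ g : G, orderOf g ≤ 3) {p : ℕ}
    (hp : p.Prime) (h23 : p = 2 ∨ p = 3) {P : Subgroup G} (hP : IsPGroup p P) {x : G}
    (hx : x ∈ P) : x ^ p = 1 := by
  have := Fact.mk hp
  obtain ⟨k, hk⟩ := IsPGroup.iff_orderOf.1 hP ⟨x, hx⟩
  rw [Subgroup.orderOf_mk] at hk
  rcases Nat.lt_or_ge k 2 with h1 | h1
  · refine orderOf_dvd_iff_pow_eq_one.1 ?_
    rw [hk]; simpa using pow_dvd_pow p (Nat.lt_succ_iff.1 h1)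
  · exfalso
    have h2 := Nat.pow_le_pow_right hp.pos h1
    rw [← hk] at h2
    have := h x
    rcases h23 with rfl | rfl <;> omega

theorem no_six {G : Type*} [Group G] [Finite G] (h : ∀ g : G, orderOf g ≤ 3) {a b : G}
    (hab : Commute a b) (ha : a ^ 2 = 1) (hb : b ^ 3 = 1) (ha1 : a ≠ 1) : b = 1 := by
  by_contra hb1
  have h2 : orderOf a = 2 := orderOf_eq_prime ha ha1
  have h3 : orderOf b = 3 := orderOf_eq_prime hb hb1
  have := h (a * b)
  rw [hab.orderOf_mul_eq_mul_orderOf_of_coprime (by rw [h2, h3]; norm_num), h2, h3] at this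
  omega

/-- A finite group whose set of element orders is exactly {1, 2, 3} has either a normal elementary abelian 3-subgroup of index 2 or a normal elementary abelian 2-subgroup of index 3. -/
theorem result {G : Type*} [Group G] [Finite G] (h : Set.range (orderOf : G → ℕ) = {k : ℕ | 1 ≤ k ∧ k ≤ 3}) :
    (∃ N : Subgroup G, N.Normal ∧ Cfsg.IsElementaryAbelian 3 N ∧ N.index = 2) ∨
      (∃ N : Subgroup G, N.Normal ∧ Cfsg.IsElementaryAbelian 2 N ∧ N.index = 3) := by
  have h3' : ∀ g : G, orderOf g ≤ 3 := fun g => ((Set.ext_iff.1 h _).1 ⟨g, rfl⟩).2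
  have hpow := pow_two_or_three h3'
  have hex : ∀ k, 1 ≤ k → k ≤ 3 → ∃ g : G, orderOf g = k := fun k h1 h2 =>
    (Set.ext_iff.1 h k).2 ⟨h1, h2⟩
  obtain ⟨t₀, ht₀⟩ := hex 2 (by norm_num) (by norm_num)
  obtain ⟨x₀, hx₀⟩ := hex 3 (by norm_num) (by norm_num)
  set c := Nat.card G with hc
  have hc0 : c ≠ 0 := Nat.card_pos.ne'
  have hprimes : ∀ q : ℕ, q.Prime → q ∣ c → q = 2 ∨ q = 3 := fun q hq hqc => by
    have := Fact.mk hq
    obtain ⟨g, hg⟩ := exists_prime_orderOf_dvd_card' q hqc
    have := h3' g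
    have := hq.two_le
    omega
  obtain ⟨a, b, hab⟩ : ∃ a b : ℕ, c = 2 ^ a * 3 ^ b := by
    obtain ⟨a, m, hm, hc'⟩ := Nat.exists_eq_pow_mul_and_not_dvd hc0 2 (by norm_num)
    refine ⟨a, m.primeFactorsList.length, ?_⟩
    conv_lhs => rw [hc', Nat.eq_prime_pow_of_unique_prime_dvd (p := 3) (n := m)
      (by rintro rfl; simp at hm) (fun {q} hq hqm => (hprimes q hq (hc' ▸ hqm.mul_left _)).resolve_left
        (by rintro rfl; exact hm hqm))]
  have : Group.IsSolvable G :=
    Lib.Induced.Burnside.isSolvable_of_card_eq 2 3 a b Nat.prime_two Nat.prime_three hab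
  have : Fact (Nat.Prime 2) := ⟨Nat.prime_two⟩
  have : Fact (Nat.Prime 3) := ⟨Nat.prime_three⟩
  -- the last nontrivial term of the derived series
  have hex' : ∃ n, derivedSeries G n = ⊥ := (show Group.IsSolvable G from inferInstance).solvable
  obtain ⟨N, hNn, hNne, hNab⟩ : ∃ N : Subgroup G, N.Normal ∧ N ≠ ⊥ ∧
      ∀ u ∈ N, ∀ v ∈ N, u * v = v * u := by
    classical
    obtain ⟨n, hn⟩ : ∃ n, Nat.find hex' = n + 1 := by
      refine Nat.exists_eq_succ_of_ne_zero fun h0 => ?_
      have := Nat.find_spec hex'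
      rw [h0, derivedSeries_zero] at this
      have hx : x₀ ∈ (⊥ : Subgroup G) := this ▸ Subgroup.mem_top x₀
      rw [Subgroup.mem_bot.1 hx, orderOf_one] at hx₀
      omega
    refine ⟨derivedSeries G n, derivedSeries_normal G n, Nat.find_min hex' (by omega), ?_⟩
    intro u hu v hv
    have h1 := Nat.find_spec hex'
    rw [hn, derivedSeries_succ] at h1
    have h2 := Subgroup.commutator_mem_commutator hu hv
    rw [h1, Subgroup.mem_bot, commutatorElement_eq_one_iff_mul_comm] at h2
    exact h2
  by_cases h2N : ∃ t ∈ N, t ≠ 1 ∧ t ^ 2 = 1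
  · -- a normal 2-subgroup
    obtain ⟨t, htN, ht1, ht2⟩ := h2N
    have hN2 : ∀ u ∈ N, u ^ 2 = 1 := fun u hu => (hpow u).elim id fun hu3 => by
      rw [no_six h3' (hNab t htN u hu) ht2 hu3 ht1, one_pow]
    obtain ⟨S⟩ := (inferInstance : Nonempty (Sylow 2 G))
    have hS2 : ∀ u ∈ (S : Subgroup G), u ^ 2 = 1 := fun u hu =>
      sylow_exponent h3' Nat.prime_two (Or.inl rfl) S.2 hu
    have hNp : IsPGroup 2 N := fun u => ⟨1, Subtype.ext (by simpa using hN2 u u.2)⟩
    have hNS : N ≤ S := by
      obtain ⟨S', hS'⟩ := hNp.exists_le_sylow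
      obtain ⟨g, rfl⟩ := MulAction.exists_smul_eq G S' S
      intro u hu
      rw [Sylow.coe_subgroup_smul, Subgroup.mem_pointwise_smul_iff_inv_smul_mem]
      exact hS' (by simpa using hNn.conj_mem u hu g⁻¹)
    have hScomm : ∀ u ∈ (S : Subgroup G), ∀ v ∈ (S : Subgroup G), u * v = v * u := by
      intro u hu v hv
      have e1 := hS2 _ ((S : Subgroup G).mul_mem hu hv)
      rw [sq, ← eq_inv_iff_mul_eq_one, mul_inv_rev] at e1
      have eu : u⁻¹ = u := inv_eq_of_mul_eq_one_right (by rw [← sq]; exact hS2 u hu)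
      have ev : v⁻¹ = v := inv_eq_of_mul_eq_one_right (by rw [← sq]; exact hS2 v hv)
      rwa [eu, ev] at e1
    have hfix : ∀ z : G, z ≠ 1 → z ^ 3 = 1 → ∀ u ∈ N, z * u * z⁻¹ = u → u = 1 := by
      intro z hz1 hz3 u hu he
      by_contra hu1
      exact hz1 (no_six h3' (show Commute u z from (mul_inv_eq_iff_eq_mul.1 he).symm)
        (hN2 u hu) hz3 hu1)
    have hSC : (S : Subgroup G) = Subgroup.centralizer (N : Set G) := by
      refine le_antisymm (fun u hu => Subgroup.mem_centralizer_iff.2 fun v hv =>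
        hScomm v (hNS hv) u hu) ?_
      refine le_of_eq (S.3 ?_ fun u hu => Subgroup.mem_centralizer_iff.2 fun v hv =>
        hScomm v (hNS hv) u hu)
      intro u
      refine ⟨1, Subtype.ext ?_⟩
      rcases hpow (u : G) with e | e
      · simpa using e
      · have : (u : G) = 1 :=
          no_six h3' (Subgroup.mem_centralizer_iff.1 u.2 t htN : Commute t (u : G)) ht2 e ht1
        simp [this]
    refine Or.inr ⟨(S : Subgroup G), ?_, ⟨⟨⟨fun u v => Subtype.ext (hScomm u u.2 v v.2)⟩⟩, hS2⟩, ?_⟩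
    · rw [hSC]; infer_instance
    · -- the index
      obtain ⟨P⟩ := (inferInstance : Nonempty (Sylow 3 G))
      have hP3 : ∀ u ∈ (P : Subgroup G), u ^ 3 = 1 := fun u hu =>
        sylow_exponent h3' Nat.prime_three (Or.inr rfl) P.2 hu
      have hb : b ≤ 1 := by
        by_contra hb
        have hcP : Nat.card P = 3 ^ b := by
          rw [P.card_eq_multiplicity, ← hc, hab, Nat.factorization_mul (by positivity) (by positivity),
            Nat.Prime.factorization_pow Nat.prime_two, Nat.Prime.factorization_pow Nat.prime_three]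
          simp
        have hPnt : Nontrivial P := Finite.one_lt_card_iff_nontrivial.1
          (by rw [hcP]; exact Nat.one_lt_pow (by omega) (by norm_num))
        have hzne := P.2.center_nontrivial
        obtain ⟨z, hz⟩ := exists_ne (1 : Subgroup.center P)
        obtain ⟨y, hy⟩ : ∃ y : P, y ∉ Subgroup.zpowers (z : P) := by
          by_contra hcon
          push Not at hcon
          have h1 : Subgroup.zpowers (z : P) = ⊤ := eq_top_iff.2 fun y _ => hcon y
          have h2 := Nat.card_zpowers (z : P)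
          rw [h1, Subgroup.card_top, hcP] at h2
          have h3 := h3' ((z : P) : G)
          rw [Subgroup.orderOf_coe, ← h2] at h3
          have := Nat.pow_le_pow_right (show 0 < 3 by norm_num) (show 2 ≤ b by omega)
          omega
        have hzy : Commute ((z : P) : G) (y : G) :=
          (congrArg Subtype.val (Subgroup.mem_center_iff.1 z.2 y)).symm
        have hne : ∀ i : ℕ, ((z : P) : G) ^ i * y ≠ 1 := fun i e => hy (by
          have h1 : y = ((z : P) ^ i)⁻¹ := eq_inv_of_mul_eq_one_right (Subtype.ext (by simpa using e))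
          rw [h1]; exact inv_mem (pow_mem (Subgroup.mem_zpowers _) i))
        have hz1 : ((z : P) : G) ≠ 1 := fun e => hz (Subtype.ext (Subtype.ext e))
        have : IsMulCommutative N := ⟨⟨fun u v => Subtype.ext (hNab u u.2 v v.2)⟩⟩
        refine hNne (no_free_nine hN2 hzy (hP3 _ (z : P).2) (hP3 _ y.2)
          (fun u hu => hNn.conj_mem u hu _) (fun u hu => hNn.conj_mem u hu _) ?_)
        rintro w (rfl | rfl | rfl | rfl)
        · exact hfix _ hz1 (hP3 _ (z : P).2)
        · exact hfix _ (by simpa using hne 0) (hP3 _ y.2)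
        · exact hfix _ (by simpa using hne 1) (hP3 _ ((P : Subgroup G).mul_mem (z : P).2 y.2))
        · exact hfix _ (by simpa [sq, mul_assoc] using hne 2)
            (hP3 _ ((P : Subgroup G).mul_mem ((P : Subgroup G).mul_mem (z : P).2 (z : P).2) y.2))
      have hb0 : b ≠ 0 := by
        rintro rfl
        have h1 := orderOf_dvd_natCard x₀
        rw [hx₀, ← hc, hab, pow_zero, mul_one] at h1
        exact absurd (Nat.Prime.dvd_of_dvd_pow Nat.prime_three h1) (by norm_num)
      obtain rfl : b = 1 := by omega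
      have h1 := (S : Subgroup G).index_mul_card
      have h2 : Nat.card S = 2 ^ a := by
        rw [S.card_eq_multiplicity, ← hc, hab, Nat.factorization_mul (by positivity) (by positivity),
          Nat.Prime.factorization_pow Nat.prime_two, Nat.Prime.factorization_pow Nat.prime_three]
        simp
      rw [h2, ← hc, hab, pow_one, mul_comm (2 ^ a)] at h1
      exact Nat.eq_of_mul_eq_mul_right (by positivity) h1
  · -- a normal 3-subgroup
    push Not at h2N
    have hN3 : ∀ u ∈ N, u ^ 3 = 1 := fun u hu => (hpow u).elim (fun e => by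
      have : u = 1 := by by_contra hu1; exact h2N u hu hu1 e
      rw [this, one_pow]) id
    obtain ⟨n, hnN, hn1⟩ : ∃ n ∈ N, n ≠ 1 := by
      obtain ⟨n, hn⟩ := Subgroup.ne_bot_iff_exists_ne_one.1 hNne
      exact ⟨n, n.2, by simpa using hn⟩
    have hinvN : ∀ s : G, s ≠ 1 → s ^ 2 = 1 → ∀ u ∈ N, s * u * s⁻¹ = u⁻¹ := by
      intro s hs1 hs2
      exact (inverts_of_noFixed hs2 (fun u hu => hNn.conj_mem u hu s) fun u hu he =>
        no_six h3' (show Commute s u from mul_inv_eq_iff_eq_mul.1 he) hs2 (hN3 u hu) hs1).1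
    obtain ⟨S⟩ := (inferInstance : Nonempty (Sylow 2 G))
    have hS2 : ∀ u ∈ (S : Subgroup G), u ^ 2 = 1 := fun u hu =>
      sylow_exponent h3' Nat.prime_two (Or.inl rfl) S.2 hu
    have ha : a = 1 := by
      have hcS : Nat.card S = 2 ^ a := by
        rw [S.card_eq_multiplicity, ← hc, hab, Nat.factorization_mul (by positivity) (by positivity),
          Nat.Prime.factorization_pow Nat.prime_two, Nat.Prime.factorization_pow Nat.prime_three]
        simp
      have ha0 : a ≠ 0 := by
        rintro rfl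
        have h1 := orderOf_dvd_natCard t₀
        rw [ht₀, ← hc, hab, pow_zero, one_mul] at h1
        exact absurd (Nat.Prime.dvd_of_dvd_pow Nat.prime_two h1) (by norm_num)
      by_contra ha1
      obtain ⟨u, hu⟩ : ∃ u : (S : Subgroup G), u ≠ 1 := by
        have : Nontrivial (S : Subgroup G) := Finite.one_lt_card_iff_nontrivial.1
          (by rw [hcS]; exact Nat.one_lt_pow ha0 (by norm_num))
        exact exists_ne 1
      obtain ⟨v, hv⟩ : ∃ v : (S : Subgroup G), v ∉ Subgroup.zpowers u := by
        by_contra hcon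
        push Not at hcon
        have h1 : Subgroup.zpowers u = ⊤ := eq_top_iff.2 fun y _ => hcon y
        have h2 := Nat.card_zpowers u
        rw [h1, Subgroup.card_top, hcS] at h2
        have h3 := orderOf_dvd_of_pow_eq_one (n := 2) (x := u) (Subtype.ext (by simpa using hS2 u u.2))
        have := Nat.le_of_dvd (by norm_num) h3
        have := Nat.pow_le_pow_right (show 0 < 2 by norm_num) (show 2 ≤ a by omega)
        omega
      have hu1 : (u : G) ≠ 1 := fun e => hu (Subtype.ext e)
      have hv1 : (v : G) ≠ 1 := fun e => hv (by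
        rw [show v = 1 from Subtype.ext e]; exact one_mem _)
      have huv : (u : G) * v ≠ 1 := fun e => hv (by
        have h1 : v = u⁻¹ := eq_inv_of_mul_eq_one_right (Subtype.ext (by simpa using e))
        rw [h1]; exact inv_mem (Subgroup.mem_zpowers u))
      have h1 : ((u : G) * v) * n * ((u : G) * v)⁻¹ = n := by
        rw [show ((u : G) * v) * n * ((u : G) * v)⁻¹ = u * (v * n * (v : G)⁻¹) * (u : G)⁻¹ by group,
          hinvN v hv1 (hS2 v v.2) n hnN, hinvN u hu1 (hS2 u u.2) _ (N.inv_mem hnN), inv_inv]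
      exact hn1 (no_six h3' (show Commute ((u : G) * v) n from mul_inv_eq_iff_eq_mul.1 h1)
        (hS2 _ ((S : Subgroup G).mul_mem u.2 v.2)) (hN3 n hnN) huv)
    obtain ⟨P⟩ := (inferInstance : Nonempty (Sylow 3 G))
    have hP3 : ∀ u ∈ (P : Subgroup G), u ^ 3 = 1 := fun u hu =>
      sylow_exponent h3' Nat.prime_three (Or.inr rfl) P.2 hu
    have hidx : (P : Subgroup G).index = 2 := by
      have h1 := (P : Subgroup G).index_mul_card
      have h2 : Nat.card P = 3 ^ b := by
        rw [P.card_eq_multiplicity, ← hc, hab, Nat.factorization_mul (by positivity) (by positivity),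
          Nat.Prime.factorization_pow Nat.prime_two, Nat.Prime.factorization_pow Nat.prime_three]
        simp
      rw [h2, ← hc, hab, ha, pow_one] at h1
      exact Nat.eq_of_mul_eq_mul_right (by positivity) h1
    have hPn : (P : Subgroup G).Normal := Subgroup.normal_of_index_eq_two hidx
    have ht1 : t₀ ≠ 1 := fun e => by rw [e, orderOf_one] at ht₀; omega
    have ht2 : t₀ ^ 2 = 1 := by rw [← ht₀]; exact pow_orderOf_eq_one t₀
    refine Or.inl ⟨(P : Subgroup G), hPn, ⟨?_, hP3⟩, hidx⟩
    exact (inverts_of_noFixed ht2 (fun u hu => hPn.conj_mem u hu t₀) fun u hu he =>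
      no_six h3' (show Commute t₀ u from mul_inv_eq_iff_eq_mul.1 he) ht2 (hP3 u hu) ht1).2

end Cfsg.Agent.S4005
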