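import Cfsg.Statements.S4006
import Cfsg.Agent.Lib.Fg6.SmallSpectrum
import Cfsg.Agent.Lib.Fg6.OrderThreeAut
import Cfsg.Agent.Lib.Induced.Burnside
import Cfsg.Agent.Lib.PGroups.UniqueInvolution
import Mathlib.GroupTheory.Perm.Sign
import Mathlib.GroupTheory.Perm.Cycle.Type

set_option autoImplicit false
open Cfsg

namespace Cfsg.Agent.S4006

open Lib.Fg6.SmallSpectrum

/-- A nontrivial solvable group has a nontrivial abelian normal subgroup. -/
theorem exists_abelian_normal {G : Type*} [Group G] [Nontrivial G] (h : Group.IsSolvable G) :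
    ∃ N : Subgroup G, N.Normal ∧ N ≠ ⊥ ∧ ∀ u ∈ N, ∀ v ∈ N, u * v = v * u := by
  classical
  have hex : ∃ n, derivedSeries G n = ⊥ := h.solvable
  obtain ⟨n, hn⟩ : ∃ n, Nat.find hex = n + 1 := by
    refine Nat.exists_eq_succ_of_ne_zero fun h0 => ?_
    have := Nat.find_spec hex
    rw [h0, derivedSeries_zero] at this
    exact top_ne_bot this
  refine ⟨derivedSeries G n, derivedSeries_normal G n, Nat.find_min hex (by omega), ?_⟩
  intro u hu v hv
  have h1 := Nat.find_spec hex
  rw [hn, derivedSeries_succ] at h1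
  have h2 := Subgroup.commutator_mem_commutator hu hv
  rw [h1, Subgroup.mem_bot, commutatorElement_eq_one_iff_mul_comm] at h2
  exact h2

theorem pow_four_or_three {G : Type*} [Group G] [Finite G] (h : ∀ g : G, orderOf g ≤ 4) (g : G) :
    g ^ 4 = 1 ∨ g ^ 3 = 1 := by
  have h1 := orderOf_pos g
  have h2 := h g
  rcases (show orderOf g = 1 ∨ orderOf g = 2 ∨ orderOf g = 3 ∨ orderOf g = 4 by omega)
    with e | e | e | e
  · left; exact orderOf_dvd_iff_pow_eq_one.1 (by rw [e]; norm_num)
  · left; exact orderOf_dvd_iff_pow_eq_one.1 (by rw [e]; norm_num)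
  · right; exact orderOf_dvd_iff_pow_eq_one.1 (by rw [e])
  · left; exact orderOf_dvd_iff_pow_eq_one.1 (by rw [e])

theorem no_twelve {G : Type*} [Group G] [Finite G] (h : ∀ g : G, orderOf g ≤ 4) {a b : G}
    (hab : Commute a b) (ha : a ^ 4 = 1) (hb : b ^ 3 = 1) (ha1 : a ≠ 1) : b = 1 := by
  by_contra hb1
  have h3 : orderOf b = 3 := orderOf_eq_prime hb hb1
  have h2 : 2 ≤ orderOf a := by
    have := orderOf_pos a
    have : orderOf a ≠ 1 := fun e => ha1 (orderOf_eq_one_iff.1 e)
    omega
  have h4 := h (a * b)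
  rw [hab.orderOf_mul_eq_mul_orderOf_of_coprime (by
    rw [h3]
    exact (Nat.Coprime.coprime_dvd_left (orderOf_dvd_of_pow_eq_one ha) (by norm_num))), h3] at h4
  omega

theorem pgroup_exponent {G : Type*} [Group G] [Finite G] (h : ∀ g : G, orderOf g ≤ 4) {p : ℕ}
    (hp : p.Prime) (k : ℕ) (hk : 4 < p ^ (k + 1)) {P : Subgroup G} (hP : IsPGroup p P) {x : G}
    (hx : x ∈ P) : x ^ p ^ k = 1 := by
  have := Fact.mk hp
  obtain ⟨i, hi⟩ := IsPGroup.iff_orderOf.1 hP ⟨x, hx⟩
  rw [Subgroup.orderOf_mk] at hi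
  refine orderOf_dvd_iff_pow_eq_one.1 ?_
  rw [hi]
  refine pow_dvd_pow p ?_
  by_contra hlt
  have h1 := Nat.pow_le_pow_right hp.pos (show k + 1 ≤ i by omega)
  have h2 := h x
  omega

theorem norm_eq_one_of_fpf {Q : Type*} [Group Q] [Finite Q] (φ : Q →* Q)
    (h3 : ∀ t, φ (φ (φ t)) = t) (hfix : ∀ t, φ t = t → t = 1) (t : Q) :
    t * φ t * φ (φ t) = 1 := by
  have hinj : Function.Injective (fun u : Q => u⁻¹ * φ u) := fun u v huv => by
    have h1 : φ (v * u⁻¹) = v * u⁻¹ := by
      have := congrArg (fun z => v * z) huv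
      simp only [mul_inv_cancel_left] at this
      rw [map_mul, map_inv, ← this, mul_assoc, mul_inv_cancel_right]
    exact (mul_inv_eq_one.1 (hfix _ h1)).symm
  obtain ⟨u, rfl⟩ := (Finite.injective_iff_surjective.1 hinj) t
  simp only [map_mul, map_inv, h3]
  group

/-- A finite group whose set of element orders is exactly {1, 2, 3, 4} has a normal subgroup N such that either N is a 2-group of exponent 4 and nilpotency class at most 2 with G/N of order 3, or N is an elementary abelian 2-group with G/N isomorphic to the symmetric group of degree 3, or N is an elementary abelian 3-group with G/N cyclic of order 4 or quaternion of order 8. -/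
theorem result {G : Type*} [Group G] [Finite G] (h : Set.range (orderOf : G → ℕ) = {k : ℕ | 1 ≤ k ∧ k ≤ 4}) :
    ∃ (N : Subgroup G) (_ : N.Normal),
      (IsPGroup 2 ↥N ∧ Monoid.exponent ↥N = 4 ∧ Group.nilpotencyClass ↥N ≤ 2 ∧ N.index = 3) ∨
      (Cfsg.IsElementaryAbelian 2 N ∧ Nonempty (G ⧸ N ≃* Equiv.Perm (Fin 3))) ∨
      (Cfsg.IsElementaryAbelian 3 N ∧ ((IsCyclic (G ⧸ N) ∧ N.index = 4) ∨ Nonempty (G ⧸ N ≃* QuaternionGroup 2))) := by
  classical
  have h4' : ∀ g : G, orderOf g ≤ 4 := fun g => ((Set.ext_iff.1 h _).1 ⟨g, rfl⟩).2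
  have hpow := pow_four_or_three h4'
  have hex : ∀ k, 1 ≤ k → k ≤ 4 → ∃ g : G, orderOf g = k := fun k h1 h2 =>
    (Set.ext_iff.1 h k).2 ⟨h1, h2⟩
  obtain ⟨g₄, hg₄⟩ := hex 4 (by norm_num) le_rfl
  obtain ⟨x₀, hx₀⟩ := hex 3 (by norm_num) (by norm_num)
  have hp2 : Fact (Nat.Prime 2) := ⟨Nat.prime_two⟩
  have hp3 : Fact (Nat.Prime 3) := ⟨Nat.prime_three⟩
  set c := Nat.card G with hc
  have hc0 : c ≠ 0 := Nat.card_pos.ne'
  have hprimes : ∀ q : ℕ, q.Prime → q ∣ c → q = 2 ∨ q = 3 := fun q hq hqc => by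
    have := Fact.mk hq
    obtain ⟨g, hg⟩ := exists_prime_orderOf_dvd_card' q hqc
    have := h4' g
    rcases (show q = 0 ∨ q = 1 ∨ q = 2 ∨ q = 3 ∨ q = 4 by omega) with rfl | rfl | rfl | rfl | rfl
    all_goals first | (left; rfl) | (right; rfl) | (norm_num at hq)
  obtain ⟨a, b, hab⟩ : ∃ a b : ℕ, c = 2 ^ a * 3 ^ b := by
    obtain ⟨a, m, hm, hc'⟩ := Nat.exists_eq_pow_mul_and_not_dvd hc0 2 (by norm_num)
    refine ⟨a, m.primeFactorsList.length, ?_⟩
    conv_lhs => rw [hc', Nat.eq_prime_pow_of_unique_prime_dvd (p := 3) (n := m)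
      (by rintro rfl; simp at hm) (fun {q} hq hqm => (hprimes q hq (hc' ▸ hqm.mul_left _)).resolve_left
        (by rintro rfl; exact hm hqm))]
  have hsolG : Group.IsSolvable G :=
    Lib.Induced.Burnside.isSolvable_of_card_eq 2 3 a b Nat.prime_two Nat.prime_three hab
  obtain ⟨S⟩ := (inferInstance : Nonempty (Sylow 2 G))
  obtain ⟨P⟩ := (inferInstance : Nonempty (Sylow 3 G))
  have hS4 : ∀ u ∈ (S : Subgroup G), u ^ 4 = 1 := fun u hu =>
    pgroup_exponent h4' Nat.prime_two 2 (by norm_num) S.2 hu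
  have hP3 : ∀ u ∈ (P : Subgroup G), u ^ 3 = 1 := fun u hu => by
    simpa using pgroup_exponent h4' Nat.prime_three 1 (by norm_num) P.2 hu
  have hcS : Nat.card (S : Subgroup G) = 2 ^ a := by
    rw [S.card_eq_multiplicity, ← hc, hab, Nat.factorization_mul (by positivity) (by positivity),
      Nat.Prime.factorization_pow Nat.prime_two, Nat.Prime.factorization_pow Nat.prime_three]
    simp
  have hcP : Nat.card (P : Subgroup G) = 3 ^ b := by
    rw [P.card_eq_multiplicity, ← hc, hab, Nat.factorization_mul (by positivity) (by positivity),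
      Nat.Prime.factorization_pow Nat.prime_two, Nat.Prime.factorization_pow Nat.prime_three]
    simp
  have hSidx : (S : Subgroup G).index = 3 ^ b := by
    have h1 := (S : Subgroup G).index_mul_card
    rw [hcS, ← hc, hab, mul_comm (2 ^ a)] at h1
    exact Nat.eq_of_mul_eq_mul_right (by positivity) h1
  have hb0 : b ≠ 0 := by
    rintro rfl
    have h1 := orderOf_dvd_natCard x₀
    rw [hx₀, ← hc, hab, pow_zero, mul_one] at h1
    exact absurd (Nat.Prime.dvd_of_dvd_pow Nat.prime_three h1) (by norm_num)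
  have ha4 : 2 ≤ a := by
    have h1 := orderOf_dvd_natCard g₄
    rw [hg₄, ← hc, hab] at h1
    have h2 : 2 ^ 2 ∣ 2 ^ a :=
      (Nat.Coprime.dvd_of_dvd_mul_right (Nat.Coprime.pow 2 b (by norm_num)) h1)
    exact (Nat.pow_dvd_pow_iff_le_right (by norm_num)).1 h2
  have hntG : Nontrivial G := ⟨x₀, 1, fun e => by rw [e, orderOf_one] at hx₀; omega⟩
  obtain ⟨N₀, hN₀n, hN₀ne, hN₀ab⟩ := exists_abelian_normal hsolG
  by_cases h2N : ∃ t ∈ N₀, t ≠ 1 ∧ t ^ 2 = 1
  · -- a normal 2-subgroup
    obtain ⟨t₁, ht₁N, ht₁1, ht₁2⟩ := h2N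
    let V : Subgroup G :=
      { carrier := {v | v ∈ N₀ ∧ v ^ 2 = 1}
        one_mem' := ⟨N₀.one_mem, one_pow 2⟩
        mul_mem' := fun {u v} hu hv => ⟨N₀.mul_mem hu.1 hv.1, by
          rw [(show Commute u v from hN₀ab u hu.1 v hv.1).mul_pow, hu.2, hv.2, one_mul]⟩
        inv_mem' := fun {u} hu => ⟨N₀.inv_mem hu.1, by rw [inv_pow, hu.2, inv_one]⟩ }
    have hVn : V.Normal := ⟨fun v hv g => ⟨hN₀n.conj_mem v hv.1 g, by
      rw [conj_pow, hv.2, mul_one, mul_inv_cancel]⟩⟩
    have hVc : IsMulCommutative V := ⟨⟨fun u v => Subtype.ext (hN₀ab u u.2.1 v v.2.1)⟩⟩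
    have hfix : ∀ z : G, z ≠ 1 → z ^ 3 = 1 → ∀ u ∈ V, z * u * z⁻¹ = u → u = 1 := by
      intro z hz1 hz3 u hu he
      by_contra hu1
      exact hz1 (no_twelve h4' (show Commute u z from (mul_inv_eq_iff_eq_mul.1 he).symm)
        (by rw [show 4 = 2 * 2 from rfl, pow_mul, hu.2, one_pow]) hz3 hu1)
    have hb : b = 1 := by
      by_contra hb1
      have hPnt : Nontrivial (P : Subgroup G) := Finite.one_lt_card_iff_nontrivial.1
        (by rw [hcP]; exact Nat.one_lt_pow hb0 (by norm_num))
      have hzne := P.2.center_nontrivial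
      obtain ⟨z, hz⟩ := exists_ne (1 : Subgroup.center (P : Subgroup G))
      obtain ⟨y, hy⟩ : ∃ y : (P : Subgroup G), y ∉ Subgroup.zpowers (z : (P : Subgroup G)) := by
        by_contra hcon
        push Not at hcon
        have h1 : Subgroup.zpowers (z : (P : Subgroup G)) = ⊤ := eq_top_iff.2 fun y _ => hcon y
        have h2 := Nat.card_zpowers (z : (P : Subgroup G))
        rw [h1, Subgroup.card_top, hcP] at h2
        have h3 := h4' ((z : (P : Subgroup G)) : G)
        rw [Subgroup.orderOf_coe, ← h2] at h3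
        have := Nat.pow_le_pow_right (show 0 < 3 by norm_num) (show 2 ≤ b by omega)
        omega
      have hzy : Commute ((z : (P : Subgroup G)) : G) (y : G) :=
        (congrArg Subtype.val (Subgroup.mem_center_iff.1 z.2 y)).symm
      have hne : ∀ i : ℕ, ((z : (P : Subgroup G)) : G) ^ i * y ≠ 1 := fun i e => hy (by
        have h1 : y = ((z : (P : Subgroup G)) ^ i)⁻¹ :=
          eq_inv_of_mul_eq_one_right (Subtype.ext (by simpa using e))
        rw [h1]; exact inv_mem (pow_mem (Subgroup.mem_zpowers _) i))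
      have hz1 : ((z : (P : Subgroup G)) : G) ≠ 1 := fun e => hz (Subtype.ext (Subtype.ext e))
      have hVbot : V = ⊥ := by
        refine no_free_nine (fun u hu => hu.2) hzy (hP3 _ (z : (P : Subgroup G)).2) (hP3 _ y.2)
          (fun u hu => hVn.conj_mem u hu _) (fun u hu => hVn.conj_mem u hu _) ?_
        rintro w (rfl | rfl | rfl | rfl)
        · exact hfix _ hz1 (hP3 _ (z : (P : Subgroup G)).2)
        · exact hfix _ (by simpa using hne 0) (hP3 _ y.2)
        · exact hfix _ (by simpa using hne 1)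
            (hP3 _ ((P : Subgroup G).mul_mem (z : (P : Subgroup G)).2 y.2))
        · exact hfix _ (by simpa [sq, mul_assoc] using hne 2) (hP3 _ ((P : Subgroup G).mul_mem
            ((P : Subgroup G).mul_mem (z : (P : Subgroup G)).2 (z : (P : Subgroup G)).2) y.2))
      have : t₁ ∈ V := ⟨ht₁N, ht₁2⟩
      rw [hVbot, Subgroup.mem_bot] at this
      exact ht₁1 this
    subst hb
    rw [pow_one] at hcP hSidx
    obtain ⟨x', hx'⟩ := exists_prime_orderOf_dvd_card' (G := (P : Subgroup G)) 3 (by rw [hcP])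
    set x : G := (x' : G) with hxdef
    have hxo : orderOf x = 3 := by rw [hxdef, Subgroup.orderOf_coe]; exact hx'
    have hx3 : x ^ 3 = 1 := by rw [← hxo]; exact pow_orderOf_eq_one x
    have hx1 : x ≠ 1 := fun e => by rw [e, orderOf_one] at hxo; omega
    -- conjugation by `x` on a normal 2-subgroup
    have hmkφ : ∀ (T : Subgroup G), T.Normal → IsPGroup 2 T → ∃ φ : T →* T,
        (∀ t : T, (φ t : G) = x * t * x⁻¹) ∧ ∀ t : T, t * φ t * φ (φ t) = 1 := by
      intro T hT hT2
      let φ : T →* T := MonoidHom.mk' (fun t => ⟨x * t * x⁻¹, hT.conj_mem t t.2 x⟩)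
        (fun s t => Subtype.ext (by simp [mul_assoc]))
      refine ⟨φ, fun t => rfl, norm_eq_one_of_fpf φ (fun t => Subtype.ext ?_) fun t ht => ?_⟩
      · calc x * (x * (x * (t : G) * x⁻¹) * x⁻¹) * x⁻¹ = x ^ 3 * (t : G) * (x ^ 3)⁻¹ := by
              simp [pow_succ, mul_assoc]
          _ = t := by rw [hx3]; simp
      · by_contra ht1
        obtain ⟨k, hk⟩ := IsPGroup.iff_orderOf.1 hT2 t
        rw [← Subgroup.orderOf_coe] at hk
        refine hx1 (no_twelve h4' (show Commute (t : G) x from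
          (mul_inv_eq_iff_eq_mul.1 (congrArg Subtype.val ht)).symm) ?_ hx3
          fun e => ht1 (Subtype.ext e))
        simpa using pgroup_exponent h4' Nat.prime_two 2 (by norm_num) hT2 t.2
    have hdvd3 : Nat.card (Sylow 2 G) ∣ 3 := hSidx ▸ S.card_dvd_index
    rcases (Nat.dvd_prime Nat.prime_three).1 hdvd3 with h1 | h3
    · -- normal Sylow 2-subgroup
      have hsub : Subsingleton (Sylow 2 G) := (Nat.card_eq_one_iff_unique.1 h1).1
      have hSn : (S : Subgroup G).Normal := S.normal_of_subsingleton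
      obtain ⟨φ, -, hrel⟩ := hmkφ _ hSn S.2
      refine ⟨(S : Subgroup G), hSn, Or.inl ⟨S.2, ?_,
        Lib.Fg6.OrderThreeAut.nilpotencyClass_le_two S.2 φ hrel, hSidx⟩⟩
      refine Nat.dvd_antisymm (Monoid.exponent_dvd_of_forall_pow_eq_one fun u =>
        Subtype.ext (by simpa using hS4 u u.2)) ?_
      obtain ⟨S', hS'⟩ := (IsPGroup.of_card (p := 2) (n := 2)
        (show Nat.card (Subgroup.zpowers g₄) = 2 ^ 2 by
          rw [Nat.card_zpowers, hg₄]; rfl)).exists_le_sylow
      rw [Subsingleton.elim S' S] at hS'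
      have h5 := Monoid.order_dvd_exponent
        (⟨g₄, hS' (Subgroup.mem_zpowers g₄)⟩ : (S : Subgroup G))
      rwa [Subgroup.orderOf_mk, hg₄] at h5
    · -- three Sylow 2-subgroups
      have := Fintype.ofFinite (Sylow 2 G)
      let f : G →* Equiv.Perm (Sylow 2 G) := MulAction.toPermHom G (Sylow 2 G)
      let T : Subgroup G := f.ker
      have hSN : Subgroup.normalizer ((S : Subgroup G) : Set G) = S := by
        refine (Subgroup.eq_of_le_of_card_ge Subgroup.le_normalizer ?_).symm
        have e1 := (Subgroup.normalizer ((S : Subgroup G) : Set G)).index_mul_card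
        have e2 := (S : Subgroup G).index_mul_card
        have e0 : (Subgroup.normalizer ((S : Subgroup G) : Set G)).index = 3 :=
          S.card_eq_index_normalizer.symm.trans h3
        rw [e0] at e1
        rw [hSidx] at e2
        omega
      have hTS : T ≤ (S : Subgroup G) := fun u hu => by
        rw [← hSN]
        exact Sylow.smul_eq_iff_mem_normalizer.1
          (DFunLike.congr_fun (MonoidHom.mem_ker.1 hu) S : u • S = S)
      have hT2 : IsPGroup 2 T := S.2.to_le hTS
      have hidxT : T.index = 6 := by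
        have e1 : 3 ∣ T.index := hSidx ▸ Subgroup.index_dvd_of_le hTS
        have e2 : T.index ∣ 6 := by
          rw [Subgroup.index_ker]
          refine (Subgroup.card_subgroup_dvd_card _).trans ?_
          rw [Nat.card_eq_fintype_card, Fintype.card_perm, ← Nat.card_eq_fintype_card, h3]
          rfl
        have e3 : T.index ≠ 3 := fun e => by
          have hTS' : T = S := Subgroup.eq_of_le_of_card_ge hTS (by
            have e4 := T.index_mul_card
            have e5 := (S : Subgroup G).index_mul_card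
            rw [e] at e4
            rw [hSidx] at e5
            omega)
          have hSn : (S : Subgroup G).Normal := hTS' ▸ (inferInstance : f.ker.Normal)
          have h6 : Nat.card (Sylow 2 G) = (Subgroup.normalizer ((S : Subgroup G) : Set G)).index :=
            S.card_eq_index_normalizer
          rw [Subgroup.normalizer_eq_top, Subgroup.index_top, h3] at h6
          omega
        have e4 := Nat.le_of_dvd (by norm_num) e2
        have e5 : 0 < T.index := Nat.pos_of_ne_zero Subgroup.index_ne_zero_of_finite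
        obtain ⟨k, hk⟩ := e1
        omega
      have hfsurj : Function.Surjective f := by
        rw [← MonoidHom.range_eq_top]
        refine Subgroup.eq_top_of_card_eq _ ?_
        rw [← Subgroup.index_ker, hidxT, Nat.card_eq_fintype_card (α := Equiv.Perm _),
          Fintype.card_perm, ← Nat.card_eq_fintype_card, h3]
        rfl
      -- the index two subgroup
      let M : Subgroup G := ((Equiv.Perm.sign).comp f).ker
      have hsign3 : ∀ g : G, g ^ 3 = 1 → g ∈ M := fun g hg => by
        have e : ((Equiv.Perm.sign).comp f g) ^ 3 = 1 := by rw [← map_pow, hg, map_one]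
        rcases Int.units_eq_one_or ((Equiv.Perm.sign).comp f g) with e1 | e1
        · exact MonoidHom.mem_ker.2 e1
        · rw [e1] at e; exact absurd e (by decide)
      have hTM : T ≤ M := fun u hu => MonoidHom.mem_ker.2 (by
        rw [MonoidHom.comp_apply, MonoidHom.mem_ker.1 hu, map_one])
      have hPM : (P : Subgroup G) ≤ M := fun u hu => hsign3 u (hP3 u hu)
      have hMne : M ≠ ⊤ := by
        intro e
        obtain ⟨i, j, hij⟩ := (Fintype.one_lt_card_iff (α := Sylow 2 G)).1
          (by rw [← Nat.card_eq_fintype_card, h3]; norm_num)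
        obtain ⟨g, hg⟩ := hfsurj (Equiv.swap i j)
        have h6 : (Equiv.Perm.sign).comp f g = 1 :=
          MonoidHom.mem_ker.1 (show g ∈ M from e ▸ Subgroup.mem_top g)
        rw [MonoidHom.comp_apply, hg, Equiv.Perm.sign_swap hij] at h6
        exact absurd h6 (by decide)
      obtain ⟨y, hyN, hyM⟩ : ∃ y ∈ Subgroup.normalizer ((P : Subgroup G) : Set G), y ∉ M := by
        by_contra hcon
        push Not at hcon
        refine hMne (top_le_iff.1 ?_)
        rw [← P.normalizer_sup_eq_top' hPM]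
        exact sup_le hcon le_rfl
      have hy4 : y ^ 4 = 1 := (hpow y).resolve_right fun e => hyM (hsign3 y e)
      have hPx : ∀ u ∈ (P : Subgroup G), u ∈ Subgroup.zpowers x := by
        intro u hu
        have e : Subgroup.zpowers x = (P : Subgroup G) :=
          Subgroup.eq_of_le_of_card_ge (Subgroup.zpowers_le.2 x'.2) (by
            rw [Nat.card_zpowers, hxo, hcP])
        rw [e]; exact hu
      have hconj : y * x * y⁻¹ = x * x := by
        have h6 : y * x * y⁻¹ ∈ (P : Subgroup G) :=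
          (Subgroup.mem_normalizer_iff.1 hyN x).1 x'.2
        obtain ⟨i, hi⟩ := Submonoid.mem_powers_iff _ _ |>.1
          (mem_powers_iff_mem_zpowers.2 (hPx _ h6))
        rw [← pow_mod_orderOf, hxo] at hi
        have hi3 := Nat.mod_lt i (show 3 > 0 by norm_num)
        rcases (show i % 3 = 0 ∨ i % 3 = 1 ∨ i % 3 = 2 by omega) with e | e | e <;> rw [e] at hi
        · rw [pow_zero, eq_comm, mul_inv_eq_one, mul_eq_left] at hi
          exact absurd hi hx1
        · rw [pow_one] at hi
          have hy1 : y ≠ 1 := fun e => hyM (e ▸ M.one_mem)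
          exact absurd (no_twelve h4' (show Commute y x from mul_inv_eq_iff_eq_mul.1 hi.symm)
            hy4 hx3 hy1) hx1
        · rw [← sq]; exact hi.symm
      have hy2 : y * y = 1 := by
        by_contra hne
        refine hx1 (no_twelve h4' (a := y * y) ?_ ?_ hx3 hne)
        · show y * y * x = x * (y * y)
          calc y * y * x = y * (y * x * y⁻¹) * y⁻¹ * (y * y) := by group
            _ = y * (x * x) * y⁻¹ * (y * y) := by rw [hconj]
            _ = (y * x * y⁻¹) * (y * x * y⁻¹) * (y * y) := by group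
            _ = x ^ 3 * (x * (y * y)) := by rw [hconj]; simp [pow_succ, mul_assoc]
            _ = x * (y * y) := by rw [hx3, one_mul]
        · rw [← sq, ← pow_mul, show 2 * 4 = 4 * 2 from rfl, pow_mul, hy4, one_pow]
      have hyy : y⁻¹ = y := inv_eq_of_mul_eq_one_right hy2
      obtain ⟨φ, hφ, hrel⟩ := hmkφ T inferInstance hT2
      let σ : T →* T := MonoidHom.mk'
        (fun t => ⟨y * t * y⁻¹, (inferInstance : f.ker.Normal).conj_mem t t.2 y⟩)
        (fun s t => Subtype.ext (by simp [mul_assoc]))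
      have hT4 : ∀ t : T, t ^ 4 = 1 := fun t => Subtype.ext (by
        simpa using pgroup_exponent h4' Nat.prime_two 2 (by norm_num) hT2 t.2)
      obtain ⟨hcomm, hexp⟩ := Lib.Fg6.OrderThreeAut.elementary_of_symmetric hT2 φ σ hrel
        (fun t => Subtype.ext (by
          show y * (y * t * y⁻¹) * y⁻¹ = t
          simp [hyy, mul_assoc, ← mul_assoc y y, hy2]))
        (fun t => Subtype.ext (by
          show y * (φ t : G) * y⁻¹ = _
          rw [hφ, hφ, hφ]
          show y * (x * t * x⁻¹) * y⁻¹ = x * (x * (y * t * y⁻¹) * x⁻¹) * x⁻¹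
          rw [show y * (x * (t : G) * x⁻¹) * y⁻¹ =
            (y * x * y⁻¹) * (y * t * y⁻¹) * (y * x * y⁻¹)⁻¹ by group, hconj]
          group))
        (fun t => Subtype.ext (by
          show ((t : G) * (y * t * y⁻¹)) ^ 2 = 1
          have e : (t : G) * (y * t * y⁻¹) = ((t : G) * y) ^ 2 := by
            rw [sq, hyy]; simp [mul_assoc]
          rw [e, ← pow_mul]
          refine (hpow _).resolve_right fun e3 => hyM ?_
          have h6 := M.mul_mem (M.inv_mem (hTM t.2)) (hsign3 _ e3)
          rwa [inv_mul_cancel_left] at h6))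
        hT4
      refine ⟨T, inferInstance, Or.inr (Or.inl ⟨⟨⟨⟨hcomm⟩⟩, fun u hu => ?_⟩, ?_⟩)⟩
      · exact congrArg Subtype.val (hexp ⟨u, hu⟩)
      · exact ⟨(QuotientGroup.quotientKerEquivOfSurjective f hfsurj).trans
          (Equiv.permCongrHom (Finite.equivFinOfCardEq h3))⟩
  · -- a normal 3-subgroup
    push Not at h2N
    have hN3 : ∀ u ∈ N₀, u ^ 3 = 1 := fun u hu => (hpow u).elim (fun e => by
      have e2 : u ^ 2 = 1 := by
        by_contra hne
        exact h2N (u ^ 2) (N₀.pow_mem hu 2) hne (by rw [← pow_mul]; exact e)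
      have : u = 1 := by by_contra hu1; exact h2N u hu hu1 e2
      rw [this, one_pow]) id
    obtain ⟨n, hnN, hn1⟩ : ∃ n ∈ N₀, n ≠ 1 := by
      obtain ⟨n, hn⟩ := Subgroup.ne_bot_iff_exists_ne_one.1 hN₀ne
      exact ⟨n, n.2, by simpa using hn⟩
    have hfixN : ∀ s : G, s ≠ 1 → s ^ 2 = 1 → ∀ u : G, u ^ 3 = 1 → Commute s u → u = 1 :=
      fun s hs1 hs2 u hu hsu =>
        no_twelve h4' hsu (by rw [show 4 = 2 * 2 from rfl, pow_mul, hs2, one_pow]) hu hs1
    have hinvN : ∀ s : G, s ≠ 1 → s ^ 2 = 1 → s * n * s⁻¹ = n⁻¹ := fun s hs1 hs2 =>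
      (inverts_of_noFixed hs2 (fun u hu => hN₀n.conj_mem u hu s) fun u hu he =>
        hfixN s hs1 hs2 u (hN3 u hu) (mul_inv_eq_iff_eq_mul.1 he)).1 n hnN
    have huniq : ∀ u v : (S : Subgroup G), orderOf u = 2 → orderOf v = 2 → v = u := by
      intro u v hu hv
      have hu2 : (u : G) ^ 2 = 1 := orderOf_dvd_iff_pow_eq_one.1 (by rw [Subgroup.orderOf_coe, hu])
      have hv2 : (v : G) ^ 2 = 1 := orderOf_dvd_iff_pow_eq_one.1 (by rw [Subgroup.orderOf_coe, hv])
      have hu1 : (u : G) ≠ 1 := fun e => by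
        rw [← Subgroup.orderOf_coe, e, orderOf_one] at hu; omega
      have hv1 : (v : G) ≠ 1 := fun e => by
        rw [← Subgroup.orderOf_coe, e, orderOf_one] at hv; omega
      by_contra hne
      have huv : (u : G) * v ≠ 1 := fun e => hne (Subtype.ext (by
        rw [eq_inv_of_mul_eq_one_right e]
        exact inv_eq_of_mul_eq_one_right (by rw [← sq]; exact hu2)))
      have h1 : ((u : G) * v) * n * ((u : G) * v)⁻¹ = n := by
        calc ((u : G) * v) * n * ((u : G) * v)⁻¹ = u * (v * n * (v : G)⁻¹) * (u : G)⁻¹ := by group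
          _ = u * n⁻¹ * (u : G)⁻¹ := by rw [hinvN v hv1 hv2]
          _ = (u * n * (u : G)⁻¹)⁻¹ := by group
          _ = n := by rw [hinvN u hu1 hu2, inv_inv]
      exact hn1 (no_twelve h4' (show Commute ((u : G) * v) n from mul_inv_eq_iff_eq_mul.1 h1)
        (hS4 _ ((S : Subgroup G).mul_mem u.2 v.2)) (hN3 n hnN) huv)
    -- the maximal normal 3-subgroup
    obtain ⟨M, -, ⟨hMn, hM3⟩, hMmax⟩ :=
      (Set.toFinite {K : Subgroup G | K.Normal ∧ IsPGroup 3 K}).exists_le_maximal (a := ⊥)
        ⟨inferInstance, IsPGroup.of_bot⟩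
    have hSM : ∀ u ∈ (S : Subgroup G), u ∈ M → u = 1 := by
      intro u hu huM
      exact Subgroup.disjoint_def.1 (IsPGroup.disjoint_of_ne 2 3 (by norm_num) _ _ S.2 hM3) hu huM
    have hidx : ¬ 3 ∣ M.index := by
      intro h3
      have hnt : Nontrivial (G ⧸ M) := Finite.one_lt_card_iff_nontrivial.1
        (lt_of_lt_of_le (by norm_num)
          (Nat.le_of_dvd Nat.card_pos (h3 : 3 ∣ Nat.card (G ⧸ M))))
      obtain ⟨A, hAn, hAne, hAab⟩ := exists_abelian_normal
        (G := G ⧸ M) (Group.isSolvable_of_surjective (QuotientGroup.mk'_surjective M))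
      by_cases h3A : ∃ w ∈ A, w ≠ 1 ∧ w ^ 3 = 1
      · obtain ⟨w, hwA, hw1, hw3⟩ := h3A
        let W : Subgroup (G ⧸ M) :=
          { carrier := {v | v ∈ A ∧ v ^ 3 = 1}
            one_mem' := ⟨A.one_mem, one_pow 3⟩
            mul_mem' := fun {u v} hu hv => ⟨A.mul_mem hu.1 hv.1, by
              rw [(show Commute u v from hAab u hu.1 v hv.1).mul_pow, hu.2, hv.2, one_mul]⟩
            inv_mem' := fun {u} hu => ⟨A.inv_mem hu.1, by rw [inv_pow, hu.2, inv_one]⟩ }
        have hWn : W.Normal := ⟨fun v hv g => ⟨hAn.conj_mem v hv.1 g, by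
          rw [conj_pow, hv.2, mul_one, mul_inv_cancel]⟩⟩
        have hK3 : IsPGroup 3 (W.comap (QuotientGroup.mk' M)) := fun u => by
          have h6 : (u : G) ^ 3 ∈ M :=
            (QuotientGroup.eq_one_iff _).1 ((map_pow (QuotientGroup.mk' M) (u : G) 3).trans u.2.2)
          obtain ⟨k, hk⟩ := hM3 ⟨_, h6⟩
          exact ⟨k + 1, Subtype.ext (by
            rw [pow_succ', pow_mul]
            simpa using congrArg Subtype.val hk)⟩
        obtain ⟨g, rfl⟩ := QuotientGroup.mk'_surjective M w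
        have h6 := hMmax ⟨hWn.comap _, hK3⟩ (fun m hm => by
          show QuotientGroup.mk' M m ∈ W
          rw [show QuotientGroup.mk' M m = 1 from (QuotientGroup.eq_one_iff m).2 hm]
          exact W.one_mem)
        exact hw1 ((QuotientGroup.eq_one_iff g).2 (h6 (show g ∈ W.comap _ from ⟨hwA, hw3⟩)))
      · push Not at h3A
        obtain ⟨τ, hτA, hτ1, hτ2⟩ : ∃ τ ∈ A, τ ≠ 1 ∧ τ ^ 2 = 1 := by
          obtain ⟨w, hw⟩ := Subgroup.ne_bot_iff_exists_ne_one.1 hAne
          obtain ⟨g, hg⟩ := QuotientGroup.mk'_surjective M (w : G ⧸ M)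
          have hw' : (w : G ⧸ M) ≠ 1 := fun e => hw (Subtype.ext e)
          have hg4 : g ^ 4 = 1 := (hpow g).resolve_right fun e =>
            h3A _ w.2 hw' (by rw [← hg, ← map_pow, e, map_one])
          by_cases hw2 : (w : G ⧸ M) ^ 2 = 1
          · exact ⟨w, w.2, hw', hw2⟩
          · exact ⟨(w : G ⧸ M) ^ 2, A.pow_mem w.2 2, hw2, by
              rw [← pow_mul, ← hg, ← map_pow, hg4, map_one]⟩
        let W : Subgroup (G ⧸ M) :=
          { carrier := {v | v ∈ A ∧ v ^ 2 = 1}
            one_mem' := ⟨A.one_mem, one_pow 2⟩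
            mul_mem' := fun {u v} hu hv => ⟨A.mul_mem hu.1 hv.1, by
              rw [(show Commute u v from hAab u hu.1 v hv.1).mul_pow, hu.2, hv.2, one_mul]⟩
            inv_mem' := fun {u} hu => ⟨A.inv_mem hu.1, by rw [inv_pow, hu.2, inv_one]⟩ }
        have hWn : W.Normal := ⟨fun v hv g => ⟨hAn.conj_mem v hv.1 g, by
          rw [conj_pow, hv.2, mul_one, mul_inv_cancel]⟩⟩
        have hW2 : IsPGroup 2 W := fun v => ⟨1, Subtype.ext (by simpa using v.2.2)⟩
        let Sb : Sylow 2 (G ⧸ M) := S.mapSurjective (QuotientGroup.mk'_surjective M)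
        have hWS : W ≤ (Sb : Subgroup (G ⧸ M)) := by
          obtain ⟨S', hS'⟩ := hW2.exists_le_sylow
          obtain ⟨g, hg⟩ := MulAction.exists_smul_eq (G ⧸ M) S' Sb
          intro v hv
          rw [← hg, Sylow.coe_subgroup_smul, Subgroup.mem_pointwise_smul_iff_inv_smul_mem]
          exact hS' (by simpa using hWn.conj_mem v hv g⁻¹)
        have hlift : ∀ v ∈ W, v ≠ 1 → ∃ s : (S : Subgroup G), orderOf s = 2 ∧
            QuotientGroup.mk' M (s : G) = v := by
          intro v hv hv1
          obtain ⟨s, hs, hsv⟩ : ∃ s ∈ (S : Subgroup G), QuotientGroup.mk' M s = v := hWS hv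
          refine ⟨⟨s, hs⟩, orderOf_eq_prime (Subtype.ext ?_) fun e => hv1 ?_, hsv⟩
          · refine hSM _ ((S : Subgroup G).pow_mem hs 2) ((QuotientGroup.eq_one_iff _).1 ?_)
            rw [← QuotientGroup.mk'_apply, Subgroup.coe_pow, map_pow, hsv]
            exact hv.2
          · rw [← hsv, show s = 1 from congrArg Subtype.val e, map_one]
        obtain ⟨s, hso, hsτ⟩ := hlift τ ⟨hτA, hτ2⟩ hτ1
        have hcentral : ∀ g : G ⧸ M, Commute τ g := by
          intro g
          obtain ⟨s', hs'o, hs'τ⟩ := hlift (g * τ * g⁻¹) (hWn.conj_mem τ ⟨hτA, hτ2⟩ g)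
            (fun e => hτ1 (conj_eq_one_iff.1 e))
          rw [huniq s s' hso hs'o, hsτ] at hs'τ
          exact (mul_inv_eq_iff_eq_mul.1 hs'τ.symm).symm
        obtain ⟨z, hz⟩ := exists_prime_orderOf_dvd_card' (G := G ⧸ M) 3 h3
        have hτo : orderOf τ = 2 := orderOf_eq_prime hτ2 hτ1
        obtain ⟨g, hg⟩ := QuotientGroup.mk'_surjective M (τ * z)
        have h6 := orderOf_map_dvd (QuotientGroup.mk' M) g
        rw [hg, (hcentral z).orderOf_mul_eq_mul_orderOf_of_coprime
          (by rw [hτo, hz]; norm_num), hτo, hz] at h6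
        have := Nat.le_of_dvd (orderOf_pos g) h6
        have := h4' g
        omega
    -- the quotient is the Sylow 2-subgroup
    have hMidx : M.index = 2 ^ a := by
      obtain ⟨k, hk⟩ := hM3.exists_card_eq
      have h1 := M.index_mul_card
      rw [hk, ← hc, hab] at h1
      have hcop : Nat.Coprime M.index (3 ^ b) :=
        Nat.Coprime.pow_right _ ((Nat.Prime.coprime_iff_not_dvd Nat.prime_three).2 hidx).symm
      refine Nat.dvd_antisymm (hcop.dvd_of_dvd_mul_right ⟨3 ^ k, h1.symm⟩) ?_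
      exact (Nat.Coprime.pow a k (by norm_num) : Nat.Coprime (2 ^ a) (3 ^ k)).dvd_of_dvd_mul_right
        ⟨3 ^ b, by rw [h1]⟩
    have hM3' : ∀ u ∈ M, u ^ 3 = 1 := fun u hu => by
      simpa using pgroup_exponent h4' Nat.prime_three 1 (by norm_num) hM3 hu
    have hgt : orderOf (g₄ ^ 2) = 2 := by
      rw [orderOf_pow_of_dvd (by norm_num) (by rw [hg₄]; norm_num), hg₄]
    have hMab : IsMulCommutative M :=
      (inverts_of_noFixed (y := g₄ ^ 2)
        (orderOf_dvd_iff_pow_eq_one.1 (dvd_of_eq hgt)) (fun u hu => hMn.conj_mem u hu _)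
        fun u hu he => hfixN _ (fun e => by rw [e, orderOf_one] at hgt; omega)
          (orderOf_dvd_iff_pow_eq_one.1 (dvd_of_eq hgt)) u (hM3' u hu)
          (mul_inv_eq_iff_eq_mul.1 he)).2
    let eS : (S : Subgroup G) →* G ⧸ M := (QuotientGroup.mk' M).comp (S : Subgroup G).subtype
    have heS : Function.Bijective eS := by
      refine (Nat.bijective_iff_injective_and_card eS).2 ⟨?_, ?_⟩
      · rw [← MonoidHom.ker_eq_bot_iff, Subgroup.eq_bot_iff_forall]
        exact fun u hu => Subtype.ext (hSM u u.2 ((QuotientGroup.eq_one_iff _).1 hu))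
      · rw [hcS]; exact hMidx.symm
    refine ⟨M, hMn, Or.inr (Or.inr ⟨⟨hMab, hM3'⟩, ?_⟩)⟩
    have hord : ∀ u : (S : Subgroup G), orderOf u ∣ 4 := fun u => by
      rw [← Subgroup.orderOf_coe]; exact orderOf_dvd_of_pow_eq_one (hS4 u u.2)
    rcases Lib.PGroups.isCyclic_or_quaternion S.2
      (fun u v hu hv => by rw [huniq u v hu hv]; exact Subgroup.mem_zpowers u) with
      hcyc | ⟨-, k, hk, ⟨e⟩⟩
    · refine Or.inl ⟨isCyclic_of_surjective eS heS.2, ?_⟩
      obtain ⟨g, hg⟩ := hcyc.exists_generator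
      have h1 := hord g
      rw [orderOf_eq_card_of_forall_mem_zpowers hg, hcS] at h1
      rw [hMidx]
      refine Nat.dvd_antisymm h1 ?_
      exact (show (4 : ℕ) = 2 ^ 2 from rfl) ▸ pow_dvd_pow 2 ha4
    · refine Or.inr ?_
      have hk1 : k = 1 := by
        have h1 := hord (e.symm (QuaternionGroup.a 1))
        rw [MulEquiv.orderOf_eq, QuaternionGroup.orderOf_a_one] at h1
        have := Nat.le_of_dvd (by norm_num) h1
        by_contra hk1
        have := Nat.pow_le_pow_right (show 0 < 2 by norm_num) (show 2 ≤ k by omega)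
        omega
      subst hk1
      exact ⟨(MulEquiv.ofBijective eS heS).symm.trans e⟩

end Cfsg.Agent.S4006
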