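import Cfsg.Statements.S4010
import Cfsg.Agent.Lib.Fg6.LinearDerived
import Mathlib.FieldTheory.IsAlgClosed.AlgebraicClosure
import Mathlib.LinearAlgebra.Matrix.ToLin
import Mathlib.LinearAlgebra.Matrix.GeneralLinearGroup.Defs

set_option autoImplicit false
open Cfsg

namespace Cfsg.Agent.S4010

/-- Let F be a field, n ≥ 1, and P a finite p-group (p a prime) admitting an injective homomorphism into the general linear group of degree n over F. Then the derived length of P is at most ⌊log₂ n⌋ + 1: that term of the derived series of P is trivial. -/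
theorem result {P : Type*} [Group P] [Finite P] (p : ℕ) [Fact p.Prime] (hP : IsPGroup p P) (F : Type*) [Field F] (n : ℕ) (hn : 1 ≤ n) (ρ : P →* Matrix.GeneralLinearGroup (Fin n) F) (hρ : Function.Injective ρ) : derivedSeries P (Nat.log 2 n + 1) = ⊥ := by
  let ρ' : P →* Module.End (AlgebraicClosure F) (Fin n → AlgebraicClosure F) :=
    ((Matrix.toLinAlgEquiv' : Matrix (Fin n) (Fin n) (AlgebraicClosure F) ≃ₐ[AlgebraicClosure F]
        Module.End (AlgebraicClosure F) (Fin n → AlgebraicClosure F)) : _ →* _).comp
      (((algebraMap F (AlgebraicClosure F)).mapMatrix : Matrix (Fin n) (Fin n) F →+* _).toMonoidHom.comp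
        ((Units.coeHom _).comp ρ))
  have hinj : Function.Injective ρ' := fun a b hab => hρ (Units.ext
    (Matrix.map_injective (algebraMap F (AlgebraicClosure F)).injective
      (Matrix.toLinAlgEquiv'.injective hab)))
  have hn' : Module.finrank (AlgebraicClosure F) (Fin n → AlgebraicClosure F) = n :=
    Module.finrank_fin_fun _
  rw [Subgroup.eq_bot_iff_forall]
  intro g hg
  refine hinj (Eq.trans ?_ (map_one ρ').symm)
  by_cases hp0 : (p : AlgebraicClosure F) = 0
  · refine Lib.Fg6.LinearDerived.derived_modular hp0 n P hP _ hn' ρ' g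
      (derivedSeries_antitone P ?_ hg)
    exact Nat.clog_le_of_le_pow (Nat.lt_pow_succ_log_self (by norm_num) n).le
  · exact Lib.Fg6.LinearDerived.derived_ordinary hp0 n P hP _ hn' ρ' g hg

end Cfsg.Agent.S4010
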