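import Cfsg.Statements.S4013
import Mathlib.GroupTheory.PGroup
import Mathlib.GroupTheory.GroupAction.ConjAct
import Mathlib.Data.Set.Card

set_option autoImplicit false
open Cfsg

namespace Cfsg.Agent.S4013

/-- Let G be a finite p-group (p prime) and N < M normal subgroups of G such that for some g ∈ M ∖ N the conjugacy class of g is exactly M ∖ N. Then p = 2 and N has index 2 in M. -/
theorem result {G : Type*} [Group G] [Finite G] (p : ℕ) [Fact p.Prime] (hG : IsPGroup p G) (N M : Subgroup G) [N.Normal] [M.Normal] (hNM : N < M) (g : G) (hgM : g ∈ M) (hgN : g ∉ N) (hcl : {h : G | IsConj g h} = (M : Set G) \ (N : Set G)) : p = 2 ∧ N.relIndex M = 2 := by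
  classical
  have hcard : Nat.card {h : G | IsConj g h} = (Subgroup.centralizer ({g} : Set G)).index := by
    have e : {h : G | IsConj g h} = MulAction.orbit (ConjAct G) g := by
      ext h
      rw [Set.mem_ofPred_eq, ConjAct.mem_orbit_conjAct, isConj_comm]
    rw [e, Nat.card_coe_set_eq, ← MulAction.index_stabilizer, ConjAct.stabilizer_eq_centralizer]
    rfl
  have hp := (Fact.out : p.Prime)
  obtain ⟨k, hk⟩ := hG.index (Subgroup.centralizer ({g} : Set G))
  have hdiff : Nat.card ((M : Set G) \ (N : Set G) : Set G) + Nat.card N = Nat.card M := by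
    rw [Nat.card_coe_set_eq, show Nat.card N = (N : Set G).ncard from Nat.card_coe_set_eq _,
      show Nat.card M = (M : Set G).ncard from Nat.card_coe_set_eq _]
    exact Set.ncard_sdiff_add_ncard_of_subset hNM.le
  rw [← hcl, hcard, hk] at hdiff
  have hrel : Nat.card N * N.relIndex M = Nat.card M := by
    rw [← Nat.card_congr (Subgroup.subgroupOfEquivOfLe hNM.le).toEquiv]
    exact Subgroup.card_mul_index _
  obtain ⟨a, ha⟩ := (hG.to_subgroup M).index (N.subgroupOf M)
  change N.relIndex M = p ^ a at ha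
  have h1 : N.relIndex M ≠ 1 := fun h => hgN (Subgroup.relIndex_eq_one.1 h hgM)
  obtain ⟨b, hb⟩ := (hG.to_subgroup N).exists_card_eq
  have hN0 : 0 < Nat.card N := Nat.card_pos
  have key : Nat.card N * (p ^ a - 1) = p ^ k := by
    rw [Nat.mul_sub, mul_one, ← ha, hrel]; omega
  obtain ⟨c, -, hc⟩ := (Nat.dvd_prime_pow hp).1 ⟨Nat.card N, by rw [← key, mul_comm]⟩
  have ha0 : a ≠ 0 := by rintro rfl; exact h1 (by simpa using ha)
  have hc0 : c = 0 := by
    by_contra h
    have h2 : p ∣ p ^ a - 1 := hc ▸ dvd_pow_self p h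
    have h3 : p ∣ p ^ a := dvd_pow_self p ha0
    have h4 := Nat.dvd_sub h3 h2
    have : 1 ≤ p ^ a := Nat.one_le_pow _ _ hp.pos
    rw [show p ^ a - (p ^ a - 1) = 1 by omega] at h4
    exact hp.not_dvd_one h4
  rw [hc0, pow_zero] at hc
  have h2 : p ^ a = 2 := by omega
  refine ⟨?_, ha.trans h2⟩
  exact (Nat.prime_dvd_prime_iff_eq hp Nat.prime_two).1 (h2 ▸ dvd_pow_self p ha0)

end Cfsg.Agent.S4013
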