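import Cfsg.Statements.S4014
import Cfsg.Agent.Lib.Fg6.WreathDerived
-- import your own Cfsg.Agent.* helpers here

set_option autoImplicit false
open Cfsg

namespace Cfsg.Agent.S4014

/-- Let p be a prime, n ≥ 1, and P a Sylow p-subgroup of the symmetric group on n letters. Then the derived length of P is exactly k = ⌊log_p n⌋ (the largest k with p^k ≤ n): the k-th derived subgroup of P is trivial and, when k ≥ 1, the (k−1)-st is not. -/
theorem result (p : ℕ) [Fact p.Prime] (n : ℕ) (hn : 1 ≤ n) (P : Sylow p (Equiv.Perm (Fin n))) : derivedSeries ↥(P : Subgroup (Equiv.Perm (Fin n))) (Nat.log p n) = ⊥ ∧ (1 ≤ Nat.log p n → derivedSeries ↥(P : Subgroup (Equiv.Perm (Fin n))) (Nat.log p n - 1) ≠ ⊥) := by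
  have hpp : p.Prime := Fact.out
  refine ⟨Lib.Fg6.WreathDerived.derivedSeries_perm_pGroup p _ ?_ _ P.2, fun hk h => ?_⟩
  · rw [Nat.card_fin]
    exact Nat.lt_pow_succ_log_self hpp.one_lt n
  · obtain ⟨H, hH, hne⟩ := Lib.Fg6.WreathDerived.exists_perm_pGroup p (α := Fin n)
      (Nat.log p n - 1) (by
        rw [Nat.card_fin, Nat.sub_add_cancel hk]
        exact Nat.pow_log_le_self p (by omega))
    obtain ⟨S, hS⟩ := hH.exists_le_sylow
    refine hne (Lib.Fg6.WreathDerived.derivedSeries_eq_bot_of_injective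
      ((S.equiv P).toMonoidHom.comp (Subgroup.inclusion hS)) ?_ h)
    exact (S.equiv P).injective.comp (Subgroup.inclusion_injective hS)

end Cfsg.Agent.S4014
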