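import Cfsg.Statements.S4015
import Cfsg.Agent.Lib.Fg6.LinearSylow
-- import your own Cfsg.Agent.* helpers here

set_option autoImplicit false
open Cfsg

namespace Cfsg.Agent.S4015

/-- Let p be an odd prime, F a finite field with q elements where p does not divide q, and e the multiplicative order of q modulo p. Let n ≥ e and write w = ⌊n/e⌋ and k = ⌊log_p w⌋. Then a Sylow p-subgroup of GL(n, F) has derived length exactly k + 1: its (k+1)-st derived subgroup is trivial and its k-th is not. -/
theorem result (p : ℕ) [Fact p.Prime] (hp : p ≠ 2) (F : Type*) [Field F] [Fintype F] (q : ℕ) (hq : Fintype.card F = q) (hpq : ¬ p ∣ q) (n : ℕ) (hn : orderOf (q : ZMod p) ≤ n) (P : Sylow p (Matrix.GeneralLinearGroup (Fin n) F)) : derivedSeries ↥(P : Subgroup (Matrix.GeneralLinearGroup (Fin n) F)) (Nat.log p (n / orderOf (q : ZMod p)) + 1) = ⊥ ∧ derivedSeries ↥(P : Subgroup (Matrix.GeneralLinearGroup (Fin n) F)) (Nat.log p (n / orderOf (q : ZMod p))) ≠ ⊥ := by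
  classical
  have hpp : p.Prime := Fact.out
  have hcard : Nat.card F = q := Nat.card_eq_fintype_card.trans hq
  have hq0 : (Nat.card F : ZMod p) ≠ 0 := by
    rw [hcard, Ne, ZMod.natCast_eq_zero_iff]
    exact hpq
  have hp0 : (p : F) ≠ 0 := by
    obtain ⟨r, hr⟩ := CharP.exists F
    obtain ⟨s, hr', hs⟩ := FiniteField.card F r
    intro h
    have h1 : r = p := (Nat.prime_dvd_prime_iff_eq hr' hpp).1 ((CharP.cast_eq_zero_iff F r p).1 h)
    refine hpq ?_
    rw [← hq, hs, h1]
    exact dvd_pow_self p s.ne_zero
  set e := orderOf (q : ZMod p) with he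
  set w := n / e with hw
  let A := Matrix.toLinAlgEquiv' (R := F) (n := Fin n)
  constructor
  · let ρ : (P : Subgroup (Matrix.GeneralLinearGroup (Fin n) F)) →* Module.End F (Fin n → F) :=
      A.toMulEquiv.toMonoidHom.comp ((Units.coeHom _).comp (P : Subgroup (Matrix.GeneralLinearGroup (Fin n) F)).subtype)
    rw [Subgroup.eq_bot_iff_forall]
    intro g hg
    have h1 := Lib.Fg6.LinearSylow.derived_finite_field hp0 n _ P.2 (Fin n → F)
      (Module.finrank_fin_fun F) ρ g (by rw [hcard]; exact hg)
    exact Subtype.ext (Units.ext (A.injective (h1.trans (map_one A).symm)))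
  · intro h
    have he0 : 0 < e := orderOf_pos_iff.2 (isOfFinOrder_iff_pow_eq_one.2
      ⟨p - 1, by have := hpp.two_le; omega, ZMod.pow_card_sub_one_eq_one (by rwa [hcard] at hq0)⟩)
    have hw0 : 0 < w := Nat.div_pos hn he0
    have hle : e * p ^ Nat.log p w ≤ n := (Nat.mul_le_mul_left e (Nat.pow_log_le_self p hw0.ne')).trans
      (Nat.mul_div_le n e)
    have hrep := Lib.Fg6.LinearSylow.exists_rep (F := F) p hq0 (Nat.log p w)
    rw [hcard, ← he] at hrep
    generalize e * p ^ Nat.log p w = m at hrep hle
    obtain ⟨ρ, hρ⟩ := hrep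
    let l : ((Fin m → F) × (Fin (n - m) → F)) ≃ₗ[F] (Fin n → F) :=
      LinearEquiv.ofFinrankEq _ _ (by
        rw [Module.finrank_prod, Module.finrank_fin_fun, Module.finrank_fin_fun, Module.finrank_fin_fun]
        omega)
    let ι : Module.End F (Fin m → F) →* Module.End F ((Fin m → F) × (Fin (n - m) → F)) :=
      { toFun := fun a => LinearMap.prodMap a 1
        map_one' := by refine LinearMap.ext fun x => ?_; simp
        map_mul' := fun a b => by refine LinearMap.ext fun x => ?_; simp }
    let T := (A.symm.toMulEquiv.toMonoidHom.comp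
      ((LinearEquiv.conjAlgEquiv F l).toMulEquiv.toMonoidHom.comp (ι.comp ρ)))
    have hT : Function.Injective T := fun x y hxy => by
      have h1 := (LinearEquiv.conjAlgEquiv F l).injective (A.symm.injective hxy)
      refine hρ (LinearMap.ext fun v => ?_)
      exact congrArg Prod.fst (LinearMap.congr_fun h1 (v, 0))
    let f := T.toHomUnits
    have hf : Function.Injective f := fun x y hxy => hT (congrArg Units.val hxy)
    have hC : Nat.card (Multiplicative (ZMod p)) = p :=
      (Nat.card_congr Multiplicative.toAdd).trans (Nat.card_zmod p)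
    haveI : Nontrivial (Multiplicative (ZMod p)) :=
      Finite.one_lt_card_iff_nontrivial.1 (hC.symm ▸ hpp.one_lt)
    have hH : IsPGroup p f.range := IsPGroup.of_surjective
      (IsPGroup.of_card (by rw [IteratedWreathProduct.card, hC])) f.rangeRestrict
      f.rangeRestrict_surjective
    obtain ⟨S, hS⟩ := hH.exists_le_sylow
    refine Lib.Fg6.WreathDerived.derivedSeries_iterated_ne (Multiplicative (ZMod p))
      (fun x y => mul_comm x y) (Nat.log p w) ?_
    refine Lib.Fg6.WreathDerived.derivedSeries_eq_bot_of_injective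
      (((S.equiv P).toMonoidHom.comp (Subgroup.inclusion hS)).comp f.rangeRestrict) ?_ h
    exact ((S.equiv P).injective.comp (Subgroup.inclusion_injective hS)).comp
      (fun x y hxy => hf (congrArg Subtype.val hxy))

end Cfsg.Agent.S4015
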