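import Cfsg.Statements.S4016
import Cfsg.Agent.Lib.CyclicSylowAbelian83.Central

set_option autoImplicit false
open Cfsg

namespace Cfsg.Agent.S4016

/-- Let G be a finite group and p a prime such that a Sylow p-subgroup P of G is cyclic and every subgroup of G of order prime to p is abelian. Then G has a normal p-complement or P is normal in G. -/
theorem result {G : Type*} [Group G] [Finite G] {p : ℕ}
    [Fact p.Prime] (P : Sylow p G) (hcyc : IsCyclic P)
    (hab : ∀ H : Subgroup G, ¬ p ∣ Nat.card H → IsMulCommutative H) :
    Cfsg.HasNormalPComplement p G ∨ (P : Subgroup G).Normal := by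
  open Cfsg.Agent.Lib.CyclicSylowAbelian83 in
  rcases conclusion_of_primeAbelian (Nat.card G) G rfl P hcyc hab with ⟨N, hN, hNp, k, hk⟩ | h
  · refine Or.inl ⟨P, N, hN, ?_⟩
    obtain ⟨n, hn⟩ := IsPGroup.iff_card.mp P.2
    have hp : p.Prime := Fact.out
    have hcop : (Nat.card N).Coprime (Nat.card (P : Subgroup G)) := by
      rw [hn]
      exact Nat.Coprime.pow_right _ (hp.coprime_iff_not_dvd.mpr hNp).symm
    refine Subgroup.isComplement'_of_coprime ?_ hcop
    -- the order is the product
    have hPd : Nat.card (P : Subgroup G) ∣ N.index := by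
      refine hcop.symm.dvd_of_dvd_mul_left ?_
      rw [N.card_mul_index]
      exact Subgroup.card_subgroup_dvd_card _
    have hmax : N.index ∣ Nat.card (P : Subgroup G) := by
      rw [hk, P.card_eq_multiplicity]
      refine pow_dvd_pow p ?_
      rw [← hp.pow_dvd_iff_le_factorization Nat.card_pos.ne', ← hk]
      exact N.index_dvd_card
    rw [Nat.dvd_antisymm hPd hmax, N.card_mul_index]
  · exact Or.inr (h P)

end Cfsg.Agent.S4016
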