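import Cfsg.Statements.S4017
import Cfsg.Agent.Lib.MixedPQ.Main

set_option autoImplicit false
open Cfsg

namespace Cfsg.Agent.S4017

/-- Let G be a finite group and let p and q be distinct primes dividing the order of G, with p odd. Suppose that p divides the order of every proper subgroup of G that is neither a q-group nor of order prime to q. Let q^a be the q-part of the order of G. If p > q^a − 1, or if p = q^a − 1 and the Sylow p-subgroups of G are abelian, then p and q are the only primes dividing the order of G. -/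
theorem result {G : Type*} [Group G] [Finite G]
    {p q : ℕ} (hp : p.Prime) (hq : q.Prime) (hpq : p ≠ q) (hp2 : p ≠ 2)
    (hpG : p ∣ Nat.card G) (hqG : q ∣ Nat.card G)
    (hmix : ∀ H : Subgroup G, H ≠ ⊤ → ¬ IsPGroup q H → q ∣ Nat.card H → p ∣ Nat.card H)
    (hlarge : q ^ (Nat.card G).factorization q - 1 < p ∨
      (p = q ^ (Nat.card G).factorization q - 1 ∧ ∀ P : Sylow p G, IsMulCommutative P)) :
    ∀ r : ℕ, r.Prime → r ∣ Nat.card G → r = p ∨ r = q := by
  refine Lib.MixedPQ.prime_cases hp hq hpq hp2 _ rfl ⟨hmix, hpG⟩ hqG ?_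
  refine hlarge.imp_right fun h => ⟨h.1, fun P hP x hx y hy => ?_⟩
  have := Fact.mk hp
  obtain ⟨S, hS⟩ := hP.exists_le_sylow
  have := h.2 S
  exact setLike_mul_comm (S := Subgroup G) (s := (S : Subgroup G)) (hS hx) (hS hy)

end Cfsg.Agent.S4017
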