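import Cfsg.Statements.S4018
import Cfsg.Agent.Lib.Fg6.ThreeLocal
import Cfsg.Agent.Lib.Fg6.NormThree
import Cfsg.Agent.Lib.Induced.Character
import Mathlib.RingTheory.IntegralDomain
import Mathlib.GroupTheory.FiniteAbelian.Duality
import Mathlib.RingTheory.RootsOfUnity.AlgebraicallyClosed
import Mathlib.Analysis.Complex.Polynomial.Basic

set_option autoImplicit false
open Cfsg

namespace Cfsg.Agent.S4018

section
open Cfsg.Agent.Lib.Fg6.ThreeLocal Cfsg.Agent.Lib.Fg6.NormThree
open Cfsg.Agent.Lib.Induced.Basic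
open scoped ComplexConjugate
open Subgroup

variable {G : Type*} [Group G] [Fintype G] {P : Sylow 3 G}

local notation "T₀" => centralizer (P : Set G)
local notation "N₀" => normalizer ((P : Subgroup G) : Set G)

open scoped Classical in
/-- The set of involutions. -/
noncomputable def invols (G : Type*) [Group G] [Fintype G] : Finset G :=
  Finset.univ.filter fun s => orderOf s = 2

theorem mem_invols {s : G} : s ∈ invols G ↔ orderOf s = 2 := by
  classical
  simp [invols]

variable (P) in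
open scoped Classical in
/-- `T` without the identity. -/
noncomputable def tSharp : Finset G :=
  Finset.univ.filter fun x => x ∈ T₀ ∧ x ≠ 1

open scoped Classical in
theorem card_inverters (h : Hyp P) {x : G} (hx : x ∈ T₀) (hx1 : x ≠ 1) (g : G) :
    ((invols G).filter fun s => orderOf (s * (g * x * g⁻¹)) = 2).card = 2 * Nat.card P := by
  have e1 : ((invols G).filter fun s => orderOf (s * (g * x * g⁻¹)) = 2).card =
      (Finset.univ.filter fun s : G => s ∈ N₀ ∧ s ∉ T₀).card := by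
    refine Finset.card_equiv (MulAut.conj g⁻¹).toEquiv fun s => ?_
    simp only [Finset.mem_filter, mem_invols, Finset.mem_univ, true_and, MulEquiv.toEquiv_eq_coe,
      EquivLike.coe_coe, MulAut.conj_apply, inv_inv]
    rw [← inverters_eq h hx hx1 (g⁻¹ * s * g)]
    have h1 : orderOf (g⁻¹ * s * g) = orderOf s := by
      have := orderOf_conj g⁻¹ s
      rwa [inv_inv] at this
    have h2 : orderOf (g⁻¹ * s * g * x) = orderOf (s * (g * x * g⁻¹)) := by
      rw [← orderOf_conj g (g⁻¹ * s * g * x)]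
      congr 1
      group
    rw [h1, h2]
  rw [e1, show (Finset.univ.filter fun s : G => s ∈ N₀ ∧ s ∉ T₀) =
    (Finset.univ.filter fun s : G => s ∈ N₀) \ (Finset.univ.filter fun s : G => s ∈ T₀) by
      ext s; simp]
  rw [Finset.card_sdiff_of_subset fun s hs => by
    simp only [Finset.mem_filter, Finset.mem_univ, true_and] at hs ⊢
    exact T_le_N h hs]
  rw [← Fintype.card_subtype, ← Fintype.card_subtype, ← Nat.card_eq_fintype_card,
    ← Nat.card_eq_fintype_card]
  show Nat.card N₀ - Nat.card T₀ = _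
  rw [h.cardN, h.cardC]
  omega

theorem invols_conj {g s : G} (hs : s ∈ invols G) : g * s * g⁻¹ ∈ invols G := by
  rw [mem_invols] at hs ⊢
  rw [orderOf_conj, hs]

theorem four_mul_card_invols (h : Hyp P) :
    4 * Nat.card P * (invols G).card = Nat.card G := by
  classical
  rw [Nat.card_eq_fintype_card (α := G), ← Finset.card_univ,
    Finset.card_eq_sum_card_fiberwise (s := (Finset.univ : Finset G)) (t := invols G)
      (f := fun g : G => g * tInv h * g⁻¹) (fun g _ => invols_conj (mem_invols.2 (tInv_order h))),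
    mul_comm]
  rw [← smul_eq_mul, ← Finset.sum_const]
  refine Finset.sum_congr rfl fun s hs => Eq.symm ?_
  obtain ⟨g₀, hg₀⟩ := isConj_tInv h (mem_invols.1 hs)
  rw [show (4 * Nat.card P) = (Finset.univ.filter fun g : G => g ∈ N₀).card by
    rw [← Fintype.card_subtype, ← Nat.card_eq_fintype_card]; exact h.cardN.symm]
  refine Finset.card_equiv (Equiv.mulLeft g₀⁻¹) fun g => ?_
  simp only [Finset.mem_filter, Finset.mem_univ, true_and, Equiv.coe_mulLeft]
  rw [← cent_eq_N h, mem_cent_singleton, ← hg₀]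
  constructor
  · intro hg
    calc g₀⁻¹ * g * tInv h * (g₀⁻¹ * g)⁻¹ = g₀⁻¹ * (g * tInv h * g⁻¹) * g₀ := by group
      _ = tInv h := by rw [hg]; group
  · intro hg
    calc g * tInv h * g⁻¹ = g₀ * (g₀⁻¹ * g * tInv h * (g₀⁻¹ * g)⁻¹) * g₀⁻¹ := by group
      _ = _ := by rw [hg]

theorem pair_sum (h : Hyp P) (F : G → ℂ) (hF : ∀ g x, F (g * x * g⁻¹) = F x) :
    ∑ s ∈ invols G, ∑ s' ∈ invols G, F (s * s') =
      (invols G).card * F 1 + 2 * Nat.card P * (invols G).card * ∑ x ∈ tSharp P, F x := by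
  classical
  let a : G → ℕ := fun x => ((invols G).filter fun s => orderOf (s * x) = 2).card
  have hsum : ∑ s ∈ invols G, ∑ s' ∈ invols G, F (s * s') = ∑ x : G, (a x : ℂ) * F x := by
    have e : ∀ s ∈ invols G, ∑ s' ∈ invols G, F (s * s') =
        ∑ x : G, if orderOf (s * x) = 2 then F x else 0 := by
      intro s hs
      have s2 : s * s = 1 := by rw [← pow_two, ← mem_invols.1 hs, pow_orderOf_eq_one]
      rw [← Finset.sum_filter]
      refine (Finset.sum_equiv (Equiv.mulLeft s) (fun x => ?_) (fun x _ => rfl))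
      simp [mem_invols, ← mul_assoc, s2]
    rw [Finset.sum_congr rfl e, Finset.sum_comm]
    refine Finset.sum_congr rfl fun x _ => ?_
    rw [← Finset.sum_filter, Finset.sum_const, nsmul_eq_mul]
  have ha1 : a 1 = (invols G).card := by
    simp only [a, mul_one]
    rw [Finset.filter_true_of_mem fun s hs => mem_invols.1 hs]
  have key : (4 * Nat.card P : ℂ) * ∑ x ∈ Finset.univ.erase (1 : G), (a x : ℂ) * F x =
      (Nat.card G : ℂ) * (2 * Nat.card P * ∑ x ∈ tSharp P, F x) := by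
    have hg : ∀ g : G, ∑ x ∈ tSharp P, (a (g * x * g⁻¹) : ℂ) * F (g * x * g⁻¹) =
        ∑ y ∈ Finset.univ.erase (1 : G), if g⁻¹ * y * g ∈ tSharp P then (a y : ℂ) * F y else 0 := by
      intro g
      rw [← Finset.sum_filter]
      refine Finset.sum_equiv (MulAut.conj g).toEquiv (fun x => ?_) (fun x _ => rfl)
      simp only [Finset.mem_filter, Finset.mem_erase, MulEquiv.toEquiv_eq_coe, EquivLike.coe_coe,
        MulAut.conj_apply, Finset.mem_univ, and_true]
      rw [show g⁻¹ * (g * x * g⁻¹) * g = x by group]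
      refine ⟨fun hx => ⟨fun he => ?_, hx⟩, fun hx => hx.2⟩
      exact (Finset.mem_filter.1 hx).2.2 (conj_eq_one_iff.1 he)
    have h1 : ∑ g : G, ∑ x ∈ tSharp P, (a (g * x * g⁻¹) : ℂ) * F (g * x * g⁻¹) =
        (Nat.card G : ℂ) * (2 * Nat.card P * ∑ x ∈ tSharp P, F x) := by
      rw [Finset.sum_congr rfl fun g _ => Finset.sum_congr rfl fun x hx => by
        have hh := (Finset.mem_filter.1 hx).2
        rw [hF g x, show a (g * x * g⁻¹) = 2 * Nat.card P from card_inverters h hh.1 hh.2 g]]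
      rw [Finset.sum_const, Finset.card_univ, nsmul_eq_mul, ← Nat.card_eq_fintype_card,
        ← Finset.mul_sum]
      push_cast
      rfl
    rw [← h1, Finset.sum_congr rfl fun g _ => hg g, Finset.sum_comm, Finset.mul_sum]
    refine Finset.sum_congr rfl fun y hy => ?_
    by_cases ha0 : a y = 0
    · simp [ha0]
    obtain ⟨s, hs⟩ := Finset.card_ne_zero.1 ha0
    rw [Finset.mem_filter, mem_invols] at hs
    obtain ⟨g₀, hg₀⟩ := real_conj_into_T h (Finset.ne_of_mem_erase hy) hs.1 hs.2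
    have hy1 : g₀ * y * g₀⁻¹ ≠ 1 := fun he => Finset.ne_of_mem_erase hy (conj_eq_one_iff.1 he)
    rw [← Finset.sum_filter, Finset.sum_const, nsmul_eq_mul]
    congr 1
    have : (Finset.univ.filter fun g : G => g⁻¹ * y * g ∈ tSharp P).card =
        (Finset.univ.filter fun g : G => g ∈ N₀).card := by
      refine Finset.card_equiv (Equiv.mulLeft g₀) fun g => ?_
      simp only [Finset.mem_filter, Finset.mem_univ, true_and, Equiv.coe_mulLeft, tSharp]
      constructor
      · rintro ⟨hgT, -⟩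
        have hmem : (g₀ * g)⁻¹ ∈ N₀ := by
          refine mem_N_of_conj h hg₀ hy1 ?_
          rwa [show (g₀ * g)⁻¹ * (g₀ * y * g₀⁻¹) * (g₀ * g)⁻¹⁻¹ = g⁻¹ * y * g by group]
        exact (inv_mem_iff (H := N₀)).1 hmem
      · intro hg
        have e : g⁻¹ * y * g = (g₀ * g)⁻¹ * (g₀ * y * g₀⁻¹) * (g₀ * g)⁻¹⁻¹ := by group
        rw [e]
        exact ⟨conj_mem_T h (inv_mem hg) hg₀, fun he => hy1 (conj_eq_one_iff.1 he)⟩
    rw [this, ← Fintype.card_subtype, ← Nat.card_eq_fintype_card,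
      show Nat.card {x : G // x ∈ N₀} = 4 * Nat.card P from h.cardN]
    push_cast
    rfl
  have h4 := congrArg (fun n : ℕ => (n : ℂ)) (four_mul_card_invols h)
  push_cast at h4
  have hne : (4 * Nat.card P : ℂ) ≠ 0 :=
    mul_ne_zero (by norm_num) (Nat.cast_ne_zero.2 Nat.card_pos.ne')
  rw [hsum, ← Finset.add_sum_erase _ _ (Finset.mem_univ (1 : G)), ha1]
  congr 1
  apply mul_left_cancel₀ hne
  rw [key]
  linear_combination (-(2 * Nat.card P * ∑ x ∈ tSharp P, F x) : ℂ) * h4

theorem exists_theta (h : Hyp P) : ∃ θ : T₀ →* ℂˣ,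
    θ ⟨tInv h, tInv_mem h⟩ = 1 ∧ ∃ x : T₀, θ x * θ x ≠ 1 := by
  letI : CommGroup T₀ := { (inferInstance : Group T₀) with
    mul_comm := fun a b => Subtype.ext (T_comm h a.2 b.2) }
  obtain ⟨x, hx, hx1⟩ : ∃ x ∈ (P : Subgroup G), x ≠ 1 := by
    by_contra hc
    push Not at hc
    exact P_ne_bot h ((eq_bot_iff_forall _).2 hc)
  let x' : T₀ := ⟨x, P_le_T h hx⟩
  have hx4 : (x' * x') * (x' * x') ≠ 1 := by
    intro he
    replace he := congrArg Subtype.val he
    push_cast at he
    exact hx1 (sq_of_mem_P hx (sq_of_mem_P (mul_mem hx hx) he))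
  obtain ⟨φ, hφ⟩ := CommGroup.exists_apply_ne_one_of_hasEnoughRootsOfUnity T₀ ℂ hx4
  refine ⟨φ.comp (powMonoidHom 2), ?_, x', ?_⟩
  · rw [MonoidHom.comp_apply, powMonoidHom_apply, pow_two,
      show (⟨tInv h, tInv_mem h⟩ : T₀) * ⟨tInv h, tInv_mem h⟩ = 1 from Subtype.ext (tInv_sq h),
      map_one]
  · rw [MonoidHom.comp_apply, powMonoidHom_apply, pow_two, ← map_mul]
    exact hφ

theorem indFun_apply_T (h : Hyp P) (α : T₀ → ℂ) (τ : T₀) (hτ : τ ≠ 1) :
    Cfsg.indFun T₀ α (τ : G) = α τ + α τ⁻¹ := by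
  classical
  have hτ' : (τ : G) ≠ 1 := fun he => hτ (Subtype.ext he)
  have key : ∀ x : G, Cfsg.extendByZero T₀ α (x⁻¹ * τ * x) =
      (if x ∈ T₀ then α τ else 0) + (if x ∈ N₀ ∧ x ∉ T₀ then α τ⁻¹ else 0) := by
    intro x
    by_cases hxN : x ∈ N₀
    · by_cases hxT : x ∈ T₀
      · rw [if_pos hxT, if_neg (fun hh => hh.2 hxT), add_zero]
        have : x⁻¹ * (τ : G) * x = τ := by rw [mul_assoc, T_comm h τ.2 hxT, inv_mul_cancel_left]
        rw [this, extendByZero_coe]
      · rw [if_neg hxT, if_pos ⟨hxN, hxT⟩, zero_add]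
        have hx' : x⁻¹ ∉ T₀ := fun hh => hxT ((inv_mem_iff (H := T₀)).1 hh)
        have := (outside_T h (inv_mem hxN) hx').2 _ τ.2
        rw [inv_inv] at this
        rw [this]
        exact extendByZero_coe T₀ α τ⁻¹
    · rw [if_neg (fun hh => hxN (T_le_N h hh)), if_neg (fun hh => hxN hh.1), add_zero]
      refine extendByZero_of_not_mem _ _ fun hm => hxN ?_
      have := mem_N_of_conj h (g := x⁻¹) τ.2 hτ' (by rwa [inv_inv])
      exact (inv_mem_iff (H := N₀)).1 this
  simp only [Cfsg.indFun, key, Finset.sum_add_distrib, ← Finset.sum_filter, Finset.sum_const,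
    nsmul_eq_mul]
  have c1 : (Finset.univ.filter fun x : G => x ∈ T₀).card = 2 * Nat.card P := by
    rw [← Fintype.card_subtype, ← Nat.card_eq_fintype_card]; exact h.cardC
  have c2 : (Finset.univ.filter fun x : G => x ∈ N₀ ∧ x ∉ T₀).card = 2 * Nat.card P := by
    rw [show (Finset.univ.filter fun s : G => s ∈ N₀ ∧ s ∉ T₀) =
      (Finset.univ.filter fun s : G => s ∈ N₀) \ (Finset.univ.filter fun s : G => s ∈ T₀) by
        ext s; simp]
    rw [Finset.card_sdiff_of_subset fun s hs => by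
      simp only [Finset.mem_filter, Finset.mem_univ, true_and] at hs ⊢
      exact T_le_N h hs]
    rw [c1, ← Fintype.card_subtype, ← Nat.card_eq_fintype_card]
    show Nat.card N₀ - _ = _
    rw [h.cardN]; omega
  have c3 : (Nat.card T₀ : ℂ) = ((2 * Nat.card P : ℕ) : ℂ) := by rw [h.cardC]
  rw [c1, c2, c3, ← mul_add, ← mul_assoc, inv_mul_cancel₀, one_mul]
  exact Nat.cast_ne_zero.2 (Nat.mul_ne_zero two_ne_zero Nat.card_pos.ne')

theorem arith (n I d c j : ℤ) (hn : 3 ≤ n) (hI : I = 1 + 2 * n * (2 * n - 1)) (hd : 1 ≤ d)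
    (hc : c ^ 2 ≤ 4 * n) (hj : d - c = 4 * n * j) (he : d * (d + 1) = 2 * j ^ 2 * I) : False := by
  have hI0 : 0 < I := by nlinarith
  rcases lt_trichotomy j 0 with hj0 | rfl | hj0
  · have : 4 * n * j ≤ -4 * n := by nlinarith
    nlinarith
  · nlinarith
  · have hcn : -n ≤ c := by nlinarith
    have hdl : 3 * (n * j) ≤ d := by
      have : n ≤ n * j := by nlinarith
      nlinarith
    have h1 : 0 ≤ 3 * (n * j) := by positivity
    have h2 : (3 * (n * j)) * (3 * (n * j)) ≤ d * (d + 1) := by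
      apply mul_le_mul hdl (by linarith) h1 (by linarith)
    have h3 : I ≤ 4 * n ^ 2 := by nlinarith
    nlinarith [mul_le_mul_of_nonneg_left h3 (sq_nonneg j), mul_pos (show (0 : ℤ) < n by linarith) hj0]

theorem exists_j (n I d c k : ℤ) (h : I * (d - c) ^ 2 = 8 * n ^ 2 * (d * (d + 1)))
    (hI : I = 1 + 2 * n * (2 * n - 1)) (hn : 3 ≤ n) (hk : n ∣ 3 ^ k.toNat) :
    ∃ j, d - c = 4 * n * j ∧ d * (d + 1) = 2 * j ^ 2 * I := by
  have hI2 : IsCoprime (2 : ℤ) I := by
    refine ⟨-(n * (2 * n - 1)), 1, ?_⟩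
    rw [hI]; ring
  have hIn : IsCoprime n I := ⟨-(2 * (2 * n - 1)), 1, by rw [hI]; ring⟩
  have h4n : IsCoprime (8 * n ^ 2) I := by
    have : IsCoprime ((2 : ℤ) ^ 3 * n ^ 2) I := (hI2.pow_left).mul_left hIn.pow_left
    norm_num at this
    exact this
  obtain ⟨k', hk'⟩ : 8 * n ^ 2 ∣ (d - c) ^ 2 := h4n.dvd_of_dvd_mul_left ⟨_, h⟩
  have hd : d * (d + 1) = k' * I := by
    have h8 : (8 * n ^ 2 : ℤ) ≠ 0 := by positivity
    apply mul_left_cancel₀ h8
    rw [← h, hk']; ring
  have hn2 : (2 * n) ^ 2 ∣ (d - c) ^ 2 := ⟨2 * k', by rw [hk']; ring⟩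
  obtain ⟨e, he⟩ := (Int.pow_dvd_pow_iff (two_ne_zero (α := ℕ))).1 hn2
  have he2 : e ^ 2 = 2 * k' := by
    have h4 : (4 * n ^ 2 : ℤ) ≠ 0 := by positivity
    apply mul_left_cancel₀ h4
    calc 4 * n ^ 2 * e ^ 2 = (d - c) ^ 2 := by rw [he]; ring
      _ = _ := by rw [hk']; ring
  obtain ⟨j, rfl⟩ : (2 : ℤ) ∣ e := Int.prime_two.dvd_of_dvd_pow (n := 2) ⟨k', he2⟩
  exact ⟨j, by rw [he]; ring, by rw [hd, show k' = 2 * j ^ 2 by linarith]⟩

theorem contra (h : Hyp P) : False := by
  classical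
  haveI : Fintype T₀ := Fintype.ofFinite _
  obtain ⟨θ, hθt, x₀, hx₀⟩ := exists_theta h
  let θc : T₀ →* ℂ := (Units.coeHom ℂ).comp θ
  let α : T₀ → ℂ := fun τ => 1 - θc τ
  let f := Cfsg.indFun T₀ α
  have hθinv : ∀ τ, θc τ⁻¹ = conj (θc τ) := by
    intro τ
    have hpow : θc τ ^ orderOf τ = 1 := by rw [← map_pow, pow_orderOf_eq_one, map_one]
    rw [Cfsg.Agent.Lib.Characters.Diag.conj_eq_inv_of_pow (orderOf_pos τ).ne' hpow]
    exact eq_inv_of_mul_eq_one_left (by rw [← map_mul, inv_mul_cancel, map_one])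
  have hnt : θc ≠ 1 := by
    intro he
    refine hx₀ (Units.ext ?_)
    have : θc x₀ = 1 := by rw [he]; rfl
    simp only [Units.val_mul, Units.val_one]
    rw [show ((θ x₀ : ℂˣ) : ℂ) = θc x₀ from rfl, this, one_mul]
  have hnt2 : θc * θc ≠ 1 := by
    intro he
    refine hx₀ (Units.ext ?_)
    have := congrArg (fun g : T₀ →* ℂ => g x₀) he
    simp only [MonoidHom.mul_apply, MonoidHom.one_apply] at this
    simp only [Units.val_mul, Units.val_one]
    exact this
  have s1 : ∑ τ, θc τ = 0 := sum_hom_units_eq_zero θc hnt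
  have s2 : ∑ τ, θc τ * θc τ = 0 := sum_hom_units_eq_zero _ hnt2
  have s3 : ∑ τ, θc τ⁻¹ = 0 := (Equiv.sum_comp (Equiv.inv T₀) fun τ => θc τ).trans s1
  have hfT : ∀ τ : T₀, τ ≠ 1 → f τ = 2 - θc τ - θc τ⁻¹ := by
    intro τ hτ
    rw [show f τ = α τ + α τ⁻¹ from indFun_apply_T h α τ hτ]
    simp only [α]
    ring
  have hf1 : f 1 = 0 := by
    rw [show f 1 = _ from indFun_one T₀ α]
    simp [α]
  have cT : (Fintype.card T₀ : ℂ) = 2 * Nat.card P := by
    rw [← Nat.card_eq_fintype_card, h.cardC]; push_cast; rfl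
  have hfall : ∀ τ : T₀, f τ = 2 - θc τ - θc τ⁻¹ := by
    intro τ
    by_cases hτ : τ = 1
    · subst hτ; rw [show ((1 : T₀) : G) = 1 from rfl, hf1]; simp; norm_num
    · exact hfT τ hτ
  have hgen : Cfsg.IsGeneralizedCharacter G f := by
    refine Cfsg.Agent.Lib.Induced.Character.isGeneralizedCharacter_indFun _ ⟨1, fun τ => (θ τ : ℂ),
      Cfsg.Agent.Lib.Characters.Basic.isCharacter_one,
      Cfsg.Agent.Lib.Induced.Character.isCharacter_hom θ, rfl⟩
  have hnorm : Cfsg.classInner f f = 3 := by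
    rw [show Cfsg.classInner f f = Cfsg.classInner α (fun τ : T₀ => f τ) from
      frobenius_reciprocity T₀ α (isClassFunction_indFun T₀ α), Cfsg.classInner]
    have : ∀ τ : T₀, α τ * conj (f τ) = 3 - 3 * θc τ - θc τ⁻¹ + θc τ * θc τ := by
      intro τ
      have hm : θc τ * θc τ⁻¹ = 1 := by rw [← map_mul, mul_inv_cancel, map_one]
      rw [hfall]
      simp only [α, map_sub, ← hθinv, inv_inv, map_ofNat]
      linear_combination hm
    rw [Finset.sum_congr rfl fun τ _ => this τ]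
    simp only [Finset.sum_add_distrib, Finset.sum_sub_distrib, ← Finset.mul_sum, s1, s2, s3,
      Finset.sum_const, Finset.card_univ, nsmul_eq_mul, mul_zero, sub_zero, add_zero, cT]
    rw [h.cardC]
    push_cast
    rw [← mul_assoc, inv_mul_cancel₀, one_mul]
    exact mul_ne_zero two_ne_zero (Nat.cast_ne_zero.2 Nat.card_pos.ne')
  have hone : Cfsg.classInner f (fun _ => 1) = 1 := by
    rw [show Cfsg.classInner f (fun _ => 1) = Cfsg.classInner α (fun _ : T₀ => 1) from
      frobenius_reciprocity T₀ α (fun _ _ => rfl), Cfsg.classInner]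
    simp only [α, map_one, mul_one, Finset.sum_sub_distrib, s1, sub_zero, Finset.sum_const,
      Finset.card_univ, nsmul_eq_mul, cT]
    rw [h.cardC]; push_cast
    rw [inv_mul_cancel₀]
    exact mul_ne_zero two_ne_zero (Nat.cast_ne_zero.2 Nat.card_pos.ne')
  obtain ⟨χ, ξ, hfe⟩ := exists_eq_of_norm_three hgen hnorm hone hf1
  have hsumf : ∑ x ∈ tSharp P, f x = 4 * Nat.card P := by
    have h1 : ∑ τ : T₀, f τ = 4 * Nat.card P := by
      rw [Finset.sum_congr rfl fun τ _ => hfall τ]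
      simp only [Finset.sum_sub_distrib, s1, s3, sub_zero, Finset.sum_const, Finset.card_univ,
        nsmul_eq_mul, cT]
      ring
    have h2 : ∑ x ∈ Finset.univ.filter (fun x : G => x ∈ T₀), f x = ∑ τ : T₀, f τ :=
      Finset.sum_subtype _ (fun x => by simp) _
    rw [← h1, ← h2, ← Finset.add_sum_erase (Finset.univ.filter fun x : G => x ∈ T₀) f
      (show (1 : G) ∈ _ by simp [one_mem]), hf1, zero_add]
    refine Finset.sum_congr ?_ fun _ _ => rfl
    ext x
    simp [tSharp, and_comm]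
  have hcl : ∀ g x, f (g * x * g⁻¹) = f x := fun g x => isClassFunction_indFun T₀ α x g
  have hI := four_mul_card_invols h
  set n := Nat.card P with hn
  set I := (invols G).card with hI_def
  have hI0 : 0 < I := Finset.card_pos.2 ⟨tInv h, mem_invols.2 (tInv_order h)⟩
  have hcount : (I : ℂ) = 1 + 2 * n * (2 * n - 1) := by
    have h1 := pair_sum h (fun _ => 1) (fun _ _ => rfl)
    have hc : ((tSharp P).card : ℂ) = 2 * n - 1 := by
      have h2 : tSharp P = (Finset.univ.filter fun x : G => x ∈ T₀).erase 1 := by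
        ext x; simp [tSharp, and_comm]
      rw [h2, Finset.cast_card_erase_of_mem (by simp [one_mem])]
      rw [← Fintype.card_subtype, ← Nat.card_eq_fintype_card,
        show Nat.card {x : G // x ∈ T₀} = 2 * Nat.card P from h.cardC]
      push_cast; rfl
    simp only [Finset.sum_const, nsmul_eq_mul, mul_one, hc] at h1
    apply mul_left_cancel₀ (show (I : ℂ) ≠ 0 from Nat.cast_ne_zero.2 hI0.ne')
    rw [hI_def, hn] at *
    linear_combination h1
  obtain ⟨d, hd, hdχ⟩ := Cfsg.Agent.Lib.Characters.Basic.exists_degree_pos χ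
  obtain ⟨c, hc⟩ := exists_int_involution χ (tInv_sq h)
  obtain ⟨e, he⟩ := exists_int_involution ξ (tInv_sq h)
  have hξ1 : (ξ : G → ℂ) 1 = d + 1 := by
    have := congrFun hfe 1
    simp only [hf1, hdχ] at this
    linear_combination this
  have hft : f (tInv h) = 0 := by
    have h1 := hfall ⟨tInv h, tInv_mem h⟩
    have h2 : θc ⟨tInv h, tInv_mem h⟩ = 1 := by
      show ((θ ⟨tInv h, tInv_mem h⟩ : ℂˣ) : ℂ) = 1
      rw [hθt]; rfl
    rw [hθinv, h2, map_one] at h1
    rw [show f (tInv h) = _ from h1]; norm_num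
  have hξt : (ξ : G → ℂ) (tInv h) = c + 1 := by
    have := congrFun hfe (tInv h)
    simp only [hft, hc] at this
    linear_combination this
  have hconst : ∀ ψ : Cfsg.IrrCharacter G, ∀ s ∈ invols G,
      (ψ : G → ℂ) s = (ψ : G → ℂ) (tInv h) := by
    intro ψ s hs
    obtain ⟨g, hg⟩ := isConj_tInv h (mem_invols.1 hs)
    rw [← hg, Cfsg.Agent.Lib.Characters.Basic.isClassFunction_irr ψ]
  have hA : ∀ ψ : Cfsg.IrrCharacter G, (ψ : G → ℂ) 1 * ∑ s ∈ invols G, ∑ s' ∈ invols G,
      (ψ : G → ℂ) (s * s') = ((I : ℂ) * (ψ : G → ℂ) (tInv h)) ^ 2 := by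
    intro ψ
    rw [sum_pairs_mul_degree ψ _ fun g s hs => invols_conj hs,
      Finset.sum_congr rfl (hconst ψ), Finset.sum_const, nsmul_eq_mul]
  have hA1 := hA χ
  have hA2 := hA ξ
  rw [hdχ, hc] at hA1
  rw [hξ1, hξt] at hA2
  have hpair := pair_sum h f hcl
  rw [hf1, mul_zero, zero_add, hsumf, hfe] at hpair
  simp only [Finset.sum_sub_distrib, Finset.sum_add_distrib, Finset.sum_const, nsmul_eq_mul,
    mul_one] at hpair
  have hmain : (I : ℤ) * ((d : ℤ) - c) ^ 2 = 8 * (n : ℤ) ^ 2 * ((d : ℤ) * (d + 1)) := by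
    have hC : (I : ℂ) * ((d : ℂ) - c) ^ 2 = 8 * (n : ℂ) ^ 2 * ((d : ℂ) * (d + 1)) := by
      apply mul_left_cancel₀ (show (I : ℂ) ≠ 0 from Nat.cast_ne_zero.2 hI0.ne')
      rw [← hI_def, ← hn] at *
      linear_combination ((d : ℂ) * (d + 1)) * hpair - ((d : ℂ) + 1) * hA1 + (d : ℂ) * hA2
    exact_mod_cast hC
  have hcountZ : (I : ℤ) = 1 + 2 * (n : ℤ) * (2 * n - 1) := by exact_mod_cast hcount
  have hn3 : (3 : ℤ) ≤ n := by
    have h1 := card_P_gt h
    have h2 := card_P_odd P
    obtain ⟨k, hk⟩ := h2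
    omega
  have hc2 : c ^ 2 ≤ 4 * (n : ℤ) := by
    have h1 := card_mul_sq_le χ (invols G) c fun s hs => (hconst χ s hs).trans hc
    rw [← hI_def] at h1
    have h2 : (Nat.card G : ℤ) = 4 * n * I := by rw [← hI]; push_cast; rfl
    rw [h2] at h1
    nlinarith
  haveI : Fact (Nat.Prime 3) := ⟨by norm_num⟩
  obtain ⟨k, hk⟩ := IsPGroup.iff_card.1 P.2
  have hk' : (n : ℤ) ∣ 3 ^ (k : ℤ).toNat := by
    rw [Int.toNat_natCast, hn]
    exact ⟨1, by rw [mul_one]; exact_mod_cast hk.symm⟩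
  obtain ⟨j, hj, hje⟩ := exists_j _ _ _ c (k : ℤ) hmain hcountZ hn3 hk'
  exact arith _ _ _ _ j hn3 hcountZ (by exact_mod_cast hd) hc2 hj hje

end


/-- Let G be a finite group with an abelian Sylow 3-subgroup P such that the normalizer of P has order 4·#P, the centralizer C of P has order 2·#P, C meets each of its conjugates by elements outside its normalizer trivially, and every proper subgroup of G of even order has order dividing 4·#P. Then G is not simple. -/
theorem result {G : Type*} [Group G] [Finite G]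
    (P : Sylow 3 G) (hab : IsMulCommutative P)
    (hN : Nat.card (Subgroup.normalizer ((P : Subgroup G) : Set G)) = 4 * Nat.card P)
    (hC : Nat.card (Subgroup.centralizer (P : Set G)) = 2 * Nat.card P)
    (hTI : Cfsg.IsTISubset (Subgroup.centralizer (P : Set G) : Set G))
    (heven : ∀ H : Subgroup G, H ≠ ⊤ → 2 ∣ Nat.card H → Nat.card H ∣ 4 * Nat.card P) :
    ¬ IsSimpleGroup G := by
  intro hs
  haveI := Fintype.ofFinite G
  exact contra ⟨hab, hN, hC, hTI, heven, hs⟩

end Cfsg.Agent.S4018
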