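import Cfsg.Statements.S4022
import Cfsg.Agent.Lib.Hall.Basic
import Cfsg.Agent.Lib.Coprime.Conjugacy
import Cfsg.Agent.Lib.Cores.Basic
import Cfsg.Agent.Lib.Elem70.EqualOrder

set_option autoImplicit false
open Cfsg

namespace Cfsg.Agent.S4022

open Cfsg.Agent.Lib.Elem70.EqualOrder
open scoped Pointwise

universe w

theorem eq_of_card_eq_cyclic {G : Type w} [Group G] [Finite G] {A B S : Subgroup G}
    (hS : IsCyclic S) (hA : A ≤ S) (hB : B ≤ S) (h : Nat.card A = Nat.card B) : A = B := by
  haveI : IsCyclic (A ⊔ B : Subgroup G) := Subgroup.isCyclic_of_le (sup_le hA hB)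
  let P : Subgroup G :=
    { carrier := {x | x ∈ S ∧ x ^ Nat.card A = 1}
      one_mem' := ⟨one_mem S, one_pow _⟩
      mul_mem' := fun {a b} ha hb => ⟨mul_mem ha.1 hb.1, by
        have hab : a * b = b * a := congrArg Subtype.val
          ((IsCyclic.isMulCommutative (α := S)).is_comm.comm ⟨a, ha.1⟩ ⟨b, hb.1⟩)
        rw [Commute.mul_pow hab, ha.2, hb.2, one_mul]⟩
      inv_mem' := fun {a} ha => ⟨inv_mem ha.1, by rw [inv_pow, ha.2, inv_one]⟩ }
  have hle : A ⊔ B ≤ P := by
    refine sup_le (fun a ha => ⟨hA ha, ?_⟩) (fun a ha => ⟨hB ha, ?_⟩)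
    · exact congrArg Subtype.val (pow_card_eq_one' (G := A) (x := ⟨a, ha⟩))
    · rw [h]; exact congrArg Subtype.val (pow_card_eq_one' (G := B) (x := ⟨a, ha⟩))
  have h1 : Nat.card (A ⊔ B : Subgroup G) ≤ Nat.card A := by
    rw [← IsCyclic.exponent_eq_card]
    exact Nat.le_of_dvd Nat.card_pos
      (Monoid.exponent_dvd_of_forall_pow_eq_one fun x => Subtype.ext (hle x.2).2)
  have e1 := Subgroup.eq_of_le_of_card_ge (le_sup_left : A ≤ A ⊔ B) h1
  exact (Subgroup.eq_of_le_of_card_ge (e1.symm ▸ le_sup_right : B ≤ A) h.le).symm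

/-- Conjugate by `g`. -/
abbrev conjG {G : Type w} [Group G] (g : G) (H : Subgroup G) : Subgroup G :=
  H.map (MulAut.conj g).toMonoidHom

theorem conjG_mul {G : Type w} [Group G] (g k : G) (H : Subgroup G) :
    conjG (g * k) H = conjG g (conjG k H) := by
  rw [conjG, conjG, conjG, Subgroup.map_map]
  congr 1
  ext x
  simp [mul_assoc]

theorem card_conjG {G : Type w} [Group G] (g : G) (H : Subgroup G) :
    Nat.card (conjG g H) = Nat.card H :=
  Subgroup.card_map_of_injective (MulAut.conj g).injective

/-- Conjugacy passes through a normal subgroup contained in both subgroups. -/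
theorem conj_of_quotient {G : Type w} [Group G] [Finite G] (N : Subgroup G) [N.Normal]
    {H K : Subgroup G} (hH : N ≤ H) (hK : N ≤ K) (hc : Nat.card H = Nat.card K)
    (ih : ∀ X Y : Subgroup (G ⧸ N), Nat.card X = Nat.card Y → Nat.card X * Nat.card N = Nat.card H →
      ∃ y, Y = conjG y X) :
    ∃ g : G, K = conjG g H := by
  let f := QuotientGroup.mk' N
  have hcard : ∀ X : Subgroup G, N ≤ X → Nat.card (X.map f) * Nat.card N = Nat.card X := by
    intro X hX
    have h1 : (X.map f).comap f = X := by
      rw [Subgroup.comap_map_eq, QuotientGroup.ker_mk', sup_eq_left.2 hX]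
    conv_rhs => rw [← h1]
    rw [mul_comm]
    exact (QuotientGroup.card_preimage_mk N ((X.map f) : Set (G ⧸ N))).symm
  obtain ⟨y, hy⟩ := ih (H.map f) (K.map f) (Nat.eq_of_mul_eq_mul_right Nat.card_pos
    (by rw [hcard H hH, hcard K hK, hc])) (hcard H hH)
  obtain ⟨g, rfl⟩ := QuotientGroup.mk'_surjective N y
  refine ⟨g, ?_⟩
  have h1 : (K.map f) = (conjG g H).map f := by
    rw [hy, conjG, conjG, Subgroup.map_map, Subgroup.map_map]
    congr 1
  have hN : N ≤ conjG g H := by
    intro x hx
    refine ⟨g⁻¹ * x * g, hH (by simpa using (inferInstance : N.Normal).conj_mem x hx g⁻¹), ?_⟩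
    simp [mul_assoc]
  have h2 := congrArg (Subgroup.comap f) h1
  rwa [Subgroup.comap_map_eq, Subgroup.comap_map_eq, QuotientGroup.ker_mk', sup_eq_left.2 hK,
    sup_eq_left.2 hN] at h2

/-- Conjugacy through a coprime solvable normal subgroup. -/
theorem conj_of_coprime {G : Type w} [Group G] [Finite G] (N : Subgroup G) [N.Normal]
    [Group.IsSolvable N] {H K : Subgroup G} (hcop : (Nat.card H).Coprime (Nat.card N))
    (hc : Nat.card H = Nat.card K)
    (ih : ∀ X Y : Subgroup (G ⧸ N), Nat.card X = Nat.card Y → Nat.card X ∣ Nat.card H →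
      ∃ y, Y = conjG y X) :
    ∃ g : G, K = conjG g H := by
  let f := QuotientGroup.mk' N
  have hcard : ∀ X : Subgroup G, (Nat.card X).Coprime (Nat.card N) →
      Nat.card (X.map f) = Nat.card X := by
    intro X hX
    refine (Nat.card_congr (Equiv.ofBijective (f.subgroupMap X)
      ⟨?_, MonoidHom.subgroupMap_surjective f X⟩)).symm
    rw [← MonoidHom.ker_eq_bot_iff, eq_bot_iff]
    intro x hx
    have hxN : (x : G) ∈ N := (QuotientGroup.eq_one_iff (x : G)).1 (congrArg Subtype.val hx)
    exact Subgroup.mem_bot.2 (Subtype.ext (orderOf_eq_one_iff.1 (Nat.eq_one_of_dvd_coprimes hX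
      (X.orderOf_dvd_natCard x.2) (N.orderOf_dvd_natCard hxN))))
  obtain ⟨y, hy⟩ := ih (H.map f) (K.map f) (by rw [hcard H hcop, hcard K (hc ▸ hcop), hc])
    (Subgroup.card_map_dvd _ _)
  obtain ⟨g, rfl⟩ := QuotientGroup.mk'_surjective N y
  have hB : K ≤ conjG g H ⊔ N := by
    have h2 : K.map f = (conjG g H).map f := by
      rw [hy, conjG, conjG, Subgroup.map_map, Subgroup.map_map]
      congr 1
    calc K ≤ K ⊔ N := le_sup_left
      _ = conjG g H ⊔ N := by
        have h3 := congrArg (Subgroup.comap f) h2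
        rwa [Subgroup.comap_map_eq, Subgroup.comap_map_eq, QuotientGroup.ker_mk'] at h3
  obtain ⟨k, -, hk⟩ := Cfsg.Agent.Lib.Coprime.exists_conj_eq_of_coprime (A := conjG g H) (B := K)
    (K := N) Subgroup.le_normalizer_of_normal (by rwa [card_conjG]) (Or.inr inferInstance) hB
    (by rw [card_conjG, hc])
  exact ⟨k * g, by rw [conjG_mul, ← hk, Cfsg.Agent.Lib.Coprime.conj_smul_eq_map]⟩

theorem cyclic_sylow_quotient {G : Type w} [Group G] [Finite G] (N : Subgroup G) [N.Normal] (r : ℕ)
    (hr : r.Prime) (h : ∀ S : Sylow r G, IsCyclic S) (T : Sylow r (G ⧸ N)) : IsCyclic T := by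
  haveI : Fact r.Prime := ⟨hr⟩
  obtain ⟨S, rfl⟩ := Sylow.mapSurjective_surjective (QuotientGroup.mk'_surjective N) r T
  haveI := h S
  exact isCyclic_of_surjective ((QuotientGroup.mk' N).subgroupMap (S : Subgroup G))
    (MonoidHom.subgroupMap_surjective _ _)

/-- Subgroups of equal order are conjugate when the relevant Sylow subgroups are cyclic. -/
theorem conj_of_cyclic (n : ℕ) : ∀ (G : Type w) [Group G] [Finite G] [Group.IsSolvable G],
    Nat.card G ≤ n → ∀ H K : Subgroup G, Nat.card H = Nat.card K →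
      (∀ q : ℕ, q.Prime → q ∣ Nat.card H → ∀ S : Sylow q G, IsCyclic S) →
        ∃ g : G, K = conjG g H := by
  induction n with
  | zero => intro G _ _ _ h; exact absurd (Nat.card_pos (α := G)) (by omega)
  | succ n ih =>
    intro G _ _ _ hn H K hc hcyc
    rcases subsingleton_or_nontrivial G with hs | hs
    · exact ⟨1, Subsingleton.elim _ _⟩
    obtain ⟨q, N, hq, hNn, hNne, -, hNq⟩ := Cfsg.Agent.Lib.Hall.exists_normal_abelian_pgroup (G := G)
    haveI := hNn
    haveI : Fact q.Prime := ⟨hq⟩
    have hq' : ∀ M : Subgroup G, M.Normal → M ≠ ⊥ → Nat.card (G ⧸ M) ≤ n := fun M hM hne => by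
      haveI := hM
      have := Cfsg.Agent.Lib.Hall.card_quotient_lt (N := M) hne
      omega
    by_cases hd : q ∣ Nat.card H
    · -- the subgroup of order `q` of `N`
      have hsyl : ∀ S : Sylow q G, IsCyclic S := hcyc q hq hd
      have hdN : q ∣ Nat.card N := by
        obtain ⟨j, hj⟩ := IsPGroup.iff_card.1 hNq
        rw [hj]
        refine dvd_pow_self q fun h0 => ?_
        rw [h0, pow_zero] at hj
        exact hNne (Subgroup.eq_bot_of_card_eq N hj)
      obtain ⟨z, hz⟩ := exists_prime_orderOf_dvd_card' q hdN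
      set Z := Subgroup.zpowers (z : G) with hZ
      have hZcard : Nat.card Z = q := by rw [hZ, Nat.card_zpowers, Subgroup.orderOf_coe, hz]
      obtain ⟨S, hS⟩ := hNq.exists_le_sylow
      have huniq : ∀ X : Subgroup G, Nat.card X = q → X ≤ N → X = Z := fun X hX hXN =>
        eq_of_card_eq_cyclic (hsyl S) (hXN.trans hS)
          ((Subgroup.zpowers_le.2 z.2).trans hS) (hX.trans hZcard.symm)
      haveI hZn : Z.Normal := by
        refine Subgroup.Normal.of_conjugate_fixed fun g => ?_
        show conjG g Z = Z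
        refine huniq _ (by rw [card_conjG, hZcard]) ?_
        rintro _ ⟨w, hw, rfl⟩
        exact hNn.conj_mem w ((Subgroup.zpowers_le.2 z.2) hw) g
      have hle : ∀ X : Subgroup G, q ∣ Nat.card X → Z ≤ X := by
        intro X hX
        obtain ⟨x, hx⟩ := exists_prime_orderOf_dvd_card' q hX
        have hxc : Nat.card (Subgroup.zpowers (x : G)) = q := by
          rw [Nat.card_zpowers, Subgroup.orderOf_coe, hx]
        obtain ⟨T, hT⟩ := (IsPGroup.of_card (n := 1) (hxc.trans (pow_one q).symm)).exists_le_sylow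
        obtain ⟨g, hg⟩ := MulAction.exists_smul_eq G S T
        have hZT : Z ≤ T := by
          rw [← hg, Sylow.coe_subgroup_smul]
          intro w hw
          refine Subgroup.mem_smul_pointwise_iff_exists _ _ _ |>.2
            ⟨g⁻¹ * w * g, hS ((Subgroup.zpowers_le.2 z.2) (by
              simpa using hZn.conj_mem w hw g⁻¹)), ?_⟩
          simp [MulAut.smul_def, mul_assoc]
        rw [← eq_of_card_eq_cyclic (hsyl T) hT hZT (hxc.trans hZcard.symm)]
        exact Subgroup.zpowers_le.2 x.2
      refine conj_of_quotient Z (hle H hd) (hle K (hc ▸ hd)) hc fun X Y hXY hX => ?_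
      refine ih (G ⧸ Z) (hq' Z hZn (fun h => by
        rw [h, Subgroup.card_bot] at hZcard; exact hq.ne_one hZcard.symm)) X Y hXY fun r hr hrd T => ?_
      exact cyclic_sylow_quotient Z r hr (hcyc r hr (hrd.trans (Dvd.intro _ hX))) T
    · haveI : Group.IsSolvable N := haveI := hNq.isNilpotent; inferInstance
      obtain ⟨j, hj⟩ := IsPGroup.iff_card.1 hNq
      refine conj_of_coprime N (hj ▸ Nat.Coprime.pow_right j (hq.coprime_iff_not_dvd.2 hd).symm) hc
        fun X Y hXY hX => ih (G ⧸ N) (hq' N hNn hNne) X Y hXY fun r hr hrd T => ?_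
      exact cyclic_sylow_quotient N r hr (hcyc r hr (hrd.trans hX)) T

/-- The main induction. -/
theorem mainAux (n : ℕ) : ∀ (G : Type w) [Group G] [Finite G] [Group.IsSolvable G],
    Nat.card G ≤ n → (∀ p : ℕ, p.Prime → SameOrderConj p G) →
      ∀ r : ℕ, (∀ p : ℕ, p.Prime → p ≠ r → ∀ P : Sylow p G, IsCyclic P) →
        ∀ H K : Subgroup G, Nat.card H = Nat.card K → ∃ g : G, K = conjG g H := by
  induction n with
  | zero => intro G _ _ _ h; exact absurd (Nat.card_pos (α := G)) (by omega)
  | succ n ih =>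
    intro G _ _ _ hn hD r hcyc H K hc
    rcases subsingleton_or_nontrivial G with hs | hs
    · exact ⟨1, Subsingleton.elim _ _⟩
    obtain ⟨p, N, hp, hNn, hNne, -, hNp⟩ := Cfsg.Agent.Lib.Hall.exists_normal_abelian_pgroup (G := G)
    haveI := hNn
    haveI : Fact p.Prime := ⟨hp⟩
    haveI : Group.IsSolvable N := haveI := hNp.isNilpotent; inferInstance
    -- induction on quotients
    have ihq : ∀ (M : Subgroup G) [M.Normal], M ≠ ⊥ →
        ∀ X Y : Subgroup (G ⧸ M), Nat.card X = Nat.card Y → ∃ y, Y = conjG y X := by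
      intro M _ hM
      have := Cfsg.Agent.Lib.Hall.card_quotient_lt (N := M) hM
      refine ih (G ⧸ M) (by omega) (fun q hq => ?_) r fun q hq hqr T =>
        cyclic_sylow_quotient M q hq (hcyc q hq hqr) T
      haveI : Fact q.Prime := ⟨hq⟩
      exact sameOrderConj_quotient (hD q hq) M
    obtain ⟨a, ha⟩ := IsPGroup.iff_card.1 hNp
    have hsyl : ∀ X : Subgroup G, ∃ Y : Subgroup G, Y ≤ X ∧ IsPGroup p Y ∧
        Nat.card Y = p ^ (Nat.card X).factorization p := by
      intro X
      obtain ⟨S⟩ : Nonempty (Sylow p X) := inferInstance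
      exact ⟨(S : Subgroup X).map X.subtype, Subgroup.map_subtype_le _, S.isPGroup'.map _,
        by rw [Subgroup.card_map_of_injective X.subtype_injective, S.card_eq_multiplicity]⟩
    obtain ⟨BH, hBH, hBHp, hBHc⟩ := hsyl H
    obtain ⟨BK, hBK, hBKp, hBKc⟩ := hsyl K
    by_cases hbig : a ≤ (Nat.card H).factorization p
    · -- `N` lies in both
      have h1 : Nat.card N ≤ Nat.card BH := by
        rw [ha, hBHc]; exact Nat.pow_le_pow_right hp.pos hbig
      have h2 : Nat.card N ≤ Nat.card BK := by
        rw [ha, hBKc, ← hc]; exact Nat.pow_le_pow_right hp.pos hbig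
      exact conj_of_quotient N ((ge_of_card_le (hD p hp) hNp hBHp h1).trans hBH)
        ((ge_of_card_le (hD p hp) hNp hBKp h2).trans hBK) hc fun X Y hXY _ => ihq N hNne X Y hXY
    push Not at hbig
    have hBN : ∀ X B : Subgroup G, B ≤ X → IsPGroup p B →
        Nat.card B = p ^ (Nat.card X).factorization p →
        (Nat.card X).factorization p ≤ a → B = X ⊓ N := by
      intro X B hBX hBp hBc hle
      have hBleN : B ≤ N := le_of_card_le (hD p hp) hNp hBp
        (by rw [hBc, ha]; exact Nat.pow_le_pow_right hp.pos hle)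
      refine Subgroup.eq_of_le_of_card_ge (le_inf hBX hBleN) ?_
      obtain ⟨i, hi⟩ := IsPGroup.iff_card.1 (hNp.to_le (inf_le_right : X ⊓ N ≤ N))
      have h3 : p ^ i ∣ Nat.card X := hi ▸ Subgroup.card_dvd_of_le inf_le_left
      rw [hi, hBc]
      exact Nat.pow_le_pow_right hp.pos
        ((hp.pow_dvd_iff_le_factorization Nat.card_pos.ne').1 h3)
    have eH := hBN H BH hBH hBHp hBHc hbig.le
    have eK := hBN K BK hBK hBKp hBKc (hc ▸ hbig.le)
    rcases Nat.eq_zero_or_pos ((Nat.card H).factorization p) with h0 | hpos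
    · -- coprime to `N`
      refine conj_of_coprime N ?_ hc fun X Y hXY _ => ihq N hNne X Y hXY
      rw [ha]
      refine Nat.Coprime.pow_right a (hp.coprime_iff_not_dvd.2 fun hd => ?_).symm
      exact absurd h0 (hp.factorization_pos_of_dvd Nat.card_pos.ne' hd).ne'
    have hBne : BH ≠ ⊥ := fun h => by
      rw [h, Subgroup.card_bot] at hBHc
      exact (Nat.one_lt_pow hpos.ne' hp.one_lt).ne hBHc
    have hBHK : Nat.card BH = Nat.card BK := by rw [hBHc, hBKc, hc]
    by_cases hpr : p = r
    swap
    · -- `N` is cyclic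
      obtain ⟨S, hS⟩ := hNp.exists_le_sylow
      have hScyc := hcyc p hp hpr S
      have heq : BH = BK :=
        eq_of_card_eq_cyclic hScyc ((eH.le.trans inf_le_right).trans hS)
          ((eK.le.trans inf_le_right).trans hS) hBHK
      haveI : BH.Normal := by
        refine Subgroup.Normal.of_conjugate_fixed fun g => ?_
        show conjG g BH = BH
        refine eq_of_card_eq_cyclic hScyc ?_ ((eH.le.trans inf_le_right).trans hS) (card_conjG g BH)
        rintro _ ⟨w, hw, rfl⟩
        exact hS (hNn.conj_mem w ((eH.le.trans inf_le_right) hw) g)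
      exact conj_of_quotient BH hBH (heq ▸ hBK) hc fun X Y hXY _ => ihq BH hBne X Y hXY
    subst hpr
    -- align the `p`-parts
    obtain ⟨g₀, hg₀⟩ := hD p hp BH BK hBHp hBKp hBHK
    set H' := conjG g₀ H with hH'
    have hcH' : Nat.card H' = Nat.card K := by rw [hH', card_conjG, hc]
    set M := Subgroup.normalizer (BK : Set G) with hM
    have hKM : K ≤ M := by
      intro x hx
      rw [hM, Subgroup.mem_normalizer_iff]
      intro w
      rw [eK]
      constructor
      · exact fun hw => ⟨Subgroup.mul_mem _ (Subgroup.mul_mem _ hx hw.1) (Subgroup.inv_mem _ hx), hNn.conj_mem w hw.2 x⟩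
      · intro hw
        refine ⟨?_, ?_⟩
        · have := Subgroup.mul_mem _ (Subgroup.mul_mem _ (Subgroup.inv_mem _ hx) hw.1) hx
          simpa [mul_assoc] using this
        · have := hNn.conj_mem _ hw.2 x⁻¹
          simpa [mul_assoc] using this
    have hH'M : H' ≤ M := by
      have hBK' : BK = H' ⊓ N := by
        rw [hg₀, eH]
        show conjG g₀ (H ⊓ N) = _
        rw [conjG, Subgroup.map_inf _ _ _ (MulAut.conj g₀).injective, hH']
        congr 1
        exact hNn.conjAct (ConjAct.toConjAct g₀)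
      intro x hx
      rw [hM, Subgroup.mem_normalizer_iff]
      intro w
      rw [hBK']
      constructor
      · exact fun hw => ⟨Subgroup.mul_mem _ (Subgroup.mul_mem _ hx hw.1) (Subgroup.inv_mem _ hx), hNn.conj_mem w hw.2 x⟩
      · intro hw
        refine ⟨?_, ?_⟩
        · have := Subgroup.mul_mem _ (Subgroup.mul_mem _ (Subgroup.inv_mem _ hx) hw.1) hx
          simpa [mul_assoc] using this
        · have := hNn.conj_mem _ hw.2 x⁻¹
          simpa [mul_assoc] using this
    -- work in the quotient of `M` by `BK`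
    haveI hBn : (BK.subgroupOf M).Normal := Subgroup.normal_in_normalizer
    have hBM : BK ≤ M := Subgroup.le_normalizer
    have hsub : ∀ X : Subgroup G, X ≤ M → Nat.card (X.subgroupOf M) = Nat.card X := fun X hX =>
      Nat.card_congr (Subgroup.subgroupOfEquivOfLe hX).toEquiv
    have hBH' : BK ≤ H' := hg₀ ▸ Subgroup.map_mono hBH
    obtain ⟨g, hg⟩ := conj_of_quotient (BK.subgroupOf M) (H := H'.subgroupOf M) (K := K.subgroupOf M)
      (fun x hx => hBH' hx)
      (fun x hx => hBK hx)
      (by rw [hsub H' hH'M, hsub K hKM, hcH'])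
      (fun X Y hXY hX => by
        refine conj_of_cyclic _ (M ⧸ BK.subgroupOf M) le_rfl X Y hXY fun q hq hqd T => ?_
        refine cyclic_sylow_quotient _ q hq (fun S => ?_) T
        have hqp : q ≠ p := by
          rintro rfl
          have h1 : q ^ ((Nat.card H).factorization q + 1) ∣ Nat.card H := by
            rw [hsub H' hH'M, hsub BK hBM, hBKc, ← hc, hH', card_conjG] at hX
            conv_rhs => rw [← hX, mul_comm]
            rw [pow_succ]
            exact mul_dvd_mul_left _ hqd
          exact Nat.pow_succ_factorization_not_dvd Nat.card_pos.ne' hp h1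
        haveI : Fact q.Prime := ⟨hq⟩
        obtain ⟨U, hU⟩ := (S.isPGroup'.map M.subtype).exists_le_sylow
        haveI := hcyc q hq hqp U
        haveI : IsCyclic ((S : Subgroup M).map M.subtype) := Subgroup.isCyclic_of_le hU
        exact isCyclic_of_surjective
          ((S : Subgroup M).equivMapOfInjective M.subtype M.subtype_injective).symm.toMonoidHom
          ((S : Subgroup M).equivMapOfInjective M.subtype M.subtype_injective).symm.surjective)
    refine ⟨(g : G) * g₀, ?_⟩
    rw [conjG_mul, ← hH']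
    have h2 := congrArg (Subgroup.map M.subtype) hg
    rw [Subgroup.subgroupOf_map_subtype, inf_eq_left.2 hKM, conjG, Subgroup.map_map] at h2
    rw [h2, show M.subtype.comp (MulAut.conj g).toMonoidHom
      = (MulAut.conj (g : G)).toMonoidHom.comp M.subtype from MonoidHom.ext fun _ => rfl,
      ← Subgroup.map_map, Subgroup.subgroupOf_map_subtype, inf_eq_left.2 hH'M]

/-- Let G be a finite solvable group in which, for every prime p, any two p-subgroups of the same order are conjugate, and suppose the Sylow p-subgroups of G are cyclic for all primes p with at most one exception. Then any two subgroups of G of the same order are conjugate. -/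
theorem result {G : Type*} [Group G] [Finite G]
    [Group.IsSolvable G] (hD : ∀ p : ℕ, p.Prime → ∀ H K : Subgroup G, IsPGroup p H → IsPGroup p K → Nat.card H = Nat.card K →
      ∃ g : G, K = H.map (MulAut.conj g).toMonoidHom)
    (r : ℕ) (hcyc : ∀ p : ℕ, p.Prime → p ≠ r → ∀ P : Sylow p G, IsCyclic P) :
    ∀ H K : Subgroup G, Nat.card H = Nat.card K → ∃ g : G, K = H.map (MulAut.conj g).toMonoidHom := by
  exact mainAux (Nat.card G) G le_rfl hD r hcyc

end Cfsg.Agent.S4022
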