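import Cfsg.Statements.S4023
import Cfsg.Agent.Lib.PGroups.UniqueInvolution
import Cfsg.Agent.Lib.Coprime.Conjugacy
import Cfsg.Agent.Lib.Elem70.EqualOrder

set_option autoImplicit false
open Cfsg

namespace Cfsg.Agent.S4023

open Cfsg.Agent.Lib.Elem70.EqualOrder
open scoped commutatorElement

/-- A cyclic subgroup of prime order meets a subgroup not containing it trivially. -/
theorem inf_zpowers_eq_bot {P : Type*} [Group P] {p : ℕ} [Fact p.Prime] {x : P} (ho : orderOf x = p)
    {S : Subgroup P} (hx : x ∉ S) : Subgroup.zpowers x ⊓ S = ⊥ := by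
  have hp : p.Prime := Fact.out
  rw [eq_bot_iff]
  intro w hw
  obtain ⟨⟨k, rfl⟩, hwS⟩ := hw
  by_cases hk : (p : ℤ) ∣ k
  · obtain ⟨m, rfl⟩ := hk
    refine Subgroup.mem_bot.2 ?_
    show x ^ ((p : ℤ) * m) = 1
    rw [zpow_mul, zpow_natCast, orderOf_dvd_iff_pow_eq_one.1 ho.dvd, one_zpow]
  · exfalso
    obtain ⟨a, b, hab⟩ := ((Nat.prime_iff_prime_int.mp hp).coprime_iff_not_dvd.mpr hk)
    apply hx
    have h1 : x = (x ^ k) ^ b := by
      rw [← zpow_mul]
      conv_lhs => rw [← zpow_one x, ← hab, zpow_add, mul_comm a, zpow_mul, zpow_natCast,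
        orderOf_dvd_iff_pow_eq_one.1 ho.dvd, one_zpow, one_mul, mul_comm b]
    exact h1 ▸ S.zpow_mem hwS b

/-- In a group of exponent `p` that is not commutative there is a non-abelian subgroup of order
`p ^ 3`. -/
theorem exists_heisenberg {P : Type*} [Group P] [Finite P] {p : ℕ} [Fact p.Prime]
    (hP : IsPGroup p P) (hexp : ∀ x : P, x ^ p = 1) (hna : ¬ IsMulCommutative P) :
    ∃ H : Subgroup P, Nat.card H = p ^ 3 ∧ ¬ IsMulCommutative H := by
  have hord : ∀ x : P, x ≠ 1 → orderOf x = p := fun x hx => orderOf_eq_prime (hexp x) hx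
  haveI : Nontrivial (P ⧸ Subgroup.center P) := QuotientGroup.nontrivial_iff.2 fun h =>
    hna ⟨⟨fun a b => Subgroup.mem_center_iff.1 (h.symm ▸ Subgroup.mem_top b) a⟩⟩
  haveI := (hP.to_quotient (Subgroup.center P)).center_nontrivial
  obtain ⟨⟨yb, hyb⟩, hy1⟩ := exists_ne (1 : Subgroup.center (P ⧸ Subgroup.center P))
  obtain ⟨y, rfl⟩ := QuotientGroup.mk'_surjective (Subgroup.center P) yb
  have hyc : y ∉ Subgroup.center P := fun h => hy1 (Subtype.ext ((QuotientGroup.eq_one_iff y).2 h))
  obtain ⟨x, hxy⟩ : ∃ x, x * y ≠ y * x := by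
    by_contra h
    exact hyc (Subgroup.mem_center_iff.2 fun g => by_contra fun hne => h ⟨g, hne⟩)
  set c := ⁅x, y⁆ with hc
  have hcz : c ∈ Subgroup.center P := by
    rw [← QuotientGroup.eq_one_iff]
    show QuotientGroup.mk' (Subgroup.center P) c = 1
    rw [hc, map_commutatorElement, commutatorElement_eq_one_iff_mul_comm]
    exact Subgroup.mem_center_iff.1 hyb _
  have hc1 : c ≠ 1 := fun h => hxy (commutatorElement_eq_one_iff_mul_comm.1 h)
  have hx1 : x ≠ 1 := fun h => hxy (by simp [h])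
  have hy1' : y ≠ 1 := fun h => hxy (by simp [h])
  have hycz : Subgroup.zpowers y ≤ Subgroup.normalizer (Subgroup.zpowers c : Set P) := by
    rw [Subgroup.zpowers_le, Subgroup.mem_normalizer_iff]
    intro w
    constructor
    · intro hw
      rw [Subgroup.mem_center_iff.1 (Subgroup.zpowers_le.2 hcz hw) y, mul_inv_cancel_right]
      exact hw
    · intro hw
      have h1 := Subgroup.mem_center_iff.1 (Subgroup.zpowers_le.2 hcz hw) y
      have : w = y * w * y⁻¹ := by
        calc w = y⁻¹ * ((y * w * y⁻¹) * y) := by group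
          _ = y⁻¹ * (y * (y * w * y⁻¹)) := by rw [h1]
          _ = y * w * y⁻¹ := by group
      exact this ▸ hw
  have hyb' : Subgroup.zpowers y ⊓ Subgroup.zpowers c = ⊥ :=
    inf_zpowers_eq_bot (hord y hy1') fun h => hyc (Subgroup.zpowers_le.2 hcz h)
  set E := Subgroup.zpowers y ⊔ Subgroup.zpowers c with hE
  have hEcard : Nat.card E = p * p := by
    rw [hE, Cfsg.Agent.Lib.Coprime.card_sup_of_disjoint hycz (disjoint_iff.2 hyb'), Nat.card_zpowers,
      Nat.card_zpowers, hord y hy1', hord c hc1]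
  have hxE : Subgroup.zpowers x ≤ Subgroup.normalizer (E : Set P) := by
    rw [Subgroup.zpowers_le]
    have hle : E.map (MulAut.conj x).toMonoidHom ≤ E := by
      rw [hE, Subgroup.map_sup, MonoidHom.map_zpowers, MonoidHom.map_zpowers]
      refine sup_le ?_ ?_ <;> rw [Subgroup.zpowers_le]
      · show x * y * x⁻¹ ∈ _
        rw [show x * y * x⁻¹ = ⁅x, y⁆ * y by rw [commutatorElement_def]; group, ← hc]
        exact mul_mem (Subgroup.mem_sup_right (Subgroup.mem_zpowers c))
          (Subgroup.mem_sup_left (Subgroup.mem_zpowers y))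
      · show x * c * x⁻¹ ∈ _
        rw [Subgroup.mem_center_iff.1 hcz x, mul_inv_cancel_right]
        exact Subgroup.mem_sup_right (Subgroup.mem_zpowers c)
    have heq := Subgroup.eq_of_le_of_card_ge hle (le_of_eq
      (Subgroup.card_map_of_injective (MulAut.conj x).injective).symm)
    rw [Subgroup.mem_normalizer_iff]
    intro w
    constructor
    · intro hw; exact hle ⟨w, hw, rfl⟩
    · intro hw
      rw [← heq] at hw
      obtain ⟨v, hv, hvw⟩ := hw
      have : v = w := by simpa using hvw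
      exact this ▸ hv
  have hxbot : Subgroup.zpowers x ⊓ E = ⊥ := by
    refine inf_zpowers_eq_bot (hord x hx1) fun h => hxy ?_
    have hC : E ≤ Subgroup.centralizer {y} := sup_le
      (Subgroup.zpowers_le.2 (Subgroup.mem_centralizer_singleton_iff.2 rfl))
      (Subgroup.zpowers_le.2 (Subgroup.mem_centralizer_singleton_iff.2
        (Subgroup.mem_center_iff.1 hcz y).symm))
    exact Subgroup.mem_centralizer_singleton_iff.1 (hC h)
  refine ⟨Subgroup.zpowers x ⊔ E, ?_, fun h => hxy ?_⟩
  · rw [Cfsg.Agent.Lib.Coprime.card_sup_of_disjoint hxE (disjoint_iff.2 hxbot), hEcard, Nat.card_zpowers, hord x hx1]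
    ring
  · exact congrArg Subtype.val (h.is_comm.comm
      (⟨x, Subgroup.mem_sup_left (Subgroup.mem_zpowers x)⟩ : (Subgroup.zpowers x ⊔ E : Subgroup P))
      ⟨y, Subgroup.mem_sup_right (Subgroup.mem_sup_left (Subgroup.mem_zpowers y))⟩)

/-- In `Q_{4m}` with `4 ∣ m` the subgroups of order `8` are not all isomorphic. -/
theorem quaternion_two {n : ℕ} (hn : 1 ≤ n)
    (hiso : ∀ H K : Subgroup (QuaternionGroup (2 ^ n)), Nat.card H = Nat.card K →
      IsCyclic H → IsCyclic K) : n = 1 := by
  by_contra hne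
  haveI : Fact (Nat.Prime 2) := ⟨Nat.prime_two⟩
  obtain ⟨m, rfl⟩ : ∃ m, n = m + 2 := ⟨n - 2, by omega⟩
  let w : QuaternionGroup (2 ^ (m + 2)) := QuaternionGroup.a 1 ^ 2 ^ m
  have hw : Nat.card (Subgroup.zpowers w) = 2 ^ 3 := by
    rw [Nat.card_zpowers, orderOf_pow_of_dvd (by positivity) (by
      rw [QuaternionGroup.orderOf_a_one, ← pow_succ']; exact pow_dvd_pow 2 (by omega)),
      QuaternionGroup.orderOf_a_one, ← pow_succ', Nat.pow_div (by omega) (by norm_num),
      show m + 2 + 1 - m = 3 by omega]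
  obtain ⟨H, hH, hle⟩ := Sylow.exists_subgroup_card_pow_succ (p := 2) (n := 2)
    (H := Subgroup.zpowers (QuaternionGroup.xa (0 : ZMod (2 * 2 ^ (m + 2)))))
    (by
      rw [Nat.card_eq_fintype_card, QuaternionGroup.card,
        show 4 * 2 ^ (m + 2) = 2 ^ (m + 4) by rw [pow_add, pow_add]; ring]
      exact pow_dvd_pow 2 (by omega))
    (by rw [Nat.card_zpowers, QuaternionGroup.orderOf_xa]; rfl)
  obtain ⟨g, hg⟩ := (H.isCyclic_iff_exists_zpowers_eq_top).1
    (hiso (Subgroup.zpowers w) H (hw.trans hH.symm) inferInstance)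
  have hgo : orderOf g = 8 := by rw [← Nat.card_zpowers, hg, hH]; rfl
  rcases g with i | i
  · have hxa : QuaternionGroup.xa (0 : ZMod (2 * 2 ^ (m + 2))) ∈ Subgroup.zpowers (QuaternionGroup.a i) :=
      hg.symm ▸ hle (Subgroup.mem_zpowers _)
    have hR : Subgroup.zpowers (QuaternionGroup.a i) ≤
        Subgroup.zpowers (QuaternionGroup.a (1 : ZMod (2 * 2 ^ (m + 2)))) := by
      haveI : NeZero (2 * 2 ^ (m + 2)) := ⟨by positivity⟩
      rw [Subgroup.zpowers_le]
      exact ⟨(i.val : ℤ), by simp only [zpow_natCast, QuaternionGroup.a_one_pow, ZMod.natCast_zmod_val]⟩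
    obtain ⟨j, hj⟩ := (mem_powers_iff_mem_zpowers).2 (hR hxa)
    simp only [QuaternionGroup.a_one_pow] at hj
    exact absurd hj (by simp)
  · rw [QuaternionGroup.orderOf_xa] at hgo
    omega

/-- Let p be a prime and G a finite group in which any two p-subgroups of the same order are conjugate, with Sylow p-subgroup P. Then P is cyclic, or elementary abelian, or p = 2 and P is a quaternion group of order 8, or p is odd and P is non-abelian of order p³ and exponent p. -/
theorem result {G : Type*} [Group G] [Finite G]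
    {p : ℕ} [Fact p.Prime] (hC : ∀ H K : Subgroup G, IsPGroup p H → IsPGroup p K → Nat.card H = Nat.card K →
      ∃ g : G, K = H.map (MulAut.conj g).toMonoidHom) (P : Sylow p G) :
    IsCyclic P ∨ Cfsg.IsElementaryAbelian p (P : Subgroup G) ∨
      (p = 2 ∧ Nonempty ((P : Subgroup G) ≃* QuaternionGroup 2)) ∨
      (p ≠ 2 ∧ ¬ IsMulCommutative P ∧ Nat.card P = p ^ 3 ∧ Monoid.exponent P = p) := by
  have hp : p.Prime := Fact.out
  have hC' : SameOrderConj p G := hC
  have hiso : ∀ H K : Subgroup (P : Subgroup G), Nat.card H = Nat.card K → Nonempty (H ≃* K) := by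
    intro H K hHK
    obtain ⟨g, hg⟩ := hC (H.map (P : Subgroup G).subtype) (K.map (P : Subgroup G).subtype)
      ((P.isPGroup'.to_subgroup H).map _) ((P.isPGroup'.to_subgroup K).map _)
      (by rw [Subgroup.card_map_of_injective (P : Subgroup G).subtype_injective,
        Subgroup.card_map_of_injective (P : Subgroup G).subtype_injective, hHK])
    exact ⟨(H.equivMapOfInjective _ (P : Subgroup G).subtype_injective).trans
      (((Subgroup.map (P : Subgroup G).subtype H).equivMapOfInjective _ (MulAut.conj g).injective).trans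
        ((MulEquiv.subgroupCongr hg.symm).trans
          (K.equivMapOfInjective _ (P : Subgroup G).subtype_injective).symm))⟩
  by_cases hu : ∀ x y : (P : Subgroup G), orderOf x = p → orderOf y = p → y ∈ Subgroup.zpowers x
  · rcases Cfsg.Agent.Lib.PGroups.isCyclic_or_quaternion P.isPGroup' hu with h | ⟨hp2, n, hn, ⟨e⟩⟩
    · exact Or.inl h
    · refine Or.inr (Or.inr (Or.inl ⟨hp2, ?_⟩))
      have hn1 : n = 1 := quaternion_two hn fun H K hHK hH => by
        obtain ⟨f⟩ := hiso (H.map e.symm.toMonoidHom) (K.map e.symm.toMonoidHom) (by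
          rw [Subgroup.card_map_of_injective e.symm.injective,
            Subgroup.card_map_of_injective e.symm.injective, hHK])
        have f' := ((H.equivMapOfInjective e.symm.toMonoidHom e.symm.injective).trans
          (f.trans (K.equivMapOfInjective e.symm.toMonoidHom e.symm.injective).symm))
        exact isCyclic_of_surjective f'.toMonoidHom f'.surjective
      subst hn1
      rw [pow_one] at e
      exact ⟨e⟩
  push Not at hu
  obtain ⟨x₁, x₂, hx₁, hx₂, hne⟩ := hu
  haveI : Nontrivial (P : Subgroup G) := ⟨⟨x₁, 1, fun h => hp.ne_one (by rw [← hx₁, h, orderOf_one])⟩⟩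
  haveI := P.isPGroup'.center_nontrivial
  obtain ⟨k, hk⟩ := IsPGroup.iff_card.1 (P.isPGroup'.to_subgroup (Subgroup.center (P : Subgroup G)))
  have hdz : p ∣ Nat.card (Subgroup.center (P : Subgroup G)) := by
    rw [hk]
    refine dvd_pow_self p fun h0 => ?_
    have := Finite.one_lt_card (α := Subgroup.center (P : Subgroup G))
    rw [hk, h0, pow_zero] at this
    omega
  obtain ⟨z', hz'⟩ := exists_prime_orderOf_dvd_card' p hdz
  set z : (P : Subgroup G) := z'.1 with hz
  have hzo : orderOf z = p := by rw [hz, Subgroup.orderOf_coe, hz']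
  have hzc : z ∈ Subgroup.center (P : Subgroup G) := z'.2
  obtain ⟨x, hxo, hxz⟩ : ∃ x : (P : Subgroup G), orderOf x = p ∧ x ∉ Subgroup.zpowers z := by
    by_contra hcon
    push Not at hcon
    have e1 : Subgroup.zpowers x₁ = Subgroup.zpowers z :=
      Subgroup.eq_of_le_of_card_ge (Subgroup.zpowers_le.2 (hcon x₁ hx₁))
        (by rw [Nat.card_zpowers, Nat.card_zpowers, hx₁, hzo])
    exact hne (e1.symm ▸ hcon x₂ hx₂)
  -- `⟨z, x⟩` is elementary of order `p²`
  set E := Subgroup.zpowers z ⊔ Subgroup.zpowers x with hE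
  have hcomm : ∀ a ∈ ({z, x} : Set (P : Subgroup G)), ∀ b ∈ ({z, x} : Set (P : Subgroup G)),
      a * b = b * a := by
    intro a ha b hb
    rcases ha with ha | ha <;> rcases hb with hb | hb <;> rw [ha, hb]
    · exact (Subgroup.mem_center_iff.1 hzc _).symm
    · exact Subgroup.mem_center_iff.1 hzc _
  have hEe : Cfsg.IsElementaryAbelian p E := by
    have hEcl : E = Subgroup.closure {z, x} := by
      rw [hE, Subgroup.zpowers_eq_closure, Subgroup.zpowers_eq_closure, ← Subgroup.closure_union]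
      rfl
    rw [hEcl]
    exact Cfsg.Agent.Lib.PGroups.elemAb_closure hcomm (fun a ha => by
      rcases ha with ha | ha
      · rw [ha]; exact orderOf_dvd_iff_pow_eq_one.1 hzo.dvd
      · rw [Set.mem_singleton_iff.1 ha]; exact orderOf_dvd_iff_pow_eq_one.1 hxo.dvd)
  have hEcard : Nat.card E = p ^ 2 := by
    rw [hE, sup_comm, Cfsg.Agent.Lib.Coprime.card_sup_of_disjoint, Nat.card_zpowers,
      Nat.card_zpowers, hxo, hzo, sq]
    · rw [Subgroup.zpowers_le, Subgroup.mem_normalizer_iff]
      intro w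
      constructor
      · intro hw
        rw [Subgroup.mem_center_iff.1 (Subgroup.zpowers_le.2 hzc hw) x, mul_inv_cancel_right]
        exact hw
      · intro hw
        have h1 := Subgroup.mem_center_iff.1 (Subgroup.zpowers_le.2 hzc hw) x
        have : w = x * w * x⁻¹ := by
          calc w = x⁻¹ * ((x * w * x⁻¹) * x) := by group
            _ = x⁻¹ * (x * (x * w * x⁻¹)) := by rw [h1]
            _ = x * w * x⁻¹ := by group
        exact this ▸ hw
    · exact disjoint_iff.2 (inf_zpowers_eq_bot hxo hxz)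
  -- hence exponent `p`
  have hexp : ∀ y : (P : Subgroup G), y ^ p = 1 := by
    intro y
    obtain ⟨j, hj⟩ : ∃ j, orderOf y = p ^ j := IsPGroup.iff_orderOf.1 P.isPGroup' y
    rcases Nat.lt_or_ge j 2 with hlt | hge
    · exact orderOf_dvd_iff_pow_eq_one.1 (hj ▸ (pow_dvd_pow p (show j ≤ 1 by omega)).trans (by rw [pow_one]))
    · exfalso
      set w := y ^ p ^ (j - 2)
      have hwo : orderOf w = p ^ 2 := by
        rw [orderOf_pow_of_dvd (pow_ne_zero _ hp.ne_zero) (hj ▸ pow_dvd_pow p (by omega)), hj,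
          Nat.pow_div (by omega) hp.pos, show j - (j - 2) = 2 by omega]
      obtain ⟨f⟩ := hiso E (Subgroup.zpowers w) (by rw [hEcard, Nat.card_zpowers, hwo])
      have h1 : (f.symm ⟨w, Subgroup.mem_zpowers w⟩) ^ p = 1 :=
        Subtype.ext (hEe.2 _ (f.symm ⟨w, Subgroup.mem_zpowers w⟩).2)
      have h2 : (⟨w, Subgroup.mem_zpowers w⟩ : Subgroup.zpowers w) ^ p = 1 := by
        rw [← f.apply_symm_apply ⟨w, Subgroup.mem_zpowers w⟩, ← map_pow, h1, map_one]
      have h3 := orderOf_dvd_of_pow_eq_one (show w ^ p = 1 from congrArg Subtype.val h2)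
      rw [hwo] at h3
      have h4 := Nat.le_of_dvd hp.pos h3
      have h5 := hp.two_le
      nlinarith
  by_cases hcommP : IsMulCommutative (P : Subgroup G)
  · exact Or.inr (Or.inl ⟨hcommP, fun a ha => congrArg Subtype.val (hexp ⟨a, ha⟩)⟩)
  have hp2 : p ≠ 2 := by
    rintro rfl
    refine hcommP ⟨⟨fun a b => ?_⟩⟩
    have inv : ∀ c : (P : Subgroup G), c⁻¹ = c := fun c =>
      inv_eq_of_mul_eq_one_right (by rw [← pow_two, hexp])
    calc a * b = (a * b)⁻¹ := (inv _).symm
      _ = b⁻¹ * a⁻¹ := mul_inv_rev a b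
      _ = b * a := by rw [inv, inv]
  refine Or.inr (Or.inr (Or.inr ⟨hp2, hcommP, ?_, ?_⟩))
  · -- order `p ^ 3`
    obtain ⟨H, hH, hHna⟩ := exists_heisenberg P.isPGroup' hexp hcommP
    have hlow : p ^ 3 ≤ Nat.card P := hH ▸ Subgroup.card_le_card_group H
    refine le_antisymm ?_ hlow
    obtain ⟨A, -, hAn, hA, hmax⟩ := Cfsg.Agent.Lib.PGroups.exists_maximal_normal_abelian
      (⊥ : Subgroup (P : Subgroup G)) (Subgroup.le_centralizer_iff_isMulCommutative.mp (by simp))
    haveI := hAn
    obtain ⟨a, ha⟩ := IsPGroup.iff_card.1 (P.isPGroup'.to_subgroup A)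
    have ha2 : a ≤ 2 := by
      by_contra h3
      obtain ⟨A₀, hA₀, -⟩ := Sylow.exists_subgroup_card_pow_prime_le p (G := A) (n := 0) (m := 3)
        (ha ▸ pow_dvd_pow p (by omega)) ⊥ (by simp) (Nat.zero_le 3)
      obtain ⟨f⟩ := hiso (A₀.map A.subtype) H
        (by rw [Subgroup.card_map_of_injective A.subtype_injective, hA₀, hH])
      refine hHna ⟨⟨fun u v => f.symm.injective ?_⟩⟩
      rw [map_mul, map_mul]
      refine Subtype.ext ?_
      show (f.symm u).1 * (f.symm v).1 = (f.symm v).1 * (f.symm u).1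
      exact congrArg Subtype.val (hA.is_comm.comm
        (⟨_, Subgroup.map_subtype_le A₀ (f.symm u).2⟩ : A) ⟨_, Subgroup.map_subtype_le A₀ (f.symm v).2⟩)
    refine (Cfsg.Agent.Lib.PGroups.card_le_of_centralizer_le P.isPGroup'
      (Cfsg.Agent.Lib.PGroups.centralizer_eq_self_of_maximal P.isPGroup' hA hmax).le ha).trans
      (Nat.pow_le_pow_right hp.pos ?_)
    interval_cases a <;> decide
  · rcases (Nat.dvd_prime hp).1 (Monoid.exponent_dvd_of_forall_pow_eq_one hexp) with h | h
    · exfalso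
      have : x₁ = 1 := by
        have := Monoid.pow_exponent_eq_one x₁
        rwa [h, pow_one] at this
      rw [this, orderOf_one] at hx₁
      exact hp.ne_one hx₁.symm
    · exact h

end Cfsg.Agent.S4023
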