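import Cfsg.Statements.S4024
import Cfsg.Agent.S4023
import Cfsg.Agent.Lib.PSolvable.Basic
import Cfsg.Agent.Lib.Cores.Basic
import Cfsg.Agent.Lib.Elem70.EqualOrder

set_option autoImplicit false
open Cfsg

namespace Cfsg.Agent.S4024

open Cfsg.Agent.Lib.Elem70.EqualOrder

/-- The exponent `p`, order `p ^ 3` case is impossible when there is a normal `p`-subgroup `≠ ⊥`. -/
theorem no_heisenberg {G : Type*} [Group G] [Finite G] {p : ℕ} [Fact p.Prime]
    (h : SameOrderConj p G) (M : Subgroup G) [M.Normal] (hM : IsPGroup p M) (hMne : M ≠ ⊥)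
    (S : Sylow p G) (hna : ¬ IsMulCommutative (S : Subgroup G))
    (hexp : ∀ x ∈ (S : Subgroup G), x ^ p = 1) : False := by
  have hp : p.Prime := Fact.out
  obtain ⟨k, hk⟩ := IsPGroup.iff_card.1 hM
  have hk0 : k ≠ 0 := by
    rintro rfl
    exact hMne (Subgroup.eq_bot_of_card_eq M (by simpa using hk))
  -- every element of `S` lies in `M`
  have hSM : (S : Subgroup G) = M := by
    refine le_antisymm (fun x hx => ?_) (ge_of_card_le h hM S.isPGroup' ?_)
    · rcases eq_or_ne x 1 with rfl | hx1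
      · exact one_mem M
      refine le_of_card_le h hM (S.isPGroup'.to_le (Subgroup.zpowers_le.2 hx)) ?_
        (Subgroup.mem_zpowers x)
      rw [Nat.card_zpowers, orderOf_eq_prime (hexp x hx) hx1, hk]
      exact Nat.le_self_pow hk0 p
    · obtain ⟨g, hg⟩ := hM.exists_le_sylow
      exact (Subgroup.card_le_of_le hg).trans_eq (by rw [g.card_eq_multiplicity, S.card_eq_multiplicity])
  haveI hSn : (S : Subgroup G).Normal := hSM ▸ ‹M.Normal›
  let Z := (Subgroup.center (S : Subgroup G)).map (S : Subgroup G).subtype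
  haveI hZn : Z.Normal := Cfsg.Agent.Lib.Cores.normal_map_subtype _ _
  have hZp : IsPGroup p Z := (S.isPGroup'.to_subgroup _).map _
  haveI : Nontrivial (S : Subgroup G) := by
    by_contra hh
    rw [not_nontrivial_iff_subsingleton] at hh
    exact hna ⟨⟨fun a b => Subsingleton.elim _ _⟩⟩
  haveI := S.isPGroup'.center_nontrivial
  have hZcard : p ≤ Nat.card Z := by
    rw [Subgroup.card_map_of_injective (S : Subgroup G).subtype_injective]
    obtain ⟨j, hj⟩ := IsPGroup.iff_card.1 (S.isPGroup'.to_subgroup (Subgroup.center (S : Subgroup G)))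
    have h1 := Finite.one_lt_card (α := Subgroup.center (S : Subgroup G))
    rw [hj] at h1 ⊢
    exact Nat.le_self_pow (fun h0 => by rw [h0, pow_zero] at h1; omega) p
  apply hna
  refine ⟨⟨fun a b => ?_⟩⟩
  have hbZ : (b : G) ∈ Z := by
    rcases eq_or_ne (b : G) 1 with h1 | h1
    · rw [h1]; exact one_mem Z
    refine le_of_card_le h hZp (S.isPGroup'.to_le (Subgroup.zpowers_le.2 b.2)) ?_
      (Subgroup.mem_zpowers _)
    rw [Nat.card_zpowers, orderOf_eq_prime (hexp b b.2) h1]
    exact hZcard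
  obtain ⟨c, hc, hcb⟩ := hbZ
  have : c = b := Subtype.ext hcb
  exact Subgroup.mem_center_iff.1 (this ▸ hc) a

/-- Let p be an odd prime and G a finite group in which any two p-subgroups of the same order are conjugate, with Sylow p-subgroup P. If H is a normal p-solvable subgroup of G whose order is divisible by p, then P is abelian, and either P ≤ H or P is cyclic. -/
theorem result {G : Type*} [Group G] [Finite G]
    {p : ℕ} [Fact p.Prime] (hp : p ≠ 2) (hC : ∀ H K : Subgroup G, IsPGroup p H → IsPGroup p K → Nat.card H = Nat.card K →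
      ∃ g : G, K = H.map (MulAut.conj g).toMonoidHom) (P : Sylow p G)
    (H : Subgroup G) [H.Normal] (hsolv : Cfsg.IsPSolvable p H) (hdiv : p ∣ Nat.card H) :
    IsMulCommutative P ∧ ((P : Subgroup G) ≤ H ∨ IsCyclic P) := by
  have hp' : p.Prime := Fact.out
  have hC' : SameOrderConj p G := hC
  -- a non-identity `p`-element inside `H`
  obtain ⟨y, hy⟩ := exists_prime_orderOf_dvd_card' p hdiv
  -- all elements of order `p` lie in `H`
  have hall : ∀ x : G, x ^ p = 1 → x ∈ H := by
    intro x hx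
    rcases eq_or_ne x 1 with rfl | h1
    · exact one_mem H
    have hxo := orderOf_eq_prime hx h1
    have hy' : orderOf (y : G) = p := by rw [Subgroup.orderOf_coe, hy]
    obtain ⟨g, hg⟩ := hC (Subgroup.zpowers (y : G)) (Subgroup.zpowers x)
      (IsPGroup.of_card (n := 1) (by rw [Nat.card_zpowers, hy', pow_one]))
      (IsPGroup.of_card (n := 1) (by rw [Nat.card_zpowers, hxo, pow_one]))
      (by rw [Nat.card_zpowers, Nat.card_zpowers, hy', hxo])
    obtain ⟨w, hw, hwx⟩ := hg.le (Subgroup.mem_zpowers x)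
    rw [← hwx]
    exact (inferInstance : H.Normal).conj_mem w ((Subgroup.zpowers_le.2 y.2) hw) g
  rcases Cfsg.Agent.S4023.result hC P with h | h | ⟨h2, -⟩ | ⟨-, hna, -, hexp⟩
  · haveI := h
    exact ⟨IsCyclic.isMulCommutative, Or.inr h⟩
  · exact ⟨h.1, Or.inl fun x hx => hall x (h.2 x hx)⟩
  · exact absurd h2 hp
  exfalso
  have hexp' : ∀ x ∈ (P : Subgroup G), x ^ p = 1 := fun x hx => by
    have := Monoid.pow_exponent_eq_one (⟨x, hx⟩ : (P : Subgroup G))
    rw [hexp] at this
    exact congrArg Subtype.val this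
  have hPH : (P : Subgroup G) ≤ H := fun x hx => hall x (hexp' x hx)
  let L := (Cfsg.pPrimeCore p H).map H.subtype
  haveI hLn : L.Normal := Cfsg.Agent.Lib.Cores.normal_map_subtype _ _
  have hLcop : (Nat.card L).Coprime p := by
    rw [Subgroup.card_map_of_injective H.subtype_injective]
    exact Cfsg.Agent.Lib.Cores.pPrimeCore_coprime p
  let f := QuotientGroup.mk' L
  -- a normal `p`-subgroup of the quotient
  have hQsolv : Cfsg.IsPSolvable p (H ⧸ Cfsg.pPrimeCore p H) :=
    Cfsg.Agent.Lib.PSolvable.isPSolvable_quotient hsolv _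
  haveI : Nontrivial (H ⧸ Cfsg.pPrimeCore p H) := QuotientGroup.nontrivial_iff.2 fun htop => by
    have := Cfsg.Agent.Lib.Cores.pPrimeCore_coprime (G := H) p
    rw [htop, Subgroup.card_top] at this
    exact hp'.coprime_iff_not_dvd.1 this.symm hdiv
  have hM0 : Cfsg.pCore p (H ⧸ Cfsg.pPrimeCore p H) ≠ ⊥ :=
    Cfsg.Agent.Lib.PSolvable.pCore_ne_bot hQsolv (Cfsg.Agent.Lib.Cores.pPrimeCore_quotient_pPrimeCore p)
  haveI : (H.map f).Normal := Subgroup.Normal.map inferInstance f (QuotientGroup.mk'_surjective L)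
  -- transfer to `G ⧸ L`
  let e : H ⧸ Cfsg.pPrimeCore p H →* H.map f :=
    QuotientGroup.lift _ (f.subgroupMap H) fun x hx => by
      apply Subtype.ext
      show f x = 1
      exact (QuotientGroup.eq_one_iff (x : G)).2 ⟨x, hx, rfl⟩
  have heinj : Function.Injective e := by
    rw [← MonoidHom.ker_eq_bot_iff, eq_bot_iff]
    intro q hq
    obtain ⟨x, rfl⟩ := QuotientGroup.mk'_surjective _ q
    have h1 : f x = 1 := congrArg Subtype.val hq
    obtain ⟨w, hw, hwx⟩ := (QuotientGroup.eq_one_iff (x : G)).1 h1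
    rw [Subgroup.mem_bot]
    refine (QuotientGroup.eq_one_iff x).2 ?_
    have : w = x := Subtype.ext hwx
    exact this ▸ hw
  have hesurj : Function.Surjective e := fun z => by
    obtain ⟨x, rfl⟩ := MonoidHom.subgroupMap_surjective f H z
    exact ⟨QuotientGroup.mk x, rfl⟩
  let e' : H ⧸ Cfsg.pPrimeCore p H ≃* H.map f := MulEquiv.ofBijective e ⟨heinj, hesurj⟩
  let M := (Cfsg.pCore p (H.map f)).map (H.map f).subtype
  haveI : M.Normal := Cfsg.Agent.Lib.Cores.normal_map_subtype _ _
  have hMp : IsPGroup p M := (Cfsg.Agent.Lib.Cores.pCore_isPGroup p).map _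
  have hMne : M ≠ ⊥ := by
    intro hM
    rw [Subgroup.map_eq_bot_iff_of_injective _ (H.map f).subtype_injective,
      ← Cfsg.Agent.Lib.Cores.map_pCore_equiv e',
      Subgroup.map_eq_bot_iff_of_injective _ (f := e'.toMonoidHom) e'.injective] at hM
    exact hM0 hM
  refine no_heisenberg (sameOrderConj_quotient hC' L) M hMp hMne
    (P.mapSurjective (QuotientGroup.mk'_surjective L)) ?_ ?_
  · intro hcomm
    apply hna
    refine ⟨⟨fun a b => ?_⟩⟩
    have h1 : f ((a : G) * b) = f ((b : G) * a) := by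
      rw [map_mul, map_mul]
      exact congrArg Subtype.val (hcomm.is_comm.comm
        (⟨f a, by rw [Sylow.coe_mapSurjective]; exact ⟨a, a.2, rfl⟩⟩ :
          ((P.mapSurjective (QuotientGroup.mk'_surjective L) : Sylow p (G ⧸ L)) : Subgroup (G ⧸ L)))
        ⟨f b, by rw [Sylow.coe_mapSurjective]; exact ⟨b, b.2, rfl⟩⟩)
    have h2 : ((b : G) * a)⁻¹ * ((a : G) * b) ∈ L := QuotientGroup.eq.1 h1.symm
    have h3 : ((b : G) * a)⁻¹ * ((a : G) * b) ∈ (P : Subgroup G) :=
      mul_mem (inv_mem (mul_mem b.2 a.2)) (mul_mem a.2 b.2)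
    have h4 : orderOf (((b : G) * a)⁻¹ * ((a : G) * b)) = 1 :=
      Nat.eq_one_of_dvd_coprimes hLcop (L.orderOf_dvd_natCard h2)
        (orderOf_dvd_of_pow_eq_one (hexp' _ h3))
    exact Subtype.ext (inv_mul_eq_one.1 (orderOf_eq_one_iff.1 h4)).symm
  · rw [Sylow.coe_mapSurjective]
    rintro _ ⟨x, hx, rfl⟩
    rw [← map_pow, hexp' x hx, map_one]

end Cfsg.Agent.S4024
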