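import Cfsg.Statements.S4027
import Cfsg.Agent.Lib.Elem70.Lift

set_option autoImplicit false
open Cfsg

namespace Cfsg.Agent.S4027

open Cfsg.Agent.Lib.Elem70

/-- Let G be a finite group in which every element x of odd order satisfies N_G(⟨x⟩) = C_G(x). Then the Sylow 2-subgroups of G are normal. -/
theorem result {G : Type*} [Group G] [Finite G]
    (hirr : ∀ x : G, (∀ r : ℕ, r.Prime → r ∣ orderOf x → r ≠ 2) →
      Subgroup.normalizer ((Subgroup.zpowers x : Subgroup G) : Set G) ≤ Subgroup.centralizer {x}) (P : Sylow 2 G) :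
    (P : Subgroup G).Normal := by
  refine sylow_two_normal_of_no_real (fun p x g hp hp2 hx hg => ?_) P
  have hgN : g ∈ Subgroup.normalizer ((Subgroup.zpowers x : Subgroup G) : Set G) := by
    rw [Subgroup.mem_normalizer_iff]
    intro z
    have hz : ∀ n : ℤ, g * x ^ n * g⁻¹ = x ^ (-n) := fun n => by
      rw [← conj_zpow, hg, inv_zpow, zpow_neg]
    constructor
    · rintro ⟨n, rfl⟩; exact ⟨-n, (hz n).symm⟩
    · rintro ⟨n, hn⟩
      refine ⟨-n, ?_⟩
      have := hz (-n)
      rw [neg_neg] at this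
      exact mul_left_cancel (mul_right_cancel (this.trans hn))
  have hc := Subgroup.mem_centralizer_singleton_iff.1 (hirr x (fun r hr hd => by
    rw [hx] at hd
    rwa [(Nat.prime_dvd_prime_iff_eq hr hp).1 hd]) hgN)
  rw [hc, mul_inv_cancel_right] at hg
  have h2 : x ^ 2 = 1 := by rw [pow_two]; exact mul_eq_one_iff_eq_inv.2 hg
  have h3 := orderOf_dvd_of_pow_eq_one h2
  rw [hx] at h3
  exact hp2 ((Nat.prime_dvd_prime_iff_eq hp Nat.prime_two).1 h3)

end Cfsg.Agent.S4027
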