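import Cfsg.Statements.S4028
import Cfsg.Agent.Lib.Elem70.Basic
import Mathlib.RingTheory.ZMod.UnitsCyclic

set_option autoImplicit false
open Cfsg

namespace Cfsg.Agent.S4028

open Cfsg.Agent.Lib.Elem70

variable {G : Type*} [Group G]

theorem mem_normalizer_zpowers [Finite G] {g x : G} :
    g ∈ Subgroup.normalizer ((Subgroup.zpowers x : Subgroup G) : Set G) ↔
      g * x * g⁻¹ ∈ Subgroup.zpowers x := by
  constructor
  · intro h
    exact (Subgroup.mem_normalizer_iff.1 h x).1 (Subgroup.mem_zpowers x)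
  · intro h
    have hle : (Subgroup.zpowers x).map (MulAut.conj g).toMonoidHom ≤ Subgroup.zpowers x := by
      rw [MonoidHom.map_zpowers]
      exact Subgroup.zpowers_le.2 h
    have heq := Subgroup.eq_of_le_of_card_ge hle (le_of_eq
      (Subgroup.card_map_of_injective (MulAut.conj g).injective).symm)
    rw [Subgroup.mem_normalizer_iff]
    intro z
    constructor
    · intro hz; exact hle ⟨z, hz, rfl⟩
    · intro hz
      rw [← heq] at hz
      obtain ⟨w, hw, hwz⟩ := hz
      have : w = z := by simpa using hwz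
      exact this ▸ hw

/-- Powers of the exponent of a conjugation: `g x g⁻¹ = x ^ i` gives `g^n x g^{-n} = x ^ (i^n)`. -/
theorem conj_pow_exponent {g x : G} {i : ℤ} (h : g * x * g⁻¹ = x ^ i) (n : ℕ) :
    g ^ n * x * (g ^ n)⁻¹ = x ^ (i ^ n) := by
  induction n with
  | zero => simp
  | succ n ih =>
    rw [pow_succ', show g * g ^ n * x * (g * g ^ n)⁻¹ = g * (g ^ n * x * (g ^ n)⁻¹) * g⁻¹ by group,
      ih, ← conj_zpow, h, ← zpow_mul, pow_succ']

/-- Let G be a finite group with Sylow 2-subgroup P. Then N_G(⟨x⟩) = C_G(x) holds for every 2-element x of G if and only if N_P(⟨y⟩) = C_P(y) holds for every y ∈ P (computed inside P). -/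
theorem result {G : Type*} [Group G] [Finite G] (P : Sylow 2 G) :
    (∀ x : G, (∀ r : ℕ, r.Prime → r ∣ orderOf x → r = 2) →
      Subgroup.normalizer ((Subgroup.zpowers x : Subgroup G) : Set G) ≤ Subgroup.centralizer {x}) ↔
    (∀ y : ↥(P : Subgroup G), Subgroup.normalizer ((Subgroup.zpowers y : Subgroup ↥(P : Subgroup G)) : Set ↥(P : Subgroup G)) ≤
        Subgroup.centralizer {y}) := by
  classical
  haveI : Fact (Nat.Prime 2) := ⟨Nat.prime_two⟩
  constructor
  · intro h y g hg
    have hy : ∀ r : ℕ, r.Prime → r ∣ orderOf (y : G) → r = 2 := by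
      intro r hr hd
      obtain ⟨k, hk⟩ := P.isPGroup' y
      exact (Nat.prime_dvd_prime_iff_eq hr Nat.prime_two).1 (hr.dvd_of_dvd_pow
        (hd.trans (orderOf_dvd_of_pow_eq_one (show (y : G) ^ 2 ^ k = 1 from congrArg Subtype.val hk))))
    have hg' : (g : G) ∈ Subgroup.normalizer ((Subgroup.zpowers (y : G) : Subgroup G) : Set G) := by
      rw [mem_normalizer_zpowers]
      obtain ⟨i, hi⟩ := mem_normalizer_zpowers.1 hg
      exact ⟨i, congrArg Subtype.val hi⟩
    have := Subgroup.mem_centralizer_singleton_iff.1 (h (y : G) hy hg')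
    exact Subgroup.mem_centralizer_singleton_iff.2 (Subtype.ext this)
  · intro h x hx g hg
    obtain ⟨k, hk⟩ : ∃ k : ℕ, orderOf x = 2 ^ k :=
      ⟨_, Nat.eq_prime_pow_of_unique_prime_dvd (orderOf_pos x).ne' fun {r} hr hd => hx r hr hd⟩
    obtain ⟨u, s, ⟨a, ha⟩, ⟨b, hb⟩, hus, ⟨m, hm⟩, hs⟩ := exists_primary_split Nat.prime_two g
    -- the odd part acts trivially
    have hsx : s * x = x * s := by
      have hsN : s ∈ Subgroup.normalizer ((Subgroup.zpowers x : Subgroup G) : Set G) := by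
        rw [← hb]; exact Subgroup.zpow_mem _ hg b
      obtain ⟨i, hi⟩ := mem_normalizer_zpowers.1 hsN
      have hn := conj_pow_exponent hi.symm (orderOf s)
      rw [pow_orderOf_eq_one, one_mul, inv_one, mul_one] at hn
      -- `i ^ n ≡ 1` modulo `2 ^ k` with `n` odd forces `i ≡ 1`
      have h1 : ((i : ZMod (2 ^ k)) ^ orderOf s) = 1 := by
        rw [← Int.cast_pow, ← Int.cast_one, ZMod.intCast_eq_intCast_iff, Nat.cast_pow, ← Nat.cast_pow,
          ← hk]
        exact zpow_eq_zpow_iff_modEq.1 (by rw [← hn, zpow_one])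
      have hpos : 0 < orderOf s := orderOf_pos s
      let v : (ZMod (2 ^ k))ˣ := Units.ofPowEqOne _ _ h1 hpos.ne'
      have hv1 : v ^ orderOf s = 1 := Units.pow_ofPowEqOne h1 hpos.ne'
      have hv2 : v ^ Fintype.card (ZMod (2 ^ k))ˣ = 1 := pow_card_eq_one
      have hvo : orderOf v = 1 := by
        refine Nat.eq_one_of_dvd_coprimes ?_ (orderOf_dvd_of_pow_eq_one hv1)
          (orderOf_dvd_of_pow_eq_one hv2)
        rw [ZMod.card_units_eq_totient]
        rcases Nat.eq_zero_or_pos k with rfl | hk0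
        · simp
        · rw [Nat.totient_prime_pow Nat.prime_two hk0, show 2 - 1 = 1 from rfl, mul_one]
          exact Nat.Coprime.pow_right _ hs
      have hi1 : (i : ZMod (2 ^ k)) = 1 := by
        have := congrArg Units.val (orderOf_eq_one_iff.1 hvo)
        simpa [v] using this
      have h2 : x ^ i = x ^ (1 : ℤ) := zpow_eq_zpow_iff_modEq.2 (by
        rw [hk]; exact (ZMod.intCast_eq_intCast_iff _ _ _).1 (by simpa using hi1))
      have := hi.symm.trans h2
      rw [zpow_one] at this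
      exact mul_inv_eq_iff_eq_mul.1 this
    -- the two part lies with `x` in a conjugate of `P`
    have hux : u * x = x * u := by
      have huN : u ∈ Subgroup.normalizer ((Subgroup.zpowers x : Subgroup G) : Set G) := by
        rw [← ha]; exact Subgroup.zpow_mem _ hg a
      let N := Subgroup.normalizer ((Subgroup.zpowers x : Subgroup G) : Set G)
      have hxN : x ∈ N := Subgroup.le_normalizer (Subgroup.mem_zpowers x)
      have hu2 : (⟨u, huN⟩ : N) ^ 2 ^ m = 1 := Subtype.ext hm
      obtain ⟨j, hj⟩ := orderOf_eq_pow_of_pow_eq_one Nat.prime_two hu2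
      have hZ : IsPGroup 2 (Subgroup.zpowers (⟨x, hxN⟩ : N)) :=
        IsPGroup.of_card (n := k) (by rw [Nat.card_zpowers, Subgroup.orderOf_mk, hk])
      haveI : (Subgroup.zpowers (⟨x, hxN⟩ : N)).Normal := ⟨fun z hz c => by
        obtain ⟨i, rfl⟩ := hz
        obtain ⟨l, hl⟩ := mem_normalizer_zpowers.1 c.2
        refine ⟨l * i, Subtype.ext ?_⟩
        show x ^ (l * i) = (c : G) * x ^ i * (c : G)⁻¹
        rw [zpow_mul, ← conj_zpow]
        exact congrArg (· ^ i) hl⟩
      have hpp : IsPGroup 2 (Subgroup.zpowers (⟨x, hxN⟩ : N) ⊔ Subgroup.zpowers (⟨u, huN⟩ : N) :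
          Subgroup N) :=
        hZ.to_sup_of_normal_left (IsPGroup.of_card (n := j) ((Nat.card_zpowers _).trans hj))
      obtain ⟨Q, hQ⟩ := (hpp.map N.subtype).exists_le_sylow
      obtain ⟨c, rfl⟩ := MulAction.exists_smul_eq G P Q
      rw [Sylow.coe_subgroup_smul] at hQ
      obtain ⟨x₀, hx₀, hxc⟩ := hQ
        (Subgroup.mem_map.2 ⟨_, Subgroup.mem_sup_left (Subgroup.mem_zpowers _), rfl⟩ : x ∈ _)
      obtain ⟨u₀, hu₀, huc⟩ := hQ
        (Subgroup.mem_map.2 ⟨_, Subgroup.mem_sup_right (Subgroup.mem_zpowers _), rfl⟩ : u ∈ _)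
      change c * x₀ * c⁻¹ = x at hxc
      change c * u₀ * c⁻¹ = u at huc
      have hn0 : (⟨u₀, hu₀⟩ : (P : Subgroup G)) ∈ Subgroup.normalizer
          ((Subgroup.zpowers (⟨x₀, hx₀⟩ : (P : Subgroup G)) : Subgroup _) : Set _) := by
        rw [mem_normalizer_zpowers]
        obtain ⟨i, hi⟩ := mem_normalizer_zpowers.1 huN
        refine ⟨i, Subtype.ext (mul_left_cancel (a := c) (mul_right_cancel (b := c⁻¹) ?_))⟩
        show c * x₀ ^ i * c⁻¹ = c * (u₀ * x₀ * u₀⁻¹) * c⁻¹
        rw [← conj_zpow, hxc]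
        refine hi.trans ?_
        rw [← hxc, ← huc]
        group
      have h0 : u₀ * x₀ = x₀ * u₀ :=
        congrArg Subtype.val (Subgroup.mem_centralizer_singleton_iff.1 (h _ hn0))
      rw [← hxc, ← huc, show c * u₀ * c⁻¹ * (c * x₀ * c⁻¹) = c * (u₀ * x₀) * c⁻¹ by group, h0]
      group
    rw [Subgroup.mem_centralizer_singleton_iff, hus, mul_assoc, hsx, ← mul_assoc, hux, mul_assoc]

end Cfsg.Agent.S4028
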