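import Cfsg.Statements.S4029
import Mathlib.GroupTheory.GroupAction.Quotient
import Mathlib.GroupTheory.Nilpotent
import Mathlib.GroupTheory.Sylow
import Mathlib.Algebra.Order.Chebyshev
-- import your own Cfsg.Agent.* helpers here

set_option autoImplicit false
open Cfsg

namespace Cfsg.Agent.S4029

variable {P : Type*} [Group P] [Finite P]

omit [Finite P] in
theorem sq_mem_frattini [Finite P] (hP : IsPGroup 2 P) (x : P) : x ^ 2 ∈ frattini P := by
  rw [frattini, Order.radical]
  simp only [Subgroup.mem_iInf]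
  intro M hM
  haveI : Fact (Nat.Prime 2) := ⟨Nat.prime_two⟩
  haveI := hP.isNilpotent
  haveI : M.Normal := Subgroup.NormalizerCondition.normal_of_coatom M
    Group.normalizerCondition_of_isNilpotent hM
  obtain ⟨a, ha⟩ := IsPGroup.iff_card.1 (hP.to_subgroup M)
  obtain ⟨n, hn⟩ := IsPGroup.iff_card.1 hP
  have han : a < n := by
    rcases lt_or_ge a n with h | h
    · exact h
    · exact absurd (Subgroup.eq_top_of_card_eq M (le_antisymm (Subgroup.card_le_card_group M)
        (by rw [ha, hn]; exact Nat.pow_le_pow_right (by norm_num) h))) hM.1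
  obtain ⟨K, hK, hMK⟩ := Sylow.exists_subgroup_card_pow_succ
    (p := 2) (by rw [hn]; exact pow_dvd_pow 2 han) ha
  have hKt : K = ⊤ := hM.2 K (lt_of_le_of_ne hMK (fun h => by
    subst h; rw [ha] at hK; exact absurd ((Nat.pow_right_injective le_rfl) hK) (by omega)))
  subst hKt
  rw [Subgroup.card_top] at hK
  have hidx : M.index = 2 := by
    have h := M.card_mul_index
    rw [ha, hK, pow_succ] at h
    exact Nat.eq_of_mul_eq_mul_left (by positivity) h
  exact Subgroup.sq_mem_of_index_two hidx x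

/-- Pairs `(g, h)` with `g ^ 2 = h ^ 2` dominate. -/
theorem card_sq_le (hP : IsPGroup 2 P) :
    Nat.card P ^ 2 ≤ Nat.card (frattini P) * Nat.card {q : P × P // q.1 ^ 2 = q.2 ^ 2} := by
  classical
  haveI := Fintype.ofFinite P
  let s : Finset P := Finset.univ.filter (· ∈ frattini P)
  let r : P → ℕ := fun h => (Finset.univ.filter (fun g : P => g ^ 2 = h)).card
  have h1 : ∑ h ∈ s, r h = Nat.card P := by
    rw [Nat.card_eq_fintype_card, ← Finset.card_univ]
    exact (Finset.card_eq_sum_card_fiberwise fun g _ =>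
      Finset.mem_filter.2 ⟨Finset.mem_univ _, sq_mem_frattini hP g⟩).symm
  have h2 : ∑ h ∈ s, r h ^ 2 = Nat.card {q : P × P // q.1 ^ 2 = q.2 ^ 2} := by
    rw [Nat.card_eq_fintype_card, Fintype.card_subtype]
    rw [Finset.card_eq_sum_card_fiberwise (f := fun q : P × P => q.1 ^ 2) (t := s) fun q _ =>
      Finset.mem_filter.2 ⟨Finset.mem_univ _, sq_mem_frattini hP q.1⟩]
    refine Finset.sum_congr rfl fun h _ => ?_
    rw [pow_two, ← Finset.card_product]
    congr 1
    ext ⟨a, b⟩
    simp only [Finset.mem_product, Finset.mem_filter, Finset.mem_univ, true_and]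
    constructor
    · rintro ⟨rfl, hb⟩; exact ⟨hb.symm, rfl⟩
    · rintro ⟨hab, rfl⟩; exact ⟨rfl, hab.symm⟩
  have h3 : s.card = Nat.card (frattini P) := by
    rw [Nat.card_eq_fintype_card, Fintype.card_subtype]
  have := sq_sum_le_card_mul_sum_sq (s := s) (f := r)
  rwa [h1, h2, h3] at this

/-- If no element is properly inverted, solutions of `g² = h²` count involution classes. -/
theorem card_sq_eq (hirr : ∀ y : P, Subgroup.normalizer ((Subgroup.zpowers y : Subgroup P) : Set P)
      ≤ Subgroup.centralizer {y}) :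
    Nat.card {q : P × P // q.1 ^ 2 = q.2 ^ 2} =
      Nat.card P * Nat.card {c : ConjClasses P // ∃ y : P, ConjClasses.mk y = c ∧ y ^ 2 = 1} := by
  classical
  haveI := Fintype.ofFinite P
  have key : ∀ g x : P, g ^ 2 = (g * x) ^ 2 → x ^ 2 = 1 ∧ g * x = x * g := by
    intro g x h
    have h' : x * g * x = g := mul_left_cancel (a := g) (by
      rw [← mul_assoc, ← mul_assoc]; simpa [pow_two, mul_assoc] using h.symm)
    have hinv : g * x * g⁻¹ = x⁻¹ := by
      rw [mul_inv_eq_iff_eq_mul, eq_inv_mul_iff_mul_eq, ← mul_assoc, h']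
    have hn : g ∈ Subgroup.normalizer ((Subgroup.zpowers x : Subgroup P) : Set P) := by
      rw [Subgroup.mem_normalizer_iff]
      intro z
      have hz : ∀ n : ℤ, g * x ^ n * g⁻¹ = x ^ (-n) := fun n => by
        rw [← conj_zpow, hinv, inv_zpow, zpow_neg]
      constructor
      · rintro ⟨n, rfl⟩; exact ⟨-n, (hz n).symm⟩
      · rintro ⟨n, hn⟩
        refine ⟨-n, ?_⟩
        have := hz (-n)
        rw [neg_neg] at this
        exact mul_left_cancel (mul_right_cancel (this.trans hn))
    have hc : g * x = x * g := ((Subgroup.mem_centralizer_singleton_iff).1 (hirr x hn)).symm ▸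
      ((Subgroup.mem_centralizer_singleton_iff).1 (hirr x hn))
    refine ⟨?_, hc⟩
    rw [hc, mul_inv_cancel_right] at hinv
    rw [pow_two]
    exact mul_eq_one_iff_eq_inv.2 hinv
  let e : {q : P × P // q.1 ^ 2 = q.2 ^ 2} ≃ Σ x : {x : P // x ^ 2 = 1}, Subgroup.centralizer {x.1} :=
    { toFun := fun q => ⟨⟨q.1.1⁻¹ * q.1.2, (key q.1.1 _ (by rw [mul_inv_cancel_left]; exact q.2)).1⟩,
        ⟨q.1.1, Subgroup.mem_centralizer_singleton_iff.2
          (key q.1.1 _ (by rw [mul_inv_cancel_left]; exact q.2)).2⟩⟩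
      invFun := fun s => ⟨(s.2.1, s.2.1 * s.1.1), by
        have := Subgroup.mem_centralizer_singleton_iff.1 s.2.2
        rw [pow_two, pow_two]
        calc s.2.1 * s.2.1 = s.2.1 * s.2.1 * s.1.1 ^ 2 := by rw [s.1.2, mul_one]
          _ = s.2.1 * (s.2.1 * s.1.1) * s.1.1 := by rw [pow_two]; group
          _ = s.2.1 * (s.1.1 * s.2.1) * s.1.1 := by rw [this]
          _ = s.2.1 * s.1.1 * (s.2.1 * s.1.1) := by group⟩
      left_inv := fun q => Subtype.ext (Prod.ext rfl (mul_inv_cancel_left _ _))
      right_inv := by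
        rintro ⟨⟨x, hx⟩, ⟨g, hg⟩⟩
        have hx' : ∀ (x' : {x : P // x ^ 2 = 1}) (hg' : g ∈ Subgroup.centralizer {x'.1}), x'.1 = x →
            (⟨x', g, hg'⟩ : Σ x : {x : P // x ^ 2 = 1}, Subgroup.centralizer {x.1}) =
              ⟨⟨x, hx⟩, g, hg⟩ := by
          rintro ⟨x', _⟩ _ rfl; rfl
        exact hx' _ _ (inv_mul_cancel_left _ _) }
  rw [Nat.card_congr e, Nat.card_sigma, Nat.card_eq_fintype_card (α := {c : ConjClasses P // _}),
    Fintype.card_subtype]
  have horb : ∀ x : P, (ConjClasses.mk x).carrier.ncard * Nat.card (Subgroup.centralizer {x})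
      = Nat.card P := by
    intro x
    rw [← Nat.card_coe_set_eq, ← ConjAct.orbit_eq_carrier_conjClasses]
    have := MulAction.card_orbit_mul_card_stabilizer_eq_card_group (ConjAct P) x
    simp only [← Nat.card_eq_fintype_card] at this
    rw [ConjAct.stabilizer_eq_centralizer] at this
    exact this
  rw [← Finset.sum_fiberwise_of_maps_to (g := fun x : {x : P // x ^ 2 = 1} => ConjClasses.mk x.1)
    (t := Finset.univ.filter fun c => ∃ y : P, ConjClasses.mk y = c ∧ y ^ 2 = 1)
    (fun x _ => Finset.mem_filter.2 ⟨Finset.mem_univ _, x.1, rfl, x.2⟩), mul_comm, ← smul_eq_mul,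
    ← Finset.sum_const]
  refine Finset.sum_congr rfl fun c hc => ?_
  obtain ⟨y, rfl, hy⟩ := (Finset.mem_filter.1 hc).2
  have hconst : ∀ x ∈ Finset.univ.filter
      (fun x : {x : P // x ^ 2 = 1} => ConjClasses.mk x.1 = ConjClasses.mk y),
      Nat.card (Subgroup.centralizer {x.1}) = Nat.card (Subgroup.centralizer {y}) := by
    intro x hx
    have h1 := horb x.1
    rw [(Finset.mem_filter.1 hx).2, ← horb y] at h1
    exact Nat.eq_of_mul_eq_mul_left
      ((Set.ncard_pos (Set.toFinite _)).2 ⟨y, ConjClasses.mem_carrier_iff_mk_eq.2 rfl⟩) h1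
  rw [Finset.sum_congr rfl hconst, Finset.sum_const, smul_eq_mul, ← horb y]
  congr 1
  rw [← Finset.card_map (Function.Embedding.subtype _), ← Set.ncard_coe_finset]
  congr 1
  ext z
  simp only [Finset.coe_map, Function.Embedding.subtype_apply, Set.mem_image, Finset.mem_coe,
    Finset.mem_filter, Finset.mem_univ, true_and, ConjClasses.mem_carrier_iff_mk_eq]
  constructor
  · rintro ⟨x, hx, rfl⟩; exact hx
  · intro hz
    obtain ⟨u, hu⟩ := isConj_iff.1 (ConjClasses.mk_eq_mk_iff_isConj.1 hz.symm)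
    exact ⟨⟨z, by rw [← hu, conj_pow, hy, mul_one, mul_inv_cancel]⟩, hz, rfl⟩

omit [Finite P] in
theorem sq_one_iff (y : P) : y ^ 2 = 1 ↔ y = 1 ∨ orderOf y = 2 := by
  constructor
  · intro h
    rcases (Nat.dvd_prime Nat.prime_two).1 (orderOf_dvd_of_pow_eq_one h) with h1 | h1
    · exact Or.inl (orderOf_eq_one_iff.1 h1)
    · exact Or.inr h1
  · rintro (rfl | h)
    · simp
    · rw [← h, pow_orderOf_eq_one]

/-- Let P be a finite 2-group in which N_P(⟨y⟩) = C_P(y) for every y ∈ P. If s is the number of conjugacy classes of involutions of P, then #(P/Φ(P)) ≤ s + 1; in particular the subgroup generated by the involutions of P has order at least #(P/Φ(P)). -/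
theorem result {P : Type*} [Group P] [Finite P] (hP : IsPGroup 2 P)
    (hirr : ∀ y : P, Subgroup.normalizer ((Subgroup.zpowers y : Subgroup P) : Set P) ≤ Subgroup.centralizer {y}) :
    Nat.card (P ⧸ frattini P) ≤ Nat.card {c : ConjClasses P // ∃ y : P, ConjClasses.mk y = c ∧ orderOf y = 2} + 1 ∧
    Nat.card (P ⧸ frattini P) ≤ Nat.card (Subgroup.closure {y : P | orderOf y = 2}) := by
  classical
  haveI := Fintype.ofFinite P
  have h1 := card_sq_le hP
  rw [card_sq_eq hirr] at h1
  set s := Nat.card {c : ConjClasses P // ∃ y : P, ConjClasses.mk y = c ∧ y ^ 2 = 1} with hs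
  have hq : Nat.card (P ⧸ frattini P) ≤ s := by
    have h2 := Subgroup.card_eq_card_quotient_mul_card_subgroup (frattini P)
    refine le_of_mul_le_mul_left ?_
      (Nat.mul_pos (Nat.card_pos (α := P)) (Nat.card_pos (α := frattini P)))
    calc Nat.card P * Nat.card (frattini P) * Nat.card (P ⧸ frattini P)
        = Nat.card P ^ 2 := by rw [pow_two, mul_assoc, mul_comm (Nat.card (frattini P)), ← h2]
      _ ≤ Nat.card (frattini P) * (Nat.card P * s) := h1
      _ = Nat.card P * Nat.card (frattini P) * s := by ring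
  have hsub : ∀ c : ConjClasses P, (∃ y : P, ConjClasses.mk y = c ∧ y ^ 2 = 1) →
      c = ConjClasses.mk 1 ∨ ∃ y : P, ConjClasses.mk y = c ∧ orderOf y = 2 := by
    rintro c ⟨y, rfl, hy⟩
    rcases (sq_one_iff y).1 hy with rfl | h
    · exact Or.inl rfl
    · exact Or.inr ⟨y, rfl, h⟩
  have hs1 : s ≤ Nat.card {c : ConjClasses P // ∃ y : P, ConjClasses.mk y = c ∧ orderOf y = 2} + 1 := by
    rw [hs, ← Finite.card_option]
    refine Nat.card_le_card_of_injective (fun c => if h : ∃ y : P, ConjClasses.mk y = c.1 ∧ orderOf y = 2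
      then some ⟨c.1, h⟩ else none) ?_
    intro a b hab
    by_cases ha : ∃ y : P, ConjClasses.mk y = a.1 ∧ orderOf y = 2 <;>
      by_cases hb : ∃ y : P, ConjClasses.mk y = b.1 ∧ orderOf y = 2 <;>
      simp only [ha, hb, dif_pos, dif_neg, not_false_iff, Option.some.injEq, Subtype.mk.injEq,
        reduceCtorEq] at hab
    · exact Subtype.ext hab
    · exact Subtype.ext (((hsub a.1 a.2).resolve_right ha).trans
        ((hsub b.1 b.2).resolve_right hb).symm)
  refine ⟨hq.trans hs1, hq.trans ?_⟩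
  have hout : ∀ c : {c : ConjClasses P // ∃ y : P, ConjClasses.mk y = c ∧ y ^ 2 = 1},
      c.2.choose ∈ Subgroup.closure {y : P | orderOf y = 2} := by
    intro c
    rcases (sq_one_iff _).1 c.2.choose_spec.2 with h | h
    · rw [h]; exact one_mem _
    · exact Subgroup.subset_closure h
  refine Nat.card_le_card_of_injective (fun c => ⟨c.2.choose, hout c⟩) ?_
  intro a b hab
  refine Subtype.ext ?_
  rw [← a.2.choose_spec.1, ← b.2.choose_spec.1]
  exact congrArg ConjClasses.mk (congrArg Subtype.val hab :)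

end Cfsg.Agent.S4029
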