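import Cfsg.Statements.S4032
import Cfsg.Agent.Lib.Elem70.Lift

set_option autoImplicit false
open Cfsg

namespace Cfsg.Agent.S4032

open Cfsg.Agent.Lib.Elem70

/-- Let π be a set of primes and G a finite group in which N_G(⟨x⟩) = C_G(x) for every π-element x. If N is a normal subgroup of G whose order is divisible by no prime of π, then G/N has the same property: N_{G/N}(⟨y⟩) = C_{G/N}(y) for every π-element y of G/N. -/
theorem result {G : Type*} [Group G] [Finite G] (π : Set ℕ)
    (hirr : ∀ x : G, (∀ r : ℕ, r.Prime → r ∣ orderOf x → r ∈ π) →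
      Subgroup.normalizer ((Subgroup.zpowers x : Subgroup G) : Set G) ≤ Subgroup.centralizer {x})
    (N : Subgroup G) [N.Normal] (hN : ∀ r : ℕ, r.Prime → r ∣ Nat.card N → r ∉ π) :
    ∀ y : G ⧸ N, (∀ r : ℕ, r.Prime → r ∣ orderOf y → r ∈ π) →
      Subgroup.normalizer ((Subgroup.zpowers y : Subgroup (G ⧸ N)) : Set (G ⧸ N)) ≤ Subgroup.centralizer {y} := by
  intro y hy gb hgb
  have hcop : (orderOf y).Coprime (Nat.card N) := Nat.coprime_of_dvd fun r hr h1 h2 =>
    hN r hr h2 (hy r hr h1)
  obtain ⟨x, rfl, hxo⟩ := exists_lift_coprime N y hcop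
  have h1 : gb * QuotientGroup.mk' N x * gb⁻¹ ∈ Subgroup.zpowers (QuotientGroup.mk' N x) :=
    (Subgroup.mem_normalizer_iff.1 hgb _).1 (Subgroup.mem_zpowers _)
  obtain ⟨g, rfl, hg⟩ := exists_lift_normalizer N (hxo.symm ▸ hcop) h1
  have hgN : g ∈ Subgroup.normalizer ((Subgroup.zpowers x : Subgroup G) : Set G) := by
    have hle : (Subgroup.zpowers x).map (MulAut.conj g).toMonoidHom ≤ Subgroup.zpowers x := by
      rw [MonoidHom.map_zpowers]; exact Subgroup.zpowers_le.2 hg
    have heq := Subgroup.eq_of_le_of_card_ge hle (le_of_eq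
      (Subgroup.card_map_of_injective (MulAut.conj g).injective).symm)
    rw [Subgroup.mem_normalizer_iff]
    intro z
    constructor
    · intro hz; exact hle ⟨z, hz, rfl⟩
    · intro hz
      rw [← heq] at hz
      obtain ⟨w, hw, hwz⟩ := hz
      have : w = z := by simpa using hwz
      exact this ▸ hw
  have := Subgroup.mem_centralizer_singleton_iff.1 (hirr x (fun r hr hd => hy r hr (hxo ▸ hd)) hgN)
  refine Subgroup.mem_centralizer_singleton_iff.2 ?_
  rw [← map_mul, ← map_mul, this]

end Cfsg.Agent.S4032
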