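import Cfsg.Statements.S4036
import Mathlib.GroupTheory.PGroup
import Mathlib.GroupTheory.Perm.Cycle.Type

set_option autoImplicit false
open Cfsg

namespace Cfsg.Agent.S4036

/-- Let P be a finite abelian p-group and K a group of automorphisms of P (a subgroup of Aut P) whose order is divisible by p. If all non-identity elements of K have the same fixed-point subgroup on P, then K has no non-trivial normal subgroup of order prime to p. -/
theorem result {P : Type*} [CommGroup P] [Finite P] {p : ℕ}
    [Fact p.Prime] (hP : IsPGroup p P) (K : Subgroup (MulAut P)) (hK : p ∣ Nat.card K)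
    (hfix : ∀ x y : MulAut P, x ∈ K → y ∈ K → x ≠ 1 → y ≠ 1 → ∀ v : P, x v = v ↔ y v = v) :
    ∀ N : Subgroup ↥K, N.Normal → ¬ p ∣ Nat.card N → N = ⊥ := by
  intro N hN hNp
  classical
  haveI : Fintype ↥N := Fintype.ofFinite _
  have hp : p.Prime := Fact.out
  obtain ⟨x, hx⟩ := exists_prime_orderOf_dvd_card' p hK
  have hx1 : x ≠ 1 := fun h => by rw [h, orderOf_one] at hx; exact hp.ne_one hx.symm
  have hx1' : (x : MulAut P) ≠ 1 := fun h => hx1 (Subtype.ext h)
  -- the averaging map
  let e : P →* P :=
    { toFun := fun v => ∏ n : N, ((n : K) : MulAut P) v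
      map_one' := by simp
      map_mul' := fun a b => by simp [Finset.prod_mul_distrib] }
  have hfixe : ∀ (v : P) (m : N), ((m : K) : MulAut P) (e v) = e v := by
    intro v m
    show ((m : K) : MulAut P) (∏ n : N, ((n : K) : MulAut P) v) = _
    rw [map_prod]
    exact Fintype.prod_bijective (fun n : N => m * n) (Group.mulLeft_bijective m)
      (fun n => ((m : K) : MulAut P) (((n : K) : MulAut P) v)) _ (fun n => rfl)
  have hequi : ∀ (k : K) (v : P), (k : MulAut P) (e v) = e ((k : MulAut P) v) := by
    intro k v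
    show (k : MulAut P) (∏ n : N, ((n : K) : MulAut P) v) = _
    rw [map_prod]
    refine Fintype.prod_bijective (fun n : N => (⟨k * n * k⁻¹, hN.conj_mem _ n.2 k⟩ : N))
      ⟨fun a b hab => Subtype.ext (by simpa using congrArg Subtype.val hab),
        fun b => ⟨⟨k⁻¹ * b * k, by simpa using hN.conj_mem _ b.2 k⁻¹⟩, Subtype.ext (by
          simp [mul_assoc])⟩⟩ _ _ (fun n => ?_)
    simp
  by_contra hne
  obtain ⟨m, hm, hm1⟩ := N.bot_or_exists_ne_one.resolve_left hne
  have hm1' : (m : MulAut P) ≠ 1 := fun h => hm1 (Subtype.ext h)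
  -- the kernel of the averaging map is trivial
  have hker : e.ker = ⊥ := by
    by_contra hk
    haveI : Nontrivial e.ker := (Subgroup.nontrivial_iff_ne_bot _).2 hk
    let Z : Subgroup (MulAut P) := Subgroup.zpowers (x : MulAut P)
    have hZK : Z ≤ K := Subgroup.zpowers_le.2 x.2
    letI : MulAction Z e.ker :=
      { smul := fun z v => ⟨(z : MulAut P) v, by
          rw [MonoidHom.mem_ker, ← hequi ⟨z, hZK z.2⟩, MonoidHom.mem_ker.1 v.2, map_one]⟩
        one_smul := fun v => Subtype.ext rfl
        mul_smul := fun a b v => Subtype.ext rfl }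
    have hZp : IsPGroup p Z := IsPGroup.of_card (n := 1) (by
      rw [Nat.card_zpowers, pow_one, Subgroup.orderOf_coe, hx])
    obtain ⟨k, hk'⟩ := IsPGroup.iff_card.1 (hP.to_subgroup e.ker)
    have hdvd : p ∣ Nat.card e.ker := by
      rw [hk']
      refine dvd_pow_self p fun h0 => ?_
      have := Finite.one_lt_card (α := e.ker)
      rw [hk', h0, pow_zero] at this
      omega
    obtain ⟨v, hv, hv1⟩ := hZp.exists_fixed_point_of_prime_dvd_card_of_fixed_point e.ker hdvd
      (a := 1) (fun z => Subtype.ext (map_one (z : MulAut P)))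
    have hxv : (x : MulAut P) v.1 = v.1 :=
      congrArg Subtype.val (hv ⟨x, Subgroup.mem_zpowers _⟩)
    have hall : ∀ n : N, ((n : K) : MulAut P) v.1 = v.1 := fun n => by
      by_cases h : ((n : K) : MulAut P) = 1
      · rw [h]; rfl
      · exact (hfix _ _ x.2 (n : K).2 hx1' h v.1).1 hxv
    have h1 : v.1 ^ Nat.card N = 1 := by
      have h2 : e v.1 = v.1 ^ Nat.card N := by
        show ∏ n : N, ((n : K) : MulAut P) v.1 = _
        rw [Finset.prod_congr rfl fun n _ => hall n, Finset.prod_const, Finset.card_univ,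
          Nat.card_eq_fintype_card]
      rw [← h2]; exact v.2
    obtain ⟨j, hj⟩ := hP v.1
    have : orderOf v.1 = 1 := Nat.eq_one_of_dvd_coprimes
      (Nat.Coprime.pow_left j (hp.coprime_iff_not_dvd.2 hNp))
      (orderOf_dvd_of_pow_eq_one hj) (orderOf_dvd_of_pow_eq_one h1)
    exact hv1.symm (Subtype.ext (orderOf_eq_one_iff.1 this))
  apply hm1'
  refine MulEquiv.ext fun v => ?_
  have hinj : Function.Injective e := (MonoidHom.ker_eq_bot_iff e).1 hker
  obtain ⟨w, rfl⟩ := (Finite.injective_iff_surjective.1 hinj) v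
  exact hfixe w ⟨m, hm⟩

end Cfsg.Agent.S4036
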