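import Cfsg.Statements.S4041
import Cfsg.Agent.Lib.Goldschmidt53.Main
import Cfsg.Agent.Lib.Goldschmidt53.RankTwoMin.StructureMain
import Cfsg.Agent.Lib.Goldschmidt53.RankTwoMin.Main
import Cfsg.Agent.Lib.Goldschmidt53.RankTwoMin.Case1
import Cfsg.Agent.Lib.Walter.NoFieldDone
import Cfsg.Agent.Lib.Walter.OrderDone
import Cfsg.Agent.Lib.Walter.Main
import Cfsg.Agent.Lib.Walter.OrderDone
import Cfsg.Agent.Lib.BenderOne.Final
import Cfsg.Agent.Lib.GorensteinWalter.Main
import Cfsg.Agent.Lib.FpfSThreeFree86.Row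
import Cfsg.Agent.Lib.SFourFree67.Main
-- import your own Cfsg.Agent.* helpers here

set_option autoImplicit false
open Cfsg

namespace Cfsg.Agent.S4041

/-- Let G be a finite group in which the symmetric group of degree 3 is not involved, and let π be the set of primes dividing the order of G. Let a finite group A act on G by automorphisms so that the identity is the only element of G fixed by every element of A, and suppose A has a nilpotent Hall π-subgroup and a normal π-complement (a normal subgroup whose order is divisible by no prime of π and whose index is divisible only by primes of π). Then G is solvable. -/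
theorem result {G A : Type*} [Group G] [Finite G]
    [Group A] [Finite A] (φ : A →* MulAut G) (hfpf : ∀ g : G, (∀ a : A, φ a g = g) → g = 1)
    (hS3 : ¬ Cfsg.Involves (Equiv.Perm (Fin 3)) G)
    (hHall : ∃ H : Subgroup A, Cfsg.IsPiHall {r : ℕ | r.Prime ∧ r ∣ Nat.card G} H ∧ Group.IsNilpotent H)
    (hcomp : ∃ K : Subgroup A, K.Normal ∧ (∀ r : ℕ, r.Prime → r ∣ Nat.card K → ¬ r ∣ Nat.card G) ∧
      ∀ r : ℕ, r.Prime → r ∣ K.index → r ∣ Nat.card G) :
    Group.IsSolvable G := by
  exact Cfsg.Agent.Lib.FpfSThreeFree86.row4041 (Cfsg.Agent.Lib.SFourFree67.sThreeFreeSimple (Cfsg.Agent.Lib.Goldschmidt53.simple_of_sections (Cfsg.Agent.Lib.Goldschmidt53.sections_of (Cfsg.Agent.Lib.Goldschmidt53.RankTwoMin.rankTwoMin Cfsg.Agent.Lib.Goldschmidt53.RankTwoMin.structure_ Cfsg.Agent.Lib.Goldschmidt53.RankTwoMin.propCase1))) Cfsg.Agent.Lib.Walter.propNoField (Cfsg.Agent.Lib.Walter.propOrder)) φ hfpf hS3 hHall hcomp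

end Cfsg.Agent.S4041
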