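import Cfsg.Statements.S4043
import Cfsg.Agent.Lib.Coprime.Conjugacy
import Cfsg.Agent.Lib.Cores.Basic

set_option autoImplicit false
open Cfsg

namespace Cfsg.Agent.S4043

open Subgroup
open scoped Pointwise

/-- The normal `p`-complement `K` of a complement, pushed to `G`: `NK` is normal and `K` is the
coprime part. -/
theorem fixed_of_normalizes {G : Type*} [Group G] [Finite G] {p : ℕ} [Fact p.Prime]
    (N : Subgroup G) [N.Normal] (hN : IsPGroup p N) (A : Subgroup G)
    (hAp : Cfsg.HasNormalPComplement p A)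
    (hC : ∀ n : G, n ∈ N → (∀ a : G, a ∈ A → a * n * a⁻¹ = n) → n = 1)
    (hA : A.IsComplement' N) :
    ∃ K : Subgroup G, K ≤ A ∧ A ≤ Subgroup.normalizer (K : Set G) ∧ ¬ p ∣ Nat.card K ∧
      (∃ k : ℕ, A.index * p ^ k * Nat.card K = Nat.card G) ∧
      Subgroup.normalizer (K : Set G) = A := by
  obtain ⟨P, K₀, hK₀, hKP⟩ := hAp
  obtain ⟨j, hj⟩ := IsPGroup.iff_card.1 P.isPGroup'
  have hKidx : K₀.index = p ^ j := hKP.symm.index_eq_card.trans hj
  have hK0p : ¬ p ∣ Nat.card K₀ := hKP.index_eq_card ▸ P.not_dvd_index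
  set K := K₀.map A.subtype with hK
  have hKA : K ≤ A := Subgroup.map_subtype_le K₀
  have hcardK : Nat.card K = Nat.card K₀ := Subgroup.card_map_of_injective A.subtype_injective
  have hAK : A ≤ Subgroup.normalizer (K : Set G) := by
    intro a ha
    rw [Subgroup.mem_normalizer_iff]
    intro z
    constructor
    · rintro ⟨w, hw, rfl⟩
      exact ⟨_, hK₀.conj_mem w hw ⟨a, ha⟩, rfl⟩
    · rintro ⟨w, hw, hwz⟩
      refine ⟨_, hK₀.conj_mem w hw ⟨a⁻¹, inv_mem ha⟩, ?_⟩
      show a⁻¹ * (A.subtype w) * a⁻¹⁻¹ = z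
      rw [hwz]; group
  -- the fixed points of `K` on `N`
  have hfix : ∀ n ∈ N, n ∈ Subgroup.normalizer (K : Set G) → n = 1 := by
    by_contra hcon
    push Not at hcon
    obtain ⟨n₀, hn₀, hn₀K, hn₀1⟩ := hcon
    let C := N ⊓ Subgroup.centralizer (K : Set G)
    have hcent : ∀ n ∈ N, n ∈ Subgroup.normalizer (K : Set G) → n ∈ C := by
      intro n hn hnK
      refine ⟨hn, Subgroup.mem_centralizer_iff.2 fun z hz => ?_⟩
      have h1 : n * z * n⁻¹ * z⁻¹ ∈ K :=
        mul_mem ((Subgroup.mem_normalizer_iff.1 hnK z).1 hz) (inv_mem hz)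
      have h2 : n * z * n⁻¹ * z⁻¹ ∈ N := by
        rw [mul_assoc n, mul_assoc n]
        exact mul_mem hn ((inferInstance : N.Normal).conj_mem _ (inv_mem hn) z)
      have h3 := (hA.disjoint.le_bot (show n * z * n⁻¹ * z⁻¹ ∈ A ⊓ N from ⟨hKA h1, h2⟩))
      rw [Subgroup.mem_bot, mul_inv_eq_one, mul_inv_eq_iff_eq_mul] at h3
      exact h3.symm
    have hconj : ∀ a ∈ A, ∀ c ∈ C, a * c * a⁻¹ ∈ C := by
      intro a ha c hc
      refine hcent _ ((inferInstance : N.Normal).conj_mem c hc.1 a) ?_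
      exact mul_mem (mul_mem (hAK ha) ((Subgroup.centralizer_le_normalizer _) hc.2))
        (inv_mem (hAK ha))
    letI : MulAction (P : Subgroup A) C :=
      { smul := fun a c => ⟨((a : A) : G) * c.1 * ((a : A) : G)⁻¹, hconj _ (a : A).2 _ c.2⟩
        one_smul := fun c => Subtype.ext (show ((1 : A) : G) * c.1 * ((1 : A) : G)⁻¹ = c.1 by simp)
        mul_smul := fun a b c => Subtype.ext (show _ = ((a : A) : G) * (((b : A) : G) * c.1 *
          ((b : A) : G)⁻¹) * ((a : A) : G)⁻¹ by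
          show ((a : A) : G) * ((b : A) : G) * c.1 * (((a : A) : G) * ((b : A) : G))⁻¹ = _
          group) }
    obtain ⟨i, hi⟩ := IsPGroup.iff_card.1 (hN.to_le (inf_le_left : C ≤ N))
    have hdvd : p ∣ Nat.card C := by
      rw [hi]
      refine dvd_pow_self p fun h0 => ?_
      haveI : Nontrivial C := ⟨⟨⟨n₀, hcent n₀ hn₀ hn₀K⟩, 1, fun h => hn₀1 (congrArg Subtype.val h)⟩⟩
      have := Finite.one_lt_card (α := C)
      rw [hi, h0, pow_zero] at this
      omega
    obtain ⟨c, hc, hc1⟩ := P.isPGroup'.exists_fixed_point_of_prime_dvd_card_of_fixed_point C hdvd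
      (a := 1) (fun a => Subtype.ext (show ((a : A) : G) * 1 * ((a : A) : G)⁻¹ = 1 by simp))
    refine hc1.symm (Subtype.ext (hC c.1 c.2.1 fun a ha => ?_))
    obtain ⟨⟨⟨u, hu⟩, ⟨v, hv⟩⟩, huv, -⟩ := hKP.existsUnique (⟨a, ha⟩ : A)
    have ha' : (u : G) * (v : G) = a := congrArg Subtype.val huv
    have hvc : (v : G) * c.1 * (v : G)⁻¹ = c.1 := congrArg Subtype.val (hc ⟨v, hv⟩)
    rw [← ha', show (u : G) * v * c.1 * ((u : G) * v)⁻¹ = u * ((v : G) * c.1 * (v : G)⁻¹) * (u : G)⁻¹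
      by group, hvc, show (u : G) * c.1 = c.1 * u from
        Subgroup.mem_centralizer_iff.1 c.2.2 _ ⟨u, hu, rfl⟩, mul_inv_cancel_right]
  refine ⟨K, hKA, hAK, hcardK ▸ hK0p, ⟨j, ?_⟩, le_antisymm ?_ hAK⟩
  · rw [hcardK, ← A.index_mul_card, mul_assoc, ← hKidx, K₀.index_mul_card]
  · intro g hg
    obtain ⟨⟨⟨a, ha⟩, ⟨n, hn⟩⟩, rfl, -⟩ := hA.existsUnique g
    have hnK : n ∈ Subgroup.normalizer (K : Set G) := by
      have := mul_mem (inv_mem (hAK ha)) hg
      rwa [inv_mul_cancel_left] at this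
    show a * n ∈ A
    rw [hfix n hn hnK, mul_one]
    exact ha

/-- Let G be a finite group that is the semidirect product of a normal p-subgroup N by a subgroup A, and also of N by a subgroup A₁, where p is a prime and A and A₁ both have normal p-complements. If C_N(A) = C_N(A₁) = 1, then A₁ is conjugate to A by an element of N. -/
theorem result {G : Type*} [Group G] [Finite G] {p : ℕ}
    [Fact p.Prime] (N : Subgroup G) [N.Normal] (hN : IsPGroup p N) (A A₁ : Subgroup G)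
    (hA : A.IsComplement' N) (hA₁ : A₁.IsComplement' N)
    (hAp : Cfsg.HasNormalPComplement p A) (hA₁p : Cfsg.HasNormalPComplement p A₁)
    (hC : ∀ n : G, n ∈ N → (∀ a : G, a ∈ A → a * n * a⁻¹ = n) → n = 1)
    (hC₁ : ∀ n : G, n ∈ N → (∀ a : G, a ∈ A₁ → a * n * a⁻¹ = n) → n = 1) :
    ∃ n : G, n ∈ N ∧ A₁ = A.map (MulAut.conj n).toMonoidHom := by
  obtain ⟨K, hKA, -, hKp, ⟨j, hj⟩, hNK⟩ := fixed_of_normalizes N hN A hAp hC hA
  obtain ⟨K₁, hKA₁, -, hKp₁, ⟨j₁, hj₁⟩, hNK₁⟩ := fixed_of_normalizes N hN A₁ hA₁p hC₁ hA₁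
  have hp : p.Prime := Fact.out
  obtain ⟨i, hi⟩ := IsPGroup.iff_card.1 hN
  -- the two `p'`-parts have the same order
  have hidx : A.index = p ^ i := hA.symm.index_eq_card.trans hi
  have hidx₁ : A₁.index = p ^ i := hA₁.symm.index_eq_card.trans hi
  have hfac : ∀ {m : ℕ} {a : ℕ}, p ^ a * m = Nat.card G → ¬ p ∣ m →
      m = Nat.card G / p ^ (Nat.card G).factorization p := by
    intro m a h hm
    have h0 : m ≠ 0 := fun h0 => hm (h0 ▸ dvd_zero p)
    have : (Nat.card G).factorization p = a := by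
      rw [← h, Nat.factorization_mul (by simp [hp.ne_zero]) h0, Finsupp.add_apply,
        hp.factorization_pow, Finsupp.single_eq_same, Nat.factorization_eq_zero_of_not_dvd hm,
        add_zero]
    rw [this, ← h, Nat.mul_div_cancel_left _ (pow_pos hp.pos _)]
  rw [hidx, ← pow_add] at hj
  rw [hidx₁, ← pow_add] at hj₁
  have hcard : Nat.card K₁ = Nat.card K := (hfac hj₁ hKp₁).trans (hfac hj hKp).symm
  have hcop : (Nat.card K).Coprime (Nat.card N) := by
    rw [hi]; exact Nat.Coprime.pow_right i (hp.coprime_iff_not_dvd.2 hKp).symm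
  -- `K₁ ≤ KN`
  let f := QuotientGroup.mk' N
  have hmem : ∀ g : G, (orderOf g).Coprime p → ∃ a ∈ A, f a = f g := by
    intro g _
    obtain ⟨⟨⟨a, ha⟩, ⟨n, hn⟩⟩, rfl, -⟩ := hA.existsUnique g
    exact ⟨a, ha, by simp [f, (QuotientGroup.eq_one_iff n).2 hn]⟩
  have hB : K₁ ≤ K ⊔ N := by
    intro g hg
    obtain ⟨⟨⟨a, ha⟩, ⟨n, hn⟩⟩, rfl, -⟩ := hA.existsUnique g
    change a * n ∈ K₁ at hg
    refine mul_mem (Subgroup.mem_sup_left ?_) (Subgroup.mem_sup_right hn)
    -- `a` has `p'`-order modulo the normal `p`-complement of `A`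
    obtain ⟨P, K₀, hK₀, hKP⟩ := hAp
    have hcopn : (orderOf (a * n)).Coprime p := Nat.Coprime.symm (hp.coprime_iff_not_dvd.2
      fun h => hKp₁ (h.trans (K₁.orderOf_dvd_natCard hg)))
    have ham : a ^ orderOf (a * n) ∈ N := by
      rw [← QuotientGroup.eq_one_iff]
      have h1 : f (a * n) = f a := by simp [f, (QuotientGroup.eq_one_iff n).2 hn]
      show f (a ^ orderOf (a * n)) = 1
      rw [map_pow, ← h1, ← map_pow, pow_orderOf_eq_one, map_one]
    have hao : a ^ orderOf (a * n) = 1 :=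
      Subgroup.mem_bot.1 (hA.disjoint.le_bot ⟨A.pow_mem ha _, ham⟩)
    -- `K` is the set of `p'`-elements of `A`
    have hKK : K ⊔ Subgroup.zpowers a ≤ A := sup_le hKA (Subgroup.zpowers_le.2 ha)
    have hKn : Subgroup.zpowers a ≤ Subgroup.normalizer (K : Set G) := by
      rw [hNK]; exact Subgroup.zpowers_le.2 ha
    by_contra haK
    have hdvd : Nat.card (K ⊔ Subgroup.zpowers a : Subgroup G) ∣ Nat.card A :=
      Subgroup.card_dvd_of_le hKK
    haveI : (K.subgroupOf (K ⊔ Subgroup.zpowers a)).Normal :=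
      Subgroup.normal_subgroupOf_iff_le_normalizer le_sup_left |>.2
        (sup_le Subgroup.le_normalizer hKn)
    let a' : (K ⊔ Subgroup.zpowers a : Subgroup G) :=
      ⟨a, Subgroup.mem_sup_right (Subgroup.mem_zpowers a)⟩
    have hA' : ∃ b : ℕ, (K.subgroupOf A).index = p ^ b := by
      refine ⟨j, ?_⟩
      have h1 := (K.subgroupOf A).index_mul_card
      rw [Nat.card_congr (Subgroup.subgroupOfEquivOfLe hKA).toEquiv] at h1
      have h2 := A.index_mul_card
      rw [hidx, ← h1, ← hj, pow_add, mul_assoc] at h2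
      exact Nat.eq_of_mul_eq_mul_right Nat.card_pos
        (Nat.eq_of_mul_eq_mul_left (pow_pos hp.pos i) h2)
    obtain ⟨b, hb⟩ := hA'
    have hdiv : (K.subgroupOf (K ⊔ Subgroup.zpowers a)).index ∣ p ^ b := by
      rw [← hb]
      exact ⟨_, (Subgroup.relIndex_mul_relIndex K (K ⊔ Subgroup.zpowers a) A le_sup_left hKK).symm⟩
    apply haK
    have h3 : a' ∈ K.subgroupOf (K ⊔ Subgroup.zpowers a) := by
      rw [← QuotientGroup.eq_one_iff]
      refine orderOf_eq_one_iff.1 (Nat.eq_one_of_dvd_coprimes (Nat.Coprime.pow_left b hcopn.symm)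
        ((_root_.orderOf_dvd_natCard _).trans hdiv) (orderOf_dvd_of_pow_eq_one ?_))
      rw [← QuotientGroup.mk_pow, show a' ^ orderOf (a * n) = 1 from Subtype.ext hao]; rfl
    exact h3
  obtain ⟨k, hk, hkK⟩ := Cfsg.Agent.Lib.Coprime.exists_conj_eq_of_coprime (A := K) (B := K₁)
    (K := N) Subgroup.le_normalizer_of_normal hcop (Or.inr (haveI := hN.isNilpotent; inferInstance)) hB hcard
  refine ⟨k, hk, ?_⟩
  rw [← hNK₁, ← hNK, ← hkK, Cfsg.Agent.Lib.Coprime.conj_smul_eq_map]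
  exact (Subgroup.map_normalizer_eq_of_bijective K (MulAut.conj k).bijective).symm

end Cfsg.Agent.S4043
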