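import Cfsg.Statements.S4047
import Cfsg.Agent.Lib.Walter.NoFieldDone
import Cfsg.Agent.Lib.PiHomogTwo80.Simple
-- import your own Cfsg.Agent.* helpers here

set_option autoImplicit false
open Cfsg

namespace Cfsg.Agent.S4047

/-- Let π be a set of odd primes and G a finite group whose Sylow 2-subgroups are dihedral or abelian. If N_G(H)/C_G(H) is a π-group for every nontrivial π-subgroup H of G, then the π'-elements of G form a subgroup. -/
theorem result {G : Type*} [Group G] [Finite G] (π : Set ℕ)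
    (hodd : ∀ p ∈ π, p.Prime ∧ p ≠ 2) (h2 : ∀ S : Sylow 2 G, IsMulCommutative S ∨ ∃ n : ℕ, Nonempty ((S : Subgroup G) ≃* DihedralGroup n))
    (hhom : (∀ H : Subgroup G, H ≠ ⊥ → (∀ p : ℕ, p.Prime → p ∣ Nat.card ↥H → p ∈ π) →
        ∀ p : ℕ, p.Prime → p ∣ (Subgroup.centralizer (H : Set G)).relIndex (Subgroup.normalizer (H : Set G)) → p ∈ π)) :
    (∃ K : Subgroup G, ∀ x : G, x ∈ K ↔ ∀ p : ℕ, p.Prime → p ∣ orderOf x → p ∉ π) := by
  exact Cfsg.Agent.Lib.PiHomogTwo80.row4047 Cfsg.Agent.Lib.Walter.propNoField Cfsg.Agent.Lib.Walter.propOrder π hodd h2 hhom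

end Cfsg.Agent.S4047
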