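import Cfsg.Statements.S4049
import Cfsg.Agent.Lib.Elem70.Lift

set_option autoImplicit false
open Cfsg

namespace Cfsg.Agent.S4049

open Cfsg.Agent.Lib.Elem70

/-- Let G be a finite group such that N_G(H)/C_G(H) has odd order for every nontrivial subgroup H of odd order. Then the Sylow 2-subgroups of G are normal. -/
theorem result {G : Type*} [Group G] [Finite G]
    (hhom : ∀ H : Subgroup G, H ≠ ⊥ → ¬ 2 ∣ Nat.card ↥H →
        ¬ 2 ∣ (Subgroup.centralizer (H : Set G)).relIndex (Subgroup.normalizer (H : Set G))) (P : Sylow 2 G) :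
    (P : Subgroup G).Normal := by
  refine sylow_two_normal_of_no_real (fun p x g₀ hp hp2 hx hg₀ => ?_) P
  obtain ⟨g, ⟨k, hk⟩, hg⟩ := exists_two_inverter hg₀
  set H := Subgroup.zpowers x with hH
  have hgN : g ∈ Subgroup.normalizer (H : Set G) := by
    rw [hH, Subgroup.mem_normalizer_iff]
    intro z
    have hz : ∀ n : ℤ, g * x ^ n * g⁻¹ = x ^ (-n) := fun n => by
      rw [← conj_zpow, hg, inv_zpow, zpow_neg]
    constructor
    · rintro ⟨n, rfl⟩; exact ⟨-n, (hz n).symm⟩
    · rintro ⟨n, hn⟩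
      refine ⟨-n, ?_⟩
      have := hz (-n)
      rw [neg_neg] at this
      exact mul_left_cancel (mul_right_cancel (this.trans hn))
  have hcard : Nat.card H = p := by rw [hH, Nat.card_zpowers, hx]
  have h1 := hhom H (fun h => by rw [h] at hcard; simp at hcard; exact hp.ne_one hcard.symm)
    (by rw [hcard]; exact fun h => hp2 ((Nat.prime_dvd_prime_iff_eq Nat.prime_two hp).1 h).symm)
  let C := (Subgroup.centralizer (H : Set G)).subgroupOf (Subgroup.normalizer (H : Set G))
  haveI hCn : C.Normal := by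
    refine ⟨fun c hc m => ?_⟩
    show (m : G) * c * (m : G)⁻¹ ∈ Subgroup.centralizer (H : Set G)
    rw [Subgroup.mem_centralizer_iff]
    intro z hz
    have hz' : (m : G)⁻¹ * z * m ∈ H := by
      have := (Subgroup.mem_normalizer_iff.1 (inv_mem m.2) z).1 hz
      simpa using this
    have h3 : (m : G)⁻¹ * z * m * (c : G) = (c : G) * ((m : G)⁻¹ * z * m) :=
      Subgroup.mem_centralizer_iff.1 hc _ hz'
    calc z * ((m : G) * c * (m : G)⁻¹) = (m : G) * ((m : G)⁻¹ * z * m * c) * (m : G)⁻¹ := by group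
      _ = (m : G) * ((c : G) * ((m : G)⁻¹ * z * m)) * (m : G)⁻¹ := by rw [h3]
      _ = (m : G) * c * (m : G)⁻¹ * z := by group
  have hgC : (⟨g, hgN⟩ : Subgroup.normalizer (H : Set G)) ∈ C := by
    rw [← QuotientGroup.eq_one_iff]
    have h2 : (QuotientGroup.mk (⟨g, hgN⟩ : Subgroup.normalizer (H : Set G)) :
        Subgroup.normalizer (H : Set G) ⧸ C) ^ 2 ^ k = 1 := by
      rw [← QuotientGroup.mk_pow, show (⟨g, hgN⟩ : Subgroup.normalizer (H : Set G)) ^ 2 ^ k = 1 from
        Subtype.ext hk]; rfl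
    exact orderOf_eq_one_iff.1 (Nat.eq_one_of_dvd_coprimes
      (Nat.Coprime.pow_left k (Nat.prime_two.coprime_iff_not_dvd.2 h1))
      (orderOf_dvd_of_pow_eq_one h2) (orderOf_dvd_natCard _))
  have hc := Subgroup.mem_centralizer_iff.1 (Subgroup.mem_subgroupOf.1 hgC) x
    (Subgroup.mem_zpowers x)
  simp only at hc
  rw [← hc, mul_inv_cancel_right] at hg
  have h2 : x ^ 2 = 1 := by rw [pow_two]; exact mul_eq_one_iff_eq_inv.2 hg
  have h3 := orderOf_dvd_of_pow_eq_one h2
  rw [hx] at h3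
  exact hp2 ((Nat.prime_dvd_prime_iff_eq hp Nat.prime_two).1 h3)

end Cfsg.Agent.S4049
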