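import Cfsg.Statements.S4052
import Cfsg.Agent.Lib.BC77.DPiHom.Control
import Cfsg.Agent.Lib.Brauer.HallExtension

set_option autoImplicit false
open Cfsg

namespace Cfsg.Agent.S4052

/-- Let π be a set of primes and G a finite group whose maximal π-subgroups are pairwise conjugate (so Hall π-subgroups exist, any two are conjugate, and every π-subgroup lies in one of them), and suppose N_G(H)/C_G(H) is a π-group for every nontrivial π-subgroup H. If either 3 does not divide the order of G, or the π'-elements of every proper subgroup of G form a subgroup, then the π'-elements of G form a subgroup. -/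
theorem result {G : Type*} [Group G] [Finite G] (π : Set ℕ)
    (hπ : ∀ p ∈ π, p.Prime) (hD : Cfsg.IsDPiGroup π G) (hhom : (∀ H : Subgroup G, H ≠ ⊥ → (∀ p : ℕ, p.Prime → p ∣ Nat.card ↥H → p ∈ π) →
        ∀ p : ℕ, p.Prime → p ∣ (Subgroup.centralizer (H : Set G)).relIndex (Subgroup.normalizer (H : Set G)) → p ∈ π))
    (hcase : ¬ 3 ∣ Nat.card G ∨ ∀ M : Subgroup G, M ≠ ⊤ →
      ∃ L : Subgroup ↥M, ∀ x : ↥M, x ∈ L ↔ ∀ p : ℕ, p.Prime → p ∣ orderOf x → p ∉ π) :
    (∃ K : Subgroup G, ∀ x : G, x ∈ K ↔ ∀ p : ℕ, p.Prime → p ∣ orderOf x → p ∉ π) := by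
  classical
  -- a maximal π-subgroup dominates every π-subgroup
  have hbot : Cfsg.IsPiSubgroup π (⊥ : Subgroup G) := fun q hq hdvd => by
    rw [Subgroup.card_bot] at hdvd
    exact absurd (Nat.eq_one_of_dvd_one hdvd) hq.ne_one
  obtain ⟨H, -, hmax⟩ := Finite.exists_le_maximal hbot
  have hD' : Lib.BC77.DPiHom.Dom π H := by
    refine ⟨hmax.prop, fun L hL => ?_⟩
    obtain ⟨K, hLK, hK⟩ := Finite.exists_le_maximal (p := Cfsg.IsPiSubgroup π) (a := L) hL
    obtain ⟨x, hx⟩ := hD H K hmax hK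
    exact ⟨x, hLK.trans hx.le⟩
  have hh : Lib.BC77.DPiHom.Hom π G := by
    intro L hL n hn hnπ
    by_cases hL1 : L = ⊥
    · subst hL1
      rw [Subgroup.mem_centralizer_iff]
      intro y hy
      simp only [SetLike.mem_coe, Subgroup.mem_bot] at hy
      simp [hy]
    set N := Subgroup.normalizer (L : Set G) with hN
    set C := Subgroup.centralizer (L : Set G) with hC
    haveI : (C.subgroupOf N).Normal := by
      constructor
      intro c hc g
      rw [Subgroup.mem_subgroupOf] at hc ⊢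
      exact Lib.BC77.DPiHom.conj_mem_centralizer g.2 hc
    let f := QuotientGroup.mk' (C.subgroupOf N)
    have h1 : orderOf (f ⟨n, hn⟩) ∣ orderOf n := by
      refine (orderOf_map_dvd f _).trans (dvd_of_eq ?_)
      exact (Subgroup.orderOf_coe ⟨n, hn⟩).symm
    have h2 : orderOf (f ⟨n, hn⟩) ∣ C.relIndex N := by
      refine (_root_.orderOf_dvd_natCard _).trans (dvd_of_eq ?_)
      exact (Subgroup.index_eq_card _).symm
    have h3 : f ⟨n, hn⟩ = 1 := by
      rw [← orderOf_eq_one_iff]
      by_contra hne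
      obtain ⟨q, hq, hqd⟩ := Nat.exists_prime_and_dvd hne
      exact hnπ q hq (hqd.trans h1) (hhom L hL1 hL q hq (hqd.trans h2))
    exact Subgroup.mem_subgroupOf.mp ((QuotientGroup.eq_one_iff _).mp h3)
  haveI : Fintype G := Fintype.ofFinite G
  obtain ⟨K, hKn, hKH, hKi⟩ := Lib.Brauer.HallExtension.exists_complement (H := H)
    ⟨hD'.coprime, fun x hx y hy hxy => Lib.BC77.DPiHom.fusion hh hD' hx hy hxy,
      fun E p _ _ hE => by
        obtain ⟨x, hx⟩ := hD'.le_cj E fun q hq hdvd => hD'.piNum q hq (hdvd.trans hE)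
        refine ⟨x⁻¹, ?_⟩
        have := Lib.BC77.DPiHom.cj_mono (x := x⁻¹) hx
        rwa [Lib.BC77.DPiHom.cj_inv_cj] at this⟩
  haveI := hKn
  have hc : Subgroup.IsComplement' K H :=
    Subgroup.isComplement'_of_disjoint_and_mul_eq_univ (disjoint_iff.mpr hKi)
      (by rw [← Subgroup.normal_mul, hKH, Subgroup.coe_top])
  refine ⟨K, fun x => ⟨fun hx q hq hdvd hqπ => ?_, fun hx => ?_⟩⟩
  · have h1 : orderOf x ∣ Nat.card K := K.orderOf_dvd_natCard hx
    rw [← hc.index_eq_card] at h1
    exact hD'.not_dvd_index hq hqπ (hdvd.trans h1)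
  · have h1 : orderOf (QuotientGroup.mk' K x) ∣ orderOf x := orderOf_map_dvd _ x
    have h2 : orderOf (QuotientGroup.mk' K x) ∣ Nat.card H := by
      rw [← hc.symm.index_eq_card, Subgroup.index_eq_card]
      exact _root_.orderOf_dvd_natCard _
    refine (QuotientGroup.eq_one_iff x).mp (orderOf_eq_one_iff.mp ?_)
    by_contra hne
    obtain ⟨q, hq, hqd⟩ := Nat.exists_prime_and_dvd hne
    exact hx q hq (hqd.trans h1) (hD'.piNum q hq (hqd.trans h2))

end Cfsg.Agent.S4052
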