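import Cfsg.Statements.S4056
import Cfsg.Agent.Lib.PGroups.Frattini
import Mathlib.GroupTheory.Nilpotent
import Mathlib.GroupTheory.Exponent

set_option autoImplicit false
open Cfsg

namespace Cfsg.Agent.S4056

/-- In a finite 2-group of nilpotency class at most 2 and exponent dividing 4, the Frattini subgroup lies in the centre and is elementary abelian. -/
theorem result {P : Type*} [Group P] [Finite P] (hP : IsPGroup 2 P)
    (hcl : Group.nilpotencyClass P ≤ 2) (hexp : Monoid.exponent P ∣ 4) :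
    frattini P ≤ Subgroup.center P ∧ Cfsg.IsElementaryAbelian 2 (frattini P) := by
  haveI : Fact (Nat.Prime 2) := ⟨Nat.prime_two⟩
  haveI := hP.isNilpotent
  have h3 : Subgroup.lowerCentralSeries (⊤ : Subgroup P) 2 = ⊥ :=
    Subgroup.lowerCentralSeries_eq_bot_iff_nilpotencyClass_le.2 hcl
  have hpow4 : ∀ x : P, x ^ 4 = 1 := fun x => by
    obtain ⟨k, hk⟩ := hexp
    rw [hk, pow_mul, Monoid.pow_exponent_eq_one, one_pow]
  -- the subgroup of central involutions
  let N : Subgroup P :=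
    { carrier := {z | z ∈ Subgroup.center P ∧ z ^ 2 = 1}
      one_mem' := ⟨one_mem _, one_pow _⟩
      mul_mem' := fun {a b} ha hb => ⟨mul_mem ha.1 hb.1, by
        rw [Commute.mul_pow (Subgroup.mem_center_iff.1 hb.1 a), ha.2, hb.2, one_mul]⟩
      inv_mem' := fun {a} ha => ⟨inv_mem ha.1, by rw [inv_pow, ha.2, inv_one]⟩ }
  haveI : N.Normal := ⟨fun z hz g => by
    rw [Subgroup.mem_center_iff.1 hz.1 g, mul_inv_cancel_right]; exact hz⟩
  have hcen : ∀ c ∈ commutator P, c ∈ Subgroup.center P := by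
    intro c hc
    rw [Subgroup.mem_center_iff]
    intro y
    have : c * y * c⁻¹ * y⁻¹ ∈ Subgroup.lowerCentralSeries (⊤ : Subgroup P) 2 := by
      rw [Subgroup.lowerCentralSeries_succ]
      refine Subgroup.commutator_mem_commutator ?_ (Subgroup.mem_top y)
      rw [Subgroup.top_lowerCentralSeries_one]; exact hc
    rw [h3, Subgroup.mem_bot, mul_inv_eq_one, mul_inv_eq_iff_eq_mul] at this
    exact this.symm
  have hsq : ∀ x y : P, (x * y * x⁻¹ * y⁻¹) ^ 2 = 1 ∧ x ^ 2 * y = y * x ^ 2 := by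
    intro x y
    set c := x * y * x⁻¹ * y⁻¹ with hc
    have hcm : c ∈ commutator P :=
      Subgroup.commutator_mem_commutator (Subgroup.mem_top x) (Subgroup.mem_top y)
    have hz := fun g => (Subgroup.mem_center_iff.1 (hcen c hcm)) g
    have hxy : x * y = c * (y * x) := by rw [hc]; group
    have h2 : x ^ 2 * y = c ^ 2 * (y * x ^ 2) := by
      calc x ^ 2 * y = x * (x * y) := by rw [pow_two, mul_assoc]
        _ = x * c * (y * x) := by rw [mul_assoc x c, ← hxy]
        _ = c * (x * y) * x := by rw [hz x]; group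
        _ = c * (c * (y * x)) * x := by rw [hxy]
        _ = c ^ 2 * (y * x ^ 2) := by simp only [pow_two, mul_assoc]
    have hc2 : c ^ 2 = 1 := by
      have hyx : y * x = c⁻¹ * (x * y) := by rw [hxy]; group
      have hzi : ∀ g, g * c⁻¹ = c⁻¹ * g := fun g =>
        (Subgroup.mem_center_iff.1 (inv_mem (hcen c hcm))) g
      have e1 : (x * y) ^ 2 = c⁻¹ * (x ^ 2 * y ^ 2) := by
        calc (x * y) ^ 2 = x * (y * x) * y := by rw [pow_two]; group
          _ = x * c⁻¹ * (x * y) * y := by rw [hyx]; group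
          _ = c⁻¹ * (x ^ 2 * y ^ 2) := by rw [hzi x]; simp only [pow_two, mul_assoc]
      have hzc2 : ∀ g, g * c ^ 2 = c ^ 2 * g := fun g =>
        (Subgroup.mem_center_iff.1 (pow_mem (hcen c hcm) 2)) g
      have h4 : x ^ 2 * y ^ 2 = y ^ 2 * x ^ 2 := by
        calc x ^ 2 * y ^ 2 = (x ^ 2 * y) * y := by rw [pow_two y, mul_assoc]
          _ = c ^ 2 * y * (x ^ 2 * y) := by conv_lhs => rw [h2, mul_assoc, mul_assoc y, ← mul_assoc]
          _ = c ^ 2 * (y * c ^ 2) * (y * x ^ 2) := by rw [h2]; group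
          _ = c ^ 4 * (y ^ 2 * x ^ 2) := by
            rw [hzc2 y, show 4 = 2 + 2 from rfl, pow_add, pow_two y]; simp only [mul_assoc]
          _ = y ^ 2 * x ^ 2 := by rw [hpow4, one_mul]
      have e2 : (1 : P) = c⁻¹ ^ 2 :=
        calc (1 : P) = (x * y) ^ 2 * (x * y) ^ 2 := by rw [← pow_add, hpow4]
          _ = c⁻¹ * ((x ^ 2 * y ^ 2) * c⁻¹) * (x ^ 2 * y ^ 2) := by rw [e1]; group
          _ = c⁻¹ ^ 2 * (x ^ 2 * (y ^ 2 * x ^ 2) * y ^ 2) := by rw [hzi]; group
          _ = c⁻¹ ^ 2 * (x ^ 4 * y ^ 4) := by rw [← h4]; group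
          _ = c⁻¹ ^ 2 := by rw [hpow4, hpow4, mul_one, mul_one]
      rw [inv_pow] at e2
      exact inv_eq_one.1 e2.symm
    exact ⟨hc2, by rw [h2, hc2, one_mul]⟩
  have hle : frattini P ≤ N := by
    refine Cfsg.Agent.Lib.PGroups.frattini_le_of_pow_commutator (p := 2) N ?_ ?_
    · exact fun x => ⟨Subgroup.mem_center_iff.2 fun y => ((hsq x y).2).symm,
        by rw [← pow_mul]; exact hpow4 x⟩
    · rw [commutator_eq_closure, Subgroup.closure_le]
      rintro _ ⟨x, y, rfl⟩
      exact ⟨hcen _ (Subgroup.commutator_mem_commutator (Subgroup.mem_top x) (Subgroup.mem_top y)),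
        (hsq x y).1⟩
  exact ⟨fun z hz => (hle hz).1,
    ⟨⟨fun a b => Subtype.ext (Subgroup.mem_center_iff.1 (hle b.2).1 a)⟩⟩, fun a ha => (hle ha).2⟩

end Cfsg.Agent.S4056
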