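import Cfsg.Statements.S4057
import Cfsg.Agent.Lib.Elem70.GenBound
import Cfsg.Agent.Lib.PGroups.MaxAbelian
import Cfsg.Agent.Lib.PGroups.Omega
-- import your own Cfsg.Agent.* helpers here

set_option autoImplicit false
open Cfsg
open scoped commutatorElement

namespace Cfsg.Agent.S4057

/-- A chief flag of a normal subgroup of a finite `p`-group. -/
theorem exists_flag {P : Type*} [Group P] [Finite P] {p : ℕ} [hp : Fact p.Prime] (hP : IsPGroup p P)
    (A : Subgroup P) [hA : A.Normal] (a : ℕ) (ha : Nat.card A = p ^ a) :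
    ∃ (N : ℕ → Subgroup P) (e : ℕ → P), N 0 = A ∧ (∀ n, a ≤ n → N n = ⊥) ∧ Antitone N ∧
      (∀ n, (N n).Normal) ∧ (∀ n, ∀ g : P, ∀ u ∈ N n, g * u * g⁻¹ * u⁻¹ ∈ N (n + 1)) ∧
      (∀ n, N n = N (n + 1) ⊔ Subgroup.zpowers (e n)) ∧ ∀ n, e n ^ p ∈ N (n + 1) := by
  classical
  have step : ∀ B : Subgroup P, B.Normal → ∃ (M : Subgroup P) (v : P), M.Normal ∧ M ≤ B ∧
      (B = ⊥ ∨ Nat.card M * p = Nat.card B) ∧
      (∀ g : P, ∀ u ∈ B, g * u * g⁻¹ * u⁻¹ ∈ M) ∧ B = M ⊔ Subgroup.zpowers v ∧ v ^ p ∈ M := by
    intro B hB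
    by_cases hb : B = ⊥
    · subst hb
      refine ⟨⊥, 1, Subgroup.normal_bot, le_rfl, Or.inl rfl, fun g u hu => ?_, by simp, by simp⟩
      rw [Subgroup.mem_bot.mp hu]; simp
    obtain ⟨M, hMn, hMB, hc⟩ := Lib.PGroups.exists_normal_lt_index_prime hP B hb
    haveI := hMn
    let π := QuotientGroup.mk' M
    have hcard : Nat.card (B.map π) = p := by
      have h := Subgroup.relIndex_ker (f := π) B
      rw [QuotientGroup.ker_mk'] at h
      rw [← h]
      have h1 := Subgroup.relIndex_mul_relIndex ⊥ M B bot_le hMB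
      rw [Subgroup.relIndex_bot_left, Subgroup.relIndex_bot_left, ← hc] at h1
      exact Nat.eq_of_mul_eq_mul_left Nat.card_pos h1
    haveI : (B.map π).Normal := hB.map π (QuotientGroup.mk'_surjective M)
    have hcen := Lib.PGroups.le_center_of_normal_card_prime (hP.to_quotient M) (B.map π) hcard
    obtain ⟨v, hvB, hvM⟩ : ∃ v ∈ B, v ∉ M := by
      refine SetLike.not_le_iff_exists.mp fun h => ?_
      have h2 := Subgroup.card_le_of_le h
      rw [← hc] at h2
      have := hp.out.one_lt
      have : 0 < Nat.card M := Nat.card_pos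
      nlinarith
    haveI : Fact (Nat.card (B.map π)).Prime := ⟨hcard ▸ hp.out⟩
    refine ⟨M, v, hMn, hMB, Or.inr hc, fun g u hu => ?_, le_antisymm (fun u hu => ?_)
      (sup_le hMB (Subgroup.zpowers_le.mpr hvB)), ?_⟩
    · rw [← QuotientGroup.eq_one_iff (N := M)]
      have h := Subgroup.mem_center_iff.mp (hcen ⟨u, hu, rfl⟩) (π g)
      show π (g * u * g⁻¹ * u⁻¹) = 1
      rw [map_mul, map_mul, map_mul, map_inv, map_inv, h]
      group
    · have hz : (Subgroup.zpowers (π v)).subgroupOf (B.map π) = ⊤ := by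
        refine (Subgroup.eq_bot_or_eq_top_of_prime_card _).resolve_left fun h => hvM ?_
        have hmem : (⟨π v, v, hvB, rfl⟩ : B.map π) ∈ (Subgroup.zpowers (π v)).subgroupOf (B.map π) :=
          Subgroup.mem_zpowers (π v)
        rw [h, Subgroup.mem_bot] at hmem
        exact (QuotientGroup.eq_one_iff v).mp (congrArg Subtype.val hmem)
      obtain ⟨k, hk⟩ := (Subgroup.subgroupOf_eq_top.mp hz) (⟨u, hu, rfl⟩ : π u ∈ B.map π)
      have h2 : (v ^ k)⁻¹ * u ∈ M := by
        rw [← QuotientGroup.eq_one_iff]
        show π ((v ^ k)⁻¹ * u) = 1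
        rw [map_mul, map_inv, map_zpow]
        exact inv_mul_eq_one.mpr hk
      rw [show u = v ^ k * ((v ^ k)⁻¹ * u) by group]
      exact Subgroup.mul_mem _ (Subgroup.mem_sup_right (Subgroup.zpow_mem _ (Subgroup.mem_zpowers v) k))
        (Subgroup.mem_sup_left h2)
    · rw [← QuotientGroup.eq_one_iff (N := M)]
      show π (v ^ p) = 1
      rw [map_pow]
      have h := pow_card_eq_one' (x := (⟨π v, v, hvB, rfl⟩ : B.map π))
      rw [hcard] at h
      exact congrArg Subtype.val h
  choose nx vx hn hle hc hgr hgen hpow using step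
  let seq : ℕ → {B : Subgroup P // B.Normal} := fun n =>
    Nat.rec ⟨A, hA⟩ (fun _ B => ⟨nx B.1 B.2, hn B.1 B.2⟩) n
  have hcard : ∀ n, n ≤ a → Nat.card (seq n).1 = p ^ (a - n) := by
    intro n
    induction n with
    | zero => intro _; simpa [seq] using ha
    | succ n ih =>
      intro h
      rcases hc (seq n).1 (seq n).2 with h1 | h1
      · have := ih (by omega)
        rw [h1, Subgroup.card_bot] at this
        exact absurd this.symm (Nat.one_lt_pow (by omega) hp.out.one_lt).ne'
      · rw [ih (by omega), show a - n = a - (n + 1) + 1 by omega, pow_succ] at h1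
        exact Nat.eq_of_mul_eq_mul_right hp.out.pos h1
  refine ⟨fun n => (seq n).1, fun n => vx (seq n).1 (seq n).2, rfl, ?_,
    antitone_nat_of_succ_le fun n => hle (seq n).1 (seq n).2, fun n => (seq n).2,
    fun n => hgr (seq n).1 (seq n).2, fun n => hgen (seq n).1 (seq n).2, fun n => hpow (seq n).1 (seq n).2⟩
  intro n hn'
  obtain ⟨m, rfl⟩ := Nat.exists_eq_add_of_le hn'
  induction m with
  | zero => exact Subgroup.card_eq_one.mp (by rw [Nat.add_zero, hcard a le_rfl, Nat.sub_self, pow_zero])
  | succ m ih => exact le_bot_iff.mp ((hle (seq (a + m)).1 (seq (a + m)).2).trans (ih (by omega)).le)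

/-- Let p be an odd prime and P a finite p-group in which every normal abelian subgroup can be generated by k elements. Then every subgroup of P can be generated by at most ⌊k(k+4)/4⌋ elements. -/
theorem result {P : Type*} [Group P] [Finite P] {p : ℕ} [Fact p.Prime]
    (hp : p ≠ 2) (hP : IsPGroup p P) (k : ℕ)
    (hab : ∀ A : Subgroup P, A.Normal → IsMulCommutative A → ∃ S : Finset P, S.card ≤ k ∧ Subgroup.closure (S : Set P) = A) :
    ∀ H : Subgroup P, ∃ S : Finset P, S.card ≤ k * (k + 4) / 4 ∧ Subgroup.closure (S : Set P) = H := by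
  classical
  intro H
  have hp' : 0 < p := (Fact.out : p.Prime).pos
  -- a maximal normal elementary abelian subgroup
  obtain ⟨A, ⟨hAn, hAe⟩, hmax⟩ :=
    (Set.toFinite {A : Subgroup P | A.Normal ∧ Cfsg.IsElementaryAbelian p A}).exists_maximal
      ⟨⊥, Subgroup.normal_bot, Lib.PGroups.elemAb_bot⟩
  haveI := hAn
  have hAc : IsMulCommutative A :=
    ⟨⟨fun u v => Subtype.ext (Lib.PGroups.elemAb_comm hAe u.2 v.2)⟩⟩
  have halp : ∀ x ∈ Subgroup.centralizer (A : Set P), x ^ p = 1 → x ∈ A := by
    intro x hx hxp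
    refine Lib.PGroups.mem_of_maximal_exponent (p := p) hP 1 (by simpa using hp) hAc
      (fun u hu => by simpa using Lib.PGroups.elemAb_pow hAe hu) (fun B hB hBc hBe hAB => ?_) hx
      (by simpa using hxp)
    refine le_antisymm (hmax ⟨hB, Lib.PGroups.elemAb_mk (fun u hu v hv => ?_)
      (fun u hu => by simpa using hBe u hu)⟩ hAB) hAB
    exact congrArg Subtype.val (hBc.is_comm.comm (⟨u, hu⟩ : B) ⟨v, hv⟩)
  obtain ⟨a, ha⟩ := Lib.PGroups.elemAb_card_eq_pow hAe
  -- `A` has at most `k` generators
  have hak : a ≤ k := by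
    obtain ⟨S, hS, hScl⟩ := hab A hAn hAc
    have key : ∀ T : Finset P, T ⊆ S → Nat.card (Subgroup.closure (T : Set P)) ≤ p ^ T.card := by
      intro T
      induction T using Finset.induction_on with
      | empty => intro _; simp
      | insert s T hs ih =>
        intro hsub
        have hTS : T ⊆ S := (Finset.subset_insert s T).trans hsub
        have hsA : s ∈ A := hScl ▸ Subgroup.subset_closure (hsub (Finset.mem_insert_self s T))
        have hTA : Subgroup.closure (T : Set P) ≤ A := by
          rw [← hScl]; exact Subgroup.closure_mono (Finset.coe_subset.mpr hTS)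
        rw [Finset.card_insert_of_notMem hs, pow_succ, Finset.coe_insert, Set.insert_eq,
          Subgroup.closure_union, ← Subgroup.zpowers_eq_closure]
        refine le_trans ?_ (Nat.mul_le_mul (ih hTS) (Nat.le_of_dvd hp' (orderOf_dvd_of_pow_eq_one
          (Lib.PGroups.elemAb_pow hAe hsA))))
        have hle : Subgroup.closure (T : Set P) ≤ Subgroup.normalizer (Subgroup.zpowers s : Set P) := by
          intro t ht
          refine Subgroup.mem_normalizer_iff.mpr fun u => ?_
          have hfix : ∀ w ∈ Subgroup.zpowers s, t * w * t⁻¹ = w := fun w hw => by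
            rw [Lib.PGroups.elemAb_comm hAe (hTA ht) ((Subgroup.zpowers_le.mpr hsA) hw), mul_inv_cancel_right]
          constructor
          · intro hu; rwa [hfix u hu]
          · intro hu
            have h1 : u = t * u * t⁻¹ := by
              have h2 : t⁻¹ * (t * u * t⁻¹) * t = u := by group
              have h3 := Lib.PGroups.elemAb_comm hAe (A.inv_mem (hTA ht)) ((Subgroup.zpowers_le.mpr hsA) hu)
              rw [h3, inv_mul_cancel_right] at h2
              exact h2.symm
            rwa [← h1] at hu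
        rw [← Nat.card_zpowers, sup_comm]
        change Nat.card ((Subgroup.closure (T : Set P) ⊔ Subgroup.zpowers s : Subgroup P) : Set P) ≤ _
        rw [Subgroup.coe_mul_of_left_le_normalizer_right _ _ hle]
        exact Set.natCard_mul_le
    have := key S le_rfl
    rw [hScl, ha] at this
    exact (Nat.pow_le_pow_iff_right (Fact.out : p.Prime).one_lt).mp (this.trans (Nat.pow_le_pow_right hp' hS))
  letI : CommGroup A :=
    { (inferInstance : Group A) with mul_comm := fun u v => Std.Commutative.comm u v }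
  obtain ⟨N, e, hN0, hNbot, hNanti, hNn, hNgr, hNgen, hNp⟩ := exists_flag hP A a ha
  have hNA : ∀ n, N n ≤ A := fun n => hN0 ▸ hNanti (Nat.zero_le n)
  let f : H →* MulAut A := MulAut.conjNormal.comp H.subtype
  have hf : ∀ (x : H) (u : A), ((f x u : A) : P) = (x : P) * (u : P) * (x : P)⁻¹ := fun x u => rfl
  let φ : f.range →* MulAut A := f.range.subtype
  have hen : ∀ n, e n ∈ N n := fun n => by
    rw [hNgen n]; exact Subgroup.mem_sup_right (Subgroup.mem_zpowers _)
  obtain ⟨S, hS, hScl⟩ := Lib.Elem70.GenBound.exists_generators_of_flag φ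
    ((hP.to_subgroup H).of_surjective f.rangeRestrict f.rangeRestrict_surjective)
    f.range.subtype_injective a (fun n => (N n).subgroupOf A) (fun n => ⟨e n, hNA n (hen n)⟩)
    (by show (N 0).subgroupOf A = ⊤; rw [hN0, Subgroup.subgroupOf_self])
    (fun n hn => by show (N n).subgroupOf A = ⊥; rw [hNbot n hn, Subgroup.bot_subgroupOf])
    (fun m n h u hu => hNanti h hu)
    (by
      rintro n ⟨_, x, rfl⟩ u hu
      show ((f x u : A) : P) ∈ N n
      rw [hf]; exact (hNn n).conj_mem _ hu _)
    (by
      rintro n ⟨_, x, rfl⟩ u hu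
      show ((f x u / u : A) : P) ∈ N (n + 1)
      rw [Subgroup.coe_div, hf, div_eq_mul_inv]
      exact hNgr n _ _ hu)
    (fun n => by
      ext u
      rw [Subgroup.mem_subgroupOf, Subgroup.mem_sup]
      constructor
      · intro hu
        haveI := hNn (n + 1)
        rw [hNgen n] at hu
        obtain ⟨w, hw, v, ⟨j, rfl⟩, hj⟩ := Subgroup.mem_sup_of_normal_left.mp hu
        exact ⟨⟨w, hNA (n + 1) hw⟩, hw, _, ⟨j, rfl⟩, Subtype.ext (by simpa using hj)⟩
      · rintro ⟨w, hw, _, ⟨j, rfl⟩, rfl⟩
        push_cast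
        exact (N n).mul_mem (hNanti (Nat.le_succ n) hw) ((N n).zpow_mem (hen n) j))
    (fun n => by
      show ((⟨e n, _⟩ : A) ^ p : A).1 ∈ N (n + 1)
      rw [SubmonoidClass.coe_pow]; exact hNp n)
  -- the kernel
  have hkerC : ∀ x : f.ker, ((x : H) : P) ∈ Subgroup.centralizer (A : Set P) := fun x => by
    rw [Subgroup.mem_centralizer_iff]
    intro u hu
    have h1 : f (x : H) = 1 := x.2
    have h := congrArg (fun t : A => (t : P)) (DFunLike.congr_fun h1 ⟨u, hu⟩)
    simp only [hf, MulAut.one_apply] at h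
    exact (mul_inv_eq_iff_eq_mul.mp h).symm
  set D := f.ker with hD
  obtain ⟨T, hT, hTcl⟩ := Lib.Elem70.GenBound.exists_generators_of_central (G := D) hp
    ((hP.to_subgroup H).to_subgroup D)
    ((A.subgroupOf H).subgroupOf D)
    (fun z hz => halp _ (hkerC z) (congrArg (fun t : D => ((t : H) : P)) hz))
    (fun z hz => Subgroup.mem_center_iff.mpr fun g => Subtype.ext (Subtype.ext
      (Subgroup.mem_centralizer_iff.mp (hkerC g) _ hz).symm))
    (m := k) (by
      refine le_trans ?_ (ha.le.trans (Nat.pow_le_pow_right hp' hak))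
      exact Nat.card_le_card_of_injective
        (fun z : (A.subgroupOf H).subgroupOf D => (⟨((z : D) : H), z.2⟩ : A))
        fun u v h => Subtype.ext (Subtype.ext (Subtype.ext (congrArg (fun t : A => (t : P)) h))))
  choose g hg using fun x : f.range => f.rangeRestrict_surjective x
  set S' : Finset H := S.image g ∪ T.image (fun z : D => (z : H)) with hS'
  refine ⟨S'.image (fun z : H => (z : P)), ?_, ?_⟩
  · refine Finset.card_image_le.trans ((Finset.card_union_le _ _).trans ?_)
    have h1 : (S.image g).card ≤ S.card := Finset.card_image_le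
    have h2 : (T.image (fun z : D => (z : H))).card ≤ T.card := Finset.card_image_le
    rw [Nat.le_div_iff_mul_le (by norm_num)]
    have h3 : a ^ 2 ≤ k ^ 2 := Nat.pow_le_pow_left hak 2
    nlinarith
  · have htop : Subgroup.closure (S' : Set H) = ⊤ := by
      set K := Subgroup.closure (S' : Set H)
      have hDK : D ≤ K := by
        intro d hd
        have : (⟨d, hd⟩ : D) ∈ (Subgroup.closure (T : Set D)) := hTcl ▸ Subgroup.mem_top _
        have h1 : Subgroup.closure (T : Set D) ≤ K.comap D.subtype := (Subgroup.closure_le _).mpr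
          fun z hz => Subgroup.subset_closure (Finset.mem_union_right _ (Finset.mem_image_of_mem _ hz))
        exact h1 this
      refine eq_top_iff.mpr fun x _ => ?_
      have h1 : Subgroup.closure (S : Set f.range) ≤ K.map f.rangeRestrict := (Subgroup.closure_le _).mpr
        fun z hz => ⟨g z, Subgroup.subset_closure (Finset.mem_union_left _ (Finset.mem_image_of_mem _ hz)), hg z⟩
      obtain ⟨y, hy, hyx⟩ := h1 (hScl ▸ Subgroup.mem_top (f.rangeRestrict x))
      have : y⁻¹ * x ∈ D := by
        rw [hD, MonoidHom.mem_ker, map_mul, map_inv, inv_mul_eq_one]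
        exact congrArg Subtype.val hyx
      simpa using K.mul_mem hy (hDK this)
    rw [Finset.coe_image]
    show Subgroup.closure (H.subtype '' (S' : Set H)) = H
    rw [← MonoidHom.map_closure, htop, ← MonoidHom.range_eq_map, Subgroup.range_subtype]

end Cfsg.Agent.S4057
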