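import Cfsg.Statements.S4058
import Cfsg.Agent.Lib.Characters.Indicator
-- import your own Cfsg.Agent.* helpers here

set_option autoImplicit false
open Cfsg

namespace Cfsg.Agent.S4058

open Cfsg.Agent.Lib.Characters.Basic Cfsg.Agent.Lib.Characters.Linear
open Cfsg.Agent.Lib.Characters.Indicator Cfsg.Agent.Lib.Characters.Degree
open scoped ComplexConjugate

universe u

variable {G : Type u} [Group G]

lemma sq_mem_frattini [Finite G] (hG : IsPGroup 2 G) (x : G) : x ^ 2 ∈ frattini G := by
  have : Fact (Nat.Prime 2) := ⟨Nat.prime_two⟩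
  rw [frattini, Order.radical, Subgroup.mem_iInf]
  intro M
  rw [Subgroup.mem_iInf]
  intro hM
  have : M.Normal :=
    Subgroup.NormalizerCondition.normal_of_coatom M
      (Group.normalizerCondition_of_isNilpotent (G := G) (h := hG.isNilpotent)) hM
  obtain ⟨n, hn⟩ := hG.exists_card_eq
  obtain ⟨m, hm⟩ := (hG.to_subgroup M).exists_card_eq
  have hmn : m < n := by
    by_contra hc
    exact hM.1 (Subgroup.eq_top_of_le_card M (by
      rw [hn, hm]; exact Nat.pow_le_pow_right (by norm_num) (not_lt.mp hc)))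
  obtain ⟨K, hK, hMK⟩ := Sylow.exists_subgroup_card_pow_succ
    (hn ▸ pow_dvd_pow 2 (Nat.succ_le_of_lt hmn)) hm
  have hKt : K = ⊤ := by
    apply hM.2
    refine lt_of_le_of_ne hMK (fun e => ?_)
    rw [← e, hm] at hK
    have := Nat.pow_right_injective (le_refl 2) hK
    omega
  rw [hKt, Subgroup.card_top] at hK
  have hidx : M.index = 2 := by
    have h := M.card_mul_index
    rw [hK, hm, pow_succ] at h
    exact Nat.eq_of_mul_eq_mul_left (pow_pos (by norm_num) _) h
  exact Subgroup.sq_mem_of_index_two hidx x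

/-- the group of real linear characters -/
abbrev RL (G : Type u) [Group G] := (G ⧸ frattini G) →* ℂˣ

/-- value of a real linear character -/
noncomputable def val (a : RL G) (g : G) : ℂ := (a (QuotientGroup.mk g) : ℂ)

lemma val_mul (a b : RL G) (g : G) : val (a * b) g = val a g * val b g := by
  simp [val, MonoidHom.mul_apply]

lemma val_one (g : G) : val (1 : RL G) g = 1 := by simp [val]

lemma val_hom (a : RL G) (g h : G) : val a (g * h) = val a g * val a h := by
  simp [val]

variable [Finite G]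

/-- twist of a character -/
noncomputable def tw (a : RL G) (χ : Cfsg.IrrCharacter G) : Cfsg.IrrCharacter G :=
  ⟨(fun g => val a g) * (χ : G → ℂ), isIrrCharacter_linear_mul
    (isCharacter_irr (linChar (a.comp (QuotientGroup.mk' (frattini G)))))
    (show val a 1 = 1 by simp [val]) χ.2⟩

lemma tw_apply (a : RL G) (χ : Cfsg.IrrCharacter G) (g : G) :
    (tw a χ : G → ℂ) g = val a g * (χ : G → ℂ) g := rfl

noncomputable instance twAction : MulAction (RL G) (Cfsg.IrrCharacter G) where
  smul := tw
  one_smul χ := Subtype.ext (funext fun g => by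
    change val 1 g * _ = _
    rw [val_one, one_mul])
  mul_smul a b χ := Subtype.ext (funext fun g => by
    change val (a * b) g * _ = val a g * (val b g * _)
    rw [val_mul, mul_assoc])

lemma smul_apply' (a : RL G) (χ : Cfsg.IrrCharacter G) (g : G) :
    ((a • χ : Cfsg.IrrCharacter G) : G → ℂ) g = val a g * (χ : G → ℂ) g := rfl

/-- the term of the involution count -/
noncomputable def term [Fintype G] (χ : Cfsg.IrrCharacter G) : ℂ :=
  ((Nat.card G : ℂ)⁻¹ * ∑ s : G, (χ : G → ℂ) (s * s)) * (χ : G → ℂ) 1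

lemma term_smul [Fintype G] (hG : IsPGroup 2 G) (a : RL G) (χ : Cfsg.IrrCharacter G) :
    term (a • χ) = term χ := by
  have h : ∀ s : G, val a (s * s) = 1 := fun s => by
    have : (QuotientGroup.mk (s * s) : G ⧸ frattini G) = 1 := by
      rw [QuotientGroup.eq_one_iff, ← pow_two]; exact sq_mem_frattini hG s
    simp [val, this]
  have h1 : val a 1 = 1 := by simpa using h 1
  simp only [term, smul_apply', h, h1, one_mul]

lemma card_stab_le (χ : Cfsg.IrrCharacter G) (d : ℕ) (hd : (χ : G → ℂ) 1 = d) :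
    Nat.card (MulAction.stabilizer (RL G) χ) ≤ d ^ 2 := by
  classical
  have := Fintype.ofFinite G
  set B := MulAction.stabilizer (RL G) χ
  have : Finite (RL G) := by
    have : Finite (G ⧸ frattini G) := inferInstance
    exact inferInstance
  have := Fintype.ofFinite B
  let T : G → ℂ := fun g => ∑ a : B, val a g
  have hT : ∀ g, T g = 0 ∨ T g = (Nat.card B : ℂ) := by
    intro g
    by_cases h : ∀ a : B, val (a : RL G) g = 1
    · right; simp [T, h, Nat.card_eq_fintype_card]
    · left
      push Not at h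
      obtain ⟨b, hb⟩ := h
      have e : val (b : RL G) g * T g = T g := by
        simp only [T, Finset.mul_sum]
        exact Fintype.sum_equiv (Equiv.mulLeft b) _ _ fun a => by simp [val_mul]
      exact (mul_left_eq_self₀.mp e).resolve_left hb
  have hsum : ∑ g : G, T g = (Nat.card G : ℂ) := by
    simp only [T]
    rw [Finset.sum_comm, Finset.sum_eq_single 1]
    · simp [val_one, Nat.card_eq_fintype_card]
    · intro a _ ha
      obtain ⟨g0, hg0⟩ : ∃ g0, val (a : RL G) g0 ≠ 1 := by
        by_contra hc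
        push Not at hc
        apply ha
        apply Subtype.ext
        ext q
        simpa [val] using hc q
      have e : val (a : RL G) g0 * (∑ g : G, val (a : RL G) g) = ∑ g : G, val (a : RL G) g := by
        rw [Finset.mul_sum]
        exact Fintype.sum_equiv (Equiv.mulLeft g0) _ _ fun g => by simp [val_hom]
      exact (mul_left_eq_self₀.mp e).resolve_left hg0
    · simp
  have hnorm : ∑ g : G, T g * ((χ : G → ℂ) g * conj ((χ : G → ℂ) g)) =
      (Nat.card B : ℂ) * Nat.card G := by
    have h1 : ∀ a : B, ∀ g, val (a : RL G) g * (χ : G → ℂ) g = (χ : G → ℂ) g := fun a g => by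
      rw [← smul_apply', (a.2 : (a : RL G) • χ = χ)]
    have h2 : ∑ g : G, (χ : G → ℂ) g * conj ((χ : G → ℂ) g) = (Nat.card G : ℂ) := by
      have h := classInner_self_irr χ
      rw [Cfsg.classInner, inv_mul_eq_one₀ (Nat.cast_ne_zero.mpr Nat.card_pos.ne')] at h
      exact h.symm
    calc _ = ∑ g : G, ∑ a : B, (val (a : RL G) g * (χ : G → ℂ) g) * conj ((χ : G → ℂ) g) := by
          refine Finset.sum_congr rfl fun g _ => ?_
          simp only [T, Finset.sum_mul]
          exact Finset.sum_congr rfl fun a _ => by ring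
      _ = _ := by
          simp only [h1, Finset.sum_const, Finset.card_univ, nsmul_eq_mul, ← Finset.mul_sum, h2,
            Nat.card_eq_fintype_card]
  have hre := congrArg Complex.re hnorm
  have hre2 := congrArg Complex.re hsum
  rw [Complex.re_sum] at hre hre2
  have hle : ∀ g ∈ Finset.univ, (T g * ((χ : G → ℂ) g * conj ((χ : G → ℂ) g))).re ≤
      (T g).re * (d : ℝ) ^ 2 := by
    intro g _
    have hn := norm_apply_le (isCharacter_irr χ) g
    rw [hd, Complex.norm_natCast] at hn
    rw [Complex.mul_conj']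
    rcases hT g with h | h <;> rw [h]
    · simp
    · have : ((Nat.card B : ℂ) * (‖(χ : G → ℂ) g‖ : ℂ) ^ 2).re =
          (Nat.card B : ℝ) * ‖(χ : G → ℂ) g‖ ^ 2 := by norm_cast
      rw [this, Complex.natCast_re]
      gcongr
  have h3 := Finset.sum_le_sum hle
  rw [hre, ← Finset.sum_mul, hre2] at h3
  simp only [Complex.mul_re, Complex.natCast_re, Complex.natCast_im, mul_zero, sub_zero] at h3
  have hpos : (0 : ℝ) < Nat.card G := Nat.cast_pos.mpr Nat.card_pos
  have h4 : (Nat.card B : ℝ) ≤ (d : ℝ) ^ 2 := by nlinarith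
  exact_mod_cast h4

lemma main (hG : IsPGroup 2 G) (k : ℕ) (hgen : 2 ^ (2 * k + 1) ≤ Nat.card (G ⧸ frattini G)) :
    2 ^ (k + 1) ∣ Nat.card {x : G // x ^ 2 = 1} := by
  classical
  have : Fact (Nat.Prime 2) := ⟨Nat.prime_two⟩
  have := Fintype.ofFinite G
  let cinst : CommGroup (G ⧸ frattini G) :=
    { (inferInstance : Group (G ⧸ frattini G)) with
      mul_comm := by
        intro a b
        have hsq : ∀ c : G ⧸ frattini G, c * c = 1 := by
          intro c
          induction c using QuotientGroup.induction_on with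
          | H g =>
            rw [← QuotientGroup.mk_mul, QuotientGroup.eq_one_iff, ← pow_two]
            exact sq_mem_frattini hG g
        have hinv : ∀ c : G ⧸ frattini G, c⁻¹ = c := fun c => inv_eq_of_mul_eq_one_right (hsq c)
        calc a * b = (a * b)⁻¹ := (hinv _).symm
          _ = b * a := by rw [mul_inv_rev, hinv, hinv] }
  have hA : Nat.card (RL G) = Nat.card (G ⧸ frattini G) :=
    CommGroup.card_monoidHom_of_hasEnoughRootsOfUnity (G ⧸ frattini G) ℂ
  obtain ⟨D, hD⟩ := (hG.to_quotient (frattini G)).exists_card_eq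
  rw [hD] at hgen
  have hDk : 2 * k + 1 ≤ D := (Nat.pow_le_pow_iff_right (le_refl 2)).mp hgen
  have : Finite (RL G) := Nat.finite_of_card_ne_zero (by rw [hA]; exact Nat.card_pos.ne')
  have := Fintype.ofFinite (Cfsg.IrrCharacter G)
  let T : AddSubgroup ℂ := AddSubgroup.zmultiples ((2 : ℂ) ^ (k + 1))
  suffices hmem : ∑ χ : Cfsg.IrrCharacter G, term χ ∈ T by
    have e : (Nat.card {x : G // x ^ 2 = 1} : ℂ) = ∑ χ : Cfsg.IrrCharacter G, term χ := by
      rw [show Nat.card {x : G // x ^ 2 = 1} = Nat.card {s : G // s * s = 1} by simp only [pow_two],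
        card_sq_eq_one, finsum_eq_sum_of_fintype]
      rfl
    rw [← e] at hmem
    obtain ⟨z, hz⟩ := AddSubgroup.mem_zmultiples_iff.mp hmem
    rw [zsmul_eq_mul] at hz
    have hz' : z * (2 : ℤ) ^ (k + 1) = (Nat.card {x : G // x ^ 2 = 1} : ℤ) := by exact_mod_cast hz
    exact Int.natCast_dvd_natCast.mp ⟨z, by rw [← hz']; push_cast; ring⟩
  let π : Cfsg.IrrCharacter G → MulAction.orbitRel.Quotient (RL G) (Cfsg.IrrCharacter G) :=
    Quotient.mk''
  have := Fintype.ofFinite (MulAction.orbitRel.Quotient (RL G) (Cfsg.IrrCharacter G))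
  rw [← Finset.sum_fiberwise Finset.univ π term]
  refine AddSubgroup.sum_mem T fun ω _ => ?_
  induction ω using Quotient.inductionOn' with
  | h χ =>
    have hfib : Finset.univ.filter (fun ψ => π ψ = Quotient.mk'' χ) =
        (MulAction.orbit (RL G) χ).toFinset := by
      ext ψ
      simp only [π, Finset.mem_filter, Finset.mem_univ, true_and, Set.mem_toFinset, Quotient.eq'']
      exact MulAction.orbitRel_apply
    rw [hfib, Finset.sum_congr (g := fun _ => term χ) rfl (fun ψ hψ => by
      obtain ⟨a, rfl⟩ := Set.mem_toFinset.mp hψ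
      exact term_smul hG a χ), Finset.sum_const, Set.toFinset_card, ← Nat.card_eq_fintype_card,
      nsmul_eq_mul]
    obtain ⟨d, hd0, hdvd, hd⟩ := exists_degree_dvd χ
    obtain ⟨n, hn⟩ := hG.exists_card_eq
    obtain ⟨m, -, rfl⟩ := (Nat.dvd_prime_pow Nat.prime_two).mp (hn ▸ hdvd)
    have hB := card_stab_le χ _ hd
    have hos : Nat.card (MulAction.orbit (RL G) χ) * Nat.card (MulAction.stabilizer (RL G) χ) =
        2 ^ D := by
      rw [← hD, ← hA, ← (MulAction.stabilizer (RL G) χ).index_mul_card, MulAction.index_stabilizer,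
        Nat.card_coe_set_eq]
    obtain ⟨o, -, ho⟩ := (Nat.dvd_prime_pow Nat.prime_two).mp ⟨_, hos.symm⟩
    obtain ⟨b, -, hb⟩ := (Nat.dvd_prime_pow Nat.prime_two).mp
      ⟨_, (hos.symm.trans (mul_comm _ _))⟩
    rw [hb, ← pow_mul] at hB
    have hb2 : b ≤ m * 2 := (Nat.pow_le_pow_iff_right (le_refl 2)).mp hB
    rw [ho, hb, ← pow_add] at hos
    have hob : o + b = D := Nat.pow_right_injective (le_refl 2) hos
    obtain ⟨c, hc⟩ : 2 ^ (k + 1) ∣ 2 ^ o * 2 ^ m := by
      rw [← pow_add]; exact pow_dvd_pow 2 (by omega)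
    have hν : ∃ z : ℤ, (Nat.card G : ℂ)⁻¹ * ∑ s : G, (χ : G → ℂ) (s * s) = z := by
      by_cases hr : ∀ g, ((χ : G → ℂ) g).im = 0
      · rcases (indicator_spec χ).1 hr with h | h
        · exact ⟨1, by simpa using h⟩
        · exact ⟨-1, by simpa using h⟩
      · exact ⟨0, by simpa using (indicator_spec χ).2 hr⟩
    obtain ⟨z, hz⟩ := hν
    rw [AddSubgroup.mem_zmultiples_iff]
    refine ⟨z * c, ?_⟩
    rw [zsmul_eq_mul, term, hz, hd, ho]
    have hc' : ((2 : ℂ) ^ o * 2 ^ m) = 2 ^ (k + 1) * c := by exact_mod_cast congrArg (Nat.cast : ℕ → ℂ) hc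
    push_cast
    linear_combination (-(z : ℂ)) * hc'

/-- Let G be a finite 2-group with #(G/Φ(G)) ≥ 2^(2k+1). Then the number of elements x of G with x² = 1 is divisible by 2^(k+1). -/
theorem result {G : Type*} [Group G] [Finite G] (hG : IsPGroup 2 G) (k : ℕ)
    (hgen : 2 ^ (2 * k + 1) ≤ Nat.card (G ⧸ frattini G)) :
    2 ^ (k + 1) ∣ Nat.card {x : G // x ^ 2 = 1} := by
  exact main hG k hgen

end Cfsg.Agent.S4058
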