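import Cfsg.Statements.S4059
import Cfsg.Agent.Lib.Elem70.Basic

set_option autoImplicit false
open Cfsg

namespace Cfsg.Agent.S4059

open Cfsg.Agent.Lib.Elem70

/-- Let G be a finite group in which every element is conjugate to its inverse. Then: every non-identity element commuting with all elements of some Sylow 2-subgroup is an involution; the centre of G is an elementary abelian 2-group; the commutator quotient G/G' is an elementary abelian 2-group; and G is generated by its 2-elements. -/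
theorem result {G : Type*} [Group G] [Finite G] (hamb : ∀ x : G, IsConj x x⁻¹) :
    (∀ (S : Sylow 2 G) (x : G), x ∈ Subgroup.centralizer ((S : Subgroup G) : Set G) → x ≠ 1 → orderOf x = 2) ∧
    (∀ z : G, z ∈ Subgroup.center G → z ^ 2 = 1) ∧
    (∀ x : G, x ^ 2 ∈ commutator G) ∧
    Subgroup.closure {x : G | ∃ k : ℕ, orderOf x = 2 ^ k} = ⊤ := by
  haveI : Fact (Nat.Prime 2) := ⟨Nat.prime_two⟩
  refine ⟨fun S x hx hx1 => orderOf_eq_prime (sq_eq_one_of_real_of_centralizes S hx (hamb x)) hx1,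
    fun z hz => ?_, fun x => ?_, ?_⟩
  · obtain ⟨g, hg⟩ := isConj_iff.1 (hamb z)
    rw [Subgroup.mem_center_iff.1 hz g, mul_inv_cancel_right] at hg
    rw [pow_two]
    exact mul_eq_one_iff_eq_inv.2 hg
  · obtain ⟨g, hg⟩ := isConj_iff.1 (hamb x)
    have h1 : g * x * g⁻¹ * x⁻¹ ∈ commutator G :=
      Subgroup.commutator_mem_commutator (Subgroup.mem_top g) (Subgroup.mem_top x)
    rw [hg] at h1
    have := Subgroup.inv_mem _ h1
    simpa [pow_two] using this
  · set T := Subgroup.closure {x : G | ∃ k : ℕ, orderOf x = 2 ^ k}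
    haveI : T.Normal := by
      refine Subgroup.Normal.of_conjugate_fixed ?_
      intro g
      show T.map (MulAut.conj g).toMonoidHom = T
      rw [MonoidHom.map_closure]
      congr 1
      ext y
      constructor
      · rintro ⟨w, ⟨k, hk⟩, rfl⟩
        exact ⟨k, by rw [← hk]; exact MulEquiv.orderOf_eq (MulAut.conj g) w⟩
      · rintro ⟨k, hk⟩
        exact ⟨(MulAut.conj g).symm y, ⟨k, by rw [MulEquiv.orderOf_eq, hk]⟩,
          (MulAut.conj g).apply_symm_apply y⟩
    refine (Subgroup.eq_top_iff' T).2 fun x => ?_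
    obtain ⟨u, s, -, -, rfl, ⟨m, hm⟩, hs⟩ := exists_primary_split Nat.prime_two x
    refine T.mul_mem (Subgroup.subset_closure (orderOf_eq_pow_of_pow_eq_one Nat.prime_two hm)) ?_
    obtain ⟨g, hg⟩ := isConj_iff.1 (hamb s)
    obtain ⟨t, ⟨k, hk⟩, ht⟩ := exists_two_inverter hg
    have htT : t ∈ T := Subgroup.subset_closure (orderOf_eq_pow_of_pow_eq_one Nat.prime_two hk)
    have hconj : t * (s * t⁻¹ * s⁻¹) ∈ T := T.mul_mem htT
      ((inferInstance : T.Normal).conj_mem _ (T.inv_mem htT) s)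
    rw [← mul_assoc, ← mul_assoc, ht, ← mul_inv_rev, ← pow_two] at hconj
    have hs2 : s ^ 2 ∈ T := T.inv_mem_iff.1 hconj
    obtain ⟨j, hj⟩ : ∃ j, orderOf s = 2 * j + 1 := (Nat.coprime_two_right.1 hs)
    have : s = s ^ (orderOf s) * ((s ^ 2) ^ j)⁻¹ := by
      rw [hj, pow_succ', pow_mul, mul_inv_cancel_right]
    rw [this, pow_orderOf_eq_one, one_mul]
    exact T.inv_mem (T.pow_mem hs2 j)

end Cfsg.Agent.S4059
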