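import Cfsg.Statements.S4060
import Cfsg.Agent.Lib.Elem70.Basic
import Cfsg.Agent.Lib.Hall.Basic

set_option autoImplicit false
open Cfsg

namespace Cfsg.Agent.S4060

open Cfsg.Agent.Lib.Elem70

universe w

theorem aux (n : ℕ) : ∀ (G : Type w) [Group G] [Finite G] [Group.IsSolvable G], Nat.card G ≤ n →
    ∀ (S : Sylow 2 G) (x : G), Odd (orderOf x) →
      x ∈ Subgroup.normalizer ((S : Subgroup G) : Set G) → IsConj x x⁻¹ → x = 1 := by
  induction n with
  | zero => intro G _ _ _ h; exact absurd (Nat.card_pos (α := G)) (by omega)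
  | succ n ih =>
    intro G _ _ _ hn S x hodd hnorm hreal
    haveI : Fact (Nat.Prime 2) := ⟨Nat.prime_two⟩
    rcases subsingleton_or_nontrivial G with h | h
    · exact Subsingleton.elim _ _
    obtain ⟨N, hNn, -, hNne, p, hp, hNp⟩ :
        ∃ N : Subgroup G, N.Normal ∧ IsMulCommutative N ∧ N ≠ ⊥ ∧
          ∃ p : ℕ, p.Prime ∧ IsPGroup p N := by
      obtain ⟨p, N, hp, hn, hne, hc, hpN⟩ := Cfsg.Agent.Lib.Hall.exists_normal_abelian_pgroup (G := G)
      exact ⟨N, hn, ⟨⟨fun a b => Subtype.ext (hc a.1 a.2 b.1 b.2)⟩⟩, hne, p, hp, hpN⟩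
    haveI := hNn
    -- pass to the quotient
    let f := QuotientGroup.mk' N
    have hlt : Nat.card (G ⧸ N) ≤ n := by
      have h1 := Subgroup.card_eq_card_quotient_mul_card_subgroup N
      have h2 : 1 < Nat.card N := (Subgroup.one_lt_card_iff_ne_bot N).2 hNne
      have h3 : 0 < Nat.card (G ⧸ N) := Nat.card_pos
      nlinarith
    have hfodd : Odd (orderOf (f x)) := Odd.of_dvd_nat hodd (orderOf_map_dvd f x)
    have hfnorm : f x ∈ Subgroup.normalizer
        (((S.mapSurjective (QuotientGroup.mk'_surjective N) : Sylow 2 (G ⧸ N)) :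
          Subgroup (G ⧸ N)) : Set (G ⧸ N)) := by
      rw [Sylow.coe_mapSurjective]
      exact (Subgroup.le_normalizer_map f) ⟨x, hnorm, rfl⟩
    have hfreal : IsConj (f x) (f x)⁻¹ := by
      rw [← map_inv]; exact f.map_isConj hreal
    have hxN : x ∈ N := (QuotientGroup.eq_one_iff x).1 (ih _ hlt _ _ hfodd hfnorm hfreal)
    by_contra hx1
    have hp2 : p ≠ 2 := by
      rintro rfl
      obtain ⟨k, hk⟩ := hNp ⟨x, hxN⟩
      have h1 : orderOf x = 1 := Nat.eq_one_of_dvd_coprimes
        (Nat.Coprime.pow_right k (Nat.coprime_two_right.2 hodd)) dvd_rfl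
        (orderOf_dvd_of_pow_eq_one (show x ^ 2 ^ k = 1 from congrArg Subtype.val hk))
      exact hx1 (orderOf_eq_one_iff.1 h1)
    have hcen : x ∈ Subgroup.centralizer ((S : Subgroup G) : Set G) := by
      rw [Subgroup.mem_centralizer_iff]
      intro s hs
      have hsS : x * s * x⁻¹ * s⁻¹ ∈ (S : Subgroup G) :=
        mul_mem ((Subgroup.mem_normalizer_iff.1 hnorm s).1 hs) (inv_mem hs)
      have hsN : x * s * x⁻¹ * s⁻¹ ∈ N := by
        rw [show x * s * x⁻¹ * s⁻¹ = x * (s * x⁻¹ * s⁻¹) by group]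
        exact mul_mem hxN (hNn.conj_mem _ (inv_mem hxN) s)
      haveI : Fact p.Prime := ⟨hp⟩
      have h1 := (hNp.disjoint_of_ne p 2 hp2 _ _ S.isPGroup').le_bot ⟨hsN, hsS⟩
      rw [Subgroup.mem_bot, mul_inv_eq_one, mul_inv_eq_iff_eq_mul] at h1
      exact h1.symm
    have hsq := sq_eq_one_of_real_of_centralizes S hcen hreal
    have : orderOf x = 1 := Nat.eq_one_of_dvd_coprimes (Nat.coprime_two_right.2 hodd) dvd_rfl
      (orderOf_dvd_of_pow_eq_one hsq)
    exact hx1 (orderOf_eq_one_iff.1 this)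

/-- Let G be a finite solvable group with Sylow 2-subgroup S, and let x ≠ 1 be an element of odd order normalizing S. Then x is not conjugate to its inverse in G. -/
theorem result {G : Type*} [Group G] [Finite G] [Group.IsSolvable G]
    (S : Sylow 2 G) (x : G) (hx : x ≠ 1) (hodd : Odd (orderOf x))
    (hnorm : x ∈ Subgroup.normalizer ((S : Subgroup G) : Set G)) : ¬ IsConj x x⁻¹ := by
  exact fun hreal => hx (aux (Nat.card G) G le_rfl S x hodd hnorm hreal)

end Cfsg.Agent.S4060
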