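import Cfsg.Statements.S4061
import Cfsg.Agent.Lib.Elem70.Lift
import Cfsg.Agent.Lib.Cores.Pi
import Cfsg.Agent.Lib.Cores.MinNormal
import Cfsg.Agent.Lib.Hall.Basic
import Cfsg.Agent.Lib.PGroups.UniqueInvolution
import Cfsg.Agent.S4059

set_option autoImplicit false
open Cfsg

namespace Cfsg.Agent.S4061

open Cfsg.Agent.Lib.Elem70

universe w

/-- With trivial odd core, an ambivalent solvable group with one involution class has exactly one
involution. -/
theorem unique_involution {G : Type w} [Group G] [Finite G] [Group.IsSolvable G]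
    (hamb : ∀ x : G, IsConj x x⁻¹)
    (hone : ∀ s t : G, orderOf s = 2 → orderOf t = 2 → IsConj s t)
    (hcore : Cfsg.oddCore G = ⊥) : ∀ s t : G, orderOf s = 2 → orderOf t = 2 → s = t := by
  classical
  intro s₀ t₀ hs₀ ht₀
  by_contra hne₀
  haveI : Nontrivial G := ⟨⟨s₀, t₀, hne₀⟩⟩
  obtain ⟨V, hVn, hVne, hVmin⟩ := Cfsg.Agent.Lib.Cores.MinNormal.exists_minimal (G := G)
  haveI := hVn
  obtain ⟨hVc, p, hp, hVexp⟩ := Cfsg.Agent.Lib.Cores.MinNormal.elementary_of_solvable hVne hVmin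
  haveI := hVc
  have hp2 : p = 2 := by
    by_contra hp2
    apply hVne
    rw [← le_bot_iff, ← hcore]
    refine Cfsg.Agent.Lib.Cores.le_oddCore (Nat.coprime_two_right.1 ?_)
    haveI : Fact p.Prime := ⟨hp⟩
    obtain ⟨k, hk⟩ := IsPGroup.iff_card.1 (Cfsg.Agent.Lib.Cores.MinNormal.isPGroup_of_pow_eq_one hVexp)
    rw [hk]
    exact Nat.Coprime.pow_left k ((Nat.coprime_primes hp Nat.prime_two).2 hp2)
  subst hp2
  haveI : Fact (Nat.Prime 2) := ⟨hp⟩
  -- all involutions lie in `V`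
  obtain ⟨v₀, hv₀, hv₀1⟩ := V.bot_or_exists_ne_one.resolve_left hVne
  have hv₀o : orderOf v₀ = 2 := orderOf_eq_prime (hVexp v₀ hv₀) hv₀1
  have hinV : ∀ x : G, x ^ 2 = 1 → x ∈ V := by
    intro x hx
    rcases eq_or_ne x 1 with rfl | h1
    · exact one_mem V
    obtain ⟨g, rfl⟩ := isConj_iff.1 (hone v₀ x hv₀o (orderOf_eq_prime hx h1))
    exact hVn.conj_mem v₀ hv₀ g
  have hcommV : ∀ a ∈ V, ∀ b ∈ V, a * b = b * a := fun a ha b hb =>
    congrArg Subtype.val (hVc.is_comm.comm (⟨a, ha⟩ : V) ⟨b, hb⟩)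
  set C := Subgroup.centralizer (V : Set G) with hC
  -- `V` is not central
  have hCtop : C ≠ ⊤ := by
    intro htop
    obtain ⟨g, hg⟩ := isConj_iff.1 (hone s₀ t₀ hs₀ ht₀)
    have hgC : g ∈ C := htop.symm ▸ Subgroup.mem_top g
    have := Subgroup.mem_centralizer_iff.1 hgC s₀
      (hinV s₀ (by rw [← hs₀, pow_orderOf_eq_one]))
    rw [← this, mul_inv_cancel_right] at hg
    exact hne₀ hg
  haveI : Nontrivial (G ⧸ C) := QuotientGroup.nontrivial_iff.2 hCtop
  obtain ⟨q, Mb, hq, hMbn, hMbne, hMbc, hMbq⟩ :=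
    Cfsg.Agent.Lib.Hall.exists_normal_abelian_pgroup (G := G ⧸ C)
  haveI := hMbn
  haveI : Fact q.Prime := ⟨hq⟩
  let f := QuotientGroup.mk' C
  set M := Mb.comap f with hM
  haveI : M.Normal := hMbn.comap f
  have hMC : ¬ M ≤ C := by
    intro hle
    apply hMbne
    rw [eq_bot_iff]
    intro y hy
    obtain ⟨g, rfl⟩ := QuotientGroup.mk'_surjective C y
    exact Subgroup.mem_bot.2 ((QuotientGroup.eq_one_iff g).2 (hle hy))
  -- conjugation by elements of the same class
  have hCfix : ∀ c ∈ C, ∀ v ∈ V, c * v * c⁻¹ = v := fun c hc v hv => by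
    rw [← Subgroup.mem_centralizer_iff.1 hc v hv, mul_inv_cancel_right]
  have hsame : ∀ a b : G, f a = f b → ∀ v ∈ V, a * v * a⁻¹ = b * v * b⁻¹ := by
    intro a b hab v hv
    have hc : b⁻¹ * a ∈ C := QuotientGroup.eq.1 hab.symm
    have := hCfix _ hc v hv
    calc a * v * a⁻¹ = b * (b⁻¹ * a * v * (b⁻¹ * a)⁻¹) * b⁻¹ := by group
      _ = b * v * b⁻¹ := by rw [this]
  have hMcomm : ∀ a ∈ M, ∀ b ∈ M, ∀ v ∈ V, a * (b * v * b⁻¹) * a⁻¹ = b * (a * v * a⁻¹) * b⁻¹ := by
    intro a ha b hb v hv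
    have h1 := hsame (a * b) (b * a) (by rw [map_mul, map_mul]; exact hMbc _ ha _ hb) v hv
    calc a * (b * v * b⁻¹) * a⁻¹ = a * b * v * (a * b)⁻¹ := by group
      _ = b * a * v * (b * a)⁻¹ := h1
      _ = b * (a * v * a⁻¹) * b⁻¹ := by group
  -- `q` is odd
  have hq2 : q ≠ 2 := by
    rintro rfl
    apply hMC
    -- fixed points of a `2`-group on `V`
    let act : ↥(Mb) →* MulAut V :=
      (QuotientGroup.lift C (MulAut.conjNormal (H := V)) fun c hc => by
        refine MonoidHom.mem_ker.2 (MulEquiv.ext fun v => Subtype.ext ?_)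
        exact hCfix c hc v v.2).comp Mb.subtype
    letI : MulDistribMulAction Mb V := MulDistribMulAction.compHom V act
    have hsm : ∀ (g : G) (hg : g ∈ M) (v : V),
        (((⟨f g, hg⟩ : Mb) • v : V) : G) = g * v * g⁻¹ := fun g hg v => rfl
    obtain ⟨k, hk⟩ := IsPGroup.iff_card.1 (Cfsg.Agent.Lib.Cores.MinNormal.isPGroup_of_pow_eq_one hVexp)
    have hdvd : 2 ∣ Nat.card V := by
      rw [hk]
      refine dvd_pow_self 2 fun h0 => hVne (Subgroup.eq_bot_of_card_eq V ?_)
      rw [hk, h0, pow_zero]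
    obtain ⟨v, hvfix, hv1⟩ := hMbq.exists_fixed_point_of_prime_dvd_card_of_fixed_point V hdvd
      (a := 1) (fun m => smul_one m)
    let W : Subgroup G := V ⊓ Subgroup.centralizer (M : Set G)
    rcases hVmin W inferInstance inf_le_left with h | h
    · exfalso
      have hvW : (v : G) ∈ W := by
        refine ⟨v.2, Subgroup.mem_centralizer_iff.2 fun g hg => ?_⟩
        have h2 := hsm g hg v
        rw [hvfix ⟨f g, hg⟩] at h2
        exact (eq_mul_inv_iff_mul_eq.1 h2).symm
      rw [h, Subgroup.mem_bot] at hvW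
      exact hv1 (Subtype.ext hvW.symm)
    · intro g hg
      rw [hC, Subgroup.mem_centralizer_iff]
      intro w hw
      exact (Subgroup.mem_centralizer_iff.1 (h.symm ▸ hw : w ∈ W).2 g hg).symm
  have hodd : ∀ g ∈ M, Odd (orderOf (f g)) := by
    intro g hg
    obtain ⟨k, hk⟩ := hMbq ⟨f g, hg⟩
    have h1 : f g ^ q ^ k = 1 := congrArg Subtype.val hk
    obtain ⟨j, -, hj⟩ := (Nat.dvd_prime_pow hq).1 (orderOf_dvd_of_pow_eq_one h1)
    rw [hj]
    exact (hq.odd_of_ne_two hq2).pow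
  -- fixed point freeness
  have hfree : ∀ g ∈ M, g ∉ C → ∀ v ∈ V, g * v * g⁻¹ = v → v = 1 := by
    intro g hg hgC v hv hgv
    by_contra hv1
    let K : Subgroup G := M ⊓ Subgroup.centralizer {v}
    have hgK : g ∈ K := ⟨hg, Subgroup.mem_centralizer_singleton_iff.2 (mul_inv_eq_iff_eq_mul.1 hgv)⟩
    have hCK : C ≤ K := by
      intro c hc
      refine ⟨?_, Subgroup.mem_centralizer_singleton_iff.2 (Subgroup.mem_centralizer_iff.1 hc v hv).symm⟩
      show f c ∈ Mb
      rw [show f c = 1 from (QuotientGroup.eq_one_iff c).2 hc]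
      exact one_mem _
    let Kb := K.map f
    have hKbM : Kb ≤ Mb := by
      rintro _ ⟨k, hk, rfl⟩; exact hk.1
    -- the average over `Kb`
    haveI : Fintype Kb := Fintype.ofFinite _
    let act : G ⧸ C →* MulAut V :=
      QuotientGroup.lift C (MulAut.conjNormal (H := V)) fun c hc => by
        refine MonoidHom.mem_ker.2 (MulEquiv.ext fun u => Subtype.ext ?_)
        exact hCfix c hc u u.2
    letI : CommGroup V := { V.toGroup with mul_comm := fun a b => Subtype.ext (hcommV a a.2 b b.2) }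
    let e : V →* V :=
      { toFun := fun u => ∏ k : Kb, act k u
        map_one' := by simp
        map_mul' := fun a b => by simp [Finset.prod_mul_distrib] }
    have hKodd : Odd (Fintype.card Kb) := by
      rw [← Nat.card_eq_fintype_card]
      obtain ⟨j, hj⟩ := IsPGroup.iff_card.1 (hMbq.to_le hKbM)
      rw [hj]; exact (hq.odd_of_ne_two hq2).pow
    have hsqV : ∀ u : V, u ^ 2 = 1 := fun u => Subtype.ext (hVexp u u.2)
    have hpowodd : ∀ u : V, u ^ Fintype.card Kb = u := fun u => by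
      obtain ⟨j, hj⟩ := hKodd
      rw [hj, pow_succ, pow_mul, hsqV, one_pow, one_mul]
    have hefix : ∀ u : V, (∀ k : Kb, act k u = u) → e u = u := fun u hu => by
      show ∏ k : Kb, act k u = u
      rw [Finset.prod_congr rfl fun k _ => hu k, Finset.prod_const, Finset.card_univ, hpowodd]
    have heK : ∀ (k₀ : Kb) (u : V), act k₀ (e u) = e u := by
      intro k₀ u
      show act k₀ (∏ k : Kb, act k u) = _
      rw [map_prod]
      exact Fintype.prod_bijective (fun k : Kb => k₀ * k) (Group.mulLeft_bijective k₀)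
        (fun k => act k₀ (act k u)) _ (fun k => by
          show act k₀ (act k u) = act ((k₀ : G ⧸ C) * k) u
          rw [map_mul]; rfl)
    have heM : ∀ (m : G ⧸ C), m ∈ Mb → ∀ u : V, act m (e u) = e (act m u) := by
      intro m hm u
      show act m (∏ k : Kb, act k u) = ∏ k : Kb, act k (act m u)
      rw [map_prod]
      refine Finset.prod_congr rfl fun k _ => ?_
      show (act m * act k) u = (act k * act m) u
      rw [← map_mul, ← map_mul, hMbc m hm k (hKbM k.2)]
    have hvfix : ∀ k : Kb, act k ⟨v, hv⟩ = ⟨v, hv⟩ := by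
      rintro ⟨_, k, hk, rfl⟩
      apply Subtype.ext
      show k * v * k⁻¹ = v
      rw [Subgroup.mem_centralizer_singleton_iff.1 hk.2, mul_inv_cancel_right]
    by_cases hall : ∀ u : V, ∀ k : Kb, act k u = u
    · apply hgC
      rw [hC, Subgroup.mem_centralizer_iff]
      intro w hw
      have h1 : g * w * g⁻¹ = w := congrArg Subtype.val (hall ⟨w, hw⟩ ⟨f g, g, hgK, rfl⟩)
      exact (mul_inv_eq_iff_eq_mul.1 h1).symm
    push Not at hall
    obtain ⟨u₁, k₁, hu₁⟩ := hall
    set u := u₁ * (e u₁)⁻¹ with hu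
    have heu : e u = 1 := by
      rw [hu, map_mul, map_inv, hefix (e u₁) (fun k => heK k u₁), mul_inv_cancel]
    have hu1 : u ≠ 1 := by
      intro h
      rw [hu, mul_inv_eq_one] at h
      exact hu₁ (by rw [h]; exact heK k₁ u₁)
    set x : V := ⟨v, hv⟩ * u with hx
    have hex : e x = ⟨v, hv⟩ := by rw [hx, map_mul, heu, mul_one, hefix _ hvfix]
    have hxne : (x : G) ≠ 1 := fun h => by
      have h2 : x = 1 := Subtype.ext h
      rw [h2, map_one] at hex
      exact hv1 (congrArg Subtype.val hex).symm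
    -- `x` is conjugate to `v`
    obtain ⟨g₁, hg₁⟩ := isConj_iff.1 (hone v x (orderOf_eq_prime (hVexp v hv) hv1)
      (orderOf_eq_prime (hVexp x x.2) hxne))
    let Sx : Subgroup G := M ⊓ Subgroup.centralizer {(x : G)}
    have hSx : Sx = K.map (MulAut.conj g₁).toMonoidHom := by
      apply le_antisymm
      · intro m hm
        refine ⟨g₁⁻¹ * m * g₁, ⟨by simpa using (inferInstance : M.Normal).conj_mem m hm.1 g₁⁻¹, ?_⟩,
          by simp [mul_assoc]⟩
        refine Subgroup.mem_centralizer_singleton_iff.2 ?_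
        have := Subgroup.mem_centralizer_singleton_iff.1 hm.2
        rw [← hg₁] at this
        calc g₁⁻¹ * m * g₁ * v = g₁⁻¹ * (m * (g₁ * v * g₁⁻¹)) * g₁ := by group
          _ = g₁⁻¹ * (g₁ * v * g₁⁻¹ * m) * g₁ := by rw [this]
          _ = v * (g₁⁻¹ * m * g₁) := by group
      · rintro _ ⟨k, hk, rfl⟩
        refine ⟨(inferInstance : M.Normal).conj_mem k hk.1 g₁, ?_⟩
        refine Subgroup.mem_centralizer_singleton_iff.2 ?_
        rw [← hg₁]
        show g₁ * k * g₁⁻¹ * (g₁ * v * g₁⁻¹) = g₁ * v * g₁⁻¹ * (g₁ * k * g₁⁻¹)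
        calc g₁ * k * g₁⁻¹ * (g₁ * v * g₁⁻¹) = g₁ * (k * v) * g₁⁻¹ := by group
          _ = g₁ * (v * k) * g₁⁻¹ := by rw [Subgroup.mem_centralizer_singleton_iff.1 hk.2]
          _ = g₁ * v * g₁⁻¹ * (g₁ * k * g₁⁻¹) := by group
    have hle : Sx ≤ K := by
      intro m hm
      refine ⟨hm.1, Subgroup.mem_centralizer_singleton_iff.2 ?_⟩
      have h1 : act (f m) x = x := Subtype.ext (by
        show m * x * m⁻¹ = x
        rw [Subgroup.mem_centralizer_singleton_iff.1 hm.2, mul_inv_cancel_right])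
      have h2 := heM (f m) hm.1 x
      rw [h1, hex] at h2
      exact mul_inv_eq_iff_eq_mul.1 (congrArg Subtype.val h2 :)
    have heq : Sx = K := Subgroup.eq_of_le_of_card_ge hle
      (by rw [hSx, Subgroup.card_map_of_injective (MulAut.conj g₁).injective])
    have hKu : ∀ k : Kb, act k u = u := by
      rintro ⟨_, k, hk, rfl⟩
      have hkx : act (f k) x = x := Subtype.ext (by
        show k * x * k⁻¹ = x
        rw [Subgroup.mem_centralizer_singleton_iff.1 (heq.symm ▸ hk : k ∈ Sx).2, mul_inv_cancel_right])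
      rw [hx, map_mul, hvfix ⟨f k, k, hk, rfl⟩] at hkx
      exact mul_left_cancel hkx
    rw [hefix u hKu] at heu
    exact hu1 heu
  -- an element of `M`, inverted by a `2`-element
  obtain ⟨g₀, hg₀, hg₀C⟩ := SetLike.not_le_iff_exists.1 hMC
  obtain ⟨a, g, ⟨i, hi⟩, ⟨j, hj⟩, hag, ⟨l, hl⟩, hgodd⟩ := exists_primary_split Nat.prime_two g₀
  have hgM : g ∈ M := by rw [← hj]; exact Subgroup.zpow_mem _ hg₀ j
  have hgC : g ∉ C := by
    intro hgc
    apply hg₀C
    rw [hag]
    refine mul_mem ?_ hgc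
    rw [← QuotientGroup.eq_one_iff]
    have haM : a ∈ M := by rw [← hi]; exact Subgroup.zpow_mem _ hg₀ i
    exact orderOf_eq_one_iff.1 (Nat.eq_one_of_dvd_coprimes
      (Nat.Coprime.pow_right l (Nat.coprime_two_right.2 (hodd a haM))) dvd_rfl
      (orderOf_dvd_of_pow_eq_one (show f a ^ 2 ^ l = 1 by rw [← map_pow, hl, map_one])))
  obtain ⟨h, hh⟩ := isConj_iff.1 (hamb g)
  obtain ⟨τ, ⟨k, hk⟩, hτ⟩ := exists_two_inverter hh
  have hτg : ¬ τ * g * τ⁻¹ = g := by
    intro he
    rw [hτ] at he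
    have h2 : g ^ 2 = 1 := by rw [pow_two]; exact mul_eq_one_iff_eq_inv.2 he.symm
    have := orderOf_eq_one_iff.1 (Nat.eq_one_of_dvd_coprimes hgodd dvd_rfl
      (orderOf_dvd_of_pow_eq_one h2))
    exact hgC (this ▸ one_mem C)
  obtain ⟨m, hm⟩ := orderOf_eq_pow_of_pow_eq_one Nat.prime_two hk
  rcases m with _ | m
  · rw [pow_zero, orderOf_eq_one_iff] at hm
    exact hτg (by simp [hm])
  rcases m with _ | m
  · -- an involution lies in `V`, hence in `C`
    have hτV : τ ∈ V := hinV τ (by rw [show (2 : ℕ) = 2 ^ (0 + 1) from rfl, ← hm, pow_orderOf_eq_one])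
    have hτC : τ ∈ C := by
      rw [hC, Subgroup.mem_centralizer_iff]
      exact fun w hw => hcommV w hw τ hτV
    have h1 : f (τ * g * τ⁻¹) = f g := by
      rw [map_mul, map_mul, map_inv, show f τ = 1 from (QuotientGroup.eq_one_iff τ).2 hτC]
      simp
    rw [hτ, map_inv] at h1
    have h2 : f g ^ 2 = 1 := by rw [pow_two]; exact mul_eq_one_iff_eq_inv.2 h1.symm
    have h3 := orderOf_eq_one_iff.1 (Nat.eq_one_of_dvd_coprimes
      (Nat.coprime_two_right.2 (hodd g hgM)) dvd_rfl (orderOf_dvd_of_pow_eq_one h2))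
    exact hgC ((QuotientGroup.eq_one_iff g).1 h3)
  set z := τ ^ 2 ^ (m + 1) with hz
  have hzo : orderOf z = 2 := by
    rw [hz, orderOf_pow_of_dvd (by positivity) (by rw [hm]; exact pow_dvd_pow 2 (by omega)), hm,
      Nat.pow_div (by omega) (by norm_num), show m + 1 + 1 - (m + 1) = 1 by omega, pow_one]
  have hcom : Commute (τ ^ 2) g := by
    have h2 : τ * g⁻¹ * τ⁻¹ = g := by rw [← conj_inv, hτ, inv_inv]
    show τ ^ 2 * g = g * τ ^ 2
    rw [← mul_inv_eq_iff_eq_mul]
    calc τ ^ 2 * g * (τ ^ 2)⁻¹ = τ * (τ * g * τ⁻¹) * τ⁻¹ := by rw [pow_two]; group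
      _ = g := by rw [hτ, h2]
  have hzg : g * z * g⁻¹ = z := by
    rw [hz, pow_succ', pow_mul, ← (hcom.pow_left (2 ^ m)).eq, mul_inv_cancel_right]
  have := hfree g hgM hgC z (hinV z (by rw [← hzo, pow_orderOf_eq_one])) hzg
  rw [this, orderOf_one] at hzo
  omega

/-- The cyclic case. -/
theorem card_two_of_cyclic {G : Type w} [Group G] [Finite G] (hamb : ∀ x : G, IsConj x x⁻¹)
    (heven : 2 ∣ Nat.card G) (S : Sylow 2 G) (hS : IsCyclic S) :
    ∃ K : Subgroup G, K.Normal ∧ K.IsComplement' (S : Subgroup G) ∧ Odd (Nat.card K) ∧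
      Nat.card S = 2 ∧ commutator G ≤ K := by
  haveI : Fact (Nat.Prime 2) := ⟨Nat.prime_two⟩
  have hp : (Nat.card G).minFac = 2 :=
    (Nat.minFac_eq_two_iff _).2 heven
  set φ := MonoidHom.transferSylow S (hS.normalizer_le_centralizer hp)
  have hc : φ.ker.IsComplement' (S : Subgroup G) := hS.isComplement' hp
  have hidx : φ.ker.index = Nat.card S := hc.symm.index_eq_card
  have hcomm : commutator G ≤ φ.ker := by
    haveI : IsMulCommutative (S : Subgroup G) := IsCyclic.isMulCommutative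
    rw [_root_.commutator_def, Subgroup.commutator_le]
    intro a _ b _
    rw [MonoidHom.mem_ker, map_commutatorElement, commutatorElement_eq_one_iff_mul_comm]
    exact mul_comm' _ _
  obtain ⟨a, ha⟩ := hS.exists_generator
  have hsq : (a : G) ^ 2 ∈ φ.ker ⊓ (S : Subgroup G) :=
    ⟨hcomm ((Cfsg.Agent.S4059.result hamb).2.2.1 a), pow_mem a.2 2⟩
  have ha2 : a ^ 2 = 1 := Subtype.ext (Subgroup.mem_bot.1 (hc.disjoint.le_bot hsq))
  have hcard : Nat.card S ∣ 2 := by
    rw [← orderOf_eq_card_of_forall_mem_zpowers ha]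
    exact orderOf_dvd_of_pow_eq_one ha2
  have hd2 : 2 ∣ Nat.card S := S.dvd_card_of_dvd_card heven
  refine ⟨φ.ker, inferInstance, hc, ?_, Nat.dvd_antisymm hcard hd2, hcomm⟩
  rw [← Nat.coprime_two_right]
  exact Nat.Coprime.symm (Nat.prime_two.coprime_iff_not_dvd.2 (hc.index_eq_card ▸ S.not_dvd_index))

/-- Let G be a finite solvable group of even order in which every element is conjugate to its inverse and all involutions are conjugate. Then a Sylow 2-subgroup S of G has order 2 or is a generalized quaternion group (of order at least 8). Moreover, if S has order 2, then G is the semidirect product of its largest normal subgroup of odd order O(G) by S, O(G) equals the derived subgroup of G, and the involution of S inverts every element of O(G). -/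
theorem result {G : Type*} [Group G] [Finite G] [Group.IsSolvable G]
    (hamb : ∀ x : G, IsConj x x⁻¹) (heven : 2 ∣ Nat.card G) (hone : ∀ s t : G, orderOf s = 2 → orderOf t = 2 → IsConj s t) (S : Sylow 2 G) :
    (Nat.card S = 2 ∨ ∃ n : ℕ, Nonempty ((S : Subgroup G) ≃* QuaternionGroup (2 ^ (n + 1)))) ∧
    (Nat.card S = 2 → (S : Subgroup G).IsComplement' (Cfsg.oddCore G) ∧ Cfsg.oddCore G = commutator G ∧
        ∀ t : G, t ∈ S → t ≠ 1 → ∀ x : G, x ∈ Cfsg.oddCore G → t * x * t⁻¹ = x⁻¹) := by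
  haveI : Fact (Nat.Prime 2) := ⟨Nat.prime_two⟩
  classical
  set O := Cfsg.oddCore G with hO
  haveI hOn : O.Normal := by rw [hO]; infer_instance
  have hOodd : Odd (Nat.card O) := Cfsg.Agent.Lib.Cores.oddCore_odd
  have hcopO : ∀ y : G, (orderOf y = 2) → y ∉ O := fun y hy hyO => by
    have := O.orderOf_dvd_natCard hyO
    rw [hy] at this
    exact Nat.not_even_iff_odd.2 hOodd (even_iff_two_dvd.2 this)
  let f := QuotientGroup.mk' O
  have hcore : Cfsg.oddCore (G ⧸ O) = ⊥ := Cfsg.Agent.Lib.Cores.pPrimeCore_quotient_pPrimeCore 2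
  have hambQ : ∀ x : G ⧸ O, IsConj x x⁻¹ := fun x => by
    obtain ⟨g, rfl⟩ := QuotientGroup.mk'_surjective O x
    rw [← map_inv]; exact f.map_isConj (hamb g)
  have honeQ : ∀ s t : G ⧸ O, orderOf s = 2 → orderOf t = 2 → IsConj s t := fun s t hs ht => by
    obtain ⟨s', rfl, hs'⟩ := exists_lift_coprime O s
      (by rw [hs]; exact (Nat.coprime_two_right.2 hOodd).symm)
    obtain ⟨t', rfl, ht'⟩ := exists_lift_coprime O t
      (by rw [ht]; exact (Nat.coprime_two_right.2 hOodd).symm)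
    exact f.map_isConj (hone s' t' (hs'.trans hs) (ht'.trans ht))
  have hu : ∀ x y : (S : Subgroup G), orderOf x = 2 → orderOf y = 2 → y ∈ Subgroup.zpowers x := by
    intro x y hx hy
    have hq : ∀ z : (S : Subgroup G), orderOf z = 2 → orderOf (f z) = 2 := fun z hz => by
      have hz' : orderOf (z : G) = 2 := by rw [Subgroup.orderOf_coe, hz]
      refine orderOf_eq_prime (by rw [← map_pow, orderOf_dvd_iff_pow_eq_one.1 hz'.dvd, map_one]) fun h1 => ?_
      exact hcopO _ hz' ((QuotientGroup.eq_one_iff _).1 h1)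
    have hfxy := unique_involution hambQ honeQ hcore (f x) (f y) (hq x hx) (hq y hy)
    have hmem : (x : G)⁻¹ * y ∈ O := QuotientGroup.eq.1 hfxy
    obtain ⟨k, hk⟩ := S.isPGroup' (x⁻¹ * y)
    have h1 : orderOf ((x : G)⁻¹ * y) = 1 := Nat.eq_one_of_dvd_coprimes
      (Nat.Coprime.pow_right k (Nat.coprime_two_right.2 hOodd)) (O.orderOf_dvd_natCard hmem)
      (orderOf_dvd_of_pow_eq_one (congrArg Subtype.val hk :))
    have hxy : x = y := Subtype.ext (inv_mul_eq_one.1 (orderOf_eq_one_iff.1 h1))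
    exact hxy ▸ Subgroup.mem_zpowers x
  have hmain : Nat.card S = 2 ∨ ∃ n : ℕ, Nonempty ((S : Subgroup G) ≃* QuaternionGroup (2 ^ (n + 1))) := by
    rcases Cfsg.Agent.Lib.PGroups.isCyclic_or_quaternion S.isPGroup' hu with h | ⟨-, n, hn, he⟩
    · obtain ⟨K, -, -, -, h2, -⟩ := card_two_of_cyclic hamb heven S h
      exact Or.inl h2
    · obtain ⟨m, rfl⟩ : ∃ m, n = m + 1 := ⟨n - 1, by omega⟩
      exact Or.inr ⟨m, he⟩
  refine ⟨hmain, fun hS2 => ?_⟩
  haveI hcyc : IsCyclic S := isCyclic_of_prime_card (p := 2) hS2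
  obtain ⟨K, hKn, hKc, hKodd, -, hKcomm⟩ := card_two_of_cyclic hamb heven S hcyc
  haveI := hKn
  have hKO : K = O := by
    refine le_antisymm (Cfsg.Agent.Lib.Cores.le_oddCore hKodd) fun x hx => ?_
    rw [← QuotientGroup.eq_one_iff]
    refine orderOf_eq_one_iff.1 (Nat.eq_one_of_dvd_coprimes
      (show (Nat.card O).Coprime K.index by
        rw [hKc.symm.index_eq_card, hS2]; exact Nat.coprime_two_right.2 hOodd)
      ((orderOf_map_dvd (QuotientGroup.mk' K) x).trans (O.orderOf_dvd_natCard hx))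
      (_root_.orderOf_dvd_natCard _))
  rw [← hKO]
  have hinv : ∀ t : G, t ∈ S → t ≠ 1 → ∀ x : G, x ∈ K → t * x * t⁻¹ = x⁻¹ := by
    intro t htS ht1 x hx
    have ht2 : t ^ 2 = 1 := by
      have := congrArg Subtype.val (pow_card_eq_one' (G := (S : Subgroup G)) (x := ⟨t, htS⟩))
      rw [hS2] at this
      exact this
    have hoddK : ∀ c ∈ K, Odd (orderOf c) := fun c hc => hKodd.of_dvd_nat (K.orderOf_dvd_natCard hc)
    have hodd_inv : ∀ c ∈ K, ∀ y : G, c * y * c⁻¹ = y⁻¹ → y = y⁻¹ := by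
      intro c hc y hy
      obtain ⟨n, hn⟩ := hoddK c hc
      have := invert_odd_pow hy n
      rwa [← hn, pow_orderOf_eq_one, one_mul, inv_one, mul_one] at this
    have hfree : ∀ y ∈ K, t * y * t⁻¹ = y → y = 1 := by
      intro y hy hty
      obtain ⟨g, hg⟩ := isConj_iff.1 (hamb y)
      obtain ⟨⟨⟨c, hc⟩, ⟨w, hw⟩⟩, rfl, -⟩ := hKc.existsUnique g
      have hwy : w * y * w⁻¹ = y := by
        obtain ⟨i, hi⟩ := Subgroup.mem_zpowers_iff.1
          (mem_zpowers_of_prime_card (G := (S : Subgroup G)) (p := 2) hS2 (g := ⟨t, htS⟩)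
            (g' := ⟨w, hw⟩) fun h => ht1 (congrArg Subtype.val h))
        have hi' : t ^ i = w := congrArg Subtype.val hi
        rw [← hi']
        exact mul_inv_eq_iff_eq_mul.2 (Commute.zpow_left (mul_inv_eq_iff_eq_mul.1 hty) i)
      have hcy : c * y * c⁻¹ = y⁻¹ := by
        rw [← hg]
        show c * y * c⁻¹ = c * w * y * (c * w)⁻¹
        rw [show c * w * y * (c * w)⁻¹ = c * (w * y * w⁻¹) * c⁻¹ by group, hwy]
      have h2 : y ^ 2 = 1 := by
        rw [pow_two]; exact mul_eq_one_iff_eq_inv.2 (hodd_inv c hc y hcy)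
      exact orderOf_eq_one_iff.1 (Nat.eq_one_of_dvd_coprimes
        (Nat.coprime_two_right.2 (hoddK y hy)) dvd_rfl (orderOf_dvd_of_pow_eq_one h2))
    have htt : t⁻¹ = t := inv_eq_of_mul_eq_one_right (by rw [← pow_two, ht2])
    let φ : K → K := fun k => ⟨(k : G)⁻¹ * (t * k * t⁻¹), mul_mem (inv_mem k.2) (hKn.conj_mem _ k.2 t)⟩
    have hφ : Function.Injective φ := by
      intro a b hab
      have h1 : (a : G)⁻¹ * (t * a * t⁻¹) = (b : G)⁻¹ * (t * b * t⁻¹) := congrArg Subtype.val hab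
      have h3 := hfree ((b : G) * (a : G)⁻¹) (mul_mem b.2 (inv_mem a.2)) (by
        calc t * ((b : G) * (a : G)⁻¹) * t⁻¹
            = (b : G) * ((b : G)⁻¹ * (t * b * t⁻¹)) * ((a : G)⁻¹ * (t * a * t⁻¹))⁻¹ * (a : G)⁻¹ := by
              group
          _ = (b : G) * (a : G)⁻¹ := by rw [h1]; group)
      exact Subtype.ext (mul_inv_eq_one.1 h3).symm
    obtain ⟨k, hk⟩ := (Finite.injective_iff_surjective.1 hφ) ⟨x, hx⟩
    have hk' : (k : G)⁻¹ * (t * k * t⁻¹) = x := congrArg Subtype.val hk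
    rw [← hk', htt]
    calc t * ((k : G)⁻¹ * (t * k * t)) * t = (t * (k : G)⁻¹ * t) * k * (t * t) := by group
      _ = (t * (k : G)⁻¹ * t) * k := by rw [← pow_two t, ht2, mul_one]
      _ = ((k : G)⁻¹ * (t * k * t))⁻¹ := by
          rw [mul_inv_rev, mul_inv_rev, mul_inv_rev, inv_inv, htt]; group
  refine ⟨hKc.symm, le_antisymm (fun x hx => ?_) hKcomm, hinv⟩
  -- `K` consists of commutators
  obtain ⟨t, ht⟩ : ∃ t : (S : Subgroup G), t ≠ 1 := by
    haveI : Nontrivial (S : Subgroup G) := (Finite.one_lt_card_iff_nontrivial).1 (by rw [hS2]; norm_num)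
    exact exists_ne 1
  obtain ⟨n, hn⟩ := hKodd
  have hx2 : x ^ 2 ∈ commutator G := by
    have h1 : (t : G) * x * (t : G)⁻¹ * x⁻¹ ∈ commutator G :=
      Subgroup.commutator_mem_commutator (Subgroup.mem_top _) (Subgroup.mem_top _)
    rw [hinv t t.2 (fun h => ht (Subtype.ext h)) x hx] at h1
    have := Subgroup.inv_mem _ h1
    simpa [pow_two] using this
  have hxc : x ^ Nat.card K = 1 := congrArg Subtype.val (pow_card_eq_one' (G := K) (x := ⟨x, hx⟩))
  have : x = ((x ^ 2) ^ n)⁻¹ := by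
    rw [hn, pow_succ', pow_mul] at hxc
    exact eq_inv_of_mul_eq_one_left hxc
  rw [this]
  exact Subgroup.inv_mem _ (Subgroup.pow_mem _ hx2 n)

end Cfsg.Agent.S4061
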