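import Cfsg.Statements.S4062
import Cfsg.Agent.S4061
import Mathlib.GroupTheory.Perm.Basic

set_option autoImplicit false
open Cfsg

namespace Cfsg.Agent.S4062

/-- A finite solvable group in which any two elements of the same order are conjugate has order 1 or 2 or is isomorphic to the symmetric group of degree 3. -/
theorem result {G : Type*} [Group G] [Finite G] [Group.IsSolvable G]
    (h : ∀ x y : G, orderOf x = orderOf y → IsConj x y) :
    Nat.card G = 1 ∨ Nat.card G = 2 ∨ Nonempty (G ≃* Equiv.Perm (Fin 3)) := by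
  haveI : Fact (Nat.Prime 2) := ⟨Nat.prime_two⟩
  classical
  have hamb : ∀ x : G, IsConj x x⁻¹ := fun x => h x x⁻¹ (orderOf_inv x).symm
  by_cases h1 : Nat.card G = 1
  · exact Or.inl h1
  refine Or.inr ?_
  haveI : Nontrivial G := Finite.one_lt_card_iff_nontrivial.1 (by
    have := Nat.card_pos (α := G)
    omega)
  -- even order
  have heven : 2 ∣ Nat.card G := by
    by_contra hodd
    obtain ⟨x, hx⟩ := exists_ne (1 : G)
    obtain ⟨g, hg⟩ := isConj_iff.1 (hamb x)
    obtain ⟨t, ⟨k, hk⟩, ht⟩ := Cfsg.Agent.Lib.Elem70.exists_two_inverter hg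
    have ht1 : orderOf t = 1 := Nat.eq_one_of_dvd_coprimes
      (Nat.Coprime.pow_left k (Nat.prime_two.coprime_iff_not_dvd.2 hodd))
      (orderOf_dvd_of_pow_eq_one hk) (_root_.orderOf_dvd_natCard t)
    rw [orderOf_eq_one_iff.1 ht1, one_mul, inv_one, mul_one] at ht
    have h2 : x ^ 2 = 1 := by rw [pow_two]; exact mul_eq_one_iff_eq_inv.2 ht
    refine hx (orderOf_eq_one_iff.1 (Nat.eq_one_of_dvd_coprimes ?_ (orderOf_dvd_of_pow_eq_one h2)
      (_root_.orderOf_dvd_natCard x)))
    exact Nat.prime_two.coprime_iff_not_dvd.2 hodd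
  obtain ⟨S⟩ : Nonempty (Sylow 2 G) := inferInstance
  obtain ⟨hS, hS2⟩ := Cfsg.Agent.S4061.result hamb heven
    (fun s t hs ht => h s t (hs.trans ht.symm)) S
  have hsqD : ∀ x : G, x ^ 2 ∈ commutator G := (Cfsg.Agent.S4059.result hamb).2.2.1
  rcases hS with hS | ⟨n, ⟨e⟩⟩
  swap
  · -- quaternion Sylow subgroups are impossible
    exfalso
    let D := commutator G
    let q : QuaternionGroup (2 ^ (n + 1)) → G := fun w => ((e.symm w : (S : Subgroup G)) : G)
    have hq_mul : ∀ v w, q (v * w) = q v * q w := fun v w => by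
      show ((e.symm (v * w) : (S : Subgroup G)) : G) = _
      rw [map_mul]; rfl
    have hq_ord : ∀ w, orderOf (q w) = orderOf w := fun w => by
      show orderOf ((e.symm w : (S : Subgroup G)) : G) = _
      rw [Subgroup.orderOf_coe, MulEquiv.orderOf_eq]
    haveI : NeZero (2 ^ (n + 1)) := ⟨by positivity⟩
    have hxa : ∀ i, orderOf (q (QuaternionGroup.xa i)) = 4 := fun i => by
      rw [hq_ord, QuaternionGroup.orderOf_xa]
    -- elements of order four lie in one coset
    have hcoset : ∀ x y : G, orderOf x = 4 → orderOf y = 4 → x * y⁻¹ ∈ D := by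
      intro x y hx hy
      obtain ⟨g, rfl⟩ := isConj_iff.1 (h x y (hx.trans hy.symm))
      have := D.inv_mem (Subgroup.commutator_mem_commutator (Subgroup.mem_top g) (Subgroup.mem_top x) :
        g * x * g⁻¹ * x⁻¹ ∈ D)
      simpa [commutatorElement_def, mul_assoc] using this
    -- rotations lie in the derived subgroup
    have hrot : ∀ i, q (QuaternionGroup.a i) ∈ D := by
      intro i
      have h2 := hcoset _ _ (hxa 0) (hxa i)
      have h3 : q (QuaternionGroup.a i) = (q (QuaternionGroup.xa 0))⁻¹ * q (QuaternionGroup.xa i) :=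
        eq_inv_mul_iff_mul_eq.2 (by rw [← hq_mul, QuaternionGroup.xa_mul_a, zero_add])
      rw [h3]
      have h4 := (inferInstance : D.Normal).conj_mem _ (D.inv_mem h2) (q (QuaternionGroup.xa 0))⁻¹
      have h5 := (inferInstance : D.Normal).conj_mem _ h4 (1 : G)
      simpa [mul_assoc] using h5
    let w : ZMod (2 * 2 ^ (n + 1)) := ((2 ^ n : ℕ) : ZMod (2 * 2 ^ (n + 1)))
    have hw : orderOf (q (QuaternionGroup.a w)) = 4 := by
      rw [hq_ord, ← QuaternionGroup.a_one_pow, orderOf_pow_of_dvd (by positivity) (by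
        rw [QuaternionGroup.orderOf_a_one, ← pow_succ']; exact pow_dvd_pow 2 (by omega)),
        QuaternionGroup.orderOf_a_one, ← pow_succ', Nat.pow_div (by omega) (by norm_num),
        show n + 1 + 1 - n = 2 by omega]
    have hxaD : ∀ i, q (QuaternionGroup.xa i) ∈ D := fun i => by
      have := D.mul_mem (hcoset _ _ (hxa i) hw) (hrot w)
      simpa [mul_assoc] using this
    -- so the derived subgroup is everything
    have hSD : (S : Subgroup G) ≤ D := fun s hs => by
      have : q (e ⟨s, hs⟩) = s := by simp [q]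
      rw [← this]
      rcases e ⟨s, hs⟩ with i | i
      · exact hrot i
      · exact hxaD i
    have htop : D = ⊤ := by
      refine eq_top_iff.2 fun x _ => ?_
      obtain ⟨u, v, -, -, huv, ⟨k, hk⟩, hv⟩ := Cfsg.Agent.Lib.Elem70.exists_primary_split Nat.prime_two x
      rw [huv]
      refine mul_mem ?_ ?_
      · obtain ⟨j, hj⟩ := Cfsg.Agent.Lib.Elem70.orderOf_eq_pow_of_pow_eq_one Nat.prime_two hk
        obtain ⟨T, hT⟩ := (IsPGroup.of_card (n := j) ((Nat.card_zpowers u).trans hj)).exists_le_sylow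
        obtain ⟨g, rfl⟩ := MulAction.exists_smul_eq G S T
        have := hT (Subgroup.mem_zpowers u)
        rw [Sylow.coe_subgroup_smul] at this
        obtain ⟨s, hs, hsu⟩ := this
        rw [← hsu]
        exact (inferInstance : D.Normal).conj_mem s (hSD hs) g
      · obtain ⟨j, hj⟩ := Nat.coprime_two_right.1 hv
        have : v = ((v ^ 2) ^ j)⁻¹ := by
          refine eq_inv_of_mul_eq_one_left ?_
          rw [← pow_mul, ← pow_succ', ← hj, pow_orderOf_eq_one]
        rw [this]
        exact D.inv_mem (D.pow_mem (hsqD v) j)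
    exact (Group.IsSolvable.commutator_lt_top_of_nontrivial G).ne htop
  -- Sylow `2`-subgroups of order `2`
  obtain ⟨hc, -, hinv⟩ := hS2 hS
  set K := Cfsg.oddCore G
  obtain ⟨t, ht⟩ : ∃ t : (S : Subgroup G), t ≠ 1 := by
    haveI : Nontrivial (S : Subgroup G) := Finite.one_lt_card_iff_nontrivial.1 (by rw [hS]; norm_num)
    exact exists_ne 1
  have hti := hinv t t.2 (fun hh => ht (Subtype.ext hh))
  have habel : ∀ a ∈ K, ∀ b ∈ K, a * b = b * a := by
    intro a ha b hb
    have h3 : (a * b)⁻¹ = a⁻¹ * b⁻¹ := by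
      rw [← hti _ (mul_mem ha hb), ← hti a ha, ← hti b hb]; group
    have := congrArg (·⁻¹) h3
    simpa using this
  have hpair : ∀ x ∈ K, ∀ y ∈ K, orderOf x = orderOf y → y = x ∨ y = x⁻¹ := by
    intro x hx y hy hxy
    obtain ⟨g, hg⟩ := isConj_iff.1 (h x y hxy)
    obtain ⟨⟨⟨w, hw⟩, ⟨k, hk⟩⟩, rfl, -⟩ := hc.existsUnique g
    change w * k * x * (w * k)⁻¹ = y at hg
    have hkx : k * x * k⁻¹ = x := by rw [habel k hk x hx, mul_inv_cancel_right]
    rw [show w * k * x * (w * k)⁻¹ = w * (k * x * k⁻¹) * w⁻¹ by group, hkx] at hg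
    by_cases hw1 : w = 1
    · subst hw1; exact Or.inl (by simpa using hg.symm)
    · exact Or.inr (hg.symm.trans (hinv w hw hw1 x hx))
  have hKcop : ∀ x ∈ K, (orderOf x).Coprime 2 := fun x hx => Nat.coprime_two_right.2
    (Cfsg.Agent.Lib.Cores.oddCore_odd.of_dvd_nat (K.orderOf_dvd_natCard hx))
  have hcube : ∀ x ∈ K, x ^ 3 = 1 := by
    intro x hx
    rcases hpair x hx (x ^ 2) (pow_mem hx 2) (hKcop x hx).orderOf_pow.symm with h2 | h2
    · have : x = 1 := by rw [pow_two] at h2; exact mul_eq_left.1 h2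
      simp [this]
    · rw [pow_succ', h2, mul_inv_cancel]
  have hcardG : Nat.card G = 2 * Nat.card K := by rw [← hc.card_mul, hS]
  by_cases hK : K = ⊥
  · left; rw [hcardG, hK, Subgroup.card_bot]
  right
  obtain ⟨x, hx, hx1⟩ := K.bot_or_exists_ne_one.resolve_left hK
  haveI : Fact (Nat.Prime 3) := ⟨Nat.prime_three⟩
  have hxo : orderOf x = 3 := orderOf_eq_prime (hcube x hx) hx1
  have hKx : K = Subgroup.zpowers x := by
    refine le_antisymm (fun y hy => ?_) (Subgroup.zpowers_le.2 hx)
    rcases eq_or_ne y 1 with rfl | hy1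
    · exact one_mem _
    rcases hpair x hx y hy (hxo.trans (orderOf_eq_prime (hcube y hy) hy1).symm) with h2 | h2
    · rw [h2]; exact Subgroup.mem_zpowers x
    · rw [h2]; exact Subgroup.inv_mem _ (Subgroup.mem_zpowers x)
  have hG6 : Nat.card G = 6 := by rw [hcardG, hKx, Nat.card_zpowers, hxo]
  have hidx : (S : Subgroup G).index = 3 := by
    have := (S : Subgroup G).card_mul_index
    rw [hS, hG6] at this
    omega
  haveI : Fintype (G ⧸ (S : Subgroup G)) := Fintype.ofFinite _
  let φ := MulAction.toPermHom G (G ⧸ (S : Subgroup G))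
  have hinj : Function.Injective φ := by
    rw [← MonoidHom.ker_eq_bot_iff, ← Subgroup.normalCore_eq_ker, eq_bot_iff]
    intro z hz
    have hzS : z ∈ (S : Subgroup G) := Subgroup.normalCore_le _ hz
    by_contra hz1
    have hz1' : z ≠ 1 := fun hh => hz1 (hh ▸ one_mem _)
    have h2 : x * z * x⁻¹ ∈ (S : Subgroup G) :=
      Subgroup.normalCore_le _ ((inferInstance : (S : Subgroup G).normalCore.Normal).conj_mem z hz x)
    have hmem : x * z * x⁻¹ * z⁻¹ ∈ (S : Subgroup G) := mul_mem h2 (inv_mem hzS)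
    have h3 := hinv z hzS hz1' x⁻¹ (inv_mem hx)
    have h4 : x * z * x⁻¹ * z⁻¹ = x * x := by
      rw [show x * z * x⁻¹ * z⁻¹ = x * (z * x⁻¹ * z⁻¹) by group, h3, inv_inv]
    have h5 : x * x ∈ (S : Subgroup G) ⊓ K := ⟨h4 ▸ hmem, mul_mem hx hx⟩
    have h6 : x ^ 2 = 1 := by rw [pow_two]; exact Subgroup.mem_bot.1 (hc.disjoint.le_bot h5)
    have h7 := orderOf_dvd_of_pow_eq_one h6
    rw [hxo] at h7
    exact absurd (Nat.le_of_dvd two_pos h7) (by norm_num)
  have hbij : Function.Bijective φ := by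
    rw [Nat.bijective_iff_injective_and_card]
    refine ⟨hinj, ?_⟩
    rw [hG6, Nat.card_perm, ← Subgroup.index, hidx]
    rfl
  have e3 : (G ⧸ (S : Subgroup G)) ≃ Fin 3 := Fintype.equivFinOfCardEq (by
    rw [← Nat.card_eq_fintype_card]; exact hidx)
  exact ⟨(MulEquiv.ofBijective φ hbij).trans e3.permCongrHom⟩

end Cfsg.Agent.S4062
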