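import Cfsg.Statements.S4064
import Cfsg.Agent.Lib.TICen.Complement
import Cfsg.Agent.Lib.TICen.Kernel
import Cfsg.Agent.Lib.Linear.Order
import Cfsg.Agent.S2202

set_option autoImplicit false
open Cfsg

namespace Cfsg.Agent.S4064

open Cfsg.Agent.Lib
open Cfsg.Agent.Lib.TICen.Basic

universe u

theorem exists_abelian_normal {G : Type u} [Group G] [Finite G] [Nontrivial G]
    [hs : Group.IsSolvable G] :
    ∃ A : Subgroup G, A.Normal ∧ A ≠ ⊥ ∧ ∀ a ∈ A, ∀ b ∈ A, a * b = b * a := by
  classical
  obtain ⟨n, hn⟩ := hs.solvable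
  have hex : ∃ k, derivedSeries G k = ⊥ := ⟨n, hn⟩
  obtain ⟨k, hk⟩ : ∃ k, Nat.find hex = k + 1 := by
    rcases Nat.eq_zero_or_pos (Nat.find hex) with h0 | h0
    · exfalso
      have := Nat.find_spec hex
      rw [h0, derivedSeries_zero] at this
      exact top_ne_bot this
    · exact ⟨Nat.find hex - 1, by omega⟩
  refine ⟨derivedSeries G k, derivedSeries_normal G k, Nat.find_min hex (by omega), fun a ha b hb => ?_⟩
  rw [← commutatorElement_eq_one_iff_mul_comm]
  have h1 := Subgroup.commutator_mem_commutator ha hb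
  rw [← derivedSeries_succ, ← hk, Nat.find_spec hex, Subgroup.mem_bot] at h1
  exact h1


/-- Let G be a finite group in which the centralizer of every element meets each of its conjugates by elements outside its normalizer trivially. Then G is nilpotent; or G is a Frobenius group with a complement that is cyclic or isomorphic to the direct product of a cyclic group of odd order and the quaternion group of order 8; or G is isomorphic to PSL₂(2ⁿ) for some n ≥ 2. -/
theorem result {G : Type*} [Group G] [Finite G] (hTI : ∀ x : G, Cfsg.IsTISubset (Subgroup.centralizer ({x} : Set G) : Set G)) :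
    Group.IsNilpotent G ∨
    (∃ H : Subgroup G, Cfsg.IsFrobeniusComplement H ∧
      (IsCyclic H ∨ ∃ m : ℕ, Odd m ∧ Nonempty (H ≃* Multiplicative (ZMod m) × QuaternionGroup 2))) ∨
    (∃ n : ℕ, 2 ≤ n ∧ Nonempty (G ≃* Matrix.ProjectiveSpecialLinearGroup (Fin 2) (GaloisField 2 n))) := by
  classical
  have h : TICen G := hTI
  by_cases hnil : Group.IsNilpotent G
  · exact Or.inl hnil
  have hntr : Nontrivial G := by
    by_contra hc
    rw [not_nontrivial_iff_subsingleton] at hc
    exact hnil inferInstance
  right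
  by_cases hs : Group.IsSolvable G
  · left
    obtain ⟨A, hAn, hA1, hAc⟩ := exists_abelian_normal (G := G)
    obtain ⟨F, hFn, hF1, hFtop, -, hC⟩ := exists_kernel h hnil hAn hA1 hAc
    obtain ⟨E, hE, hc⟩ := TICen.Complement.exists_complement hF1 hFtop hC
    exact ⟨E, hE, TICen.Complement.complement_cases h hE hc⟩
  right
  let _ := Fintype.ofFinite G
  have heven : Even (Nat.card G) := even_iff_two_dvd.2 (TICen.Even.even_card h hs)
  rcases Cfsg.Agent.S2202.result heven (fun t ht => ⟨⟨fun a b => Subtype.ext
      (TICen.Kernel.comm_centralizer h hs ht a a.2 b b.2)⟩⟩) with hcyc | hnorm | hsl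
  · exfalso
    obtain ⟨S⟩ := (inferInstance : Nonempty (Sylow 2 G))
    obtain ⟨s, t, hst, hso, hto, hsS, htS⟩ := TICen.Even.exists_two h hs S
    have := hcyc S
    let _ := Fintype.ofFinite (S : Subgroup G)
    have h2 := IsCyclic.card_pow_eq_one_le (α := (S : Subgroup G)) (n := 2) two_pos
    have h3 : ({(1 : (S : Subgroup G)), ⟨s, hsS⟩, ⟨t, htS⟩} : Finset (S : Subgroup G)) ⊆
        Finset.univ.filter fun a => a ^ 2 = 1 := by
      intro a ha
      simp only [Finset.mem_insert, Finset.mem_singleton] at ha
      simp only [Finset.mem_filter, Finset.mem_univ, true_and]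
      rcases ha with rfl | rfl | rfl
      · exact one_pow _
      · exact Subtype.ext (show s ^ 2 = 1 by rw [← hso]; exact pow_orderOf_eq_one s)
      · exact Subtype.ext (show t ^ 2 = 1 by rw [← hto]; exact pow_orderOf_eq_one t)
    have h4 : ({(1 : (S : Subgroup G)), ⟨s, hsS⟩, ⟨t, htS⟩} : Finset (S : Subgroup G)).card = 3 := by
      rw [Finset.card_insert_of_notMem, Finset.card_pair]
      · exact fun e => hst (congrArg Subtype.val e)
      · simp only [Finset.mem_insert, Finset.mem_singleton]
        rintro (e | e)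
        · have e' : (1 : G) = s := congrArg Subtype.val e
          rw [← e', orderOf_one] at hso; omega
        · have e' : (1 : G) = t := congrArg Subtype.val e
          rw [← e', orderOf_one] at hto; omega
    have := (Finset.card_le_card h3).trans h2
    omega
  · exact absurd (hnorm Classical.ofNonempty) (TICen.Even.not_normal h hs _)
  obtain ⟨F, _, _, A, _, _, hchar, -, ⟨e⟩⟩ := hsl
  have hA : Subsingleton A := by
    refine subsingleton_of_forall_eq 1 fun a => ?_
    have hmem : e.symm (1, a) ∈ Subgroup.center G := Subgroup.mem_center_iff.2 fun g => by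
      apply e.injective
      rw [map_mul, map_mul, MulEquiv.apply_symm_apply]
      exact Prod.ext (by simp) (mul_comm _ _)
    rw [center_eq_bot h hnil, Subgroup.mem_bot, MulEquiv.map_eq_one_iff] at hmem
    exact congrArg Prod.snd hmem
  have : Unique A := uniqueOfSubsingleton 1
  let e' : G ≃* Matrix.SpecialLinearGroup (Fin 2) F := e.trans MulEquiv.prodUnique
  obtain ⟨k, hkp, hk⟩ := FiniteField.card F 2
  obtain ⟨n, hn⟩ : ∃ n : ℕ, Fintype.card F = 2 ^ n := ⟨k, hk⟩
  have hn1 : n ≠ 0 := fun e0 => by
    have := Fintype.one_lt_card (α := F)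
    rw [hn, e0, pow_zero] at this; omega
  have hn2 : 2 ≤ n := by
    by_contra hlt
    obtain rfl : n = 1 := by omega
    obtain ⟨S⟩ := (inferInstance : Nonempty (Sylow 2 G))
    have h6 : Nat.card G = 6 := by
      rw [Nat.card_congr e'.toEquiv, Cfsg.Agent.Lib.Linear.card_SL_two, hn]
      norm_num
    obtain ⟨s, t, hst, hso, hto, hsS, htS⟩ := TICen.Even.exists_two h hs S
    have hc : Nat.card (S : Subgroup G) = 2 := by
      obtain ⟨j, hj⟩ := IsPGroup.iff_card.1 S.2
      have h1 : 2 ^ j ∣ 6 := hj ▸ h6 ▸ Subgroup.card_subgroup_dvd_card _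
      have h2 : j < 2 := by
        by_contra h3
        have := (Nat.pow_dvd_pow 2 (not_lt.1 h3)).trans h1
        norm_num at this
      have h3 : 2 ∣ 2 ^ j := by
        have h4 := Subgroup.orderOf_dvd_natCard _ hsS
        rwa [hso, hj] at h4
      interval_cases j
      · norm_num at h3
      · simpa using hj
    have h1 : Nontrivial (S : Subgroup G) := ⟨⟨s, hsS⟩, 1, fun e1 => by
      have : s = 1 := congrArg Subtype.val e1
      rw [this, orderOf_one] at hso; omega⟩
    obtain ⟨w, hw⟩ := Nat.card_eq_two_iff' (1 : (S : Subgroup G)) |>.1 hc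
    have hs' : (⟨s, hsS⟩ : (S : Subgroup G)) = w := hw.2 _ fun e1 => by
      have : s = 1 := congrArg Subtype.val e1
      rw [this, orderOf_one] at hso; omega
    have ht' : (⟨t, htS⟩ : (S : Subgroup G)) = w := hw.2 _ fun e1 => by
      have : t = 1 := congrArg Subtype.val e1
      rw [this, orderOf_one] at hto; omega
    exact hst (congrArg Subtype.val (hs'.trans ht'.symm))
  let _ := Fintype.ofFinite (GaloisField 2 n)
  have : CharP (GaloisField 2 n) 2 := inferInstance
  let r : F ≃+* GaloisField 2 n := FiniteField.ringEquivOfCardEq (by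
    rw [hn, ← Nat.card_eq_fintype_card, GaloisField.card 2 n hn1])
  let m : Matrix.SpecialLinearGroup (Fin 2) F ≃* Matrix.SpecialLinearGroup (Fin 2) (GaloisField 2 n) :=
    MonoidHom.toMulEquiv (Matrix.SpecialLinearGroup.map r.toRingHom)
      (Matrix.SpecialLinearGroup.map r.symm.toRingHom)
      (by ext g i j; simp)
      (by ext g i j; simp)
  obtain ⟨p⟩ := SuzukiAbelian.nonempty_sl_equiv_psl (F := GaloisField 2 n)
  exact ⟨n, hn2, ⟨e'.trans (m.trans p)⟩⟩

end Cfsg.Agent.S4064
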