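import Cfsg.Statements.S4066
import Mathlib.GroupTheory.Sylow
import Mathlib.GroupTheory.Subgroup.Center

set_option autoImplicit false
open Cfsg

namespace Cfsg.Agent.S4066

universe w

theorem conj_mem_centralizer {G : Type*} [Group G] (x g a : G) :
    g * a * g⁻¹ ∈ Subgroup.centralizer {g * x * g⁻¹} ↔ a ∈ Subgroup.centralizer {x} := by
  rw [Subgroup.mem_centralizer_singleton_iff, Subgroup.mem_centralizer_singleton_iff,
    show g * a * g⁻¹ * (g * x * g⁻¹) = g * (a * x) * g⁻¹ by group,
    show g * x * g⁻¹ * (g * a * g⁻¹) = g * (x * a) * g⁻¹ by group, mul_left_inj, mul_right_inj]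

theorem tiAux (n : ℕ) : ∀ (G : Type w) [Group G] [Finite G], Nat.card G ≤ n →
    (∀ x : G, Cfsg.IsTISubset (Subgroup.centralizer ({x} : Set G) : Set G)) →
    ∀ (p : ℕ) [Fact p.Prime] (P Q : Sylow p G) (d : G), d ≠ 1 → d ∈ P → d ∈ Q → P = Q := by
  induction n with
  | zero => intro G _ _ h; exact absurd (Nat.card_pos (α := G)) (by omega)
  | succ n ih =>
    intro G _ _ hn hTI p _ P Q d hd hdP hdQ
    haveI : Nontrivial (P : Subgroup G) :=
      ⟨⟨⟨d, hdP⟩, 1, fun h => hd (congrArg Subtype.val h)⟩⟩
    haveI := P.isPGroup'.center_nontrivial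
    obtain ⟨⟨⟨z, hzP⟩, hzc⟩, hz1⟩ := exists_ne (1 : Subgroup.center (P : Subgroup G))
    have hz : z ≠ 1 := fun h => hz1 (Subtype.ext (Subtype.ext h))
    have hPz : (P : Subgroup G) ≤ Subgroup.centralizer {z} := fun a ha =>
      Subgroup.mem_centralizer_singleton_iff.2
        (congrArg Subtype.val (Subgroup.mem_center_iff.1 hzc ⟨a, ha⟩))
    obtain ⟨c, rfl⟩ := MulAction.exists_smul_eq G P Q
    have hdQ' : c⁻¹ * d * c ∈ P := by
      change d ∈ ((c • P : Sylow p G) : Subgroup G) at hdQ
      rw [Sylow.coe_subgroup_smul] at hdQ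
      obtain ⟨y, hy, hyd⟩ := hdQ
      change c * y * c⁻¹ = d at hyd
      rw [← hyd]; simpa [mul_assoc] using hy
    have hcN : c ∈ Subgroup.normalizer ((Subgroup.centralizer {z} : Subgroup G) : Set G) := by
      by_contra hcn
      refine hd ?_
      have := hTI z c hcn (c⁻¹ * d * c) (hPz hdQ') (by simpa [mul_assoc] using hPz hdP)
      have h2 := congrArg (fun w => c * w * c⁻¹) this
      simpa [mul_assoc] using h2
    by_cases hM : Subgroup.centralizer {z} = ⊤
    · -- `z` is central, so all centralisers are normal
      have hcen : ∀ g : G, g * z = z * g := fun g =>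
        Subgroup.mem_centralizer_singleton_iff.1 (hM ▸ Subgroup.mem_top g)
      have hnorm : ∀ x g : G,
          g ∈ Subgroup.normalizer ((Subgroup.centralizer {x} : Subgroup G) : Set G) := by
        intro x g
        by_contra hg
        have hzx : z ∈ Subgroup.centralizer {x} :=
          Subgroup.mem_centralizer_singleton_iff.2 (hcen x).symm
        exact hz (hTI x g hg z hzx (by rw [hcen g, mul_inv_cancel_right]; exact hzx))
      have hsub : ∀ x : G, x ∈ (c • P : Sylow p G) → x ∈ P := by
        intro x hx
        have habel : ∀ g : G, g * x * g⁻¹ ∈ Subgroup.centralizer {x} := fun g =>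
          (Subgroup.mem_normalizer_iff.1 (hnorm x g) x).1
            (Subgroup.mem_centralizer_singleton_iff.2 rfl)
        let N := Subgroup.normalClosure {x}
        have hcomm : IsMulCommutative N := by
          refine (Subgroup.isMulCommutative_closure fun a ha b hb => ?_)
          obtain ⟨x₁, h₁, hax⟩ := Group.mem_conjugatesOfSet_iff.1 ha
          obtain ⟨x₂, h₂, hbx⟩ := Group.mem_conjugatesOfSet_iff.1 hb
          rw [Set.mem_singleton_iff] at h₁ h₂
          obtain ⟨g, rfl⟩ := isConj_iff.1 (h₁ ▸ hax)
          obtain ⟨g', rfl⟩ := isConj_iff.1 (h₂ ▸ hbx)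
          have h3 := Subgroup.mem_centralizer_singleton_iff.1
            ((conj_mem_centralizer x g' _).2 (habel (g'⁻¹ * g)))
          simpa [mul_assoc] using h3
        obtain ⟨k, hk⟩ := (c • P : Sylow p G).isPGroup' ⟨x, hx⟩
        have hxk : x ^ p ^ k = 1 := congrArg Subtype.val hk
        have hNp : IsPGroup p N := by
          intro y
          refine ⟨k, Subtype.ext ?_⟩
          show (y : G) ^ p ^ k = 1
          refine Subgroup.closure_induction (p := fun w _ => w ^ p ^ k = 1) ?_ (one_pow _) ?_ ?_ y.2
          · intro w hw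
            obtain ⟨x₁, h₁, hwx⟩ := Group.mem_conjugatesOfSet_iff.1 hw
            rw [Set.mem_singleton_iff] at h₁
            obtain ⟨g, rfl⟩ := isConj_iff.1 (h₁ ▸ hwx)
            rw [conj_pow, hxk, mul_one, mul_inv_cancel]
          · intro a b ha hb h1 h2
            have hab : a * b = b * a := congrArg Subtype.val (hcomm.is_comm.comm
              (⟨a, ha⟩ : N) (⟨b, hb⟩ : N))
            rw [Commute.mul_pow hab, h1, h2, one_mul]
          · intro a _ h1; rw [inv_pow, h1, inv_one]
        obtain ⟨R, hR⟩ := hNp.exists_le_sylow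
        obtain ⟨e, rfl⟩ := MulAction.exists_smul_eq G P R
        have hNn : N.Normal := Subgroup.normalClosure_normal
        have : x ∈ N.map (MulAut.conj e⁻¹).toMonoidHom :=
          ⟨e * x * e⁻¹, hNn.conj_mem x (Subgroup.subset_normalClosure rfl) e,
            by simp [mul_assoc]⟩
        obtain ⟨y, hy, hyx⟩ := this
        have hyP := hR hy
        rw [Sylow.coe_subgroup_smul] at hyP
        obtain ⟨y₀, hy₀, hy₀y⟩ := hyP
        change e * y₀ * e⁻¹ = y at hy₀y
        have hx0 : x = y₀ := by
          rw [← hyx, ← hy₀y]; simp [mul_assoc]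
        exact hx0 ▸ hy₀
      exact Sylow.ext (Subgroup.eq_of_le_of_card_ge hsub
        (le_of_eq (by rw [P.card_eq_multiplicity, (c • P).card_eq_multiplicity]))).symm
    · -- work inside the centraliser
      set M := Subgroup.centralizer {z} with hMdef
      have hQM : ((c • P : Sylow p G) : Subgroup G) ≤ M := by
        rw [Sylow.coe_subgroup_smul]
        rintro _ ⟨a, ha, rfl⟩
        exact (Subgroup.mem_normalizer_iff.1 hcN a).1 (hPz ha)
      have hlt : Nat.card M ≤ n := by
        have h1 := Subgroup.card_le_card_group M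
        rcases eq_or_lt_of_le h1 with h | h
        · exact absurd (Subgroup.eq_top_of_card_eq M h) hM
        · omega
      have hTIM : ∀ x : M, Cfsg.IsTISubset (Subgroup.centralizer ({x} : Set M) : Set M) := by
        intro x g hg y hy hgy
        by_contra hy1
        apply hg
        have hgN : (g : G) ∈ Subgroup.normalizer
            ((Subgroup.centralizer {(x : G)} : Subgroup G) : Set G) := by
          by_contra hgn
          exact hy1 (Subtype.ext (hTI x g hgn y
            (Subgroup.mem_centralizer_singleton_iff.2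
              (congrArg Subtype.val (Subgroup.mem_centralizer_singleton_iff.1 hy)))
            (Subgroup.mem_centralizer_singleton_iff.2
              (congrArg Subtype.val (Subgroup.mem_centralizer_singleton_iff.1 hgy)))))
        rw [Subgroup.mem_normalizer_iff]
        intro w
        have hiff := Subgroup.mem_normalizer_iff.1 hgN (w : G)
        rw [Subgroup.mem_centralizer_singleton_iff, Subgroup.mem_centralizer_singleton_iff] at hiff
        rw [Subgroup.mem_centralizer_singleton_iff, Subgroup.mem_centralizer_singleton_iff]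
        exact ⟨fun h => Subtype.ext (hiff.1 (congrArg Subtype.val h)),
          fun h => Subtype.ext (hiff.2 (congrArg Subtype.val h))⟩
      have h2 := ih M hlt hTIM p (P.subtype hPz) ((c • P).subtype hQM) ⟨d, hPz hdP⟩
        (fun h => hd (congrArg Subtype.val h)) hdP hdQ
      refine Sylow.ext (le_antisymm ?_ ?_)
      · intro a ha
        have h3 : (⟨a, hPz ha⟩ : M) ∈ P.subtype hPz := ha
        rw [h2] at h3
        exact h3
      · intro a ha
        have h3 : (⟨a, hQM ha⟩ : M) ∈ (c • P).subtype hQM := ha
        rw [← h2] at h3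
        exact h3

/-- Let G be a finite group in which the centralizer of every element meets each of its conjugates by elements outside its normalizer trivially. Then any two distinct Sylow p-subgroups of G, for any prime p, intersect trivially. -/
theorem result {G : Type*} [Group G] [Finite G] (hTI : ∀ x : G, Cfsg.IsTISubset (Subgroup.centralizer ({x} : Set G) : Set G))
    {p : ℕ} [Fact p.Prime] (P Q : Sylow p G) (hPQ : P ≠ Q) : (P : Subgroup G) ⊓ (Q : Subgroup G) = ⊥ := by
  by_contra hne
  obtain ⟨d, hd, hd1⟩ := ((P : Subgroup G) ⊓ (Q : Subgroup G)).bot_or_exists_ne_one.resolve_left hne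
  exact hPQ (tiAux (Nat.card G) G le_rfl hTI p P Q d hd1 hd.1 hd.2)

end Cfsg.Agent.S4066
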