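import Cfsg.Statements.S4067
import Cfsg.Agent.Lib.Characters.Complete
import Cfsg.Agent.Lib.Characters.Linear
import Cfsg.Agent.Lib.Characters.Degree
-- import your own Cfsg.Agent.* helpers here

set_option autoImplicit false
open Cfsg

namespace Cfsg.Agent.S4067

open Cfsg.Agent.Lib.Characters in
/-- With all nonlinear degrees at least `p`, the class number is at most
`[G:G'] + (|G| - [G:G'])/p^2`. -/
theorem classes_bound.{u} {G : Type u} [Group G] [Finite G] :
    Nat.card (ConjClasses G) * (Nat.card G).minFac ^ 2 + (commutator G).index ≤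
      Nat.card G + (commutator G).index * (Nat.card G).minFac ^ 2 := by
  classical
  set p := (Nat.card G).minFac
  haveI : Finite (Cfsg.IrrCharacter G) := Nat.finite_of_card_ne_zero
    (by rw [Complete.card_irr_eq_card_conjClasses]; exact Nat.card_pos.ne')
  haveI := Fintype.ofFinite (Cfsg.IrrCharacter G)
  choose d hd0 hdd hd using fun χ : Cfsg.IrrCharacter G => Degree.exists_degree_dvd χ
  have hsum : ∑ χ, d χ ^ 2 = Nat.card G := by
    have := Complete.finsum_degree_sq (G := G)
    rw [finsum_eq_sum_of_fintype] at this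
    simp only [hd] at this
    exact_mod_cast this
  have hlin : (Finset.univ.filter fun χ => d χ = 1).card = (commutator G).index := by
    rw [← Linear.card_linear, Nat.card_eq_fintype_card, Fintype.card_subtype]
    refine congrArg _ (Finset.filter_congr fun χ _ => ?_)
    rw [hd χ]; exact Nat.cast_eq_one.symm
  rw [← Complete.card_irr_eq_card_conjClasses, Nat.card_eq_fintype_card, ← hlin, ← hsum]
  have key : ∀ χ, p ^ 2 + (if d χ = 1 then 1 else 0) ≤ d χ ^ 2 + (if d χ = 1 then p ^ 2 else 0) := by
    intro χ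
    by_cases h : d χ = 1
    · simp [h]
    · simp only [if_neg h, add_zero]
      exact Nat.pow_le_pow_left (Nat.minFac_le_of_dvd (by have := hd0 χ; omega) (hdd χ)) 2
  have := Finset.sum_le_sum (s := Finset.univ) fun χ _ => key χ
  rw [Finset.sum_add_distrib, Finset.sum_add_distrib, Finset.sum_const, smul_eq_mul,
    ← Finset.sum_filter, ← Finset.sum_filter, Finset.sum_const, Finset.sum_const, smul_eq_mul,
    smul_eq_mul, mul_one] at this
  exact this

/-- Counting orbits with weights: `k N ≤ Σ w` if `N ≤ |orbit x| * w x` for every `x`. -/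
theorem card_orbits_mul_le {A X : Type*} [Group A] [MulAction A X] [Finite X] [Fintype X]
    (N : ℕ) (w : X → ℕ) (h : ∀ x, N ≤ Nat.card (MulAction.orbit A x) * w x) :
    Nat.card (MulAction.orbitRel.Quotient A X) * N ≤ ∑ x, w x := by
  classical
  haveI : Fintype (MulAction.orbitRel.Quotient A X) := Fintype.ofFinite _
  rw [← Finset.sum_fiberwise (g := fun x : X => (Quotient.mk'' x : MulAction.orbitRel.Quotient A X))
    (f := w), Nat.card_eq_fintype_card, ← Finset.card_univ]
  refine le_trans (le_of_eq (by simp)) (Finset.card_nsmul_le_sum _ _ N fun q _ => ?_)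
  induction q using Quotient.inductionOn' with
  | h x =>
    set F := Finset.univ.filter fun y : X =>
      (Quotient.mk'' y : MulAction.orbitRel.Quotient A X) = Quotient.mk'' x with hF
    have hcard : ∀ y ∈ F, Nat.card (MulAction.orbit A y) = F.card := by
      intro y hy
      have hy' : y ∈ MulAction.orbit A x := by
        have := (Finset.mem_filter.mp hy).2
        exact MulAction.orbitRel_apply.mp (Quotient.eq''.mp this)
      rw [MulAction.orbit_eq_iff.mpr hy', Nat.card_eq_fintype_card, ← Set.toFinset_card]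
      refine congrArg _ (Finset.ext fun z => ?_)
      simp only [hF, Set.mem_toFinset, Finset.mem_filter, Finset.mem_univ, true_and,
        Quotient.eq'', MulAction.orbitRel_apply]
    have hpos : 0 < F.card := Finset.card_pos.mpr ⟨x, by simp [hF]⟩
    refine Nat.le_of_mul_le_mul_left ?_ hpos
    rw [Finset.mul_sum, ← smul_eq_mul, ← Finset.sum_const]
    exact Finset.sum_le_sum fun y hy => by rw [← hcard y hy]; exact h y


/-- Let G be a finite non-abelian group and p the least prime dividing its order. Then the automorphism group of G has at most #G/p orbits on G. -/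
theorem result {G : Type*} [Group G] [Finite G] (hna : ¬ IsMulCommutative G) :
    Nat.card (MulAction.orbitRel.Quotient (MulAut G) G) ≤ Nat.card G / (Nat.card G).minFac := by
  classical
  set N := Nat.card G with hN
  set p := N.minFac with hp'
  have hN1 : N ≠ 1 := by
    intro h
    have := (Nat.card_eq_one_iff_unique.mp h).1
    exact hna ⟨⟨fun a b => Subsingleton.elim _ _⟩⟩
  haveI hp : Fact p.Prime := ⟨Nat.minFac_prime hN1⟩
  have hNpos : 0 < N := Nat.card_pos
  have hpN : p ∣ N := Nat.minFac_dvd _
  have hp2 : 2 ≤ p := hp.out.two_le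
  rw [Nat.le_div_iff_mul_le (by omega)]
  -- the conjugacy classes refine the orbits
  have hsurj : Nat.card (MulAction.orbitRel.Quotient (MulAut G) G) ≤ Nat.card (ConjClasses G) := by
    refine Nat.card_le_card_of_surjective (f := Quotient.lift
      (fun x : G => (Quotient.mk'' x : MulAction.orbitRel.Quotient (MulAut G) G)) ?_) ?_
    · intro a b hab
      obtain ⟨c, hc⟩ := isConj_iff.mp hab
      refine (Quotient.sound' ?_).symm
      exact MulAction.orbitRel_apply.mpr ⟨MulAut.conj c, by simpa [MulAut.smul_def] using hc⟩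
    · intro q
      induction q using Quotient.inductionOn' with
      | h x => exact ⟨ConjClasses.mk x, rfl⟩
  set G' := commutator G with hG'
  have hG1 : Nat.card G' ≠ 1 := by
    intro h
    rw [Subgroup.card_eq_one, hG', commutator_def, Subgroup.commutator_eq_bot_iff_le_centralizer] at h
    exact hna ⟨⟨fun a b => (Subgroup.mem_centralizer_iff.mp (h (Subgroup.mem_top b)) a
      (Set.mem_univ a))⟩⟩
  have hGp : p ≤ Nat.card G' :=
    Nat.minFac_le_of_dvd (by have := Nat.card_pos (α := G'); omega) G'.card_subgroup_dvd_card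
  rcases Nat.lt_or_ge p (Nat.card G') with hbig | hsmall
  · -- large derived subgroup: already the class number is small
    refine le_trans (Nat.mul_le_mul_right p hsurj) (Nat.le_of_mul_le_mul_left ?_ (show 0 < p by omega))
    have h1 := classes_bound (G := G)
    have h2 : G'.index * Nat.card G' = N := G'.index_mul_card
    rw [← hN, ← hp', ← hG'] at h1
    generalize Nat.card (ConjClasses G) = k at h1 ⊢
    generalize hb : G'.index = b at h1 h2
    have h3 : b * (p + 1) ≤ N := h2 ▸ Nat.mul_le_mul_left b hbig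
    nlinarith [Nat.mul_le_mul_left (p - 1) h3, Nat.sub_add_cancel (show 1 ≤ p by omega)]
  -- the derived subgroup has order p, so it is central
  have hGcard : Nat.card G' = p := le_antisymm hsmall hGp
  set Z := Subgroup.center G with hZ
  have hGZ : G' ≤ Z := by
    haveI hnormal : G'.Normal := inferInstanceAs (commutator G).Normal
    intro c hc
    by_cases hc1 : c = 1
    · exact hc1 ▸ Z.one_mem
    have hsub : MulAction.orbit (ConjAct G) c ⊆ ((G' : Set G) \ {1}) := by
      rintro _ ⟨g, rfl⟩
      refine ⟨?_, ?_⟩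
      · show g • c ∈ G'
        rw [ConjAct.smul_def]; exact hnormal.conj_mem c hc _
      · intro h
        apply hc1
        have h' : g • c = g • (1 : G) := by rw [smul_one]; exact h
        exact MulAction.injective g h'
    have hlt : Nat.card (MulAction.orbit (ConjAct G) c) < p := by
      rw [← hGcard]
      change _ < Nat.card (G' : Set G)
      rw [Nat.card_coe_set_eq, Nat.card_coe_set_eq]
      exact Set.ncard_lt_ncard ((Set.ssubset_iff_of_subset (hsub.trans Set.sdiff_subset)).mpr
        ⟨1, G'.one_mem, fun h => (hsub h).2 rfl⟩) (Set.toFinite _)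
    have hdvd : Nat.card (MulAction.orbit (ConjAct G) c) ∣ N := by
      have h := MulAction.index_stabilizer (ConjAct G) c
      rw [Nat.card_coe_set_eq, ← h, hN]
      exact Subgroup.index_dvd_card _
    have h1 : Nat.card (MulAction.orbit (ConjAct G) c) = 1 := by
      by_contra h
      have hpos : 0 < Nat.card (MulAction.orbit (ConjAct G) c) := by
        haveI : Nonempty (MulAction.orbit (ConjAct G) c) := ⟨⟨c, MulAction.mem_orbit_self c⟩⟩
        exact Nat.card_pos
      exact absurd (Nat.minFac_le_of_dvd (by omega) hdvd) (by omega)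
    rw [hZ, Subgroup.mem_center_iff]
    intro g
    have := congrArg Subtype.val ((Nat.card_eq_one_iff_unique.mp h1).1.elim
      ⟨ConjAct.toConjAct g • c, MulAction.mem_orbit c _⟩ ⟨c, MulAction.mem_orbit_self c⟩)
    simp only [ConjAct.smul_def, ConjAct.ofConjAct_toConjAct] at this
    exact mul_inv_eq_iff_eq_mul.mp this
  have hcent : ∀ z ∈ G', ∀ g : G, g * z = z * g := fun z hz g =>
    Subgroup.mem_center_iff.mp (hGZ hz) g
  have hpow : ∀ z ∈ G', z ^ p = 1 := fun z hz => by
    have := pow_card_eq_one' (x := (⟨z, hz⟩ : G'))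
    rw [hGcard] at this
    exact congrArg Subtype.val this
  have hcomm : ∀ a b : G, a⁻¹ * b⁻¹ * a * b ∈ G' := fun a b => by
    have := Subgroup.commutator_mem_commutator (H₁ := (⊤ : Subgroup G)) (H₂ := ⊤)
      (Subgroup.mem_top a⁻¹) (Subgroup.mem_top b⁻¹)
    rw [← commutator_def] at this
    simpa [commutatorElement_def] using this
  -- `ψ w` is the homomorphism `g ↦ [w, g]`
  have hψmul : ∀ w g h : G, w⁻¹ * (g * h)⁻¹ * w * (g * h) =
      w⁻¹ * g⁻¹ * w * g * (w⁻¹ * h⁻¹ * w * h) := by
    intro w g h
    have := hcent _ (hcomm w g) (w⁻¹ * h⁻¹ * w)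
    calc w⁻¹ * (g * h)⁻¹ * w * (g * h) = w⁻¹ * h⁻¹ * w * (w⁻¹ * g⁻¹ * w * g) * h := by group
      _ = w⁻¹ * g⁻¹ * w * g * (w⁻¹ * h⁻¹ * w) * h := by rw [this]
      _ = _ := by group
  let ψ : G → G →* G' := fun w => MonoidHom.mk' (fun g => ⟨w⁻¹ * g⁻¹ * w * g, hcomm w g⟩)
    fun g h => Subtype.ext (hψmul w g h)
  have hψ1 : ∀ w g, ψ w g = 1 ↔ g * w = w * g := fun w g => by
    rw [Subtype.ext_iff]
    show w⁻¹ * g⁻¹ * w * g = 1 ↔ _
    constructor
    · intro h
      calc g * w = g * w * (w⁻¹ * g⁻¹ * w * g) := by rw [h, mul_one]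
        _ = w * g := by group
    · intro h
      calc w⁻¹ * g⁻¹ * w * g = (g * w)⁻¹ * (w * g) := by group
        _ = 1 := by rw [h]; group
  -- every conjugacy class of a noncentral element is its G'-coset
  have hclass : ∀ x ∉ Z, ∀ z ∈ G', ∃ g : G, g⁻¹ * x * g = x * z := by
    intro x hx z hz
    have hr : (ψ x).range = ⊤ := by
      haveI : Fact (Nat.card G').Prime := ⟨hGcard ▸ hp.out⟩
      refine ((ψ x).range.eq_bot_or_eq_top_of_prime_card).resolve_left fun h => hx ?_
      rw [hZ, Subgroup.mem_center_iff]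
      intro g
      rw [← hψ1]
      exact (h.le ⟨g, rfl⟩ : ψ x g ∈ (⊥ : Subgroup G'))
    obtain ⟨g, hg⟩ := (hr.ge (Subgroup.mem_top (⟨z, hz⟩ : G')) : _ ∈ (ψ x).range)
    refine ⟨g, ?_⟩
    have : x⁻¹ * g⁻¹ * x * g = z := congrArg Subtype.val hg
    rw [← this]; group
  -- p-th powers are central, and [G : Z] ≥ p^2
  have hpZ : ∀ x : G, x ^ p ∈ Z := fun x => by
    rw [hZ, Subgroup.mem_center_iff]
    intro g
    have h1 : ψ g (x ^ p) = 1 := by
      rw [map_pow]; exact Subtype.ext (hpow _ (ψ g x).2)
    exact ((hψ1 g (x ^ p)).mp h1).symm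
  have hMcard : ∀ w ∉ Z, p * Nat.card (ψ w).ker = N := by
    intro w hw
    have h := (ψ w).ker.index_mul_card
    rw [Subgroup.index_ker] at h
    rw [hN, ← h]
    congr 1
    haveI : Fact (Nat.card G').Prime := ⟨hGcard ▸ hp.out⟩
    have : (ψ w).range = ⊤ := ((ψ w).range.eq_bot_or_eq_top_of_prime_card).resolve_left fun h => hw (by
      rw [hZ, Subgroup.mem_center_iff]
      intro g
      rw [← hψ1]
      exact (h.le ⟨g, rfl⟩ : ψ w g ∈ (⊥ : Subgroup G')))
    rw [this, Subgroup.card_top, hGcard]
  have hZle : ∀ w, Z ≤ (ψ w).ker := fun w z hz => by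
    rw [MonoidHom.mem_ker, hψ1]
    exact (Subgroup.mem_center_iff.mp hz w).symm
  obtain ⟨a, b, hab⟩ : ∃ a b : G, a * b ≠ b * a := by
    by_contra h
    push Not at h
    exact hna ⟨⟨h⟩⟩
  have haZ : a ∉ Z := fun h => hab (Subgroup.mem_center_iff.mp h b).symm
  have hZp : p * p * Nat.card Z ≤ N := by
    rw [← hMcard a haZ, mul_assoc]
    refine Nat.mul_le_mul_left p ?_
    obtain ⟨m, hm⟩ := Subgroup.card_dvd_of_le (hZle a)
    have hne : (ψ a).ker ≠ Z := fun h => haZ (h.le (by rw [MonoidHom.mem_ker, hψ1]))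
    have hpos := Nat.card_pos (α := (ψ a).ker)
    have hm2 : 2 ≤ m := by
      rcases m with - | - | m
      · rw [Nat.mul_zero] at hm; omega
      · exact absurd (Subgroup.eq_of_le_of_card_ge (hZle a) (by rw [hm, Nat.mul_one])).symm hne
      · omega
    have hmp : p ≤ m := Nat.minFac_le_of_dvd hm2 <|
      (Dvd.intro_left _ hm.symm).trans (Subgroup.card_subgroup_dvd_card _)
    rw [hm]
    calc p * Nat.card Z = Nat.card Z * p := Nat.mul_comm _ _
      _ ≤ _ := Nat.mul_le_mul_left _ hmp
  -- the elements of order dividing p in the centre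
  let π : Z →* Z := MonoidHom.mk' (fun z => z ^ p) fun u v => (show Commute u v from Subtype.ext ((Subgroup.mem_center_iff.mp v.2) (u : G))).mul_pow p
  have hπ : ∀ z : Z, π z = z ^ p := fun z => rfl
  set E := π.ker with hE
  have hEmem : ∀ z : Z, z ∈ E ↔ (z : G) ^ p = 1 := fun z => by
    rw [hE, MonoidHom.mem_ker, hπ, Subtype.ext_iff, SubmonoidClass.coe_pow, OneMemClass.coe_one]
  have hEge : Nat.card G' ≤ Nat.card E := Nat.card_le_card_of_injective
    (fun z : G' => (⟨⟨z, hGZ z.2⟩, (hEmem _).mpr (hpow _ z.2)⟩ : E)) fun u v h =>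
      Subtype.ext (congrArg (fun t : E => ((t : Z) : G)) h)
  haveI := Fintype.ofFinite G
  refine Nat.le_of_mul_le_mul_left ?_ (show 0 < p by omega)
  refine le_trans (le_of_eq (by ring : _ = Nat.card (MulAction.orbitRel.Quotient (MulAut G) G) * p ^ 2)) ?_
  have hclassOrbit : ∀ (φ : MulAut G) (x : G), x ∉ Z → ∀ z ∈ G',
      φ x * z ∈ MulAction.orbit (MulAut G) x := by
    intro φ x hx z hz
    have hx' : φ x ∉ Z := fun h => hx (by
      rw [hZ, Subgroup.mem_center_iff] at h ⊢
      intro g
      apply φ.injective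
      simpa using h (φ g))
    obtain ⟨g, hg⟩ := hclass (φ x) hx' z hz
    refine ⟨MulAut.conj g⁻¹ * φ, ?_⟩
    show (MulAut.conj g⁻¹ * φ) x = _
    rw [← hg]; simp
  have hw_of : ∀ (w : G → ℕ) (S : ℕ), (∑ x, w x) ≤ S →
      (∀ x, p ^ 2 ≤ Nat.card (MulAction.orbit (MulAut G) x) * w x) →
      Nat.card (MulAction.orbitRel.Quotient (MulAut G) G) * p ^ 2 ≤ S :=
    fun w S h h' => (card_orbits_mul_le _ w h').trans h
  have hone : ∀ x : G, 1 ≤ Nat.card (MulAction.orbit (MulAut G) x) := fun x => by
    haveI : Nonempty (MulAction.orbit (MulAut G) x) := ⟨⟨x, MulAction.mem_orbit_self x⟩⟩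
    exact Nat.card_pos
  have hcntZ : (Finset.univ.filter fun x : G => x ∈ Z).card = Nat.card Z := by
    rw [Nat.card_eq_fintype_card, Fintype.card_subtype]
  by_cases hEbig : p < Nat.card E
  · -- central automorphisms
    have hE2 : p ^ 2 ≤ Nat.card E := by
      have hEp : IsPGroup p E := fun z => ⟨1, by
        rw [pow_one]; exact Subtype.ext (Subtype.ext (by simpa using (hEmem z.1).mp z.2))⟩
      obtain ⟨k, hk⟩ := IsPGroup.iff_card.mp hEp
      have hp1 : p ^ 1 = p := pow_one p
      rw [hk] at hEbig ⊢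
      refine Nat.pow_le_pow_right (by omega) ?_
      by_contra hh
      have : p ^ k ≤ p ^ 1 := Nat.pow_le_pow_right (by omega) (by omega)
      omega
    refine hw_of (fun x => if x ∈ Z then p ^ 2 else 1) _ ?_ ?_
    · rw [Finset.sum_ite, Finset.sum_const, Finset.sum_const, smul_eq_mul, smul_eq_mul, mul_one,
        hcntZ]
      have h1 : (Finset.univ.filter fun x : G => ¬ x ∈ Z).card ≤ N := by
        rw [hN, Nat.card_eq_fintype_card]; exact Finset.card_le_univ _
      nlinarith
    intro x
    by_cases hx : x ∈ Z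
    · simp only [if_pos hx]; exact Nat.le_mul_of_pos_left _ (hone x)
    simp only [if_neg hx, mul_one]
    refine hE2.trans ?_
    -- a homomorphism onto G' killing Z and not vanishing at x
    obtain ⟨y, hy⟩ : ∃ y, ψ y x ≠ 1 := by
      by_contra hcon
      push Not at hcon
      exact hx (Subgroup.mem_center_iff.mpr fun g => ((hψ1 g x).mp (hcon g)).symm)
    set d := ψ y x with hd
    haveI : Fact (Nat.card G').Prime := ⟨hGcard ▸ hp.out⟩
    have htop := (Subgroup.eq_bot_or_eq_top_of_prime_card (Subgroup.zpowers d)).resolve_left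
      (by simpa [Subgroup.zpowers_eq_bot] using hy)
    have hdi : ∀ g, ∃ i : ℕ, d ^ i = ψ y g := fun g =>
      mem_powers_iff_mem_zpowers.mpr (htop.ge (Subgroup.mem_top _))
    choose χ hχ using hdi
    have hdord : orderOf d = p := orderOf_eq_prime (Subtype.ext (hpow _ d.2)) hy
    have hmod : ∀ (e : E) (i j : ℕ), d ^ i = d ^ j → ((e : Z) : G) ^ i = ((e : Z) : G) ^ j := by
      intro e i j h
      rw [pow_eq_pow_iff_modEq, hdord] at h
      rw [pow_eq_pow_iff_modEq]
      exact h.of_dvd (orderOf_dvd_of_pow_eq_one ((hEmem _).mp e.2))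
    have hmul : ∀ (e : E) (g h : G), ((e : Z) : G) ^ χ (g * h) =
        ((e : Z) : G) ^ χ g * ((e : Z) : G) ^ χ h := fun e g h => by
      rw [← pow_add]
      exact hmod e _ _ (by rw [pow_add, hχ, hχ, hχ, map_mul])
    have hχZ : ∀ e : E, ∀ g ∈ Z, ((e : Z) : G) ^ χ g = 1 := fun e g hg => by
      rw [← pow_zero ((e : Z) : G)]
      exact hmod e _ _ (by rw [hχ, pow_zero]; exact MonoidHom.mem_ker.mp (hZle y hg))
    have hinj : Function.Injective fun e : E =>
        (⟨x * ((e : Z) : G), by
          let τ : G →* G := MonoidHom.mk' (fun g => g * ((e : Z) : G) ^ χ g) fun g h => by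
            rw [hmul]
            have hz : ((e : Z) : G) ^ χ g ∈ Z := Z.pow_mem e.1.2 _
            have := Subgroup.mem_center_iff.mp hz h
            simp only [← mul_assoc]
            rw [mul_assoc g h, this, ← mul_assoc]
          have hτ : Function.Injective τ := (injective_iff_map_eq_one τ).mpr fun g hg => by
            have hg' : g * ((e : Z) : G) ^ χ g = 1 := hg
            have hgZ : g ∈ Z := by
              rw [eq_inv_of_mul_eq_one_left hg']
              exact Z.inv_mem (Z.pow_mem e.1.2 _)
            rwa [hχZ e g hgZ, mul_one] at hg'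
          refine ⟨MulEquiv.ofBijective τ (Finite.injective_iff_bijective.mp hτ), ?_⟩
          show x * ((e : Z) : G) ^ χ x = _
          rw [hmod e (χ x) 1 (by rw [hχ, pow_one]), pow_one]⟩ : MulAction.orbit (MulAut G) x) := by
      intro u v h
      have := mul_left_cancel (congrArg Subtype.val h)
      exact Subtype.ext (Subtype.ext this)
    exact Nat.card_le_card_of_injective _ hinj
  -- cyclic p-part of the centre: an automorphism moving a whole coset of M
  have hEcard : Nat.card E = p := le_antisymm (by omega) (hGcard ▸ hEge)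
  have hEG : ∀ z ∈ Z, z ^ p = 1 → z ∈ G' := fun z hz h => by
    have hbij : Function.Bijective fun t : G' =>
        (⟨⟨t, hGZ t.2⟩, (hEmem _).mpr (hpow _ t.2)⟩ : E) :=
      (Nat.bijective_iff_injective_and_card _).mpr ⟨fun u v h =>
        Subtype.ext (congrArg (fun t : E => ((t : Z) : G)) h), by omega⟩
    obtain ⟨t, ht⟩ := hbij.2 ⟨⟨z, hz⟩, (hEmem _).mpr h⟩
    have : (t : G) = z := congrArg (fun t : E => ((t : Z) : G)) ht
    exact this ▸ t.2
  obtain ⟨c, hc, hc1⟩ : ∃ c ∈ G', c ≠ (1 : G) := by
    by_contra h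
    push Not at h
    exact hG1 (Subgroup.card_eq_one.mpr (eq_bot_iff.mpr fun c hc => h c hc))
  have hord : orderOf c = p := orderOf_eq_prime (hpow c hc) hc1
  have hcpow : ∀ z ∈ G', ∃ i : ℕ, c ^ i = z := fun z hz => by
    haveI : Fact (Nat.card G').Prime := ⟨hGcard ▸ hp.out⟩
    have hnb : Subgroup.zpowers (⟨c, hc⟩ : G') ≠ ⊥ := by
      simpa [Subgroup.zpowers_eq_bot] using hc1
    have htop := (Subgroup.eq_bot_or_eq_top_of_prime_card _).resolve_left hnb
    obtain ⟨i, hi⟩ := mem_powers_iff_mem_zpowers.mpr (htop.ge (Subgroup.mem_top (⟨z, hz⟩ : G')))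
    exact ⟨i, congrArg Subtype.val hi⟩
  have hsq : ∀ u v : G, (u * v) ^ 2 = u ^ 2 * v ^ 2 * (v⁻¹ * u⁻¹ * v * u) := fun u v => by
    have := hcent _ (hcomm v u) v
    calc (u * v) ^ 2 = u * u * v * (v⁻¹ * u⁻¹ * v * u) * v := by rw [pow_two]; group
      _ = u * u * v * (v * (v⁻¹ * u⁻¹ * v * u)) := by rw [this, mul_assoc (u * u * v)]
      _ = _ := by rw [pow_two, pow_two]; group
  obtain ⟨w, hwZ, hw⟩ : ∃ w ∉ Z, w ^ p * c ^ p.choose 2 = 1 := by
    rcases hp.out.eq_two_or_odd with h2 | hodd
    · -- p = 2
      rw [h2, Nat.choose_self, pow_one]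
      have hcc : c * c = 1 := by have := hpow c hc; rwa [h2, pow_two] at this
      let sq : G → Z := fun u => ⟨u ^ 2, h2 ▸ hpZ u⟩
      let cz : Z := ⟨c, hGZ hc⟩
      have hidx : π.range.index = 2 := by
        have h1 := π.range.card_mul_index
        have h2' := π.ker.index_mul_card
        rw [Subgroup.index_ker, ← hE, hEcard] at h2'
        have hpos := Nat.card_pos (α := π.range)
        exact Nat.eq_of_mul_eq_mul_left hpos (by rw [h1, ← h2', h2])
      have hxy : ∃ u ∉ Z, sq u * cz ∈ π.range := by
        have hb : b ∉ Z := fun h => hab (Subgroup.mem_center_iff.mp h a)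
        have habZ : a * b ∉ Z := fun h => hab (by
          have := Subgroup.mem_center_iff.mp h a
          exact mul_left_cancel (this.trans (mul_assoc a b a)))
        by_cases h1 : sq a * cz ∈ π.range
        · exact ⟨a, haZ, h1⟩
        by_cases h3 : sq b * cz ∈ π.range
        · exact ⟨b, hb, h3⟩
        refine ⟨a * b, habZ, ?_⟩
        have h4 : sq (a * b) * cz = sq a * cz * (sq b * cz) := by
          refine Subtype.ext ?_
          show (a * b) ^ 2 * c = a ^ 2 * c * (b ^ 2 * c)
          obtain ⟨i, hi⟩ := hcpow _ (hcomm b a)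
          have hne : b⁻¹ * a⁻¹ * b * a ≠ 1 := fun h => hab (by
            calc a * b = a * b * (b⁻¹ * a⁻¹ * b * a) := by rw [h, mul_one]
              _ = b * a := by group)
          have hbc : b⁻¹ * a⁻¹ * b * a = c := by
            rw [← hi]
            rcases Nat.even_or_odd i with he | ho
            · obtain ⟨j, rfl⟩ := he
              exact absurd (by rw [← hi, ← two_mul, pow_mul, pow_two, hcc, one_pow]) hne
            · obtain ⟨j, rfl⟩ := ho
              rw [pow_succ, pow_mul, pow_two, hcc, one_pow, one_mul]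
          rw [hsq, hbc]
          calc a ^ 2 * b ^ 2 * c * c = a ^ 2 * b ^ 2 := by rw [mul_assoc, hcc, mul_one]
            _ = a ^ 2 * (c * c) * b ^ 2 := by rw [hcc, mul_one]
            _ = a ^ 2 * c * (c * b ^ 2) := by group
            _ = a ^ 2 * c * (b ^ 2 * c) := by rw [hcent c hc (b ^ 2)]
        rw [h4, Subgroup.mul_mem_iff_of_index_two hidx]
        exact iff_of_false h1 h3
      obtain ⟨u, hu, z, hz⟩ := hxy
      refine ⟨u * (z : G)⁻¹, fun h => hu (by simpa using Z.mul_mem h z.2), ?_⟩
      have hz' : (z : G) ^ 2 = u ^ 2 * c := by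
        rw [← h2]
        have := congrArg Subtype.val hz
        simpa [hπ, sq, cz, h2] using this
      rw [(show Commute u (z : G)⁻¹ from (Commute.inv_right (Subgroup.mem_center_iff.mp z.2 u))).mul_pow,
        inv_pow, hz', mul_inv_rev]
      calc u ^ 2 * (c⁻¹ * (u ^ 2)⁻¹) * c = u ^ 2 * ((u ^ 2)⁻¹ * c⁻¹) * c := by
            rw [hcent c⁻¹ (G'.inv_mem hc)]
        _ = 1 := by group
    · -- p odd
      have hpodd : Odd p := Nat.odd_iff.mpr hodd
      have hgen : ∀ (u v : G) (n : ℕ), (u * v) ^ n =
          u ^ n * v ^ n * (v⁻¹ * u⁻¹ * v * u) ^ n.choose 2 := by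
        intro u v n
        set d := v⁻¹ * u⁻¹ * v * u with hd
        have hd' : ∀ g, Commute g d := fun g => hcent d (hcomm v u) g
        have hvu : v * u = u * v * d := by rw [hd]; group
        have hvnu : ∀ n : ℕ, v ^ n * u = u * v ^ n * d ^ n := by
          intro n
          induction n with
          | zero => simp
          | succ n ih =>
            rw [pow_succ', mul_assoc, ih, ← mul_assoc, ← mul_assoc, hvu, mul_assoc (u * v) d,
              ← ((hd' (v ^ n))).eq, pow_succ' d]
            group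
        induction n with
        | zero => simp
        | succ n ih =>
          rw [pow_succ, ih, Nat.choose_succ_succ', Nat.choose_one_right, pow_add]
          have e1 : d ^ n.choose 2 * (u * v) = u * v * d ^ n.choose 2 :=
            ((hd' (u * v)).pow_right _).eq.symm
          have e2 : d ^ n * v = v * d ^ n := ((hd' v).pow_right n).eq.symm
          calc u ^ n * v ^ n * d ^ n.choose 2 * (u * v)
              = u ^ n * v ^ n * (u * v * d ^ n.choose 2) := by rw [mul_assoc, e1]
            _ = u ^ n * (v ^ n * u) * v * d ^ n.choose 2 := by group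
            _ = u ^ n * u * v ^ n * (d ^ n * v) * d ^ n.choose 2 := by rw [hvnu]; group
            _ = _ := by rw [e2, pow_succ, pow_succ]; group
      have hdvd : p ∣ p.choose 2 := hp.out.dvd_choose_self two_ne_zero (by
        rcases hpodd with ⟨j, hj⟩; omega)
      have hz1 : ∀ z ∈ G', z ^ p.choose 2 = 1 := fun z hz => by
        obtain ⟨j, hj⟩ := hdvd
        rw [hj, pow_mul, hpow z hz, one_pow]
      let θ : G →* Z := MonoidHom.mk' (fun g => ⟨g ^ p, hpZ g⟩) fun g h => Subtype.ext (by
        show (g * h) ^ p = g ^ p * h ^ p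
        rw [hgen, hz1 _ (hcomm h g), mul_one])
      by_contra hcon
      push Not at hcon
      have hker : θ.ker ≤ G' := fun g hg => by
        have hg' : g ^ p = 1 := congrArg Subtype.val hg
        refine hEG g ?_ hg'
        by_contra hgZ
        exact hcon g hgZ (by rw [hg', hz1 c hc, one_mul])
      have h1 := θ.ker.index_mul_card
      rw [Subgroup.index_ker] at h1
      have h2 : N ≤ Nat.card Z * p := by
        rw [← hN] at h1
        rw [← h1]
        exact Nat.mul_le_mul (Subgroup.card_le_card_group _) (hGcard ▸ Subgroup.card_le_of_le hker)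
      have := Nat.card_pos (α := Z)
      nlinarith
  -- the index of `g` relative to `w`
  choose ι hι using fun g => hcpow _ (ψ w g).2
  let F : ℕ → G := fun i => w ^ i * c ^ i.choose 2
  have hcC : ∀ (i : ℕ) (g : G), g * c ^ i = c ^ i * g := fun i => hcent _ (G'.pow_mem hc i)
  have hFadd : ∀ i j, F (i + j) = F i * F j * c ^ (i * j) := by
    intro i j
    have hcc : (i + j).choose 2 = i.choose 2 + j.choose 2 + i * j := by
      clear * -
      induction j with
      | zero => simp
      | succ j ih =>
        rw [← Nat.add_assoc, Nat.choose_succ_succ', Nat.choose_succ_succ' j, Nat.choose_one_right,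
          Nat.choose_one_right, ih]
        ring
    show w ^ (i + j) * c ^ (i + j).choose 2 = _
    rw [hcc, pow_add, pow_add, pow_add]
    show _ = w ^ i * c ^ i.choose 2 * (w ^ j * c ^ j.choose 2) * c ^ (i * j)
    calc w ^ i * w ^ j * (c ^ i.choose 2 * c ^ j.choose 2 * c ^ (i * j))
        = w ^ i * (w ^ j * c ^ i.choose 2) * c ^ j.choose 2 * c ^ (i * j) := by group
      _ = w ^ i * (c ^ i.choose 2 * w ^ j) * c ^ j.choose 2 * c ^ (i * j) := by rw [hcC (i.choose 2) (w ^ j)]
      _ = _ := by group
  have hFp : ∀ i, F (i % p) = F i := by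
    intro i
    have hstep : ∀ k i, F (i + p * k) = F i := by
      intro k
      induction k with
      | zero => simp
      | succ k ih =>
        intro i
        rw [Nat.mul_succ, ← Nat.add_assoc, hFadd, ih, show F p = 1 from hw, mul_one,
          Nat.mul_comm (i + p * k), pow_mul, hpow c hc, one_pow, mul_one]
    conv_rhs => rw [← Nat.mod_add_div i p]
    rw [hstep]
  have hFeq : ∀ i j, c ^ i = c ^ j → F i = F j := fun i j h => by
    rw [← hFp i, ← hFp j]
    congr 1
    rw [pow_eq_pow_iff_modEq, hord] at h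
    exact h
  have hwg : ∀ g : G, w * g = g * w * c ^ ι g := fun g => by
    rw [hι]; show _ = g * w * (w⁻¹ * g⁻¹ * w * g); group
  have hFg : ∀ (i : ℕ) (g : G), F i * g = g * F i * c ^ (i * ι g) := by
    intro i g
    have hw' : ∀ i : ℕ, w ^ i * g = g * w ^ i * c ^ (i * ι g) := by
      intro i
      induction i with
      | zero => simp
      | succ i ih =>
        rw [pow_succ, mul_assoc, hwg, Nat.succ_mul, pow_add]
        calc w ^ i * (g * w * c ^ ι g) = w ^ i * g * w * c ^ ι g := by group
          _ = g * w ^ i * (c ^ (i * ι g) * w) * c ^ ι g := by rw [ih]; group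
          _ = _ := by rw [← hcC]; group
    show w ^ i * c ^ i.choose 2 * g = g * (w ^ i * c ^ i.choose 2) * c ^ (i * ι g)
    calc w ^ i * c ^ i.choose 2 * g = w ^ i * g * c ^ i.choose 2 := by rw [mul_assoc, ← hcC, ← mul_assoc]
      _ = g * w ^ i * (c ^ (i * ι g) * c ^ i.choose 2) := by rw [hw']; group
      _ = _ := by rw [← pow_add, Nat.add_comm, pow_add]; group
  have hιadd : ∀ g h, c ^ ι (g * h) = c ^ (ι g + ι h) := fun g h => by
    rw [pow_add, hι, hι, hι]; exact congrArg Subtype.val (map_mul (ψ w) g h)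
  let τ : G →* G := MonoidHom.mk' (fun g => g * F (ι g)) fun g h => by
    rw [hFeq _ _ (hιadd g h), hFadd]
    calc g * h * (F (ι g) * F (ι h) * c ^ (ι g * ι h))
        = g * (h * F (ι g) * (F (ι h) * c ^ (ι g * ι h))) := by group
      _ = g * (h * F (ι g) * (c ^ (ι g * ι h) * F (ι h))) := by rw [hcC]
      _ = g * (F (ι g) * h) * F (ι h) := by rw [hFg]; group
      _ = _ := by group
  have hFM : ∀ i, F i ∈ (ψ w).ker := fun i =>
    Subgroup.mul_mem _ (Subgroup.pow_mem _ (by rw [MonoidHom.mem_ker, hψ1]) _)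
      (hZle w (Z.pow_mem (hGZ hc) _))
  have hτM : ∀ g ∈ (ψ w).ker, τ g = g := fun g hg => by
    have h1 : c ^ ι g = c ^ 0 := by
      rw [hι, pow_zero]; exact congrArg Subtype.val (MonoidHom.mem_ker.mp hg)
    show g * F (ι g) = g
    rw [hFeq _ _ h1]; simp [F]
  have hτ : Function.Injective τ := (injective_iff_map_eq_one τ).mpr fun g hg => by
    have hgM : g ∈ (ψ w).ker := by
      rw [eq_inv_of_mul_eq_one_left (show g * F (ι g) = 1 from hg)]
      exact Subgroup.inv_mem _ (hFM _)
    exact (hτM g hgM).symm.trans hg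
  let σ : MulAut G := MulEquiv.ofBijective τ (Finite.injective_iff_bijective.mp hτ)
  refine hw_of (fun x => if x ∈ Z then p ^ 2 else if x ∈ (ψ w).ker then p else 1) _ ?_ ?_
  · have hkey : ∀ x : G, (if x ∈ Z then p ^ 2 else if x ∈ (ψ w).ker then p else 1) +
        (p * (if x ∈ Z then 1 else 0) + (if x ∈ (ψ w).ker then 1 else 0)) ≤
        p ^ 2 * (if x ∈ Z then 1 else 0) + (p * (if x ∈ (ψ w).ker then 1 else 0) + 1) := by
      intro x
      by_cases h1 : x ∈ Z
      · simp [h1, hZle w h1]
      · by_cases h2 : x ∈ (ψ w).ker <;> simp [h1, h2]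
    have hsum := Finset.sum_le_sum (s := Finset.univ) fun x _ => hkey x
    simp only [Finset.sum_add_distrib, ← Finset.mul_sum, Finset.sum_boole, Nat.cast_id,
      Finset.sum_const, smul_eq_mul, mul_one, Finset.card_univ] at hsum
    have h1 : (Finset.univ.filter fun x : G => x ∈ (ψ w).ker).card = Nat.card (ψ w).ker := by
      rw [Nat.card_eq_fintype_card, Fintype.card_subtype]
    rw [h1, ← Nat.card_eq_fintype_card (α := G), ← hN] at hsum
    have h2 := hMcard w hwZ
    generalize (∑ x : G, (if x ∈ Z then p ^ 2 else if x ∈ (ψ w).ker then p else 1)) = S at hsum ⊢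
    have hZsum : (∑ i : G, if i ∈ Z then 1 else 0) = Nat.card Z := by
      rw [← Finset.card_filter, hcntZ]
    try rw [hZsum] at hsum
    generalize Nat.card Z = c₀ at hsum hZp
    generalize Nat.card (ψ w).ker = m at hsum h2
    obtain ⟨q, hq⟩ := Nat.exists_eq_add_of_le hp2
    rw [← h2, hq] at hsum hZp ⊢
    have h3 : (2 + q) * c₀ ≤ m := by
      refine Nat.le_of_mul_le_mul_left ?_ (show 0 < 2 + q by omega)
      rw [← mul_assoc]; exact hZp
    nlinarith [Nat.mul_le_mul_left (1 + q) h3, Nat.zero_le (q * m), Nat.zero_le (q * q * m)]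
  intro x
  by_cases hx : x ∈ Z
  · simp only [if_pos hx]; exact Nat.le_mul_of_pos_left _ (hone x)
  simp only [if_neg hx]
  by_cases hxM : x ∈ (ψ w).ker
  · simp only [if_pos hxM]
    rw [pow_two]
    refine Nat.mul_le_mul_right p ?_
    rw [← hGcard]
    refine Nat.card_le_card_of_injective
      (fun z : G' => (⟨x * z, hclassOrbit 1 x hx z z.2⟩ : MulAction.orbit (MulAut G) x))
      fun u v h => Subtype.ext (mul_left_cancel (congrArg Subtype.val h))
  simp only [if_neg hxM, mul_one]
  set e := F (ι x) with he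
  have heZ : e ∉ Z := by
    intro h
    have hwi : w ^ ι x ∈ Z := by
      have := Z.mul_mem h (Z.inv_mem (Z.pow_mem (hGZ hc) ((ι x).choose 2)))
      rw [he] at this
      simpa [F] using this
    have hpi : ¬ p ∣ ι x := fun ⟨j, hj⟩ => hxM (by
      rw [MonoidHom.mem_ker]
      refine Subtype.ext ?_
      show _ = (1 : G)
      rw [← hι, hj, pow_mul, hpow c hc, one_pow])
    obtain ⟨m, -, hm⟩ := Nat.exists_mul_mod_eq_one_of_coprime
      ((hp.out.coprime_iff_not_dvd.mpr hpi).symm) hp.out.one_lt
    apply hwZ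
    have h1 : w = (w ^ ι x) ^ m * ((w ^ p) ^ (ι x * m / p))⁻¹ := by
      rw [eq_mul_inv_iff_mul_eq, ← pow_mul, ← pow_mul, ← pow_succ']
      congr 1
      have := Nat.mod_add_div (ι x * m) p
      rw [hm] at this
      omega
    rw [h1]
    exact Z.mul_mem (Z.pow_mem hwi _) (Z.inv_mem (Z.pow_mem (hpZ w) _))
  have hiter : ∀ j : ℕ, (σ ^ j) x = x * e ^ j := by
    intro j
    induction j with
    | zero => simp
    | succ j ih =>
      rw [pow_succ', MulAut.mul_apply, ih]
      show τ (x * e ^ j) = _
      rw [map_mul, hτM _ (Subgroup.pow_mem _ (hFM _) j)]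
      show x * e * e ^ j = _
      rw [pow_succ', mul_assoc]
  rw [pow_two]
  calc p * p = Nat.card (Fin p × G') := by rw [Nat.card_prod, Nat.card_eq_fintype_card,
        Fintype.card_fin, hGcard]
    _ ≤ _ := by
      refine Nat.card_le_card_of_injective (fun q : Fin p × G' =>
        (⟨(σ ^ (q.1 : ℕ)) x * q.2, hclassOrbit _ x hx _ q.2.2⟩ : MulAction.orbit (MulAut G) x)) ?_
      rintro ⟨i, u⟩ ⟨j, v⟩ h
      have h' : x * e ^ (i : ℕ) * (u : G) = x * e ^ (j : ℕ) * (v : G) := by
        have := congrArg Subtype.val h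
        simpa [hiter] using this
      rw [mul_assoc, mul_assoc] at h'
      have h'' := mul_left_cancel h'
      have hij : ∀ (i j : Fin p) (u v : G'), (i : ℕ) ≤ j → e ^ (i : ℕ) * (u : G) = e ^ (j : ℕ) * (v : G) → i = j := by
        intro i j u v hle hq
        by_contra hne
        have hlt : (i : ℕ) < j := lt_of_le_of_ne hle (fun h => hne (Fin.ext h))
        obtain ⟨d, hd⟩ := Nat.exists_eq_add_of_le hle
        rw [hd, pow_add, mul_assoc] at hq
        have hed : e ^ d ∈ Z := by
          rw [eq_mul_inv_of_mul_eq (mul_left_cancel hq).symm]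
          exact Z.mul_mem (hGZ u.2) (Z.inv_mem (hGZ v.2))
        have hdp : ¬ p ∣ d := fun h => by
          have := Nat.le_of_dvd (by omega) h; omega
        obtain ⟨m, -, hm⟩ := Nat.exists_mul_mod_eq_one_of_coprime
          ((hp.out.coprime_iff_not_dvd.mpr hdp).symm) hp.out.one_lt
        apply heZ
        have h1 : e = (e ^ d) ^ m * ((e ^ p) ^ (d * m / p))⁻¹ := by
          rw [eq_mul_inv_iff_mul_eq, ← pow_mul, ← pow_mul, ← pow_succ']
          congr 1
          have := Nat.mod_add_div (d * m) p
          rw [hm] at this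
          omega
        rw [h1]
        exact Z.mul_mem (Z.pow_mem hed _) (Z.inv_mem (Z.pow_mem (hpZ e) _))
      have : i = j := by
        rcases le_total (i : ℕ) j with h1 | h1
        · exact hij i j u v h1 h''
        · exact (hij j i v u h1 h''.symm).symm
      subst this
      exact Prod.ext rfl (Subtype.ext (mul_left_cancel h''))

end Cfsg.Agent.S4067
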