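import Cfsg.Statements.S4068
import Cfsg.Agent.S2202
import Cfsg.Agent.Lib.Induced.Burnside
import Cfsg.Agent.Lib.Induced.CNTheorem
import Cfsg.Agent.Lib.Linear.Order
import Cfsg.Agent.Lib.Linear.Simple
import Cfsg.Agent.Lib.Linear.SmallIso.PSL5
import Cfsg.Agent.Lib.SmallGroups.RecogSmall
import Cfsg.Prelude.Def_LieExceptional
-- import your own Cfsg.Agent.* helpers here

set_option autoImplicit false
open Cfsg

namespace Cfsg.Agent.S4068

open Cfsg.Agent.Lib

theorem solvable_of_two_primes {H : Type*} [Group H] [Finite H]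
    (h : (Nat.card H).primeFactors.card ≤ 2) : Group.IsSolvable H := by
  classical
  have hn : Nat.card H ≠ 0 := Nat.card_pos.ne'
  have hprod : (Nat.card H).primeFactors.prod (fun p => p ^ (Nat.card H).factorization p) = Nat.card H := by
    have := Nat.prod_factorization_pow_eq_self hn
    rwa [Finsupp.prod, Nat.support_factorization] at this
  obtain h0 | h1 | h2 : (Nat.card H).primeFactors.card = 0 ∨ (Nat.card H).primeFactors.card = 1 ∨
      (Nat.card H).primeFactors.card = 2 := by omega
  · rw [Finset.card_eq_zero] at h0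
    rw [h0, Finset.prod_empty] at hprod
    exact Induced.Burnside.isSolvable_of_card_eq 2 3 0 0 Nat.prime_two Nat.prime_three (by simpa using hprod.symm)
  · obtain ⟨p, hp⟩ := Finset.card_eq_one.1 h1
    have hpp : p.Prime := Nat.prime_of_mem_primeFactors (hp ▸ Finset.mem_singleton_self p)
    rw [hp, Finset.prod_singleton] at hprod
    exact Induced.Burnside.isSolvable_of_card_eq p 2 ((Nat.card H).factorization p) 0 hpp Nat.prime_two
      (by simpa using hprod.symm)
  · obtain ⟨p, q, hpq, hp⟩ := Finset.card_eq_two.1 h2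
    have hpp : p.Prime := Nat.prime_of_mem_primeFactors (show p ∈ (Nat.card H).primeFactors by simp [hp])
    have hqp : q.Prime := Nat.prime_of_mem_primeFactors (show q ∈ (Nat.card H).primeFactors by simp [hp])
    rw [hp, Finset.prod_pair hpq] at hprod
    exact Induced.Burnside.isSolvable_of_card_eq p q _ _ hpp hqp hprod.symm

theorem prime_orders {G : Type*} [Group G] [Finite G] (hns : ¬ Group.IsSolvable G)
    (h4 : Nat.card (MulAction.orbitRel.Quotient (MulAut G) G) = 4) :
    (Nat.card G).primeFactors.card = 3 ∧ ∀ g : G, g ≠ 1 → (orderOf g).Prime := by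
  classical
  let _ := Fintype.ofFinite G
  have h3 : 3 ≤ (Nat.card G).primeFactors.card := by
    by_contra hc
    exact hns (solvable_of_two_primes (by omega))
  let _ := Fintype.ofFinite (MulAction.orbitRel.Quotient (MulAut G) G)
  let f : MulAction.orbitRel.Quotient (MulAut G) G → ℕ := Quotient.lift (fun g : G => orderOf g)
    (fun a b (hab : a ∈ MulAction.orbit (MulAut G) b) => by
      obtain ⟨φ, rfl⟩ := hab
      exact MulEquiv.orderOf_eq φ b)
  have hmem : ∀ g : G, orderOf g ∈ Finset.univ.image f := fun g =>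
    Finset.mem_image.2 ⟨Quotient.mk (MulAction.orbitRel (MulAut G) G) g, Finset.mem_univ _, rfl⟩
  have hsub : insert 1 (Nat.card G).primeFactors ⊆ Finset.univ.image f := by
    intro p hp
    rcases Finset.mem_insert.1 hp with rfl | hp
    · simpa using hmem 1
    · have := Fact.mk (Nat.prime_of_mem_primeFactors hp)
      obtain ⟨g, hg⟩ := exists_prime_orderOf_dvd_card' (G := G) p (Nat.dvd_of_mem_primeFactors hp)
      exact hg ▸ hmem g
  have hle : (Finset.univ.image f).card ≤ 4 := Finset.card_image_le.trans (by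
    rw [Finset.card_univ, ← Nat.card_eq_fintype_card, h4])
  have h1 : 1 ∉ (Nat.card G).primeFactors := fun h => Nat.not_prime_one (Nat.prime_of_mem_primeFactors h)
  have hins := Finset.card_le_card hsub
  rw [Finset.card_insert_of_notMem h1] at hins
  refine ⟨by omega, fun g hg => ?_⟩
  have heq := Finset.eq_of_subset_of_card_le hsub (by rw [Finset.card_insert_of_notMem h1]; omega)
  have := hmem g
  rw [← heq, Finset.mem_insert, orderOf_eq_one_iff] at this
  exact Nat.prime_of_mem_primeFactors (this.resolve_left hg)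

theorem order_eq_of_commute {G : Type*} [Group G] (hpr : ∀ g : G, g ≠ 1 → (orderOf g).Prime)
    {x y : G} (hxy : Commute x y) (hx : x ≠ 1) (hy : y ≠ 1) : orderOf x = orderOf y := by
  by_contra hne
  have hcop : (orderOf x).Coprime (orderOf y) := (Nat.coprime_primes (hpr x hx) (hpr y hy)).2 hne
  have ho := hxy.orderOf_mul_eq_mul_orderOf_of_coprime hcop
  have hxy1 : x * y ≠ 1 := by
    intro e
    rw [e, orderOf_one] at ho
    exact (hpr x hx).one_lt.ne' (Nat.eq_one_of_mul_eq_one_right ho.symm)
  have := hpr _ hxy1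
  rw [ho] at this
  exact Nat.not_prime_mul (hpr x hx).one_lt.ne' (hpr y hy).one_lt.ne' this

theorem isCNGroup_of_prime_orders {G : Type*} [Group G] [Finite G]
    (hpr : ∀ g : G, g ≠ 1 → (orderOf g).Prime) : Cfsg.IsCNGroup G := by
  intro g hg
  have := Fact.mk (hpr g hg)
  have hp : IsPGroup (orderOf g) (Subgroup.centralizer ({g} : Set G)) := fun y => by
    by_cases hy : y = 1
    · exact ⟨0, by simp [hy]⟩
    · refine ⟨1, ?_⟩
      have hc : Commute g (y : G) := (Subgroup.mem_centralizer_singleton_iff.1 y.2).symm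
      have := order_eq_of_commute hpr hc hg (fun e => hy (Subtype.ext e))
      rw [pow_one, this]
      exact Subtype.ext (by rw [Subgroup.coe_pow, Subgroup.coe_one]; exact pow_orderOf_eq_one _)
  exact hp.isNilpotent

/-- The diagonal element of order `q - 1`. -/
theorem exists_order_pred (F : Type*) [Field F] [Fintype F] :
    ∃ g : Matrix.SpecialLinearGroup (Fin 2) F, orderOf g = Fintype.card F - 1 := by
  classical
  obtain ⟨u, hu⟩ := IsCyclic.exists_generator (α := Fˣ)
  let d : Fˣ →* Matrix.SpecialLinearGroup (Fin 2) F :=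
    { toFun := fun a => ⟨!![(a : F), 0; 0, ((a⁻¹ : Fˣ) : F)], by simp [Matrix.det_fin_two_of]⟩
      map_one' := by ext i j; fin_cases i <;> fin_cases j <;> simp
      map_mul' := fun a b => by
        apply Subtype.ext
        show !![_, (0 : F); 0, _] = !![_, (0 : F); 0, _] * !![_, (0 : F); 0, _]
        simp [mul_comm] }
  have hd : Function.Injective d := fun a b h => Units.ext (by
    have := congrArg (fun m : Matrix.SpecialLinearGroup (Fin 2) F => m.1 0 0) h
    exact this)
  refine ⟨d u, ?_⟩
  rw [orderOf_injective d hd, orderOf_eq_card_of_forall_mem_zpowers hu, Nat.card_eq_fintype_card,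
    Fintype.card_units]

theorem not_all_prime_eight (F : Type*) [Field F] [Fintype F] (h8 : Fintype.card F = 8) :
    ∃ g : Matrix.SpecialLinearGroup (Fin 2) F, g ^ 2 ≠ 1 ∧ g ^ 3 ≠ 1 ∧ g ^ 7 ≠ 1 := by
  classical
  have hchar : CharP F 2 := by
    obtain ⟨k, hkp, hk⟩ := FiniteField.card F (ringChar F)
    have : ringChar F = 2 := by
      have hd : ringChar F ∣ 2 ^ 3 := by
        rw [show (2 : ℕ) ^ 3 = 8 by norm_num, ← h8, hk]; exact dvd_pow_self _ k.pos.ne'
      exact (Nat.prime_dvd_prime_iff_eq hkp Nat.prime_two).1 (hkp.dvd_of_dvd_pow hd)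
    exact this ▸ ringChar.charP F
  have h2 : (2 : F) = 0 := CharTwo.two_eq_zero
  obtain ⟨x, hx⟩ : ∃ x : F, x ∉ ({0, 1} : Finset F) := by
    by_contra hc
    push Not at hc
    have : (Finset.univ : Finset F).card ≤ 2 :=
      (Finset.card_le_card fun a _ => hc a).trans Finset.card_le_two
    rw [Finset.card_univ, h8] at this
    omega
  simp only [Finset.mem_insert, Finset.mem_singleton, not_or] at hx
  have hx7 : x ^ 7 = 1 := by
    have := FiniteField.pow_card_sub_one_eq_one x hx.1
    rwa [h8] at this
  obtain ⟨t, ht⟩ : ∃ t : F, t ^ 3 + t + 1 = 0 := by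
    have : (x - 1) * (x ^ 3 + x + 1) * (x ^ 3 + x ^ 2 + 1) = 0 := by
      linear_combination hx7 + (x ^ 3 - x ^ 4) * (0 : F) + (x ^ 4 - x ^ 3) * h2
    rcases mul_eq_zero.1 this with h | h
    · rcases mul_eq_zero.1 h with h | h
      · exact absurd (sub_eq_zero.1 h) hx.2
      · exact ⟨x, h⟩
    · refine ⟨x⁻¹, ?_⟩
      have := hx.1
      field_simp
      linear_combination h
  have ht0 : t ≠ 0 := fun e => by simp [e] at ht
  let M : Matrix.SpecialLinearGroup (Fin 2) F := ⟨!![0, 1; 1, t], by
    simp [Matrix.det_fin_two_of, CharTwo.neg_eq]⟩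
  have e : ∀ n, (M ^ n).1 = (!![0, 1; 1, t] : Matrix (Fin 2) (Fin 2) F) ^ n := fun n => by
    rw [Matrix.SpecialLinearGroup.coe_pow]
  have key : ∀ n, (!![0, 1; 1, t] : Matrix (Fin 2) (Fin 2) F) ^ n ≠ 1 → M ^ n ≠ 1 :=
    fun n hn hc => hn (by rw [← e, hc]; rfl)
  refine ⟨M, key 2 fun hc => ?_, key 3 fun hc => ?_, key 7 fun hc => ?_⟩
  · have := congrFun (congrFun hc 0) 1
    simp [pow_two, Matrix.mul_apply, Fin.sum_univ_two] at this
    exact ht0 this
  · have := congrFun (congrFun hc 0) 1
    simp [pow_succ, Matrix.mul_apply, Fin.sum_univ_two] at this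
    exact one_ne_zero (by linear_combination ht - t * this : (1 : F) = 0)
  · have := congrFun (congrFun hc 0) 1
    simp [pow_succ, Matrix.mul_apply, Fin.sum_univ_two] at this
    exact ht0 (by linear_combination this - (t ^ 3 + 1) * ht - (2 * t ^ 4 - t ^ 3 + 3 * t ^ 2 - t) * h2)

theorem two_pow_succ_eq_three_pow {n b : ℕ} (h : 2 ^ n + 1 = 3 ^ b) : n ≤ 1 ∨ n = 3 := by
  rcases Nat.even_or_odd b with ⟨c, hc⟩ | ⟨c, hc⟩
  · right
    have hc0 : 1 ≤ 3 ^ c := Nat.one_le_pow _ _ (by norm_num)
    have hfac : (3 ^ c - 1) * (3 ^ c + 1) = 2 ^ n := by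
      obtain ⟨m, hm⟩ := Nat.exists_eq_add_of_le hc0
      rw [hc, pow_add, hm] at h
      rw [hm, Nat.add_sub_cancel_left]
      nlinarith
    obtain ⟨i, -, hi⟩ := (Nat.dvd_prime_pow Nat.prime_two).1 (Dvd.intro _ hfac)
    obtain ⟨j, -, hj⟩ := (Nat.dvd_prime_pow Nat.prime_two).1 (Dvd.intro_left _ hfac)
    have hij : 2 ^ j = 2 ^ i + 2 := by omega
    have hi2 : i < 2 := by
      by_contra hlt
      have hj2 : 2 ≤ j := by
        by_contra hj2
        have h4 := Nat.pow_le_pow_right (show 0 < 2 by norm_num) (show 2 ≤ i by omega)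
        interval_cases j <;> omega
      obtain ⟨i', rfl⟩ := Nat.exists_eq_add_of_le (show 2 ≤ i by omega)
      obtain ⟨j', rfl⟩ := Nat.exists_eq_add_of_le hj2
      rw [pow_add, pow_add] at hij
      omega
    interval_cases i
    · exfalso
      have h1 : (3 : ℕ) ^ c = 2 := by omega
      rcases c with _ | c
      · norm_num at h1
      · rw [pow_succ] at h1; omega
    · have h1 : (3 : ℕ) ^ c = 3 := by omega
      rw [h1] at hfac
      exact Nat.pow_right_injective le_rfl (hfac.symm.trans (by norm_num) : 2 ^ n = 2 ^ 3)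
  · left
    by_contra hlt
    obtain ⟨n', rfl⟩ := Nat.exists_eq_add_of_le (show 2 ≤ n by omega)
    have h9 : (3 ^ b) % 4 = 3 := by
      rw [hc, pow_succ, pow_mul, Nat.mul_mod, Nat.pow_mod]
      simp
    rw [pow_add] at h
    omega


/-- A finite non-solvable group on which its automorphism group has exactly four orbits is isomorphic to the alternating group of degree 5. -/
theorem result {G : Type*} [Group G] [Finite G] (hns : ¬ Group.IsSolvable G)
    (h4 : Nat.card (MulAction.orbitRel.Quotient (MulAut G) G) = 4) : Nonempty (G ≃* alternatingGroup (Fin 5)) := by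
  classical
  obtain ⟨h3, hpr⟩ := prime_orders hns h4
  have hCN := isCNGroup_of_prime_orders hpr
  have heven : Even (Nat.card G) := by
    by_contra hodd
    exact hns (Induced.CNTheorem.isSolvable_of_odd_cn (Nat.not_even_iff_odd.1 hodd) hCN)
  have hab : ∀ t : G, orderOf t = 2 → IsMulCommutative ↥(Subgroup.centralizer ({t} : Set G)) := by
    intro t ht
    have hsq : ∀ y : ↥(Subgroup.centralizer ({t} : Set G)), y * y = 1 := fun y => by
      by_cases hy : (y : G) = 1
      · exact Subtype.ext (by simp [hy])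
      · have ht1 : t ≠ 1 := fun e => by rw [e, orderOf_one] at ht; omega
        have := order_eq_of_commute hpr
          (show Commute t (y : G) from (Subgroup.mem_centralizer_singleton_iff.1 y.2).symm) ht1 hy
        rw [ht] at this
        refine Subtype.ext ?_
        rw [Subgroup.coe_mul, Subgroup.coe_one, ← pow_two, this]
        exact pow_orderOf_eq_one _
    exact ⟨⟨fun a b => by
      have ha : a⁻¹ = a := inv_eq_of_mul_eq_one_right (hsq a)
      have hb : b⁻¹ = b := inv_eq_of_mul_eq_one_right (hsq b)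
      have hab : (a * b)⁻¹ = a * b := inv_eq_of_mul_eq_one_right (hsq _)
      rw [mul_inv_rev, ha, hb] at hab
      exact hab.symm⟩⟩
  rcases Cfsg.Agent.S2202.result heven hab with hcyc | hnorm | hsl
  · exfalso
    obtain ⟨P⟩ := (inferInstance : Nonempty (Sylow 2 G))
    have hmin : (Nat.card G).minFac = 2 := (Nat.minFac_eq_two_iff _).2 (even_iff_two_dvd.1 heven)
    set hle := (hcyc P).normalizer_le_centralizer hmin
    set K := (MonoidHom.transferSylow P hle).ker
    have hK : Odd (Nat.card K) := Nat.not_even_iff_odd.1 fun e =>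
      MonoidHom.not_dvd_card_ker_transferSylow P hle (even_iff_two_dvd.1 e)
    have hKs : Group.IsSolvable K := Induced.CNTheorem.isSolvable_of_odd_cn hK
      (CNGroup.Basic.isCNGroup_subgroup hCN K)
    have := P.2.isNilpotent
    have hPs : Group.IsSolvable (P : Subgroup G) := inferInstance
    exact hns (Group.isSolvable_of_ker_le_range K.subtype (MonoidHom.transferSylow P hle)
      (by rw [Subgroup.range_subtype]))
  · exfalso
    obtain ⟨P⟩ := (inferInstance : Nonempty (Sylow 2 G))
    have hPn : (P : Subgroup G).Normal := hnorm P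
    have hPs : Group.IsSolvable (P : Subgroup G) := have := P.2.isNilpotent; inferInstance
    have hQ : Group.IsSolvable (G ⧸ (P : Subgroup G)) := solvable_of_two_primes (by
      have hsub : (Nat.card (G ⧸ (P : Subgroup G))).primeFactors ⊆ (Nat.card G).primeFactors.erase 2 := by
        intro r hr
        refine Finset.mem_erase.2 ⟨fun e => ?_, ?_⟩
        · have hd := Nat.dvd_of_mem_primeFactors hr
          rw [e] at hd
          exact P.not_dvd_index hd
        exact Nat.mem_primeFactors.2 ⟨Nat.prime_of_mem_primeFactors hr,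
          (Nat.dvd_of_mem_primeFactors hr).trans (Subgroup.index_dvd_card _), Nat.card_pos.ne'⟩
      have h2 : 2 ∈ (Nat.card G).primeFactors :=
        Nat.mem_primeFactors.2 ⟨Nat.prime_two, even_iff_two_dvd.1 heven, Nat.card_pos.ne'⟩
      have := Finset.card_le_card hsub
      rw [Finset.card_erase_of_mem h2] at this
      omega)
    exact hns (Group.isSolvable_of_ker_le_range (P : Subgroup G).subtype (QuotientGroup.mk' (P : Subgroup G))
      (by rw [QuotientGroup.ker_mk', Subgroup.range_subtype]))
  obtain ⟨F, _, _, A, _, _, hchar, hAodd, ⟨e⟩⟩ := hsl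
  have hA : Subsingleton A := by
    by_contra hA
    rw [not_subsingleton_iff_nontrivial] at hA
    obtain ⟨a, ha⟩ := exists_ne (1 : A)
    have hev : 2 ∣ Nat.card (Matrix.SpecialLinearGroup (Fin 2) F) := by
      obtain ⟨k, -, hk⟩ := FiniteField.card F 2
      rw [Linear.card_SL_two, hk]
      exact dvd_mul_of_dvd_left (dvd_mul_of_dvd_left (dvd_pow_self 2 k.pos.ne') _) _
    obtain ⟨s, hs⟩ := exists_prime_orderOf_dvd_card' 2 hev
    have h1 : e.symm (s, 1) ≠ 1 := by
      rw [Ne, MulEquiv.map_eq_one_iff]
      intro h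
      rw [show s = 1 from congrArg Prod.fst h, orderOf_one] at hs; omega
    have h2 : e.symm (1, a) ≠ 1 := by
      rw [Ne, MulEquiv.map_eq_one_iff]
      exact fun h => ha (congrArg Prod.snd h)
    have hc : Commute (e.symm (s, 1)) (e.symm (1, a)) := by
      show _ * _ = _ * _
      rw [← map_mul, ← map_mul]
      simp
    have hoo := order_eq_of_commute hpr hc h1 h2
    rw [MulEquiv.orderOf_eq, MulEquiv.orderOf_eq, Prod.orderOf, Prod.orderOf] at hoo
    simp only [orderOf_one, Nat.lcm_one_right, Nat.lcm_one_left, hs] at hoo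
    obtain ⟨k, hk⟩ := hAodd
    have hd := orderOf_dvd_natCard a
    rw [← hoo] at hd
    omega
  have : Unique A := uniqueOfSubsingleton 1
  let e' : G ≃* Matrix.SpecialLinearGroup (Fin 2) F := e.trans MulEquiv.prodUnique
  have hcard : Nat.card G = Fintype.card F * (Fintype.card F - 1) * (Fintype.card F + 1) := by
    rw [Nat.card_congr e'.toEquiv, Linear.card_SL_two]
  have hordSL : ∀ g : Matrix.SpecialLinearGroup (Fin 2) F, g ≠ 1 → (orderOf g).Prime := fun g hg => by
    have := hpr (e'.symm g) (by simpa using hg)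
    rwa [MulEquiv.orderOf_eq] at this
  obtain ⟨k, -, hk⟩ := FiniteField.card F 2
  obtain ⟨n, hn0, hn⟩ : ∃ n : ℕ, 1 ≤ n ∧ Fintype.card F = 2 ^ n := ⟨k, k.pos, hk⟩
  have hn2 : 2 ≤ n := by
    by_contra hlt
    obtain rfl : n = 1 := by omega
    rw [hn] at hcard
    norm_num at hcard
    exact hns (Induced.Burnside.isSolvable_of_card_eq 2 3 1 1 Nat.prime_two Nat.prime_three (by omega))
  have h4q : 4 ≤ Fintype.card F := hn ▸ (by norm_num : 4 = 2 ^ 2) ▸ Nat.pow_le_pow_right (by norm_num) hn2
  obtain ⟨g, hg⟩ := exists_order_pred F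
  have hr : (Fintype.card F - 1).Prime := hg ▸ hordSL g (fun e => by
    rw [e, orderOf_one] at hg; omega)
  have hq4 : Fintype.card F = 4 := by
    have hev : Fintype.card F % 2 = 0 := by
      rw [hn, Nat.pow_mod]; simp [Nat.zero_pow (show 0 < n by omega)]
    by_contra hne
    have hr3 : ¬ 3 ∣ Fintype.card F - 1 := fun hd => by
      have := (Nat.prime_dvd_prime_iff_eq Nat.prime_three hr).1 hd
      omega
    have hq3 : ¬ 3 ∣ Fintype.card F := fun hd => by
      rw [hn] at hd
      exact absurd (Nat.prime_three.dvd_of_dvd_pow hd) (by norm_num)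
    have hs3 : 3 ∣ Fintype.card F + 1 := by
      rw [Nat.dvd_iff_mod_eq_zero] at hr3 hq3 ⊢
      have : 1 ≤ Fintype.card F := by omega
      obtain ⟨a, ha⟩ : ∃ a, Fintype.card F = a + 1 := ⟨_, (Nat.sub_add_cancel this).symm⟩
      rw [ha] at hr3 hq3 ⊢
      rw [Nat.add_sub_cancel] at hr3
      rcases (show a % 3 = 0 ∨ a % 3 = 1 ∨ a % 3 = 2 by omega) with h | h | h <;> omega
    have hmem : ∀ r, r.Prime → r ∣ Nat.card G → r ∈ (Nat.card G).primeFactors := fun r a b =>
      Nat.mem_primeFactors.2 ⟨a, b, Nat.card_pos.ne'⟩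
    have hS : ({2, Fintype.card F - 1, 3} : Finset ℕ) = (Nat.card G).primeFactors := by
      refine Finset.eq_of_subset_of_card_le ?_ ?_
      · intro r hr'
        simp only [Finset.mem_insert, Finset.mem_singleton] at hr'
        rcases hr' with rfl | rfl | rfl
        · exact hmem 2 Nat.prime_two (even_iff_two_dvd.1 heven)
        · exact hmem _ hr (by rw [hcard]; exact dvd_mul_of_dvd_left (dvd_mul_left _ _) _)
        · exact hmem 3 Nat.prime_three (by rw [hcard]; exact dvd_mul_of_dvd_right hs3 _)
      · rw [h3, Finset.card_insert_of_notMem (by simp; omega), Finset.card_pair]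
        intro h; rw [h] at hr3; exact hr3 dvd_rfl
    have hb : Fintype.card F + 1 = 3 ^ (Fintype.card F + 1).primeFactorsList.length :=
      Nat.eq_prime_pow_of_unique_prime_dvd (by omega) fun {d} hd hdd => by
        have hdm : d ∈ (Nat.card G).primeFactors :=
          hmem d hd (by rw [hcard]; exact dvd_mul_of_dvd_right hdd _)
        rw [← hS, Finset.mem_insert, Finset.mem_insert, Finset.mem_singleton] at hdm
        rcases hdm with rfl | rfl | rfl
        · omega
        · exfalso
          have h2 : Fintype.card F - 1 ∣ 2 := by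
            have := Nat.dvd_sub hdd (dvd_refl (Fintype.card F - 1))
            rwa [show Fintype.card F + 1 - (Fintype.card F - 1) = 2 by omega] at this
          have := Nat.le_of_dvd two_pos h2
          omega
        · rfl
    rw [hn] at hb
    rcases two_pow_succ_eq_three_pow hb with h1 | rfl
    · omega
    have h8 : Fintype.card F = 8 := by rw [hn]; norm_num
    obtain ⟨m, h2, h3', h7⟩ := not_all_prime_eight F h8
    have hm1 : m ≠ 1 := fun e => h2 (by rw [e, one_pow])
    have hp := hordSL m hm1
    have hd : orderOf m ∣ Nat.card G := by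
      rw [Nat.card_congr e'.toEquiv]; exact orderOf_dvd_natCard m
    have := hmem _ hp hd
    rw [← hS, h8, Finset.mem_insert, Finset.mem_insert, Finset.mem_singleton] at this
    rcases this with h | h | h
    · exact h2 (by have := pow_orderOf_eq_one m; rwa [h] at this)
    · exact h7 (by have := pow_orderOf_eq_one m; rwa [h] at this)
    · exact h3' (by have := pow_orderOf_eq_one m; rwa [h] at this)
  have h60 : Nat.card G = 60 := by rw [hcard, hq4]
  have : IsSimpleGroup G := by
    obtain ⟨p⟩ := SuzukiAbelian.nonempty_sl_equiv_psl (F := F)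
    have := Linear.isSimpleGroup_PSL (F := F) le_rfl (fun _ => by rw [Nat.card_eq_fintype_card, hq4])
    exact MulEquiv.isSimpleGroup (e'.trans p)
  have : Fact (Nat.Prime 5) := ⟨by norm_num⟩
  obtain ⟨e1⟩ := SmallGroups.RecogSmall.psl_five (G := G) (F := ZMod 5) h60 (ZMod.card 5)
  obtain ⟨e2⟩ := Linear.SmallIso.nonempty_psl_two_five (F := ZMod 5) (ZMod.card 5)
  exact ⟨e1.trans e2⟩

end Cfsg.Agent.S4068
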