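import Cfsg.Statements.S4071
-- import your own Cfsg.Agent.* helpers here

set_option autoImplicit false
open Cfsg
open scoped commutatorElement

namespace Cfsg.Agent.S4071

variable {G : Type*} [Group G] [Finite G]

omit [Finite G] in
theorem zpowers_inf_eq_bot {x : G} {A : Subgroup G} {p k : ℕ} (hp : p.Prime) (hx : orderOf x = p ^ k)
    (hA : ¬ p ∣ Nat.card A) : Subgroup.zpowers x ⊓ A = ⊥ :=
  Subgroup.inf_eq_bot_of_coprime (by
    rw [Nat.card_zpowers, hx]
    exact Nat.Coprime.pow_left _ (hp.coprime_iff_not_dvd.mpr hA))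

theorem backward {x : G} {A : Subgroup G} {p : ℕ} (hp : p.Prime) (hAn : A.Normal)
    (hAc : IsMulCommutative A) {k : ℕ} (hk : orderOf x = p ^ k) (hpA : ¬ p ∣ Nat.card A)
    (hcomp : (Subgroup.zpowers x).IsComplement' A) (hxp : x ^ p ∈ Subgroup.center G)
    (hfix : ∀ a : G, a ∈ A → a ≠ 1 → x * a * x⁻¹ ≠ a) :
    ∀ H : Subgroup G, ¬ IsMulCommutative H → Subgroup.normalizer (H : Set G) = H := by
  have hcA : ∀ a ∈ A, ∀ b ∈ A, a * b = b * a := fun a ha b hb =>
    congrArg Subtype.val (hAc.is_comm.comm (⟨a, ha⟩ : A) ⟨b, hb⟩)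
  have hdec : ∀ g : G, ∃ i : ℤ, ∃ a ∈ A, g = x ^ i * a := fun g => by
    obtain ⟨⟨⟨_, i, rfl⟩, a⟩, he⟩ := (hcomp.existsUnique g).exists
    exact ⟨i, a, a.2, he.symm⟩
  have hcen : ∀ i : ℤ, (p : ℤ) ∣ i → x ^ i ∈ Subgroup.center G := by
    rintro i ⟨j, rfl⟩
    rw [zpow_mul, zpow_natCast]
    exact Subgroup.zpow_mem _ hxp j
  intro H hH
  -- after conjugation `H` contains `x`
  obtain ⟨h, hhH, i, a, ha, hh, hpi⟩ : ∃ h ∈ H, ∃ i : ℤ, ∃ a ∈ A, h = x ^ i * a ∧ ¬ (p : ℤ) ∣ i := by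
    by_contra hcon
    push Not at hcon
    apply hH
    have hall : ∀ u ∈ H, ∃ z ∈ Subgroup.center G, ∃ a ∈ A, u = z * a := fun u hu => by
      obtain ⟨i, a, ha, rfl⟩ := hdec u
      exact ⟨x ^ i, hcen i (hcon _ hu i a ha rfl), a, ha, rfl⟩
    refine ⟨⟨fun u v => Subtype.ext ?_⟩⟩
    obtain ⟨z, hz, a, ha, hu⟩ := hall u u.2
    obtain ⟨w, hw, b, hb, hv⟩ := hall v v.2
    show (u : G) * v = v * u
    rw [hu, hv]
    have hz' := Subgroup.mem_center_iff.mp hz
    have hw' := Subgroup.mem_center_iff.mp hw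
    calc z * a * (w * b) = z * (a * w) * b := by group
      _ = z * w * (a * b) := by rw [hw' a]; group
      _ = w * z * (b * a) := by rw [hcA a ha b hb, hw' z]
      _ = w * (z * b) * a := by group
      _ = w * b * (z * a) := by rw [← hz' b]; group
  -- the map `c ↦ c⁻¹ x⁻ⁱ c xⁱ` is a bijection of A
  set y := x ^ i with hy
  haveI := Fact.mk hp
  have hfixy : ∀ c ∈ A, y * c * y⁻¹ = c → c = 1 := by
    intro c hc he
    by_contra hc1
    apply hfix c hc hc1
    have hy' : y ∈ Subgroup.centralizer ({c} : Set G) :=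
      Subgroup.mem_centralizer_singleton_iff.mpr (mul_inv_eq_iff_eq_mul.mp he)
    obtain ⟨s, t, hst⟩ := ((Nat.prime_iff_prime_int.mp hp).coprime_iff_not_dvd.mpr hpi).symm
    have hx1 : x = y ^ s * x ^ ((p : ℤ) * t) := by
      rw [hy, ← zpow_mul, ← zpow_add, show i * s + (p : ℤ) * t = 1 by linarith, zpow_one]
    have : x ∈ Subgroup.centralizer ({c} : Set G) := by
      rw [hx1]
      exact mul_mem (Subgroup.zpow_mem _ hy' s)
        (Subgroup.center_le_centralizer _ (hcen _ (dvd_mul_right _ _)))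
    rw [Subgroup.mem_centralizer_singleton_iff] at this
    rw [this, mul_inv_cancel_right]
  let f : A → A := fun c => ⟨(c : G)⁻¹ * (y⁻¹ * c * y),
    A.mul_mem (A.inv_mem c.2) (by simpa using hAn.conj_mem c c.2 y⁻¹)⟩
  have hf : Function.Surjective f := by
    refine Finite.injective_iff_surjective.mp fun c d hcd => ?_
    have h1 : (c : G)⁻¹ * (y⁻¹ * c * y) = (d : G)⁻¹ * (y⁻¹ * d * y) := congrArg Subtype.val hcd
    have h2 : (d : G) * (c : G)⁻¹ = 1 := by
      refine hfixy _ (mul_mem d.2 (inv_mem c.2)) ?_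
      have h3 : y⁻¹ * ((d : G) * (c : G)⁻¹) * y = (d : G) * (c : G)⁻¹ := by
        calc y⁻¹ * ((d : G) * (c : G)⁻¹) * y = y⁻¹ * d * y * (y⁻¹ * c * y)⁻¹ := by group
          _ = d * ((d : G)⁻¹ * (y⁻¹ * d * y)) * ((c : G)⁻¹ * (y⁻¹ * c * y))⁻¹ * (c : G)⁻¹ := by group
          _ = _ := by rw [← h1]; group
      conv_lhs => rw [← h3]
      group
    exact Subtype.ext (mul_inv_eq_one.mp h2).symm
  refine le_antisymm (fun g hg => ?_) Subgroup.le_normalizer
  -- write everything relative to `h`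
  obtain ⟨d, hd⟩ := hf ⟨a, ha⟩
  have hd' : (d : G)⁻¹ * (y⁻¹ * d * y) = a := congrArg Subtype.val hd
  set c := d⁻¹ with hcd
  have hconj : (c : G) * h * (c : G)⁻¹ = y := by
    rw [hh, ← hd', hcd]
    have := hcA (d : G)⁻¹ (A.inv_mem d.2) (y⁻¹ * d * y) (by simpa using hAn.conj_mem d d.2 y⁻¹)
    rw [this, Subgroup.coe_inv]; group
  set H' := H.map (MulAut.conj (c : G)).toMonoidHom with hH'
  have hyH' : y ∈ H' := ⟨h, hhH, by simpa using hconj⟩
  have hxH' : x ∈ H' := by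
    have hcop : (orderOf x).Coprime i.natAbs := by
      rw [hk]
      exact Nat.Coprime.pow_left _ (hp.coprime_iff_not_dvd.mpr fun h => hpi (Int.natCast_dvd.mpr h))
    have hi' : x ^ i.natAbs ∈ H' := by
      rcases Int.natAbs_eq i with he | he
      · rw [← zpow_natCast, ← he]; exact hyH'
      · rw [← zpow_natCast, show ((i.natAbs : ℕ) : ℤ) = -i by omega, zpow_neg]; exact inv_mem hyH'
    obtain ⟨m, hm⟩ := exists_pow_eq_self_of_coprime hcop.symm
    exact hm ▸ Subgroup.pow_mem _ hi' m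
  set g' := (c : G) * g * (c : G)⁻¹ with hg'
  suffices hgH : g' ∈ H' by
    obtain ⟨u, hu, hu'⟩ := hgH
    have hug : u = g := by simpa [hg'] using hu'
    exact hug ▸ hu
  have hgn : ∀ u ∈ H', g' * u * g'⁻¹ ∈ H' := by
    rintro _ ⟨u, hu, rfl⟩
    exact ⟨g * u * g⁻¹, (Subgroup.mem_normalizer_iff.mp hg u).mp hu, by simp [hg', mul_assoc]⟩
  obtain ⟨j, b, hb, hgb⟩ := hdec g'
  rw [hgb]
  refine H'.mul_mem (H'.zpow_mem hxH' j) ?_
  -- `[x, b] ∈ H'`, and `b ↦ [x, b]` is a bijection of `A ⊓ H'`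
  have hbx : x⁻¹ * (b * x * b⁻¹) ∈ H' := by
    refine H'.mul_mem (H'.inv_mem hxH') ?_
    have h1 := hgn x hxH'
    rw [hgb] at h1
    have h2 : b * x * b⁻¹ = x ^ (-j) * (x ^ j * b * x * (x ^ j * b)⁻¹) * x ^ j := by group
    rw [h2]
    exact H'.mul_mem (H'.mul_mem (H'.zpow_mem hxH' _) h1) (H'.zpow_mem hxH' _)
  let B := A ⊓ H'
  let e : B → B := fun d => ⟨x⁻¹ * ((d : G) * x * (d : G)⁻¹),
    by
      rw [show x⁻¹ * ((d : G) * x * (d : G)⁻¹) = x⁻¹ * (d : G) * x * (d : G)⁻¹ by group]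
      exact A.mul_mem (by simpa using hAn.conj_mem d d.2.1 x⁻¹) (A.inv_mem d.2.1),
    H'.mul_mem (H'.inv_mem hxH') (H'.mul_mem (H'.mul_mem d.2.2 hxH') (H'.inv_mem d.2.2))⟩
  have hinj : ∀ u v : G, u ∈ A → v ∈ A → x⁻¹ * (u * x * u⁻¹) = x⁻¹ * (v * x * v⁻¹) → u = v := by
    intro u v hu hv he
    by_contra hne
    refine hfix (v⁻¹ * u) (mul_mem (inv_mem hv) hu) (fun h => hne (inv_mul_eq_one.mp h).symm) ?_
    have h1 := mul_left_cancel he
    calc x * (v⁻¹ * u) * x⁻¹ = v⁻¹ * (v * x * v⁻¹) * u * x⁻¹ := by group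
      _ = v⁻¹ * (u * x * u⁻¹) * u * x⁻¹ := by rw [h1]
      _ = _ := by group
  have hesurj : Function.Surjective e := Finite.injective_iff_surjective.mp fun u v h =>
    Subtype.ext (hinj u v u.2.1 v.2.1 (congrArg Subtype.val h))
  obtain ⟨d, hd⟩ := hesurj ⟨x⁻¹ * (b * x * b⁻¹), by
    rw [show x⁻¹ * (b * x * b⁻¹) = x⁻¹ * b * x * b⁻¹ by group]
    exact A.mul_mem (by simpa using hAn.conj_mem b hb x⁻¹) (A.inv_mem hb), hbx⟩
  have := hinj d b d.2.1 hb (congrArg Subtype.val hd)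
  exact this ▸ d.2.2

theorem forward [Group.IsSolvable G] (hnn : ¬ Group.IsNilpotent G)
    (hs : ∀ H : Subgroup G, ¬ IsMulCommutative H → Subgroup.normalizer (H : Set G) = H) :
    ∃ (x : G) (A : Subgroup G) (p : ℕ), p.Prime ∧ A.Normal ∧ IsMulCommutative A ∧ (∃ k : ℕ, orderOf x = p ^ k) ∧
      ¬ p ∣ Nat.card A ∧ (Subgroup.zpowers x).IsComplement' A ∧ x ^ p ∈ Subgroup.center G ∧
      ∀ a : G, a ∈ A → a ≠ 1 → x * a * x⁻¹ ≠ a := by
  classical
  have hnorm : ∀ H : Subgroup G, H.Normal → H ≠ ⊤ → IsMulCommutative H := fun H hH hne => by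
    by_contra h
    exact hne ((hs H h).symm.trans (Subgroup.normalizer_eq_top_iff.mpr hH))
  haveI : Nontrivial G := by
    rw [← not_subsingleton_iff_nontrivial]
    intro h
    exact hnn inferInstance
  obtain ⟨M, hM, hcM⟩ := (eq_top_or_exists_le_coatom (commutator G)).resolve_left
    (Group.IsSolvable.commutator_lt_top_of_nontrivial G).ne
  haveI hMn : M.Normal := ⟨fun m hm g => by
    have h1 : g * m * g⁻¹ * m⁻¹ ∈ M := hcM (Subgroup.commutator_mem_commutator (Subgroup.mem_top g) (Subgroup.mem_top m))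
    simpa using M.mul_mem h1 hm⟩
  haveI : Nontrivial (G ⧸ M) := QuotientGroup.nontrivial_iff.mpr hM.1
  set p := (Nat.card (G ⧸ M)).minFac
  haveI hp : Fact p.Prime := ⟨Nat.minFac_prime (Finite.one_lt_card (α := G ⧸ M)).ne'⟩
  obtain ⟨y₀, hy₀⟩ := exists_prime_orderOf_dvd_card' p (Nat.minFac_dvd (Nat.card (G ⧸ M)))
  have hidx : M.index = p := by
    have htop : Subgroup.zpowers y₀ = ⊤ := by
      have hlt : M < (Subgroup.zpowers y₀).comap (QuotientGroup.mk' M) := by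
        have hle : M ≤ (Subgroup.zpowers y₀).comap (QuotientGroup.mk' M) := fun m hm => by
          rw [Subgroup.mem_comap, (QuotientGroup.eq_one_iff m).mpr hm |> fun h => (h : QuotientGroup.mk' M m = 1)]
          exact one_mem _
        refine lt_of_le_of_ne hle fun h => ?_
        have h1 := congrArg (Subgroup.map (QuotientGroup.mk' M)) h
        rw [QuotientGroup.map_mk'_self, Subgroup.map_comap_eq_self_of_surjective (QuotientGroup.mk'_surjective M)] at h1
        rw [eq_comm, Subgroup.zpowers_eq_bot] at h1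
        rw [h1, orderOf_one] at hy₀
        exact hp.out.one_lt.ne hy₀
      rw [← Subgroup.map_comap_eq_self_of_surjective (QuotientGroup.mk'_surjective M) (Subgroup.zpowers y₀),
        hM.2 _ hlt, Subgroup.map_top_of_surjective _ (QuotientGroup.mk'_surjective M)]
    rw [Subgroup.index_eq_card, ← hy₀, ← Nat.card_zpowers, htop, Subgroup.card_top]
  have hMc : IsMulCommutative M := hnorm M hMn hM.1
  have hcM' : ∀ a ∈ M, ∀ b ∈ M, a * b = b * a := fun a ha b hb =>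
    congrArg Subtype.val (hMc.is_comm.comm (⟨a, ha⟩ : M) ⟨b, hb⟩)
  -- the p'-elements of M
  let A : Subgroup G :=
    { carrier := {a | a ∈ M ∧ (orderOf a).Coprime p}
      mul_mem' := fun {a b} ha hb => ⟨mul_mem ha.1 hb.1,
        Nat.Coprime.coprime_dvd_left ((show Commute a b from hcM' a ha.1 b hb.1).orderOf_mul_dvd_lcm.trans
          (Nat.lcm_dvd_mul _ _)) (Nat.Coprime.mul_left ha.2 hb.2)⟩
      one_mem' := ⟨one_mem _, by simp⟩
      inv_mem' := fun {a} ha => ⟨inv_mem ha.1, by rw [orderOf_inv]; exact ha.2⟩ }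
  have hAn : A.Normal := ⟨fun a ha g => ⟨hMn.conj_mem a ha.1 g, by
    rw [show g * a * g⁻¹ = MulAut.conj g a from rfl, MulEquiv.orderOf_eq]; exact ha.2⟩⟩
  have hAc : ∀ a ∈ A, ∀ b ∈ A, a * b = b * a := fun a ha b hb => hcM' a ha.1 b hb.1
  have hmemA : ∀ a : G, (orderOf a).Coprime p → a ∈ A := fun a ha => ⟨by
    rw [← QuotientGroup.eq_one_iff, ← orderOf_eq_one_iff]
    refine Nat.eq_one_of_dvd_coprimes ha (orderOf_map_dvd (QuotientGroup.mk' M) a) ?_
    refine orderOf_dvd_natCard _ |>.trans ?_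
    rw [← Subgroup.index_eq_card, hidx], ha⟩
  have hpA : ¬ p ∣ Nat.card A := fun h => by
    obtain ⟨a, ha⟩ := exists_prime_orderOf_dvd_card' p h
    have h1 := a.2.2
    rw [← Subgroup.orderOf_coe] at ha
    rw [ha, Nat.coprime_self] at h1
    exact hp.out.one_lt.ne' h1
  -- the p-part of an element outside M
  obtain ⟨y, hy⟩ : ∃ y, y ∉ M := by
    by_contra h
    push Not at h
    exact hM.1 (eq_top_iff.mpr fun y _ => h y)
  obtain ⟨x, b, hxy, ⟨k, hk⟩, hb⟩ : ∃ x b : G, x * b = y ∧ (∃ k, orderOf x = p ^ k) ∧ (orderOf b).Coprime p := by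
    set n := orderOf y
    have hn : n ≠ 0 := (orderOf_pos y).ne'
    obtain ⟨e, m, hm, hnm⟩ := Nat.exists_eq_pow_mul_and_not_dvd hn p hp.out.one_lt.ne'
    obtain ⟨s, t, hst⟩ : IsCoprime ((m : ℤ)) ((p ^ e : ℕ) : ℤ) := by
      rw [Nat.isCoprime_iff_coprime]
      exact Nat.Coprime.pow_right _ ((hp.out.coprime_iff_not_dvd.mpr hm).symm)
    refine ⟨y ^ (s * m), y ^ (t * (p ^ e : ℕ)), by rw [← zpow_add, hst, zpow_one], ?_, ?_⟩
    · have h1 : (y ^ (s * m)) ^ (p ^ e) = 1 := by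
        rw [← zpow_natCast, ← zpow_mul, mul_assoc, ← Nat.cast_mul, Nat.mul_comm, ← hnm, mul_comm,
          zpow_mul, zpow_natCast, pow_orderOf_eq_one, one_zpow]
      obtain ⟨k, -, hk⟩ := (Nat.dvd_prime_pow hp.out).mp (orderOf_dvd_of_pow_eq_one h1)
      exact ⟨k, hk⟩
    · have h1 : (y ^ (t * (p ^ e : ℕ))) ^ m = 1 := by
        rw [← zpow_natCast, ← zpow_mul, mul_assoc, ← Nat.cast_mul, ← hnm, mul_comm,
          zpow_mul, zpow_natCast, pow_orderOf_eq_one, one_zpow]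
      exact Nat.Coprime.coprime_dvd_left (orderOf_dvd_of_pow_eq_one h1) (hp.out.coprime_iff_not_dvd.mpr hm).symm
  have hxM : x ∉ M := fun h => hy (hxy ▸ mul_mem h (hmemA b hb).1)
  have hgen : ∀ g : G, ∃ i : ℤ, ∃ m ∈ M, g = x ^ i * m := by
    intro g
    haveI : Fact (Nat.card (G ⧸ M)).Prime := ⟨by rw [← Subgroup.index_eq_card, hidx]; exact hp.out⟩
    have h1 : Subgroup.zpowers (x : G ⧸ M) = ⊤ :=
      (Subgroup.eq_bot_or_eq_top_of_prime_card _).resolve_left fun h => by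
        rw [Subgroup.zpowers_eq_bot, QuotientGroup.eq_one_iff] at h
        exact hxM h
    obtain ⟨i, hi⟩ := Subgroup.mem_zpowers_iff.mp (h1 ▸ Subgroup.mem_top (g : G ⧸ M))
    rw [← QuotientGroup.mk_zpow, QuotientGroup.eq] at hi
    exact ⟨i, _, hi, by group⟩
  have hxpM : x ^ p ∈ M := by
    have := M.pow_index_mem x
    rwa [hidx] at this
  have hxp : x ^ p ∈ Subgroup.center G := by
    rw [Subgroup.mem_center_iff]
    intro g
    obtain ⟨i, m, hm, rfl⟩ := hgen g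
    exact ((((Commute.refl x).pow_right p).zpow_left i).mul_left (hcM' m hm _ hxpM)).eq
  -- if x centralizes A then G is nilpotent
  have hxA : ∃ a ∈ A, x * a * x⁻¹ ≠ a := by
    by_contra hcon
    push Not at hcon
    apply hnn
    have hAcen : A ≤ Subgroup.center G := fun a ha => Subgroup.mem_center_iff.mpr fun g => by
      obtain ⟨i, m, hm, rfl⟩ := hgen g
      exact (((show Commute x a from mul_inv_eq_iff_eq_mul.mp (hcon a ha)).zpow_left i).mul_left
        (hcM' m hm a ha.1)).eq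
    haveI := hAn
    have hpQ : IsPGroup p (G ⧸ A) := by
      intro q
      induction q using QuotientGroup.induction_on with
      | H g =>
        obtain ⟨e, m, hm, hnm⟩ := Nat.exists_eq_pow_mul_and_not_dvd (orderOf_pos g).ne' p hp.out.one_lt.ne'
        refine ⟨e, ?_⟩
        rw [← QuotientGroup.mk_pow, QuotientGroup.eq_one_iff]
        refine hmemA _ (Nat.Coprime.coprime_dvd_left (orderOf_dvd_of_pow_eq_one (n := m) ?_)
          (hp.out.coprime_iff_not_dvd.mpr hm).symm)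
        rw [← pow_mul, ← hnm, pow_orderOf_eq_one]
    haveI : Group.IsNilpotent (G ⧸ A) := hpQ.isNilpotent
    exact Subgroup.isNilpotent_of_ker_le_center (QuotientGroup.mk' A) (by rwa [QuotientGroup.ker_mk'])
  -- the commutator map on A
  let φ : A →* A :=
    MonoidHom.mk' (fun a => ⟨x * (a : G) * x⁻¹ * (a : G)⁻¹, mul_mem (hAn.conj_mem _ a.2 x) (inv_mem a.2)⟩)
      fun a b => Subtype.ext (by
        show x * ((a : G) * b) * x⁻¹ * ((a : G) * b)⁻¹ =
          x * (a : G) * x⁻¹ * (a : G)⁻¹ * (x * (b : G) * x⁻¹ * (b : G)⁻¹)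
        have h1 := hAc _ (mul_mem (hAn.conj_mem _ b.2 x) (inv_mem b.2)) (a : G)⁻¹ (inv_mem a.2)
        calc x * ((a : G) * b) * x⁻¹ * ((a : G) * b)⁻¹
            = x * (a : G) * x⁻¹ * ((x * (b : G) * x⁻¹ * (b : G)⁻¹) * (a : G)⁻¹) := by group
          _ = _ := by rw [h1]; group)
  set K := φ.range.map A.subtype with hK
  have hKA : K ≤ A := Subgroup.map_subtype_le _
  have hKx : ∀ a ∈ A, x * a * x⁻¹ * a⁻¹ ∈ K := fun a ha => ⟨φ ⟨a, ha⟩, ⟨_, rfl⟩, rfl⟩
  have hKn : K.Normal := by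
    refine ⟨fun u hu g => ?_⟩
    obtain ⟨i, m, hm, rfl⟩ := hgen g
    have h1 : m * u * m⁻¹ = u := by rw [hcM' m hm u (hKA hu).1, mul_inv_cancel_right]
    rw [show x ^ i * m * u * (x ^ i * m)⁻¹ = x ^ i * (m * u * m⁻¹) * (x ^ i)⁻¹ by group, h1]
    obtain ⟨_, ⟨a, rfl⟩, rfl⟩ := hu
    refine ⟨φ ⟨x ^ i * (a : G) * (x ^ i)⁻¹, hAn.conj_mem _ a.2 _⟩, ⟨_, rfl⟩, ?_⟩
    show x * (x ^ i * (a : G) * (x ^ i)⁻¹) * x⁻¹ * (x ^ i * (a : G) * (x ^ i)⁻¹)⁻¹ =
      x ^ i * (x * (a : G) * x⁻¹ * (a : G)⁻¹) * (x ^ i)⁻¹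
    group
  haveI := hKn
  set H := Subgroup.zpowers x ⊔ K with hH
  have hxH : x ∈ H := Subgroup.mem_sup_left (Subgroup.mem_zpowers x)
  have hHn : (H ⊔ M = ⊤) ∧ H.Normal → H = ⊤ := by
    rintro ⟨-, h⟩
    by_contra hne
    have hc := hnorm H h hne
    -- then x centralizes K, so φ² = 1, so φ = 1
    obtain ⟨a, ha, hne'⟩ := hxA
    apply hne'
    set k₀ := x * a * x⁻¹ * a⁻¹ with hk₀
    have hk0A : k₀ ∈ A := hKA (hKx a ha)
    have hfixk : x * k₀ = k₀ * x :=
      congrArg Subtype.val (hc.is_comm.comm (⟨x, hxH⟩ : H) ⟨k₀, Subgroup.mem_sup_right (hKx a ha)⟩)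
    have hit : ∀ n : ℕ, x ^ n * a * (x ^ n)⁻¹ = k₀ ^ n * a := by
      intro n
      induction n with
      | zero => simp
      | succ n ih =>
        rw [pow_succ' x]
        calc x * x ^ n * a * (x * x ^ n)⁻¹ = x * (x ^ n * a * (x ^ n)⁻¹) * x⁻¹ := by group
          _ = x * k₀ ^ n * x⁻¹ * (x * a * x⁻¹) := by rw [ih]; group
          _ = k₀ ^ n * (x * a * x⁻¹) := by
              rw [((show Commute x k₀ from hfixk).pow_right n).eq, mul_inv_cancel_right]
          _ = _ := by rw [pow_succ, hk₀]; group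
    have h1 := hit (orderOf x)
    rw [pow_orderOf_eq_one, inv_one, one_mul, mul_one] at h1
    have h2 : k₀ ^ (p ^ k) = 1 := by rw [← hk]; simpa using h1.symm
    have h3 : orderOf k₀ = 1 := Nat.Coprime.eq_one_of_dvd
      (Nat.Coprime.pow_right k hk0A.2) (orderOf_dvd_of_pow_eq_one h2)
    rw [orderOf_eq_one_iff, hk₀] at h3
    exact mul_inv_eq_one.mp h3
  -- `G = ⟨x⟩ A`
  haveI := hAn
  have hpQ : IsPGroup p (G ⧸ A) := by
    intro q
    induction q using QuotientGroup.induction_on with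
    | H g =>
      obtain ⟨e, m, hm, hnm⟩ := Nat.exists_eq_pow_mul_and_not_dvd (orderOf_pos g).ne' p hp.out.one_lt.ne'
      refine ⟨e, ?_⟩
      rw [← QuotientGroup.mk_pow, QuotientGroup.eq_one_iff]
      refine hmemA _ (Nat.Coprime.coprime_dvd_left (orderOf_dvd_of_pow_eq_one (n := m) ?_)
        (hp.out.coprime_iff_not_dvd.mpr hm).symm)
      rw [← pow_mul, ← hnm, pow_orderOf_eq_one]
  have hS : Subgroup.zpowers x ⊔ A = ⊤ := by
    by_contra hne
    obtain ⟨N, hN, hle⟩ := (eq_top_or_exists_le_coatom _).resolve_left hne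
    haveI : Group.IsNilpotent (G ⧸ A) := hpQ.isNilpotent
    have hAN : A ≤ N := le_sup_right.trans hle
    have hcomap : (N.map (QuotientGroup.mk' A)).comap (QuotientGroup.mk' A) = N := by
      rw [QuotientGroup.comap_map_mk', sup_eq_right.mpr hAN]
    have hco : IsCoatom (N.map (QuotientGroup.mk' A)) := by
      refine ⟨fun h => hN.1 (by rw [← hcomap, h, Subgroup.comap_top]), fun B hB => ?_⟩
      have h1 : N < B.comap (QuotientGroup.mk' A) := by
        rw [← hcomap]; exact (Subgroup.comap_lt_comap_of_surjective (QuotientGroup.mk'_surjective A)).mpr hB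
      rw [← Subgroup.map_comap_eq_self_of_surjective (QuotientGroup.mk'_surjective A) B, hN.2 _ h1,
        Subgroup.map_top_of_surjective _ (QuotientGroup.mk'_surjective A)]
    have hNn : N.Normal := by
      haveI := Subgroup.NormalizerCondition.normal_of_coatom _
        Group.normalizerCondition_of_isNilpotent hco
      rw [← hcomap]; infer_instance
    have hc := hnorm N hNn hN.1
    obtain ⟨a, ha, hne'⟩ := hxA
    apply hne'
    have := congrArg Subtype.val (hc.is_comm.comm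
      (⟨x, hle (Subgroup.mem_sup_left (Subgroup.mem_zpowers x))⟩ : N) ⟨a, hAN ha⟩)
    exact mul_inv_eq_iff_eq_mul.mpr this
  have hgenA : ∀ g : G, ∃ i : ℤ, ∃ a ∈ A, g = x ^ i * a := by
    intro g
    obtain ⟨u, ⟨i, rfl⟩, a, ha, rfl⟩ := Subgroup.mem_sup_of_normal_right.mp (hS.symm ▸ Subgroup.mem_top g)
    exact ⟨i, a, ha, rfl⟩
  have hHnormal : H.Normal := by
    refine ⟨fun u hu g => ?_⟩
    have key : g * x * g⁻¹ ∈ H := by
      obtain ⟨i, a, ha, rfl⟩ := hgenA g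
      rw [show x ^ i * a * x * (x ^ i * a)⁻¹ =
        x ^ i * ((x * a * x⁻¹ * a⁻¹)⁻¹ * x) * (x ^ i)⁻¹ by group]
      exact H.mul_mem (H.mul_mem (H.zpow_mem hxH i)
        (H.mul_mem (H.inv_mem (Subgroup.mem_sup_right (hKx a ha))) hxH)) (H.inv_mem (H.zpow_mem hxH i))
    obtain ⟨v, ⟨i, rfl⟩, w, hw, rfl⟩ := Subgroup.mem_sup_of_normal_right.mp hu
    rw [show g * (x ^ i * w) * g⁻¹ = (g * x * g⁻¹) ^ i * (g * w * g⁻¹) by rw [conj_zpow]; group]
    exact H.mul_mem (H.zpow_mem key i) (Subgroup.mem_sup_right (hKn.conj_mem w hw g))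
  have hdis : Subgroup.zpowers x ⊓ A = ⊥ := zpowers_inf_eq_bot hp.out hk hpA
  have hHtop : H = ⊤ := hHn ⟨eq_top_iff.mpr fun g _ => by
    obtain ⟨i, m, hm, rfl⟩ := hgen g
    exact Subgroup.mul_mem _ (Subgroup.mem_sup_left (H.zpow_mem hxH i)) (Subgroup.mem_sup_right hm), hHnormal⟩
  have hsurj : Function.Surjective φ := by
    intro a
    obtain ⟨v, hv, w, hw, he⟩ := Subgroup.mem_sup_of_normal_right.mp
      (hHtop.symm ▸ Subgroup.mem_top (a : G))
    have hv1 : v = 1 := Subgroup.mem_bot.mp (hdis ▸ ⟨hv, by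
      rw [eq_mul_inv_of_mul_eq he]; exact A.mul_mem a.2 (A.inv_mem (hKA hw))⟩)
    obtain ⟨z, ⟨b, rfl⟩, hz⟩ := hw
    refine ⟨b, Subtype.ext ?_⟩
    rw [← he, hv1, one_mul]
    exact hz
  refine ⟨x, A, p, hp.out, hAn, ⟨⟨fun a b => Subtype.ext (hAc a a.2 b b.2)⟩⟩, ⟨k, hk⟩, hpA,
    Subgroup.isComplement'_of_disjoint_and_mul_eq_univ (disjoint_iff.mpr hdis) ?_, hxp, fun a ha ha1 he => ha1 ?_⟩
  · rw [← Subgroup.mul_normal, hS, Subgroup.coe_top]
  · have h1 : φ ⟨a, ha⟩ = 1 := Subtype.ext (show x * a * x⁻¹ * a⁻¹ = 1 by rw [he, mul_inv_cancel])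
    exact congrArg Subtype.val ((injective_iff_map_eq_one φ).mp (Finite.injective_iff_surjective.mpr hsurj) _ h1)

/-- Let G be a finite solvable non-nilpotent group. Every non-abelian subgroup of G is self-normalizing if and only if G is a semidirect product ⟨x⟩ ⋉ A in which ⟨x⟩ is a p-group for some prime p, A is a normal abelian subgroup of order prime to p, x^p is central in G, and x acts fixed-point-freely on A (no non-identity element of A commutes with x). -/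
theorem result {G : Type*} [Group G] [Finite G]
    [Group.IsSolvable G] (hnn : ¬ Group.IsNilpotent G) :
    (∀ H : Subgroup G, ¬ IsMulCommutative H → Subgroup.normalizer (H : Set G) = H) ↔
    ∃ (x : G) (A : Subgroup G) (p : ℕ), p.Prime ∧ A.Normal ∧ IsMulCommutative A ∧ (∃ k : ℕ, orderOf x = p ^ k) ∧
      ¬ p ∣ Nat.card A ∧ (Subgroup.zpowers x).IsComplement' A ∧ x ^ p ∈ Subgroup.center G ∧
      ∀ a : G, a ∈ A → a ≠ 1 → x * a * x⁻¹ ≠ a := by
  refine ⟨forward hnn, ?_⟩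
  rintro ⟨x, A, p, hp, hAn, hAc, ⟨k, hk⟩, hpA, hcomp, hxp, hfix⟩
  exact backward hp hAn hAc hk hpA hcomp hxp hfix

end Cfsg.Agent.S4071
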