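import Cfsg.Statements.S4072
import Cfsg.Agent.Lib.Multiplier.Sylow
import Cfsg.Agent.Lib.PGroups.Frattini
import Mathlib.GroupTheory.SpecificGroups.ZGroup
import Mathlib.GroupTheory.Transfer

set_option autoImplicit false
open Cfsg

namespace Cfsg.Agent.S4072

open scoped commutatorElement

/-- In a `p`-group, a proper subgroup is properly contained in its normalizer, seen in `G`. -/
theorem lt_normalizer_of_lt {G : Type*} [Group G] [Finite G] {p : ℕ} [Fact p.Prime] {H S : Subgroup G}
    (hS : IsPGroup p S) (hlt : H < S) : Subgroup.normalizer (H : Set G) ≠ H := by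
  intro he
  haveI := hS.isNilpotent
  have h1 : H.subgroupOf S < ⊤ := lt_top_iff_ne_top.2 fun h => hlt.not_ge
    (Subgroup.subgroupOf_eq_top.1 h)
  have h2 := Group.normalizerCondition_of_isNilpotent (G := S) _ h1
  obtain ⟨x, hx, hxH⟩ := SetLike.exists_of_lt h2
  apply hxH
  rw [Subgroup.mem_subgroupOf, ← he, Subgroup.mem_normalizer_iff]
  intro z
  have hx' := Subgroup.mem_normalizer_iff.1 hx
  constructor
  · intro hz
    exact (hx' ⟨z, hlt.le hz⟩).1 hz
  · intro hz
    have hzS : z ∈ S := by
      have := S.mul_mem (S.mul_mem (S.inv_mem x.2) (hlt.le hz)) x.2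
      simpa [mul_assoc] using this
    exact (hx' ⟨z, hzS⟩).2 hz

/-- A minimal non-abelian `p`-group has derived subgroup generated by a single central element of
order `p`. -/
theorem derived_of_minimal_nonabelian {S : Type*} [Group S] [Finite S] {p : ℕ} [Fact p.Prime]
    (hp : IsPGroup p S) (hna : ¬ IsMulCommutative S)
    (hab : ∀ H : Subgroup S, H ≠ ⊤ → ∀ a ∈ H, ∀ b ∈ H, a * b = b * a) :
    ∃ c : S, c ^ p = 1 ∧ commutator S ≤ Subgroup.zpowers c := by
  obtain ⟨x, y, hxy⟩ : ∃ x y : S, x * y ≠ y * x := by
    by_contra h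
    exact hna ⟨⟨fun a b => by_contra fun hne => h ⟨a, b, hne⟩⟩⟩
  have hgen : ∀ H : Subgroup S, x ∈ H → y ∈ H → H = ⊤ := fun H hx hy =>
    by_contra fun hne => hxy (hab H hne x hx y hy)
  have hzx : Subgroup.zpowers x ≠ ⊤ := by
    intro h
    obtain ⟨i, hi⟩ := Subgroup.mem_zpowers_iff.1 (h.symm ▸ Subgroup.mem_top y : y ∈ Subgroup.zpowers x)
    exact hxy (by rw [← hi]; exact (Commute.self_zpow x i).eq)
  have hzy : Subgroup.zpowers y ≠ ⊤ := by
    intro h
    obtain ⟨i, hi⟩ := Subgroup.mem_zpowers_iff.1 (h.symm ▸ Subgroup.mem_top x : x ∈ Subgroup.zpowers y)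
    exact hxy (by rw [← hi]; exact (Commute.zpow_self y i).eq)
  obtain ⟨A, hA, hxA⟩ := (IsCoatomic.eq_top_or_exists_le_coatom (Subgroup.zpowers x)).resolve_left hzx
  obtain ⟨B, hB, hyB⟩ := (IsCoatomic.eq_top_or_exists_le_coatom (Subgroup.zpowers y)).resolve_left hzy
  have hxA' : x ∈ A := hxA (Subgroup.mem_zpowers x)
  have hyB' : y ∈ B := hyB (Subgroup.mem_zpowers y)
  have hcen : frattini S ≤ Subgroup.center S := by
    intro z hz
    have hzA : z ∈ A := frattini_le_coatom hA hz
    have hzB : z ∈ B := frattini_le_coatom hB hz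
    have hC : Subgroup.centralizer {z} = ⊤ := hgen _
      (Subgroup.mem_centralizer_singleton_iff.2 (hab A hA.1 x hxA' z hzA))
      (Subgroup.mem_centralizer_singleton_iff.2 (hab B hB.1 y hyB' z hzB))
    exact Subgroup.mem_center_iff.2 fun g =>
      Subgroup.mem_centralizer_singleton_iff.1 (hC.symm ▸ Subgroup.mem_top g)
  set c := ⁅x, y⁆ with hc
  have hcz : c ∈ Subgroup.center S :=
    hcen (Cfsg.Agent.Lib.PGroups.commutatorElement_mem_frattini hp x y)
  have hcg := Subgroup.mem_center_iff.1 hcz
  refine ⟨c, ?_, ?_⟩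
  · have key : ∀ n : ℕ, x ^ n * y * (x ^ n)⁻¹ = c ^ n * y := by
      intro n
      induction n with
      | zero => simp
      | succ n ih =>
        rw [pow_succ' x n, show x * x ^ n * y * (x * x ^ n)⁻¹ = x * (x ^ n * y * (x ^ n)⁻¹) * x⁻¹
          by group, ih]
        calc x * (c ^ n * y) * x⁻¹ = (x * c ^ n) * y * x⁻¹ := by group
          _ = c ^ n * (x * y * x⁻¹ * y⁻¹) * y := by
              rw [Subgroup.mem_center_iff.1 (pow_mem hcz n) x]; group
          _ = c ^ (n + 1) * y := by rw [← commutatorElement_def, ← hc, ← pow_succ]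
    have h1 := key p
    rw [← Subgroup.mem_center_iff.1 (hcen (Cfsg.Agent.Lib.PGroups.pow_mem_frattini hp x)) y,
      mul_inv_cancel_right] at h1
    exact mul_eq_right.1 h1.symm
  · haveI : (Subgroup.zpowers c).Normal := ⟨fun z hz g => by
      rw [Subgroup.mem_center_iff.1 ((Subgroup.zpowers_le.2 hcz) hz) g, mul_inv_cancel_right]
      exact hz⟩
    let C := (Subgroup.centralizer {(QuotientGroup.mk x : S ⧸ Subgroup.zpowers c)}).comap
        (QuotientGroup.mk' (Subgroup.zpowers c)) ⊓
      (Subgroup.centralizer {(QuotientGroup.mk y : S ⧸ Subgroup.zpowers c)}).comap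
        (QuotientGroup.mk' (Subgroup.zpowers c))
    have hcomm : (QuotientGroup.mk x : S ⧸ Subgroup.zpowers c) * QuotientGroup.mk y
        = QuotientGroup.mk y * QuotientGroup.mk x := by
      apply commutatorElement_eq_one_iff_mul_comm.1
      exact (QuotientGroup.eq_one_iff c).2 (Subgroup.mem_zpowers c)
    have hC : C = ⊤ := hgen C
      ⟨Subgroup.mem_centralizer_singleton_iff.2 rfl, Subgroup.mem_centralizer_singleton_iff.2 hcomm⟩
      ⟨Subgroup.mem_centralizer_singleton_iff.2 hcomm.symm, Subgroup.mem_centralizer_singleton_iff.2 rfl⟩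
    rw [_root_.commutator_def, Subgroup.commutator_le]
    intro a _ b _
    have hb : (QuotientGroup.mk' (Subgroup.zpowers c)) b ∈ Subgroup.center _ := by
      rw [Subgroup.mem_center_iff]
      intro g
      obtain ⟨g, rfl⟩ := QuotientGroup.mk'_surjective (Subgroup.zpowers c) g
      have hE : (Subgroup.centralizer {QuotientGroup.mk' (Subgroup.zpowers c) b}).comap
          (QuotientGroup.mk' (Subgroup.zpowers c)) = ⊤ := by
        refine hgen _ ?_ ?_
        · exact Subgroup.mem_centralizer_singleton_iff.2
            (Subgroup.mem_centralizer_singleton_iff.1 (hC.symm ▸ Subgroup.mem_top b : b ∈ C).1).symm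
        · exact Subgroup.mem_centralizer_singleton_iff.2
            (Subgroup.mem_centralizer_singleton_iff.1 (hC.symm ▸ Subgroup.mem_top b : b ∈ C).2).symm
      exact Subgroup.mem_centralizer_singleton_iff.1
        (Subgroup.mem_comap.1 (hE.symm ▸ Subgroup.mem_top g))
    refine (QuotientGroup.eq_one_iff _).1 ?_
    show QuotientGroup.mk' (Subgroup.zpowers c) ⁅a, b⁆ = 1
    rw [map_commutatorElement]
    exact commutatorElement_eq_one_iff_mul_comm.2 (Subgroup.mem_center_iff.1 hb _)

/-- A group whose non-abelian subgroups are self-normalising and which is perfect has no proper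
nontrivial normal subgroup. -/
theorem no_normal {G : Type*} [Group G] [Finite G]
    (hS : ∀ H : Subgroup G, ¬ IsMulCommutative H → Subgroup.normalizer (H : Set G) = H)
    (hperf : commutator G = ⊤) (N : Subgroup G) (hN : N.Normal) (hne : N ≠ ⊥) (hnt : N ≠ ⊤)
    (hmax : ∀ M : Subgroup G, M.Normal → N ≤ M → M ≠ ⊤ → M = N) : False := by
  classical
  have hab : ∀ M : Subgroup G, M.Normal → M ≠ ⊤ → IsMulCommutative M := by
    intro M hM hMt
    by_contra h
    exact hMt ((hS M h).symm.trans (Subgroup.normalizer_eq_top_iff.2 hM))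
  have habN := hab N hN hnt
  have hNC : N ≤ Subgroup.centralizer (N : Set G) := fun a ha =>
    Subgroup.mem_centralizer_iff.2 fun b hb => congrArg Subtype.val
      (habN.is_comm.comm (⟨b, hb⟩ : N) ⟨a, ha⟩)
  by_cases hC : Subgroup.centralizer (N : Set G) = ⊤
  · -- central case
    have hcen : N ≤ Subgroup.center G := fun a ha => Subgroup.mem_center_iff.2 fun g =>
      (Subgroup.mem_centralizer_iff.1 (hC.symm ▸ Subgroup.mem_top g) a ha).symm
    obtain ⟨p, hp, hdvd⟩ := Nat.exists_prime_and_dvd
      (n := Nat.card N) (fun h => hne (Subgroup.card_eq_one.1 h))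
    haveI : Fact p.Prime := ⟨hp⟩
    obtain ⟨z', hz'⟩ := exists_prime_orderOf_dvd_card' p hdvd
    set z := (z' : G) with hz
    have hzc : z ∈ Subgroup.center G := hcen z'.2
    have hzo : orderOf z = p := by rw [hz, Subgroup.orderOf_coe, hz']
    obtain ⟨S⟩ : Nonempty (Sylow p G) := inferInstance
    have hzS : z ∈ S := Cfsg.Agent.Lib.Multiplier.central_pElement_mem_sylow S z hzc (k := 1)
      (by rw [pow_one, ← hzo, pow_orderOf_eq_one])
    have hzS' := Cfsg.Agent.Lib.Multiplier.mem_commutator_sylow S z hzc
      (hperf.symm ▸ Subgroup.mem_top z) hzS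
    have hSna : ¬ IsMulCommutative (S : Subgroup G) := by
      intro h
      have : z = 1 := by
        rw [Subgroup.commutator_eq_bot_iff_le_centralizer.2 (fun a ha =>
          Subgroup.mem_centralizer_iff.2 fun b hb => congrArg Subtype.val
            (h.is_comm.comm (⟨b, hb⟩ : (S : Subgroup G)) ⟨a, ha⟩))] at hzS'
        exact Subgroup.mem_bot.1 hzS'
      rw [this, orderOf_one] at hzo
      exact hp.ne_one hzo.symm
    have hminab : ∀ H : Subgroup (S : Subgroup G), H ≠ ⊤ → ∀ a ∈ H, ∀ b ∈ H, a * b = b * a := by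
      intro H hH a ha b hb
      have hab' : IsMulCommutative (H.map (S : Subgroup G).subtype) := by
        by_contra hna
        refine lt_normalizer_of_lt S.isPGroup' (lt_of_le_of_ne (Subgroup.map_subtype_le H) ?_)
          (hS _ hna)
        intro h
        apply hH
        apply Subgroup.map_injective (S : Subgroup G).subtype_injective
        rw [h, ← MonoidHom.range_eq_map, Subgroup.range_subtype]
      have := congrArg Subtype.val (hab'.is_comm.comm
        (⟨_, Subgroup.mem_map_of_mem _ ha⟩ : H.map (S : Subgroup G).subtype)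
        ⟨_, Subgroup.mem_map_of_mem _ hb⟩)
      exact Subtype.ext this
    obtain ⟨c, hc, hcS⟩ := derived_of_minimal_nonabelian S.isPGroup' hSna hminab
    have hzc' : z ∈ Subgroup.zpowers (c : G) := by
      rw [← Subgroup.map_subtype_commutator] at hzS'
      obtain ⟨w, hw, hwz⟩ := hzS'
      obtain ⟨i, hi⟩ := hcS hw
      exact ⟨i, by rw [← hwz, ← hi]; rfl⟩
    have hzeq : Subgroup.zpowers (c : G) = Subgroup.zpowers z := by
      refine (Subgroup.eq_of_le_of_card_ge (Subgroup.zpowers_le.2 hzc') ?_).symm
      rw [Nat.card_zpowers, Nat.card_zpowers, hzo]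
      exact Nat.le_of_dvd hp.pos (orderOf_dvd_of_pow_eq_one
        (by simpa using congrArg Subtype.val hc))
    -- factor out `z`
    let Z := Subgroup.zpowers z
    haveI : Z.Normal := ⟨fun a ha g => by
      rw [Subgroup.mem_center_iff.1 ((Subgroup.zpowers_le.2 hzc) ha) g, mul_inv_cancel_right]
      exact ha⟩
    let f := QuotientGroup.mk' Z
    have hf : Function.Surjective f := QuotientGroup.mk'_surjective Z
    let T := S.mapSurjective hf
    have hcomap : ((S : Subgroup G).map f).comap f = (S : Subgroup G) := by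
      rw [Subgroup.comap_map_eq, QuotientGroup.ker_mk', sup_eq_left]
      exact Subgroup.zpowers_le.2 hzS
    have hNS : Subgroup.normalizer (T : Set (G ⧸ Z)) ≤
        Subgroup.centralizer ((T : Subgroup (G ⧸ Z)) : Set (G ⧸ Z)) := by
      intro g hg
      obtain ⟨g, rfl⟩ := hf g
      have h1 : g ∈ Subgroup.normalizer ((((S : Subgroup G).map f).comap f : Subgroup G) : Set G) := by
        rw [← Subgroup.comap_normalizer_eq_of_le_range (by
          rw [MonoidHom.range_eq_top.2 hf]; exact le_top)]
        exact hg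
      rw [hcomap, hS _ hSna] at h1
      rw [Subgroup.mem_centralizer_iff]
      rintro _ ⟨s, hs, rfl⟩
      rw [← map_mul, ← map_mul]
      apply (QuotientGroup.eq).2
      show (s * g)⁻¹ * (g * s) ∈ Subgroup.zpowers z
      rw [← hzeq]
      obtain ⟨i, hi⟩ := hcS (Subgroup.commutator_mem_commutator
        (Subgroup.mem_top (⟨g⁻¹, inv_mem h1⟩ : (S : Subgroup G)))
        (Subgroup.mem_top (⟨s⁻¹, inv_mem hs⟩ : (S : Subgroup G))))
      refine ⟨i, (congrArg Subtype.val hi).trans ?_⟩
      show g⁻¹ * s⁻¹ * g⁻¹⁻¹ * s⁻¹⁻¹ = (s * g)⁻¹ * (g * s)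
      group
    have hcompl := MonoidHom.ker_transferSylow_isComplement' T hNS
    have hker : (MonoidHom.transferSylow T hNS).ker = ⊤ := by
      have h1 : commutator (G ⧸ Z) = ⊤ := by
        rw [_root_.commutator_def, ← Subgroup.map_top_of_surjective f hf, ← Subgroup.map_commutator,
          ← _root_.commutator_def, hperf]
      rw [eq_top_iff, ← h1, _root_.commutator_def, Subgroup.commutator_le]
      intro a _ b _
      rw [MonoidHom.mem_ker, map_commutatorElement, commutatorElement_eq_one_iff_mul_comm]
      have hb := ((MonoidHom.transferSylow T hNS) b).2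
      exact Subtype.ext (Subgroup.mem_centralizer_iff.1
        (hNS (Subgroup.le_normalizer hb)) _ ((MonoidHom.transferSylow T hNS) a).2)
    rw [hker, Subgroup.isComplement'_top_left] at hcompl
    have hSZ : (S : Subgroup G) ≤ Z := by
      intro s hs
      have : f s ∈ (S : Subgroup G).map f := ⟨s, hs, rfl⟩
      rw [show (S : Subgroup G).map f = ⊥ from hcompl] at this
      exact (QuotientGroup.eq_one_iff s).1 this
    exact hSna ⟨⟨fun a b => Subtype.ext (Subgroup.mem_center_iff.1
      ((Subgroup.zpowers_le.2 hzc) (hSZ b.2)) a.1)⟩⟩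
  · -- non-central case
    have hCN : Subgroup.centralizer (N : Set G) = N := hmax _ inferInstance hNC hC
    haveI := hN
    have hZ : IsZGroup (G ⧸ N) := by
      refine ⟨fun p hp P => ?_⟩
      haveI : Fact p.Prime := ⟨hp⟩
      by_cases hd : p ∣ Nat.card P
      · obtain ⟨x, hx⟩ := exists_prime_orderOf_dvd_card' p hd
        set W := Subgroup.zpowers (x : G ⧸ N) with hW
        have hWcard : Nat.card W = p := by rw [hW, Nat.card_zpowers, Subgroup.orderOf_coe, hx]
        have hWP : W = (P : Subgroup (G ⧸ N)) := by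
          by_contra hne'
          have hlt : W < P := lt_of_le_of_ne (Subgroup.zpowers_le.2 x.2) hne'
          have hne2 := lt_normalizer_of_lt P.isPGroup' hlt
          let K := W.comap (QuotientGroup.mk' N)
          have hKn : Subgroup.normalizer (K : Set G) ≠ K := by
            intro he
            apply hne2
            apply Subgroup.comap_injective (QuotientGroup.mk'_surjective N)
            rw [Subgroup.comap_normalizer_eq_of_le_range (by
              rw [MonoidHom.range_eq_top.2 (QuotientGroup.mk'_surjective N)]; exact le_top)]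
            exact he
          have hKab : IsMulCommutative K := by_contra fun h => hKn (hS K h)
          have hKC : K ≤ Subgroup.centralizer (N : Set G) := fun a ha =>
            Subgroup.mem_centralizer_iff.2 fun b hb => congrArg Subtype.val
              (hKab.is_comm.comm
                (⟨b, by
                  show QuotientGroup.mk' N b ∈ W
                  rw [QuotientGroup.mk'_apply, (QuotientGroup.eq_one_iff b).2 hb]
                  exact one_mem W⟩ : K) ⟨a, ha⟩)
          obtain ⟨g, hg⟩ := QuotientGroup.mk'_surjective N (x : G ⧸ N)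
          have hgN : g ∈ N := hCN ▸ hKC (show QuotientGroup.mk' N g ∈ W by
            rw [hg]; exact Subgroup.mem_zpowers _)
          have : (x : G ⧸ N) = 1 := by rw [← hg]; exact (QuotientGroup.eq_one_iff g).2 hgN
          have hx1 : x = 1 := Subtype.ext this
          rw [hx1, orderOf_one] at hx
          exact hp.ne_one hx.symm
        exact isCyclic_of_prime_card (p := p) (hWP ▸ hWcard)
      · haveI : Subsingleton P := by
          obtain ⟨k, hk⟩ := IsPGroup.iff_card.1 P.isPGroup'
          rcases k with _ | k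
          · exact (Nat.card_eq_one_iff_unique.1 (by simpa using hk)).1
          · exact absurd (hk ▸ dvd_pow_self p (Nat.succ_ne_zero k)) hd
        infer_instance
    haveI : Nontrivial (G ⧸ N) := QuotientGroup.nontrivial_iff.2 hnt
    refine (IsZGroup.commutator_lt (G := G ⧸ N)).ne ?_
    rw [_root_.commutator_def, ← Subgroup.map_top_of_surjective _ (QuotientGroup.mk'_surjective N),
      ← Subgroup.map_commutator, ← _root_.commutator_def, hperf]

/-- A finite group in which every non-abelian subgroup is self-normalizing is solvable or simple. -/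
theorem result {G : Type*} [Group G] [Finite G] (hS : ∀ H : Subgroup G, ¬ IsMulCommutative H → Subgroup.normalizer (H : Set G) = H) :
    Group.IsSolvable G ∨ IsSimpleGroup G := by
  classical
  refine or_iff_not_imp_left.2 fun hns => ?_
  have hab : ∀ M : Subgroup G, M.Normal → M ≠ ⊤ → IsMulCommutative M := by
    intro M hM hMt
    by_contra h
    exact hMt ((hS M h).symm.trans (Subgroup.normalizer_eq_top_iff.2 hM))
  have hperf : commutator G = ⊤ := by
    by_contra h
    have hc := hab (commutator G) inferInstance h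
    apply hns
    refine ⟨⟨2, ?_⟩⟩
    rw [derivedSeries_succ, derivedSeries_one]
    exact Subgroup.commutator_eq_bot_iff_le_centralizer.2 fun a ha =>
      Subgroup.mem_centralizer_iff.2 fun b hb => congrArg Subtype.val
        (hc.is_comm.comm (⟨b, hb⟩ : commutator G) ⟨a, ha⟩)
  haveI : Nontrivial G := by
    by_contra h
    rw [not_nontrivial_iff_subsingleton] at h
    exact hns inferInstance
  refine ⟨fun M hM => ?_⟩
  by_contra hM'
  rw [not_or] at hM'
  obtain ⟨N, hMN, hN⟩ := (Set.toFinite {N : Subgroup G | N.Normal ∧ N ≠ ⊤}).exists_le_maximal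
    (show M ∈ {N : Subgroup G | N.Normal ∧ N ≠ ⊤} from ⟨hM, hM'.2⟩)
  exact no_normal hS hperf N hN.prop.1 (fun h => hM'.1 (le_bot_iff.1 (h ▸ hMN))) hN.prop.2
    fun K hK hle hKt => (hN.eq_of_le ⟨hK, hKt⟩ hle).symm

end Cfsg.Agent.S4072
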