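import Cfsg.Statements.S4073
import Cfsg.Agent.Lib.SelfNorm.SLTwo
-- import your own Cfsg.Agent.* helpers here

set_option autoImplicit false
open Cfsg

namespace Cfsg.Agent.S4073

open Cfsg.Agent.Lib
open Cfsg.Agent.Lib.SelfNorm.Basic

theorem iff_selfNormalizing {G : Type*} [Group G] :
    (∀ H : Subgroup G, ¬ IsMulCommutative H → Subgroup.normalizer (H : Set G) = H) ↔
      SelfNormalizing G :=
  ⟨fun h H hH => (h H (fun hc => hH ((commSub_iff H).2 hc))).le,
    fun h H hH => le_antisymm (h H (fun hc => hH ((commSub_iff H).1 hc))) Subgroup.le_normalizer⟩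

theorem selfNormalizing_congr {G H : Type*} [Group G] [Group H] (e : G ≃* H)
    (h : SelfNormalizing G) : SelfNormalizing H := by
  intro K hK x hx
  have hn := h (K.comap e.toMonoidHom) (fun hc => hK fun a ha b hb => by
    have := congrArg e (hc (e.symm a) (by simpa using ha) (e.symm b) (by simpa using hb))
    simpa using this) (show e.symm x ∈ _ from Subgroup.mem_normalizer_iff.2 fun n => by
      simpa using Subgroup.mem_normalizer_iff.1 hx (e n))
  simpa using hn

/-- Let G be a finite non-abelian simple group. Every non-abelian subgroup of G is self-normalizing if and only if G is isomorphic to PSL₂(2ⁿ) for some n ≥ 2 with 2ⁿ − 1 prime (this includes the alternating group of degree 5 as PSL₂(4)). -/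
theorem result {G : Type*} [Group G] [Finite G] [IsSimpleGroup G]
    (hna : ¬ IsMulCommutative G) :
    (∀ H : Subgroup G, ¬ IsMulCommutative H → Subgroup.normalizer (H : Set G) = H) ↔
    ∃ n : ℕ, 2 ≤ n ∧ (2 ^ n - 1).Prime ∧ Nonempty (G ≃* Matrix.ProjectiveSpecialLinearGroup (Fin 2) (GaloisField 2 n)) := by
  classical
  rw [iff_selfNormalizing]
  have hna' : ¬ CommSub (⊤ : Subgroup G) := fun hc =>
    hna ⟨⟨fun a b => hc a (Subgroup.mem_top a) b (Subgroup.mem_top b)⟩⟩
  constructor
  · intro h
    have heven := CASimple67.even_card (SelfNorm.Main.isCT h hna') hna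
    rcases Cfsg.Agent.S2202.result heven (fun t ht => (commSub_iff _).1
        (SelfNorm.Main.centralizer_comm h hna' (fun e => by rw [e, orderOf_one] at ht; omega)))
      with hcyc | hnorm | hsl
    · exfalso
      obtain ⟨P⟩ := (inferInstance : Nonempty (Sylow 2 G))
      have hle := (hcyc P).normalizer_le_centralizer
        ((Nat.minFac_eq_two_iff _).2 (even_iff_two_dvd.1 heven))
      have hP : CommSub (P : Subgroup G) := fun a ha b hb =>
        congrArg Subtype.val ((hcyc P).commGroup.mul_comm ⟨a, ha⟩ ⟨b, hb⟩)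
      have := Fact.mk Nat.prime_two
      obtain ⟨x, hx⟩ := exists_prime_orderOf_dvd_card' (G := (P : Subgroup G)) 2
        (P.dvd_card_of_dvd_card (even_iff_two_dvd.1 heven))
      refine SelfNorm.Basic.not_central hna' P hP x.2 (fun e => ?_) fun n hn =>
        (Subgroup.mem_centralizer_iff.1 (hle hn) x x.2).symm
      rw [← Subgroup.orderOf_coe, e, orderOf_one] at hx
      omega
    · exfalso
      obtain ⟨P⟩ := (inferInstance : Nonempty (Sylow 2 G))
      have hP1 : (P : Subgroup G) ≠ ⊥ := P.ne_bot_of_dvd_card (even_iff_two_dvd.1 heven)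
      have hPt : (P : Subgroup G) = ⊤ := (hnorm P).eq_bot_or_eq_top.resolve_left hP1
      have hpg : IsPGroup 2 G := by
        have := P.2
        rw [hPt] at this
        exact this.of_equiv Subgroup.topEquiv
      have := hpg.isNilpotent
      exact hna' fun a _ b _ => IsSimpleGroup.comm_iff_isSolvable.2 inferInstance a b
    obtain ⟨F, _, _, A, _, _, hchar, -, ⟨e⟩⟩ := hsl
    let φ : G →* Matrix.SpecialLinearGroup (Fin 2) F := (MonoidHom.fst _ _).comp e.toMonoidHom
    have hA : Subsingleton A := by
      refine subsingleton_of_forall_eq 1 fun a => ?_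
      obtain hb | ht := (inferInstance : φ.ker.Normal).eq_bot_or_eq_top
      · have hmem : e.symm (1, a) ∈ φ.ker :=
          MonoidHom.mem_ker.2 (show (e (e.symm (1, a))).1 = 1 by simp)
        rw [hb, Subgroup.mem_bot, MulEquiv.map_eq_one_iff] at hmem
        exact congrArg Prod.snd hmem
      · exfalso
        refine hna' fun x _ y _ => e.injective ?_
        have h1 : ∀ z : G, (e z).1 = 1 := fun z =>
          (MonoidHom.mem_ker.1 (ht ▸ Subgroup.mem_top z : z ∈ φ.ker))
        rw [map_mul, map_mul]
        exact Prod.ext (by simp [h1]) (mul_comm _ _)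
    have : Unique A := uniqueOfSubsingleton 1
    let e' : G ≃* Matrix.SpecialLinearGroup (Fin 2) F := e.trans MulEquiv.prodUnique
    obtain ⟨k, -, hk⟩ := FiniteField.card F 2
    obtain ⟨n, hn1, hn⟩ : ∃ n : ℕ, 1 ≤ n ∧ Fintype.card F = 2 ^ n := ⟨k, k.pos, hk⟩
    have hn2 : 2 ≤ n := by
      by_contra hlt
      obtain rfl : n = 1 := by omega
      have h6 : Nat.card G = 2 ^ 1 * 3 ^ 1 := by
        rw [Nat.card_congr e'.toEquiv, Linear.card_SL_two, hn]
        norm_num
      have := Induced.Burnside.isSolvable_of_card_eq 2 3 1 1 Nat.prime_two Nat.prime_three h6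
      exact hna' fun a _ b _ => IsSimpleGroup.comm_iff_isSolvable.2 this a b
    have hq4 : 4 ≤ Fintype.card F := hn ▸ Nat.pow_le_pow_right (show 0 < 2 by norm_num) hn2
    refine ⟨n, hn2, hn ▸ SelfNorm.SLTwo.prime_pred (selfNormalizing_congr e' h) hq4, ?_⟩
    let _ := Fintype.ofFinite (GaloisField 2 n)
    let r : F ≃+* GaloisField 2 n := FiniteField.ringEquivOfCardEq (by
      rw [hn, ← Nat.card_eq_fintype_card, GaloisField.card 2 n (by omega)])
    let m : Matrix.SpecialLinearGroup (Fin 2) F ≃* Matrix.SpecialLinearGroup (Fin 2) (GaloisField 2 n) :=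
      MonoidHom.toMulEquiv (Matrix.SpecialLinearGroup.map r.toRingHom)
        (Matrix.SpecialLinearGroup.map r.symm.toRingHom)
        (by ext g i j; simp)
        (by ext g i j; simp)
    obtain ⟨p⟩ := SuzukiAbelian.nonempty_sl_equiv_psl (F := GaloisField 2 n)
    exact ⟨e'.trans (m.trans p)⟩
  · rintro ⟨n, hn, hp, ⟨e⟩⟩
    let _ := Fintype.ofFinite (GaloisField 2 n)
    obtain ⟨p⟩ := SuzukiAbelian.nonempty_sl_equiv_psl (F := GaloisField 2 n)
    have hcard : Fintype.card (GaloisField 2 n) = 2 ^ n := by
      rw [← Nat.card_eq_fintype_card, GaloisField.card 2 n (by omega)]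
    exact selfNormalizing_congr (p.trans e.symm)
      (SelfNorm.SLTwo.selfNormalizing (by rw [hcard]; exact hp))

end Cfsg.Agent.S4073
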