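import Cfsg.Statements.S4074
import Mathlib.GroupTheory.SpecificGroups.Dihedral
import Mathlib.GroupTheory.PGroup

set_option autoImplicit false
open Cfsg

namespace Cfsg.Agent.S4074

open DihedralGroup

/-- `⟨r², s⟩` for even `n`, as the kernel-like subgroup of elements with even index. -/
def evenSub (n : ℕ) (h : 2 ∣ n) : Subgroup (DihedralGroup n) where
  carrier := {x | match x with
    | r i => ZMod.castHom h (ZMod 2) i = 0
    | sr i => ZMod.castHom h (ZMod 2) i = 0}
  one_mem' := map_zero (ZMod.castHom h (ZMod 2))
  mul_mem' := by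
    rintro (i | i) (j | j) hi hj <;> simp only [Set.mem_ofPred_eq, r_mul_r, r_mul_sr, sr_mul_r, sr_mul_sr,
      map_add, map_sub] at hi hj ⊢ <;> rw [hi, hj] <;> simp
  inv_mem' := by
    rintro (i | i) hi
    · show ZMod.castHom h (ZMod 2) (-i) = 0
      rw [map_neg, show ZMod.castHom h (ZMod 2) i = 0 from hi, neg_zero]
    · exact hi

/-- For n > 2, every non-abelian subgroup of the dihedral group of order 2n is self-normalizing if and only if n = 4 or n is odd. -/
theorem result (n : ℕ) (hn : 2 < n) :
    (∀ H : Subgroup (DihedralGroup n), ¬ IsMulCommutative H → Subgroup.normalizer (H : Set (DihedralGroup n)) = H) ↔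
    (n = 4 ∨ Odd n) := by
  haveI : NeZero n := ⟨by omega⟩
  constructor
  · intro hS
    rcases Nat.even_or_odd n with heven | hodd
    · refine Or.inl ?_
      by_contra h4
      have h2 : 2 ∣ n := even_iff_two_dvd.1 heven
      have h6 : 4 < n := by
        obtain ⟨k, rfl⟩ := heven
        omega
      let H := evenSub n h2
      have hr2 : r (2 : ZMod n) ∈ H := by
        show ZMod.castHom h2 (ZMod 2) 2 = 0
        rw [map_ofNat]; rfl
      have hs0 : sr (0 : ZMod n) ∈ H := map_zero (ZMod.castHom h2 (ZMod 2))
      have hna : ¬ IsMulCommutative H := fun hc => by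
        have h := congrArg Subtype.val (hc.is_comm.comm (⟨_, hr2⟩ : H) ⟨_, hs0⟩)
        simp only [Subgroup.coe_mul, r_mul_sr, sr_mul_r, sr.injEq, zero_sub, zero_add] at h
        have h4' : ((4 : ℕ) : ZMod n) = 0 := by
          push_cast
          calc (4 : ZMod n) = 2 - (-2) := by ring
            _ = 0 := by rw [h, sub_self]
        have := Nat.le_of_dvd (by norm_num) ((ZMod.natCast_eq_zero_iff 4 n).1 h4')
        omega
      have hr1 : r (1 : ZMod n) ∈ Subgroup.normalizer (H : Set (DihedralGroup n)) := by
        have key : ∀ k : ZMod n, ZMod.castHom h2 (ZMod 2) (k - 1 - 1) = ZMod.castHom h2 (ZMod 2) k := by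
          intro k
          rw [map_sub, map_sub, map_one]
          generalize ZMod.castHom h2 (ZMod 2) k = c
          revert c; decide
        rw [Subgroup.mem_normalizer_iff]
        rintro (j | j)
        · rw [inv_r, r_mul_r, r_mul_r, add_neg_cancel_comm]
        · rw [inv_r, r_mul_sr, sr_mul_r, ← sub_eq_add_neg]
          exact ⟨fun h => (key j).trans h, fun h => (key j).symm.trans h⟩
      rw [hS H hna] at hr1
      have : ZMod.castHom h2 (ZMod 2) 1 = 0 := hr1
      rw [map_one] at this
      exact one_ne_zero this
    · exact Or.inr hodd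
  · rintro (rfl | hodd) H hH
    · -- order 8: proper subgroups are abelian
      have hH4 : H = ⊤ := by
        by_contra hne
        apply hH
        haveI : Fact (Nat.Prime 2) := ⟨Nat.prime_two⟩
        have hcard : Nat.card H ∣ 2 ^ 3 := by
          have := H.card_subgroup_dvd_card
          rwa [DihedralGroup.nat_card] at this
        obtain ⟨k, hk, hkc⟩ := (Nat.dvd_prime_pow Nat.prime_two).1 hcard
        have hk2 : k ≤ 2 := by
          by_contra hk3
          refine hne (Subgroup.eq_top_of_card_eq H ?_)
          rw [hkc, DihedralGroup.nat_card, show k = 3 by omega]; rfl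
        interval_cases k
        · haveI : Subsingleton H := (Nat.card_eq_one_iff_unique.1 (by simpa using hkc)).1
          exact ⟨⟨fun a b => Subsingleton.elim _ _⟩⟩
        · haveI := isCyclic_of_prime_card (α := H) (p := 2) (by simpa using hkc)
          exact IsCyclic.isMulCommutative
        · exact ⟨⟨IsPGroup.commutative_of_card_eq_prime_sq hkc⟩⟩
      rw [hH4]
      exact Subgroup.normalizer_eq_top_iff.2 inferInstance
    · -- `n` odd
      refine le_antisymm ?_ Subgroup.le_normalizer
      obtain ⟨j, hj⟩ : ∃ j : ZMod n, sr j ∈ H := by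
        by_contra hno
        apply hH
        refine ⟨⟨?_⟩⟩
        rintro ⟨(a | a), ha⟩ ⟨(b | b), hb⟩
        · exact Subtype.ext (by simp [add_comm])
        · exact absurd ⟨_, hb⟩ hno
        all_goals exact absurd ⟨_, ha⟩ hno
      have hhalf : ∀ a : ZMod n, r (a + a) ∈ H → r a ∈ H := by
        intro a ha
        obtain ⟨k, hk⟩ := hodd
        have : r a = r (a + a) ^ (k + 1) := by
          rw [show a + a = a * 2 by ring, ← show r a ^ 2 = r (a * 2) from by
            rw [pow_two, r_mul_r]; congr 1; ring, ← pow_mul, show 2 * (k + 1) = n + 1 by omega, pow_succ]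
          have h1 : r a ^ n = 1 := orderOf_dvd_iff_pow_eq_one.1 (by
            rw [DihedralGroup.orderOf_r]; exact Nat.div_dvd_of_dvd (Nat.gcd_dvd_left _ _))
          rw [h1, one_mul]
        rw [this]; exact H.pow_mem ha _
      rintro (a | a) hg
      · have h1 := (Subgroup.mem_normalizer_iff.1 hg (sr j)).1 hj
        rw [inv_r, r_mul_sr, sr_mul_r] at h1
        have h2 := H.mul_mem h1 hj
        rw [sr_mul_sr] at h2
        refine hhalf a ((congrArg (· ∈ H) ?_).mp h2)
        congr 1; ring
      · have h0 := H.mul_mem
          ((Subgroup.mem_normalizer_iff.1 hg (sr j)).1 hj) hj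
        rw [inv_sr, sr_mul_sr, r_mul_sr, sr_mul_sr] at h0
        have h3 : r (a - j) ∈ H := by
          refine hhalf _ ?_
          have := H.inv_mem h0
          rw [inv_r] at this
          refine (congrArg (· ∈ H) ?_).mp this
          congr 1; ring
        have h4 := H.mul_mem hj h3
        rwa [sr_mul_r, add_sub_cancel] at h4

end Cfsg.Agent.S4074
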