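import Cfsg.Statements.S4075
import Mathlib.GroupTheory.Nilpotent
import Mathlib.GroupTheory.Sylow

set_option autoImplicit false
open Cfsg

namespace Cfsg.Agent.S4075

/-- Let G be a finite nilpotent group. Every non-abelian subgroup of G is self-normalizing if and only if G is abelian or G is a minimal non-abelian p-group for some prime p (non-abelian of prime-power order with every proper subgroup abelian). -/
theorem result {G : Type*} [Group G] [Finite G]
    [Group.IsNilpotent G] :
    (∀ H : Subgroup G, ¬ IsMulCommutative H → Subgroup.normalizer (H : Set G) = H) ↔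
    (IsMulCommutative G ∨ (IsPrimePow (Nat.card G) ∧ ¬ IsMulCommutative G ∧ ∀ H : Subgroup G, H ≠ ⊤ → IsMulCommutative H)) := by
  classical
  haveI := Fintype.ofFinite G
  constructor
  · intro h
    by_cases hc : IsMulCommutative G
    · exact Or.inl hc
    refine Or.inr ?_
    have hab : ∀ H : Subgroup G, H ≠ ⊤ → IsMulCommutative H := by
      intro H hH
      by_contra hna
      have := (Group.normalizerCondition_of_isNilpotent (G := G)) H (lt_top_iff_ne_top.2 hH)
      rw [h H hna] at this
      exact lt_irrefl _ this
    refine ⟨?_, hc, hab⟩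
    by_contra hpp
    apply hc
    have hn : ∀ (p : ℕ) (_ : Fact p.Prime) (P : Sylow p G), (P : Subgroup G).Normal :=
      ((Group.isNilpotent_of_finite_tfae (G := G)).out 0 3).1 (inferInstance : Group.IsNilpotent G)
    have hn' : ∀ {p : ℕ} [Fact p.Prime] (P : Sylow p G), (P : Subgroup G).Normal :=
      fun {p} hp P => hn p hp P
    let e := Sylow.directProductOfNormal (G := G) @hn'
    have hcomm : ∀ (p : (Nat.card G).primeFactors) (P : Sylow p.1 G) (a b : (P : Subgroup G)),
        a * b = b * a := by
      intro p P a b
      haveI : Fact p.1.Prime := ⟨Nat.prime_of_mem_primeFactors p.2⟩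
      have hne : (P : Subgroup G) ≠ ⊤ := fun ht => hpp (by
        have := P.card_eq_multiplicity
        rw [ht, Subgroup.card_top] at this
        rw [this]
        refine (Fact.out : p.1.Prime).isPrimePow.pow ?_
        have := Nat.dvd_of_mem_primeFactors p.2
        exact (Nat.Prime.factorization_pos_of_dvd (Fact.out) Nat.card_pos.ne' this).ne')
      exact (hab _ hne).is_comm.comm a b
    refine ⟨⟨fun a b => e.symm.injective ?_⟩⟩
    rw [map_mul, map_mul]
    funext p P
    exact hcomm p P _ _
  · rintro (hc | ⟨-, -, hab⟩) H hH
    · exact absurd ⟨⟨fun a b => Subtype.ext (hc.is_comm.comm a.1 b.1)⟩⟩ hH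
    · have : H = ⊤ := by
        by_contra hne
        exact hH (hab H hne)
      rw [this]
      exact Subgroup.normalizer_eq_top_iff.2 inferInstance

end Cfsg.Agent.S4075
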