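import Cfsg.Statements.S4079
import Cfsg.Agent.Lib.FusionP3.Metacyclic
import Cfsg.Agent.Lib.PGroupTheory.RegularExtra
import Cfsg.Agent.Lib.PGroups.MaximalClass
import Cfsg.Agent.Lib.PGroups.UniqueInvolution

set_option autoImplicit false
open Cfsg

namespace Cfsg.Agent.S4079

open Cfsg.Agent.Lib
open scoped commutatorElement

section Structure

variable {L : Type*} [Group L] [Finite L] {p : ℕ} [Fact p.Prime]

omit [Finite L] in
theorem commutator_isCyclic (hmc : Cfsg.IsMetacyclic L) : IsCyclic ↥(commutator L) := by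
  obtain ⟨N, hN, hNc, hQc⟩ := hmc
  let _ : CommGroup (L ⧸ N) := @IsCyclic.commGroup _ _ hQc
  have hle : commutator L ≤ N :=
    (Abelianization.commutator_subset_ker (QuotientGroup.mk' N)).trans (QuotientGroup.ker_mk' N).le
  exact Subgroup.isCyclic_of_le hle

/-- `Ω₁` has order `p²` and consists of `p`-th powers. -/
theorem omega_data (hp : p ≠ 2) (hL : IsPGroup p L) (hmc : Cfsg.IsMetacyclic L)
    (hnc : ∀ C : Subgroup L, IsCyclic C → C.index ≠ p) (hnt : Nontrivial L) :
    ∃ E : Subgroup L, (∀ x, x ∈ E ↔ x ^ p = 1) ∧ Nat.card E = p ^ 2 ∧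
      ∀ e ∈ E, ∃ d : L, d ^ p = e := by
  classical
  have hpp : p.Prime := Fact.out
  obtain ⟨E, hE, hEc, hEle⟩ := FusionP3.Metacyclic.exists_omega_metacyclic hp hL hmc
  obtain ⟨m, hm⟩ := IsPGroup.iff_card.mp hL
  -- a subgroup with at most `p` elements of order `p` is cyclic
  have hcyc : ∀ S : Subgroup L, Nat.card (E ⊓ S : Subgroup L) ≤ p → IsCyclic S := by
    intro S hS
    refine PGroups.isCyclic_of_unique_prime hp (hL.to_subgroup S) fun x y hx hy => ?_
    have hmem : ∀ z : S, orderOf z = p → (z : L) ∈ E ⊓ S := fun z hz => by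
      refine ⟨(hE _).2 ?_, z.2⟩
      have := pow_orderOf_eq_one z
      rw [hz] at this
      simpa using congrArg Subtype.val this
    have heq : Subgroup.zpowers (x : L) = E ⊓ S :=
      Subgroup.eq_of_le_of_card_ge (Subgroup.zpowers_le.2 (hmem x hx))
        (by rwa [Nat.card_zpowers, Subgroup.orderOf_coe, hx])
    have hy' : (y : L) ∈ Subgroup.zpowers (x : L) := heq ▸ hmem y hy
    obtain ⟨k, hk⟩ := Subgroup.mem_zpowers_iff.1 hy'
    exact Subgroup.mem_zpowers_iff.2 ⟨k, Subtype.ext (by simpa using hk)⟩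
  have hEcard : Nat.card E = p ^ 2 := by
    refine le_antisymm hEle ?_
    by_contra hlt
    obtain ⟨k, hk⟩ := IsPGroup.iff_card.mp (hL.to_subgroup E)
    rw [hk] at hlt
    have hk1 : k ≤ 1 := by
      have := (Nat.pow_lt_pow_iff_right hpp.one_lt).1 (not_le.1 hlt)
      omega
    have hLc : IsCyclic (⊤ : Subgroup L) := hcyc ⊤ (by
      rw [inf_top_eq, hk]
      simpa using Nat.pow_le_pow_right hpp.pos hk1)
    have hLc' : IsCyclic L := (Subgroup.topEquiv (G := L)).isCyclic.1 hLc
    have hm1 : m ≠ 0 := by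
      rintro rfl
      have := Finite.one_lt_card (α := L)
      rw [hm, pow_zero] at this
      omega
    obtain ⟨g, hg⟩ := IsCyclic.exists_ofOrder_eq_natCard (α := L)
    refine hnc (Subgroup.zpowers (g ^ p)) inferInstance ?_
    have ho : orderOf (g ^ p) * p = p ^ m := by
      rw [orderOf_pow' g hpp.ne_zero, hg, hm, Nat.gcd_eq_right (dvd_pow_self p hm1),
        Nat.div_mul_cancel (dvd_pow_self p hm1)]
    have hi := (Subgroup.zpowers (g ^ p)).card_mul_index
    rw [Nat.card_zpowers, hm, ← ho] at hi
    exact Nat.eq_of_mul_eq_mul_left (orderOf_pos _) hi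
  have hreg := (PGroupTheory.isRegularPGroup_of_commutator_cyclic hL hp (commutator_isCyclic hmc))
  have hR : PGroupTheory.RegularAt p 1 L := (PGroupTheory.isRegularPGroup_iff.1 hreg).2 1
  refine ⟨E, hE, hEcard, ?_⟩
  set S := powerClosure p 1 (⊤ : Subgroup L) with hSdef
  have hScard : Nat.card S * p ^ 2 = p ^ m := by
    have h := PGroupTheory.card_powerClosure_mul hL hR
    rw [Nat.card_congr (Equiv.subtypeEquivRight fun x => (hE x).symm)] at h
    rw [← hm, ← hEcard]
    exact h
  have hSpow : ∀ z ∈ S, ∃ d : L, d ^ p = z := fun z hz => by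
    obtain ⟨x, -, hx⟩ := PGroupTheory.exists_eq_pow_of_mem_powerClosure hL hR hz
    exact ⟨x, by rw [hx, pow_one]⟩
  suffices hES : E ≤ S from fun e he => hSpow e (hES he)
  by_contra hES
  have hlt : Nat.card (E ⊓ S : Subgroup L) ≤ p := by
    have hd : Nat.card (E ⊓ S : Subgroup L) ∣ p ^ 2 := hEcard ▸ Subgroup.card_dvd_of_le inf_le_left
    obtain ⟨k, hk, hcard⟩ := (Nat.dvd_prime_pow hpp).1 hd
    rw [hcard]
    rcases Nat.lt_or_ge k 2 with h | h
    · simpa using Nat.pow_le_pow_right hpp.pos (show k ≤ 1 by omega)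
    · exfalso
      refine hES (le_trans (le_of_eq ?_) (inf_le_right : E ⊓ S ≤ S))
      exact (Subgroup.eq_of_le_of_card_ge inf_le_left
        (by rw [hEcard, hcard]; exact Nat.pow_le_pow_right hpp.pos h)).symm
  obtain ⟨g, hg⟩ := (Subgroup.isCyclic_iff_exists_zpowers_eq_top S).1 (hcyc S hlt)
  have hgS : g ∈ S := hg ▸ Subgroup.mem_zpowers g
  have hgo : orderOf g = Nat.card S := by rw [← Nat.card_zpowers, hg]
  obtain ⟨x, hx⟩ := hSpow g hgS
  rcases eq_or_ne g 1 with rfl | hg1
  · -- `L` has order `p²`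
    have hS1 : Nat.card S = 1 := by rw [← hgo, orderOf_one]
    rw [hS1, one_mul] at hScard
    have hE1 : ∀ y : L, y ^ p = 1 := fun y => by
      refine (hE y).1 ?_
      rw [Subgroup.eq_top_of_card_eq E (by rw [hEcard, hm, hScard])]
      trivial
    obtain ⟨y, hy⟩ := exists_ne (1 : L)
    refine hnc (Subgroup.zpowers y) inferInstance ?_
    have hi := (Subgroup.zpowers y).card_mul_index
    rw [Nat.card_zpowers, orderOf_eq_prime (hE1 y) hy, hm, ← hScard, sq] at hi
    exact Nat.eq_of_mul_eq_mul_left hpp.pos hi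
  · have hpx : p ∣ orderOf x := by
      obtain ⟨k, hk⟩ := IsPGroup.iff_orderOf.1 hL x
      rw [hk]
      refine dvd_pow_self p fun h0 => hg1 ?_
      rw [h0, pow_zero, orderOf_eq_one_iff] at hk
      rw [← hx, hk, one_pow]
    refine hnc (Subgroup.zpowers x) inferInstance ?_
    have ho : orderOf x = Nat.card S * p := by
      rw [← hgo, ← hx, orderOf_pow' x hpp.ne_zero, Nat.gcd_eq_right hpx, Nat.div_mul_cancel hpx]
    have hi := (Subgroup.zpowers x).card_mul_index
    rw [Nat.card_zpowers, ho, hm, ← hScard, sq, ← mul_assoc] at hi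
    exact Nat.eq_of_mul_eq_mul_left (Nat.mul_pos Nat.card_pos hpp.pos) hi

omit [Fact p.Prime] [Finite L] in
theorem conj_pow_eq_one {x g : L} (h : x ^ p = 1) : (g * x * g⁻¹) ^ p = 1 := by
  rw [conj_pow, h, mul_one, mul_inv_cancel]

/-- `x ^ p` commutes with `y` iff `[x⁻¹, y] ^ p = 1`. -/
theorem commute_pow_iff (hL : IsPGroup p L) (hR : PGroupTheory.RegularAt p 1 L) (x y : L) :
    Commute (x ^ p) y ↔ (x⁻¹ * (y * x * y⁻¹)) ^ p = 1 := by
  have h := PGroupTheory.pow_eq_pow_iff hL hR (a := x) (b := y * x * y⁻¹)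
  simp only [pow_one] at h
  rw [← h, conj_pow, eq_mul_inv_iff_mul_eq]
  exact Iff.rfl

/-- In a regular group `x ^ p` commutes with `y` only if `x` commutes with `y ^ p`. -/
theorem commute_pow_comm (hL : IsPGroup p L) (hR : PGroupTheory.RegularAt p 1 L) {x y : L}
    (h : Commute (x ^ p) y) : Commute x (y ^ p) := by
  refine ((commute_pow_iff hL hR y x).2 ?_).symm
  have h1 := (commute_pow_iff hL hR x y).1 h
  have key : y⁻¹ * (x * y * x⁻¹) = y⁻¹ * (x * (x⁻¹ * (y * x * y⁻¹))⁻¹ * x⁻¹) * (y⁻¹)⁻¹ := by group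
  rw [key]
  exact conj_pow_eq_one (conj_pow_eq_one (by rw [inv_pow, h1, inv_one]))

/-- Elements whose `p`-th power lies in `E` centralise `E`. -/
theorem commute_omega (hL : IsPGroup p L) (hR : PGroupTheory.RegularAt p 1 L) {E Z : Subgroup L}
    (hEcard : Nat.card E = p ^ 2) (hEpow : ∀ e ∈ E, ∃ d : L, d ^ p = e) (hZE : Z ≤ E)
    (hZ : Nat.card Z = p) (hZc : ∀ z ∈ Z, ∀ l : L, Commute z l) {c : L} (hc : c ^ p ∈ E) {e : L}
    (he : e ∈ E) : Commute c e := by
  have hpp : p.Prime := Fact.out
  by_cases hcZ : c ^ p ∈ Z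
  · obtain ⟨d, rfl⟩ := hEpow e he
    exact commute_pow_comm hL hR (hZc _ hcZ d)
  · set T := E ⊓ Subgroup.centralizer ({c} : Set L) with hTdef
    have hZT : Z ≤ T := fun z hz => ⟨hZE hz, Subgroup.mem_centralizer_singleton_iff.2 (hZc z hz c)⟩
    have hcT : c ^ p ∈ T :=
      ⟨hc, Subgroup.mem_centralizer_singleton_iff.2 ((Commute.refl c).pow_left p)⟩
    have hT : T = E := by
      refine Subgroup.eq_of_le_of_card_ge inf_le_left ?_
      have hd : Nat.card T ∣ p ^ 2 := hEcard ▸ Subgroup.card_dvd_of_le inf_le_left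
      obtain ⟨k, hk, hcard⟩ := (Nat.dvd_prime_pow hpp).1 hd
      rw [hEcard, hcard]
      refine Nat.pow_le_pow_right hpp.pos ?_
      by_contra hk2
      refine hcZ ?_
      rw [Subgroup.eq_of_le_of_card_ge hZT
        (by rw [hcard, hZ]; simpa using Nat.pow_le_pow_right hpp.pos (show k ≤ 1 by omega))]
      exact hcT
    rw [← hT] at he
    exact (Subgroup.mem_centralizer_singleton_iff.1 he.2).symm

end Structure

/-- The iterates of `d ↦ d * c`, `c ↦ c * u`, `u ↦ u * v`. -/
theorem iterate_formula {L : Type*} [Group L] (a : MulAut L) {d c u v : L} (hd : a d = d * c)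
    (hc : a c = c * u) (hu : a u = u * v) (hv : a v = v) (hcu : Commute c u)
    (hvc : ∀ l : L, Commute v l) (n : ℕ) :
    (a ^ n) d = d * c ^ n * u ^ n.choose 2 * v ^ n.choose 3 := by
  induction n with
  | zero => simp
  | succ n ih =>
    rw [pow_succ', MulAut.mul_apply, ih]
    simp only [map_mul, map_pow, hd, hc, hu, hv]
    rw [hcu.mul_pow, (hvc u).symm.mul_pow]
    rw [Nat.choose_succ_succ' n 1, Nat.choose_succ_succ' n 2, Nat.choose_one_right, pow_succ', pow_add,
      pow_add]
    simp only [mul_assoc]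

theorem normal_sq_eq {X : Type*} [Group X] [Finite X] {p : ℕ} [Fact p.Prime] [Group.IsNilpotent X]
    {n : ℕ} (hn : 4 ≤ n) (hX : Nat.card X = p ^ n) (hc : Group.nilpotencyClass X = n - 1)
    (N : Subgroup X) [N.Normal] (hN : Nat.card N = p ^ 2) :
    N = (Subgroup.center (X ⧸ Subgroup.center X)).comap (QuotientGroup.mk' (Subgroup.center X)) := by
  have hpp : p.Prime := Fact.out
  have hG : IsPGroup p X := IsPGroup.of_card hX
  obtain ⟨hZ, hQ, hQc⟩ := PGroups.center_quotient_of_class (by omega) hX hc
  have hZN : Subgroup.center X ≤ N := by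
    have hne : N ≠ ⊥ := by
      intro h
      rw [h, Subgroup.card_bot] at hN
      exact (Nat.one_lt_pow two_ne_zero hpp.one_lt).ne hN
    obtain ⟨Z, hZN, hZc, -, hZcard⟩ := PGroups.exists_central_card_prime hG N hne
    rw [← Subgroup.eq_of_le_of_card_ge hZc (by rw [hZ, hZcard])]
    exact hZN
  set f := QuotientGroup.mk' (Subgroup.center X)
  have hNmap : (N.map f).comap f = N :=
    Subgroup.comap_map_eq_self ((QuotientGroup.ker_mk' _).le.trans hZN)
  have hcardmap : Nat.card (N.map f) = p := by
    have h1 : Nat.card ((N.map f).comap f) = Nat.card (Subgroup.center X) * Nat.card (N.map f) :=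
      QuotientGroup.card_preimage_mk _ (N.map f : Set (X ⧸ Subgroup.center X))
    rw [hNmap, hN, hZ, sq] at h1
    exact (Nat.eq_of_mul_eq_mul_left hpp.pos h1).symm
  have : (N.map f).Normal := Subgroup.Normal.map inferInstance f (QuotientGroup.mk'_surjective _)
  have hle := PGroups.le_center_of_normal_card_prime (hG.to_quotient _) (N.map f) hcardmap
  obtain ⟨hZ2, -, -⟩ := PGroups.center_quotient_of_class (X := X ⧸ Subgroup.center X)
    (n := n - 1) (by omega) hQ (by omega)
  rw [← Subgroup.eq_of_le_of_card_ge hle (by rw [hcardmap, hZ2]), hNmap]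

/-- Let p be an odd prime and L a finite metacyclic p-group with no cyclic subgroup of index p, and let a be an automorphism of L of order p. Then a moves some element of order p of L if and only if p = 3 and the semidirect product L ⋊ ⟨a⟩ (of order 3·#L) has maximal class, i.e. nilpotency class m where #L = 3^m. -/
theorem result {L : Type*} [Group L] [Finite L] {p : ℕ} [Fact p.Prime]
    (hp : p ≠ 2) (hL : IsPGroup p L) (hmc : Cfsg.IsMetacyclic L) (hnc : ∀ C : Subgroup L, IsCyclic C → C.index ≠ p)
    (a : MulAut L) (ha : orderOf a = p) (m : ℕ) (hm : Nat.card L = p ^ m) :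
    (∃ x : L, orderOf x = p ∧ a x ≠ x) ↔
    (p = 3 ∧ Group.nilpotencyClass (SemidirectProduct L ↥(Subgroup.zpowers a) (Subgroup.zpowers a).subtype) = m) := by
  classical
  have hpp : p.Prime := Fact.out
  have hLnt : Nontrivial L := by
    by_contra h
    rw [not_nontrivial_iff_subsingleton] at h
    have : a = 1 := MulEquiv.ext fun x => Subsingleton.elim _ _
    rw [this, orderOf_one] at ha
    exact hpp.one_lt.ne ha
  obtain ⟨E, hE, hEcard, hEpow⟩ := omega_data hp hL hmc hnc hLnt
  have hreg := PGroupTheory.isRegularPGroup_of_commutator_cyclic hL hp (commutator_isCyclic hmc)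
  have hR : PGroupTheory.RegularAt p 1 L := (PGroupTheory.isRegularPGroup_iff.1 hreg).2 1
  have hR2 : PGroupTheory.RegularAt p 2 L := (PGroupTheory.isRegularPGroup_iff.1 hreg).2 2
  have hpe : ∀ x y : L, x ^ p = y ^ p → (x⁻¹ * y) ∈ E := fun x y h => by
    have := (PGroupTheory.pow_eq_pow_iff hL hR (a := x) (b := y)).1 (by simpa using h)
    exact (hE _).2 (by simpa using this)
  have hm4 : 4 ≤ m := by
    have hEsub : E ≤ powerClosure p 1 (⊤ : Subgroup L) := fun e he => by
      obtain ⟨d, rfl⟩ := hEpow e he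
      exact PGroupTheory.pow_mem_powerClosure_one trivial
    have h := PGroupTheory.card_powerClosure_mul hL hR
    rw [Nat.card_congr (Equiv.subtypeEquivRight fun x => (hE x).symm)] at h
    have h1 : p ^ 2 * p ^ 2 ≤ p ^ m := by
      rw [← hm, ← h]
      exact Nat.mul_le_mul (hEcard ▸ Subgroup.card_le_of_le hEsub) hEcard.ge
    rw [← pow_add] at h1
    exact (Nat.pow_le_pow_iff_right hpp.one_lt).1 h1
  set A := Subgroup.zpowers a with hAdef
  set X := SemidirectProduct L ↥A A.subtype with hXdef
  have : Finite (MulAut L) := Finite.of_injective (fun f => (f : L → L)) DFunLike.coe_injective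
  have : Finite X := Finite.of_equiv _ SemidirectProduct.equivProd.symm
  have hXcard : Nat.card X = p ^ (m + 1) := by
    rw [Nat.card_congr SemidirectProduct.equivProd, Nat.card_prod, hm, Nat.card_zpowers, ha, pow_succ]
  have hXp : IsPGroup p X := IsPGroup.of_card hXcard
  have : Group.IsNilpotent X := hXp.isNilpotent
  let ι : L →* X := SemidirectProduct.inl
  have hιinj : Function.Injective ι := SemidirectProduct.inl_injective
  let a' : A := ⟨a, Subgroup.mem_zpowers a⟩
  let t : X := SemidirectProduct.inr a'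
  have hta : ∀ l, t * ι l * t⁻¹ = ι (a l) := fun l => by
    show SemidirectProduct.inr a' * SemidirectProduct.inl l * (SemidirectProduct.inr a')⁻¹ = _
    rw [← map_inv, ← SemidirectProduct.inl_aut]
    rfl
  have hrange : ι.range.Normal := by
    show (SemidirectProduct.inl : L →* X).range.Normal
    rw [SemidirectProduct.range_inl_eq_ker_rightHom]
    infer_instance
  set E' := E.map ι with hE'
  have hE'card : Nat.card E' = p ^ 2 := by rw [hE', Subgroup.card_map_of_injective hιinj, hEcard]
  have hE'n : E'.Normal := by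
    refine ⟨fun x hx g => ?_⟩
    obtain ⟨e, he, rfl⟩ := hx
    obtain ⟨l, hl⟩ := hrange.conj_mem (ι e) ⟨e, rfl⟩ g
    refine ⟨l, (hE l).2 (hιinj ?_), hl⟩
    rw [map_pow, hl, map_one]
    exact conj_pow_eq_one (by rw [← map_pow, (hE e).1 he, map_one])
  have hE'ne : E' ≠ ⊥ := by
    intro h
    rw [h, Subgroup.card_bot] at hE'card
    exact (Nat.one_lt_pow two_ne_zero hpp.one_lt).ne hE'card
  obtain ⟨W, hWE, hWc, hWn, hW⟩ := PGroups.exists_central_card_prime hXp E' hE'ne
  set Z := W.comap ι with hZdef
  have hWr : W ≤ ι.range := hWE.trans (Subgroup.map_le_range _ _)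
  have hZ : Nat.card Z = p := by
    have h1 := Subgroup.card_map_of_injective (K := Z) hιinj
    rw [← h1, hZdef, Subgroup.map_comap_eq_self hWr, hW]
  have hZE : Z ≤ E := fun z hz => by
    obtain ⟨e, he, hez⟩ := hWE hz
    rwa [← hιinj hez]
  have hZc : ∀ z ∈ Z, ∀ l : L, Commute z l := fun z hz l => hιinj (by
    rw [map_mul, map_mul]
    exact (Subgroup.mem_center_iff.1 (hWc hz) (ι l)).symm)
  have hZa : ∀ z ∈ Z, a z = z := fun z hz => hιinj (by
    rw [← hta, Subgroup.mem_center_iff.1 (hWc hz) t, mul_inv_cancel_right])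
  have hEZ : ∀ e ∈ E, e⁻¹ * a e ∈ Z := by
    intro e he
    let f := QuotientGroup.mk' W
    have hmap : (E'.map f).Normal := hE'n.map f (QuotientGroup.mk'_surjective W)
    have hker : f.ker ≤ E' := (QuotientGroup.ker_mk' W).le.trans hWE
    have hcard : Nat.card (E'.map f) = p := by
      have h1 : Nat.card ((E'.map f).comap f) = Nat.card W * Nat.card (E'.map f) :=
        QuotientGroup.card_preimage_mk _ (E'.map f : Set (X ⧸ W))
      rw [Subgroup.comap_map_eq_self hker, hE'card, hW, sq] at h1
      exact (Nat.eq_of_mul_eq_mul_left hpp.pos h1).symm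
    have hle := PGroups.le_center_of_normal_card_prime (hXp.to_quotient W) _ hcard
    have h2 := Subgroup.mem_center_iff.1 (hle ⟨ι e, ⟨e, he, rfl⟩, rfl⟩) (f t)
    show ι (e⁻¹ * a e) ∈ W
    rw [map_mul, map_inv, ← hta, ← QuotientGroup.eq_one_iff (N := W)]
    show f ((ι e)⁻¹ * (t * ι e * t⁻¹)) = 1
    rw [map_mul, map_mul, map_mul, map_inv, map_inv, h2, mul_inv_cancel_right, inv_mul_cancel]
  constructor
  · rintro ⟨e, heo, hea⟩
    have he : e ∈ E := (hE e).2 (heo ▸ pow_orderOf_eq_one e)
    have hfix : ∀ z ∈ E, a z = z → z ∈ Z := by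
      intro z hz hza
      let F : Subgroup L :=
        { carrier := {x | x ∈ E ∧ a x = x}
          one_mem' := ⟨one_mem _, map_one a⟩
          mul_mem' := fun hx hy => ⟨mul_mem hx.1 hy.1, by rw [map_mul, hx.2, hy.2]⟩
          inv_mem' := fun hx => ⟨inv_mem hx.1, by rw [map_inv, hx.2]⟩ }
      have hZF : Z ≤ F := fun x hx => ⟨hZE hx, hZa x hx⟩
      have hFE : F ≤ E := fun x hx => hx.1
      obtain ⟨k, hk, hcard⟩ := (Nat.dvd_prime_pow hpp).1 (hEcard ▸ Subgroup.card_dvd_of_le hFE)
      have hk1 : k ≤ 1 := by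
        by_contra h
        have hFE' : F = E := Subgroup.eq_of_le_of_card_ge hFE
          (by rw [hEcard, hcard]; exact Nat.pow_le_pow_right hpp.pos (by omega))
        have : e ∈ F := by rw [hFE']; exact he
        exact hea this.2
      have hZF' : Z = F := Subgroup.eq_of_le_of_card_ge hZF
        (by rw [hcard, hZ]; simpa using Nat.pow_le_pow_right hpp.pos hk1)
      rw [hZF']
      exact ⟨hz, hza⟩
    obtain ⟨d, hd⟩ := hEpow e he
    set c := d⁻¹ * a d with hc
    have had : a d = d * c := by rw [hc, mul_inv_cancel_left]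
    have hd2 : d ^ p ^ 2 = 1 := by rw [sq, pow_mul, hd, (hE e).1 he]
    have hc2 : c ^ p ^ 2 = 1 :=
      PGroupTheory.pow_mul_eq_one hL hR2 (by rw [inv_pow, hd2, inv_one])
        (by rw [← map_pow, hd2, map_one])
    have hcE : c ^ p ∈ E := (hE _).2 (by rw [← pow_mul, ← sq, hc2])
    have hcom : ∀ {x : L}, x ^ p ∈ E → ∀ {y : L}, y ∈ E → Commute x y :=
      fun {_} hx {_} hy => commute_omega hL hR hEcard hEpow hZE hZ hZc hx hy
    have hcpow : c ^ p = e⁻¹ * a e := by
      obtain ⟨w, hw, hprod⟩ := hR d c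
      simp only [pow_one] at hprod
      have hKE : ⁅Subgroup.closure ({d, c} : Set L), Subgroup.closure ({d, c} : Set L)⁆ ≤ E := by
        have hEn : E.Normal := ⟨fun x hx g => (hE _).2 (conj_pow_eq_one ((hE x).1 hx))⟩
        refine PGroupTheory.commutator_closure_pair_le ?_ ?_ ?_
        · rw [Subgroup.normalizer_eq_top]; trivial
        · rw [Subgroup.normalizer_eq_top]; trivial
        · have h1 : Commute (c ^ p) d := (hcom (x := d) (by rwa [hd]) hcE).symm
          have h2 := (commute_pow_iff hL hR c d).1 h1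
          refine (hE _).2 ?_
          have key : ⁅d, c⁆ = c * (c⁻¹ * (d * c * d⁻¹)) * c⁻¹ := by
            rw [commutatorElement_def]; group
          rw [key]
          exact conj_pow_eq_one h2
      have hw1 : w = 1 := by
        rw [PGroupTheory.powerClosure_eq_bot (fun x hx => by simpa using (hE x).1 (hKE hx))] at hw
        exact Subgroup.mem_bot.1 hw
      rw [hw1, mul_one, ← had, ← map_pow, hd] at hprod
      rw [hprod, inv_mul_cancel_left]
    have hcZ : c ^ p ∈ Z := hcpow ▸ hEZ e he
    have hc1 : c ^ p ≠ 1 := fun h => hea (by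
      rw [hcpow, inv_mul_eq_one] at h
      exact h.symm)
    set u := c⁻¹ * a c with hu
    have hac : a c = c * u := by rw [hu, mul_inv_cancel_left]
    have huE : u ∈ E := hpe c (a c) (by rw [← map_pow, hZa _ hcZ])
    set v := u⁻¹ * a u with hv
    have hau : a u = u * v := by rw [hv, mul_inv_cancel_left]
    have hvZ : v ∈ Z := hEZ u huE
    have hform := iterate_formula a had hac hau (hZa v hvZ) (hcom hcE huE) (hZc v hvZ) p
    have hap : a ^ p = 1 := ha ▸ pow_orderOf_eq_one a
    rw [hap, MulAut.one_apply, mul_assoc, mul_assoc, left_eq_mul] at hform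
    have hu2 : u ^ p.choose 2 = 1 := by
      obtain ⟨k, hk⟩ := hpp.dvd_choose_self two_ne_zero (lt_of_le_of_ne hpp.two_le (Ne.symm hp))
      rw [hk, pow_mul, (hE u).1 huE, one_pow]
    rw [hu2, one_mul] at hform
    have hv1 : v ≠ 1 := fun h => hc1 (by rw [h, one_pow, mul_one] at hform; exact hform)
    have hp3 : p = 3 := by
      by_contra h3
      have h5 : 3 < p := by have := hpp.two_le; omega
      obtain ⟨k, hk⟩ := hpp.dvd_choose_self three_ne_zero h5
      rw [hk, pow_mul, (hE v).1 (hZE hvZ), one_pow, mul_one] at hform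
      exact hc1 hform
    refine ⟨hp3, ?_⟩
    have hCL : ∀ l : L, a l = l → l ∈ Z := by
      intro l hl
      by_cases hlE : l ∈ E
      · exact hfix l hlE hl
      exfalso
      obtain ⟨k, hk⟩ := IsPGroup.iff_orderOf.1 hL l
      have hk2 : 2 ≤ k := by
        by_contra h
        refine hlE ((hE l).2 ?_)
        refine orderOf_dvd_iff_pow_eq_one.1 (hk ▸ ?_)
        simpa using pow_dvd_pow p (show k ≤ 1 by omega)
      set l' := l ^ p ^ (k - 2) with hl'
      have hl'fix : a l' = l' := by rw [hl', map_pow, hl]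
      have hl'2 : l' ^ p ^ 2 = 1 := by
        rw [hl', ← pow_mul, ← pow_add, show k - 2 + 2 = k by omega, ← hk, pow_orderOf_eq_one]
      have hl'p : l' ^ p ≠ 1 := by
        rw [hl', ← pow_mul, ← pow_succ]
        exact pow_ne_one_of_lt_orderOf (pow_pos hpp.pos _).ne'
          (hk ▸ Nat.pow_lt_pow_right hpp.one_lt (by omega))
      have hl'E : l' ^ p ∈ E := (hE _).2 (by rw [← pow_mul, ← sq, hl'2])
      have hl'Z : l' ^ p ∈ Z := hfix _ hl'E (by rw [map_pow, hl'fix])
      have hgen : Subgroup.zpowers (l' ^ p) = Z := by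
        refine Subgroup.eq_of_le_of_card_ge (Subgroup.zpowers_le.2 hl'Z) ?_
        rw [hZ, Nat.card_zpowers, orderOf_eq_prime ((hE _).1 hl'E) hl'p]
      rw [← hgen] at hcZ
      obtain ⟨j, hj⟩ := Subgroup.mem_zpowers_iff.1 hcZ
      have hε : (l' ^ j)⁻¹ * c ∈ E := hpe _ _ (by
        rw [← hj, ← zpow_natCast (l' ^ j), ← zpow_natCast l', ← zpow_mul, ← zpow_mul, mul_comm])
      have hε2 := hEZ _ hε
      rw [map_mul, map_inv, map_zpow, hl'fix] at hε2
      have huZ : u ∈ Z := by
        rw [hu]
        simpa [mul_assoc] using hε2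
      exact hv1 (by rw [hv, hZa u huZ, inv_mul_cancel])
    -- the centraliser of `t`
    have hsplit : ∀ x : X, x = ι x.left * SemidirectProduct.inr x.right :=
      fun x => (SemidirectProduct.inl_left_mul_inr_right x).symm
    have hrt : ∀ b : A, Commute (SemidirectProduct.inr b : X) t := fun b => by
      refine Commute.map ?_ SemidirectProduct.inr
      obtain ⟨i, hi⟩ := Subgroup.mem_zpowers_iff.1 b.2
      apply Subtype.ext
      show (b : MulAut L) * a = a * b
      rw [← hi]
      exact ((Commute.refl a).zpow_left i).eq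
    have hcent : ∀ x : X, x ∈ Subgroup.centralizer ({t} : Set X) ↔ x.left ∈ Z := by
      intro x
      have hiff : x * t = t * x ↔ ι x.left * t = t * ι x.left := by
        conv_lhs => rw [hsplit x, mul_assoc, (hrt x.right).eq, ← mul_assoc, ← mul_assoc]
        exact mul_left_inj _
      rw [Subgroup.mem_centralizer_singleton_iff, hiff]
      constructor
      · intro h
        refine hCL _ (hιinj ?_)
        rw [← hta, ← h, mul_inv_cancel_right]
      · intro h
        exact (Subgroup.mem_center_iff.1 (hWc h) t).symm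
    set C := Subgroup.centralizer ({t} : Set X) with hCdef
    have hCcard : Nat.card C = p ^ 2 := by
      let eqv : C ≃ Z × A :=
        { toFun := fun x => (⟨x.1.left, (hcent x.1).1 x.2⟩, x.1.right)
          invFun := fun q => ⟨⟨q.1.1, q.2⟩, (hcent _).2 q.1.2⟩
          left_inv := fun _ => rfl
          right_inv := fun _ => rfl }
      rw [Nat.card_congr eqv, Nat.card_prod, hZ, Nat.card_zpowers, ha, sq]
    have hCcomm : IsMulCommutative C := IsPGroup.isMulCommutative_of_card_eq_prime_sq hCcard
    have hCC : Subgroup.centralizer (C : Set X) = C := by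
      refine le_antisymm ?_ ?_
      · have htC : t ∈ C := Subgroup.mem_centralizer_singleton_iff.2 rfl
        exact Subgroup.centralizer_le (Set.singleton_subset_iff.2 htC)
      · intro x hx
        rw [Subgroup.mem_centralizer_iff]
        intro y hy
        exact congrArg Subtype.val (mul_comm' (⟨y, hy⟩ : C) ⟨x, hx⟩)
    have hcls := PGroups.class_of_self_centralizing_sq (m + 1) C hXcard hCcard hCC
    simpa using hcls
  · rintro ⟨-, hcls⟩
    by_contra hno
    have hfixE : ∀ e ∈ E, a e = e := by
      intro e he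
      rcases eq_or_ne e 1 with rfl | h1
      · exact map_one a
      · by_contra hne
        exact hno ⟨e, orderOf_eq_prime ((hE e).1 he) h1, hne⟩
    have hcls' : Group.nilpotencyClass X = (m + 1) - 1 := by simpa using hcls
    -- the derived group has exponent `p`
    have hD : ∀ w ∈ commutator L, w ^ p = 1 := by
      have hDn : ((commutator L).map ι).Normal := by
        rw [commutator_def, Subgroup.map_commutator, ← MonoidHom.range_eq_map]
        infer_instance
      obtain ⟨k, hk⟩ := IsPGroup.iff_card.mp (hL.to_subgroup (commutator L))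
      have hk1 : k ≤ 1 := by
        by_contra h
        obtain ⟨M, hMn, hMle, hM⟩ := PGroups.exists_normal_le_card hXp (k := 2)
          ((commutator L).map ι) (by
            rw [Subgroup.card_map_of_injective hιinj, hk]
            exact Nat.pow_le_pow_right hpp.pos (by omega))
        have := commutator_isCyclic hmc
        have hMc : IsCyclic ↥((commutator L).map ι) :=
          isCyclic_of_surjective _ ((Subgroup.equivMapOfInjective _ ι hιinj).surjective)
        have hMc' : IsCyclic M := Subgroup.isCyclic_of_le hMle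
        have hME : M = E' := by
          rw [normal_sq_eq (by omega) hXcard hcls' M hM, ← normal_sq_eq (by omega) hXcard hcls' E' hE'card]
        obtain ⟨g, hg⟩ := IsCyclic.exists_ofOrder_eq_natCard (α := M)
        rw [hM] at hg
        have hgE : (g : X) ∈ E' := hME.le g.2
        obtain ⟨e, he, hge⟩ := hgE
        have hgp : g ^ p = 1 := Subtype.ext (by
          rw [SubgroupClass.coe_pow, ← hge, ← map_pow, (hE e).1 he, map_one]; rfl)
        have := Nat.le_of_dvd hpp.pos (hg ▸ orderOf_dvd_of_pow_eq_one hgp)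
        nlinarith [hpp.two_le]
      intro w hw
      have := pow_card_eq_one' (x := (⟨w, hw⟩ : commutator L))
      rw [hk] at this
      have h2 : w ^ p ^ k = 1 := by simpa using congrArg Subtype.val this
      rcases Nat.le_one_iff_eq_zero_or_eq_one.1 hk1 with rfl | rfl
      · rw [pow_zero, pow_one] at h2; rw [h2, one_pow]
      · rwa [pow_one] at h2
    have hEcen : E' ≤ Subgroup.center X := by
      rintro _ ⟨e, he, rfl⟩
      rw [Subgroup.mem_center_iff]
      intro x
      have h1 : Commute (ι x.left) (ι e) := by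
        refine Commute.map ?_ ι
        obtain ⟨d, rfl⟩ := hEpow e he
        refine ((commute_pow_iff hL hR d x.left).2 (hD _ ?_)).symm
        have key : d⁻¹ * (x.left * d * x.left⁻¹) = ⁅d⁻¹, x.left⁆ := by
          rw [commutatorElement_def]; group
        rw [key]
        exact Subgroup.commutator_mem_commutator trivial trivial
      have h2 : Commute (SemidirectProduct.inr x.right : X) (ι e) := by
        obtain ⟨i, hi⟩ := Subgroup.mem_zpowers_iff.1 x.right.2
        have ht : Commute t (ι e) := by
          have := hta e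
          rw [hfixE e he, mul_inv_eq_iff_eq_mul] at this
          exact this
        have hr : (SemidirectProduct.inr x.right : X) = t ^ i := by
          show _ = SemidirectProduct.inr a' ^ i
          rw [← map_zpow]
          exact congrArg _ (Subtype.ext (by simpa [a'] using hi.symm))
        rw [hr]
        exact ht.zpow_left i
      rw [← SemidirectProduct.inl_left_mul_inr_right x]
      exact (h1.mul_left h2).eq
    obtain ⟨hZX, -, -⟩ := PGroups.center_quotient_of_class (X := X) (n := m + 1) (by omega) hXcard hcls'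
    have hle := Subgroup.card_le_of_le hEcen
    rw [hE'card, hZX] at hle
    nlinarith [hpp.two_le]

end Cfsg.Agent.S4079
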