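import Cfsg.Statements.S4080
import Mathlib
-- import your own Cfsg.Agent.* helpers here

set_option autoImplicit false
open Cfsg

namespace Cfsg.Agent.S4080

theorem dvd_of_cast {p : ℕ} [Fact p.Prime] (c : ZMod (p ^ 2))
    (h : ZMod.castHom (dvd_pow_self p two_ne_zero) (ZMod p) c = 0) : ∃ d, c = (p : ZMod (p ^ 2)) * d := by
  haveI : NeZero (p ^ 2) := ⟨pow_ne_zero _ (Nat.Prime.ne_zero Fact.out)⟩
  obtain ⟨n, rfl⟩ := ZMod.natCast_zmod_surjective c
  rw [map_natCast, ZMod.natCast_eq_zero_iff] at h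
  obtain ⟨d, rfl⟩ := h
  exact ⟨d, by push_cast; rfl⟩

theorem torsion_dvd {p : ℕ} [Fact p.Prime] (c : ZMod (p ^ 2))
    (h : (p : ZMod (p ^ 2)) * c = 0) : ∃ d, c = (p : ZMod (p ^ 2)) * d := by
  haveI : NeZero (p ^ 2) := ⟨pow_ne_zero _ (Nat.Prime.ne_zero Fact.out)⟩
  obtain ⟨n, rfl⟩ := ZMod.natCast_zmod_surjective c
  rw [← Nat.cast_mul, ZMod.natCast_eq_zero_iff, pow_two] at h
  obtain ⟨d, rfl⟩ := Nat.dvd_of_mul_dvd_mul_left (Nat.Prime.pos Fact.out) h
  exact ⟨d, by push_cast; rfl⟩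

/-- Let p > 3 be a prime and L the direct product of two cyclic groups of order p². Every automorphism of L of order p fixes every element of order p of L. -/
theorem result {p : ℕ} [Fact p.Prime] (hp : 3 < p)
    (a : MulAut (Multiplicative (ZMod (p ^ 2) × ZMod (p ^ 2)))) (ha : orderOf a = p)
    (x : Multiplicative (ZMod (p ^ 2) × ZMod (p ^ 2))) (hx : orderOf x = p) : a x = x := by
  let A := ZMod (p ^ 2) × ZMod (p ^ 2)
  let f : AddMonoid.End A := AddMonoidHom.mk' (fun v => Multiplicative.toAdd (a (Multiplicative.ofAdd v)))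
    (fun u v => by simp [ofAdd_add, map_mul, toAdd_mul])
  have hf : ∀ v : A, f v = Multiplicative.toAdd (a (Multiplicative.ofAdd v)) := fun v => rfl
  have hpow : ∀ (k : ℕ) (v : A), (f ^ k) v = Multiplicative.toAdd ((a ^ k) (Multiplicative.ofAdd v)) := by
    intro k
    induction k with
    | zero => intro v; rfl
    | succ k ih => intro v; rw [pow_succ' f, pow_succ' a, AddMonoid.End.coe_mul, Function.comp_apply, ih, hf]; rfl
  have hfp : f ^ p = 1 := by
    ext1 v
    rw [hpow, orderOf_dvd_iff_pow_eq_one.1 (dvd_of_eq ha)]; rfl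
  set N : AddMonoid.End A := f - 1 with hN
  have hfN : f = N + 1 := by simp [hN]
  have hpp : ∀ v : A, p • (p • v) = 0 := by
    intro v
    rw [← mul_nsmul, ← pow_two]
    have hq : ∀ c : ZMod (p ^ 2), (p ^ 2) • c = 0 := fun c => by rw [nsmul_eq_mul, ZMod.natCast_self, zero_mul]
    exact Prod.ext (hq _) (hq _)
  -- reduction modulo `p`
  let π : A →+ ZMod p × ZMod p := AddMonoidHom.prodMap
    (ZMod.castHom (dvd_pow_self p two_ne_zero) (ZMod p)).toAddMonoidHom
    (ZMod.castHom (dvd_pow_self p two_ne_zero) (ZMod p)).toAddMonoidHom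
  have hker : ∀ v : A, π v = 0 ↔ ∃ w : A, v = p • w := by
    intro v
    constructor
    · intro h
      obtain ⟨d1, h1⟩ := dvd_of_cast v.1 (congrArg Prod.fst h)
      obtain ⟨d2, h2⟩ := dvd_of_cast v.2 (congrArg Prod.snd h)
      exact ⟨(d1, d2), Prod.ext (by rw [Prod.smul_fst, nsmul_eq_mul, h1]) (by rw [Prod.smul_snd, nsmul_eq_mul, h2])⟩
    · rintro ⟨w, rfl⟩
      rw [map_nsmul]
      ext <;> simp [nsmul_eq_mul]
  have hsurj : Function.Surjective π := by
    intro v
    obtain ⟨x1, h1⟩ := ZMod.castHom_surjective (dvd_pow_self p two_ne_zero) v.1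
    obtain ⟨x2, h2⟩ := ZMod.castHom_surjective (dvd_pow_self p two_ne_zero) v.2
    exact ⟨(x1, x2), Prod.ext h1 h2⟩
  let g : (ZMod p × ZMod p) →+ (ZMod p × ZMod p) := π.liftOfSurjective hsurj ⟨π.comp N, by
    intro v hv
    obtain ⟨w, rfl⟩ := (hker v).1 hv
    exact (hker _).2 ⟨N w, map_nsmul _ _ _⟩⟩
  let L : Module.End (ZMod p) (ZMod p × ZMod p) := g.toZModLinearMap p
  have hg : ∀ v, L (π v) = π (N v) := fun v => by
    show g (π v) = _
    exact AddMonoidHom.liftOfRightInverse_comp_apply _ _ _ _ v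
  have hgk : ∀ (k : ℕ) (v : A), (L ^ k) (π v) = π ((N ^ k) v) := by
    intro k
    induction k with
    | zero => intro v; rfl
    | succ k ih => intro v; rw [pow_succ' L, pow_succ' N, Module.End.mul_apply, ih, hg]; rfl
  obtain ⟨r, hr⟩ := (Commute.one_right N).exists_add_pow_prime_eq (p := p) Fact.out
  have hLp : L ^ p = 0 := by
    apply LinearMap.ext
    intro v
    obtain ⟨v, rfl⟩ := hsurj v
    rw [hgk, LinearMap.zero_apply, hker]
    rw [← hfN, hfp, one_pow] at hr
    have h0 := DFunLike.congr_fun hr v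
    refine ⟨-(N (r v)), ?_⟩
    have h0' : v = (N ^ p) v + v + p • N (r v) := by
      refine h0.trans ?_
      rw [mul_one]
      rfl
    rw [smul_neg, eq_neg_iff_add_eq_zero]
    have h1 : v + 0 = v + ((N ^ p) v + p • N (r v)) := by rw [add_zero]; refine h0'.trans ?_; abel
    exact (add_left_cancel h1).symm
  have hdim : Module.finrank (ZMod p) (ZMod p × ZMod p) = 2 := by simp
  have hN2 : ∀ v : A, ∃ w, N (N v) = p • w := by
    intro v
    have hk := Module.End.ker_pow_eq_ker_pow_finrank_of_le (f := L) (m := p) (by rw [hdim]; omega)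
    rw [hLp, LinearMap.ker_zero, hdim] at hk
    have h2 : (L ^ 2) (π v) = 0 := LinearMap.mem_ker.1 (hk ▸ Submodule.mem_top)
    rw [hgk] at h2
    obtain ⟨w, hw⟩ := (hker _).1 h2
    exact ⟨w, by rw [← hw, pow_two N]; rfl⟩
  have hN4 : ∀ m, 4 ≤ m → ∀ v : A, (N ^ m) v = 0 := by
    intro m hm v
    obtain ⟨j, rfl⟩ := Nat.exists_eq_add_of_le hm
    have he : N ^ (4 + j) = N * N * (N * N) * N ^ j := by rw [pow_add]; simp [pow_succ, mul_assoc]
    rw [he]
    show N (N (N (N ((N ^ j) v)))) = 0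
    obtain ⟨w, hw⟩ := hN2 ((N ^ j) v)
    obtain ⟨u, hu⟩ := hN2 w
    rw [hw, map_nsmul, map_nsmul, hu, hpp]
  have hmid : ∀ m, 2 ≤ m → m ≤ p → ∀ v : A, p.choose m • ((N ^ m) v) = 0 := by
    intro m hm hmp v
    rcases lt_or_eq_of_le hmp with h | h
    · obtain ⟨c, hc⟩ := Nat.Prime.dvd_choose_self Fact.out (show m ≠ 0 by omega) h
      obtain ⟨j, rfl⟩ := Nat.exists_eq_add_of_le hm
      obtain ⟨w, hw⟩ := hN2 ((N ^ j) v)
      have he : (N ^ (2 + j)) v = N (N ((N ^ j) v)) := by rw [pow_add, pow_two N]; rfl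
      rw [he, hw, hc, mul_comm, mul_smul, hpp, smul_zero]
    · rw [hN4 m (by omega) v, smul_zero]
  have hpN : ∀ v : A, p • N v = 0 := by
    intro v
    have e := (Commute.one_right N).add_pow p
    rw [← hfN, hfp] at e
    have h := DFunLike.congr_fun e v
    have happ : ∀ (s : Finset ℕ) (φ : ℕ → AddMonoid.End A), (∑ i ∈ s, φ i) v = ∑ i ∈ s, φ i v := by
      intro s φ
      exact AddMonoidHom.finset_sum_apply φ s v
    rw [happ] at h
    have hterm : ∀ m, (N ^ m * 1 ^ (p - m) * (p.choose m : AddMonoid.End A)) v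
        = p.choose m • ((N ^ m) v) := by
      intro m
      rw [one_pow, mul_one, ← Nat.cast_commute, AddMonoid.End.coe_mul, Function.comp_apply,
        AddMonoid.End.natCast_apply]
    simp only [hterm] at h
    rw [Finset.sum_range_succ'] at h
    obtain ⟨j, hj⟩ : ∃ j, p = j + 1 := ⟨p - 1, by omega⟩
    have hsum : ∑ i ∈ Finset.range p, p.choose (i + 1) • ((N ^ (i + 1)) v) = p • N v := by
      rw [Finset.sum_eq_single 0]
      · simp
      · intro i hi hi0
        exact hmid _ (by omega) (by simp at hi; omega) v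
      · intro h'; simp at h'; omega
    rw [hsum] at h
    simpa using h
  have hxp : p • (Multiplicative.toAdd x : A) = 0 := by
    rw [← toAdd_pow, orderOf_dvd_iff_pow_eq_one.1 (dvd_of_eq hx)]; rfl
  obtain ⟨y, hy⟩ : ∃ y : A, Multiplicative.toAdd x = p • y := by
    obtain ⟨d1, h1⟩ := torsion_dvd (Multiplicative.toAdd x).1 (by rw [← nsmul_eq_mul, ← Prod.smul_fst]; exact congrArg Prod.fst hxp)
    obtain ⟨d2, h2⟩ := torsion_dvd (Multiplicative.toAdd x).2 (by rw [← nsmul_eq_mul, ← Prod.smul_snd]; exact congrArg Prod.snd hxp)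
    exact ⟨(d1, d2), Prod.ext (by rw [Prod.smul_fst, nsmul_eq_mul, h1]) (by rw [Prod.smul_snd, nsmul_eq_mul, h2])⟩
  apply Multiplicative.toAdd.injective
  show f (Multiplicative.toAdd x) = Multiplicative.toAdd x
  rw [hy, hfN]
  show N (p • y) + p • y = p • y
  rw [map_nsmul, hpN, zero_add]

end Cfsg.Agent.S4080
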