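import Cfsg.Statements.S4081
import Mathlib
import Cfsg.Agent.Lib.Frobenius.Basic
import Cfsg.Agent.Lib.Frobenius.FixedPointFree
import Cfsg.Agent.Lib.Induced.Burnside
import Cfsg.Agent.Lib.ThreeOrbits.Linear
-- import your own Cfsg.Agent.* helpers here

set_option autoImplicit false
open Cfsg

namespace Cfsg.Agent.S4081

open scoped IsMulCommutative

/-- Conjugation on a normal abelian subgroup, as linear endomorphisms. -/
noncomputable def conjEnd {G : Type*} [Group G] (p : ℕ) (N : Subgroup G) [N.Normal] [IsMulCommutative N]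
    [Module (ZMod p) (Additive N)] : G →* Module.End (ZMod p) (Additive N) where
  toFun g := ((MulAut.conjNormal g : N ≃* N).toMonoidHom.toAdditive).toZModLinearMap p
  map_one' := LinearMap.ext fun u => congrArg Additive.ofMul
    (show MulAut.conjNormal (1 : G) (Additive.toMul u) = Additive.toMul u by simp)
  map_mul' a b := LinearMap.ext fun u => congrArg Additive.ofMul
    (show MulAut.conjNormal (a * b) (Additive.toMul u)
      = MulAut.conjNormal a (MulAut.conjNormal b (Additive.toMul u)) by simp [MulAut.mul_apply])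

theorem conjEnd_apply {G : Type*} [Group G] (p : ℕ) (N : Subgroup G) [N.Normal] [IsMulCommutative N]
    [Module (ZMod p) (Additive N)] (g : G) (u : Additive N) :
    ((Additive.toMul (conjEnd p N g u) : N) : G) = g * (Additive.toMul u : N) * g⁻¹ :=
  MulAut.conjNormal_apply g (Additive.toMul u)

theorem conjEnd_eq_one {G : Type*} [Group G] (p : ℕ) (N : Subgroup G) [N.Normal] [IsMulCommutative N]
    [Module (ZMod p) (Additive N)] {g : G} (hg : g ∈ N) : conjEnd p N g = 1 := by
  apply LinearMap.ext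
  intro u
  apply Additive.toMul.injective
  apply Subtype.ext
  rw [conjEnd_apply, Module.End.one_apply]
  have hc : (⟨g, hg⟩ : N) * Additive.toMul u = Additive.toMul u * ⟨g, hg⟩ := mul_comm _ _
  exact mul_inv_eq_iff_eq_mul.2 (congrArg Subtype.val hc)

/-- The `ZMod p`-module structure on an abelian subgroup of exponent `p`. -/
@[reducible] noncomputable def zmodInst {G : Type*} [Group G] (p : ℕ) (N : Subgroup G) [IsMulCommutative N]
    (h : ∀ g ∈ N, g ^ p = 1) : Module (ZMod p) (Additive N) :=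
  AddCommGroup.zmodModule (G := Additive N) (n := p) fun u =>
    Additive.toMul.injective (Subtype.ext (h _ (Additive.toMul u).2))

theorem not_orderOf_mul {G : Type*} [Group G] [Finite G] {p q : ℕ} (hp : p.Prime) (hq : q.Prime) (hpq : p ≠ q)
    (hord : ∀ g : G, g ≠ 1 → orderOf g = p ∨ orderOf g = q) :
    ∀ x y : G, orderOf x = q → orderOf y = p → x * y * x⁻¹ ≠ y := by
  intro x y hx hy h
  have hc : Commute x y := mul_inv_eq_iff_eq_mul.1 h
  have ho := hc.orderOf_mul_eq_mul_orderOf_of_coprime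
    (by rw [hx, hy]; exact (Nat.coprime_primes hq hp).2 hpq.symm)
  rw [hx, hy] at ho
  have hne : x * y ≠ 1 := fun e => by
    rw [e, orderOf_one] at ho
    exact hq.ne_one (Nat.eq_one_of_mul_eq_one_right ho.symm)
  rcases hord _ hne with e | e <;> rw [e] at ho
  · exact hq.ne_one (Nat.eq_of_mul_eq_mul_right hp.pos ((one_mul p).trans ho)).symm
  · exact hp.ne_one (Nat.eq_of_mul_eq_mul_left hq.pos ((mul_one q).trans ho)).symm

theorem forward_aux {G : Type*} [Group G] [Finite G] (p q : ℕ) [Fact p.Prime] [Fact q.Prime] (hpq : p ≠ q)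
    (hord : ∀ g : G, g ≠ 1 → orderOf g = p ∨ orderOf g = q)
    (hy : ∃ y : G, orderOf y = p) (hx : ∃ x : G, orderOf x = q)
    (htrans : ∀ g h : G, orderOf g = orderOf h → ∃ φ : MulAut G, φ g = h)
    (N : Subgroup G) [N.Characteristic] (hN : ∀ g : G, g ∈ N ↔ g = 1 ∨ orderOf g = p) :
    ∃ (p q n : ℕ) (_ : Fact p.Prime) (_ : Fact q.Prime), p ≠ q ∧ 1 ≤ n ∧ Nat.card G = p ^ n * q ∧
      (∀ P : Sylow p G, (P : Subgroup G).Normal ∧ Cfsg.IsElementaryAbelian p (P : Subgroup G)) ∧
      orderOf (p : ZMod q) = q - 1 ∧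
      ∀ x y : G, orderOf x = q → orderOf y = p → x * y * x⁻¹ ≠ y := by
  have hp : p.Prime := Fact.out
  have hq : q.Prime := Fact.out
  have hne : ∀ g : G, (∃ r : ℕ, r.Prime ∧ orderOf g = r) → g ≠ 1 := by
    rintro g ⟨r, hr, he⟩ rfl
    exact hr.ne_one (orderOf_one.symm.trans he).symm
  have hpowN : ∀ g ∈ N, g ^ p = 1 := by
    intro g hg
    rcases (hN g).1 hg with rfl | h
    · exact one_pow p
    · rw [← orderOf_dvd_iff_pow_eq_one, h]
  have hNp : IsPGroup p N := fun g => ⟨1, Subtype.ext (by simpa using hpowN g g.2)⟩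
  have hsyl : ∀ P : Sylow p G, (P : Subgroup G) = N := by
    intro P
    have hle : (P : Subgroup G) ≤ N := by
      intro g hg
      rw [hN]
      by_cases hg1 : g = 1
      · exact Or.inl hg1
      refine Or.inr ((hord g hg1).resolve_right fun e => hpq ?_)
      obtain ⟨k, hk⟩ := IsPGroup.iff_orderOf.1 P.2 ⟨g, hg⟩
      rw [Subgroup.orderOf_mk, e] at hk
      exact ((Nat.prime_dvd_prime_iff_eq hq hp).1 (hq.dvd_of_dvd_pow (dvd_of_eq hk))).symm
    exact (P.3 hNp hle).symm
  haveI : Nontrivial N := by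
    obtain ⟨y, hy⟩ := hy
    exact ⟨⟨⟨y, (hN y).2 (Or.inr hy)⟩, 1, fun h => hne y ⟨p, hp, hy⟩ (congrArg Subtype.val h)⟩⟩
  haveI hNc : IsMulCommutative N := by
    haveI : Nontrivial (Subgroup.center N) := hNp.center_nontrivial
    obtain ⟨z, hz⟩ := exists_ne (1 : Subgroup.center N)
    have hoz : orderOf ((z : N) : G) = p :=
      ((hN _).1 (z : N).2).resolve_left fun e => hz (Subtype.ext (Subtype.ext e))
    refine ⟨⟨fun a b => ?_⟩⟩
    by_cases ha : (a : G) = 1
    · rw [Subtype.ext ha (a2 := (1 : N)), one_mul, mul_one]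
    obtain ⟨φ, hφ⟩ := htrans ((z : N) : G) a (hoz.trans (((hN _).1 a.2).resolve_left ha).symm)
    have hb' : φ.symm (b : G) ∈ N := Subgroup.characteristic_iff_map_le.1 ‹_› φ.symm ⟨b, b.2, rfl⟩
    have h := congrArg Subtype.val (Subgroup.mem_center_iff.1 z.2 ⟨_, hb'⟩)
    apply Subtype.ext
    have := congrArg φ h
    simp only [Subgroup.coe_mul, map_mul, MulEquiv.apply_symm_apply, hφ] at this
    exact this.symm
  have hfp := not_orderOf_mul hp hq hpq hord
  -- the Sylow `q`-subgroup has order `q`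
  have hq2 : ¬ q ^ 2 ∣ Nat.card G := by
    intro h2
    obtain ⟨E, hE⟩ := Sylow.exists_subgroup_card_pow_prime q h2
    haveI : IsMulCommutative E := IsPGroup.isMulCommutative_of_card_eq_prime_sq hE
    have hEord : ∀ e ∈ E, e ≠ 1 → orderOf e = q := by
      intro e he he1
      refine (hord e he1).resolve_left fun h => hpq ?_
      exact (Nat.prime_dvd_prime_iff_eq hp hq).1 (hp.dvd_of_dvd_pow (hE ▸ h ▸ Subgroup.orderOf_dvd_natCard E he))
    have hfpf : ∀ a ∈ E, a ≠ 1 → N ⊓ Subgroup.centralizer {a} = ⊥ := by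
      intro a ha ha1
      rw [Subgroup.eq_bot_iff_forall]
      rintro v ⟨hv, hvc⟩
      by_contra hv1
      exact hfp a v (hEord a ha ha1) (((hN v).1 hv).resolve_left hv1)
        (mul_inv_eq_iff_eq_mul.2 (Subgroup.mem_centralizer_singleton_iff.1 hvc).symm)
    have hcyc : IsCyclic E := (Lib.Frobenius.isFPF_conj (A := E) (V := N)
      (le_top.trans (Subgroup.normalizer_eq_top N).ge) hfpf).isCyclic_of_commutative
    obtain ⟨e, he⟩ := hcyc.exists_ofOrder_eq_natCard
    rw [hE, ← Subgroup.orderOf_coe] at he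
    have he1 : (e : G) ≠ 1 := fun h => by
      rw [h, orderOf_one] at he
      exact absurd he.symm (Nat.one_lt_pow (by norm_num) hq.one_lt).ne'
    rw [hEord e e.2 he1] at he
    exact absurd he (Nat.ne_of_lt (by nlinarith [hq.two_le]))
  obtain ⟨n, hn⟩ := IsPGroup.iff_card.1 hNp
  have hn1 : 1 ≤ n := by
    rcases Nat.eq_zero_or_pos n with rfl | h
    · rw [pow_zero] at hn; exact absurd hn Finite.one_lt_card.ne'
    · exact h
  have hpn : p ^ n = p ^ (Nat.card G).factorization p := by
    obtain ⟨P⟩ : Nonempty (Sylow p G) := Sylow.nonempty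
    rw [← hn, ← hsyl P, Sylow.card_eq_multiplicity]
  obtain ⟨x, hx⟩ := hx
  have hcard : Nat.card G = p ^ n * q := by
    have hpn' := Nat.pow_right_injective hp.two_le hpn
    refine Nat.eq_of_factorization_eq Nat.card_pos.ne' (Nat.mul_ne_zero (pow_ne_zero _ hp.ne_zero) hq.ne_zero) fun r => ?_
    rw [Nat.factorization_mul (pow_ne_zero _ hp.ne_zero) hq.ne_zero, Finsupp.add_apply,
      hp.factorization_pow, hq.factorization, Finsupp.single_apply, Finsupp.single_apply]
    by_cases hr : r.Prime
    · rcases eq_or_ne p r with rfl | hrp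
      · rw [if_pos rfl, if_neg hpq.symm, add_zero]; exact hpn'.symm
      rw [if_neg hrp, zero_add]
      rcases eq_or_ne q r with rfl | hrq
      · rw [if_pos rfl]
        refine le_antisymm ?_ ?_
        · by_contra hlt
          exact hq2 ((hq.pow_dvd_iff_le_factorization Nat.card_pos.ne').2 (by omega))
        · exact hq.factorization_pos_of_dvd Nat.card_pos.ne' (hx ▸ orderOf_dvd_natCard x)
      · rw [if_neg hrq]
        refine Nat.factorization_eq_zero_of_not_dvd fun hd => ?_
        haveI := Fact.mk hr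
        obtain ⟨g, hg⟩ := exists_prime_orderOf_dvd_card' (G := G) r hd
        rcases hord g (hne g ⟨r, hr, hg⟩) with e | e
        · exact hrp (e.symm.trans hg)
        · exact hrq (e.symm.trans hg)
    · rw [Nat.factorization_eq_zero_of_not_prime _ hr, if_neg (by rintro rfl; exact hr hp), if_neg (by rintro rfl; exact hr hq), add_zero]
  -- the module
  have hmod : Module (ZMod p) (Additive N) := zmodInst p N hpowN
  set T := conjEnd p N x with hT
  have hTq : T ^ q = 1 := by rw [hT, ← map_pow, ← hx, pow_orderOf_eq_one, map_one]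
  have hT1 : T ≠ 1 := by
    intro h
    obtain ⟨v, hv⟩ := exists_ne (1 : N)
    have h' := congrArg (fun u => ((Additive.toMul u : N) : G)) (LinearMap.congr_fun h (Additive.ofMul v))
    simp only [hT, conjEnd_apply, Module.End.one_apply, toMul_ofMul] at h'
    exact hfp x v hx (((hN v).1 v.2).resolve_left fun e => hv (Subtype.ext e)) h'
  have hmap : ∀ φ : MulAut G, ∀ n ∈ N, φ n ∈ N := fun φ n hn =>
    Subgroup.characteristic_iff_map_le.1 ‹_› φ ⟨n, hn, rfl⟩
  let ψ : MulAut G → Additive N ≃+ Additive N := fun φ => MulEquiv.toAdditive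
    { toFun := fun u => ⟨φ u, hmap φ u u.2⟩
      invFun := fun u => ⟨φ.symm u, hmap φ.symm u u.2⟩
      left_inv := fun u => Subtype.ext (φ.symm_apply_apply u)
      right_inv := fun u => Subtype.ext (φ.apply_symm_apply u)
      map_mul' := fun a b => Subtype.ext (map_mul φ (a : G) (b : G)) }
  have hψval : ∀ φ u, ((Additive.toMul (ψ φ u) : N) : G) = φ ((Additive.toMul u : N) : G) := fun _ _ => rfl
  have htw : ∀ (φ : MulAut G) (i : ℕ), conjEnd p N (φ x) = T ^ i → ∀ u, ψ φ (T u) = (T ^ i) (ψ φ u) := by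
    intro φ i hi u
    rw [← hi]
    apply Additive.toMul.injective
    apply Subtype.ext
    simp only [hψval, hT, conjEnd_apply, map_mul, map_inv]
  have hmodN : ∀ g : G, ∃ i : ℕ, conjEnd p N g = T ^ i := by
    intro g
    have hcQ : Nat.card (G ⧸ N) = q := by
      have := N.card_mul_index
      rw [hn, hcard, Subgroup.index_eq_card] at this
      exact Nat.eq_of_mul_eq_mul_left (pow_pos hp.pos n) this
    have hxN : x ∉ N := fun h => ((hN x).1 h).elim (hne x ⟨q, hq, hx⟩) (fun e => hpq (e.symm.trans hx))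
    have hgen : ((g : G) : G ⧸ N) ∈ Subgroup.zpowers ((x : G) : G ⧸ N) :=
      mem_zpowers_of_prime_card (p := q) hcQ (fun e => hxN ((QuotientGroup.eq_one_iff x).1 e))
    obtain ⟨i, hi⟩ := (mem_powers_iff_mem_zpowers (x := ((x : G) : G ⧸ N))).2 hgen
    refine ⟨i, ?_⟩
    simp only [← QuotientGroup.mk_pow] at hi
    have hm : (x ^ i)⁻¹ * g ∈ N := QuotientGroup.eq.1 hi
    calc conjEnd p N g = conjEnd p N (x ^ i * ((x ^ i)⁻¹ * g)) := by group
      _ = T ^ i := by rw [map_mul, conjEnd_eq_one p N hm, mul_one, map_pow]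
  refine ⟨p, q, n, ‹_›, ‹_›, hpq, hn1, hcard, fun P => ?_, ?_, hfp⟩
  · rw [hsyl P]
    exact ⟨inferInstance, hNc, hpowN⟩
  · refine Lib.ThreeOrbits.orderOf_eq hpq T hTq hT1 ?_ ?_
    · intro i hi
      have ho : orderOf (x ^ i) = q := by
        rw [Nat.Coprime.orderOf_pow (by rw [hx]; exact (hq.coprime_iff_not_dvd).2 hi), hx]
      obtain ⟨φ, hφ⟩ := htrans x (x ^ i) (hx.trans ho.symm)
      exact ⟨ψ φ, htw φ i (by rw [hφ, map_pow])⟩
    · intro v w hv hw
      have hov : ∀ u : Additive N, u ≠ 0 → orderOf ((Additive.toMul u : N) : G) = p := fun u hu =>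
        ((hN _).1 (Additive.toMul u).2).resolve_left fun e => hu (Additive.toMul.injective (Subtype.ext e))
      obtain ⟨φ, hφ⟩ := htrans _ _ ((hov v hv).trans (hov w hw).symm)
      obtain ⟨i, hi⟩ := hmodN (φ x)
      exact ⟨ψ φ, Additive.toMul.injective (Subtype.ext ((hψval φ v).trans hφ)), i, htw φ i hi⟩

theorem forward {G : Type*} [Group G] [Finite G] (hnpp : ¬ IsPrimePow (Nat.card G)) (hnt : Nat.card G ≠ 1)
    (h3 : Nat.card (MulAction.orbitRel.Quotient (MulAut G) G) = 3) :
    ∃ (p q n : ℕ) (_ : Fact p.Prime) (_ : Fact q.Prime), p ≠ q ∧ 1 ≤ n ∧ Nat.card G = p ^ n * q ∧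
      (∀ P : Sylow p G, (P : Subgroup G).Normal ∧ Cfsg.IsElementaryAbelian p (P : Subgroup G)) ∧
      orderOf (p : ZMod q) = q - 1 ∧
      ∀ x y : G, orderOf x = q → orderOf y = p → x * y * x⁻¹ ≠ y := by
  classical
  obtain ⟨p, hp, hpd⟩ := Nat.exists_prime_and_dvd hnt
  obtain ⟨q, hq, hqd, hqp⟩ : ∃ q, q.Prime ∧ q ∣ Nat.card G ∧ q ≠ p := by
    by_contra hne
    push Not at hne
    exact hnpp ((isPrimePow_nat_iff _).2 ⟨p, _, hp,
      Nat.pos_of_ne_zero (fun e => hnt (by rw [Nat.eq_prime_pow_of_unique_prime_dvd Nat.card_pos.ne' (fun hd he => hne _ hd he), e, pow_zero])),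
      (Nat.eq_prime_pow_of_unique_prime_dvd Nat.card_pos.ne' (fun hd he => hne _ hd he)).symm⟩)
  haveI := Fact.mk hp
  haveI := Fact.mk hq
  obtain ⟨y, hy⟩ := exists_prime_orderOf_dvd_card' (G := G) p hpd
  obtain ⟨x, hx⟩ := exists_prime_orderOf_dvd_card' (G := G) q hqd
  have horb : ∀ g h : G, (Quotient.mk'' g : MulAction.orbitRel.Quotient (MulAut G) G) = Quotient.mk'' h →
      ∃ φ : MulAut G, φ g = h := by
    intro g h e
    obtain ⟨φ, hφ⟩ := MulAction.orbitRel_apply.1 (Quotient.eq''.1 e.symm)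
    exact ⟨φ, hφ⟩
  have hdiff : ∀ g h : G, (Quotient.mk'' g : MulAction.orbitRel.Quotient (MulAut G) G) = Quotient.mk'' h →
      orderOf g = orderOf h := by
    intro g h e
    obtain ⟨φ, rfl⟩ := horb g h e
    exact (MulEquiv.orderOf_eq φ g).symm
  let F : Fin 3 → MulAction.orbitRel.Quotient (MulAut G) G :=
    ![Quotient.mk'' 1, Quotient.mk'' y, Quotient.mk'' x]
  haveI : Finite (MulAction.orbitRel.Quotient (MulAut G) G) :=
    Nat.finite_of_card_ne_zero (by rw [h3]; norm_num)
  have hFinj : Function.Injective F := by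
    intro a b hab
    have h1 := hp.ne_one
    have h2 := hq.ne_one
    fin_cases a <;> fin_cases b <;> first
      | rfl
      | (exfalso; have := hdiff _ _ hab; simp [hy, hx] at this; omega)
  have hFsurj : Function.Surjective F := by
    haveI := Fintype.ofFinite (MulAction.orbitRel.Quotient (MulAut G) G)
    exact ((Fintype.bijective_iff_injective_and_card F).2 ⟨hFinj, by rw [Fintype.card_fin, ← Nat.card_eq_fintype_card, h3]⟩).2
  have hclass : ∀ g : G, g = 1 ∨ (∃ φ : MulAut G, φ y = g) ∨ ∃ φ : MulAut G, φ x = g := by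
    intro g
    obtain ⟨i, hi⟩ := hFsurj (Quotient.mk'' g)
    fin_cases i
    · left; obtain ⟨φ, rfl⟩ := horb 1 g hi; exact map_one φ
    · exact Or.inr (Or.inl (horb y g hi))
    · exact Or.inr (Or.inr (horb x g hi))
  have hord : ∀ g : G, g ≠ 1 → orderOf g = p ∨ orderOf g = q := by
    intro g hg
    rcases hclass g with h | ⟨φ, rfl⟩ | ⟨φ, rfl⟩
    · exact absurd h hg
    · exact Or.inl ((MulEquiv.orderOf_eq φ y).trans hy)
    · exact Or.inr ((MulEquiv.orderOf_eq φ x).trans hx)
  have htrans : ∀ g h : G, orderOf g = orderOf h → ∃ φ : MulAut G, φ g = h := by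
    intro g h e
    have hp1 := hp.ne_one
    have hq1 := hq.ne_one
    rcases hclass g with rfl | ⟨φ, rfl⟩ | ⟨φ, rfl⟩ <;> rcases hclass h with rfl | ⟨χ, rfl⟩ | ⟨χ, rfl⟩ <;>
      simp only [MulEquiv.orderOf_eq, orderOf_one, hy, hx] at e <;> first
        | omega
        | exact ⟨1, rfl⟩
        | (refine ⟨χ * φ⁻¹, ?_⟩; simp [MulAut.mul_apply])
  have hnoab : commutator G ≠ ⊥ := by
    intro hb
    have hcomm : Commute x y := by
      have h : x * y * x⁻¹ * y⁻¹ ∈ commutator G := Subgroup.commutator_mem_commutator (Subgroup.mem_top x) (Subgroup.mem_top y)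
      rw [hb, Subgroup.mem_bot] at h
      exact mul_inv_eq_iff_eq_mul.1 (mul_inv_eq_one.1 h)
    exact not_orderOf_mul hp hq hqp.symm hord x y hx hy (mul_inv_eq_iff_eq_mul.2 hcomm)
  obtain ⟨a, b, hab⟩ : ∃ a b, Nat.card G = p ^ a * q ^ b := by
    refine ⟨(Nat.card G).factorization p, (Nat.card G).factorization q, ?_⟩
    refine Nat.eq_of_factorization_eq Nat.card_pos.ne' (Nat.mul_ne_zero (pow_ne_zero _ hp.ne_zero) (pow_ne_zero _ hq.ne_zero)) fun r => ?_
    rw [Nat.factorization_mul (pow_ne_zero _ hp.ne_zero) (pow_ne_zero _ hq.ne_zero), Finsupp.add_apply,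
      hp.factorization_pow, hq.factorization_pow, Finsupp.single_apply, Finsupp.single_apply]
    rcases eq_or_ne p r with rfl | hpr
    · simp [hqp]
    rcases eq_or_ne q r with rfl | hqr
    · simp [hpr]
    rw [if_neg hpr, if_neg hqr, add_zero]
    by_cases hr : r.Prime
    · refine Nat.factorization_eq_zero_of_not_dvd fun hd => ?_
      haveI := Fact.mk hr
      obtain ⟨g, hg⟩ := exists_prime_orderOf_dvd_card' (G := G) r hd
      rcases hord g (fun e => hr.ne_one (by rw [← hg, e, orderOf_one])) with e | e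
      · exact hpr (e.symm.trans hg)
      · exact hqr (e.symm.trans hg)
    · exact Nat.factorization_eq_zero_of_not_prime _ hr
  haveI : Nontrivial G := Finite.one_lt_card_iff_nontrivial.1 (by have := Nat.card_pos (α := G); omega)
  haveI := Lib.Induced.Burnside.isSolvable_of_card_eq p q a b hp hq hab
  have hlt : commutator G < ⊤ := Group.IsSolvable.commutator_lt_top_of_nontrivial G
  obtain ⟨z, hz, hz1⟩ := (Subgroup.bot_or_exists_ne_one _).resolve_left hnoab
  have key : ∀ r s : ℕ, (∃ v : G, orderOf v = s) → (∀ g : G, g ≠ 1 → orderOf g = r ∨ orderOf g = s) → orderOf z = r →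
      ∀ g : G, g ∈ commutator G ↔ g = 1 ∨ orderOf g = r := by
    intro r s _ hor hzr g
    have hmem : ∀ u v : G, orderOf u = orderOf v → u ∈ commutator G → v ∈ commutator G := by
      intro u v e hu
      obtain ⟨φ, rfl⟩ := htrans u v e
      exact Subgroup.characteristic_iff_map_le.1 inferInstance φ ⟨u, hu, rfl⟩
    constructor
    · intro hg
      by_cases hg1 : g = 1
      · exact Or.inl hg1
      refine Or.inr ((hor g hg1).resolve_right fun e => hlt.not_ge fun v _ => ?_)
      by_cases hv : v = 1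
      · rw [hv]; exact one_mem _
      rcases hor v hv with e' | e'
      · exact hmem z v (hzr.trans e'.symm) hz
      · exact hmem g v (e.trans e'.symm) hg
    · rintro (rfl | e)
      · exact one_mem _
      · exact hmem z g (hzr.trans e.symm) hz
  rcases hord z hz1 with hzp | hzq
  · exact forward_aux p q hqp.symm hord ⟨y, hy⟩ ⟨x, hx⟩ htrans _ (key p q ⟨x, hx⟩ hord hzp)
  · exact forward_aux q p hqp (fun g hg => (hord g hg).symm) ⟨x, hx⟩ ⟨y, hy⟩ htrans _
      (key q p ⟨y, hy⟩ (fun g hg => (hord g hg).symm) hzq)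

theorem backward {G : Type*} [Group G] [Finite G] (p q n : ℕ) [Fact p.Prime] [Fact q.Prime]
    (hpq : p ≠ q) (hn : 1 ≤ n) (hcard : Nat.card G = p ^ n * q)
    (hP : ∀ P : Sylow p G, (P : Subgroup G).Normal ∧ Cfsg.IsElementaryAbelian p (P : Subgroup G))
    (hord : orderOf (p : ZMod q) = q - 1)
    (hfp : ∀ x y : G, orderOf x = q → orderOf y = p → x * y * x⁻¹ ≠ y) :
    Nat.card (MulAction.orbitRel.Quotient (MulAut G) G) = 3 := by
  classical
  have hp : p.Prime := Fact.out
  have hq : q.Prime := Fact.out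
  obtain ⟨P⟩ : Nonempty (Sylow p G) := Sylow.nonempty
  obtain ⟨hPn, hPc, hPe⟩ := hP P
  set N : Subgroup G := (P : Subgroup G) with hNdef
  haveI := hPn
  haveI := hPc
  have hNcard : Nat.card N = p ^ n := by
    rw [hNdef, Sylow.card_eq_multiplicity, hcard, Nat.factorization_mul (pow_ne_zero _ hp.ne_zero) hq.ne_zero,
      Finsupp.add_apply, hp.factorization_pow, Finsupp.single_eq_same, hq.factorization, Finsupp.single_eq_of_ne hpq, add_zero]
  have hidx : N.index = q := by
    have := N.card_mul_index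
    rw [hNcard, hcard] at this
    exact Nat.eq_of_mul_eq_mul_left (pow_pos hp.pos n) this
  have hNord : ∀ g ∈ N, g ≠ 1 → orderOf g = p := fun g hg hg1 =>
    (hp.eq_one_or_self_of_dvd _ (orderOf_dvd_of_pow_eq_one (hPe g hg))).resolve_left (by simpa using hg1)
  have hout : ∀ g : G, g ∉ N → orderOf g = q := by
    intro g hg
    have hgq : g ^ q ∈ N := by rw [← hidx]; exact N.pow_index_mem g
    by_cases h1 : g ^ q = 1
    · exact orderOf_eq_prime h1 fun e => hg (e ▸ one_mem N)
    · exfalso
      have ho := hNord _ hgq h1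
      have hgp : g ^ p ∉ N := by
        intro hmem
        apply hg
        have hc : ((Nat.gcdA p q : ℤ) * p + (Nat.gcdB p q) * q) = 1 := by
          have := Nat.gcd_eq_gcd_ab p q
          rw [(Nat.coprime_primes hp hq).2 hpq] at this
          push_cast at this; linarith
        rw [← zpow_one g, ← hc, zpow_add, mul_comm (Nat.gcdA p q : ℤ), mul_comm (Nat.gcdB p q), zpow_mul, zpow_mul]
        exact N.mul_mem (N.zpow_mem (by simpa using hmem) _) (N.zpow_mem (by simpa using hgq) _)
      have hopq : (g ^ p) ^ q = 1 := by rw [← pow_mul, mul_comm, pow_mul, ← orderOf_dvd_iff_pow_eq_one, ho]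
      have hog : orderOf (g ^ p) = q := orderOf_eq_prime hopq fun e => hgp (e ▸ one_mem N)
      exact hfp _ _ hog ho (mul_inv_eq_iff_eq_mul.2 (Commute.pow_pow_self g p q).eq)
  obtain ⟨x, hx⟩ := exists_prime_orderOf_dvd_card' (G := G) q (hcard ▸ dvd_mul_left q _)
  have hxN : x ∉ N := fun h => hpq ((hNord x h (fun e => hq.ne_one (by rw [← hx, e, orderOf_one]))).symm.trans hx)
  have hxc : Nat.card (Subgroup.zpowers x) = q := by rw [Nat.card_zpowers, hx]
  have hcompl : N.IsComplement' (Subgroup.zpowers x) :=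
    Subgroup.isComplement'_of_coprime (by rw [hNcard, hxc, hcard]) (by rw [hNcard, hxc]; exact ((Nat.coprime_primes hp hq).2 hpq).pow_left n)
  have hmod : Module (ZMod p) (Additive N) := zmodInst p N hPe
  set T := conjEnd p N x with hT
  have hTq : T ^ q = 1 := by rw [hT, ← map_pow, ← hx, pow_orderOf_eq_one, map_one]
  have hfix : ∀ v, T v = v → v = 0 := by
    intro v hv
    by_contra hv0
    have h' := congrArg (fun u => ((Additive.toMul u : N) : G)) hv
    simp only [hT, conjEnd_apply] at h'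
    exact hfp x _ hx (hNord _ (Additive.toMul v).2 fun e => hv0 (Additive.toMul.injective (Subtype.ext e))) h'
  -- automorphisms
  have haut : ∀ i : ℕ, ¬ q ∣ i → ∀ v w : N, v ≠ 1 → w ≠ 1 → ∃ φ : MulAut G, φ (v : G) = w ∧ φ x = x ^ i := by
    intro i hi v w hv hw
    obtain ⟨ψ, hψ, hψT⟩ := Lib.ThreeOrbits.exists_semilinear hpq hord T hTq hfix i hi (Additive.ofMul v) (Additive.ofMul w)
      (fun e => hv (Additive.ofMul.injective (e.trans ofMul_one.symm))) (fun e => hw (Additive.ofMul.injective (e.trans ofMul_one.symm)))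
    let fn : N ≃* N :=
      { toFun := fun u => Additive.toMul (ψ (Additive.ofMul u))
        invFun := fun u => Additive.toMul (ψ.symm (Additive.ofMul u))
        left_inv := fun u => by simp
        right_inv := fun u => by simp
        map_mul' := fun a b => by simp [map_add] }
    have hcop : (Nat.card (Subgroup.zpowers x)).Coprime i := by rw [hxc]; exact (hq.coprime_iff_not_dvd).2 hi
    let fg : Subgroup.zpowers x ≃* Subgroup.zpowers x :=
      { powCoprime hcop with map_mul' := fun a b => mul_pow a b i }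
    let φ0 := N.normalizerMonoidHom.comp (Subgroup.inclusion (show Subgroup.zpowers x ≤ Subgroup.normalizer (N : Set G) from N.normalizer_eq_top ▸ le_top))
    have hconj : ∀ (k : Subgroup.zpowers x) (u : N), ((φ0 k u : N) : G) = (k : G) * u * (k : G)⁻¹ := fun k u => rfl
    have hcond : ∀ k : Subgroup.zpowers x, (φ0 k).trans fn = fn.trans (φ0 (fg k)) := by
      intro k
      obtain ⟨j, hj⟩ := (mem_powers_iff_mem_zpowers (x := x)).2 k.2
      simp only at hj
      have e1 : ∀ u : N, φ0 k u = Additive.toMul ((T ^ j) (Additive.ofMul u)) := by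
        intro u
        apply Subtype.ext
        rw [hconj, hT, ← map_pow, conjEnd_apply, hj]; rfl
      have e2 : ∀ u : N, φ0 (fg k) u = Additive.toMul ((T ^ (j * i)) (Additive.ofMul u)) := by
        intro u
        apply Subtype.ext
        rw [hconj, hT, ← map_pow, conjEnd_apply, show ((fg k : Subgroup.zpowers x) : G) = (k : G) ^ i from rfl,
          ← hj, pow_mul]; rfl
      have e3 : ∀ (j : ℕ) (u : Additive N), ψ ((T ^ j) u) = (T ^ (j * i)) (ψ u) := by
        intro j
        induction j with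
        | zero => intro u; simp
        | succ j ih =>
          intro u
          rw [pow_succ, Module.End.mul_apply, ih, hψT, ← Module.End.mul_apply, ← pow_add, add_mul, one_mul]
      ext u
      simp only [MulEquiv.trans_apply, e2]
      show ((Additive.toMul (ψ (Additive.ofMul (φ0 k u))) : N) : G) = _
      rw [e1, ofMul_toMul, e3]
      rfl
    let σ : SemidirectProduct N (Subgroup.zpowers x) φ0 ≃* SemidirectProduct N (Subgroup.zpowers x) φ0 :=
      SemidirectProduct.congr fn fg hcond
    let E : SemidirectProduct N (Subgroup.zpowers x) φ0 ≃* G := SemidirectProduct.mulEquivSubgroup hcompl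
    have hEv : ∀ (a : N) (b : Subgroup.zpowers x), E ⟨a, b⟩ = (a : G) * b := fun a b => rfl
    refine ⟨(E.symm.trans σ).trans E, ?_, ?_⟩
    · have : E.symm (v : G) = ⟨v, 1⟩ := by rw [MulEquiv.symm_apply_eq, hEv]; simp
      rw [MulEquiv.trans_apply, MulEquiv.trans_apply, this]
      show E ⟨fn v, fg 1⟩ = _
      rw [hEv, map_one, OneMemClass.coe_one, mul_one]
      exact congrArg (fun u => ((Additive.toMul u : N) : G)) hψ
    · have : E.symm x = ⟨1, ⟨x, Subgroup.mem_zpowers x⟩⟩ := by rw [MulEquiv.symm_apply_eq, hEv]; simp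
      rw [MulEquiv.trans_apply, MulEquiv.trans_apply, this]
      show E ⟨fn 1, fg ⟨x, Subgroup.mem_zpowers x⟩⟩ = _
      rw [hEv, map_one, OneMemClass.coe_one, one_mul]
      rfl
  obtain ⟨y, hyN, hy1⟩ : ∃ y : G, y ∈ N ∧ y ≠ 1 := by
    refine (Subgroup.bot_or_exists_ne_one N).resolve_left fun e => ?_
    rw [e, Subgroup.card_bot] at hNcard
    exact absurd hNcard (Nat.one_lt_pow (by omega) hp.one_lt).ne
  have htr : ∀ g : G, g ≠ 1 → ∃ φ : MulAut G, φ g = if g ∈ N then y else x := by
    intro g hg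
    by_cases hgN : g ∈ N
    · obtain ⟨φ, h1, -⟩ := haut 1 hq.not_dvd_one ⟨g, hgN⟩ ⟨y, hyN⟩ (fun e => hg (congrArg Subtype.val e)) (fun e => hy1 (congrArg Subtype.val e))
      exact ⟨φ, by rw [if_pos hgN]; exact h1⟩
    · rw [if_neg hgN]
      obtain ⟨Rg, hRg⟩ : ∃ R : Sylow q G, (R : Subgroup G) = Subgroup.zpowers g := ⟨Sylow.ofCard (Subgroup.zpowers g) (by
        rw [Nat.card_zpowers, hout g hgN, hcard, Nat.factorization_mul (pow_ne_zero _ hp.ne_zero) hq.ne_zero,
          Finsupp.add_apply, hp.factorization_pow, Finsupp.single_eq_of_ne hpq.symm, hq.factorization, Finsupp.single_eq_same, zero_add, pow_one]), rfl⟩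
      obtain ⟨Rx, hRx⟩ : ∃ R : Sylow q G, (R : Subgroup G) = Subgroup.zpowers x := ⟨Sylow.ofCard (Subgroup.zpowers x) (by
        rw [hxc, hcard, Nat.factorization_mul (pow_ne_zero _ hp.ne_zero) hq.ne_zero,
          Finsupp.add_apply, hp.factorization_pow, Finsupp.single_eq_of_ne hpq.symm, hq.factorization, Finsupp.single_eq_same, zero_add, pow_one]), rfl⟩
      obtain ⟨c, hc⟩ := MulAction.exists_smul_eq G Rx Rg
      have hmem : g ∈ (Rg : Subgroup G) := hRg ▸ Subgroup.mem_zpowers g
      rw [← hc, Sylow.coe_subgroup_smul, hRx, Lib.Frobenius.mem_conj_smul] at hmem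
      obtain ⟨i, hi'⟩ := (mem_powers_iff_mem_zpowers (x := x)).2 hmem
      simp only at hi'
      have hi : ¬ q ∣ i := by
        intro hd
        rw [orderOf_dvd_iff_pow_eq_one.1 (hx.symm ▸ hd : orderOf x ∣ i)] at hi'
        apply hg
        calc g = c * (c⁻¹ * g * c) * c⁻¹ := by group
          _ = 1 := by rw [← hi']; group
      obtain ⟨φ, -, h2⟩ := haut i hi ⟨y, hyN⟩ ⟨y, hyN⟩ (fun e => hy1 (congrArg Subtype.val e)) (fun e => hy1 (congrArg Subtype.val e))
      refine ⟨φ⁻¹ * MulAut.conj c⁻¹, ?_⟩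
      rw [MulAut.mul_apply, MulAut.inv_def, MulEquiv.symm_apply_eq, h2, hi']
      simp
  let F : Fin 3 → MulAction.orbitRel.Quotient (MulAut G) G :=
    ![Quotient.mk'' 1, Quotient.mk'' y, Quotient.mk'' x]
  have hF : Function.Bijective F := by
    constructor
    · intro a b hab
      have hd : ∀ g h : G, (Quotient.mk'' g : MulAction.orbitRel.Quotient (MulAut G) G) = Quotient.mk'' h → orderOf g = orderOf h := by
        intro g h e
        obtain ⟨φ, rfl⟩ := MulAction.orbitRel_apply.1 (Quotient.eq''.1 e.symm)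
        exact (MulEquiv.orderOf_eq φ g).symm
      have h1 := hp.ne_one
      have h2 := hq.ne_one
      have hy := hNord y hyN hy1
      fin_cases a <;> fin_cases b <;> first
        | rfl
        | (exfalso; have := hd _ _ hab; simp [hy, hx] at this; omega)
    · intro z
      induction z using Quotient.inductionOn' with
      | h g =>
        by_cases hg : g = 1
        · exact ⟨0, by subst hg; rfl⟩
        obtain ⟨φ, hφ⟩ := htr g hg
        by_cases hgN : g ∈ N
        · rw [if_pos hgN] at hφ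
          exact ⟨1, Quotient.eq''.2 (MulAction.orbitRel_apply.2 ⟨φ, hφ⟩)⟩
        · rw [if_neg hgN] at hφ
          exact ⟨2, Quotient.eq''.2 (MulAction.orbitRel_apply.2 ⟨φ, hφ⟩)⟩
  rw [← Nat.card_congr (Equiv.ofBijective F hF), Nat.card_fin]

/-- Let G be a finite group whose order is not a prime power. Then the automorphism group of G has exactly three orbits on G if and only if there are distinct primes p, q with #G = pⁿ·q (n ≥ 1) such that G has a normal elementary abelian Sylow p-subgroup P, p is a primitive root modulo q (the multiplicative order of p mod q is q − 1), and every element of order q of G acts on P without non-identity fixed points. -/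
theorem result {G : Type*} [Group G] [Finite G] (hnpp : ¬ IsPrimePow (Nat.card G)) (hnt : Nat.card G ≠ 1) :
    Nat.card (MulAction.orbitRel.Quotient (MulAut G) G) = 3 ↔
    ∃ (p q n : ℕ) (_ : Fact p.Prime) (_ : Fact q.Prime), p ≠ q ∧ 1 ≤ n ∧ Nat.card G = p ^ n * q ∧
      (∀ P : Sylow p G, (P : Subgroup G).Normal ∧ Cfsg.IsElementaryAbelian p (P : Subgroup G)) ∧
      orderOf (p : ZMod q) = q - 1 ∧
      ∀ x y : G, orderOf x = q → orderOf y = p → x * y * x⁻¹ ≠ y := by
  constructor
  · exact forward hnpp hnt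
  · rintro ⟨p, q, n, _, _, hpq, hn, hcard, hP, hord, hfp⟩
    exact backward p q n hpq hn hcard hP hord hfp

end Cfsg.Agent.S4081
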