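import Cfsg.Statements.S4082
import Cfsg.Agent.Lib.TwoGroups.Recognition

set_option autoImplicit false
set_option linter.style.haveILetI false
open Cfsg

namespace Cfsg.Agent.S4082

/-- An element conjugating a finite subgroup into itself normalises it. -/
theorem mem_normalizer_of_map {G : Type*} [Group G] [Finite G] {Q : Subgroup G} {y : G}
    (h : ∀ q ∈ Q, y * q * y⁻¹ ∈ Q) : y ∈ Subgroup.normalizer (Q : Set G) := by
  have heq : Q.map (MulAut.conj y).toMonoidHom = Q := Subgroup.eq_of_le_of_card_ge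
    (by rintro _ ⟨q, hq, rfl⟩; exact h q hq)
    (by rw [← Nat.card_congr (Q.equivMapOfInjective _ (MulAut.conj y).injective).toEquiv])
  intro q
  refine ⟨h q, fun hq => ?_⟩
  obtain ⟨r, hr, hre⟩ := heq.ge hq
  rwa [← mul_left_cancel (mul_right_cancel (show y * r * y⁻¹ = y * q * y⁻¹ from hre))]

/-- A centralizer lies in the normalizer. -/
theorem mem_normalizer_of_mem_centralizer {G : Type*} [Group G] [Finite G] {Q : Subgroup G} {c : G}
    (hc : c ∈ Subgroup.centralizer (Q : Set G)) : c ∈ Subgroup.normalizer (Q : Set G) :=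
  mem_normalizer_of_map fun q hq => by
    rw [← Subgroup.mem_centralizer_iff.1 hc q hq, mul_inv_cancel_right]; exact hq

/-- An element normalising a nontrivial `p`-subgroup acts trivially or as an inverting involution. -/
theorem inverts {G : Type*} [Group G] [Finite G] {p : ℕ} [Fact p.Prime] (hp : p ≠ 2)
    (hall : ∀ H : Subgroup G, (∀ S : Sylow p ↥H, (S : Subgroup ↥H).Normal) →
      (∀ (S : Sylow p ↥H) [(S : Subgroup ↥H).Normal], IsCyclic (↥H ⧸ (S : Subgroup ↥H))) →
      IsCyclic H ∨ (∃ n : ℕ, Nonempty (H ≃* DihedralGroup (p ^ n))))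
    (R : Subgroup G) (hR : IsPGroup p R) {x : G} (hx : x ∈ Subgroup.normalizer (R : Set G))
    (hxC : x ∉ Subgroup.centralizer (R : Set G)) :
    orderOf x = 2 ∧ ∀ r ∈ R, x * r * x⁻¹ = r⁻¹ := by
  classical
  have hRH : R ≤ R ⊔ Subgroup.zpowers x := le_sup_left
  have hxH : x ∈ R ⊔ Subgroup.zpowers x := Subgroup.mem_sup_right (Subgroup.mem_zpowers x)
  set H := R ⊔ Subgroup.zpowers x with hH
  have hn : (R.subgroupOf H).Normal :=
    (Subgroup.normal_subgroupOf_iff_le_normalizer hRH).2
      (sup_le Subgroup.le_normalizer (Subgroup.zpowers_le.2 hx))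
  haveI := hn
  let xH : H := ⟨x, hxH⟩
  have hgen : ∀ h : H, ∃ i : ℤ, (xH ^ i)⁻¹ * h ∈ R.subgroupOf H := by
    intro h
    suffices H ≤ ((Subgroup.zpowers (QuotientGroup.mk (s := R.subgroupOf H) xH)).comap
        (QuotientGroup.mk' (R.subgroupOf H))).map H.subtype by
      obtain ⟨h', hh', he⟩ := this h.2
      obtain rfl : h' = h := Subtype.ext he
      obtain ⟨i, hi⟩ := Subgroup.mem_zpowers_iff.1 (show QuotientGroup.mk h' ∈ _ from hh')
      rw [← QuotientGroup.mk_zpow, QuotientGroup.eq] at hi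
      exact ⟨i, hi⟩
    refine sup_le (fun a ha => ⟨⟨a, hRH ha⟩, ?_, rfl⟩)
      (Subgroup.zpowers_le.2 ⟨xH, Subgroup.mem_zpowers _, rfl⟩)
    show QuotientGroup.mk (⟨a, hRH ha⟩ : H) ∈ Subgroup.zpowers _
    rw [(QuotientGroup.eq_one_iff (⟨a, hRH ha⟩ : H)).2 (Subgroup.mem_subgroupOf.2 ha)]
    exact one_mem _
  have hle : ∀ S : Sylow p H, R.subgroupOf H ≤ (S : Subgroup H) := fun S => by
    have h := S.is_maximal' ((hR.of_equiv (Subgroup.subgroupOfEquivOfLe hRH).symm)
      |>.to_sup_of_normal_left S.isPGroup') le_sup_right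
    exact h ▸ le_sup_left
  have hSn : ∀ S : Sylow p H, (S : Subgroup H).Normal := by
    intro S
    have hfix : ∀ (i : ℤ), ∀ s ∈ (S : Subgroup H), xH ^ i * s * (xH ^ i)⁻¹ ∈ (S : Subgroup H) := by
      intro i s hs
      obtain ⟨j, hj⟩ := hgen s
      set u := (xH ^ j)⁻¹ * s with hu
      have h1 : xH ^ i * u * (xH ^ i)⁻¹ ∈ (S : Subgroup H) := hle S (hn.conj_mem u hj _)
      have h2 : xH ^ j ∈ (S : Subgroup H) := by
        rw [show xH ^ j = s * u⁻¹ by rw [hu]; group]
        exact mul_mem hs (inv_mem (hle S hj))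
      rw [show xH ^ i * s * (xH ^ i)⁻¹ = xH ^ j * (xH ^ i * u * (xH ^ i)⁻¹) by rw [hu]; group]
      exact mul_mem h2 h1
    refine ⟨fun s hs g => ?_⟩
    obtain ⟨i, hi⟩ := hgen g
    set u := (xH ^ i)⁻¹ * g with hu
    rw [show g * s * g⁻¹ = xH ^ i * (u * s * u⁻¹) * (xH ^ i)⁻¹ by rw [hu]; group]
    exact hfix i _ (mul_mem (mul_mem (hle S hi) hs) (inv_mem (hle S hi)))
  have hquot : ∀ (S : Sylow p H) [(S : Subgroup H).Normal],
      IsCyclic (H ⧸ (S : Subgroup H)) := by
    intro S _
    refine isCyclic_iff_exists_zpowers_eq_top.2 ⟨QuotientGroup.mk xH, eq_top_iff.2 fun q _ => ?_⟩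
    obtain ⟨h, rfl⟩ := QuotientGroup.mk_surjective q
    obtain ⟨i, hi⟩ := hgen h
    refine Subgroup.mem_zpowers_iff.2 ⟨i, ?_⟩
    rw [← QuotientGroup.mk_zpow, QuotientGroup.eq]
    exact hle S hi
  have hnc : ¬ ∀ r : G, ∀ hr : r ∈ R, (⟨r, hRH hr⟩ : H) * xH = xH * ⟨r, hRH hr⟩ :=
    fun h => hxC (Subgroup.mem_centralizer_iff.2 fun r hr => congrArg Subtype.val (h r hr))
  rcases hall H hSn hquot with h | ⟨m, ⟨f⟩⟩
  · haveI := h
    letI := IsCyclic.commGroup (α := H)
    exact absurd (fun r hr => mul_comm _ _) hnc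
  have hrot : ∀ (r : G) (hr : r ∈ R), ∃ j, f ⟨r, hRH hr⟩ = DihedralGroup.r j := by
    intro r hr
    rcases hfr : f ⟨r, hRH hr⟩ with j | j
    · exact ⟨j, rfl⟩
    exfalso
    obtain ⟨k, hk⟩ := IsPGroup.iff_orderOf.1 hR ⟨r, hr⟩
    rw [Subgroup.orderOf_mk] at hk
    have h2 : orderOf (⟨r, hRH hr⟩ : H) = 2 := by
      rw [← f.orderOf_eq, hfr, DihedralGroup.orderOf_sr]
    rw [Subgroup.orderOf_mk, hk] at h2
    exact hp ((Nat.prime_dvd_prime_iff_eq Nat.prime_two (Fact.out : p.Prime)).1
      (Nat.prime_two.dvd_of_dvd_pow (n := k) (by rw [h2]))).symm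
  rcases hfx : f xH with i | i
  · refine absurd (fun r hr => f.injective ?_) hnc
    obtain ⟨j, hj⟩ := hrot r hr
    rw [map_mul, map_mul, hj, hfx, DihedralGroup.r_mul_r, DihedralGroup.r_mul_r, add_comm]
  refine ⟨?_, fun r hr => ?_⟩
  · rw [← Subgroup.orderOf_mk x hxH, ← f.orderOf_eq, hfx, DihedralGroup.orderOf_sr]
  · obtain ⟨j, hj⟩ := hrot r hr
    have h : xH * ⟨r, hRH hr⟩ * xH⁻¹ = (⟨r, hRH hr⟩ : H)⁻¹ := f.injective (by
      rw [map_mul, map_mul, map_inv, map_inv, hj, hfx]; simp)
    exact congrArg Subtype.val h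

/-- Let p be an odd prime and G a finite group with Sylow p-subgroup P. Say that G has restricted p-by-cyclic subgroups when every subgroup H of G whose Sylow p-subgroup is normal in H with cyclic quotient is itself cyclic or dihedral of order 2pⁿ for some n. Then G has restricted p-by-cyclic subgroups if and only if P is cyclic and one of the following holds: (1) N_G(P) = C_G(P); or (2) N_G(P)/C_G(P) has order 2 and, for the subgroup Q of order p of P, the centralizer C_G(Q) is abelian and every element of N_G(Q) outside C_G(Q) is an involution inverting every element of C_G(Q). -/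
theorem result {G : Type*} [Group G] [Finite G] {p : ℕ}
    [Fact p.Prime] (hp : p ≠ 2) (P : Sylow p G) :
    (∀ H : Subgroup G, (∀ S : Sylow p ↥H, (S : Subgroup ↥H).Normal) →
        (∀ (S : Sylow p ↥H) [(S : Subgroup ↥H).Normal], IsCyclic (↥H ⧸ (S : Subgroup ↥H))) →
        IsCyclic H ∨ (∃ n : ℕ, Nonempty (H ≃* DihedralGroup (p ^ n)))) ↔
    (IsCyclic P ∧
      (Subgroup.normalizer ((P : Subgroup G) : Set G) = Subgroup.centralizer ((P : Subgroup G) : Set G) ∨
       ((Subgroup.centralizer ((P : Subgroup G) : Set G)).relIndex (Subgroup.normalizer ((P : Subgroup G) : Set G)) = 2 ∧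
        ∀ Q : Subgroup G, Q ≤ P → Nat.card Q = p →
          IsMulCommutative ↥(Subgroup.centralizer (Q : Set G)) ∧
          ∀ x : G, x ∈ Subgroup.normalizer (Q : Set G) → x ∉ Subgroup.centralizer (Q : Set G) →
            orderOf x = 2 ∧ ∀ c : G, c ∈ Subgroup.centralizer (Q : Set G) → x * c * x⁻¹ = c⁻¹))) := by
  classical
  constructor
  · intro hall
    have hPc : IsCyclic P := by
      have htop : ∀ S : Sylow p (P : Subgroup G), (S : Subgroup (P : Subgroup G)) = ⊤ := fun S =>
        (S.is_maximal' (show IsPGroup p (⊤ : Subgroup (P : Subgroup G)) from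
          P.isPGroup'.to_subgroup ⊤) le_top).symm
      rcases hall (P : Subgroup G) (fun S => by rw [htop S]; infer_instance) (fun S _ => by
          haveI : Subsingleton ((P : Subgroup G) ⧸ (S : Subgroup (P : Subgroup G))) := by
            rw [htop S]; exact QuotientGroup.subsingleton_quotient_top
          infer_instance) with h | ⟨n, ⟨e⟩⟩
      · exact h
      · exfalso
        obtain ⟨k, hk⟩ := IsPGroup.iff_card.1 P.isPGroup'
        rw [Nat.card_congr e.toEquiv, DihedralGroup.nat_card] at hk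
        exact hp ((Nat.prime_dvd_prime_iff_eq Nat.prime_two (Fact.out : p.Prime)).1
          (Nat.prime_two.dvd_of_dvd_pow ⟨_, hk.symm⟩)).symm
    refine ⟨hPc, ?_⟩
    by_cases hNC : Subgroup.normalizer ((P : Subgroup G) : Set G) ≤
        Subgroup.centralizer ((P : Subgroup G) : Set G)
    · exact Or.inl (le_antisymm hNC (fun c hc => mem_normalizer_of_mem_centralizer hc))
    right
    obtain ⟨x, hxN, hxC⟩ := SetLike.not_le_iff_exists.1 hNC
    have hinv := fun y hy hy' => inverts hp hall (P : Subgroup G) P.isPGroup' (x := y) hy hy'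
    refine ⟨?_, fun Q hQP hQ => ?_⟩
    · rw [Subgroup.relIndex, Subgroup.index_eq_two_iff]
      refine ⟨⟨x, hxN⟩, fun b => ?_⟩
      show Xor ((b : G) * x ∈ Subgroup.centralizer ((P : Subgroup G) : Set G))
        ((b : G) ∈ Subgroup.centralizer ((P : Subgroup G) : Set G))
      by_cases hb : (b : G) ∈ Subgroup.centralizer ((P : Subgroup G) : Set G)
      · exact Or.inr ⟨hb, fun h => hxC (by
          have := mul_mem (inv_mem hb) h; rwa [inv_mul_cancel_left] at this)⟩
      · refine Or.inl ⟨Subgroup.mem_centralizer_iff.2 fun r hr => ?_, hb⟩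
        have h1 : (b : G) * x * r * ((b : G) * x)⁻¹ = r := by
          calc (b : G) * x * r * ((b : G) * x)⁻¹ = (b : G) * (x * r * x⁻¹) * (b : G)⁻¹ := by group
            _ = (b : G) * r⁻¹ * (b : G)⁻¹ := by rw [(hinv x hxN hxC).2 r hr]
            _ = r := by rw [(hinv b b.2 hb).2 r⁻¹ (inv_mem hr), inv_inv]
        exact (mul_inv_eq_iff_eq_mul.1 h1).symm
    have hQp : IsPGroup p Q := IsPGroup.of_card (n := 1) (by rw [hQ, pow_one])
    have hchar : ∀ y ∈ Subgroup.normalizer ((P : Subgroup G) : Set G),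
        y ∈ Subgroup.normalizer (Q : Set G) := by
      intro y hy
      refine mem_normalizer_of_map fun q hq => ?_
      have h1 : y * q * y⁻¹ ∈ (P : Subgroup G) := (Subgroup.mem_normalizer_iff.1 hy q).1 (hQP hq)
      haveI := hPc
      have heq : Subgroup.zpowers (⟨y * q * y⁻¹, h1⟩ : (P : Subgroup G)) ≤
          Q.subgroupOf (P : Subgroup G) := by
        obtain ⟨g, hg⟩ := isCyclic_iff_exists_zpowers_eq_top.1 hPc
        by_cases hq1 : q = 1
        · subst hq1; simp [Subgroup.mem_subgroupOf]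
        have hqo : orderOf q = p := by
          refine orderOf_eq_prime ?_ hq1
          have := pow_card_eq_one' (G := Q) (x := ⟨q, hq⟩)
          rw [hQ] at this
          exact congrArg Subtype.val this
        have h := Lib.TwoGroups.Recognition.eq_of_card_eq_of_le_zpowers (x := g)
          (K₁ := Subgroup.zpowers (⟨y * q * y⁻¹, h1⟩ : (P : Subgroup G)))
          (K₂ := Q.subgroupOf (P : Subgroup G)) (hg ▸ le_top) (hg ▸ le_top) (by
            rw [Nat.card_zpowers, Subgroup.orderOf_mk,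
              Nat.card_congr (Subgroup.subgroupOfEquivOfLe hQP).toEquiv, hQ, ← MulAut.conj_apply,
              MulEquiv.orderOf_eq, hqo])
        exact h.le
      exact heq (Subgroup.mem_zpowers _)
    have hxQN := hchar x hxN
    have hxQC : x ∉ Subgroup.centralizer (Q : Set G) := by
      intro h
      obtain ⟨q, hq1⟩ := (Subgroup.nontrivial_iff_exists_ne_one Q).1
        (Finite.one_lt_card_iff_nontrivial.1 (hQ ▸ (Fact.out : p.Prime).one_lt))
      have h1 : x * q * x⁻¹ = q := by
        rw [← Subgroup.mem_centralizer_iff.1 h q hq1.1, mul_inv_cancel_right]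
      rw [(hinv x hxN hxC).2 q (hQP hq1.1)] at h1
      have h2 : q ^ 2 = 1 := by rw [pow_two]; nth_rewrite 1 [← h1]; exact inv_mul_cancel q
      have h3 := pow_card_eq_one' (G := Q) (x := ⟨q, hq1.1⟩)
      rw [hQ] at h3
      refine hq1.2 (orderOf_eq_one_iff.1 (Nat.eq_one_of_dvd_coprimes ?_
        (orderOf_dvd_of_pow_eq_one h2) (orderOf_dvd_of_pow_eq_one (congrArg Subtype.val h3))))
      exact ((Nat.coprime_primes Nat.prime_two (Fact.out : p.Prime)).2 hp.symm)
    have hQinv := fun y hy hy' => inverts hp hall Q hQp (x := y) hy hy'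
    have hinvC : ∀ (y : G), y ∈ Subgroup.normalizer (Q : Set G) →
        y ∉ Subgroup.centralizer (Q : Set G) → ∀ c ∈ Subgroup.centralizer (Q : Set G),
        y * c * y⁻¹ = c⁻¹ := by
      intro y hy hy' c hc
      have hy2 : y * y = 1 := by
        rw [← pow_two, ← (hQinv y hy hy').1, pow_orderOf_eq_one]
      have hyc := (hQinv (y * c) (mul_mem hy (mem_normalizer_of_mem_centralizer hc))
        (fun h => hy' (by have := mul_mem h (inv_mem hc); rwa [mul_inv_cancel_right] at this))).1
      have h2 : y * c * (y * c) = 1 := by rw [← pow_two, ← hyc, pow_orderOf_eq_one]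
      rw [inv_eq_of_mul_eq_one_right hy2]
      exact eq_inv_of_mul_eq_one_left (by rw [← h2]; group)
    refine ⟨⟨⟨fun a b => Subtype.ext ?_⟩⟩, fun y hy hy' => ⟨(hQinv y hy hy').1, hinvC y hy hy'⟩⟩
    have h1 := hinvC x hxQN hxQC _ (mul_mem a.2 b.2)
    rw [show x * ((a : G) * b) * x⁻¹ = x * a * x⁻¹ * (x * b * x⁻¹) by group,
      hinvC x hxQN hxQC _ a.2, hinvC x hxQN hxQC _ b.2, mul_inv_rev] at h1
    have h2 := congrArg (fun g => g⁻¹) h1
    simp only [mul_inv_rev, inv_inv] at h2
    exact h2.symm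
  · rintro ⟨hPc, hNC⟩ H hnorm hquot
    let S : Sylow p H := Classical.arbitrary _
    haveI := hnorm S
    haveI := hquot S
    have hScop : (S : Subgroup H).index.Coprime p :=
      ((Fact.out : p.Prime).coprime_iff_not_dvd.2 S.not_dvd_index).symm
    obtain ⟨q, hq⟩ := isCyclic_iff_exists_zpowers_eq_top.1 (hquot S)
    obtain ⟨c, rfl⟩ := QuotientGroup.mk_surjective q
    have hqo : orderOf (QuotientGroup.mk c : H ⧸ (S : Subgroup H)) = (S : Subgroup H).index := by
      rw [Subgroup.index_eq_card, ← Nat.card_zpowers, hq, Subgroup.card_top]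
    obtain ⟨k, hk⟩ := IsPGroup.iff_card.1 S.isPGroup'
    set c' := c ^ p ^ k with hc'
    have hc'q : orderOf (QuotientGroup.mk c' : H ⧸ (S : Subgroup H)) = (S : Subgroup H).index := by
      rw [hc', QuotientGroup.mk_pow, Nat.Coprime.orderOf_pow, hqo]
      rw [hqo]
      exact Nat.Coprime.pow_right k hScop
    have hc'o : orderOf c' = (S : Subgroup H).index := by
      refine Nat.dvd_antisymm (orderOf_dvd_of_pow_eq_one ?_) ?_
      · rw [hc', ← pow_mul, mul_comm, pow_mul]
        have hm : c ^ (S : Subgroup H).index ∈ (S : Subgroup H) := Subgroup.pow_index_mem _ c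
        have := pow_card_eq_one' (G := (S : Subgroup H)) (x := ⟨_, hm⟩)
        rw [hk] at this
        exact congrArg Subtype.val this
      · rw [← hc'q]
        exact orderOf_map_dvd (QuotientGroup.mk' (S : Subgroup H)) c'
    -- move `S` into `P`
    obtain ⟨Q₀, hQ₀⟩ := (S.isPGroup'.map H.subtype).exists_le_sylow
    obtain ⟨g, hg⟩ := MulAction.exists_smul_eq G Q₀ P
    let ψ : H →* G := (MulAut.conj g).toMonoidHom.comp H.subtype
    have hψ : Function.Injective ψ := (MulAut.conj g).injective.comp Subtype.val_injective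
    let R := (S : Subgroup H).map ψ
    have hRP : R ≤ (P : Subgroup G) := by
      rintro _ ⟨s, hs, rfl⟩
      rw [← hg, Sylow.coe_subgroup_smul]
      exact Subgroup.smul_mem_pointwise_smul (s : G) _ _ (hQ₀ ⟨s, hs, rfl⟩)
    haveI := hPc
    haveI hScyc : IsCyclic (S : Subgroup H) := by
      haveI : IsCyclic R := isCyclic_of_injective (Subgroup.inclusion hRP)
        (Subgroup.inclusion_injective hRP)
      exact isCyclic_of_surjective ((S : Subgroup H).equivMapOfInjective ψ hψ).symm.toMonoidHom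
        (MulEquiv.surjective _)
    obtain ⟨s, hs⟩ := IsCyclic.exists_ofOrder_eq_natCard (α := (S : Subgroup H))
    by_cases hcomm : Commute (s : H) c'
    · left
      refine isCyclic_of_orderOf_eq_card ((s : H) * c') ?_
      rw [hcomm.orderOf_mul_eq_mul_orderOf_of_coprime, Subgroup.orderOf_coe, hs, hc'o,
        (S : Subgroup H).card_mul_index]
      rw [Subgroup.orderOf_coe, hs, hc'o, hk]
      exact Nat.Coprime.pow_left k hScop.symm
    have hRN : ψ c' ∈ Subgroup.normalizer (R : Set G) := mem_normalizer_of_map fun a ha => by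
      obtain ⟨t, ht, rfl⟩ := ha
      exact ⟨c' * t * c'⁻¹, (hnorm S).conj_mem t ht c', by rw [map_mul, map_mul, map_inv]⟩
    have hPR : (P : Subgroup G) ≤ Subgroup.centralizer (R : Set G) := fun a ha =>
      Subgroup.mem_centralizer_iff.2 fun r hr => by
        letI := IsCyclic.commGroup (α := (P : Subgroup G))
        exact congrArg Subtype.val (mul_comm (⟨r, hRP hr⟩ : (P : Subgroup G)) ⟨a, ha⟩)
    have hψnc : ψ c' ∉ Subgroup.centralizer (R : Set G) := fun h => hcomm (hψ (by
      rw [map_mul, map_mul]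
      exact Subgroup.mem_centralizer_iff.1 h _ ⟨_, s.2, rfl⟩))
    rcases hNC with hNC | ⟨-, hQC⟩
    · refine absurd ?_ hψnc
      set x := ψ c'
      have hPx : (P : Subgroup G).map (MulAut.conj x).toMonoidHom ≤ Subgroup.centralizer (R : Set G) := by
        rintro _ ⟨a, ha, rfl⟩
        refine Subgroup.mem_centralizer_iff.2 fun r hr => ?_
        have hr' : x⁻¹ * r * x ∈ R := (Subgroup.mem_normalizer_iff''.1 hRN r).1 hr
        have h := Subgroup.mem_centralizer_iff.1 (hPR ha) _ hr'
        show r * (x * a * x⁻¹) = x * a * x⁻¹ * r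
        calc r * (x * a * x⁻¹) = x * (x⁻¹ * r * x * a) * x⁻¹ := by group
          _ = x * (a * (x⁻¹ * r * x)) * x⁻¹ := by rw [h]
          _ = x * a * x⁻¹ * r := by group
      let P₁ : Sylow p (Subgroup.centralizer (R : Set G)) := P.subtype hPR
      let P₂ : Sylow p (Subgroup.centralizer (R : Set G)) := (x • P).subtype (by
        rw [Sylow.coe_subgroup_smul]; exact hPx)
      obtain ⟨d, hd⟩ := MulAction.exists_smul_eq (Subgroup.centralizer (R : Set G)) P₂ P₁
      have hdx : (d : G) * x ∈ Subgroup.normalizer ((P : Subgroup G) : Set G) := by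
        refine mem_normalizer_of_map fun a ha => ?_
        have h2 : x * a * x⁻¹ ∈ Subgroup.centralizer (R : Set G) := hPx ⟨a, ha, rfl⟩
        have h3 : (⟨x * a * x⁻¹, h2⟩ : Subgroup.centralizer (R : Set G)) ∈
            (P₂ : Subgroup (Subgroup.centralizer (R : Set G))) := by
          show x * a * x⁻¹ ∈ ((x • P : Sylow p G) : Subgroup G)
          rw [Sylow.coe_subgroup_smul]
          exact Subgroup.smul_mem_pointwise_smul a _ _ ha
        have h4 : d * (⟨x * a * x⁻¹, h2⟩ : Subgroup.centralizer (R : Set G)) * d⁻¹ ∈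
            ((d • P₂ : Sylow p (Subgroup.centralizer (R : Set G))) :
              Subgroup (Subgroup.centralizer (R : Set G))) := by
          rw [Sylow.coe_subgroup_smul]
          exact Subgroup.smul_mem_pointwise_smul _ _ _ h3
        rw [hd] at h4
        have h5 : ((d * (⟨x * a * x⁻¹, h2⟩ : Subgroup.centralizer (R : Set G)) * d⁻¹ :
            Subgroup.centralizer (R : Set G)) : G) ∈ (P : Subgroup G) := h4
        rw [show (d : G) * x * a * ((d : G) * x)⁻¹ = (d : G) * (x * a * x⁻¹) * (d : G)⁻¹ by group]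
        exact h5
      have hdC : (d : G) * x ∈ Subgroup.centralizer (R : Set G) := by
        rw [hNC] at hdx
        exact Subgroup.centralizer_le hRP hdx
      have := mul_mem (inv_mem d.2) hdC
      rwa [inv_mul_cancel_left] at this
    -- the dihedral case
    right
    have hk0 : k ≠ 0 := by
      rintro rfl
      rw [pow_zero, ← hs, orderOf_eq_one_iff] at hk
      exact hcomm (by rw [show (s : H) = 1 from congrArg Subtype.val hk]; exact Commute.one_left _)
    set w : G := ψ ((s : H) ^ p ^ (k - 1)) with hw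
    have hwo : orderOf w = p := by
      rw [hw, orderOf_injective ψ hψ, orderOf_pow' _ (pow_ne_zero _ (Fact.out : p.Prime).ne_zero),
        Subgroup.orderOf_coe, hs, hk,
        Nat.gcd_eq_right (Nat.pow_dvd_pow p (Nat.sub_le k 1)),
        Nat.pow_div (Nat.sub_le k 1) (Fact.out : p.Prime).pos,
        show k - (k - 1) = 1 by omega, pow_one]
    let Q := Subgroup.zpowers w
    have hwR : w ∈ R := ⟨_, pow_mem s.2 _, rfl⟩
    have hQP : Q ≤ (P : Subgroup G) := Subgroup.zpowers_le.2 (hRP hwR)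
    have hQcard : Nat.card Q = p := by rw [Nat.card_zpowers, hwo]
    obtain ⟨hab, hinv⟩ := hQC Q hQP hQcard
    have hRC : R ≤ Subgroup.centralizer (Q : Set G) := fun a ha =>
      Subgroup.centralizer_le (Subgroup.zpowers_le.2 hwR : Q ≤ R) (hPR (hRP ha))
    have hxQ : ψ c' ∈ Subgroup.normalizer (Q : Set G) := mem_normalizer_of_map fun a ha => by
      obtain ⟨i, rfl⟩ := Subgroup.mem_zpowers_iff.1 ha
      rw [← conj_zpow]
      refine zpow_mem ?_ i
      have hm : ψ c' * w * (ψ c')⁻¹ ∈ R := (Subgroup.mem_normalizer_iff.1 hRN w).1 hwR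
      haveI : IsCyclic R := isCyclic_of_injective (Subgroup.inclusion hRP)
        (Subgroup.inclusion_injective hRP)
      obtain ⟨g₀, hg₀⟩ := isCyclic_iff_exists_zpowers_eq_top.1 (inferInstance : IsCyclic R)
      have h := Lib.TwoGroups.Recognition.eq_of_card_eq_of_le_zpowers (x := g₀)
        (K₁ := Subgroup.zpowers (⟨_, hm⟩ : R)) (K₂ := Subgroup.zpowers (⟨w, hwR⟩ : R))
        (hg₀ ▸ le_top) (hg₀ ▸ le_top) (by
          rw [Nat.card_zpowers, Nat.card_zpowers, Subgroup.orderOf_mk, Subgroup.orderOf_mk,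
            ← MulAut.conj_apply, MulEquiv.orderOf_eq])
      obtain ⟨l, hl⟩ := Subgroup.mem_zpowers_iff.1 (h ▸ Subgroup.mem_zpowers (⟨_, hm⟩ : R) :
        (⟨_, hm⟩ : R) ∈ Subgroup.zpowers (⟨w, hwR⟩ : R))
      exact Subgroup.mem_zpowers_iff.2 ⟨l, congrArg Subtype.val hl⟩
    have hxnC : ψ c' ∉ Subgroup.centralizer (Q : Set G) := fun h =>
      hψnc (Subgroup.mem_centralizer_iff.2 fun r hr =>
        congrArg Subtype.val (hab.is_comm.comm ⟨r, hRC hr⟩ ⟨_, h⟩))
    obtain ⟨hx2, hxinv⟩ := hinv _ hxQ hxnC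
    rw [orderOf_injective ψ hψ] at hx2
    have hi : c' * (s : H) * c'⁻¹ = (s : H)⁻¹ := hψ (by
      rw [map_mul, map_mul, map_inv, map_inv]
      exact hxinv _ (hRC ⟨_, s.2, rfl⟩))
    haveI : NeZero (p ^ k) := ⟨pow_ne_zero _ (Fact.out : p.Prime).ne_zero⟩
    refine ⟨k, Lib.TwoGroups.Recognition.nonempty_dihedral (a := (s : H)) (b := c')
      (by rw [Subgroup.orderOf_coe, hs, hk]) (by rw [← pow_two, ← hx2, pow_orderOf_eq_one]) hi ?_ ?_⟩
    · intro h
      obtain ⟨i, hi'⟩ := Subgroup.mem_zpowers_iff.1 h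
      exact hcomm (hi' ▸ Commute.zpow_right rfl i)
    · rw [← (S : Subgroup H).card_mul_index, hk, ← hc'o, hx2, mul_comm]

end Cfsg.Agent.S4082
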