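import Cfsg.Statements.S4083
import Cfsg.Agent.Lib.TwoGroups.Recognition
import Cfsg.Agent.Lib.TwoGroups.MetacyclicTwo
import Cfsg.Agent.Lib.TwoGroups.OddAut
import Cfsg.Agent.Lib.SylowInter.Basic
import Cfsg.Agent.S0228

set_option autoImplicit false
set_option linter.style.haveILetI false
open Cfsg

namespace Cfsg.Agent.S4083

/-- At most two residues are killed by two. -/
theorem card_two_torsion {N : ℕ} [NeZero N] :
    (Finset.univ.filter fun j : ZMod N => 2 • j = 0).card ≤ 2 :=
  IsAddCyclic.card_nsmul_eq_zero_le two_pos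

/-- The centralizer of a reflection has at most four elements. -/
theorem card_centralizer_sr {N : ℕ} [NeZero N] (i : ZMod N) :
    Nat.card (Subgroup.centralizer ({DihedralGroup.sr i} : Set (DihedralGroup N))) ≤ 4 := by
  classical
  let T := {j : ZMod N // 2 • j = 0}
  have hT : Nat.card T ≤ 2 := by
    rw [Nat.card_eq_fintype_card, Fintype.card_subtype]
    exact card_two_torsion
  let f : T ⊕ T → DihedralGroup N := Sum.elim (fun j => .r j.1) (fun j => .sr (i + j.1))
  have hle : ((Subgroup.centralizer ({DihedralGroup.sr i} : Set (DihedralGroup N))) :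
      Set (DihedralGroup N)) ⊆ Set.range f := by
    intro g hg
    rw [SetLike.mem_coe, Subgroup.mem_centralizer_singleton_iff] at hg
    cases g with
    | r j =>
      simp only [DihedralGroup.r_mul_sr, DihedralGroup.sr_mul_r, DihedralGroup.sr.injEq] at hg
      exact ⟨Sum.inl ⟨j, by rw [two_nsmul]; first
        | linear_combination hg
        | linear_combination -hg⟩, rfl⟩
    | sr j =>
      simp only [DihedralGroup.sr_mul_sr, DihedralGroup.r.injEq] at hg
      refine ⟨Sum.inr ⟨j - i, ?_⟩, congrArg DihedralGroup.sr (add_sub_cancel i j)⟩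
      rw [two_nsmul]
      first
        | linear_combination hg
        | linear_combination -hg
  have h1 := Nat.card_mono (Set.finite_range f) hle
  have h2 : Nat.card (Set.range f) ≤ Nat.card (T ⊕ T) :=
    Nat.card_le_card_of_surjective _ Set.rangeFactorization_surjective
  rw [Nat.card_sum] at h2
  simp only [SetLike.coe_sort_coe] at h1
  omega

/-- Four-subgroups of dihedral groups are their own centralizers. -/
theorem four_self_centralizing {X : Type*} [Group X] {N : ℕ} [NeZero N] (e : X ≃* DihedralGroup N)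
    (K : Subgroup X) (hK : Nat.card K = 4) (hK2 : ∀ k ∈ K, k ^ 2 = 1) :
    Subgroup.centralizer (K : Set X) = K := by
  classical
  haveI : Finite X := Finite.of_equiv _ e.symm.toEquiv
  obtain ⟨i, hi⟩ : ∃ i, e.symm (.sr i) ∈ K := by
    by_contra hno
    let T := {j : ZMod N // 2 • j = 0}
    have hmem : ∀ k : K, ∃ j : T, e (k : X) = .r j.1 := by
      rintro ⟨k, hk⟩
      rcases hek : e k with j | j
      · refine ⟨⟨j, ?_⟩, rfl⟩
        have h := congrArg e (hK2 k hk)
        rw [map_pow, map_one, hek, pow_two, DihedralGroup.r_mul_r, DihedralGroup.one_def] at h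
        rw [two_nsmul]; exact DihedralGroup.r.inj h
      · exact absurd ⟨j, by rw [← hek, e.symm_apply_apply]; exact hk⟩ hno
    choose f hf using hmem
    have hle : Nat.card K ≤ Nat.card T := Nat.card_le_card_of_injective f fun a b h =>
      Subtype.ext (e.injective (by rw [hf a, hf b, h]))
    have hT : Nat.card T ≤ 2 := by
      rw [Nat.card_eq_fintype_card, Fintype.card_subtype]
      exact card_two_torsion
    omega
  refine (Subgroup.eq_of_le_of_card_ge (H := K) (K := Subgroup.centralizer (K : Set X)) ?_ ?_).symm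
  · haveI : IsMulCommutative K := ⟨⟨fun a b => by
      have hab := hK2 _ (K.mul_mem a.2 b.2)
      have hi : ∀ k : K, (k : X)⁻¹ = k := fun k =>
        inv_eq_of_mul_eq_one_right (by rw [← pow_two]; exact hK2 _ k.2)
      apply Subtype.ext
      calc (a : X) * b = ((a : X) * b)⁻¹ := (inv_eq_of_mul_eq_one_right (by rwa [← pow_two])).symm
        _ = (b : X) * a := by rw [mul_inv_rev, hi, hi]⟩⟩
    exact K.le_centralizer
  · rw [hK]
    refine le_trans ?_ (card_centralizer_sr (N := N) i)
    refine Nat.card_le_card_of_injective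
      (fun c => ⟨e (c : X), Subgroup.mem_centralizer_singleton_iff.2 ?_⟩) fun a b h =>
        Subtype.ext (e.injective (congrArg Subtype.val h))
    have := congrArg e (Subgroup.mem_centralizer_iff.1 c.2 _ hi)
    simp only [map_mul, MulEquiv.apply_symm_apply] at this
    exact this.symm

/-- A subgroup of a dihedral group is cyclic or dihedral. -/
theorem sub_cyclic_or_dihedral {X : Type*} [Group X] {n : ℕ} (e : X ≃* DihedralGroup (2 ^ n))
    (S : Subgroup X) (hnc : ¬ IsCyclic S) :
    ∃ j : ℕ, 1 ≤ j ∧ Nonempty (S ≃* DihedralGroup (2 ^ j)) := by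
  classical
  haveI : NeZero (2 ^ n) := ⟨pow_ne_zero _ two_ne_zero⟩
  haveI : Finite X := Finite.of_equiv _ e.symm.toEquiv
  let R : Subgroup (DihedralGroup (2 ^ n)) := Subgroup.zpowers (DihedralGroup.r 1)
  have hR : ∀ g, g ∈ R ↔ ∃ j, g = DihedralGroup.r j := fun g => by
    constructor
    · rintro ⟨k, rfl⟩; exact ⟨(k : ZMod (2 ^ n)), by simp⟩
    · rintro ⟨j, rfl⟩
      exact ⟨j.val, by simp⟩
  let A : Subgroup S := R.comap (e.toMonoidHom.comp S.subtype)
  haveI : IsCyclic A := by
    let g : A →* R := MonoidHom.mk' (fun a => ⟨e ((a : S) : X), a.2⟩) fun a b => Subtype.ext (by simp)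
    exact isCyclic_of_injective g fun a b h =>
      Subtype.ext (Subtype.ext (e.injective (congrArg Subtype.val h)))
  obtain ⟨s, hs⟩ : ∃ s : S, s ∉ A := by
    by_contra h
    push Not at h
    refine hnc ?_
    have : A = ⊤ := eq_top_iff.2 fun x _ => h x
    exact isCyclic_of_surjective A.subtype fun x => ⟨⟨x, h x⟩, rfl⟩
  obtain ⟨a₀, ha₀⟩ := IsCyclic.exists_ofOrder_eq_natCard (α := A)
  have hA2 : A.index = 2 := by
    refine Subgroup.index_eq_two_iff.2 ⟨s, fun b => ?_⟩
    have key : ∀ u v : DihedralGroup (2 ^ n), v ∉ R → Xor (u * v ∈ R) (u ∈ R) := by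
      intro u v hv
      simp only [hR] at hv ⊢
      cases v with
      | r j => exact absurd ⟨j, rfl⟩ hv
      | sr j =>
        cases u with
        | r i => right; exact ⟨⟨i, rfl⟩, by rintro ⟨l, hl⟩; cases hl⟩
        | sr i => left; exact ⟨⟨j - i, rfl⟩, by rintro ⟨l, hl⟩; cases hl⟩
    have h := key (e (b : X)) (e (s : X)) hs
    rw [← map_mul] at h
    exact h
  obtain ⟨j₀, hj₀⟩ := (hR _).1 (a₀ : A).2
  change e ((a₀ : S) : X) = _ at hj₀
  obtain ⟨i, hi⟩ : ∃ i, e (s : X) = DihedralGroup.sr i := by
    rcases h : e (s : X) with i | i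
    · exact absurd ((hR _).2 ⟨i, h⟩) hs
    · exact ⟨i, rfl⟩
  have hord : orderOf (a₀ : S) = Nat.card A := (Subgroup.orderOf_coe a₀).trans ha₀
  obtain ⟨j, -, hj⟩ := (Nat.dvd_prime_pow Nat.prime_two).1
    (show Nat.card A ∣ 2 ^ n by
      rw [← hord, ← Subgroup.orderOf_coe, ← e.orderOf_eq, hj₀, ← pow_one (DihedralGroup.r j₀)]
      refine orderOf_dvd_of_pow_eq_one ?_
      rw [pow_one, DihedralGroup.r_pow]; simp)
  have hcard : Nat.card S = 2 * 2 ^ j := by
    rw [← A.card_mul_index, hA2, hj, mul_comm]
  haveI : NeZero (2 ^ j) := ⟨pow_ne_zero _ two_ne_zero⟩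
  refine ⟨j, ?_, Lib.TwoGroups.Recognition.nonempty_dihedral (a := (a₀ : S)) (b := s)
    (hord.trans hj) ?_ ?_ ?_ hcard⟩
  · by_contra h
    obtain rfl : j = 0 := by omega
    exact hnc (@isCyclic_of_prime_card _ _ 2 ⟨Nat.prime_two⟩ (by simpa using hcard))
  · refine Subtype.ext (e.injective ?_)
    simp [hi]
  · refine Subtype.ext (e.injective ?_)
    simp [hi, hj₀]
  · exact fun h => hs (Subgroup.zpowers_le.2 (a₀ : A).2 h)

/-- Let G be a finite group with Sylow 2-subgroup P. Every subgroup H of G whose Sylow 2-subgroup is normal in H with cyclic quotient is cyclic, dihedral of 2-power order, or isomorphic to the alternating group of degree 4, if and only if either P is cyclic, or P is dihedral (of order at least 4) and every elementary abelian subgroup K of order 4 of P satisfies C_G(K) = K. -/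
theorem result {G : Type*} [Group G] [Finite G] (P : Sylow 2 G) :
    (∀ H : Subgroup G, (∀ S : Sylow 2 ↥H, (S : Subgroup ↥H).Normal) →
        (∀ (S : Sylow 2 ↥H) [(S : Subgroup ↥H).Normal], IsCyclic (↥H ⧸ (S : Subgroup ↥H))) →
        IsCyclic H ∨ (∃ n : ℕ, Nonempty (H ≃* DihedralGroup (2 ^ n))) ∨ Nonempty (H ≃* alternatingGroup (Fin 4))) ↔
    (IsCyclic P ∨
      ((∃ n : ℕ, 1 ≤ n ∧ Nonempty ((P : Subgroup G) ≃* DihedralGroup (2 ^ n))) ∧
        ∀ K : Subgroup G, K ≤ P → Nat.card K = 4 → (∀ k ∈ K, k ^ 2 = 1) → Subgroup.centralizer (K : Set G) = K)) := by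
  classical
  -- the odd part of an element
  have hodd : ∀ x : G, ∃ k : ℕ, Odd (orderOf (x ^ 2 ^ k)) := by
    intro x
    obtain ⟨k, m, hm, hd⟩ := Nat.exists_eq_two_pow_mul_odd (orderOf_pos x).ne'
    refine ⟨k, ?_⟩
    rw [orderOf_pow' x (pow_ne_zero _ two_ne_zero), hd, Nat.gcd_eq_right (dvd_mul_right _ _),
      Nat.mul_div_cancel_left _ (by positivity)]
    exact hm
  constructor
  · intro hall
    by_cases hc : IsCyclic P
    · exact Or.inl hc
    have hP := hall (P : Subgroup G) (fun S => by
        have : (S : Subgroup (P : Subgroup G)) = ⊤ := (S.is_maximal'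
          (show IsPGroup 2 (⊤ : Subgroup (P : Subgroup G)) from P.isPGroup'.to_subgroup ⊤)
          le_top).symm
        rw [this]; infer_instance)
      (fun S _ => by
        have : (S : Subgroup (P : Subgroup G)) = ⊤ := (S.is_maximal'
          (show IsPGroup 2 (⊤ : Subgroup (P : Subgroup G)) from P.isPGroup'.to_subgroup ⊤)
          le_top).symm
        haveI : Subsingleton ((P : Subgroup G) ⧸ (S : Subgroup (P : Subgroup G))) := by
          rw [this]; exact QuotientGroup.subsingleton_quotient_top
        infer_instance)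
    obtain ⟨n, ⟨e⟩⟩ : ∃ n : ℕ, Nonempty ((P : Subgroup G) ≃* DihedralGroup (2 ^ n)) := by
      rcases hP with h | h | ⟨⟨e⟩⟩
      · exact absurd h hc
      · exact h
      · obtain ⟨k, hk⟩ := IsPGroup.iff_card.1 P.isPGroup'
        rw [Nat.card_congr e.toEquiv, Nat.card_eq_fintype_card, card_alternatingGroup] at hk
        exfalso
        have h3 : 3 ∣ 2 ^ k := by rw [← hk]; decide
        exact absurd (Nat.prime_three.dvd_of_dvd_pow h3) (by norm_num)
    have hn : 1 ≤ n := by
      by_contra h
      obtain rfl : n = 0 := by omega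
      refine hc (@isCyclic_of_prime_card _ _ 2 ⟨Nat.prime_two⟩ ?_)
      rw [Nat.card_congr e.toEquiv, DihedralGroup.nat_card]; rfl
    refine Or.inr ⟨⟨n, hn, ⟨e⟩⟩, fun K hKP hK hK2 => ?_⟩
    have hKc : ∀ a b : G, a ∈ K → b ∈ K → a * b = b * a := fun a b ha hb => by
      have hab := hK2 _ (K.mul_mem ha hb)
      have hinv : ∀ k ∈ K, k⁻¹ = k := fun k hk =>
        inv_eq_of_mul_eq_one_right (by rw [← pow_two]; exact hK2 _ hk)
      rw [← hinv _ (K.mul_mem ha hb), mul_inv_rev, hinv _ ha, hinv _ hb]
    have hKC : K ≤ Subgroup.centralizer (K : Set G) := fun a ha =>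
      Subgroup.mem_centralizer_iff.2 fun b hb => hKc b a hb ha
    have hC2 : IsPGroup 2 (Subgroup.centralizer (K : Set G)) := by
      rintro ⟨x, hx⟩
      obtain ⟨k, hk⟩ := hodd x
      set y := x ^ 2 ^ k with hy
      have hyC : y ∈ Subgroup.centralizer (K : Set G) := Subgroup.pow_mem _ hx _
      refine ⟨k, Subtype.ext ?_⟩
      show y = 1
      let H := K ⊔ Subgroup.zpowers y
      have hcommH : ∀ a b : H, a * b = b * a := by
        have hc1 : H ≤ Subgroup.centralizer (K : Set G) := sup_le hKC (Subgroup.zpowers_le.2 hyC)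
        have hc2 : H ≤ Subgroup.centralizer ({y} : Set G) := sup_le
          (fun a ha => Subgroup.mem_centralizer_singleton_iff.2
            (Subgroup.mem_centralizer_iff.1 hyC a ha))
          (Subgroup.zpowers_le.2 (Subgroup.mem_centralizer_singleton_iff.2 rfl))
        have hc3 : H ≤ Subgroup.centralizer (H : Set G) := sup_le
          (fun a ha => Subgroup.mem_centralizer_iff.2 fun b hb =>
            (Subgroup.mem_centralizer_iff.1 (hc1 hb) a ha).symm)
          (Subgroup.zpowers_le.2 (Subgroup.mem_centralizer_iff.2 fun b hb =>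
            Subgroup.mem_centralizer_singleton_iff.1 (hc2 hb)))
        exact fun a b => Subtype.ext (Subgroup.mem_centralizer_iff.1 (hc3 b.2) a a.2)
      have hnorm : ∀ S : Subgroup H, S.Normal := fun S =>
        ⟨fun a ha g => by rwa [hcommH g a, mul_inv_cancel_right]⟩
      have hKle : K ≤ H := le_sup_left
      have hyH : y ∈ H := Subgroup.mem_sup_right (Subgroup.mem_zpowers y)
      have hyo : orderOf (⟨y, hyH⟩ : H) = orderOf y := (Subgroup.orderOf_coe _).symm
      rcases hall H (fun S => hnorm _) (fun S _ => by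
          have hKS : K.subgroupOf H ≤ (S : Subgroup H) := by
            have hKp : IsPGroup 2 (K.subgroupOf H) :=
              (IsPGroup.of_card (n := 2) (G := K) (by rw [hK]; rfl)).of_equiv
                (Subgroup.subgroupOfEquivOfLe hKle).symm
            haveI := hnorm (K.subgroupOf H)
            have h := S.is_maximal' (hKp.to_sup_of_normal_left S.isPGroup') le_sup_right
            exact h ▸ le_sup_left
          refine isCyclic_iff_exists_zpowers_eq_top.2 ⟨QuotientGroup.mk (⟨y, hyH⟩ : H),
            eq_top_iff.2 fun q _ => ?_⟩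
          obtain ⟨⟨h, hh⟩, rfl⟩ := QuotientGroup.mk_surjective q
          suffices H ≤ ((Subgroup.zpowers (QuotientGroup.mk (s := (S : Subgroup H)) (⟨y, hyH⟩ : H))).comap
              (QuotientGroup.mk' (S : Subgroup H))).map H.subtype by
            obtain ⟨h', hh', he⟩ := this hh
            obtain rfl := Subtype.ext (a1 := h') (a2 := ⟨h, hh⟩) he
            exact hh'
          refine sup_le (fun a ha => ⟨⟨a, hKle ha⟩, ?_, rfl⟩)
            (Subgroup.zpowers_le.2 ⟨⟨y, hyH⟩, Subgroup.mem_zpowers _, rfl⟩)
          show QuotientGroup.mk (⟨a, hKle ha⟩ : H) ∈ Subgroup.zpowers _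
          rw [(QuotientGroup.eq_one_iff (⟨a, hKle ha⟩ : H)).2 (hKS (Subgroup.mem_subgroupOf.2 ha))]
          exact one_mem _) with h | ⟨m, ⟨f⟩⟩ | ⟨⟨f⟩⟩
      · exfalso
        haveI := h
        haveI : IsCyclic K := isCyclic_of_injective (Subgroup.inclusion hKle)
          (Subgroup.inclusion_injective hKle)
        obtain ⟨g, hg⟩ := IsCyclic.exists_ofOrder_eq_natCard (α := K)
        have := orderOf_le_of_pow_eq_one two_pos (show g ^ 2 = 1 from Subtype.ext (hK2 _ g.2))
        omega
      · have hd : orderOf y ∣ 2 ^ (m + 1) := by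
          rw [← hyo, ← f.orderOf_eq, pow_succ', ← DihedralGroup.nat_card (n := 2 ^ m)]
          exact orderOf_dvd_natCard _
        obtain ⟨i, -, hi⟩ := (Nat.dvd_prime_pow Nat.prime_two).1 hd
        rw [hi] at hk
        rcases i with _ | i
        · rwa [pow_zero, orderOf_eq_one_iff] at hi
        · exact absurd hk (Nat.not_odd_iff_even.2 ⟨2 ^ i, by ring⟩)
      · exfalso
        have hA := congrArg f (hcommH (f.symm ⟨Equiv.swap 0 1 * Equiv.swap 1 2,
          Equiv.Perm.mem_alternatingGroup.2 (by decide)⟩) (f.symm ⟨Equiv.swap 0 1 * Equiv.swap 2 3,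
          Equiv.Perm.mem_alternatingGroup.2 (by decide)⟩))
        simp only [map_mul, MulEquiv.apply_symm_apply] at hA
        exact absurd hA (by decide)
    obtain ⟨Q, hQ⟩ := hC2.exists_le_sylow
    haveI : NeZero (2 ^ n) := ⟨pow_ne_zero _ two_ne_zero⟩
    have hKQ : K ≤ Q := hKC.trans hQ
    have h := four_self_centralizing ((Sylow.equiv Q P).trans e) (K.subgroupOf Q)
      (by rw [Nat.card_congr (Subgroup.subgroupOfEquivOfLe hKQ).toEquiv, hK])
      (fun k hk => Subtype.ext (hK2 _ hk))
    refine le_antisymm (fun a ha => ?_) hKC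
    have : (⟨a, hQ ha⟩ : (Q : Subgroup G)) ∈ K.subgroupOf Q := h ▸
      Subgroup.mem_centralizer_iff.2 fun b hb =>
        Subtype.ext (Subgroup.mem_centralizer_iff.1 ha b hb)
    exact this
  · intro hyp H hnorm hquot
    let S : Sylow 2 H := Classical.arbitrary _
    haveI := hnorm S
    haveI := hquot S
    have hSodd : Odd (S : Subgroup H).index :=
      Nat.not_even_iff_odd.1 fun h => S.not_dvd_index (even_iff_two_dvd.1 h)
    obtain ⟨q, hq⟩ := isCyclic_iff_exists_zpowers_eq_top.1 (hquot S)
    obtain ⟨c, rfl⟩ := QuotientGroup.mk_surjective q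
    have hqo : orderOf (QuotientGroup.mk c : H ⧸ (S : Subgroup H)) = (S : Subgroup H).index := by
      rw [Subgroup.index_eq_card, ← Nat.card_zpowers, hq, Subgroup.card_top]
    obtain ⟨k, hk⟩ := IsPGroup.iff_card.1 S.isPGroup'
    set c' := c ^ 2 ^ k with hc'
    have hc'q : orderOf (QuotientGroup.mk c' : H ⧸ (S : Subgroup H)) = (S : Subgroup H).index := by
      rw [hc', QuotientGroup.mk_pow, Nat.Coprime.orderOf_pow, hqo]
      rw [hqo]
      exact (Nat.Coprime.pow_left k hSodd.coprime_two_left).symm
    have hc'o : orderOf c' = (S : Subgroup H).index := by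
      refine Nat.dvd_antisymm (orderOf_dvd_of_pow_eq_one ?_) ?_
      · rw [hc', ← pow_mul, mul_comm, pow_mul]
        have hm : c ^ (S : Subgroup H).index ∈ (S : Subgroup H) := Subgroup.pow_index_mem _ c
        have := pow_card_eq_one' (G := (S : Subgroup H)) (x := ⟨_, hm⟩)
        rw [hk] at this
        exact congrArg Subtype.val this
      · rw [← hc'q]
        exact orderOf_map_dvd (QuotientGroup.mk' (S : Subgroup H)) c'
    -- a centralized cyclic Sylow subgroup
    by_cases hScyc : IsCyclic S
    · left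
      haveI := hScyc
      obtain ⟨s, hs⟩ := IsCyclic.exists_ofOrder_eq_natCard (α := (S : Subgroup H))
      have hcomm : Commute (s : H) c' := by
        have hA := Lib.SylowInter.Basic.isPGroup_mulAut_of_cyclic (Q := (S : Subgroup H)) S.isPGroup'
        let φ : MulAut (S : Subgroup H) := MulAut.conjNormal c'
        obtain ⟨j, hj⟩ := hA φ
        have h1 : φ = 1 := by
          rw [← orderOf_eq_one_iff]
          have hd1 : orderOf φ ∣ orderOf c' := orderOf_map_dvd MulAut.conjNormal c'
          have hd2 : orderOf φ ∣ 2 ^ j := orderOf_dvd_of_pow_eq_one hj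
          rw [hc'o] at hd1
          exact Nat.eq_one_of_dvd_coprimes (Nat.Coprime.pow_left j hSodd.coprime_two_left) hd2 hd1
        have h2 : c' * (s : H) * c'⁻¹ = s := by
          have := congrArg (fun g : MulAut (S : Subgroup H) => ((g s : (S : Subgroup H)) : H)) h1
          exact this
        exact (mul_inv_eq_iff_eq_mul.1 h2).symm
      refine isCyclic_of_orderOf_eq_card ((s : H) * c') ?_
      rw [hcomm.orderOf_mul_eq_mul_orderOf_of_coprime, Subgroup.orderOf_coe, hs, hc'o,
        (S : Subgroup H).card_mul_index]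
      rw [Subgroup.orderOf_coe, hs, hc'o, hk]
      exact Nat.Coprime.pow_left k hSodd.coprime_two_left
    obtain ⟨Q, hQ⟩ := (S.isPGroup'.map H.subtype).exists_le_sylow
    let i : (S : Subgroup H) →* (Q : Subgroup G) :=
      MonoidHom.mk' (fun s => ⟨((s : H) : G), hQ ⟨s, s.2, rfl⟩⟩) fun a b => rfl
    have hi : Function.Injective i := fun a b h =>
      Subtype.ext (Subtype.ext (congrArg Subtype.val h : _))
    rcases hyp with hcyc | ⟨⟨n, hn, ⟨e⟩⟩, hK⟩
    · haveI : IsCyclic (Q : Subgroup G) := isCyclic_of_surjective (Sylow.equiv P Q).toMonoidHom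
        (Sylow.equiv P Q).surjective
      exact absurd (isCyclic_of_injective i hi) hScyc
    haveI : NeZero (2 ^ n) := ⟨pow_ne_zero _ two_ne_zero⟩
    let eQ := (Sylow.equiv Q P).trans e
    -- four-subgroups of G are their own centralizers
    have hself : ∀ K : Subgroup G, K ≤ Q → Nat.card K = 4 → (∀ k ∈ K, k ^ 2 = 1) →
        Subgroup.centralizer (K : Set G) = K := by
      intro K hKQ hK4 hK2
      obtain ⟨g, hg⟩ := MulAction.exists_smul_eq G Q P
      have hmem : ∀ a ∈ K, g * a * g⁻¹ ∈ (P : Subgroup G) := fun a ha => by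
        rw [← hg, Sylow.coe_subgroup_smul]
        exact Subgroup.smul_mem_pointwise_smul a _ _ (hKQ ha)
      let L := K.map (MulAut.conj g).toMonoidHom
      have hL := hK L (by rintro _ ⟨a, ha, rfl⟩; exact hmem a ha)
        (by rw [← Nat.card_congr (K.equivMapOfInjective _ (MulAut.conj g).injective).toEquiv, hK4])
        (by
          rintro _ ⟨a, ha, rfl⟩
          rw [← map_pow, hK2 a ha, map_one])
      refine le_antisymm (fun a ha => ?_) (fun a ha => ?_)
      · have : g * a * g⁻¹ ∈ Subgroup.centralizer (L : Set G) := by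
          rw [Subgroup.mem_centralizer_iff]
          rintro _ ⟨b, hb, rfl⟩
          show MulAut.conj g b * MulAut.conj g a = MulAut.conj g a * MulAut.conj g b
          rw [← map_mul, ← map_mul, Subgroup.mem_centralizer_iff.1 ha b hb]
        rw [hL] at this
        obtain ⟨b, hb, hbe⟩ := this
        rwa [← (MulAut.conj g).injective hbe]
      · rw [Subgroup.mem_centralizer_iff]
        intro b hb
        have : MulAut.conj g a ∈ Subgroup.centralizer (L : Set G) := hL.ge ⟨a, ha, rfl⟩
        have h2 := Subgroup.mem_centralizer_iff.1 this (MulAut.conj g b) ⟨b, hb, rfl⟩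
        rw [← map_mul, ← map_mul] at h2
        exact (MulAut.conj g).injective h2
    have hnc : ¬ IsCyclic i.range := fun h => hScyc (isCyclic_of_surjective
      (MonoidHom.ofInjective hi).symm.toMonoidHom (MonoidHom.ofInjective hi).symm.surjective)
    obtain ⟨j, hj, ⟨er⟩⟩ := sub_cyclic_or_dihedral eQ i.range hnc
    let eS : (S : Subgroup H) ≃* DihedralGroup (2 ^ j) := (MonoidHom.ofInjective hi).trans er
    haveI : NeZero (2 ^ j) := ⟨pow_ne_zero _ two_ne_zero⟩
    have hk' : k = j + 1 := by
      rw [Nat.card_congr eS.toEquiv, DihedralGroup.nat_card, ← pow_succ'] at hk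
      exact (Nat.pow_right_injective le_rfl hk).symm
    by_cases hc1 : c' = 1
    · -- the group is its own Sylow subgroup
      right; left
      have hidx : (S : Subgroup H).index = 1 := by rw [← hc'o, hc1, orderOf_one]
      rw [Subgroup.index_eq_one] at hidx
      exact ⟨j, ⟨((MulEquiv.subgroupCongr hidx).trans Subgroup.topEquiv).symm.trans eS⟩⟩
    -- a four-subgroup of S
    let h₂ : ZMod (2 ^ j) := ((2 ^ (j - 1) : ℕ) : ZMod (2 ^ j))
    have hh : h₂ + h₂ = 0 := by
      rw [show h₂ + h₂ = ((2 ^ (j - 1) + 2 ^ (j - 1) : ℕ) : ZMod (2 ^ j)) by simp [h₂],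
        ← two_mul, ← pow_succ', Nat.sub_add_cancel hj, ZMod.natCast_self]
    have hne : h₂ ≠ 0 := by
      rw [Ne, ZMod.natCast_eq_zero_iff, Nat.pow_dvd_pow_iff_le_right one_lt_two]
      omega
    let V : Subgroup (DihedralGroup (2 ^ j)) :=
      { carrier := {g | g = 1 ∨ g = .r h₂ ∨ g = .sr 0 ∨ g = .sr h₂}
        one_mem' := Or.inl rfl
        mul_mem' := by
          rintro a b (rfl | rfl | rfl | rfl) (rfl | rfl | rfl | rfl) <;>
            simp [DihedralGroup.one_def, -DihedralGroup.r_zero, hh, neg_eq_of_add_eq_zero_right hh]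
        inv_mem' := by
          rintro a (rfl | rfl | rfl | rfl) <;>
            simp [DihedralGroup.one_def, -DihedralGroup.r_zero, neg_eq_of_add_eq_zero_right hh] }
    have hV2 : ∀ v ∈ V, v ^ 2 = 1 := by
      rintro v (rfl | rfl | rfl | rfl) <;>
        simp [pow_two, hh]
    have hV4 : Nat.card V = 4 := by
      have : (V : Set (DihedralGroup (2 ^ j))) =
          (({1, .r h₂, .sr 0, .sr h₂} : Finset (DihedralGroup (2 ^ j))) : Set _) := by
        ext g; simp [V]
      rw [← SetLike.coe_sort_coe, this, Nat.card_coe_set_eq, Set.ncard_coe_finset]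
      simp [DihedralGroup.one_def, -DihedralGroup.r_zero, Ne.symm hne]
    let ιS : DihedralGroup (2 ^ j) →* G :=
      (H.subtype.comp (S : Subgroup H).subtype).comp eS.symm.toMonoidHom
    have hιS : Function.Injective ιS :=
      (Subtype.val_injective.comp Subtype.val_injective).comp eS.symm.injective
    let K := V.map ιS
    have hKmem : ∀ v, ιS v ∈ (Q : Subgroup G) := fun v => hQ ⟨_, (eS.symm v).2, rfl⟩
    have hKC := hself K (by rintro _ ⟨v, -, rfl⟩; exact hKmem v)
      (by rw [← Nat.card_congr (V.equivMapOfInjective _ hιS).toEquiv, hV4])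
      (by rintro _ ⟨v, hv, rfl⟩; rw [← map_pow, hV2 v hv, map_one])
    let φ : MulAut (S : Subgroup H) := MulAut.conjNormal c'
    have hcent : φ = 1 → False := fun h1 => by
      refine hc1 ?_
      have hC : ((c' : H) : G) ∈ Subgroup.centralizer (K : Set G) := by
        rw [Subgroup.mem_centralizer_iff]
        rintro _ ⟨v, -, rfl⟩
        have h := congrArg (fun g : MulAut (S : Subgroup H) =>
          ((g (eS.symm v) : (S : Subgroup H)) : H)) h1
        have h2 : c' * (eS.symm v : H) * c'⁻¹ = (eS.symm v : H) := h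
        exact congrArg Subtype.val (mul_inv_eq_iff_eq_mul.1 h2).symm
      rw [hKC] at hC
      obtain ⟨v, hv, hve⟩ := hC
      have hc'S : c' ∈ (S : Subgroup H) := by
        rw [← Subtype.ext hve]; exact (eS.symm v).2
      rw [← orderOf_eq_one_iff, hc'o, ← hc'q, orderOf_eq_one_iff]
      exact (QuotientGroup.eq_one_iff _).2 hc'S
    rcases Nat.lt_or_ge j 2 with hj2 | hj2
    swap
    · exfalso
      have hA : IsPGroup 2 (MulAut (S : Subgroup H)) :=
        Lib.TwoGroups.OddAut.isPGroup_mulAut fun ψ hψ => by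
          by_contra h1
          have hm : Cfsg.IsMetacyclic (S : Subgroup H) := by
            let N := Subgroup.zpowers (eS.symm (DihedralGroup.r 1))
            have hi2 : N.index = 2 := by
              have := N.card_mul_index
              rw [Nat.card_zpowers, MulEquiv.orderOf_eq, DihedralGroup.orderOf_r_one,
                Nat.card_congr eS.toEquiv, DihedralGroup.nat_card] at this
              exact Nat.eq_of_mul_eq_mul_left (show 0 < 2 ^ j by positivity) (by rw [this]; ring)
            haveI := Subgroup.normal_of_index_eq_two hi2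
            exact ⟨N, inferInstance, inferInstance,
              @isCyclic_of_prime_card _ _ 2 ⟨Nat.prime_two⟩ (by rw [← Subgroup.index_eq_card, hi2])⟩
          have h01 : DihedralGroup.sr (0 : ZMod (2 ^ j)) * .sr 1 ≠ .sr 1 * .sr 0 := by
            simp only [DihedralGroup.sr_mul_sr, ne_eq, DihedralGroup.r.injEq]
            intro h
            have h2 : ((2 : ℕ) : ZMod (2 ^ j)) = 0 := by push_cast; linear_combination h
            rw [ZMod.natCast_eq_zero_iff] at h2
            have := Nat.le_of_dvd two_pos h2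
            have := Nat.pow_le_pow_right two_pos hj2
            omega
          rcases Lib.TwoGroups.MetacyclicTwo.aut_cases S.isPGroup' hm hψ h1 with
            ⟨⟨f⟩⟩ | ⟨l, -, ⟨f⟩⟩
          · let g := eS.symm.trans f
            have hinv : ∀ q : QuaternionGroup 2, q * q = 1 → q = 1 ∨ q = .a 2 := by decide
            have hh' : ∀ s : ZMod (2 ^ j), g (.sr s) = .a 2 := fun s =>
              (hinv _ (by rw [← map_mul, DihedralGroup.sr_mul_self, map_one])).resolve_left
                fun h => by
                  have h' : DihedralGroup.sr s = DihedralGroup.r 0 := g.map_eq_one_iff.1 h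
                  cases h'
            exact h01 (by rw [g.injective ((hh' 0).trans (hh' 1).symm)])
          · exact h01 ((eS.symm.trans f).injective (by rw [map_mul, map_mul, mul_comm]))
      obtain ⟨t, ht⟩ := hA φ
      refine hcent (orderOf_eq_one_iff.1 (Nat.eq_one_of_dvd_coprimes
        (Nat.Coprime.pow_left t hSodd.coprime_two_left) (orderOf_dvd_of_pow_eq_one ht) ?_))
      rw [← hc'o]
      exact orderOf_map_dvd MulAut.conjNormal c'
    obtain rfl : j = 1 := by omega
    right; right
    have hS4 : Nat.card (S : Subgroup H) = 4 := by rw [hk, hk']; rfl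
    have hSeq : ∀ s : (S : Subgroup H), eS s ∈ V := by
      have : V = ⊤ := Subgroup.eq_top_of_card_eq _ (by rw [hV4, DihedralGroup.nat_card]; rfl)
      intro s; rw [this]; trivial
    haveI : IsKleinFour (S : Subgroup H) :=
      { card_four := hS4
        exponent_two := by
          refine ((Nat.dvd_prime Nat.prime_two).1 (Monoid.exponent_dvd_of_forall_pow_eq_one
            fun s => eS.injective (by rw [map_pow, map_one]; exact hV2 _ (hSeq s)))).resolve_left
            fun h => ?_
          haveI := Monoid.exp_eq_one_iff.1 h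
          rw [Nat.card_unique] at hS4
          omega }
    haveI : Finite (MulAut (S : Subgroup H)) :=
      Finite.of_injective (fun a : MulAut (S : Subgroup H) => ⇑a) DFunLike.coe_injective
    -- automorphisms of odd order fixing an involution are trivial
    have hfix : ∀ ψ : MulAut (S : Subgroup H), ∀ z : (S : Subgroup H), z ≠ 1 → ψ z = z →
        ψ * ψ = 1 := by
      intro ψ z hz hzf
      refine MulEquiv.ext fun s => ?_
      show ψ (ψ s) = s
      by_cases hs1 : s = 1
      · simp [hs1]
      by_cases hsz : s = z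
      · rw [hsz, hzf, hzf]
      have hzz : z * z = 1 := IsKleinFour.mul_self z
      have hcases : ∀ t : (S : Subgroup H), t ≠ 1 → t ≠ z → t = s ∨ t = z * s := by
        intro t ht1 htz
        by_cases hts : t = s
        · exact Or.inl hts
        right
        have := IsKleinFour.eq_mul_of_ne_all (x := z) (y := s) (z := t) hz hs1 (Ne.symm hsz) ht1 htz
          hts
        exact this
      have h1 : ψ s ≠ 1 := fun h => hs1 (ψ.map_eq_one_iff.1 h)
      have h2 : ψ s ≠ z := fun h => hsz (ψ.injective (h.trans hzf.symm))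
      rcases hcases _ h1 h2 with h | h
      · rw [h, h]
      · rw [h, map_mul, hzf, h, ← mul_assoc, hzz, one_mul]
    have hperm : orderOf φ = 3 := by
      have hd : orderOf φ ∣ (S : Subgroup H).index := by
        rw [← hc'o]; exact orderOf_map_dvd MulAut.conjNormal c'
      have hodd' : Odd (orderOf φ) := hSodd.of_dvd_nat hd
      have hne1 : φ ≠ 1 := hcent
      have hnofix : ∀ (r : ℕ), r = 1 ∨ r = 2 → ∀ s : (S : Subgroup H), s ≠ 1 → (φ ^ r) s ≠ s := by
        intro r hr s hs hfs
        have h4 : φ ^ 4 = 1 := by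
          have h := hfix (φ ^ r) s hs hfs
          rw [← pow_add] at h
          rcases hr with rfl | rfl
          · rw [show (4 : ℕ) = (1 + 1) * 2 from rfl, pow_mul, h, one_pow]
          · exact h
        refine hne1 (orderOf_eq_one_iff.1 (Nat.eq_one_of_dvd_coprimes
          (a := 4) ?_ (orderOf_dvd_of_pow_eq_one h4) dvd_rfl))
        exact Nat.Coprime.pow_left 2 hodd'.coprime_two_left
      refine orderOf_eq_prime (MulEquiv.ext fun s => ?_) hne1
      show φ (φ (φ s)) = s
      by_cases hs1 : s = 1
      · simp [hs1]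
      have n1 : φ s ≠ 1 := fun h => hs1 (φ.map_eq_one_iff.1 h)
      have n2 : φ (φ s) ≠ 1 := fun h => n1 (φ.map_eq_one_iff.1 h)
      have n3 : φ (φ (φ s)) ≠ 1 := fun h => n2 (φ.map_eq_one_iff.1 h)
      have m12 : φ s ≠ φ (φ s) := fun h => hnofix 1 (Or.inl rfl) s hs1 (φ.injective h.symm)
      have m23 : φ (φ (φ s)) ≠ φ (φ s) := fun h => m12 (φ.injective h).symm
      have m13 : φ (φ (φ s)) ≠ φ s := fun h => hnofix 2 (Or.inr rfl) s hs1 (φ.injective h)
      rw [IsKleinFour.eq_mul_of_ne_all n1 n2 m12 n3 m13 m23]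
      refine (IsKleinFour.eq_mul_of_ne_all n1 n2 m12 hs1 ?_ ?_).symm
      · exact fun h => hnofix 1 (Or.inl rfl) s hs1 h.symm
      · exact fun h => hnofix 2 (Or.inr rfl) s hs1 h.symm
    have hm : (S : Subgroup H).index = 3 := by
      -- the cube centralizes the four-group
      have hc3 : MulAut.conjNormal (c' ^ 3) = (1 : MulAut (S : Subgroup H)) := by
        rw [map_pow]
        show φ ^ 3 = 1
        rw [← hperm, pow_orderOf_eq_one]
      have hC : ((c' ^ 3 : H) : G) ∈ Subgroup.centralizer (K : Set G) := by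
        rw [Subgroup.mem_centralizer_iff]
        rintro _ ⟨v, -, rfl⟩
        have h := congrArg (fun g : MulAut (S : Subgroup H) =>
          ((g (eS.symm v) : (S : Subgroup H)) : H)) hc3
        have h2 : c' ^ 3 * (eS.symm v : H) * (c' ^ 3)⁻¹ = (eS.symm v : H) := h
        exact congrArg Subtype.val (mul_inv_eq_iff_eq_mul.1 h2).symm
      rw [hKC] at hC
      obtain ⟨v, hv, hve⟩ := hC
      have hc'S : c' ^ 3 ∈ (S : Subgroup H) := by
        rw [← Subtype.ext hve]; exact (eS.symm v).2
      have hd3 : (S : Subgroup H).index ∣ 3 := by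
        rw [← hc'q]
        refine orderOf_dvd_of_pow_eq_one ?_
        rw [← QuotientGroup.mk_pow]
        exact (QuotientGroup.eq_one_iff _).2 hc'S
      refine ((Nat.dvd_prime Nat.prime_three).1 hd3).resolve_left fun h => hc1 ?_
      rw [← orderOf_eq_one_iff, hc'o, h]
    refine Cfsg.Agent.S0228.result ?_ fun z hz hzc => ?_
    · rw [← (S : Subgroup H).card_mul_index, hS4, hm]
    have hzS : z ∈ (S : Subgroup H) := by
      obtain ⟨T, hT⟩ := (IsPGroup.of_card (n := 1) (G := Subgroup.zpowers z)
        (by rw [Nat.card_zpowers, hz, pow_one])).exists_le_sylow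
      haveI : Unique (Sylow 2 H) := Sylow.unique_of_normal S (hnorm S)
      rw [Subsingleton.elim S T]
      exact hT (Subgroup.mem_zpowers z)
    have hfixz : φ ⟨z, hzS⟩ = ⟨z, hzS⟩ := Subtype.ext (by
      show c' * z * c'⁻¹ = z
      rw [Subgroup.mem_center_iff.1 hzc c', mul_inv_cancel_right])
    have h2 := hfix φ ⟨z, hzS⟩ (fun h => by
      rw [show z = 1 from congrArg Subtype.val h, orderOf_one] at hz
      omega) hfixz
    have := orderOf_dvd_of_pow_eq_one (n := 2) (by rw [pow_two, h2] : φ ^ 2 = 1)
    rw [hperm] at this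
    omega

end Cfsg.Agent.S4083
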