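import Cfsg.Statements.S4086
import Mathlib
-- import your own Cfsg.Agent.* helpers here

set_option autoImplicit false
open Cfsg

namespace Cfsg.Agent.S4086

/-- For a finite group G the following are equivalent: every non-identity element has prime-power order; whenever two elements generate a cyclic subgroup, one of them is a power of the other (the enhanced power graph of G coincides with its power graph). -/
theorem result {G : Type*} [Group G] [Finite G] :
    (∀ g : G, g ≠ 1 → IsPrimePow (orderOf g)) ↔
    (∀ x y : G, IsCyclic ↥(Subgroup.closure ({x, y} : Set G)) → (x ∈ Subgroup.zpowers y ∨ y ∈ Subgroup.zpowers x)) := by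
  constructor
  · intro h x y hc
    obtain ⟨z, hz⟩ := hc.exists_generator
    by_cases hz1 : (z : G) = 1
    · left
      have hx : (⟨x, Subgroup.subset_closure (by simp)⟩ : ↥(Subgroup.closure ({x, y} : Set G))) ∈ Subgroup.zpowers z := hz _
      obtain ⟨k, hk⟩ := hx
      have := congrArg Subtype.val hk
      simp [hz1] at this
      simp [← this]
    obtain ⟨p, k, hp, hk, hpk⟩ := h z hz1
    have hp : p.Prime := hp.nat_prime
    have hmem : ∀ w ∈ ({x, y} : Set G), ∃ i : ℤ, (z : G) ^ i = w := by
      intro w hw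
      obtain ⟨i, hi⟩ := hz ⟨w, Subgroup.subset_closure hw⟩
      exact ⟨i, by simpa using congrArg Subtype.val hi⟩
    obtain ⟨i, hi⟩ := hmem x (by simp)
    obtain ⟨j, hj⟩ := hmem y (by simp)
    have hxz : x ∈ Subgroup.zpowers (z : G) := ⟨i, hi⟩
    have hyz : y ∈ Subgroup.zpowers (z : G) := ⟨j, hj⟩
    obtain ⟨a, _, ha⟩ := (Nat.dvd_prime_pow hp).1 (show orderOf x ∣ p ^ k by rw [hpk]; exact orderOf_dvd_of_mem_zpowers hxz)
    obtain ⟨b, _, hb⟩ := (Nat.dvd_prime_pow hp).1 (show orderOf y ∣ p ^ k by rw [hpk]; exact orderOf_dvd_of_mem_zpowers hyz)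
    have key : ∀ u v : G, u ∈ Subgroup.zpowers (z : G) → v ∈ Subgroup.zpowers (z : G) →
        orderOf u ∣ orderOf v → u ∈ Subgroup.zpowers v := by
      intro u v hu hv hd
      obtain ⟨u', hu', rfl⟩ : ∃ u' : G, u' ∈ Subgroup.zpowers (z : G) ∧ u' = u := ⟨u, hu, rfl⟩
      let C := Subgroup.zpowers (z : G)
      haveI : IsCyclic C := by infer_instance
      classical
      haveI := Fintype.ofFinite C
      have hsub : ((Subgroup.zpowers (⟨v, hv⟩ : C) : Set C)).toFinset ⊆
          Finset.univ.filter (fun a : C => a ^ orderOf v = 1) := by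
        intro a ha
        simp only [Set.mem_toFinset, SetLike.mem_coe] at ha
        simp only [Finset.mem_filter, Finset.mem_univ, true_and]
        obtain ⟨k, rfl⟩ := ha
        have h1 : ((⟨v, hv⟩ : C)) ^ orderOf v = 1 := by
          rw [← Subgroup.orderOf_mk v hv]; exact pow_orderOf_eq_one _
        simp only
        rw [← zpow_natCast, ← zpow_mul, mul_comm, zpow_mul, zpow_natCast, h1, one_zpow]
      have heq := Finset.eq_of_subset_of_card_le hsub (by
        refine (IsCyclic.card_pow_eq_one_le (α := C) (orderOf_pos v)).trans ?_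
        rw [Set.toFinset_card, ← Nat.card_eq_fintype_card, SetLike.coe_sort_coe, Nat.card_zpowers,
          Subgroup.orderOf_mk])
      have : (⟨u', hu⟩ : C) ∈ Finset.univ.filter (fun a : C => a ^ orderOf v = 1) := by
        simp only [Finset.mem_filter, Finset.mem_univ, true_and]
        apply Subtype.ext
        simp only [SubgroupClass.coe_pow, OneMemClass.coe_one]
        exact orderOf_dvd_iff_pow_eq_one.1 hd
      rw [← heq, Set.mem_toFinset, SetLike.mem_coe] at this
      obtain ⟨k, hk⟩ := this
      exact ⟨k, by simpa using congrArg Subtype.val hk⟩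
    rcases le_total a b with hab | hab
    · exact Or.inl (key x y hxz hyz (by rw [ha, hb]; exact pow_dvd_pow p hab))
    · exact Or.inr (key y x hyz hxz (by rw [ha, hb]; exact pow_dvd_pow p hab))
  · intro h g hg
    by_contra hn
    have h1 : orderOf g ≠ 1 := by simpa using hg
    have h0 : 0 < orderOf g := orderOf_pos g
    obtain ⟨p, hp, hpd⟩ := Nat.exists_prime_and_dvd h1
    obtain ⟨e, b, hpb, hn'⟩ := Nat.exists_eq_pow_mul_and_not_dvd h0.ne' p hp.ne_one
    have he : e ≠ 0 := by rintro rfl; simp at hn'; exact hpb (hn' ▸ hpd)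
    have hb1 : b ≠ 1 := by
      rintro rfl
      exact hn ((isPrimePow_nat_iff _).2 ⟨p, e, hp, Nat.pos_of_ne_zero he, by simp [hn']⟩)
    have hox : orderOf (g ^ (p ^ e)) = b := by
      rw [orderOf_pow_of_dvd (pow_ne_zero _ hp.pos.ne') (hn' ▸ dvd_mul_right _ _), hn',
        Nat.mul_div_cancel_left _ (pow_pos hp.pos _)]
    have hbpos : b ≠ 0 := by rintro rfl; rw [Nat.mul_zero] at hn'; exact h0.ne' hn'
    have hoy : orderOf (g ^ b) = p ^ e := by
      rw [orderOf_pow_of_dvd hbpos (hn' ▸ dvd_mul_left _ _), hn',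
        Nat.mul_div_cancel _ (Nat.pos_of_ne_zero hbpos)]
    have hle : Subgroup.closure ({g ^ (p ^ e), g ^ b} : Set G) ≤ Subgroup.zpowers g := by
      rw [Subgroup.closure_le]
      rintro w (rfl | rfl) <;> exact Subgroup.npow_mem_zpowers g _
    rcases h _ _ (Subgroup.isCyclic_of_le hle) with h' | h'
    · have hd := orderOf_dvd_of_mem_zpowers h'
      rw [hox, hoy] at hd
      obtain ⟨i, _, rfl⟩ := (Nat.dvd_prime_pow hp).1 hd
      cases i with
      | zero => simp at hb1
      | succ i => exact hpb (dvd_pow_self p (by omega))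
    · have hd := orderOf_dvd_of_mem_zpowers h'
      rw [hox, hoy] at hd
      exact hpb ((dvd_pow_self p he).trans hd)

end Cfsg.Agent.S4086
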