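import Cfsg.Statements.S4088
import Mathlib
import Cfsg.Agent.Lib.SubnormSet.Basic
-- import your own Cfsg.Agent.* helpers here

set_option autoImplicit false
open Cfsg

namespace Cfsg.Agent.S4088

open scoped Pointwise

theorem card_smul_pred {G X : Type*} [Group G] [MulAction G X] (a : X) (S : X → Prop) :
    Nat.card {x : G // S (x • a)} =
      Nat.card {b : X // S b ∧ ∃ x : G, x • a = b} * Nat.card (MulAction.stabilizer G a) := by
  rw [← Nat.card_prod]
  exact Nat.card_congr
    { toFun := fun x => (⟨x.1 • a, x.2, x.1, rfl⟩,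
        ⟨((⟨x.1, rfl⟩ : ∃ y : G, y • a = x.1 • a).choose)⁻¹ * x.1, by
          rw [MulAction.mem_stabilizer_iff, mul_smul, inv_smul_eq_iff]
          exact ((⟨x.1, rfl⟩ : ∃ y : G, y • a = x.1 • a).choose_spec).symm⟩)
      invFun := fun z => ⟨z.1.2.2.choose * z.2.1, by
        rw [mul_smul, MulAction.mem_stabilizer_iff.1 z.2.2, z.1.2.2.choose_spec]; exact z.1.2.1⟩
      left_inv := fun x => Subtype.ext (by simp)
      right_inv := fun z => by
        have h : (z.1.2.2.choose * z.2.1) • a = z.1.1 := by
          rw [mul_smul, MulAction.mem_stabilizer_iff.1 z.2.2, z.1.2.2.choose_spec]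
        refine Prod.ext (Subtype.ext h) (Subtype.ext ?_)
        simp [h] }

/-- Let G be a finite group, p a prime dividing the order of G, H a p-subgroup of G and P a Sylow p-subgroup of G. Call the subnormalizer of H the set of elements g of G such that H is subnormal in the subgroup generated by H and g. Then the number of elements of the subnormalizer of H equals the number of Sylow p-subgroups of G containing H times the order of N_G(P), and also equals the number of conjugates of H contained in P times the order of N_G(H). -/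
theorem result {G : Type*} [Group G] [Finite G] (p : ℕ) [Fact p.Prime]
    (hp : p ∣ Nat.card G) (H : Subgroup G) (hH : IsPGroup p H) (P : Sylow p G) :
    Nat.card {g : G // ((H).subgroupOf (H ⊔ Subgroup.zpowers g)).IsSubnormal} =
        Nat.card {Q : Sylow p G // H ≤ (Q : Subgroup G)} * Nat.card (Subgroup.normalizer ((P : Subgroup G) : Set G)) ∧
    Nat.card {g : G // ((H).subgroupOf (H ⊔ Subgroup.zpowers g)).IsSubnormal} =
        Nat.card {K : Subgroup G // K ≤ (P : Subgroup G) ∧ ∃ g : G, K = H.map (MulAut.conj g).toMonoidHom} *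
          Nat.card (Subgroup.normalizer (H : Set G)) := by
  have hfirst : Nat.card {g : G // ((H).subgroupOf (H ⊔ Subgroup.zpowers g)).IsSubnormal} =
      Nat.card {Q : Sylow p G // H ≤ (Q : Subgroup G)} * Nat.card (Subgroup.normalizer ((P : Subgroup G) : Set G)) := by
    rw [Nat.card_congr (Equiv.subtypeEquivRight (fun g => Lib.SubnormSet.isSubnormal_sup_zpowers_iff hH g)),
      Lib.SubnormSet.card_inS_eq hH P]
  refine ⟨hfirst, hfirst.trans ?_⟩
  have hsyl : Nat.card {x : G // H ≤ ((x • P : Sylow p G) : Subgroup G)} =
      Nat.card {Q : Sylow p G // H ≤ (Q : Subgroup G)} * Nat.card (Subgroup.normalizer ((P : Subgroup G) : Set G)) := by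
    rw [card_smul_pred P (fun Q => H ≤ (Q : Subgroup G))]
    congr 1
    · exact Nat.card_congr (Equiv.subtypeEquivRight fun Q => and_iff_left (MulAction.exists_smul_eq G P Q))
    · rw [Sylow.stabilizer_eq_normalizer]
      rfl
  letI : MulAction G (Subgroup G) := MulAction.compHom _ (MulAut.conj : G →* MulAut G)
  have hconj : ∀ (x : G) (K : Subgroup G), x • K = K.map (MulAut.conj x).toMonoidHom := fun x K => rfl
  have hsub : Nat.card {x : G // x • H ≤ (P : Subgroup G)} =
      Nat.card {K : Subgroup G // K ≤ (P : Subgroup G) ∧ ∃ g : G, K = H.map (MulAut.conj g).toMonoidHom} *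
        Nat.card (Subgroup.normalizer (H : Set G)) := by
    rw [card_smul_pred H (fun K => K ≤ (P : Subgroup G))]
    congr 1
    · exact Nat.card_congr (Equiv.subtypeEquivRight fun K =>
        and_congr_right fun _ => ⟨fun ⟨x, hx⟩ => ⟨x, hx.symm⟩, fun ⟨x, hx⟩ => ⟨x, hx.symm⟩⟩)
    · refine Nat.card_congr (Equiv.subtypeEquivRight fun x => ?_)
      rw [MulAction.mem_stabilizer_iff, hconj, Subgroup.mem_normalizer_iff]
      constructor
      · intro hx y
        constructor
        · intro hy
          have := hx.le ⟨y, hy, rfl⟩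
          simpa using this
        · intro hy
          obtain ⟨z, hz, hzy⟩ := hx.ge hy
          simp only [MulEquiv.coe_toMonoidHom, MulAut.conj_apply, mul_left_inj, mul_right_inj] at hzy
          exact hzy ▸ hz
      · intro hx
        ext y
        constructor
        · rintro ⟨z, hz, rfl⟩
          exact (hx z).1 hz
        · intro hy
          refine ⟨x⁻¹ * y * x, (hx _).2 ?_, ?_⟩
          · simpa [mul_assoc] using hy
          · simp only [MulEquiv.coe_toMonoidHom, MulAut.conj_apply]; group
  rw [← hsyl, ← hsub]
  refine Nat.card_congr (Equiv.subtypeEquiv (Equiv.inv G) fun x => ?_)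
  constructor
  · intro h
    rw [hconj, Subgroup.map_le_iff_le_comap]
    intro y hy
    have := h hy
    simp only [Sylow.coe_subgroup_smul, Subgroup.mem_pointwise_smul_iff_inv_smul_mem, ← map_inv] at this
    exact this
  · intro h y hy
    have h' := h ⟨y, hy, rfl⟩
    simp only [Sylow.coe_subgroup_smul, Subgroup.mem_pointwise_smul_iff_inv_smul_mem, ← map_inv]
    exact h' 

end Cfsg.Agent.S4088
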