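import Cfsg.Statements.S4089
import Mathlib
import Cfsg.Agent.Lib.SubnormSet.Basic
-- import your own Cfsg.Agent.* helpers here

set_option autoImplicit false
open Cfsg

namespace Cfsg.Agent.S4089

open scoped Pointwise

/-- Let G be a finite group, p a prime and H a p-subgroup of G. Then the set of elements g of G such that H is subnormal in the subgroup generated by H and g is the union of the normalizers N_G(R) over the subgroups R of G containing H with R = O_p(N_G(R)); and this set does not change when H is replaced by the intersection of all Sylow p-subgroups of G containing H. -/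
theorem result {G : Type*} [Group G] [Finite G] (p : ℕ) [Fact p.Prime]
    (H : Subgroup G) (hH : IsPGroup p H) :
    {g : G | ((H).subgroupOf (H ⊔ Subgroup.zpowers g)).IsSubnormal} =
      {g : G | ∃ R : Subgroup G, H ≤ R ∧ (Cfsg.pCore p (Subgroup.normalizer (R : Set G))).map (Subgroup.normalizer (R : Set G)).subtype = R ∧ g ∈ Subgroup.normalizer (R : Set G)} ∧
    ∀ g : G, (((H).subgroupOf (H ⊔ Subgroup.zpowers g)).IsSubnormal ↔
      (((sInf {K : Subgroup G | ∃ Q : Sylow p G, H ≤ (Q : Subgroup G) ∧ K = (Q : Subgroup G)})).subgroupOf ((sInf {K : Subgroup G | ∃ Q : Sylow p G, H ≤ (Q : Subgroup G) ∧ K = (Q : Subgroup G)}) ⊔ Subgroup.zpowers g)).IsSubnormal) := by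
  have key : ∀ (g : G), Lib.SubnormSet.InS p H g → ∃ R : Subgroup G, H ≤ R ∧
      (Cfsg.pCore p (Subgroup.normalizer (R : Set G))).map (Subgroup.normalizer (R : Set G)).subtype = R ∧
      g ∈ Subgroup.normalizer (R : Set G) := by
    rintro g ⟨R0, hR0, hHR0, hg0⟩
    obtain ⟨R, ⟨hR, hHR, hg⟩, hmax⟩ :=
      (Set.toFinite {R : Subgroup G | IsPGroup p R ∧ H ≤ R ∧ g ∈ Subgroup.normalizer (R : Set G)}).exists_maximal
        ⟨R0, hR0, hHR0, hg0⟩
    set N := Subgroup.normalizer (R : Set G) with hN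
    haveI : (R.subgroupOf N).Normal := Subgroup.normal_in_normalizer
    have hle : R ≤ (Cfsg.pCore p N).map N.subtype := fun x hx =>
      ⟨⟨x, Subgroup.le_normalizer hx⟩, Lib.Cores.le_pCore (N := R.subgroupOf N) hR.comap_subtype hx, rfl⟩
    refine ⟨R, hHR, le_antisymm (hmax ⟨(Lib.Cores.pCore_isPGroup p).map _, hHR.trans hle, ?_⟩ hle) hle, hg⟩
    refine Subgroup.le_normalizer_map _ ⟨⟨g, hg⟩, ?_, rfl⟩
    rw [SetLike.mem_coe, Subgroup.normalizer_eq_top (Cfsg.pCore p N)]
    trivial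
  constructor
  · ext g
    rw [Set.mem_ofPred_eq, Set.mem_ofPred_eq, Lib.SubnormSet.isSubnormal_sup_zpowers_iff hH g]
    refine ⟨key g, ?_⟩
    rintro ⟨R, hHR, hRe, hg⟩
    exact ⟨R, hRe ▸ (Lib.Cores.pCore_isPGroup p).map _, hHR, hg⟩
  · intro g
    set I := sInf {K : Subgroup G | ∃ Q : Sylow p G, H ≤ (Q : Subgroup G) ∧ K = (Q : Subgroup G)} with hI
    have hHI : H ≤ I := le_sInf (by rintro _ ⟨Q, hQ, rfl⟩; exact hQ)
    have hIp : IsPGroup p I := by
      obtain ⟨Q, hQ⟩ := hH.exists_le_sylow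
      exact Q.2.to_le (sInf_le ⟨Q, hQ, rfl⟩)
    rw [Lib.SubnormSet.isSubnormal_sup_zpowers_iff hH g, Lib.SubnormSet.isSubnormal_sup_zpowers_iff hIp g]
    constructor
    · rintro ⟨R, hR, hHR, hg⟩
      obtain ⟨Q0, hQ0⟩ := hR.exists_le_sylow
      set J := sInf {K : Subgroup G | ∃ Q : Sylow p G, R ≤ (Q : Subgroup G) ∧ K = (Q : Subgroup G)} with hJ
      refine ⟨J, Q0.2.to_le (sInf_le ⟨Q0, hQ0, rfl⟩),
        le_sInf (by rintro _ ⟨Q, hQ, rfl⟩; exact sInf_le ⟨Q, hHR.trans hQ, rfl⟩), ?_⟩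
      have hinv : ∀ h : G, h ∈ Subgroup.normalizer (R : Set G) → ∀ x ∈ J, h * x * h⁻¹ ∈ J := by
        intro h hh x hx
        rw [hJ, Subgroup.mem_sInf] at hx ⊢
        rintro _ ⟨Q, hQ, rfl⟩
        have hQ' : R ≤ ((h⁻¹ • Q : Sylow p G) : Subgroup G) := by
          intro r hr
          simp only [Sylow.coe_subgroup_smul, Subgroup.mem_pointwise_smul_iff_inv_smul_mem, ← map_inv, inv_inv]
          exact hQ ((Subgroup.mem_normalizer_iff.1 hh r).1 hr)
        have := hx _ ⟨h⁻¹ • Q, hQ', rfl⟩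
        simp only [Sylow.coe_subgroup_smul, Subgroup.mem_pointwise_smul_iff_inv_smul_mem, ← map_inv, inv_inv] at this
        exact this
      rw [Subgroup.mem_normalizer_iff]
      exact fun x => ⟨hinv g hg x, fun hx => by
        have := hinv g⁻¹ (inv_mem hg) _ hx
        simpa [mul_assoc] using this⟩
    · rintro ⟨R, hR, hIR, hg⟩
      exact ⟨R, hR, hHI.trans hIR, hg⟩

end Cfsg.Agent.S4089
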