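import Cfsg.Statements.S4091
import Mathlib
import Cfsg.Agent.Lib.SubnormSet.Into
import Cfsg.Agent.Lib.SubnormSet.Average
-- import your own Cfsg.Agent.* helpers here

set_option autoImplicit false
open Cfsg

namespace Cfsg.Agent.S4091

open Cfsg.Agent.Lib.SubnormSet
open scoped Pointwise

universe u

theorem prod_le_pow {ι : Type*} (s : Finset ι) (a : ι → ℝ) (ha : ∀ i ∈ s, 0 ≤ a i) (hs : 0 < s.card) :
    ∏ i ∈ s, a i ≤ ((∑ i ∈ s, a i) / s.card) ^ s.card := by
  have h := Real.geom_mean_le_arith_mean s (fun _ => (1 : ℝ)) a (fun _ _ => zero_le_one) (by simpa using hs) ha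
  simp only [Real.rpow_one, one_mul, Finset.sum_const, nsmul_eq_mul, mul_one] at h
  have hnn : 0 ≤ ∏ i ∈ s, a i := Finset.prod_nonneg ha
  calc ∏ i ∈ s, a i = ((∏ i ∈ s, a i) ^ ((s.card : ℝ)⁻¹)) ^ s.card :=
        (Real.rpow_inv_natCast_pow hnn hs.ne').symm
    _ ≤ _ := pow_le_pow_left₀ (Real.rpow_nonneg hnn _) h _

variable {G : Type u} [Group G] [Finite G] {p : ℕ} [Fact p.Prime]

theorem fixCount_eq (P : Sylow p G) (N L : Subgroup G) [N.Normal] [L.Normal] (hNL : N ≤ L) :
    ∃ (V : Subgroup (G ⧸ N)) (φ : (P : Subgroup G) →* MulAut V),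
      Nat.card L = Nat.card N * Nat.card V ∧ Nat.card V = N.relIndex L ∧
      ∀ B : Subgroup (P : Subgroup G),
        fixCount (B.map (P : Subgroup G).subtype) N L = Nat.card N * Nat.card (Average.fix φ B) := by
  set V := L.map (QuotientGroup.mk' N) with hVdef
  haveI : V.Normal := Subgroup.Normal.map inferInstance _ (QuotientGroup.mk'_surjective N)
  have hpre : ∀ t : Set (G ⧸ N), Nat.card (QuotientGroup.mk ⁻¹' t : Set G) = Nat.card N * Nat.card t := fun t => by
    rw [Nat.card_congr (QuotientGroup.preimageMkEquivSubgroupProdSet N t), Nat.card_prod]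
  have hLmem : ∀ u : G, u ∈ L ↔ (u : G ⧸ N) ∈ V := by
    intro u
    refine ⟨fun h => ⟨u, h, rfl⟩, ?_⟩
    rintro ⟨w, hw, hwu⟩
    have h2 : w⁻¹ * u ∈ N := QuotientGroup.eq.1 hwu
    simpa using mul_mem hw (hNL h2)
  have hcard : Nat.card L = Nat.card N * Nat.card V := by
    refine Eq.trans ?_ (hpre (V : Set (G ⧸ N)))
    exact Nat.card_congr (Equiv.subtypeEquivRight hLmem)
  refine ⟨V, (MulAut.conjNormal (H := V)).comp ((QuotientGroup.mk' N).comp (P : Subgroup G).subtype),
    hcard, ?_, fun B => ?_⟩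
  · refine Nat.eq_of_mul_eq_mul_left (Nat.card_pos (α := N)) ?_
    rw [← hcard, card_mul_relIndex' hNL]
  · set φ := (MulAut.conjNormal (H := V)).comp ((QuotientGroup.mk' N).comp (P : Subgroup G).subtype) with hφ
    let t : Set (G ⧸ N) := {v | v ∈ V ∧ ∀ b ∈ B, (((b : (P : Subgroup G)) : G) : G ⧸ N) * v * (((b : (P : Subgroup G)) : G) : G ⧸ N)⁻¹ = v}
    have ht : Nat.card t = Nat.card (Average.fix φ B) := by
      refine Nat.card_congr
        { toFun := fun v => ⟨⟨v.1, v.2.1⟩, fun b hb => Subtype.ext ?_⟩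
          invFun := fun v => ⟨v.1.1, v.1.2, fun b hb => ?_⟩
          left_inv := fun v => rfl
          right_inv := fun v => rfl }
      · exact (MulAut.conjNormal_apply _ _).trans (v.2.2 b hb)
      · exact (MulAut.conjNormal_apply _ _).symm.trans (congrArg Subtype.val (v.2 b hb))
    rw [← ht, ← hpre t, fixCount]
    refine Nat.card_congr (Equiv.subtypeEquivRight fun u => ?_)
    simp only [t, Set.mem_preimage, Set.mem_ofPred_eq, ← hLmem]
    refine and_congr_right fun _ => ?_
    constructor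
    · intro h b hb
      rw [← QuotientGroup.mk_mul, ← QuotientGroup.mk_inv, ← QuotientGroup.mk_mul, ← mul_inv_eq_one,
        ← QuotientGroup.mk_inv, ← QuotientGroup.mk_mul, QuotientGroup.eq_one_iff]
      exact h _ ⟨b, hb, rfl⟩
    · rintro h _ ⟨b, hb, rfl⟩
      have := h b hb
      rwa [← QuotientGroup.mk_mul, ← QuotientGroup.mk_inv, ← QuotientGroup.mk_mul, ← mul_inv_eq_one,
        ← QuotientGroup.mk_inv, ← QuotientGroup.mk_mul, QuotientGroup.eq_one_iff] at this

theorem prod_sylow_count (hG : Cfsg.IsPSolvable p G) (P : Sylow p G) :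
    (∏ᶠ x : (P : Subgroup G), Nat.card {Q : Sylow p G // (x : G) ∈ (Q : Subgroup G)}) ^ p ≤
      Nat.card (Sylow p G) ^ Nat.card (P : Subgroup G) := by
  classical
  obtain ⟨n, M, h0, hn, hmono, hnormal, hfac⟩ := hG
  haveI := Fintype.ofFinite (P : Subgroup G)
  set m := Nat.card (Subgroup.normalizer ((P : Subgroup G) : Set G)) with hm
  let c : Subgroup (P : Subgroup G) → Fin n → ℕ := fun B i =>
    if ((M i.castSucc).relIndex (M i.succ)).Coprime p then
      fixCount (B.map (P : Subgroup G).subtype) (M i.castSucc) (M i.succ) / Nat.card (M i.castSucc) else 1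
  have hg : ∀ B : Subgroup (P : Subgroup G),
      Nat.card {Q : Sylow p G // B.map (P : Subgroup G).subtype ≤ (Q : Subgroup G)} * m =
        Nat.card (P : Subgroup G) * ∏ i, c B i := by
    intro B
    rw [← intoCount_eq, intoCount_chain P ((P.2.to_subgroup B).map _) n M h0 hn hmono hnormal hfac]
  have hx : ∀ x : (P : Subgroup G), Nat.card {Q : Sylow p G // (Subgroup.zpowers x).map (P : Subgroup G).subtype ≤ (Q : Subgroup G)}
      = Nat.card {Q : Sylow p G // (x : G) ∈ (Q : Subgroup G)} := by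
    intro x
    refine Nat.card_congr (Equiv.subtypeEquivRight fun Q => ?_)
    rw [MonoidHom.map_zpowers, Subgroup.zpowers_le]
    rfl
  have hbot : Nat.card {Q : Sylow p G // (⊥ : Subgroup (P : Subgroup G)).map (P : Subgroup G).subtype ≤ (Q : Subgroup G)}
      = Nat.card (Sylow p G) :=
    Nat.card_congr (Equiv.subtypeUnivEquiv fun Q => by simp)
  have htop : Nat.card {Q : Sylow p G // (⊤ : Subgroup (P : Subgroup G)).map (P : Subgroup G).subtype ≤ (Q : Subgroup G)} = 1 := by
    rw [← MonoidHom.range_eq_map, Subgroup.range_subtype]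
    haveI : Subsingleton {Q : Sylow p G // (P : Subgroup G) ≤ (Q : Subgroup G)} :=
      ⟨fun a b => Subtype.ext (Sylow.ext ((P.3 a.1.2 a.2).trans (P.3 b.1.2 b.2).symm))⟩
    exact Nat.card_eq_one_iff_unique.2 ⟨inferInstance, ⟨⟨P, le_rfl⟩⟩⟩
  have hfac' : ∀ i, (∏ x : (P : Subgroup G), c (Subgroup.zpowers x) i) ^ p ≤
      c ⊥ i ^ Nat.card (P : Subgroup G) * c ⊤ i ^ ((p - 1) * Nat.card (P : Subgroup G)) := by
    intro i
    by_cases hco : ((M i.castSucc).relIndex (M i.succ)).Coprime p
    · haveI := hnormal i.castSucc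
      haveI := hnormal i.succ
      obtain ⟨V, φ, hV1, hV2, hfix⟩ := fixCount_eq P (M i.castSucc) (M i.succ) (hmono Fin.castSucc_lt_succ.le)
      have hc : ∀ B, c B i = Nat.card (Average.fix φ B) := fun B => by
        simp only [c, if_pos hco, hfix, Nat.mul_div_cancel_left _ Nat.card_pos]
      have h := Average.bound P.2 φ (hV2 ▸ hco)
      rw [Average.Bound, finprod_eq_prod_of_fintype] at h
      have hb : Average.fix φ ⊥ = ⊤ := eq_top_iff.2 fun v _ b hb => by
        rw [Subgroup.mem_bot] at hb; subst hb; rw [map_one]; rfl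
      simp only [hc, hb, Subgroup.card_top]
      exact h
    · simp [c, if_neg hco]
  have hkey : (∏ x : (P : Subgroup G), Nat.card {Q : Sylow p G // (x : G) ∈ (Q : Subgroup G)} * m) ^ p ≤
      (Nat.card (Sylow p G) * m) ^ Nat.card (P : Subgroup G) * m ^ ((p - 1) * Nat.card (P : Subgroup G)) := by
    have e1 := hg ⊥
    rw [hbot] at e1
    have e2 := hg ⊤
    rw [htop, one_mul] at e2
    have e0 : ∀ x : (P : Subgroup G), Nat.card {Q : Sylow p G // (x : G) ∈ (Q : Subgroup G)} * m =
        Nat.card (P : Subgroup G) * ∏ i, c (Subgroup.zpowers x) i := fun x => by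
      rw [← hx x]; exact hg (Subgroup.zpowers x)
    rw [Finset.prod_congr rfl (fun x _ => e0 x), e1, e2,
      Finset.prod_mul_distrib, Finset.prod_comm, mul_pow, mul_pow, mul_pow, Finset.prod_const, Finset.card_univ,
      ← Nat.card_eq_fintype_card, ← pow_mul, ← Finset.prod_pow, ← Finset.prod_pow, ← Finset.prod_pow]
    refine le_trans (Nat.mul_le_mul_left _ (Finset.prod_le_prod' fun i _ => hfac' i)) (le_of_eq ?_)
    rw [Finset.prod_mul_distrib]
    obtain ⟨q, hq⟩ : ∃ q, p = q + 1 := ⟨p - 1, by have := (Fact.out : p.Prime).one_le; omega⟩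
    subst hq
    rw [Nat.add_sub_cancel]; ring
  rw [finprod_eq_prod_of_fintype]
  obtain ⟨q, hq⟩ : ∃ q, p = q + 1 := ⟨p - 1, by have := (Fact.out : p.Prime).one_le; omega⟩
  subst hq
  rw [Finset.prod_mul_distrib, Finset.prod_const, Finset.card_univ, ← Nat.card_eq_fintype_card, mul_pow,
    Nat.add_sub_cancel, mul_pow, mul_assoc, ← pow_add, ← pow_mul,
    show Nat.card (P : Subgroup G) * (q + 1) = Nat.card (P : Subgroup G) + q * Nat.card (P : Subgroup G) by ring] at hkey
  exact Nat.le_of_mul_le_mul_right hkey (pow_pos Nat.card_pos _)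

theorem sum_inv_count (P : Sylow p G) :
    (Nat.card {g : G // ∃ k : ℕ, orderOf g = p ^ k} : ℝ) =
      ∑ᶠ x : (P : Subgroup G), (Nat.card (Sylow p G) : ℝ) / Nat.card {Q : Sylow p G // (x : G) ∈ (Q : Subgroup G)} := by
  classical
  haveI := Fintype.ofFinite G
  haveI := Fintype.ofFinite (Sylow p G)
  haveI := Fintype.ofFinite (P : Subgroup G)
  let w : G → ℝ := fun x => (1 : ℝ) / Nat.card {Q : Sylow p G // x ∈ (Q : Subgroup G)}
  have hmemsmul : ∀ (c x : G) (Q : Sylow p G), x ∈ ((c • Q : Sylow p G) : Subgroup G) ↔ c⁻¹ * x * c ∈ (Q : Subgroup G) := by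
    intro c x Q
    rw [Sylow.coe_subgroup_smul, Subgroup.mem_pointwise_smul_iff_inv_smul_mem, MulAut.smul_def, MulAut.conj_inv_apply]
  have hw : ∀ c x : G, w (c * x * c⁻¹) = w x := by
    intro c x
    simp only [w]
    congr 2
    refine (Nat.card_congr (Equiv.subtypeEquiv (MulAction.toPerm c) fun Q => ?_)).symm
    rw [MulAction.toPerm_apply, hmemsmul]
    simp [mul_assoc]
  have hQ : ∀ Q : Sylow p G, ∑ x ∈ Finset.univ.filter (fun x : G => x ∈ (Q : Subgroup G)), w x =
      ∑ x ∈ Finset.univ.filter (fun x : G => x ∈ (P : Subgroup G)), w x := by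
    intro Q
    obtain ⟨c, hc⟩ := MulAction.exists_smul_eq G P Q
    refine (Finset.sum_bij' (fun x _ => c * x * c⁻¹) (fun x _ => c⁻¹ * x * c) ?_ ?_ ?_ ?_ ?_).symm
    · intro x hx
      simp only [Finset.mem_filter, Finset.mem_univ, true_and, ← hc, hmemsmul] at hx ⊢
      simpa [mul_assoc] using hx
    · intro x hx
      simp only [Finset.mem_filter, Finset.mem_univ, true_and, ← hc, hmemsmul] at hx ⊢
      exact hx
    · intro x _; group
    · intro x _; group
    · intro x _; exact (hw c x).symm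
  have hpel : ∀ x : G, (∃ k : ℕ, orderOf x = p ^ k) ↔ (Finset.univ.filter fun Q : Sylow p G => x ∈ (Q : Subgroup G)).Nonempty := by
    intro x
    constructor
    · rintro ⟨k, hk⟩
      obtain ⟨Q, hQ⟩ := IsPGroup.exists_le_sylow (p := p) (P := Subgroup.zpowers x)
        (IsPGroup.of_card (n := k) (by rw [Nat.card_zpowers, hk]))
      exact ⟨Q, Finset.mem_filter.2 ⟨Finset.mem_univ _, hQ (Subgroup.mem_zpowers x)⟩⟩
    · rintro ⟨Q, hQ⟩
      obtain ⟨k, hk⟩ := IsPGroup.iff_orderOf.1 Q.2 ⟨x, (Finset.mem_filter.1 hQ).2⟩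
      exact ⟨k, by rw [← hk, Subgroup.orderOf_mk]⟩
  have hcount : ∑ Q : Sylow p G, ∑ x ∈ Finset.univ.filter (fun x : G => x ∈ (Q : Subgroup G)), w x =
      (Nat.card {g : G // ∃ k : ℕ, orderOf g = p ^ k} : ℝ) := by
    rw [Finset.sum_comm' (t' := (Finset.univ : Finset G))
      (s' := fun x => Finset.univ.filter fun Q : Sylow p G => x ∈ (Q : Subgroup G)) (by simp),
      Nat.card_eq_fintype_card, Fintype.card_subtype, ← Finset.sum_boole]
    refine Finset.sum_congr rfl fun x _ => ?_
    rw [Finset.sum_const, nsmul_eq_mul]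
    simp only [w, Nat.card_eq_fintype_card, Fintype.card_subtype]
    by_cases h : ∃ k : ℕ, orderOf x = p ^ k
    · rw [if_pos h]
      exact mul_one_div_cancel (Nat.cast_ne_zero.2 (Finset.card_pos.2 ((hpel x).1 h)).ne')
    · rw [if_neg h, Finset.not_nonempty_iff_eq_empty.1 (fun e => h ((hpel x).2 e))]
      simp
  rw [← hcount, Finset.sum_congr rfl (fun Q _ => hQ Q), Finset.sum_const, Finset.card_univ, nsmul_eq_mul,
    Finset.mul_sum, finsum_eq_sum_of_fintype, Finset.sum_subtype (p := fun x => x ∈ (P : Subgroup G)) (F := (inferInstance : Fintype (P : Subgroup G))) _ (by simp)]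
  simp [w, Nat.card_eq_fintype_card, div_eq_mul_inv]

/-- Let G be a finite p-solvable group, P a Sylow p-subgroup of G, u the number of p-elements of G (elements of p-power order, the identity included) and n the number of Sylow p-subgroups of G. Then u/#P ≥ n^((p−1)/p), stated as u^p ≥ #P^p · n^(p−1). -/
theorem result {G : Type*} [Group G] [Finite G] (p : ℕ) [Fact p.Prime]
    (hG : Cfsg.IsPSolvable p G) (P : Sylow p G) :
    Nat.card (P : Subgroup G) ^ p * Nat.card (Sylow p G) ^ (p - 1) ≤ Nat.card {g : G // ∃ k : ℕ, orderOf g = p ^ k} ^ p := by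
  classical
  haveI := Fintype.ofFinite (P : Subgroup G)
  have hp : p.Prime := Fact.out
  have hlam : ∀ x : (P : Subgroup G), 0 < Nat.card {Q : Sylow p G // (x : G) ∈ (Q : Subgroup G)} := fun x => by
    haveI : Nonempty {Q : Sylow p G // (x : G) ∈ (Q : Subgroup G)} := ⟨⟨P, x.2⟩⟩
    exact Nat.card_pos
  have h1 := prod_sylow_count hG P
  rw [finprod_eq_prod_of_fintype] at h1
  have h2 := sum_inv_count P
  rw [finsum_eq_sum_of_fintype] at h2
  set u := Nat.card {g : G // ∃ k : ℕ, orderOf g = p ^ k}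
  set n := Nat.card (Sylow p G)
  set K := Nat.card (P : Subgroup G) with hK
  set L := ∏ x : (P : Subgroup G), Nat.card {Q : Sylow p G // (x : G) ∈ (Q : Subgroup G)} with hL
  have hK0 : 0 < K := Nat.card_pos
  have hn0 : 0 < n := Nat.card_pos
  have h3 : n ^ K * K ^ K ≤ u ^ K * L := by
    have h := prod_le_pow (Finset.univ : Finset (P : Subgroup G))
      (fun x => (n : ℝ) / Nat.card {Q : Sylow p G // (x : G) ∈ (Q : Subgroup G)}) (fun x _ => by positivity)
      (Finset.card_pos.2 Finset.univ_nonempty)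
    rw [← h2, Finset.prod_div_distrib, Finset.prod_const, Finset.card_univ, ← Nat.card_eq_fintype_card, ← hK,
      ← Nat.cast_prod, ← hL, div_pow, div_le_div_iff₀] at h
    · exact_mod_cast h
    · exact_mod_cast Finset.prod_pos fun x _ => hlam x
    · positivity
  have h4 : (K ^ p * n ^ (p - 1)) ^ K ≤ (u ^ p) ^ K := by
    refine Nat.le_of_mul_le_mul_right (?_ : _ * n ^ K ≤ _ * n ^ K) (pow_pos hn0 K)
    calc (K ^ p * n ^ (p - 1)) ^ K * n ^ K = (n ^ K * K ^ K) ^ p := by
          obtain ⟨q, hq⟩ : ∃ q, p = q + 1 := ⟨p - 1, by have := hp.one_le; omega⟩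
          rw [hq, Nat.add_sub_cancel]; ring
      _ ≤ (u ^ K * L) ^ p := Nat.pow_le_pow_left h3 p
      _ = (u ^ p) ^ K * L ^ p := by rw [mul_pow, ← pow_mul, ← pow_mul, mul_comm K p]
      _ ≤ (u ^ p) ^ K * n ^ K := Nat.mul_le_mul_left _ h1
  exact (Nat.pow_le_pow_iff_left hK0.ne').1 h4

end Cfsg.Agent.S4091
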