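import Cfsg.Statements.S4092
import Mathlib
-- import your own Cfsg.Agent.* helpers here

set_option autoImplicit false
open Cfsg

namespace Cfsg.Agent.S4092


/-- Let G be a finite group, p a prime and P a Sylow p-subgroup of G that is not normal in G. Then G has at least p·#P elements of p-power order (the identity included). -/
theorem result {G : Type*} [Group G] [Finite G] (p : ℕ) [Fact p.Prime]
    (P : Sylow p G) (hP : ¬ (P : Subgroup G).Normal) :
    p * Nat.card (P : Subgroup G) ≤ Nat.card {g : G // ∃ k : ℕ, orderOf g = p ^ k} := by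
  classical
  have hex : ∃ Q : Sylow p G, Q ≠ P := by
    by_contra hne
    push Not at hne
    haveI : Subsingleton (Sylow p G) := ⟨fun a b => by rw [hne a, hne b]⟩
    exact hP (Sylow.normal_of_subsingleton P)
  obtain ⟨Q1, hQ1⟩ := hex
  haveI hnon : Nonempty {x : Sylow p G × Sylow p G // x.1 ≠ x.2} := ⟨⟨(Q1, P), hQ1⟩⟩
  obtain ⟨⟨⟨P0, Q0⟩, hne⟩, hmax⟩ := Finite.exists_max
    (fun x : {x : Sylow p G × Sylow p G // x.1 ≠ x.2} => Nat.card ↥((x.1.1 : Subgroup G) ⊓ x.1.2))
  simp only at hne hmax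
  set D : Subgroup G := (P0 : Subgroup G) ⊓ Q0 with hD
  set R : Subgroup G := (P0 : Subgroup G) ⊓ Subgroup.normalizer (D : Set G) with hR
  have hDP : D ≤ (P0 : Subgroup G) := inf_le_left
  have hDQ : D ≤ (Q0 : Subgroup G) := inf_le_right
  have hDR : D ≤ R := le_inf hDP Subgroup.le_normalizer
  have hDlt : D < (P0 : Subgroup G) := by
    refine lt_of_le_of_ne hDP fun hd => hne ?_
    apply Sylow.ext
    refine Subgroup.eq_of_le_of_card_ge (hd ▸ hDQ) ?_
    rw [Sylow.card_eq_multiplicity P0, Sylow.card_eq_multiplicity Q0]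
  have hRD : D < R := by
    refine lt_of_le_of_ne hDR fun hd => ?_
    haveI : Group.IsNilpotent (P0 : Subgroup G) := P0.2.isNilpotent
    have hlt : D.subgroupOf (P0 : Subgroup G) < ⊤ := by
      rw [lt_top_iff_ne_top, Ne, Subgroup.subgroupOf_eq_top]
      exact fun h => hDlt.not_ge h
    have := Group.normalizerCondition_of_isNilpotent (D.subgroupOf (P0 : Subgroup G)) hlt
    obtain ⟨x, hx, hxD⟩ := SetLike.exists_of_lt this
    apply hxD
    rw [Subgroup.mem_subgroupOf, hd]
    refine Subgroup.mem_inf.2 ⟨x.2, Subgroup.mem_normalizer_iff.2 fun y => ?_⟩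
    have hx' := Subgroup.mem_normalizer_iff.1 hx
    constructor
    · intro hy
      have := (hx' ⟨y, hDP hy⟩).1 hy
      simpa [Subgroup.mem_subgroupOf] using this
    · intro hy
      have hyP : y ∈ (P0 : Subgroup G) := by
        have h1 := hDP hy
        have : y = (x : G)⁻¹ * ((x : G) * y * (x : G)⁻¹) * x := by group
        rw [this]
        exact mul_mem (mul_mem (inv_mem x.2) h1) x.2
      have := (hx' ⟨y, hyP⟩).2 (by simpa [Subgroup.mem_subgroupOf] using hy)
      simpa [Subgroup.mem_subgroupOf] using this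
  have hstab : MulAction.stabilizer R Q0 = D.subgroupOf R := by
    ext r
    rw [MulAction.mem_stabilizer_iff, Subgroup.smul_def, Sylow.smul_eq_iff_mem_normalizer,
      Subgroup.mem_subgroupOf]
    constructor
    · intro h
      have h2 : (r : G) ∈ (P0 : Subgroup G) ⊓ Subgroup.normalizer ((Q0 : Subgroup G) : Set G) :=
        ⟨r.2.1, h⟩
      exact (IsPGroup.inf_normalizer_sylow P0.2 Q0).le h2
    · intro h
      exact Subgroup.le_normalizer (hDQ h)
  set O := MulAction.orbit R Q0 with hO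
  have hk : Nat.card O * Nat.card D = Nat.card R := by
    have h1 := MulAction.index_stabilizer R Q0
    rw [hstab] at h1
    rw [hO, Nat.card_coe_set_eq, ← h1, ← Nat.card_congr (Subgroup.subgroupOfEquivOfLe hDR).toEquiv,
      mul_comm, Subgroup.card_mul_index]
  have hkp : p ≤ Nat.card O := by
    have hRp : IsPGroup p R := IsPGroup.to_le P0.2 inf_le_left
    obtain ⟨a, ha⟩ := IsPGroup.iff_card.1 hRp
    have hd1 : Nat.card O ∣ p ^ a := ha ▸ hk ▸ dvd_mul_right _ _
    obtain ⟨i, _, hi⟩ := (Nat.dvd_prime_pow Fact.out).1 hd1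
    rcases i with _ | i
    · exfalso
      rw [hi, pow_zero, one_mul] at hk
      exact hRD.ne (Subgroup.eq_of_le_of_card_ge hDR hk.ge)
    · rw [hi]; exact Nat.le_self_pow (by omega) p
  have hmemO : ∀ S ∈ O, D ≤ (S : Subgroup G) ∧ S ≠ P0 := by
    rintro S ⟨r, rfl⟩
    constructor
    · intro d hd
      have h1 : (r : G)⁻¹ * d * r ∈ (Q0 : Subgroup G) := by
        apply hDQ
        have := (Subgroup.mem_normalizer_iff.1 (inv_mem r.2.2) d).1 hd
        rwa [inv_inv] at this
      simp only [Subgroup.smul_def, Sylow.coe_subgroup_smul]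
      rw [Subgroup.mem_pointwise_smul_iff_inv_smul_mem]
      simpa [MulAut.smul_def] using h1
    · intro h
      apply hne
      have h' : (r : G) • Q0 = P0 := h
      have h2 : (r : G) • P0 = P0 := Sylow.smul_eq_iff_mem_normalizer.2 (Subgroup.le_normalizer r.2.1)
      exact smul_left_cancel (r : G) (h'.trans h2.symm) |>.symm
  have hint : ∀ S T : Sylow p G, S ≠ T → D ≤ (S : Subgroup G) → D ≤ (T : Subgroup G) →
      ∀ x, x ∈ (S : Subgroup G) → x ∈ (T : Subgroup G) → x ∈ D := by
    intro S T hST hS hT x hxS hxT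
    have := Subgroup.eq_of_le_of_card_ge (le_inf hS hT) (hmax ⟨(S, T), hST⟩)
    rw [this]; exact ⟨hxS, hxT⟩
  let f : (P0 : Subgroup G) ⊕ (O × {x : G // x ∈ (Q0 : Subgroup G) ∧ x ∉ D}) → G := fun z =>
    match z with
    | Sum.inl x => x
    | Sum.inr (S, x) => (S.2.choose : G) * x.1 * (S.2.choose : G)⁻¹
  have hfS : ∀ (S : O) (x : {x : G // x ∈ (Q0 : Subgroup G) ∧ x ∉ D}),
      f (Sum.inr (S, x)) ∈ ((S : Sylow p G) : Subgroup G) ∧ f (Sum.inr (S, x)) ∉ D := by
    intro S x
    have hs : S.2.choose • Q0 = (S : Sylow p G) := S.2.choose_spec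
    constructor
    · have key : ∀ (r : R) (q : G), q ∈ (Q0 : Subgroup G) → (r : G) * q * (r : G)⁻¹ ∈ ((r • Q0 : Sylow p G) : Subgroup G) := by
        intro r q hq
        simp only [Subgroup.smul_def, Sylow.coe_subgroup_smul]
        rw [Subgroup.mem_pointwise_smul_iff_inv_smul_mem, ← map_inv, MulAut.smul_def, MulAut.conj_apply, inv_inv]
        convert hq using 1
        group
      exact hs ▸ key S.2.choose x.1 x.2.1
    · intro hm
      exact x.2.2 ((Subgroup.mem_normalizer_iff.1 S.2.choose.2.2 x.1).2 hm)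
  have hinj : Function.Injective f := by
    rintro (a | ⟨S, x⟩) (b | ⟨T, y⟩) h
    · exact congrArg Sum.inl (Subtype.ext h)
    · exfalso
      obtain ⟨h1, h2⟩ := hfS T y
      exact h2 (hint _ _ (hmemO _ T.2).2 (hmemO _ T.2).1 hDP _ h1 (h ▸ a.2))
    · exfalso
      obtain ⟨h1, h2⟩ := hfS S x
      exact h2 (hint _ _ (hmemO _ S.2).2 (hmemO _ S.2).1 hDP _ h1 (h.symm ▸ b.2))
    · obtain ⟨h1, h2⟩ := hfS S x
      obtain ⟨h3, -⟩ := hfS T y
      have hST : S = T := by
        by_contra hne'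
        exact h2 (hint _ _ (fun e => hne' (Subtype.ext e)) (hmemO _ S.2).1 (hmemO _ T.2).1 _ h1 (h ▸ h3))
      subst hST
      simp only [f, mul_left_inj, mul_right_inj] at h
      rw [Subtype.ext h]
  have hpel : ∀ z, ∃ k : ℕ, orderOf (f z) = p ^ k := by
    have hS : ∀ (S : Sylow p G) (g : G), g ∈ (S : Subgroup G) → ∃ k : ℕ, orderOf g = p ^ k := by
      intro S g hg
      obtain ⟨k, hk⟩ := IsPGroup.iff_orderOf.1 S.2 ⟨g, hg⟩
      exact ⟨k, by rw [← hk, Subgroup.orderOf_mk]⟩
    rintro (a | ⟨S, x⟩)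
    · exact hS P0 a a.2
    · exact hS _ _ (hfS S x).1
  have hcard := Nat.card_le_card_of_injective (fun z => (⟨f z, hpel z⟩ : {g : G // ∃ k : ℕ, orderOf g = p ^ k}))
    (fun a b h => hinj (congrArg Subtype.val h))
  refine le_trans ?_ hcard
  rw [Nat.card_sum, Nat.card_prod]
  have hQ : Nat.card {x : G // x ∈ (Q0 : Subgroup G) ∧ x ∉ D} + Nat.card D = Nat.card (Q0 : Subgroup G) := by
    have e : ((Q0 : Subgroup G) : Set G) = {x : G | x ∈ (Q0 : Subgroup G) ∧ x ∉ D} ∪ (D : Set G) := by
      ext x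
      simp only [Set.mem_union, Set.mem_ofPred_eq, SetLike.mem_coe]
      constructor
      · intro h; by_cases hx : x ∈ D
        · exact Or.inr hx
        · exact Or.inl ⟨h, hx⟩
      · rintro (⟨h, -⟩ | h)
        · exact h
        · exact hDQ h
    have hd : Disjoint {x : G | x ∈ (Q0 : Subgroup G) ∧ x ∉ D} (D : Set G) :=
      Set.disjoint_left.2 fun x h1 h2 => h1.2 h2
    have h := congrArg Set.ncard e
    rw [Set.ncard_union_eq hd] at h
    exact h.symm
  have hRP : Nat.card R ≤ Nat.card (P0 : Subgroup G) := Subgroup.card_le_of_le inf_le_left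
  have e1 := Sylow.card_eq_multiplicity P0
  have e2 := Sylow.card_eq_multiplicity Q0
  have e3 := Sylow.card_eq_multiplicity P
  rw [e1] at hRP
  rw [e2] at hQ
  rw [e1, e3]
  nlinarith [Nat.mul_le_mul_right (p ^ (Nat.card G).factorization p) hkp]

end Cfsg.Agent.S4092
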