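import Cfsg.Statements.S4093
import Mathlib
-- import your own Cfsg.Agent.* helpers here

set_option autoImplicit false
open scoped BigOperators
open Cfsg

namespace Cfsg.Agent.S4093

theorem isP_iff {G : Type*} [Group G] {p : ℕ} [Fact p.Prime] (P : Sylow p G) (x : G) (hx : x ∈ (P : Subgroup G)) :
    ∃ k : ℕ, orderOf x = p ^ k := by
  obtain ⟨k, hk⟩ := IsPGroup.iff_orderOf.1 P.2 ⟨x, hx⟩
  exact ⟨k, by rw [← hk, Subgroup.orderOf_mk]⟩

/-- Let G be a finite group with a normal subgroup N complementing a Sylow p-subgroup P (a normal p-complement). Then the number of elements of G of p-power order equals the sum over x ∈ P of the index of C_N(x) in N. -/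
theorem result {G : Type*} [Group G] [Finite G] (p : ℕ) [Fact p.Prime]
    (P : Sylow p G) (N : Subgroup G) [N.Normal] (hNP : N.IsComplement' (P : Subgroup G)) :
    Nat.card {g : G // ∃ k : ℕ, orderOf g = p ^ k} =
      ∑ᶠ x : (P : Subgroup G), Nat.card N / Nat.card ↥(N ⊓ Subgroup.centralizer ({(x : G)} : Set G)) := by
  classical
  letI : MulAction N G := MulAction.compHom G ((MulAut.conj : G →* MulAut G).comp N.subtype)
  have hsmul : ∀ (n : N) (g : G), n • g = (n : G) * g * (n : G)⁻¹ := fun n g => rfl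
  haveI := Fintype.ofFinite (P : Subgroup G)
  let f : (Σ x : (P : Subgroup G), MulAction.orbit N (x : G)) → {g : G // ∃ k : ℕ, orderOf g = p ^ k} :=
    fun z => ⟨(z.2 : G), by
      obtain ⟨n, hn⟩ := z.2.2
      obtain ⟨k, hk⟩ := isP_iff P (z.1 : G) z.1.2
      refine ⟨k, ?_⟩
      rw [← hn]
      show orderOf (MulAut.conj (n : G) (z.1 : G)) = _
      rw [MulEquiv.orderOf_eq, hk]⟩
  have hf : Function.Bijective f := by
    constructor
    · rintro ⟨x, a⟩ ⟨y, b⟩ h
      have hab : (a : G) = b := congrArg Subtype.val h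
      obtain ⟨n, hn⟩ := a.2
      obtain ⟨m, hm⟩ := b.2
      have hxy : (x : G) = y := by
        have e : ((x : G) : G ⧸ N) = ((y : G) : G ⧸ N) := by
          have e1 : ((a : G) : G ⧸ N) = ((x : G) : G ⧸ N) := by
            rw [← hn]; show (((n : G) * x * (n : G)⁻¹ : G) : G ⧸ N) = _; simp [(QuotientGroup.eq_one_iff _).2 n.2]
          have e2 : ((b : G) : G ⧸ N) = ((y : G) : G ⧸ N) := by
            rw [← hm]; show (((m : G) * y * (m : G)⁻¹ : G) : G ⧸ N) = _; simp [(QuotientGroup.eq_one_iff _).2 m.2]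
          rw [← e1, ← e2, hab]
        have h1 : (x : G)⁻¹ * y ∈ N ⊓ (P : Subgroup G) :=
          ⟨QuotientGroup.eq.1 e, mul_mem ((P : Subgroup G).inv_mem x.2) y.2⟩
        have h1' : (x : G)⁻¹ * y ∈ (⊥ : Subgroup G) := hNP.disjoint.eq_bot ▸ h1
        exact inv_mul_eq_one.1 (Subgroup.mem_bot.1 h1')
      obtain rfl : x = y := Subtype.ext hxy
      simp only [Sigma.mk.inj_iff, heq_eq_eq, true_and]
      exact Subtype.ext hab
    · rintro ⟨g, k, hk⟩
      obtain ⟨Q, hQ⟩ := IsPGroup.exists_le_sylow (p := p) (P := Subgroup.zpowers g)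
        (IsPGroup.of_card (n := k) (by rw [Nat.card_zpowers, hk]))
      obtain ⟨c, hc⟩ := MulAction.exists_smul_eq G P Q
      obtain ⟨n, hn⟩ := hNP.2 c
      subst hn
      have hgQ : g ∈ (Q : Subgroup G) := hQ (Subgroup.mem_zpowers g)
      rw [← hc, Sylow.coe_subgroup_smul, Subgroup.mem_pointwise_smul_iff_inv_smul_mem] at hgQ
      obtain ⟨⟨n, hn⟩, ⟨q, hq⟩⟩ := n
      simp only at hgQ hc
      have hgP : n⁻¹ * g * n ∈ (P : Subgroup G) := by
        have h2 := hgQ
        simp [MulAut.smul_def, mul_assoc] at h2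
        have := mul_mem (mul_mem hq h2) (inv_mem hq)
        simpa [mul_assoc] using this
      refine ⟨⟨⟨n⁻¹ * g * n, hgP⟩, ⟨g, ⟨⟨n, hn⟩, ?_⟩⟩⟩, rfl⟩
      show (⟨n, hn⟩ : N) • (n⁻¹ * g * n) = g
      rw [hsmul]; group
  rw [← Nat.card_congr (Equiv.ofBijective f hf), Nat.card_sigma, finsum_eq_sum_of_fintype]
  refine Finset.sum_congr rfl fun x _ => ?_
  have h1 := MulAction.index_stabilizer N (x : G)
  have hst : MulAction.stabilizer N (x : G) = (Subgroup.centralizer ({(x : G)} : Set G)).subgroupOf N := by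
    ext n
    rw [MulAction.mem_stabilizer_iff, hsmul, Subgroup.mem_subgroupOf, Subgroup.mem_centralizer_singleton_iff]
    rw [mul_inv_eq_iff_eq_mul]
  rw [hst] at h1
  rw [Nat.card_coe_set_eq, ← h1]
  have h2 : Nat.card ↥((Subgroup.centralizer ({(x : G)} : Set G)).subgroupOf N)
      = Nat.card ↥(N ⊓ Subgroup.centralizer ({(x : G)} : Set G)) := by
    rw [← Subgroup.inf_subgroupOf_left, ]
    exact Nat.card_congr (Subgroup.subgroupOfEquivOfLe inf_le_left).toEquiv
  rw [← h2, ← Subgroup.card_mul_index ((Subgroup.centralizer ({(x : G)} : Set G)).subgroupOf N),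
    Nat.mul_div_cancel_left _ Nat.card_pos]

end Cfsg.Agent.S4093
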