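import Cfsg.Statements.S4097
import Cfsg.Agent.Lib.Induced.FrobeniusKernel
import Cfsg.Agent.Lib.Frobenius.Basic
import Cfsg.Agent.Lib.Coprime.Glauberman

set_option autoImplicit false
set_option linter.style.haveILetI false
open Cfsg

namespace Cfsg.Agent.S4097

open Cfsg.Agent.Lib
open scoped Pointwise

universe u

theorem isSolvable_comap {G : Type u} [Group G] {N : Subgroup G} [N.Normal] (hN : Group.IsSolvable N)
    (T : Subgroup (G ⧸ N)) (hT : Group.IsSolvable T) :
    Group.IsSolvable (T.comap (QuotientGroup.mk' N)) := by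
  haveI := hN
  haveI := hT
  have hle : N ≤ T.comap (QuotientGroup.mk' N) := fun n hn => by
    show QuotientGroup.mk' N n ∈ T
    rw [show QuotientGroup.mk' N n = 1 from (QuotientGroup.eq_one_iff n).2 hn]
    exact T.one_mem
  refine Group.isSolvable_of_ker_le_range (Subgroup.inclusion hle)
    ((QuotientGroup.mk' N).subgroupComap T) fun x hx => ?_
  exact ⟨⟨x, (QuotientGroup.eq_one_iff _).1 (congrArg Subtype.val hx)⟩, Subtype.ext rfl⟩

theorem isSolvable_of_le {G : Type u} [Group G] {H K : Subgroup G} (h : H ≤ K)
    (hK : Group.IsSolvable K) : Group.IsSolvable H :=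
  haveI := hK
  Group.isSolvable_of_isSolvable_injective (Subgroup.inclusion_injective h)

theorem aux {G : Type u} [Group G] [Finite G] (A : Subgroup G) (hA : Group.IsSolvable A)
    (hc : ∀ S : Subgroup G, A ≤ S → Group.IsSolvable S → ∀ a ∈ A, ∀ s ∈ S, a * s = s * a) :
    A ≤ Subgroup.center G := by
  induction hn : Nat.card G using Nat.strong_induction_on generalizing G with
  | _ n ih =>
    subst hn
    have hAc : ∀ a ∈ A, ∀ b ∈ A, a * b = b * a := hc A le_rfl hA
    haveI := hA
    by_cases hZ : Subgroup.center G = ⊥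
    swap
    · -- pass to the quotient by the centre
      let Z := Subgroup.center G
      let π := QuotientGroup.mk' Z
      have hZs : Group.IsSolvable Z :=
        Group.isSolvable_of_comm fun a b => Subtype.ext (Subgroup.mem_center_iff.1 b.2 a)
      have hlt : Nat.card (G ⧸ Z) < Nat.card G := by
        have h1 : 1 < Nat.card Z :=
          lt_of_le_of_ne Nat.card_pos (fun h => hZ (Subgroup.card_eq_one.1 h.symm))
        rw [← Subgroup.index_eq_card, ← Z.card_mul_index]
        exact lt_mul_of_one_lt_left (Nat.pos_of_ne_zero Subgroup.index_ne_zero_of_finite) h1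
      have hAq : Group.IsSolvable (A.map π) :=
        Group.isSolvable_of_surjective (π.subgroupMap_surjective A)
      have hle : A.map π ≤ Subgroup.center (G ⧸ Z) := ih _ hlt (A.map π) hAq (by
        rintro T hT hTs _ ⟨a, ha, rfl⟩ t ht
        obtain ⟨s, rfl⟩ := QuotientGroup.mk'_surjective Z t
        rw [← map_mul, ← map_mul, hc (T.comap π) (Subgroup.map_le_iff_le_comap.1 hT)
          (isSolvable_comap hZs T hTs) a ha s ht]) rfl
      intro a ha
      rw [Subgroup.mem_center_iff]
      intro g
      let T := A.map π ⊔ Subgroup.zpowers (π g)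
      have hTc : IsMulCommutative T := by
        rw [show T = Subgroup.closure ((A.map π : Set (G ⧸ Z)) ∪ {π g}) by
          rw [Subgroup.closure_union, Subgroup.closure_eq, ← Subgroup.zpowers_eq_closure]]
        refine Subgroup.isMulCommutative_closure ?_
        rintro x (hx | rfl) y (hy | rfl)
        · exact (Subgroup.mem_center_iff.1 (hle hx) y).symm
        · exact (Subgroup.mem_center_iff.1 (hle hx) _).symm
        · exact Subgroup.mem_center_iff.1 (hle hy) _
        · rfl
      exact (hc (T.comap π) (Subgroup.map_le_iff_le_comap.1 le_sup_left)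
        (isSolvable_comap hZs T (Group.isSolvable_of_comm fun x y => hTc.is_comm.comm x y)) a ha g
        (Subgroup.mem_sup_right (Subgroup.mem_zpowers _))).symm
    let M := Subgroup.centralizer (A : Set G)
    by_contra hnc
    have hAM : A ≤ M := fun a ha => Subgroup.mem_centralizer_iff.2 fun b hb => hAc b hb a ha
    have hprop : ∀ H : Subgroup G, A ≤ H → H ≠ ⊤ → H ≤ M := by
      intro H hAH hH
      have hlt : Nat.card H < Nat.card G :=
        lt_of_le_of_ne H.card_le_card_group fun h => hH (H.eq_top_of_card_eq h)
      have h1 : A.subgroupOf H ≤ Subgroup.center H := ih _ hlt (A.subgroupOf H)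
        (Group.isSolvable_of_surjective (f := (Subgroup.subgroupOfEquivOfLe hAH).symm.toMonoidHom)
          (MulEquiv.surjective _))
        (fun S hS hSs a ha s hs => Subtype.ext (hc (S.map H.subtype)
          (fun x hx => ⟨⟨x, hAH hx⟩, hS hx, rfl⟩)
          (Group.isSolvable_of_surjective (H.subtype.subgroupMap_surjective S)) a ha s
          ⟨s, hs, rfl⟩)) rfl
      exact fun h hh => Subgroup.mem_centralizer_iff.2 fun a ha =>
        congrArg Subtype.val (Subgroup.mem_center_iff.1 (h1 (show (⟨a, hAH ha⟩ : H) ∈ A.subgroupOf H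
          from ha)) ⟨h, hh⟩).symm
    have hMtop : M ≠ ⊤ := fun h => hnc fun a ha => Subgroup.mem_center_iff.2 fun g =>
      (Subgroup.mem_centralizer_iff.1 (h ▸ Subgroup.mem_top g : g ∈ M) a ha).symm
    have hNM : Subgroup.normalizer (M : Set G) = M := by
      refine le_antisymm ?_ Subgroup.le_normalizer
      by_cases htop : Subgroup.normalizer (M : Set G) = ⊤
      swap
      · exact hprop _ (hAM.trans Subgroup.le_normalizer) htop
      exfalso
      haveI : M.Normal := Subgroup.normalizer_eq_top_iff.1 htop
      let B := (Subgroup.center M).map M.subtype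
      haveI : B.Normal := ConjAct.normal_of_characteristic_of_normal
      haveI : Group.IsSolvable (Subgroup.center M) :=
        Group.isSolvable_of_comm fun a b => Subtype.ext (Subgroup.mem_center_iff.1 b.2 a)
      have hBs : Group.IsSolvable B :=
        Group.isSolvable_of_surjective (M.subtype.subgroupMap_surjective (Subgroup.center M))
      refine hMtop (top_le_iff.1 fun g _ => ?_)
      have hAB : A ≤ B := fun a ha => ⟨⟨a, hAM ha⟩, Subgroup.mem_center_iff.2 fun m =>
        Subtype.ext (Subgroup.mem_centralizer_iff.1 m.2 a ha).symm, rfl⟩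
      let T := Subgroup.zpowers (QuotientGroup.mk' B g)
      refine Subgroup.mem_centralizer_iff.2 fun a ha =>
        hc (T.comap (QuotientGroup.mk' B)) (fun x hx => ?_)
          (isSolvable_comap hBs T (Group.isSolvable_of_comm fun x y =>
            (IsCyclic.isMulCommutative (α := T)).is_comm.comm x y)) a ha g (Subgroup.mem_zpowers _)
      show QuotientGroup.mk' B x ∈ T
      rw [show QuotientGroup.mk' B x = 1 from (QuotientGroup.eq_one_iff x).2 (hAB hx)]
      exact T.one_mem
    have hTI : ∀ g : G, g ∉ M → M ⊓ MulAut.conj g • M = ⊥ := by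
      intro g hg
      let Ag := MulAut.conj g • A
      have htop : A ⊔ Ag = ⊤ := by
        by_contra hne
        have hAgM : Ag ≤ M := le_sup_right.trans (hprop _ le_sup_left hne)
        have h1 : A ≤ MulAut.conj g • M := by
          intro a ha
          rw [Frobenius.mem_conj_smul]
          refine Subgroup.mem_centralizer_iff.2 fun b hb => ?_
          have h2 : g * b * g⁻¹ ∈ Ag := by
            rw [Frobenius.mem_conj_smul]; simpa [mul_assoc] using hb
          have h3 := Subgroup.mem_centralizer_iff.1 (hAgM h2) a ha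
          calc b * (g⁻¹ * a * g) = g⁻¹ * ((g * b * g⁻¹) * a) * g := by group
            _ = g⁻¹ * (a * (g * b * g⁻¹)) * g := by rw [h3]
            _ = g⁻¹ * a * g * b := by group
        have hcard : Nat.card (MulAut.conj g • M : Subgroup G) = Nat.card M :=
          (Nat.card_congr (Subgroup.equivSMul (MulAut.conj g) M).toEquiv).symm
        have h4 : MulAut.conj g • M ≤ M := hprop _ h1 fun h => hMtop
          (M.eq_top_of_card_eq (by rw [← hcard, h, Subgroup.card_top]))
        have h5 := Subgroup.eq_of_le_of_card_ge h4 hcard.ge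
        refine hg (hNM ▸ (Subgroup.mem_normalizer_iff.2 fun x => ?_))
        show x ∈ M ↔ g * x * g⁻¹ ∈ M
        conv_rhs => rw [← h5, Frobenius.mem_conj_smul]
        simp [mul_assoc]
      rw [eq_bot_iff, ← hZ]
      rintro z ⟨hz1, hz2⟩
      have h1 : A ⊔ Ag ≤ Subgroup.centralizer {z} := by
        refine sup_le (fun a ha => Subgroup.mem_centralizer_singleton_iff.2
          (Subgroup.mem_centralizer_iff.1 hz1 a ha)) fun a ha => ?_
        refine Subgroup.mem_centralizer_singleton_iff.2 ?_
        replace hz2 : g⁻¹ * z * g ∈ M := Frobenius.mem_conj_smul.1 hz2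
        have ha' : g⁻¹ * a * g ∈ A := Frobenius.mem_conj_smul.1 ha
        have h3 := Subgroup.mem_centralizer_iff.1 hz2 _ ha'
        calc a * z = g * (g⁻¹ * a * g * (g⁻¹ * z * g)) * g⁻¹ := by group
          _ = g * (g⁻¹ * z * g * (g⁻¹ * a * g)) * g⁻¹ := by rw [h3]
          _ = z * a := by group
      refine Subgroup.mem_center_iff.2 fun x => ?_
      exact Subgroup.mem_centralizer_singleton_iff.1 (h1 (htop ▸ Subgroup.mem_top x))
    have hMbot : M ≠ ⊥ := fun h => hnc ((h ▸ hAM).trans bot_le)
    obtain ⟨K, hKn, -, hKc⟩ :=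
      Induced.FrobeniusKernel.exists_frobeniusKernel_subgroup (H := M) ⟨hMbot, hMtop, hTI⟩
    haveI := hKn
    have hK1 : Nat.card K ≠ 1 := fun h => hMtop (M.eq_top_of_card_eq (by
      rw [← hKc.card_mul_card, h, one_mul]))
    obtain ⟨p, hp, hpK⟩ := Nat.exists_prime_and_dvd hK1
    haveI := Fact.mk hp
    have hcop : (Nat.card A).Coprime (Nat.card K) := by
      have := Frobenius.coprime_card_index (H := M) ⟨hMbot, hMtop, hTI⟩
      rw [hKc.index_eq_card] at this
      exact this.coprime_dvd_left (Subgroup.card_dvd_of_le hAM)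
    obtain ⟨P, hP⟩ := Coprime.exists_invariant_sylow (A := A) (K := K)
      Subgroup.le_normalizer_of_normal hcop (Or.inl hA) p
    let Pg := (P : Subgroup K).map K.subtype
    let N := Subgroup.normalizer (Pg : Set G)
    let P' := Pg.subgroupOf N
    haveI : P'.Normal := Subgroup.normal_in_normalizer
    have hPs : Group.IsSolvable P' := by
      haveI : Group.IsNilpotent P' := ((P.isPGroup'.map K.subtype).comap_subtype (K := N)).isNilpotent
      infer_instance
    let T := (A.subgroupOf N).map (QuotientGroup.mk' P')
    have hTs : Group.IsSolvable T := by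
      haveI : Group.IsSolvable (A.subgroupOf N) :=
        Group.isSolvable_of_surjective (f := (Subgroup.subgroupOfEquivOfLe hP).symm.toMonoidHom)
          (MulEquiv.surjective _)
      exact Group.isSolvable_of_surjective ((QuotientGroup.mk' P').subgroupMap_surjective _)
    let S := (T.comap (QuotientGroup.mk' P')).map N.subtype
    have hSs : Group.IsSolvable S := by
      haveI := isSolvable_comap hPs T hTs
      exact Group.isSolvable_of_surjective (N.subtype.subgroupMap_surjective _)
    have hAS : A ≤ S := fun a ha =>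
      ⟨⟨a, hP ha⟩, show QuotientGroup.mk' P' ⟨a, hP ha⟩ ∈ T from ⟨⟨a, hP ha⟩, ha, rfl⟩, rfl⟩
    have hPS : Pg ≤ S := fun x hx => ⟨⟨x, Subgroup.le_normalizer hx⟩, by
      show QuotientGroup.mk' P' _ ∈ T
      rw [show QuotientGroup.mk' P' ⟨x, Subgroup.le_normalizer hx⟩ = 1 from
        (QuotientGroup.eq_one_iff _).2 hx]
      exact T.one_mem, rfl⟩
    have hPM : Pg ≤ M := fun x hx => Subgroup.mem_centralizer_iff.2 fun a ha =>
      hc S hAS hSs a ha x (hPS hx)
    have hbot : Pg = ⊥ := eq_bot_iff.2 fun x hx => by
      rw [← hKc.disjoint.eq_bot]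
      exact ⟨Subgroup.map_subtype_le _ hx, hPM hx⟩
    have h1 : Nat.card (P : Subgroup K) = 1 := by
      rw [← Subgroup.card_subtype]
      exact (congrArg (fun X : Subgroup G => Nat.card X) hbot).trans Subgroup.card_bot
    exact hp.ne_one (Nat.dvd_one.1 (h1 ▸ P.dvd_card_of_dvd_card hpK))

/-- Let A be a solvable subgroup of a finite group G such that A lies in the centre of every solvable subgroup of G containing A. Then A lies in the centre of G. -/
theorem result {G : Type*} [Group G] [Finite G]
    (A : Subgroup G) (hA : Group.IsSolvable A)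
    (hc : ∀ S : Subgroup G, A ≤ S → Group.IsSolvable S → ∀ a ∈ A, ∀ s ∈ S, a * s = s * a) : A ≤ Subgroup.center G := by
  exact aux A hA hc

end Cfsg.Agent.S4097
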