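import Cfsg.Statements.S4106
import Mathlib
-- import your own Cfsg.Agent.* helpers here

set_option autoImplicit false
open Cfsg

namespace Cfsg.Agent.S4106

/-- The conjugacy classes of elements whose order has all its prime divisors in `S`. -/
abbrev PiClasses (S : Finset ℕ) (G : Type*) [Group G] :=
  {C : ConjClasses G // ∃ g : G, ConjClasses.mk g = C ∧ ∀ q : ℕ, q.Prime → q ∣ orderOf g → q ∈ S}

theorem card_single_le {q : ℕ} (hq : q.Prime) (G : Type*) [Group G] [Finite G] :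
    Nat.card (PiClasses {q} G) ≤ q ^ (Nat.card G).factorization q := by
  haveI := Fact.mk hq
  obtain ⟨Q⟩ : Nonempty (Sylow q G) := Sylow.nonempty
  rw [← Sylow.card_eq_multiplicity Q]
  refine Nat.card_le_card_of_surjective (fun x : (Q : Subgroup G) => (⟨ConjClasses.mk (x : G), x, rfl, ?_⟩ : PiClasses {q} G)) ?_
  · intro r hr hrd
    obtain ⟨k, hk⟩ := IsPGroup.iff_orderOf.1 Q.2 x
    rw [Subgroup.orderOf_coe, hk] at hrd
    rw [Finset.mem_singleton]
    exact (Nat.prime_dvd_prime_iff_eq hr hq).1 (hr.dvd_of_dvd_pow hrd)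
  · rintro ⟨C, g, rfl, hg⟩
    have hp : IsPGroup q (Subgroup.zpowers g) := by
      refine IsPGroup.of_card (n := (orderOf g).primeFactorsList.length) ?_
      rw [Nat.card_zpowers]
      exact Nat.eq_prime_pow_of_unique_prime_dvd (orderOf_pos g).ne' (fun hd he => Finset.mem_singleton.1 (hg _ hd he))
    obtain ⟨R, hR⟩ := hp.exists_le_sylow
    obtain ⟨c, hc⟩ := MulAction.exists_smul_eq G R Q
    refine ⟨⟨c * g * c⁻¹, ?_⟩, ?_⟩
    · rw [← hc, Sylow.coe_subgroup_smul, Subgroup.mem_pointwise_smul_iff_inv_smul_mem, ← map_inv,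
        MulAut.smul_def, MulAut.conj_apply, inv_inv]
      exact (show g = c⁻¹ * (c * g * c⁻¹) * c by group) ▸ hR (Subgroup.mem_zpowers g)
    · apply Subtype.ext
      simp only [ConjClasses.mk_eq_mk_iff_isConj, isConj_iff]
      exact ⟨c⁻¹, by group⟩

theorem split {G : Type*} [Group G] [Finite G] (g : G) {q : ℕ} (hq : q.Prime) :
    ∃ u s : G, u * s = g ∧ Commute u s ∧ (∀ r : ℕ, r.Prime → r ∣ orderOf u → r = q) ∧
      (∀ r : ℕ, r.Prime → r ∣ orderOf s → r ≠ q ∧ r ∣ orderOf g) := by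
  obtain ⟨a, b, hqb, hn⟩ := Nat.exists_eq_pow_mul_and_not_dvd (orderOf_pos g).ne' q hq.ne_one
  have hcop : Nat.Coprime (q ^ a) b := ((hq.coprime_iff_not_dvd).2 hqb).pow_left a
  have hg : g ^ (((q ^ a : ℕ) : ℤ) * (b : ℤ)) = 1 := by
    rw [← Nat.cast_mul, zpow_natCast, ← hn, pow_orderOf_eq_one]
  refine ⟨g ^ ((b : ℤ) * Nat.gcdB (q ^ a) b), g ^ (((q ^ a : ℕ) : ℤ) * Nat.gcdA (q ^ a) b), ?_, ?_, ?_, ?_⟩
  · rw [← zpow_add, add_comm, ← Nat.gcd_eq_gcd_ab, hcop, Nat.cast_one, zpow_one]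
  · exact Commute.zpow_zpow_self g _ _
  · intro r hr hd
    have h1 : orderOf (g ^ ((b : ℤ) * Nat.gcdB (q ^ a) b)) ∣ q ^ a := by
      rw [orderOf_dvd_iff_pow_eq_one, ← zpow_natCast, ← zpow_mul,
        show (b : ℤ) * Nat.gcdB (q ^ a) b * ((q ^ a : ℕ) : ℤ) = ((q ^ a : ℕ) : ℤ) * b * Nat.gcdB (q ^ a) b by ring,
        zpow_mul, hg, one_zpow]
    exact (Nat.prime_dvd_prime_iff_eq hr hq).1 (hr.dvd_of_dvd_pow (hd.trans h1))
  · intro r hr hd
    have h1 : orderOf (g ^ (((q ^ a : ℕ) : ℤ) * Nat.gcdA (q ^ a) b)) ∣ b := by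
      rw [orderOf_dvd_iff_pow_eq_one, ← zpow_natCast, ← zpow_mul,
        show ((q ^ a : ℕ) : ℤ) * Nat.gcdA (q ^ a) b * (b : ℤ) = ((q ^ a : ℕ) : ℤ) * b * Nat.gcdA (q ^ a) b by ring,
        zpow_mul, hg, one_zpow]
    exact ⟨fun h => hqb (h ▸ hd.trans h1), (hd.trans h1).trans (hn ▸ dvd_mul_left b _)⟩

theorem card_le.{w} : ∀ (S : Finset ℕ), (∀ q ∈ S, q.Prime) → ∀ (G : Type w) [Group G] [Finite G],
    Nat.card (PiClasses S G) ≤ ∏ q ∈ S, q ^ (Nat.card G).factorization q := by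
  classical
  intro S
  induction S using Finset.induction with
  | empty =>
    intro _ G _ _
    rw [Finset.prod_empty, Finite.card_le_one_iff_subsingleton]
    refine ⟨?_⟩
    rintro ⟨C, g, rfl, hg⟩ ⟨D, h, rfl, hh⟩
    have key : ∀ x : G, (∀ q : ℕ, q.Prime → q ∣ orderOf x → q ∈ (∅ : Finset ℕ)) → x = 1 := by
      intro x hx
      by_contra hx1
      obtain ⟨r, hr, hrd⟩ := Nat.exists_prime_and_dvd (n := orderOf x) (by simpa using hx1)
      simpa using hx r hr hrd
    simp [key g hg, key h hh]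
  | @insert q S hqS ih =>
    intro hprime G _ _
    have hq : q.Prime := hprime q (Finset.mem_insert_self _ _)
    have hS : ∀ r ∈ S, r.Prime := fun r hr => hprime r (Finset.mem_insert_of_mem hr)
    let rep : PiClasses {q} G → G := fun U => U.2.choose
    let T := fun U : PiClasses {q} G => PiClasses S ↥(Subgroup.centralizer ({rep U} : Set G))
    have hmem : ∀ (U : PiClasses {q} G) (s : ↥(Subgroup.centralizer ({rep U} : Set G))),
        (∀ r : ℕ, r.Prime → r ∣ orderOf s → r ∈ S) →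
        ∀ r : ℕ, r.Prime → r ∣ orderOf (rep U * (s : G)) → r ∈ insert q S := by
      intro U s hs r hr hd
      have hc : Commute (rep U) (s : G) :=
        (Subgroup.mem_centralizer_singleton_iff.1 s.2).symm
      rcases (Nat.Prime.dvd_mul hr).1 (hd.trans hc.orderOf_mul_dvd_mul_orderOf) with h | h
      · exact Finset.mem_insert.2 (Or.inl (Finset.mem_singleton.1 (U.2.choose_spec.2 r hr h)))
      · exact Finset.mem_insert_of_mem (hs r hr (by rwa [Subgroup.orderOf_coe] at h))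
    let F : (Σ U, T U) → PiClasses (insert q S) G := fun z =>
      ⟨ConjClasses.mk (rep z.1 * ((z.2.2.choose : ↥(Subgroup.centralizer ({rep z.1} : Set G))) : G)),
        _, rfl, hmem z.1 _ z.2.2.choose_spec.2⟩
    have hF : Function.Surjective F := by
      rintro ⟨C, g, rfl, hg⟩
      obtain ⟨u, s, hus, hcomm, hu, hs⟩ := split g hq
      let U : PiClasses {q} G := ⟨ConjClasses.mk u, u, rfl, fun r hr hd => Finset.mem_singleton.2 (hu r hr hd)⟩
      have hU : ConjClasses.mk (rep U) = ConjClasses.mk u := U.2.choose_spec.1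
      obtain ⟨c, hc⟩ := isConj_iff.1 (ConjClasses.mk_eq_mk_iff_isConj.1 hU)
      have hs' : c⁻¹ * s * c ∈ Subgroup.centralizer ({rep U} : Set G) := by
        rw [Subgroup.mem_centralizer_singleton_iff, show rep U = c⁻¹ * u * c by rw [← hc]; group]
        calc c⁻¹ * s * c * (c⁻¹ * u * c) = c⁻¹ * (s * u) * c := by group
          _ = c⁻¹ * (u * s) * c := by rw [hcomm.eq]
          _ = c⁻¹ * u * c * (c⁻¹ * s * c) := by group
      let V : T U := ⟨ConjClasses.mk ⟨c⁻¹ * s * c, hs'⟩, ⟨c⁻¹ * s * c, hs'⟩, rfl, fun r hr hd => by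
        rw [Subgroup.orderOf_mk, show c⁻¹ * s * c = MulAut.conj c⁻¹ s by simp, MulEquiv.orderOf_eq] at hd
        obtain ⟨h1, h2⟩ := hs r hr hd
        exact (Finset.mem_insert.1 (hg r hr h2)).resolve_left h1⟩
      refine ⟨⟨U, V⟩, Subtype.ext ?_⟩
      have hV : ConjClasses.mk V.2.choose = ConjClasses.mk (⟨c⁻¹ * s * c, hs'⟩ : ↥(Subgroup.centralizer ({rep U} : Set G))) := V.2.choose_spec.1
      obtain ⟨d, hd⟩ := isConj_iff.1 (ConjClasses.mk_eq_mk_iff_isConj.1 hV)
      simp only [F, ConjClasses.mk_eq_mk_iff_isConj, isConj_iff]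
      refine ⟨c * (d : G), ?_⟩
      have hd' : (d : G) * (V.2.choose : G) * (d : G)⁻¹ = c⁻¹ * s * c := by
        simpa using congrArg Subtype.val hd
      have hdc : (d : G) * rep U * (d : G)⁻¹ = rep U := by
        rw [Subgroup.mem_centralizer_singleton_iff.1 d.2]; group
      calc c * (d : G) * (rep U * (V.2.choose : G)) * (c * (d : G))⁻¹
          = c * ((d : G) * rep U * (d : G)⁻¹) * c⁻¹ * (c * ((d : G) * (V.2.choose : G) * (d : G)⁻¹) * c⁻¹) := by group
        _ = c * rep U * c⁻¹ * (c * (c⁻¹ * s * c) * c⁻¹) := by rw [hdc, hd']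
        _ = u * (c * (c⁻¹ * s * c) * c⁻¹) := by rw [hc]
        _ = u * s := by group
        _ = g := hus
    haveI := Fintype.ofFinite (PiClasses {q} G)
    refine (Nat.card_le_card_of_surjective F hF).trans ?_
    rw [Nat.card_sigma, Finset.prod_insert hqS]
    refine le_trans (Finset.sum_le_card_nsmul _ _ (∏ r ∈ S, r ^ (Nat.card G).factorization r) ?_) ?_
    · intro U _
      refine (ih hS _).trans (Finset.prod_le_prod' fun r hr => Nat.pow_le_pow_right (hS r hr).pos ?_)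
      exact (Nat.factorization_le_iff_dvd Nat.card_pos.ne' Nat.card_pos.ne').2
        (Subgroup.card_subgroup_dvd_card _) r
    · rw [smul_eq_mul, Finset.card_univ, ← Nat.card_eq_fintype_card]
      exact Nat.mul_le_mul_right _ (card_single_le hq G)

/-- Let G be a finite group, π a set of primes and m the π-part of the order of G. Then the number of conjugacy classes of G consisting of π-elements (elements whose order is divisible only by primes in π) is at most m. -/
theorem result {G : Type*} [Group G] [Finite G]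
    (π : Set ℕ) (hπ : ∀ q ∈ π, q.Prime)
    (m : ℕ) (hm : m ∣ Nat.card G) (hmπ : ∀ q : ℕ, q.Prime → q ∣ m → q ∈ π)
    (hm' : ∀ q ∈ π, ¬ q ∣ Nat.card G / m) :
    Nat.card {C : ConjClasses G // ∀ q : ℕ, q.Prime → (∃ g : G, ConjClasses.mk g = C ∧ q ∣ orderOf g) → q ∈ π} ≤ m := by
  classical
  let S := (Nat.card G).primeFactors.filter (· ∈ π)
  have hS : ∀ q ∈ S, q.Prime := fun q hq => (Nat.mem_primeFactors.1 (Finset.mem_filter.1 hq).1).1
  refine le_trans ?_ (le_trans (card_le S hS G) ?_)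
  · refine Nat.card_le_card_of_injective (fun C => ⟨C.1, ?_⟩) (fun a b h => Subtype.ext (congrArg Subtype.val h :))
    obtain ⟨g, hg⟩ := C.1.exists_rep
    refine ⟨g, hg, fun q hq hd => Finset.mem_filter.2 ⟨Nat.mem_primeFactors.2 ⟨hq, hd.trans (orderOf_dvd_natCard g), Nat.card_pos.ne'⟩, C.2 q hq ⟨g, hg, hd⟩⟩⟩
  · apply Nat.le_of_dvd (Nat.pos_of_dvd_of_pos hm Nat.card_pos)
    apply Finset.prod_dvd_of_isRelPrime
    · intro a ha b hb hab
      exact Nat.coprime_iff_isRelPrime.1 (Nat.Coprime.pow _ _ ((Nat.coprime_primes (hS a ha) (hS b hb)).2 hab))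
    · intro q hq
      obtain ⟨-, hqπ⟩ := Finset.mem_filter.1 hq
      refine Nat.Coprime.dvd_of_dvd_mul_right (((hS q hq).coprime_iff_not_dvd.2 (hm' q hqπ)).pow_left _) ?_
      rw [Nat.mul_div_cancel' hm]
      exact Nat.ordProj_dvd _ _

end Cfsg.Agent.S4106
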