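import Cfsg.Statements.S4107
import Mathlib
import Cfsg.Agent.Lib.Cores.Basic
-- import your own Cfsg.Agent.* helpers here

set_option autoImplicit false
open Cfsg

namespace Cfsg.Agent.S4107

variable {G : Type*} [Group G] [Finite G]

theorem isPGroup_of_not_le (N : Subgroup G) [N.Normal]
    (heq : ∀ x : G, x ∉ N → ∀ n ∈ N, orderOf (x * n) = orderOf x)
    (q : ℕ) [Fact q.Prime] (hQ : ¬ Cfsg.pCore q G ≤ N) : IsPGroup q N := by
  set Q := Cfsg.pCore q G with hQdef
  haveI : Q.Normal := inferInstance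
  have hQp : IsPGroup q Q := Lib.Cores.pCore_isPGroup q
  obtain ⟨x, hxQ, hxN⟩ := SetLike.not_le_iff_exists.1 hQ
  by_contra hN
  rw [IsPGroup.iff_card] at hN
  obtain ⟨r, hr, hrd, hrq⟩ : ∃ r, r.Prime ∧ r ∣ Nat.card N ∧ r ≠ q := by
    by_contra hne
    push Not at hne
    exact hN ⟨_, Nat.eq_prime_pow_of_unique_prime_dvd Nat.card_pos.ne' (fun hd he => hne _ hd he)⟩
  haveI := Fact.mk hr
  obtain ⟨n, hn⟩ := exists_prime_orderOf_dvd_card' (G := N) r hrd
  rw [← Subgroup.orderOf_coe] at hn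
  let R := Subgroup.zpowers (n : G)
  have hR : IsPGroup r R := IsPGroup.of_card (n := 1) (by rw [Nat.card_zpowers, hn, pow_one])
  have hRN : R ≤ N := Subgroup.zpowers_le.2 n.2
  have hmap : ∀ (a : R) (y : G), y ∈ Q ∧ x⁻¹ * y ∈ N →
      (a : G) * y * (a : G)⁻¹ ∈ Q ∧ x⁻¹ * ((a : G) * y * (a : G)⁻¹) ∈ N := by
    rintro a y ⟨h1, h2⟩
    refine ⟨Subgroup.Normal.conj_mem ‹Q.Normal› y h1 a, ?_⟩
    rw [← QuotientGroup.eq_one_iff] at h2 ⊢
    simpa [(QuotientGroup.eq_one_iff _).2 (hRN a.2)] using h2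
  let α := {y : G // y ∈ Q ∧ x⁻¹ * y ∈ N}
  letI : MulAction R α :=
    { smul := fun a y => ⟨(a : G) * y.1 * (a : G)⁻¹, hmap a y.1 y.2⟩
      one_smul := fun y => Subtype.ext (show ((1 : R) : G) * y.1 * ((1 : R) : G)⁻¹ = y.1 by simp)
      mul_smul := fun a b y => Subtype.ext (show ((a * b : R) : G) * y.1 * ((a * b : R) : G)⁻¹
        = (a : G) * ((b : G) * y.1 * (b : G)⁻¹) * (a : G)⁻¹ by simp [mul_assoc]) }
  have hcard : Nat.card α = Nat.card ↥(Q ⊓ N) := Nat.card_congr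
    { toFun := fun y => ⟨x⁻¹ * y.1, mul_mem (Q.inv_mem hxQ) y.2.1, y.2.2⟩
      invFun := fun d => ⟨x * d.1, mul_mem hxQ d.2.1, by simpa using d.2.2⟩
      left_inv := fun y => by simp
      right_inv := fun d => by simp }
  have hnd : ¬ r ∣ Nat.card α := by
    obtain ⟨k, hk⟩ := IsPGroup.iff_card.1 (hQp.to_le (inf_le_left : Q ⊓ N ≤ Q))
    rw [hcard, hk]
    exact fun h => hrq ((Nat.prime_dvd_prime_iff_eq hr Fact.out).1 (hr.dvd_of_dvd_pow h))
  obtain ⟨⟨y, hyQ, hy⟩, hfix⟩ := hR.nonempty_fixed_point_of_prime_not_dvd_card α hnd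
  have hc : Commute y (n : G) := by
    have := congrArg Subtype.val (hfix ⟨n, Subgroup.mem_zpowers _⟩)
    exact (mul_inv_eq_iff_eq_mul.1 (this : (n : G) * y * (n : G)⁻¹ = y)).symm
  have hyN : y ∉ N := fun h => hxN (by simpa using N.mul_mem h (N.inv_mem hy))
  obtain ⟨k, hk⟩ := IsPGroup.iff_orderOf.1 hQp ⟨y, hyQ⟩
  rw [Subgroup.orderOf_mk] at hk
  have := heq y hyN n n.2
  rw [hc.orderOf_mul_eq_mul_orderOf_of_coprime (by rw [hk, hn]; exact ((Nat.coprime_primes Fact.out hr).2 hrq.symm).pow_left k), hn] at this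
  exact hr.ne_one (Nat.eq_of_mul_eq_mul_left (orderOf_pos y) (this.trans (mul_one _).symm))

/-- Let G be a finite group and N a proper non-trivial normal subgroup such that for every x outside N all elements of the coset xN have the same order as x. Then N ≤ F(G) or F(G) ≤ N, where F(G) is the Fitting subgroup; and if N is properly contained in F(G) then F(G) has prime-power order. -/
theorem result {G : Type*} [Group G] [Finite G] (N : Subgroup G) [N.Normal] (hN1 : N ≠ ⊥) (hN2 : N ≠ ⊤)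
    (heq : ∀ x : G, x ∉ N → ∀ n ∈ N, orderOf (x * n) = orderOf x) :
    (N ≤ Cfsg.fittingSubgroup G ∨ Cfsg.fittingSubgroup G ≤ N) ∧
    (N < Cfsg.fittingSubgroup G → IsPrimePow (Nat.card (Cfsg.fittingSubgroup G))) := by
  have hF : ¬ Cfsg.fittingSubgroup G ≤ N → ∃ q : ℕ, q.Prime ∧ ¬ Cfsg.pCore q G ≤ N := by
    intro hle
    rw [Lib.Cores.fittingSubgroup_eq_iSup_pCore, iSup_le_iff] at hle
    push Not at hle
    obtain ⟨⟨q, hq⟩, hq'⟩ := hle
    exact ⟨q, hq, hq'⟩
  constructor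
  · by_cases hle : Cfsg.fittingSubgroup G ≤ N
    · exact Or.inr hle
    · obtain ⟨q, hq, hq'⟩ := hF hle
      haveI := Fact.mk hq
      exact Or.inl (Lib.Cores.le_fittingSubgroup (isPGroup_of_not_le N heq q hq').isNilpotent)
  · intro hlt
    obtain ⟨q, hq, hq'⟩ := hF hlt.not_ge
    haveI := Fact.mk hq
    have hNq := isPGroup_of_not_le N heq q hq'
    have hle : Cfsg.fittingSubgroup G ≤ Cfsg.pCore q G := by
      rw [Lib.Cores.fittingSubgroup_eq_iSup_pCore, iSup_le_iff]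
      rintro ⟨r, hr⟩
      haveI := Fact.mk hr
      rcases eq_or_ne r q with rfl | hrq
      · exact le_rfl
      · by_cases hrN : Cfsg.pCore r G ≤ N
        · exact hrN.trans (Lib.Cores.le_pCore hNq)
        · exact absurd (disjoint_self.1 (IsPGroup.disjoint_of_ne q r hrq.symm N N hNq (isPGroup_of_not_le N heq r hrN))) hN1
    obtain ⟨k, hk⟩ := IsPGroup.iff_card.1 ((Lib.Cores.pCore_isPGroup q).to_le hle)
    refine hk ▸ (hq.isPrimePow.pow ?_)
    rintro rfl
    rw [pow_zero] at hk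
    rw [Subgroup.eq_bot_of_card_eq _ hk] at hlt
    exact (not_lt_bot hlt)

end Cfsg.Agent.S4107
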