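import Cfsg.Statements.S4108
import Mathlib
import Cfsg.Agent.Lib.Frobenius.Basic
-- import your own Cfsg.Agent.* helpers here

set_option autoImplicit false
open Cfsg

namespace Cfsg.Agent.S4108


/-- Let G be a finite group, p a prime and N a proper non-trivial normal p-subgroup such that for every x outside N all elements of the coset xN have the same order as x. Then every non-trivial subgroup H of G of order prime to p acts fixed-point-freely on N: NH is a Frobenius group with complement H and kernel N. -/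
theorem result {G : Type*} [Group G] [Finite G] (N : Subgroup G) [N.Normal] (hN1 : N ≠ ⊥) (hN2 : N ≠ ⊤)
    (heq : ∀ x : G, x ∉ N → ∀ n ∈ N, orderOf (x * n) = orderOf x)
    (p : ℕ) [Fact p.Prime] (hNp : IsPGroup p N) :
    ∀ H : Subgroup G, H ≠ ⊥ → (Nat.card H).Coprime p →
      Cfsg.IsFrobeniusComplement (H.subgroupOf (N ⊔ H)) ∧ Cfsg.frobeniusKernel (H.subgroupOf (N ⊔ H)) = (N.subgroupOf (N ⊔ H) : Set ↥(N ⊔ H)) := by
  intro H hH hcop
  have hinf : N ⊓ H = ⊥ := by
    obtain ⟨k, hk⟩ := IsPGroup.iff_card.1 hNp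
    exact Subgroup.inf_eq_bot_of_coprime (hk ▸ hcop.symm.pow_left k)
  set L := N ⊔ H with hL
  have hc : Subgroup.IsComplement' (N.subgroupOf L) (H.subgroupOf L) := by
    apply Subgroup.isComplement'_of_disjoint_and_mul_eq_univ
    · rw [disjoint_iff]
      exact (Subgroup.comap_inf N H L.subtype).symm.trans (by rw [hinf, MonoidHom.comap_bot, Subgroup.ker_subtype])
    · rw [← Subgroup.normal_mul, ← Subgroup.subgroupOf_sup le_sup_left le_sup_right, Subgroup.subgroupOf_self, Subgroup.coe_top]
  have hfix : ∀ h ∈ H.subgroupOf L, h ≠ 1 → N.subgroupOf L ⊓ Subgroup.centralizer {h} = ⊥ := by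
    intro h hh hh1
    rw [Subgroup.eq_bot_iff_forall]
    rintro n ⟨hn, hnc⟩
    have hhN : (h : G) ∉ N := fun e => hh1 (Subtype.ext (Subgroup.mem_bot.1 (hinf ▸ (⟨e, hh⟩ : (h : G) ∈ N ⊓ H))))
    have hcomm : Commute (h : G) (n : G) := by
      have := Subgroup.mem_centralizer_singleton_iff.1 hnc
      exact (congrArg Subtype.val this).symm
    have hco : (orderOf (h : G)).Coprime (orderOf (n : G)) := by
      obtain ⟨k, hk⟩ := IsPGroup.iff_orderOf.1 hNp ⟨n, hn⟩
      have hk : orderOf (n : G) = p ^ k := (Subgroup.orderOf_mk (n : G) hn).symm.trans hk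
      rw [hk]
      exact ((hcop.coprime_dvd_left (Subgroup.orderOf_dvd_natCard H hh)).pow_right k)
    have := heq h hhN n hn
    rw [hcomm.orderOf_mul_eq_mul_orderOf_of_coprime hco] at this
    exact Subtype.ext (orderOf_eq_one_iff.1 (Nat.eq_of_mul_eq_mul_left (orderOf_pos (h : G)) (this.trans (mul_one _).symm)))
  have hK : N.subgroupOf L ≠ ⊥ := fun e => hN1 (by
    have := Subgroup.subgroupOf_eq_bot.1 e
    rwa [disjoint_iff, inf_eq_left.2 le_sup_left] at this)
  have hHb : H.subgroupOf L ≠ ⊥ := fun e => hH (by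
    have := Subgroup.subgroupOf_eq_bot.1 e
    rwa [disjoint_iff, inf_eq_left.2 le_sup_right] at this)
  have hF := (Lib.Frobenius.isFrobeniusComplement_iff_centralizer hc hK hHb).2 hfix
  exact ⟨hF, (Lib.Frobenius.coe_eq_frobeniusKernel hF inferInstance hc).symm⟩

end Cfsg.Agent.S4108
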