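import Cfsg.Statements.S4112
import Mathlib
-- import your own Cfsg.Agent.* helpers here

set_option autoImplicit false
open Cfsg

namespace Cfsg.Agent.S4112

theorem centralizer_le_of_coprime {G : Type*} [Group G] [Finite G] (N M : Subgroup G) [N.Normal]
    (hcam : ∀ g : G, g ∉ N → ∀ m ∈ M, ∃ x : G, x * g * x⁻¹ = g * m)
    (hcop : N.index.Coprime (Nat.card M)) :
    ∀ x ∈ M, x ≠ 1 → Subgroup.centralizer ({x} : Set G) ≤ N := by
  intro x hx hx1 g hg
  by_contra hgN
  obtain ⟨r, hr, hrd⟩ := Nat.exists_prime_and_dvd (n := orderOf x) (by simpa using hx1)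
  obtain ⟨k, hk⟩ := hrd
  set y := x ^ k with hy
  have hyo : orderOf y = r := by
    have hk0 : k ≠ 0 := by rintro rfl; simpa [(orderOf_pos x).ne'] using hk
    rw [hy, orderOf_pow_of_dvd hk0 (hk ▸ dvd_mul_left k r), hk, Nat.mul_div_cancel _ (Nat.pos_of_ne_zero hk0)]
  have hgy : Commute g y := Commute.pow_right (Subgroup.mem_centralizer_singleton_iff.1 hg : g * x = x * g) k
  have hrM : r ∣ Nat.card M := hyo ▸ Subgroup.orderOf_dvd_natCard M (Subgroup.pow_mem M hx k)
  have hrN : ¬ r ∣ N.index := fun h => hr.ne_one (Nat.eq_one_of_dvd_coprimes hcop h hrM)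
  obtain ⟨a, b, hrb, hn⟩ := Nat.exists_eq_pow_mul_and_not_dvd (orderOf_pos g).ne' r hr.ne_one
  have hg'N : g ^ r ^ a ∉ N := by
    intro h
    apply hgN
    rw [← QuotientGroup.eq_one_iff] at h ⊢
    have h1 : ((g : G) : G ⧸ N) ^ r ^ a = 1 := by rw [← QuotientGroup.mk_pow]; exact h
    have h2 : orderOf ((g : G) : G ⧸ N) ∣ r ^ a := orderOf_dvd_of_pow_eq_one h1
    have h3 : orderOf ((g : G) : G ⧸ N) ∣ N.index := orderOf_dvd_natCard _
    exact orderOf_eq_one_iff.1 (Nat.eq_one_of_dvd_coprimes (((hr.coprime_iff_not_dvd).2 hrN).pow_left a) h2 h3)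
  have ho : orderOf (g ^ r ^ a) = b := by
    rw [orderOf_pow_of_dvd (pow_ne_zero _ hr.ne_zero) (hn ▸ dvd_mul_right _ _), hn, Nat.mul_div_cancel_left _ (pow_pos hr.pos a)]
  obtain ⟨c, hc⟩ := hcam _ hg'N y (Subgroup.pow_mem M hx k)
  have h := congrArg orderOf hc
  rw [show c * g ^ r ^ a * c⁻¹ = MulAut.conj c (g ^ r ^ a) from rfl, MulEquiv.orderOf_eq, ho,
    (hgy.pow_left _).orderOf_mul_eq_mul_orderOf_of_coprime (by rw [ho, hyo]; exact ((hr.coprime_iff_not_dvd).2 hrb).symm),
    ho, hyo] at h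
  exact hrb (h ▸ dvd_mul_left r b)

theorem coprime_of_centralizer_le {G : Type*} [Group G] [Finite G] (N M : Subgroup G) [N.Normal] [M.Normal]
    (h : ∀ x ∈ M, x ≠ 1 → Subgroup.centralizer ({x} : Set G) ≤ N) :
    N.index.Coprime (Nat.card M) := by
  refine Nat.coprime_of_dvd fun r hr hrN hrM => ?_
  haveI := Fact.mk hr
  obtain ⟨R⟩ : Nonempty (Sylow r G) := Sylow.nonempty
  have hRN : ¬ (R : Subgroup G) ≤ N := fun hle => R.not_dvd_index (dvd_trans hrN (Subgroup.index_dvd_of_le hle))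
  let Z := Subgroup.center (R : Subgroup G)
  obtain ⟨x, hx⟩ := exists_prime_orderOf_dvd_card' (G := M) r hrM
  have hp : IsPGroup r (Subgroup.zpowers (x : G)) := IsPGroup.of_card (n := 1) (by rw [Nat.card_zpowers, Subgroup.orderOf_coe, hx, pow_one])
  obtain ⟨R', hR'⟩ := hp.exists_le_sylow
  obtain ⟨c, hc⟩ := MulAction.exists_smul_eq G R' R
  have hMR : M.subgroupOf (R : Subgroup G) ≠ ⊥ := by
    intro hb
    have h1 : (⟨c * x * c⁻¹, by
        rw [← hc, Sylow.coe_subgroup_smul, Subgroup.mem_pointwise_smul_iff_inv_smul_mem, ← map_inv, MulAut.smul_def, MulAut.conj_apply, inv_inv]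
        exact (show (x : G) = c⁻¹ * (c * x * c⁻¹) * c by group) ▸ hR' (Subgroup.mem_zpowers _)⟩ : (R : Subgroup G))
        ∈ M.subgroupOf (R : Subgroup G) := Subgroup.Normal.conj_mem ‹M.Normal› _ x.2 c
    rw [hb, Subgroup.mem_bot] at h1
    have : (x : G) = 1 := by simpa using congrArg Subtype.val h1
    rw [← Subgroup.orderOf_coe, this, orderOf_one] at hx
    exact hr.ne_one hx.symm
  haveI : Nontrivial (M.subgroupOf (R : Subgroup G)) := (Subgroup.nontrivial_iff_ne_bot _).2 hMR
  have hne : Z ⊓ M.subgroupOf (R : Subgroup G) ≠ ⊥ := by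
    intro hb
    obtain ⟨n, hn⟩ := IsPGroup.iff_card.1 (R.2.to_subgroup (M.subgroupOf (R : Subgroup G)))
    have hn0 : 0 < n := by
      rcases Nat.eq_zero_or_pos n with rfl | h0
      · rw [pow_zero] at hn; exact absurd (Subgroup.eq_bot_of_card_eq _ hn) hMR
      · exact h0
    have hdvd : r ∣ Nat.card (M.subgroupOf (R : Subgroup G)) := hn ▸ dvd_pow_self r hn0.ne'
    let K := M.subgroupOf (R : Subgroup G)
    have hK : IsPGroup r (ConjAct (R : Subgroup G)) := R.2
    have h1 : (1 : K) ∈ MulAction.fixedPoints (ConjAct (R : Subgroup G)) K := fun g => by simp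
    obtain ⟨z, hz, hz1⟩ := IsPGroup.exists_fixed_point_of_prime_dvd_card_of_fixed_point hK K hdvd h1
    apply hz1
    have hzc : (z : (R : Subgroup G)) ∈ Z := by
      rw [Subgroup.mem_center_iff]
      intro g
      have := congrArg Subtype.val (hz (ConjAct.toConjAct g))
      rw [ConjAct.Subgroup.val_conj_smul, ConjAct.smul_def, ConjAct.ofConjAct_toConjAct] at this
      exact mul_inv_eq_iff_eq_mul.1 this
    have : (z : (R : Subgroup G)) ∈ Z ⊓ K := ⟨hzc, z.2⟩
    rw [hb, Subgroup.mem_bot] at this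
    exact (Subtype.ext this).symm
  obtain ⟨z, ⟨hzc, hzM⟩, hz1⟩ := (Subgroup.bot_or_exists_ne_one _).resolve_left hne
  refine hRN fun g hg => h z hzM (fun hh => hz1 (Subtype.ext hh)) ?_
  rw [Subgroup.mem_centralizer_singleton_iff]
  exact congrArg Subtype.val (Subgroup.mem_center_iff.1 hzc ⟨g, hg⟩)

theorem dvd_index_frattini {H : Type*} [Group H] [Finite H] {r : ℕ} (hr : r.Prime) (hd : r ∣ Nat.card H) :
    r ∣ (frattini H).index := by
  by_contra hnd
  haveI := Fact.mk hr
  haveI : Group.IsNilpotent (frattini H) := frattini_nilpotent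
  obtain ⟨P⟩ : Nonempty (Sylow r H) := Sylow.nonempty
  have hPle : (P : Subgroup H) ≤ frattini H := by
    intro x hx
    rw [← QuotientGroup.eq_one_iff, ← orderOf_eq_one_iff]
    obtain ⟨k, hk⟩ := IsPGroup.iff_orderOf.1 P.2 ⟨x, hx⟩
    rw [Subgroup.orderOf_mk] at hk
    exact Nat.eq_one_of_dvd_coprimes (((hr.coprime_iff_not_dvd).2 hnd).pow_left k)
      (hk ▸ orderOf_map_dvd (QuotientGroup.mk' (frattini H)) x) (orderOf_dvd_natCard _)
  let P' : Sylow r (frattini H) := P.subtype hPle
  haveI hP'n : (P' : Subgroup (frattini H)).Normal :=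
    P'.normal_of_normalizerCondition Group.normalizerCondition_of_isNilpotent
  haveI : (P' : Subgroup (frattini H)).Characteristic := Sylow.characteristic_of_normal P' hP'n
  have hPn : (P : Subgroup H).Normal := by
    have h1 : ((P' : Subgroup (frattini H)).map (frattini H).subtype).Normal := inferInstance
    rwa [show (P' : Subgroup (frattini H)) = (P : Subgroup H).subgroupOf (frattini H) from rfl,
      Subgroup.subgroupOf_map_subtype, inf_eq_left.2 hPle] at h1
  obtain ⟨K, hK⟩ := Subgroup.exists_right_complement'_of_coprime P.card_coprime_index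
  have hsup : K ⊔ frattini H = ⊤ := by
    refine top_le_iff.1 ?_
    rw [← hK.sup_eq_top]
    exact sup_le (hPle.trans le_sup_right) le_sup_left
  have hKtop := frattini_nongenerating hsup
  subst hKtop
  have hbot : (P : Subgroup H) = ⊥ := Subgroup.isComplement'_top_right.1 hK
  have := P.dvd_card_of_dvd_card hd
  rw [hbot, Subgroup.card_bot] at this
  exact hr.ne_one (Nat.dvd_one.1 this)

theorem exists_supplement {G : Type*} [Group G] [Finite G] (N M : Subgroup G) [N.Normal] (hMN : M ≤ N)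
    (hcop : N.index.Coprime (Nat.card M)) : ∃ H : Subgroup G, H ⊔ N = ⊤ ∧ H ⊓ M = ⊥ := by
  obtain ⟨H, hH, hmin⟩ := (Set.toFinite {H : Subgroup G | H ⊔ N = ⊤}).exists_minimal ⟨⊤, by simp⟩
  refine ⟨H, hH, ?_⟩
  have hfr : N.subgroupOf H ≤ frattini H := by
    refine le_iInf₂ ?_
    intro T hT
    by_contra hle
    have hsup : N.subgroupOf H ⊔ T = ⊤ := hT.2 _ (lt_of_le_not_ge le_sup_right (fun h => hle (le_sup_left.trans h)))
    have h2 : (T.map H.subtype) ⊔ N = ⊤ := by
      refine top_le_iff.1 ?_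
      refine (hH : H ⊔ N = ⊤).ge.trans ?_
      refine sup_le ?_ le_sup_right
      have := congrArg (Subgroup.map H.subtype) hsup
      rw [Subgroup.map_sup, Subgroup.subgroupOf_map_subtype, ← MonoidHom.range_eq_map, Subgroup.range_subtype] at this
      refine this.ge.trans ?_
      exact sup_le ((inf_le_left).trans le_sup_right) le_sup_left
    have h3 : H ≤ T.map H.subtype := hmin h2 (Subgroup.map_subtype_le T)
    apply hT.1
    rw [eq_top_iff]
    intro x _
    obtain ⟨y, hy, hyx⟩ := h3 x.2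
    rwa [← Subtype.ext hyx]
  rw [eq_bot_iff]
  intro x ⟨hxH, hxM⟩
  rw [Subgroup.mem_bot, ← orderOf_eq_one_iff]
  by_contra hx1
  obtain ⟨r, hr, hrd⟩ := Nat.exists_prime_and_dvd hx1
  have h1 : r ∣ Nat.card H := hrd.trans (Subgroup.orderOf_dvd_natCard H hxH)
  have h2 : r ∣ N.index := by
    refine ((dvd_index_frattini hr h1).trans (Subgroup.index_dvd_of_le hfr)).trans ?_
    exact Subgroup.relIndex_dvd_index_of_normal N H
  exact hr.ne_one (Nat.eq_one_of_dvd_coprimes hcop h2 (hrd.trans (Subgroup.orderOf_dvd_natCard M hxM)))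

/-- Let G be a finite group and M ≤ N non-trivial proper normal subgroups such that for every g outside N the conjugacy class of g is a union of cosets of M (equivalently gm is conjugate to g for every m ∈ M). Then (1) and (2) below are equivalent, and they imply (3): (1) every g outside N acts fixed-point-freely on M, that is C_G(x) ≤ N for every x ∈ M, x ≠ 1; (2) the index of N in G is coprime to the order of M; (3) there is a subgroup H of G with HN = G and H ∩ M = 1. -/
theorem result {G : Type*} [Group G] [Finite G] (N M : Subgroup G) [N.Normal] [M.Normal] (hMN : M ≤ N) (hM1 : M ≠ ⊥) (hN2 : N ≠ ⊤)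
    (hcam : ∀ g : G, g ∉ N → ∀ m ∈ M, ∃ x : G, x * g * x⁻¹ = g * m) :
    ((∀ x ∈ M, x ≠ 1 → Subgroup.centralizer ({x} : Set G) ≤ N) ↔ N.index.Coprime (Nat.card M)) ∧
    ((∀ x ∈ M, x ≠ 1 → Subgroup.centralizer ({x} : Set G) ≤ N) → ∃ H : Subgroup G, H ⊔ N = ⊤ ∧ H ⊓ M = ⊥) := by
  exact ⟨⟨coprime_of_centralizer_le N M, centralizer_le_of_coprime N M hcam⟩,
    fun h => exists_supplement N M hMN (coprime_of_centralizer_le N M h)⟩

end Cfsg.Agent.S4112
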