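import Cfsg.Statements.S4113
import Mathlib
-- import your own Cfsg.Agent.* helpers here

set_option autoImplicit false
open Cfsg

namespace Cfsg.Agent.S4113


/-- Let G be a finite group, M ≤ N non-trivial proper normal subgroups, and H a subgroup with HM = G and H ∩ M = 1. Then every element of G outside N acts fixed-point-freely on M (C_G(x) ≤ N for every x ∈ M, x ≠ 1) if and only if H ∩ gHg⁻¹ ≤ H ∩ N for every g outside H, with H proper and non-trivial and H ∩ N proper in H. -/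
theorem result {G : Type*} [Group G] [Finite G] (N M : Subgroup G) [N.Normal] [M.Normal] (hMN : M ≤ N) (hM1 : M ≠ ⊥) (hN2 : N ≠ ⊤)
    (H : Subgroup G) (hHM : H ⊔ M = ⊤) (hHM' : H ⊓ M = ⊥) :
    (∀ x ∈ M, x ≠ 1 → Subgroup.centralizer ({x} : Set G) ≤ N) ↔
      (H ≠ ⊥ ∧ H ≠ ⊤ ∧ H ⊓ N < H ∧ ∀ g : G, g ∉ H → H ⊓ H.map (MulAut.conj g).toMonoidHom ≤ N) := by
  have hdec : ∀ g : G, ∃ h ∈ H, ∃ m ∈ M, h * m = g := fun g =>
    Subgroup.mem_sup_of_normal_right.1 (by rw [hHM]; trivial)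
  have hcomm : ∀ h ∈ H, ∀ k ∈ H, ∀ m ∈ M, m * k * m⁻¹ = h → h = k ∧ m * k = k * m := by
    intro h hh k hk m hm e
    have h1 : k⁻¹ * h ∈ H ⊓ M := by
      refine ⟨mul_mem (H.inv_mem hk) hh, ?_⟩
      rw [← e, show k⁻¹ * (m * k * m⁻¹) = (k⁻¹ * m * k⁻¹⁻¹) * m⁻¹ by group]
      exact mul_mem (Subgroup.Normal.conj_mem ‹M.Normal› m hm k⁻¹) (M.inv_mem hm)
    rw [hHM', Subgroup.mem_bot, inv_mul_eq_one] at h1
    exact ⟨h1.symm, mul_inv_eq_iff_eq_mul.1 (e.trans h1.symm)⟩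
  constructor
  · intro hF
    refine ⟨?_, ?_, ?_, ?_⟩
    · intro hb
      rw [hb, bot_sup_eq] at hHM
      exact hN2 (top_le_iff.1 (hHM ▸ hMN))
    · intro ht
      rw [ht, top_inf_eq] at hHM'
      exact hM1 hHM'
    · refine lt_of_le_of_ne inf_le_left fun he => hN2 ?_
      refine top_le_iff.1 ?_
      rw [← hHM]
      exact sup_le (inf_eq_left.1 he) hMN
    · intro g hg y hy
      obtain ⟨hyH, k, hk, hky⟩ := hy
      simp only [MulEquiv.coe_toMonoidHom, MulAut.conj_apply] at hky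
      obtain ⟨a, ha, m, hm, rfl⟩ := hdec g
      have hm1 : m ≠ 1 := fun e => hg (by rw [e, mul_one]; exact ha)
      have hy' : m * k * m⁻¹ = a⁻¹ * y * a := by rw [← hky]; group
      obtain ⟨h1, h2⟩ := hcomm (a⁻¹ * y * a) (mul_mem (mul_mem (inv_mem ha) hyH) ha) k hk m hm hy'
      have hkN : k ∈ N := hF m hm hm1 (Subgroup.mem_centralizer_singleton_iff.2 h2.symm)
      have := Subgroup.Normal.conj_mem ‹N.Normal› _ (h1.symm ▸ hkN : a⁻¹ * y * a ∈ N) a
      simpa [mul_assoc] using this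
  · rintro ⟨-, -, -, hFW⟩ x hx hx1 y hy
    by_contra hyN
    obtain ⟨h, hh, m, hm, rfl⟩ := hdec y
    have hhN : h ∉ N := fun e => hyN (mul_mem e (hMN hm))
    have hfix : ∀ n ∈ M, n * h = h * n → n = 1 := by
      intro n hn e
      by_contra hn1
      have hnH : n ∉ H := fun e' => hn1 (Subgroup.mem_bot.1 (hHM' ▸ (⟨e', hn⟩ : n ∈ H ⊓ M)))
      refine hhN (hFW n hnH ⟨hh, h, hh, ?_⟩)
      simp only [MulEquiv.coe_toMonoidHom, MulAut.conj_apply]
      rw [e]; group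
    let f : M → M := fun n => ⟨h⁻¹ * (n : G) * h * (n : G)⁻¹, by
      exact mul_mem (by simpa using Subgroup.Normal.conj_mem ‹M.Normal› (n : G) n.2 h⁻¹) (inv_mem n.2)⟩
    have hinj : Function.Injective f := by
      intro a b e
      have e' : h⁻¹ * (a : G) * h * (a : G)⁻¹ = h⁻¹ * (b : G) * h * (b : G)⁻¹ := congrArg Subtype.val e
      have := hfix ((b : G)⁻¹ * a) (mul_mem (inv_mem b.2) a.2) ?_
      · exact Subtype.ext (inv_mul_eq_one.1 this).symm
      · have e2 : (a : G) * h * (a : G)⁻¹ = (b : G) * h * (b : G)⁻¹ := by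
          calc (a : G) * h * (a : G)⁻¹ = h * (h⁻¹ * (a : G) * h * (a : G)⁻¹) := by group
            _ = _ := by rw [e']; group
        calc (b : G)⁻¹ * a * h = (b : G)⁻¹ * ((a : G) * h * (a : G)⁻¹) * a := by group
          _ = h * ((b : G)⁻¹ * a) := by rw [e2]; group
    obtain ⟨⟨n, hn⟩, hnm⟩ := (Finite.injective_iff_surjective.1 hinj) ⟨m, hm⟩
    have hnm' : h⁻¹ * n * h * n⁻¹ = m := congrArg Subtype.val hnm
    have hy2 : x * (h * m) = h * m * x := (Subgroup.mem_centralizer_singleton_iff.1 hy).symm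
    have hyc : h * m = n * h * n⁻¹ := by rw [← hnm']; group
    have := hfix (n⁻¹ * x * n) (by simpa using Subgroup.Normal.conj_mem ‹M.Normal› x hx n⁻¹) ?_
    · apply hx1
      calc x = n * (n⁻¹ * x * n) * n⁻¹ := by group
        _ = 1 := by rw [this]; group
    · rw [hyc] at hy2
      calc n⁻¹ * x * n * h = n⁻¹ * (x * (n * h * n⁻¹)) * n := by group
        _ = h * (n⁻¹ * x * n) := by rw [hy2]; group

end Cfsg.Agent.S4113
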