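import Mathlib
import Cfsg.Statements.S4117
import Cfsg.Agent.Lib.Coprime.Action
import Cfsg.Agent.Lib.OddOrder.Cyclic

set_option autoImplicit false
open Cfsg

namespace Cfsg.Agent.S4117

open Subgroup

/-- In an abelian group of order prime to `|A|`, commutators with `A` meet fixed points trivially. -/
theorem eq_one_of_fixed {E A : Type*} [CommGroup E] [Finite E] [Group A] [Finite A]
    [MulDistribMulAction A E] (hcop : (Nat.card A).Coprime (Nat.card E)) {x : E}
    (hx : x ∈ closure {y : E | ∃ (a : A) (g : E), y = g⁻¹ * a • g}) (hfix : ∀ a : A, a • x = x) :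
    x = 1 := by
  classical
  haveI := Fintype.ofFinite A
  let N : E →* E :=
    { toFun := fun e => ∏ a : A, a • e
      map_one' := by simp
      map_mul' := fun u v => by simp [Finset.prod_mul_distrib] }
  have hker : closure {y : E | ∃ (a : A) (g : E), y = g⁻¹ * a • g} ≤ N.ker := by
    refine (closure_le _).2 ?_
    rintro _ ⟨b, g, rfl⟩
    have h1 : N (b • g) = N g := by
      show (∏ a : A, a • b • g) = ∏ a : A, a • g
      simp_rw [smul_smul]
      exact Fintype.prod_equiv (Equiv.mulRight b) _ _ (fun a => rfl)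
    rw [SetLike.mem_coe, MonoidHom.mem_ker, map_mul, map_inv, h1, inv_mul_cancel]
  have h2 : (∏ a : A, a • x) = 1 := hker hx
  rw [Finset.prod_congr rfl (fun a _ => hfix a), Finset.prod_const, Finset.card_univ,
    ← Nat.card_eq_fintype_card] at h2
  rw [← orderOf_eq_one_iff]
  exact Nat.eq_one_of_dvd_coprimes hcop (orderOf_dvd_of_pow_eq_one h2) (orderOf_dvd_natCard x)

/-- Let A be a finite group acting on the finite group G by automorphisms with the orders of A and G coprime, and suppose every Sylow subgroup of G is cyclic. Then the fixed-point subgroup C_G(A) is a Hall subgroup of G (its order is coprime to its index), the subgroup [G, A] generated by the elements g⁻¹·a(g) is cyclic and normal with [G, A] ∩ C_G(A) = 1 and [G, A]·C_G(A) = G. -/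
theorem result {G A : Type*} [Group G] [Finite G] [Group A] [Finite A]
    [MulDistribMulAction A G] (hcop : (Nat.card A).Coprime (Nat.card G))
    (hcyc : ∀ (p : ℕ) [Fact p.Prime] (P : Sylow p G), IsCyclic (P : Subgroup G)) :
    (Nat.card (MulAction.fixedPoints A G : Set G)).Coprime (Nat.card G / Nat.card (MulAction.fixedPoints A G : Set G)) ∧
    IsCyclic (Subgroup.closure {y : G | ∃ (a : A) (g : G), y = g⁻¹ * a • g}) ∧
    (Subgroup.closure {y : G | ∃ (a : A) (g : G), y = g⁻¹ * a • g}).Normal ∧
    (Subgroup.closure {y : G | ∃ (a : A) (g : G), y = g⁻¹ * a • g} : Set G) ∩ MulAction.fixedPoints A G = {1} ∧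
    Subgroup.closure {y : G | ∃ (a : A) (g : G), y = g⁻¹ * a • g} ⊔ Subgroup.closure (MulAction.fixedPoints A G) = ⊤ := by
  haveI hZ : IsZGroup G := ⟨fun p hp P => by haveI := Fact.mk hp; exact hcyc p P⟩
  set K := closure {y : G | ∃ (a : A) (g : G), y = g⁻¹ * a • g} with hKdef
  have hgen : ∀ (a : A) (g : G), g⁻¹ * a • g ∈ K := fun a g => subset_closure ⟨a, g, rfl⟩
  let F : Subgroup G :=
    { carrier := MulAction.fixedPoints A G
      one_mem' := fun a => smul_one a
      mul_mem' := fun {u v} hu hv a => by rw [smul_mul', hu a, hv a]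
      inv_mem' := fun {u} hu a => by rw [smul_inv', hu a] }
  have hF : ∀ g, g ∈ F ↔ ∀ a : A, a • g = g := fun g => Iff.rfl
  have hdec : ∀ g : G, ∃ n ∈ K, ∃ c ∈ F, g = c * n := fun g => by
    obtain ⟨n, hn, hfix⟩ := Lib.Coprime.Action.exists_mul_fixed_commutator hcop (Or.inr inferInstance) g
    exact ⟨n⁻¹, inv_mem hn, g * n, hfix, by group⟩
  haveI hKn : K.Normal := by
    refine ⟨fun k hk h => ?_⟩
    have hconj : K.map (MulAut.conj h).toMonoidHom ≤ K := by
      rw [hKdef, MonoidHom.map_closure, closure_le]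
      rintro _ ⟨_, ⟨a, g, rfl⟩, rfl⟩
      have : (MulAut.conj h) (g⁻¹ * a • g) = ((g * h⁻¹)⁻¹ * a • (g * h⁻¹)) * (h⁻¹⁻¹ * a • h⁻¹)⁻¹ := by
        rw [MulAut.conj_apply, smul_mul', mul_inv_rev]; group
      exact this ▸ mul_mem (hgen _ _) (inv_mem (hgen _ _))
    exact hconj ⟨k, hk, rfl⟩
  -- `K` lies in the cyclic centralizer `E` of the derived subgroup
  set D := commutator G with hDdef
  haveI : IsCyclic D := IsZGroup.isCyclic_commutator G
  set E := centralizer (D : Set G) with hEdef
  haveI hEn : E.Normal := inferInstance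
  haveI : IsCyclic E := by
    haveI : Group.IsNilpotent E := by
      refine Subgroup.isNilpotent_of_ker_le_center (Abelianization.of : E →* Abelianization E) ?_
      intro z hz
      rw [Abelianization.ker_of] at hz
      have hzD : (z : G) ∈ D := by
        have h : (z : G) ∈ (_root_.commutator E).map E.subtype := ⟨z, hz, rfl⟩
        rw [map_subtype_commutator] at h
        rw [hDdef, _root_.commutator_def]
        exact commutator_mono le_top le_top h
      exact mem_center_iff.2 fun w =>
        Subtype.ext (mem_centralizer_iff.1 w.2 _ hzD).symm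
    infer_instance
  have hDsmul : ∀ (a : A), ∀ d ∈ D, a • d ∈ D := by
    intro a d hd
    have : (commutator G).map (MulDistribMulAction.toMonoidHom G a) ≤ commutator G :=
      by rw [_root_.commutator_def, map_commutator]; exact commutator_mono le_top le_top
    exact this ⟨d, hd, rfl⟩
  have hEsmul : ∀ (a : A), ∀ e ∈ E, a • e ∈ E := by
    intro a e he
    refine mem_centralizer_iff.2 fun d hd => ?_
    have := congrArg (a • ·) (mem_centralizer_iff.1 he _ (hDsmul a⁻¹ d hd))
    simpa using this
  have hKE : K ≤ E := by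
    refine (closure_le _).2 ?_
    rintro _ ⟨a, g, rfl⟩
    obtain ⟨⟨d0, hd0⟩, hgen0⟩ := IsCyclic.exists_zpow_surjective (G := D)
    obtain ⟨n, hn⟩ := hgen0 ⟨g * d0 * g⁻¹, (inferInstance : D.Normal).conj_mem d0 hd0 g⟩
    have hpow : ∀ d ∈ D, g * d * g⁻¹ = d ^ n := by
      intro d hd
      obtain ⟨m, hm⟩ := hgen0 ⟨d, hd⟩
      have hm' : d0 ^ m = d := congrArg Subtype.val hm
      have hn' : d0 ^ n = g * d0 * g⁻¹ := congrArg Subtype.val hn
      rw [← hm', ← conj_zpow, ← hn', ← zpow_mul, ← zpow_mul, mul_comm]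
    refine mem_centralizer_iff.2 fun d hd => ?_
    have h1 : a • g * d * (a • g)⁻¹ = g * d * g⁻¹ := by
      have := congrArg (a • ·) (hpow _ (hDsmul a⁻¹ d hd))
      simp only [smul_mul', smul_inv', smul_zpow', smul_inv_smul] at this
      rw [this, ← hpow d hd]
    calc d * (g⁻¹ * a • g) = g⁻¹ * (g * d * g⁻¹) * a • g := by group
      _ = g⁻¹ * (a • g * d * (a • g)⁻¹) * a • g := by rw [h1]
      _ = g⁻¹ * a • g * d := by group
  haveI hKc : IsCyclic K := isCyclic_of_injective (Subgroup.inclusion hKE) (Subgroup.inclusion_injective _)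
  have hKF : ∀ x ∈ K, x ∈ F → x = 1 := by
    intro x hx hxF
    letI : CommGroup E := IsCyclic.commGroup
    letI : MulDistribMulAction A E :=
      { smul := fun a e => ⟨a • (e : G), hEsmul a e e.2⟩
        one_smul := fun e => Subtype.ext (one_smul A (e : G))
        mul_smul := fun a b e => Subtype.ext (mul_smul a b (e : G))
        smul_mul := fun a e e' => Subtype.ext (smul_mul' a (e : G) e')
        smul_one := fun a => Subtype.ext (smul_one a) }
    have hle : K ≤ (closure {y : E | ∃ (a : A) (g : E), y = g⁻¹ * a • g}).map E.subtype := by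
      refine (closure_le _).2 ?_
      rintro _ ⟨a, g, rfl⟩
      obtain ⟨n, hn, c, hc, rfl⟩ := hdec g
      refine ⟨⟨n, hKE hn⟩⁻¹ * a • (⟨n, hKE hn⟩ : E), subset_closure ⟨a, _, rfl⟩, ?_⟩
      show n⁻¹ * a • n = _
      rw [smul_mul', hc a]; group
    obtain ⟨e, he, rfl⟩ := hle hx
    rw [coe_subtype, OneMemClass.coe_eq_one]
    refine eq_one_of_fixed (hcop.coprime_dvd_right (card_subgroup_dvd_card E)) he fun a => ?_
    exact Subtype.ext ((hF _).1 hxF a)
  have hcompl : K.IsComplement' F := by
    refine isComplement'_of_disjoint_and_mul_eq_univ ?_ ?_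
    · rw [disjoint_def]; exact fun {x} => hKF x
    · refine Set.eq_univ_of_forall fun g => ?_
      obtain ⟨n, hn, c, hc, rfl⟩ := hdec g
      exact ⟨c * n * c⁻¹, hKn.conj_mem n hn c, c, hc, by group⟩
  have hco : (Nat.card F).Coprime (Nat.card K) := by
    refine Nat.coprime_of_dvd fun p hp h1 h2 => ?_
    haveI := Fact.mk hp
    obtain ⟨c, hc⟩ := exists_prime_orderOf_dvd_card' p h1
    obtain ⟨k, hk⟩ := exists_prime_orderOf_dvd_card' p h2
    rw [← Subgroup.orderOf_coe] at hc hk
    haveI hkn : (zpowers (k : G)).Normal := by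
      refine ⟨fun z hz g => ?_⟩
      obtain ⟨m, rfl⟩ := mem_zpowers_iff.1 hz
      rw [← conj_zpow]
      refine zpow_mem ?_ m
      have : zpowers (g * k * g⁻¹) = zpowers (k : G) :=
        Lib.OddOrder.Cyclic.eq_of_card_eq_of_isCyclic (W := K) (zpowers_le.2 (hKn.conj_mem _ k.2 g))
          (zpowers_le.2 k.2) (by
            rw [Nat.card_zpowers, Nat.card_zpowers]
            exact orderOf_injective (MulAut.conj g).toMonoidHom (MulAut.conj g).injective (k : G))
      exact this ▸ mem_zpowers _
    have hpk : IsPGroup p (zpowers (k : G)) := IsPGroup.of_card (n := 1) (by rw [Nat.card_zpowers, hk, pow_one])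
    have hpc : IsPGroup p (zpowers (c : G)) := IsPGroup.of_card (n := 1) (by rw [Nat.card_zpowers, hc, pow_one])
    obtain ⟨P, hP⟩ := (hpc.to_sup_of_normal_right hpk).exists_le_sylow
    haveI := hcyc p P
    have : zpowers (c : G) = zpowers (k : G) :=
      Lib.OddOrder.Cyclic.eq_of_card_eq_of_isCyclic (W := (P : Subgroup G)) (le_sup_left.trans hP)
        (le_sup_right.trans hP) (by rw [Nat.card_zpowers, Nat.card_zpowers, hc, hk])
    have hc1 := hKF c (zpowers_le.2 k.2 (this ▸ mem_zpowers _)) c.2
    rw [hc1, orderOf_one] at hc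
    exact hp.one_lt.ne hc
  refine ⟨?_, hKc, hKn, ?_, ?_⟩
  · show (Nat.card F).Coprime (Nat.card G / Nat.card F)
    rw [← hcompl.card_mul, Nat.mul_div_cancel _ Nat.card_pos]
    exact hco
  · exact Set.eq_singleton_iff_unique_mem.2 ⟨⟨one_mem K, fun a => smul_one a⟩, fun x hx => hKF x hx.1 hx.2⟩
  · rw [eq_top_iff]
    intro g _
    obtain ⟨n, hn, c, hc, rfl⟩ := hdec g
    exact mul_mem (mem_sup_right (subset_closure hc)) (mem_sup_left hn)

end Cfsg.Agent.S4117
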