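import Cfsg.Statements.S4118
import Mathlib
import Cfsg.Agent.Lib.TIHall.Structure
import Cfsg.Agent.Lib.Linear.Transvection

set_option autoImplicit false
open Cfsg

namespace Cfsg.Agent.S4118

instance fact_prime_five : Fact (Nat.Prime 5) := ⟨by norm_num⟩

theorem not_isSolvable_SL : ¬ Group.IsSolvable (Matrix.SpecialLinearGroup (Fin 2) (ZMod 5)) := by
  haveI : Nontrivial (Matrix.SpecialLinearGroup (Fin 2) (ZMod 5)) :=
    ⟨⟨1, -1, fun h => by
      have h' := congrArg (fun m : Matrix.SpecialLinearGroup (Fin 2) (ZMod 5) => m.1 0 0) h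
      simp at h'
      revert h'
      decide⟩⟩
  intro hs
  have hp : commutator (Matrix.SpecialLinearGroup (Fin 2) (ZMod 5)) = ⊤ :=
    Lib.Linear.commutator_SL_eq_top (F := ZMod 5) le_rfl fun _ => by rw [Nat.card_zmod]; norm_num
  exact not_subsingleton (Matrix.SpecialLinearGroup (Fin 2) (ZMod 5))
    (Lib.FpfLinear.Perfect.subsingleton_of_perfect hp)

/-- Let G be a finite group and H a non-normal subgroup meeting each of its conjugates by elements outside N_G(H) trivially, with the order of H coprime to its index in N_G(H); let π be the set of primes dividing the order of H and suppose G is π-separable (it has a chain of normal subgroups from 1 to G each of whose factors has order divisible only by primes in π or coprime to the order of H). Let O be the largest normal subgroup of G of order coprime to the order of H. Then G = O·N_G(H), O·H is normal in G, and G is solvable if and only if O is solvable and H has no subgroup isomorphic to SL₂(5). -/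
theorem result {G : Type*} [Group G] [Finite G] (H : Subgroup G)
    (hTI : Cfsg.IsTISubset (H : Set G)) (hnn : ¬ H.Normal)
    (hHall : (Nat.card H).Coprime (H.subgroupOf (Subgroup.normalizer (H : Set G))).index)
    (hsep : ∃ (n : ℕ) (M : Fin (n + 1) → Subgroup G), M 0 = ⊥ ∧ M (Fin.last n) = ⊤ ∧ Monotone M ∧ (∀ i, (M i).Normal) ∧
      ∀ i : Fin n, (∀ q : ℕ, q.Prime → q ∣ (M i.castSucc).relIndex (M i.succ) → q ∣ Nat.card H) ∨
        ((M i.castSucc).relIndex (M i.succ)).Coprime (Nat.card H))
    (O : Subgroup G) (hO : O = sSup {K : Subgroup G | K.Normal ∧ (Nat.card K).Coprime (Nat.card H)}) :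
    O ⊔ Subgroup.normalizer (H : Set G) = ⊤ ∧ (O ⊔ H).Normal ∧
    (Group.IsSolvable G ↔ Group.IsSolvable O ∧
      ∀ K : Subgroup G, K ≤ H → ¬ Nonempty (K ≃* Matrix.SpecialLinearGroup (Fin 2) (ZMod 5))) := by
  obtain ⟨hOn, hOcop⟩ := Lib.TIHall.core_spec (Nat.card H) O hO
  haveI := hOn
  have hH := S4115.hall_of_ti H hTI hHall
  have hne : H ≠ ⊥ := fun h => hnn (h ▸ inferInstance)
  have hmax : ∀ K : Subgroup G, K.Normal → (Nat.card K).Coprime (Nat.card H) → K ≤ O :=
    fun K hK hKc => hO ▸ le_sSup ⟨hK, hKc⟩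
  obtain ⟨n, M, h0, htop, hmono, hMn, hfac⟩ := hsep
  have hON := Lib.TIHall.sup_normalizer_eq_top H hTI hne hH O hmax hOcop M h0 htop hmono hMn hfac
  refine ⟨hON, ?_, ?_, ?_⟩
  · rw [← Subgroup.normalizer_eq_top_iff, eq_top_iff, ← hON]
    refine sup_le (le_sup_left.trans Subgroup.le_normalizer) fun g hg => ?_
    have key : ∀ g ∈ Subgroup.normalizer (H : Set G), ∀ x ∈ O ⊔ H, g * x * g⁻¹ ∈ O ⊔ H := by
      intro g hg x hx
      obtain ⟨o, ho, y, hy, rfl⟩ := Subgroup.mem_sup_of_normal_left.1 hx
      rw [show g * (o * y) * g⁻¹ = (g * o * g⁻¹) * (g * y * g⁻¹) by group]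
      exact mul_mem (Subgroup.mem_sup_left (hOn.conj_mem o ho g))
        (Subgroup.mem_sup_right ((Subgroup.mem_normalizer_iff.1 hg y).1 hy))
    rw [Subgroup.mem_normalizer_iff]
    refine fun x => ⟨key g hg x, fun hx => ?_⟩
    have h2 := key g⁻¹ ((Subgroup.normalizer (H : Set G)).inv_mem hg) _ hx
    rwa [show g⁻¹ * (g * x * g⁻¹) * g⁻¹⁻¹ = x by group] at h2
  · intro hG
    refine ⟨inferInstance, fun K _ ⟨e⟩ => not_isSolvable_SL ?_⟩
    exact Group.isSolvable_of_isSolvable_injective (f := e.symm.toMonoidHom) e.symm.injective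
  · rintro ⟨hOs, hno⟩
    have hlin := Lib.TIHall.hasLinFPF_of_ti H hTI hnn hH O hOcop hON
    haveI : Group.IsSolvable H := by
      obtain ⟨m, hm, ρ, hρ⟩ := hlin
      haveI : NeZero m := ⟨hm.ne'⟩
      by_contra hns
      obtain ⟨f, hf, -⟩ := Lib.FpfLinear.NonSolvable.decomposition hρ hns
      exact hno _ (Subgroup.map_subtype_le f.range)
        ⟨(f.range.equivMapOfInjective H.subtype H.subtype_injective).symm.trans
          (MonoidHom.ofInjective hf).symm⟩
    exact Lib.TIHall.isSolvable_of_ti H hH O hmax hOcop hON hlin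

end Cfsg.Agent.S4118
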