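import Cfsg.Statements.S4125
import Cfsg.Agent.Lib.PrimePowerClass.BaerMain

set_option autoImplicit false
set_option linter.style.haveILetI false
open Cfsg

namespace Cfsg.Agent.S4125

open Subgroup
open Cfsg.Agent.Lib.PrimePowerClass.Baer
open Cfsg.Agent.Lib.PrimePowerClass.BaerMain

/-- Let G be a finite group and q a prime dividing its order such that every element of q-power order has a conjugacy class of prime-power size. Then G is q-solvable of q-length 1: there are normal subgroups K ≤ L of G with K of order prime to q, L/K a q-group and L of index prime to q. Moreover there is a prime p such that every element of q-power order has a class of p-power size (one prime serving for all of them), and for a Sylow q-subgroup Q: if p = q then Q is normal with a normal complement (a direct factor), while if p ≠ q then Q is abelian, the product of Q with the largest normal p-subgroup O_p(G) is normal in G, and G/O_{q'}(G) is solvable, where O_{q'}(G) is the largest normal subgroup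 of order prime to q. -/
theorem result {G : Type*} [Group G] [Finite G] (q : ℕ) [Fact q.Prime] (hq : q ∣ Nat.card G)
    (hBaer : ∀ x : G, (∃ k : ℕ, orderOf x = q ^ k) → ∃ (r : ℕ) (a : ℕ), r.Prime ∧ (Subgroup.centralizer ({x} : Set G)).index = r ^ a) (Q : Sylow q G) :
    (∃ K L : Subgroup G, K.Normal ∧ L.Normal ∧ K ≤ L ∧ (Nat.card K).Coprime q ∧ (∃ m : ℕ, K.relIndex L = q ^ m) ∧ L.index.Coprime q) ∧
    ∃ p : ℕ, p.Prime ∧ (∀ x : G, (∃ k : ℕ, orderOf x = q ^ k) → ∃ a : ℕ, (Subgroup.centralizer ({x} : Set G)).index = p ^ a) ∧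
      (p = q → (Q : Subgroup G).Normal ∧ ∃ N : Subgroup G, N.Normal ∧ N.IsComplement' (Q : Subgroup G)) ∧
      (p ≠ q → IsMulCommutative (Q : Subgroup G) ∧ (Cfsg.pCore p G ⊔ (Q : Subgroup G)).Normal ∧
        ∀ _h : (Cfsg.pPrimeCore q G).Normal, Group.IsSolvable (G ⧸ Cfsg.pPrimeCore q G)) := by
  classical
  have hqp : q.Prime := Fact.out
  obtain ⟨n, hn⟩ := IsPGroup.iff_card.mp Q.isPGroup'
  have hcl : ∀ P : Sylow q G, ∀ x ∈ (P : Subgroup G), ∃ (r a : ℕ), r.Prime ∧ classIndex x = r ^ a :=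
    fun P x hx => by
      obtain ⟨k, hk⟩ := IsPGroup.iff_orderOf.mp P.isPGroup' ⟨x, hx⟩
      exact hBaer x ⟨k, by rw [← hk, ← orderOf_coe]⟩
  have hconj : ∀ x : G, (∃ k : ℕ, orderOf x = q ^ k) →
      ∃ y ∈ (Q : Subgroup G), classIndex y = classIndex x := by
    rintro x ⟨k, hk⟩
    obtain ⟨P, hP⟩ := (Cfsg.Agent.Lib.SylowNumbers.Basic.isPGroup_zpowers hk).exists_le_sylow
    obtain ⟨g, hg⟩ := MulAction.exists_smul_eq G P Q
    refine ⟨g * x * g⁻¹, ?_, classIndex_conj g x⟩
    rw [← hg, Sylow.coe_subgroup_smul]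
    exact Subgroup.smul_mem_pointwise_smul x (MulAut.conj g) _ (hP (mem_zpowers x))
  -- the case of a central or `q`-power noncentral element
  have normalCase : ∀ (K : Subgroup G), (Q : Subgroup G).Normal → K.IsComplement' (Q : Subgroup G) →
      K ≤ centralizer ((Q : Subgroup G) : Set G) →
      (∃ K L : Subgroup G, K.Normal ∧ L.Normal ∧ K ≤ L ∧ (Nat.card K).Coprime q ∧
        (∃ m : ℕ, K.relIndex L = q ^ m) ∧ L.index.Coprime q) ∧
      ∃ p : ℕ, p.Prime ∧ (∀ x : G, (∃ k : ℕ, orderOf x = q ^ k) →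
          ∃ a : ℕ, (Subgroup.centralizer ({x} : Set G)).index = p ^ a) ∧
        (p = q → (Q : Subgroup G).Normal ∧ ∃ N : Subgroup G, N.Normal ∧ N.IsComplement' (Q : Subgroup G)) ∧
        (p ≠ q → IsMulCommutative (Q : Subgroup G) ∧ (Cfsg.pCore p G ⊔ (Q : Subgroup G)).Normal ∧
          ∀ _h : (Cfsg.pPrimeCore q G).Normal, Group.IsSolvable (G ⧸ Cfsg.pPrimeCore q G)) := by
    intro K hQn hK hKc
    have hKn : K.Normal := by
      rw [← normalizer_eq_top_iff, ← top_le_iff, ← hK.sup_eq_top, sup_le_iff]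
      refine ⟨le_normalizer, (le_centralizer_iff.mp hKc).trans (centralizer_le_normalizer _)⟩
    refine ⟨⟨⊥, Q, inferInstance, hQn, bot_le, by simp, ⟨n, by rw [relIndex_bot_left, hn]⟩,
      (hqp.coprime_iff_not_dvd.mpr Q.not_dvd_index).symm⟩, q, hqp, fun x hx => ?_,
      fun _ => ⟨hQn, K, hKn, hK⟩, fun h => absurd rfl h⟩
    obtain ⟨y, hy, hyx⟩ := hconj x hx
    have h1 : K ≤ centralizer ({y} : Set G) := fun k hk =>
      mem_centralizer_singleton_iff.mpr (mem_centralizer_iff.mp (hKc hk) y hy).symm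
    have h2 : classIndex y ∣ q ^ n := by
      rw [← hn, ← hK.symm.index_eq_card]
      exact index_dvd_of_le h1
    obtain ⟨a, -, ha⟩ := (Nat.dvd_prime_pow hqp).mp (hyx ▸ h2)
    exact ⟨a, ha⟩
  have hcompl : (Q : Subgroup G).Normal →
      ∃ K : Subgroup G, K.IsComplement' (Q : Subgroup G) := fun _ =>
    exists_left_complement'_of_coprime Q.card_coprime_index
  by_cases hA : ∃ x ∈ (Q : Subgroup G), ∃ a : ℕ, a ≠ 0 ∧ classIndex x = q ^ a
  · obtain ⟨x, hxQ, a, ha, hx⟩ := hA
    haveI hQn := sylow_normal_of_qPower Q (hcl Q) hxQ hx ha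
    obtain ⟨K, hK⟩ := hcompl hQn
    exact normalCase K hQn hK (complement_le_centralizer Q (hcl Q) hK hxQ hx ha)
  · by_cases hB : ∀ x ∈ (Q : Subgroup G), classIndex x = 1
    · have hQc : ∀ x ∈ (Q : Subgroup G), ∀ g : G, g * x = x * g := fun x hx g =>
        mem_centralizer_singleton_iff.mp ((index_eq_one.mp (hB x hx)).symm ▸ mem_top g)
      have hQn : (Q : Subgroup G).Normal := ⟨fun x hx g => by
        rw [hQc x hx g, mul_inv_cancel_right]; exact hx⟩
      obtain ⟨K, hK⟩ := hcompl hQn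
      exact normalCase K hQn hK fun k _ => mem_centralizer_iff.mpr fun x hx => (hQc x hx k).symm
    · push Not at hB
      obtain ⟨x, hxQ, hx1⟩ := hB
      have hnd : ∀ P : Sylow q G, ∀ y ∈ (P : Subgroup G), ¬ q ∣ classIndex y := by
        intro P y hy hd
        obtain ⟨r, a, hr, ha⟩ := hcl P y hy
        obtain rfl : q = r := (Nat.prime_dvd_prime_iff_eq hqp hr).mp (hqp.dvd_of_dvd_pow (ha ▸ hd))
        obtain ⟨k, hk⟩ := IsPGroup.iff_orderOf.mp P.isPGroup' ⟨y, hy⟩
        obtain ⟨z, hz, hzy⟩ := hconj y ⟨k, by rw [← hk, ← orderOf_coe]⟩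
        refine hA ⟨z, hz, a, fun e => ?_, hzy.trans ha⟩
        rw [e, pow_zero] at ha
        rw [ha] at hd
        exact hqp.ne_one (Nat.dvd_one.mp hd)
      obtain ⟨r, a, hr, hx⟩ := hcl Q x hxQ
      have ha : a ≠ 0 := fun e => hx1 (by rw [hx, e, pow_zero])
      obtain ⟨hrq, hall⟩ := exists_prime Q hcl hnd hxQ hr hx ha
      haveI : Fact r.Prime := ⟨hr⟩
      haveI hRn : (Cfsg.pPrimeCore q G).Normal := Subgroup.sSup_normal _ (fun _ hN => hN.1)
      obtain ⟨hmap, -, habel⟩ := map_sylow_eq Q (hcl Q) (hnd Q)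
      set R := Cfsg.pPrimeCore q G
      set f := QuotientGroup.mk' R
      have hf : Function.Surjective f := QuotientGroup.mk'_surjective R
      refine ⟨⟨R, ((Q : Subgroup G).map f).comap f, hRn, ?_, ?_,
        Cfsg.Agent.Lib.Cores.pPrimeCore_coprime q, ?_, ?_⟩, r, hr, fun y hy => ?_,
        fun e => absurd e hrq, fun _ => ⟨habel, sup_normal (p := r) Q hall,
          fun _ => quotient_isSolvable (p := r) Q (hnd Q) hall⟩⟩
      · rw [hmap]
        exact (Subgroup.sSup_normal _ (fun _ hN => hN.1)).comap f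
      · conv_lhs => rw [← QuotientGroup.ker_mk' R]
        exact ker_le_comap f _
      · have h1 := relIndex_ker (K := ((Q : Subgroup G).map f).comap f) f
        rw [QuotientGroup.ker_mk', map_comap_eq_self_of_surjective hf] at h1
        obtain ⟨m, hm⟩ := IsPGroup.iff_card.mp (Q.isPGroup'.map f)
        exact ⟨m, h1.trans hm⟩
      · rw [index_comap_of_surjective _ hf]
        exact (hqp.coprime_iff_not_dvd.mpr (Q.mapSurjective hf).not_dvd_index).symm
      · obtain ⟨z, hz, hzy⟩ := hconj y hy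
        obtain ⟨b, hb⟩ := hall z hz
        exact ⟨b, hzy.symm.trans hb⟩

end Cfsg.Agent.S4125
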