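import Mathlib
import Cfsg.Statements.S4126
import Cfsg.Agent.Lib.OmegaFixed.Basic
import Cfsg.Agent.Lib.PPowerClass.Basic
import Cfsg.Agent.Lib.OddLocal.CoprimeFix
import Cfsg.Agent.Lib.Transfer.Critical
import Cfsg.Agent.Lib.Transfer.Frobenius
-- import your own Cfsg.Agent.* helpers here

set_option autoImplicit false
open Cfsg

namespace Cfsg.Agent.S4126

open Subgroup
open scoped commutatorElement

/-- A `p'`-element centralizes `O_p(G)` when all small `p`-elements have `p`-power class size. -/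
theorem centralizes_pCore {G : Type*} [Group G] [Finite G] {p : ℕ} [Fact p.Prime] (n : ℕ)
    (hn : p ^ n ≠ 2) (hn0 : 1 ≤ n)
    (h : ∀ x : G, x ^ p ^ n = 1 → ∃ a : ℕ, (centralizer ({x} : Set G)).index = p ^ a)
    {y : G} (hy : (orderOf y).Coprime p) : ∀ w ∈ Cfsg.pCore p G, y * w = w * y := by
  set W := Cfsg.pCore p G with hWdef
  have hW : IsPGroup p W := Lib.PSolvable.isPGroup_pCore
  have hcopW : ∀ k ∈ W, (orderOf y).Coprime (orderOf k) := by
    intro k hk
    obtain ⟨m, hm⟩ := IsPGroup.iff_orderOf.mp hW ⟨k, hk⟩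
    rw [Subgroup.orderOf_mk] at hm
    rw [hm]
    exact hy.pow_right m
  obtain ⟨C0, hC0, hC0c, hC0p, hC0g⟩ := Lib.Transfer.Critical.exists_critical hW
  set C := C0.map W.subtype with hCdef
  haveI : C.Normal := ConjAct.normal_of_characteristic_of_normal
  have hCW : C ≤ W := Subgroup.map_subtype_le _
  -- `p`-th powers and commutators of `C` are central in `C`
  have hmem : ∀ x ∈ C, ∀ h : x ∈ W, (⟨x, h⟩ : W) ∈ C0 := by
    rintro _ ⟨x, hx, rfl⟩ _; exact hx
  have hcen : ∀ x ∈ C, ∀ z ∈ C, Commute z (x ^ p) := by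
    intro x hx z hz
    have := mem_centralizer_iff.1 (hC0p _ (hmem x hx (hCW hx))).2 _ (hmem z hz (hCW hz))
    exact congrArg Subtype.val this
  have hcom : ∀ x ∈ C, ∀ w ∈ W, ∀ z ∈ C, Commute z ⁅x, w⁆ := by
    intro x hx w hw z hz
    have := mem_centralizer_iff.1 (hC0g _ (hmem x hx (hCW hx)) ⟨w, hw⟩).2 _ (hmem z hz (hCW hz))
    exact congrArg Subtype.val this
  -- the roots of unity in `C` are closed under multiplication
  have hmul : ∀ u ∈ C, ∀ v ∈ C, u ^ p ^ n = 1 → v ^ p ^ n = 1 → (u * v) ^ p ^ n = 1 := by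
    intro u hu v hv hu1 hv1
    obtain ⟨t, ht⟩ : p ∣ (p ^ n).choose 2 := Lib.PGroups.prime_dvd_choose_two hn hn0
    have h1 : ⁅v, u⁆ ^ p = 1 := by
      rw [← Lib.PGroups.commutatorElement_pow_left_of_central v u (hcom v hv u (hCW hu) v hv),
        commutatorElement_eq_one_iff_mul_comm]
      exact (hcen v hv u hu).eq.symm
    rw [Lib.PGroups.mul_pow_of_central_commutator u v (hcom v hv u (hCW hu) u hu)
      (hcom v hv u (hCW hu) v hv), hu1, hv1, ht, pow_mul, h1, one_pow, one_mul, one_mul]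
  obtain ⟨P⟩ : Nonempty (Sylow p G) := inferInstance
  have hWP : W ≤ (P : Subgroup G) := by
    obtain ⟨P', hP'⟩ := hW.exists_le_sylow
    obtain ⟨g, hg⟩ := MulAction.exists_smul_eq G P' P
    intro w hw
    rw [← hg, Sylow.smul_def]
    refine ⟨g⁻¹ * w * g, hP' ?_, ?_⟩
    · simpa using (inferInstance : W.Normal).conj_mem w hw g⁻¹
    · simp [mul_assoc]
  haveI : Group.IsNilpotent (P : Subgroup G) := P.2.isNilpotent
  have main : ∀ i : ℕ, ∀ x ∈ C, x ^ p ^ n = 1 →
      (∀ hx : x ∈ (P : Subgroup G), (⟨x, hx⟩ : (P : Subgroup G)) ∈ Subgroup.upperCentralSeries (P : Subgroup G) i) →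
      y * x = x * y := by
    intro i
    induction i with
    | zero =>
      intro x hx _ hZ
      have := hZ (hWP (hCW hx))
      rw [Subgroup.upperCentralSeries_zero, mem_bot] at this
      have : x = 1 := congrArg Subtype.val this
      simp [this]
    | succ i ih =>
      intro x hxC hx1 hZ
      have hxP := hWP (hCW hxC)
      obtain ⟨a, ha⟩ := h x hx1
      obtain ⟨u, hu, c, hc, hyuc⟩ := Lib.PPowerClass.exists_mul_centralizer ha P y
      obtain ⟨k, hk⟩ : ∃ k, k = y * x * y⁻¹ * x⁻¹ := ⟨_, rfl⟩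
      have hk' : k = ⁅x, u⁆⁻¹ := by
        rw [hk, hyuc, show u * c * x * (u * c)⁻¹ = u * (c * x) * c⁻¹ * u⁻¹ by group, hc,
          commutatorElement_def]
        group
      have hyxC : y * x * y⁻¹ ∈ C := ‹C.Normal›.conj_mem x hxC y
      have hkC : k ∈ C := hk ▸ C.mul_mem hyxC (C.inv_mem hxC)
      have hk1 : k ^ p ^ n = 1 := by
        rw [hk]
        refine hmul _ hyxC _ (C.inv_mem hxC) ?_ (by rw [inv_pow, hx1, inv_one])
        rw [conj_pow, hx1, mul_one, mul_inv_cancel]
      have hkfix : y * k = k * y := by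
        refine ih k hkC hk1 fun hkP => ?_
        have h2 := Subgroup.mem_upperCentralSeries_succ_iff.1 (hZ hxP) ⟨u, hu⟩
        have : (⟨k, hkP⟩ : (P : Subgroup G)) = ⁅(⟨x, hxP⟩ : (P : Subgroup G)), ⟨u, hu⟩⁆⁻¹ :=
          Subtype.ext hk'
        rw [this]
        exact inv_mem h2
      exact Lib.OddLocal.CoprimeFix.comm_of_fixed (k := k) (by rw [hk]; group) hkfix
        (hcopW k (hCW hkC))
  have hroots : ∀ x ∈ C, x ^ p ^ n = 1 → y * x = x * y := fun x hx hx1 =>
    main (Group.nilpotencyClass (P : Subgroup G)) x hx hx1 fun _ => by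
      rw [Subgroup.upperCentralSeries_nilpotencyClass]; trivial
  have hyC : y ∈ normalizer (C : Set G) := by
    rw [Subgroup.normalizer_eq_top]; trivial
  have hfix := Lib.OmegaFixed.commute_of_fixed_roots n hn hn0 (hW.to_le hCW) hyC hy hroots
  intro w hw
  obtain ⟨k, hk⟩ : ∃ k, k = y * w * y⁻¹ * w⁻¹ := ⟨_, rfl⟩
  have hkW : k ∈ W := hk ▸ W.mul_mem ((inferInstance : W.Normal).conj_mem w hw y) (W.inv_mem hw)
  have hkc : k ∈ centralizer (C : Set G) := by
    rw [hk]
    refine Lib.OddLocal.CoprimeFix.comm_mem_centralizer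
      (mem_centralizer_iff.2 fun c hc => (hfix c hc).symm) ?_
    rw [Subgroup.normalizer_eq_top]; trivial
  have hkC : k ∈ C := by
    refine ⟨⟨k, hkW⟩, hC0c (mem_centralizer_iff.2 fun z hz => Subtype.ext ?_), rfl⟩
    exact mem_centralizer_iff.1 hkc z ⟨z, hz, rfl⟩
  exact Lib.OddLocal.CoprimeFix.comm_of_fixed (k := k) (by rw [hk]; group) (hfix k hkC) (hcopW k hkW)


/-- Let G be a finite group and p a prime. Suppose every element of order p, and when p = 2 also every element of order 4, has a conjugacy class of p-power size. Then G has a normal p-complement. -/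
theorem result {G : Type*} [Group G] [Finite G] (p : ℕ) [Fact p.Prime]
    (h : ∀ x : G, (orderOf x = p ∨ (p = 2 ∧ orderOf x = 4)) → ∃ a : ℕ, (Subgroup.centralizer ({x} : Set G)).index = p ^ a) :
    Cfsg.HasNormalPComplement p G := by
  obtain ⟨n, hn, hn0, hgood⟩ : ∃ n : ℕ, p ^ n ≠ 2 ∧ 1 ≤ n ∧
      ∀ x : G, x ^ p ^ n = 1 → ∃ a : ℕ, (centralizer ({x} : Set G)).index = p ^ a := by
    have hp := (Fact.out : p.Prime)
    have h1 : ∀ x : G, x = 1 → ∃ a : ℕ, (centralizer ({x} : Set G)).index = p ^ a := by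
      rintro x rfl
      refine ⟨0, ?_⟩
      rw [pow_zero, Subgroup.index_eq_one, eq_top_iff]
      intro g _
      exact mem_centralizer_singleton_iff.2 (by simp)
    by_cases h2 : p = 2
    · refine ⟨2, by subst h2; norm_num, by norm_num, fun x hx => ?_⟩
      obtain ⟨j, hj, hjx⟩ := (Nat.dvd_prime_pow hp).1 (orderOf_dvd_of_pow_eq_one hx)
      interval_cases j
      · exact h1 x (orderOf_eq_one_iff.1 (by simpa using hjx))
      · exact h x (Or.inl (by simpa using hjx))
      · exact h x (Or.inr ⟨h2, by rw [hjx, h2]; norm_num⟩)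
    · refine ⟨1, by simpa using h2, le_rfl, fun x hx => ?_⟩
      rw [pow_one] at hx
      rcases (Nat.dvd_prime hp).1 (orderOf_dvd_of_pow_eq_one hx) with h3 | h3
      · exact h1 x (orderOf_eq_one_iff.1 h3)
      · exact h x (Or.inl h3)
  refine Lib.Transfer.Frobenius.hasNormalPComplement_of_forall_centralizes fun Q hQ _ g hg hcop => ?_
  refine mem_centralizer_iff.2 fun q hq =>
    (Lib.OmegaFixed.commute_of_fixed_roots n hn hn0 hQ hg hcop (fun x _ hx => ?_) q hq).symm
  obtain ⟨a, ha⟩ := hgood x hx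
  refine centralizes_pCore n hn hn0 hgood hcop x (Lib.PPowerClass.mem_pCore ?_ ha)
  obtain ⟨j, _, hj⟩ := (Nat.dvd_prime_pow (Fact.out : p.Prime)).1 (orderOf_dvd_of_pow_eq_one hx)
  exact IsPGroup.of_card (n := j) (by rw [Nat.card_zpowers, hj])

end Cfsg.Agent.S4126
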