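import Mathlib
import Cfsg.Statements.S4127
import Cfsg.Agent.Lib.PPowerClass.Basic
import Cfsg.Agent.Lib.Balance.Locals
import Cfsg.Agent.Lib.Elem70.Basic
import Cfsg.Agent.Lib.Transfer.Frobenius

set_option autoImplicit false
open Cfsg

namespace Cfsg.Agent.S4127

open Subgroup

/-- If every `p'`-element has class size prime to `p`, there is a normal `p`-complement. -/
theorem hasNormalPComplement_of_classes {K : Type*} [Group K] [Finite K] {p : ℕ} [Fact p.Prime]
    (h : ∀ y : K, (orderOf y).Coprime p → ¬ p ∣ (centralizer ({y} : Set K)).index) :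
    Cfsg.HasNormalPComplement p K := by
  obtain ⟨P⟩ : Nonempty (Sylow p K) := inferInstance
  -- some conjugate of a `p'`-element centralizes `P`
  have key : ∀ y : K, (orderOf y).Coprime p → ∃ c : K,
      (centralizer ({c⁻¹ * y * c} : Set K) ⊓ (P : Subgroup K)) = (P : Subgroup K) := by
    intro y hy
    obtain ⟨S⟩ : Nonempty (Sylow p (centralizer ({y} : Set K))) := inferInstance
    obtain ⟨T, hT⟩ := (S.2.map (centralizer ({y} : Set K)).subtype).exists_le_sylow
    have hcard : Nat.card ((S : Subgroup _).map (centralizer ({y} : Set K)).subtype) =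
        Nat.card (T : Subgroup K) := by
      rw [card_map_of_injective (subtype_injective _), S.card_eq_multiplicity, T.card_eq_multiplicity]
      congr 1
      rw [← (centralizer ({y} : Set K)).card_mul_index,
        Nat.factorization_mul Finite.card_pos.ne' Subgroup.index_ne_zero_of_finite,
        Finsupp.add_apply, Nat.factorization_eq_zero_of_not_dvd (h y hy), add_zero]
    have hTy : (T : Subgroup K) ≤ centralizer ({y} : Set K) := by
      rw [← eq_of_le_of_card_ge hT hcard.ge]
      exact map_subtype_le _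
    obtain ⟨c, hc⟩ := MulAction.exists_smul_eq K P T
    refine ⟨c, inf_eq_right.2 fun u hu => ?_⟩
    have h1 : c * u * c⁻¹ ∈ (T : Subgroup K) := by
      rw [← hc, Sylow.smul_def]
      exact ⟨u, hu, by simp⟩
    have h2 := mem_centralizer_singleton_iff.1 (hTy h1)
    rw [mem_centralizer_singleton_iff]
    calc u * (c⁻¹ * y * c) = c⁻¹ * (c * u * c⁻¹ * y) * c := by group
      _ = c⁻¹ * (y * (c * u * c⁻¹)) * c := by rw [h2]
      _ = c⁻¹ * y * c * u := by group
  have htop : (P : Subgroup K) ⊔ centralizer ((P : Subgroup K) : Set K) = ⊤ := by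
    refine Lib.Elem70.eq_top_of_forall_conj _ fun g => ?_
    obtain ⟨u, v, hu, hv, huv, hcomm, ⟨k, hk⟩, hvp⟩ :=
      Lib.Transfer.PResidual.exists_pPart_mul_pPrimePart (p := p) g (isOfFinOrder_of_finite g)
    obtain ⟨c, hc⟩ := key v hvp
    have hPc : (P : Subgroup K) ≤ centralizer ({c⁻¹ * v * c} : Set K) := inf_eq_right.1 hc
    -- move the `p`-part into `P`
    have hu' : c⁻¹ * u * c ∈ centralizer ({c⁻¹ * v * c} : Set K) := by
      rw [mem_centralizer_singleton_iff]
      calc c⁻¹ * u * c * (c⁻¹ * v * c) = c⁻¹ * (u * v) * c := by group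
        _ = c⁻¹ * (v * u) * c := by rw [hcomm]
        _ = c⁻¹ * v * c * (c⁻¹ * u * c) := by group
    obtain ⟨P1, hP1⟩ : ∃ P1 : Sylow p (centralizer ({c⁻¹ * v * c} : Set K)),
        (P1 : Subgroup (centralizer ({c⁻¹ * v * c} : Set K))) = (P : Subgroup K).subgroupOf _ := ⟨P.subtype hPc, Sylow.coe_subtype P hPc⟩
    obtain ⟨R, hR⟩ := (show IsPGroup p (zpowers (⟨_, hu'⟩ : centralizer ({c⁻¹ * v * c} : Set K))) by
      obtain ⟨j, _, hj⟩ := (Nat.dvd_prime_pow (Fact.out : p.Prime)).1 (orderOf_dvd_of_pow_eq_one hk)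
      refine IsPGroup.of_card (n := j) ?_
      rw [Nat.card_zpowers, Subgroup.orderOf_mk, ← hj,
        ← orderOf_injective (MulAut.conj c⁻¹).toMonoidHom (MulAut.conj c⁻¹).injective u]
      congr 1
      simp).exists_le_sylow
    obtain ⟨d, hd⟩ := MulAction.exists_smul_eq (centralizer ({c⁻¹ * v * c} : Set K)) R P1
    refine ⟨c * (d : K)⁻¹, ?_⟩
    have h1 : (d : K) * (c⁻¹ * u * c) * (d : K)⁻¹ ∈ (P : Subgroup K) := by
      have : d * ⟨_, hu'⟩ * d⁻¹ ∈ (P1 : Subgroup (centralizer ({c⁻¹ * v * c} : Set K))) := by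
        rw [← hd, Sylow.smul_def]
        exact ⟨_, hR (mem_zpowers _), by simp⟩
      rw [hP1, mem_subgroupOf] at this
      exact this
    have h2 : (d : K) * (c⁻¹ * v * c) * (d : K)⁻¹ = c⁻¹ * v * c := by
      rw [mem_centralizer_singleton_iff.1 d.2, mul_inv_cancel_right]
    rw [← huv, show (c * (d : K)⁻¹)⁻¹ * (u * v) * (c * (d : K)⁻¹) =
      (d : K) * (c⁻¹ * u * c) * (d : K)⁻¹ * ((d : K) * (c⁻¹ * v * c) * (d : K)⁻¹) by group, h2]
    refine mul_mem (mem_sup_left h1) (mem_sup_right (mem_centralizer_iff.2 fun w hw => ?_))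
    exact mem_centralizer_singleton_iff.1 (hPc hw)
  haveI hPn : (P : Subgroup K).Normal := by
    rw [← normalizer_eq_top_iff, eq_top_iff, ← htop]
    refine sup_le le_normalizer ?_
    intro g hg
    rw [mem_normalizer_iff]
    intro w
    constructor
    · intro hw
      rwa [← mem_centralizer_iff.1 hg w hw, mul_inv_cancel_right]
    · intro hw
      have h1 := mem_centralizer_iff.1 hg _ hw
      have : w = g * w * g⁻¹ := by
        calc w = g⁻¹ * (g * w * g⁻¹ * g) := by group
          _ = g⁻¹ * (g * (g * w * g⁻¹)) := by rw [h1]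
          _ = g * w * g⁻¹ := by group
      rwa [this]
  refine Lib.Transfer.Frobenius.hasNormalPComplement_of_forall_centralizes fun Q hQ _ y _ hy => ?_
  obtain ⟨c, hc⟩ := key y hy
  refine mem_centralizer_iff.2 fun w hw => ?_
  obtain ⟨R, hR⟩ := hQ.exists_le_sylow
  haveI := Sylow.unique_of_normal P hPn
  have hwP : w ∈ (P : Subgroup K) := by rw [Subsingleton.elim P R]; exact hR hw
  have := mem_centralizer_singleton_iff.1 ((inf_eq_right.1 hc)
    (hPn.conj_mem w hwP c⁻¹ : c⁻¹ * w * c⁻¹⁻¹ ∈ (P : Subgroup K)))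
  calc w * y = c * (c⁻¹ * w * c⁻¹⁻¹ * (c⁻¹ * y * c)) * c⁻¹ := by group
    _ = c * (c⁻¹ * y * c * (c⁻¹ * w * c⁻¹⁻¹)) * c⁻¹ := by rw [this]
    _ = y * w := by group

/-- Let G be a finite group, p a prime and p^a the largest power of p dividing the size of any conjugacy class of G. If some element of p-power order has a conjugacy class of size exactly p^a, then G has a normal p-complement. -/
theorem result {G : Type*} [Group G] [Finite G] (p : ℕ) [Fact p.Prime]
    (a : ℕ) (hmax : ∀ y : G, ¬ p ^ (a + 1) ∣ (Subgroup.centralizer ({y} : Set G)).index)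
    (hx : ∃ x : G, (∃ k : ℕ, orderOf x = p ^ k) ∧ (Subgroup.centralizer ({x} : Set G)).index = p ^ a) :
    Cfsg.HasNormalPComplement p G := by
  obtain ⟨x, ⟨k, hk⟩, hxi⟩ := hx
  have hp := (Fact.out : p.Prime)
  set C := centralizer ({x} : Set G) with hCdef
  have hCK : Cfsg.HasNormalPComplement p C := by
    refine hasNormalPComplement_of_classes fun y hy hdvd => hmax (x * y) ?_
    have hyx : (y : G) * x = x * y := mem_centralizer_singleton_iff.1 y.2
    have hcop : (orderOf x).Coprime (orderOf (y : G)) := by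
      rw [hk, Subgroup.orderOf_coe]
      exact (Nat.Coprime.pow_right k hy).symm
    have heq : centralizer ({x * y} : Set G) = (centralizer ({y} : Set C)).map C.subtype := by
      ext g
      constructor
      · intro hg
        have hg' : Commute g (x * y) := mem_centralizer_singleton_iff.1 hg
        obtain ⟨n, hn⟩ := exists_pow_eq_self_of_coprime hcop.symm
        have hc : Commute x (y : G) := hyx.symm
        have h1 : (x * y) ^ orderOf (y : G) = x ^ orderOf (y : G) := by
          rw [hc.mul_pow, pow_orderOf_eq_one, mul_one]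
        have hgx : Commute g x := by
          rw [← hn, ← h1]
          exact (hg'.pow_right _).pow_right _
        have hgy : Commute g (y : G) := by
          have := (hgx.inv_right).mul_right hg'
          rwa [inv_mul_cancel_left] at this
        exact ⟨⟨g, mem_centralizer_singleton_iff.2 hgx.eq⟩,
          mem_centralizer_singleton_iff.2 (Subtype.ext hgy.eq), rfl⟩
      · rintro ⟨g, hg, rfl⟩
        have h1 : Commute (g : G) x := mem_centralizer_singleton_iff.1 g.2
        have h2 : Commute (g : G) (y : G) :=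
          congrArg Subtype.val (mem_centralizer_singleton_iff.1 hg)
        exact mem_centralizer_singleton_iff.2 (h1.mul_right h2).eq
    rw [heq, index_map_subtype, hxi, mul_comm, pow_succ]
    exact mul_dvd_mul_left _ hdvd
  obtain ⟨P⟩ : Nonempty (Sylow p C) := inferInstance
  obtain ⟨N0, hN0, hcompl⟩ := (Lib.Transfer.PResidual.hasNormalPComplement_iff_exists P).1 hCK
  have hmemN := Lib.Transfer.PResidual.mem_iff_coprime_of_isComplement' P N0 hcompl
  set N := N0.map C.subtype with hNdef
  have hNiff : ∀ g : G, g ∈ N ↔ g * x = x * g ∧ (orderOf g).Coprime p := by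
    intro g
    constructor
    · rintro ⟨g, hg, rfl⟩
      exact ⟨mem_centralizer_singleton_iff.1 g.2, by
        rw [coe_subtype, Subgroup.orderOf_coe]; exact (hmemN g).1 hg⟩
    · rintro ⟨h1, h2⟩
      exact ⟨⟨g, mem_centralizer_singleton_iff.2 h1⟩, (hmemN _).2 (by rwa [Subgroup.orderOf_mk]),
        rfl⟩
  have hxp : IsPGroup p (zpowers x) := IsPGroup.of_card (n := k) (by rw [Nat.card_zpowers, hk])
  have hxW := Lib.PPowerClass.mem_pCore hxp hxi
  -- `p'`-elements centralizing `x` centralize `O_p(G)`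
  have hW : ∀ y ∈ N, ∀ w ∈ Cfsg.pCore p G, w * y = y * w := by
    intro y hy
    obtain ⟨hyx, hyp⟩ := (hNiff y).1 hy
    have hWn : ∀ g : G, g ∈ normalizer ((Cfsg.pCore p G : Subgroup G) : Set G) := by
      intro g; rw [normalizer_eq_top]; trivial
    refine mem_centralizer_iff.1 (Lib.Balance.mem_centralizer_pGroup Lib.PSolvable.isPGroup_pCore
      hxp (fun g _ => hWn g) (hWn y) hyp ?_ ?_)
    · rw [zpowers_eq_closure, centralizer_closure]
      exact mem_centralizer_singleton_iff.2 hyx
    · rintro w ⟨hwW, hwx⟩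
      rw [zpowers_eq_closure, centralizer_closure] at hwx
      -- `[w, y]` lies in `O_p(G)` and in the normal `p'`-subgroup of `C`
      have hwC : w ∈ C := hwx
      have hyC : y ∈ C := mem_centralizer_singleton_iff.2 hyx
      have hyN : (⟨y, hyC⟩ : C) ∈ N0 := (hmemN _).2 (by rwa [Subgroup.orderOf_mk])
      have hkN := N0.mul_mem (hN0.conj_mem _ hyN ⟨w, hwC⟩) (N0.inv_mem hyN)
      have h1 : (orderOf (w * y * w⁻¹ * y⁻¹)).Coprime p := by
        have := (hmemN _).1 hkN
        rwa [← Subgroup.orderOf_coe] at this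
      have h2 : w * y * w⁻¹ * y⁻¹ ∈ Cfsg.pCore p G := by
        rw [show w * y * w⁻¹ * y⁻¹ = w * (y * w⁻¹ * y⁻¹) by group]
        exact (Cfsg.pCore p G).mul_mem hwW
          ((inferInstance : (Cfsg.pCore p G).Normal).conj_mem _ ((Cfsg.pCore p G).inv_mem hwW) y)
      obtain ⟨j, hj⟩ := IsPGroup.iff_orderOf.1 Lib.PSolvable.isPGroup_pCore ⟨_, h2⟩
      rw [Subgroup.orderOf_mk] at hj
      rw [hj] at h1
      have h3 : w * y * w⁻¹ * y⁻¹ = 1 := by
        rw [← orderOf_eq_one_iff, hj]
        exact Nat.eq_one_of_dvd_coprimes (h1.pow_right j) dvd_rfl dvd_rfl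
      rw [mem_centralizer_singleton_iff]
      exact commutatorElement_eq_one_iff_mul_comm.1 h3
  haveI hNnorm : N.Normal := by
    refine ⟨fun y hy g => (hNiff _).2 ⟨?_, ?_⟩⟩
    · have h1 := hW y hy _
        ((inferInstance : (Cfsg.pCore p G).Normal).conj_mem x hxW g⁻¹)
      calc g * y * g⁻¹ * x = g * (y * (g⁻¹ * x * g⁻¹⁻¹)) * g⁻¹ := by group
        _ = g * (g⁻¹ * x * g⁻¹⁻¹ * y) * g⁻¹ := by rw [h1]
        _ = x * (g * y * g⁻¹) := by group
    · have : orderOf (g * y * g⁻¹) = orderOf y :=
        orderOf_injective (MulAut.conj g).toMonoidHom (MulAut.conj g).injective y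
      rw [this]
      exact ((hNiff y).1 hy).2
  have hidx : ∃ n, N.index = p ^ n := by
    obtain ⟨e, he⟩ := IsPGroup.iff_card.1 P.2
    refine ⟨e + a, ?_⟩
    rw [hNdef, index_map_subtype, hcompl.symm.index_eq_card, he, hxi, pow_add]
  refine Lib.Transfer.PResidual.hasNormalPComplement_of_normal (N := N) ?_ ?_
  · rw [hNdef, card_map_of_injective C.subtype_injective, ← hcompl.index_eq_card]
    exact P.not_dvd_index
  · obtain ⟨n, hn⟩ := hidx
    exact IsPGroup.of_card (n := n) hn

end Cfsg.Agent.S4127
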