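import Cfsg.Statements.S4133
import Cfsg.Agent.Lib.BC77.OddHallTwo.Main
import Cfsg.Agent.Lib.Elem70.Basic

set_option autoImplicit false
open Cfsg

namespace Cfsg.Agent.S4133

open Cfsg.Agent.Lib.BC77.OddHallTwo

open scoped IsMulCommutative

/-- A perfect group with abelian Sylow subgroups has trivial centre. -/
theorem center_eq_bot_of_perfect {L : Type*} [Group L] [Finite L] (hperf : commutator L = ⊤)
    (hA : ∀ (p : ℕ) [Fact p.Prime] (P : Sylow p L), IsMulCommutative (P : Subgroup L)) :
    Subgroup.center L = ⊥ := by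
  by_contra hne
  haveI : Nontrivial (Subgroup.center L) := (Subgroup.nontrivial_iff_ne_bot _).mpr hne
  obtain ⟨p, hp, hpd⟩ := Nat.exists_prime_and_dvd (Finite.one_lt_card (α := Subgroup.center L)).ne'
  haveI : Fact p.Prime := ⟨hp⟩
  obtain ⟨⟨z, hz⟩, ho⟩ := exists_prime_orderOf_dvd_card' p hpd
  have ho' : orderOf z = p := by rw [← ho, Subgroup.orderOf_mk]
  have hzp : IsPGroup p (Subgroup.zpowers z) :=
    IsPGroup.of_card (n := 1) (by rw [Nat.card_zpowers, ho', pow_one])
  obtain ⟨P, hP⟩ := hzp.exists_le_sylow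
  haveI := hA p P
  let φ : ↥(P : Subgroup L) →* ↥(P : Subgroup L) := MonoidHom.id _
  have hker : MonoidHom.transfer φ z = 1 := by
    have : commutator L ≤ (MonoidHom.transfer φ).ker := Abelianization.commutator_subset_ker _
    exact this (hperf ▸ Subgroup.mem_top z)
  rw [MonoidHom.transfer_eq_pow φ z (fun k g _ => ?_)] at hker
  · have h1 : z ^ (P : Subgroup L).index = 1 := congrArg Subtype.val hker
    have h2 := orderOf_dvd_of_pow_eq_one h1
    rw [ho'] at h2
    exact P.not_dvd_index h2
  · rw [mul_assoc, ← Subgroup.mem_center_iff.mp ((Subgroup.center L).pow_mem hz k) g,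
      inv_mul_cancel_left]

/-- Let G be a finite group all of whose Sylow subgroups are abelian, and let 2^a be the largest power of 2 dividing the size of any conjugacy class of G. If some element has a conjugacy class of size exactly 2^a, then G is solvable. -/
theorem result {G : Type*} [Group G] [Finite G]
    (hA : ∀ (p : ℕ) [Fact p.Prime] (P : Sylow p G), IsMulCommutative (P : Subgroup G))
    (a : ℕ) (hmax : ∀ y : G, ¬ 2 ^ (a + 1) ∣ (Subgroup.centralizer ({y} : Set G)).index) (hx : ∃ x : G, (Subgroup.centralizer ({x} : Set G)).index = 2 ^ a) :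
    Group.IsSolvable G := by
  classical
  obtain ⟨x, hx⟩ := hx
  set Y := Subgroup.centralizer ({x} : Set G) with hY
  have hab : AbTwo G := AbTwo.of_sylow fun P => hA 2 P
  set v : ℕ → ℕ := fun n => n.factorization 2 with hv
  have hvY : v (Nat.card G) = v (Nat.card Y) + a := by
    simp only [hv]
    rw [← Y.card_mul_index, hx, Nat.factorization_mul Nat.card_pos.ne' (pow_ne_zero _ two_ne_zero)]
    simp [Nat.factorization_pow, Nat.prime_two.factorization_self]
  obtain ⟨S⟩ : Nonempty (Sylow 2 Y) := inferInstance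
  set S' := (S : Subgroup Y).map Y.subtype with hS'
  have hS'p : IsPGroup 2 S' := S.2.map _
  have hS'c : Nat.card S' = 2 ^ v (Nat.card Y) := by
    rw [hS', Subgroup.card_map_of_injective Y.subtype_injective, S.card_eq_multiplicity]
  obtain ⟨T, hT⟩ := hS'p.exists_le_sylow
  have hTY : (T : Subgroup G) ⊓ Y = S' := by
    refine (Subgroup.eq_of_le_of_card_ge (le_inf hT (Subgroup.map_subtype_le _)) ?_).symm
    obtain ⟨n, hn⟩ := IsPGroup.iff_card.mp (T.2.to_le (inf_le_left : (T : Subgroup G) ⊓ Y ≤ _))
    rw [hn, hS'c]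
    refine Nat.pow_le_pow_right two_pos ?_
    exact (Nat.Prime.pow_dvd_iff_le_factorization Nat.prime_two Nat.card_pos.ne').mp
      (hn ▸ Subgroup.card_dvd_of_le inf_le_right)
  -- `T` is transitive on the cosets of `Y`
  have hmul : ∀ g : G, ∃ t ∈ (T : Subgroup G), t⁻¹ * g ∈ Y := by
    let f : ↥(T : Subgroup G) ⧸ Y.subgroupOf (T : Subgroup G) → G ⧸ Y :=
      Quotient.map' Subtype.val (fun a b h => by
        rw [QuotientGroup.leftRel_apply] at h ⊢
        exact Subgroup.mem_subgroupOf.mp h)
    have hinj : Function.Injective f := by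
      intro a b
      induction a using QuotientGroup.induction_on with
      | _ a =>
      induction b using QuotientGroup.induction_on with
      | _ b =>
      intro h
      have h' : ((a : G) : G ⧸ Y) = ((b : G) : G ⧸ Y) := h
      rw [QuotientGroup.eq] at h' ⊢
      exact Subgroup.mem_subgroupOf.mpr h'
    have hcard : Nat.card (↥(T : Subgroup G) ⧸ Y.subgroupOf (T : Subgroup G)) = Nat.card (G ⧸ Y) := by
      have e : Nat.card (Y.subgroupOf (T : Subgroup G)) = 2 ^ v (Nat.card Y) := by
        rw [← Subgroup.card_map_of_injective (T : Subgroup G).subtype_injective,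
          Subgroup.subgroupOf_map_subtype, inf_comm, hTY, hS'c]
      have e2 := (Y.subgroupOf (T : Subgroup G)).card_mul_index
      rw [e, T.card_eq_multiplicity, show (Nat.card G).factorization 2 = v (Nat.card G) from rfl,
        hvY, pow_add] at e2
      rw [← Subgroup.index_eq_card, ← Subgroup.index_eq_card, hx]
      exact Nat.eq_of_mul_eq_mul_left (pow_pos two_pos _) e2
    intro g
    obtain ⟨q, hq⟩ := (hinj.bijective_of_nat_card_le hcard.ge).2 (g : G ⧸ Y)
    induction q using QuotientGroup.induction_on with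
    | _ t =>
    exact ⟨t, t.2, QuotientGroup.eq.mp hq⟩
  set K := Y.normalCore with hK
  have hKY : K ≤ Y := Y.normalCore_le
  have hSK : S' ≤ K := by
    intro s hs g
    obtain ⟨t, ht, hg⟩ := hmul g⁻¹
    have hsY : s ∈ Y := Subgroup.map_subtype_le _ hs
    have e : g * s * g⁻¹ = (t⁻¹ * g⁻¹)⁻¹ * (t⁻¹ * s * t) * (t⁻¹ * g⁻¹) := by group
    rw [e]
    refine Y.mul_mem (Y.mul_mem (Y.inv_mem hg) ?_) hg
    rwa [mul_assoc, (hab _ T.2 s (hT hs) t ht).eq, inv_mul_cancel_left]
  haveI hsolQ : Group.IsSolvable (G ⧸ K) := by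
    refine isSolvable_of_odd_two_power_index (H := Y.map (QuotientGroup.mk' K)) (k := a)
      (hab.quotient K) ?_ ?_
    · rw [Nat.odd_iff, ← Nat.two_dvd_ne_zero]
      intro h
      have h1 : Nat.card (Y.map (QuotientGroup.mk' K)) = K.relIndex Y := by
        rw [← Subgroup.relIndex_bot_left, ← Subgroup.map_bot (QuotientGroup.mk' K),
          Subgroup.relIndex_map_map, QuotientGroup.ker_mk', bot_sup_eq,
          sup_of_le_left hKY]
      rw [h1] at h
      refine S.not_dvd_index (dvd_trans h ?_)
      refine Subgroup.index_dvd_of_le fun y hy => ?_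
      exact Subgroup.mem_subgroupOf.mpr (hSK (Subgroup.mem_map_of_mem Y.subtype hy))
    · rw [Subgroup.index_map_eq Y (QuotientGroup.mk'_surjective K)
        (by rw [QuotientGroup.ker_mk']; exact hKY), hx]
  obtain ⟨n, hn⟩ := (Group.isSolvable_def (G ⧸ K)).mp hsolQ
  -- the perfect residual
  obtain ⟨m, ⟨hm0, hmin⟩⟩ : ∃ m, n ≤ m ∧ derivedSeries G (m + 1) = derivedSeries G m := by
    by_contra h
    push Not at h
    have hstep : ∀ i, Nat.card (derivedSeries G (n + i)) + i ≤ Nat.card (derivedSeries G n) := by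
      intro i
      induction i with
      | zero => simp
      | succ i ih =>
        have hlt : derivedSeries G (n + i + 1) < derivedSeries G (n + i) :=
          lt_of_le_of_ne (derivedSeries_antitone G (Nat.le_succ _)) (h _ (Nat.le_add_right _ _))
        have : Nat.card (derivedSeries G (n + i + 1)) < Nat.card (derivedSeries G (n + i)) := by
          refine lt_of_le_of_ne (Subgroup.card_le_of_le hlt.le) fun e => hlt.ne ?_
          exact Subgroup.eq_of_le_of_card_ge hlt.le e.ge
        rw [show n + (i + 1) = n + i + 1 from rfl]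
        omega
    have := hstep (Nat.card (derivedSeries G n))
    have : 0 < Nat.card (derivedSeries G (n + Nat.card (derivedSeries G n))) := Nat.card_pos
    omega
  set L := derivedSeries G m with hL
  suffices hLb : L = ⊥ from (Group.isSolvable_def G).mpr ⟨m, hLb⟩
  haveI hLn : L.Normal := derivedSeries_normal G m
  have hLK : L ≤ K := by
    have h1 := map_derivedSeries_le_derivedSeries (QuotientGroup.mk' K) n
    rw [hn, le_bot_iff, Subgroup.map_eq_bot_iff, QuotientGroup.ker_mk'] at h1
    exact le_trans (derivedSeries_antitone G hm0) h1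
  have hperf : commutator L = ⊤ := by
    apply Subgroup.map_injective L.subtype_injective
    rw [commutator_def, Subgroup.map_commutator, ← MonoidHom.range_eq_map, Subgroup.range_subtype]
    exact (derivedSeries_succ G m).symm.trans hmin
  have hcent : Subgroup.center L = ⊥ := by
    refine center_eq_bot_of_perfect hperf fun p _ P => ?_
    obtain ⟨R, hR⟩ := (P.2.map L.subtype).exists_le_sylow
    haveI := hA p R
    refine ⟨⟨fun u w => Subtype.ext (Subtype.ext ?_)⟩⟩
    have := mul_comm' (⟨((u : L) : G), hR (Subgroup.mem_map_of_mem L.subtype u.2)⟩ : (R : Subgroup G))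
      ⟨((w : L) : G), hR (Subgroup.mem_map_of_mem L.subtype w.2)⟩
    simpa using congrArg Subtype.val this
  have hLx : ∀ l ∈ L, l * x = x * l := fun l hl =>
    Subgroup.mem_centralizer_singleton_iff.mp (hKY (hLK hl))
  -- every element of `L` centralises a Sylow 2-subgroup of `Y`
  have hcover : ∀ y ∈ L, ∃ W : Subgroup G, IsPGroup 2 W ∧ W ≤ Y ∧
      Nat.card W = Nat.card S' ∧ ∀ w ∈ W, w * y = y * w := by
    intro y hy
    set D := Subgroup.centralizer ({x * y} : Set G) with hD
    have hDle : ∀ g ∈ D, g ∈ Y ∧ g * y = y * g := by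
      intro g hg
      have hg' : g * (x * y) = x * y * g := Subgroup.mem_centralizer_singleton_iff.mp hg
      have hgy : g * y * g⁻¹ ∈ L := hLn.conj_mem y hy g
      have he : x⁻¹ * (g * x * g⁻¹) = y * (g * y * g⁻¹)⁻¹ := by
        rw [eq_mul_inv_iff_mul_eq, mul_assoc,
          show g * x * g⁻¹ * (g * y * g⁻¹) = g * (x * y) * g⁻¹ by group, hg',
          mul_inv_cancel_right, inv_mul_cancel_left]
      have hmem : x⁻¹ * (g * x * g⁻¹) ∈ L := he ▸ L.mul_mem hy (L.inv_mem hgy)
      have hzc : (⟨_, hmem⟩ : L) ∈ Subgroup.center L := by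
        rw [Subgroup.mem_center_iff]
        rintro ⟨l, hl⟩
        refine Subtype.ext ?_
        show l * (x⁻¹ * (g * x * g⁻¹)) = x⁻¹ * (g * x * g⁻¹) * l
        have h1 : Commute l x := hLx l hl
        have h2 : Commute l (g * x * g⁻¹) := by
          have := (hLx _ (hLn.conj_mem l hl g⁻¹))
          unfold Commute SemiconjBy
          calc l * (g * x * g⁻¹) = g * (g⁻¹ * l * g⁻¹⁻¹ * x) * g⁻¹ := by group
            _ = g * (x * (g⁻¹ * l * g⁻¹⁻¹)) * g⁻¹ := by rw [this]
            _ = g * x * g⁻¹ * l := by group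
        exact (h1.inv_right.mul_right h2).eq
      rw [hcent, Subgroup.mem_bot] at hzc
      have hgx : g * x * g⁻¹ = x := (inv_mul_eq_one.mp (congrArg Subtype.val hzc)).symm
      rw [mul_inv_eq_iff_eq_mul] at hgx
      refine ⟨Subgroup.mem_centralizer_singleton_iff.mpr hgx, ?_⟩
      have h3 := hg'
      rw [← mul_assoc, hgx, mul_assoc, mul_assoc] at h3
      exact mul_left_cancel h3
    obtain ⟨W⟩ : Nonempty (Sylow 2 D) := inferInstance
    refine ⟨(W : Subgroup D).map D.subtype, W.2.map _,
      le_trans (Subgroup.map_subtype_le _) fun g hg => (hDle g hg).1, ?_,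
      fun w hw => (hDle w (Subgroup.map_subtype_le _ hw)).2⟩
    refine le_antisymm ?_ ?_
    · obtain ⟨j, hj⟩ := IsPGroup.iff_card.mp (W.2.map D.subtype)
      rw [hj, hS'c]
      refine Nat.pow_le_pow_right two_pos ?_
      exact (Nat.Prime.pow_dvd_iff_le_factorization Nat.prime_two Nat.card_pos.ne').mp
        (hj ▸ Subgroup.card_dvd_of_le
          (le_trans (Subgroup.map_subtype_le _) fun g hg => (hDle g hg).1))
    · rw [Subgroup.card_map_of_injective D.subtype_injective, W.card_eq_multiplicity, hS'c]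
      refine Nat.pow_le_pow_right two_pos ?_
      have h1 : v D.index ≤ a := by
        by_contra h
        exact hmax (x * y) ((Nat.Prime.pow_dvd_iff_le_factorization Nat.prime_two
          Subgroup.FiniteIndex.index_ne_zero).mpr (by simp only [hv, hD] at h ⊢; omega))
      have h2 : v (Nat.card G) = v (Nat.card D) + v D.index := by
        simp only [hv]
        rw [← D.card_mul_index, Nat.factorization_mul Nat.card_pos.ne'
          Subgroup.FiniteIndex.index_ne_zero, Finsupp.add_apply]
      show v (Nat.card Y) ≤ v (Nat.card D)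
      omega
  -- Sylow 2-subgroups of `L`
  haveI : (L.subgroupOf Y).Normal := Subgroup.normal_subgroupOf
  have hLY : L ≤ Y := hLK.trans hKY
  set B := S' ⊓ L with hB
  have hBidx : ¬ 2 ∣ (B.subgroupOf L).index := by
    intro h
    refine S.not_dvd_index (dvd_trans h ?_)
    show B.relIndex L ∣ (S : Subgroup Y).index
    have e1 : (S : Subgroup Y) = S'.subgroupOf Y := by
      rw [hS', ← Subgroup.comap_subtype, Subgroup.comap_map_eq_self_of_injective Y.subtype_injective]
    rw [e1]
    show B.relIndex L ∣ S'.relIndex Y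
    rw [hB, Subgroup.inf_relIndex_right]
    have h1 := Subgroup.relIndex_mul_relIndex (S' ⊓ L) S' (S' ⊔ L) inf_le_left le_sup_left
    have h2 := Subgroup.relIndex_mul_relIndex (S' ⊓ L) L (S' ⊔ L) inf_le_right le_sup_right
    rw [Subgroup.inf_relIndex_left] at h1
    rw [Subgroup.inf_relIndex_right, Subgroup.relIndex_sup_right, ← h1, mul_comm] at h2
    have h3 : S'.relIndex L = S'.relIndex (S' ⊔ L) := by
      refine Nat.eq_of_mul_eq_mul_left (Nat.pos_of_ne_zero ?_) h2
      exact Subgroup.FiniteIndex.index_ne_zero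
    rw [h3]
    exact Dvd.intro _ (Subgroup.relIndex_mul_relIndex S' (S' ⊔ L) Y le_sup_left
      (sup_le (Subgroup.map_subtype_le _) hLY))
  let Q : Sylow 2 L := ((hS'p.to_le inf_le_left).comap_subtype (H := B) (K := L)).toSylow hBidx
  have hQ : (Q : Subgroup L) = B.subgroupOf L := rfl
  set C := Subgroup.centralizer ((Q : Subgroup L) : Set L) with hC
  have hCtop : C = ⊤ := by
    refine Cfsg.Agent.Lib.Elem70.eq_top_of_forall_conj C ?_
    rintro ⟨y, hy⟩
    obtain ⟨W, hWp, hWY, hWc, hWy⟩ := hcover y hy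
    have hWcard : Nat.card (W.subgroupOf Y) = 2 ^ (Nat.card Y).factorization 2 := by
      rw [Nat.card_congr (Subgroup.subgroupOfEquivOfLe hWY).toEquiv, hWc, hS'c]
    obtain ⟨k, hk⟩ := MulAction.exists_smul_eq Y S (Sylow.ofCard _ hWcard)
    have hkW : ∀ s ∈ S', (k : G) * s * (k : G)⁻¹ ∈ W := by
      intro s hs
      obtain ⟨s', hs', rfl⟩ := Subgroup.mem_map.mp hs
      have h1 : k * s' * k⁻¹ ∈ (k • S : Sylow 2 Y) := by
        rw [← SetLike.mem_coe, Sylow.coe_smul]
        exact ⟨s', hs', rfl⟩
      rw [hk] at h1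
      exact Subgroup.mem_subgroupOf.mp h1
    have hkL : ∀ b : (Q : Subgroup L), (k : G) * ((b : L) : G) * (k : G)⁻¹ ∈ L :=
      fun b => hLn.conj_mem _ (b : L).2 k
    let Q₂ : Subgroup L := (Q : Subgroup L).map (MulAut.conjNormal (k : G)).toMonoidHom
    have hQ₂c : Nat.card Q₂ = 2 ^ (Nat.card L).factorization 2 := by
      rw [← Q.card_eq_multiplicity]
      exact Subgroup.card_map_of_injective (MulEquiv.injective _)
    obtain ⟨l, hl⟩ := MulAction.exists_smul_eq L Q (Sylow.ofCard Q₂ hQ₂c)
    refine ⟨l, ?_⟩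
    rw [hC, Subgroup.mem_centralizer_iff]
    intro b hb
    have hb2 : l * b * l⁻¹ ∈ Q₂ := by
      have : l * b * l⁻¹ ∈ (l • Q : Sylow 2 L) := by
        rw [← SetLike.mem_coe, Sylow.coe_smul]
        exact ⟨b, hb, rfl⟩
      rw [hl] at this
      exact this
    obtain ⟨b', hb', e⟩ := Subgroup.mem_map.mp hb2
    have hcomm : (l * b * l⁻¹) * ⟨y, hy⟩ = ⟨y, hy⟩ * (l * b * l⁻¹) := by
      rw [← e]
      refine Subtype.ext ?_
      show (MulAut.conjNormal (k : G) b' : L).1 * y = y * (MulAut.conjNormal (k : G) b' : L).1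
      rw [MulAut.conjNormal_apply]
      exact hWy _ (hkW _ (Subgroup.mem_subgroupOf.mp hb').1)
    calc b * (l⁻¹ * ⟨y, hy⟩ * l) = l⁻¹ * (l * b * l⁻¹ * ⟨y, hy⟩) * l := by group
      _ = l⁻¹ * (⟨y, hy⟩ * (l * b * l⁻¹)) * l := by rw [hcomm]
      _ = l⁻¹ * ⟨y, hy⟩ * l * b := by group
  have hQbot : (Q : Subgroup L) = ⊥ := by
    rw [eq_bot_iff, ← hcent]
    intro b hb
    rw [Subgroup.mem_center_iff]
    intro g
    exact (Subgroup.mem_centralizer_iff.mp (hCtop ▸ Subgroup.mem_top g : g ∈ C) b hb).symm
  have hodd : Odd (Nat.card L) := by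
    rw [← (Q : Subgroup L).card_mul_index, hQbot, Subgroup.card_bot, one_mul, ← hQbot, Nat.odd_iff,
      ← Nat.two_dvd_ne_zero]
    exact Q.not_dvd_index
  haveI : Group.IsSolvable L := Cfsg.Agent.Lib.OddOrder.FeitThompson.isSolvable_of_odd_card hodd
  by_contra hne
  haveI : Nontrivial L := (Subgroup.nontrivial_iff_ne_bot L).mpr hne
  exact absurd hperf (Group.IsSolvable.commutator_lt_top_of_nontrivial L).ne

end Cfsg.Agent.S4133
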