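import Mathlib
import Cfsg.Statements.S4134
import Cfsg.Agent.Lib.TwoClassSizes.Basic
import Cfsg.Agent.Lib.Transfer.Frobenius
import Cfsg.Agent.Lib.PGroups.MaxAbelian

set_option autoImplicit false
open Cfsg

namespace Cfsg.Agent.S4134

open Subgroup Cfsg.Agent.Lib.TwoClassSizes
open scoped commutatorElement

/-- Let G be a finite group whose conjugacy classes have exactly two sizes, 1 and n > 1. Then n is a power of a prime p and G is the direct product of a p-group and an abelian group of order prime to p: its Sylow p-subgroup P is normal with an abelian normal complement centralizing it; moreover P has an abelian normal subgroup A with P/A of exponent dividing p. -/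
theorem result {G : Type*} [Group G] [Finite G] (n : ℕ) (hn : 1 < n)
    (h : ∀ x : G, (Subgroup.centralizer ({x} : Set G)).index = 1 ∨ (Subgroup.centralizer ({x} : Set G)).index = n) (hex : ∃ x : G, (Subgroup.centralizer ({x} : Set G)).index = n) :
    ∃ (p : ℕ) (_ : Fact p.Prime) (a : ℕ), n = p ^ a ∧ ∀ P : Sylow p G, (P : Subgroup G).Normal ∧
      (∃ N : Subgroup G, N.Normal ∧ N.IsComplement' (P : Subgroup G) ∧ IsMulCommutative N ∧
        ∀ x ∈ N, ∀ y ∈ (P : Subgroup G), x * y = y * x) ∧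
      ∃ A : Subgroup (P : Subgroup G), A.Normal ∧ IsMulCommutative A ∧ ∀ y : (P : Subgroup G), y ^ p ∈ A := by
  have hcen : ∀ x : G, x ∈ center G ↔ (cen x).index = 1 := fun x => by
    rw [Subgroup.index_eq_one, eq_top_iff]
    exact ⟨fun hx g _ => mem_cen.2 (mem_center_iff.1 hx g),
      fun hx => mem_center_iff.2 fun g => mem_cen.1 (hx (mem_top g))⟩
  have hidx : HasIndex (⊤ : Subgroup G) n := fun x _ hx =>
    (h x).resolve_left fun h1 => hx ((hcen x).2 h1)
  obtain ⟨x₁, hx₁⟩ := hex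
  have hx₁' : x₁ ∉ center G := fun hc => by
    have h1 : (centralizer ({x₁} : Set G)).index = 1 := (hcen x₁).1 hc
    omega
  obtain ⟨p, hp, x, -, hxp, hx⟩ := exists_primary_notMem hx₁'
  haveI := Fact.mk hp
  obtain ⟨R, hR⟩ := (isPGroup_zpowers' hxp).exists_le_sylow
  have hRc : ∀ S : Sylow p G, ¬ (S : Subgroup G) ≤ center G := by
    intro S hS
    obtain ⟨g, rfl⟩ := MulAction.exists_smul_eq G R S
    exact hx (mem_center_of_conj (g := g) (hS ⟨x, hR (mem_zpowers x), rfl⟩))
  haveI hnil : Group.IsNilpotent (⊤ : Subgroup G) :=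
    Lib.TwoClassSizes.isNilpotent hidx (r := p) (fun _ => le_top) hRc
  haveI : Group.IsNilpotent G := Group.nilpotent_of_mulEquiv Subgroup.topEquiv
  have hcomm : ∀ a b : G, (orderOf a).Coprime (orderOf b) → a * b = b * a := fun a b hab =>
    Lib.Transfer.Frobenius.commute_of_coprime_of_isNilpotent hab
  -- `n` is a power of `p`
  have hdvd : ∀ l : ℕ, l.Prime → ∀ z : G, z ∉ center G → (∃ k, orderOf z = p ^ k) → l ≠ p →
      ¬ l ∣ n := by
    intro l hl z hz ⟨k, hk⟩ hlp hln
    haveI := Fact.mk hl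
    obtain ⟨S⟩ : Nonempty (Sylow l G) := inferInstance
    refine Lib.SylowNumbers.Basic.index_dvd_not (P := S) (H := cen z) (fun s hs => ?_)
      ((hidx z trivial hz).symm ▸ hln)
    obtain ⟨j, hj⟩ := exists_orderOf_eq_pow S.2 hs
    exact mem_cen.2 (hcomm s z (hk ▸ hj ▸ coprime_of_prime_pow hl hp hlp))
  obtain ⟨a, ha⟩ : ∃ a, n = p ^ a :=
    ⟨_, Nat.eq_prime_pow_of_unique_prime_dvd (by omega) fun {l} hl hln =>
      by_contra fun hlp => hdvd l hl x hx hxp hlp hln⟩
  -- elements of order prime to `p` are central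
  have hprime : ∀ y : G, (orderOf y).Coprime p → y ∈ center G := by
    intro y hy
    refine mem_of_primary_parts fun q hq z hz hzq => by_contra fun hz' => ?_
    obtain ⟨k, hk⟩ := hzq
    have hqp : q ≠ p := by
      rintro rfl
      rcases k with _ | k
      · exact hz' (by rw [orderOf_eq_one_iff.1 (show orderOf z = 1 by simpa using hk)]; exact one_mem _)
      · obtain ⟨m, rfl⟩ := mem_zpowers_iff.1 hz
        refine (hp.coprime_iff_not_dvd.1 hy.symm) ((dvd_pow_self q (Nat.succ_ne_zero k)).trans ?_)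
        rw [← hk]
        exact orderOf_dvd_of_pow_eq_one (by
          rw [← zpow_natCast, ← zpow_mul, mul_comm, zpow_mul, zpow_natCast, pow_orderOf_eq_one,
            one_zpow])
    haveI := Fact.mk hq
    obtain ⟨P⟩ : Nonempty (Sylow p G) := inferInstance
    refine Lib.SylowNumbers.Basic.index_dvd_not (P := P) (H := cen z) (fun s hs => ?_) ?_
    · obtain ⟨j, hj⟩ := exists_orderOf_eq_pow P.2 hs
      exact mem_cen.2 (hcomm s z (hk ▸ hj ▸ coprime_of_prime_pow hp hq hqp.symm))
    · rw [hidx z trivial hz', ha]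
      refine dvd_pow_self p fun h0 => ?_
      rw [h0, pow_zero] at ha; omega
  refine ⟨p, inferInstance, a, ha, fun P => ?_⟩
  haveI hPn : (P : Subgroup G).Normal :=
    Sylow.normal_of_normalizerCondition Group.normalizerCondition_of_isNilpotent P
  obtain ⟨N, hN, hNP⟩ := (Lib.Transfer.PResidual.hasNormalPComplement_iff_exists P).1
    Lib.Transfer.Frobenius.hasNormalPComplement_of_isNilpotent
  have hNc : ∀ y ∈ N, y ∈ center G := fun y hy =>
    hprime y ((Lib.Transfer.PResidual.mem_iff_coprime_of_isComplement' P N hNP y).1 hy)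
  refine ⟨hPn, ⟨N, hN, hNP, ⟨⟨fun u v => Subtype.ext (mem_center_iff.1 (hNc v v.2) u)⟩⟩,
    fun u hu v _ => (mem_center_iff.1 (hNc u hu) v).symm⟩, ?_⟩
  -- the abelian normal subgroup
  obtain ⟨x₀, hx₀P, hx₀, hx₀p, hx₀c⟩ := exists_nearly_central (p := p) (S := (P : Subgroup G))
    (M := (P : Subgroup G)) P.2 le_rfl (fun s _ y hy => hPn.conj_mem y hy s) (hRc P)
  set C := cen x₀ with hC
  set A := (P : Subgroup G) ⊓ C ⊓ centralizer (C : Set G) with hA
  have hbig : ∀ g ∈ (P : Subgroup G), g ^ p ∉ center G → g ∈ A := by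
    intro g hg hgp
    have hg' : g ∉ center G := fun hc => hgp (pow_mem hc p)
    have hz : ⁅x₀, g⁆ ∈ center G := by
      have := inv_mem (hx₀c g hg)
      rwa [commutatorElement_inv] at this
    have hpow : (g * x₀) ^ p = g ^ p * (x₀ ^ p * ⁅x₀, g⁆ ^ p.choose 2) := by
      rw [Lib.PGroups.mul_pow_of_central_commutator g x₀ (mem_center_iff.1 hz g)
        (mem_center_iff.1 hz x₀), mul_assoc]
    have hzc : x₀ ^ p * ⁅x₀, g⁆ ^ p.choose 2 ∈ center G := mul_mem hx₀p (pow_mem hz _)
    have hgx' : (g * x₀) ^ p ∉ center G := by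
      rw [hpow]
      intro hc
      exact hgp ((mul_mem_cancel_right hzc).1 hc)
    have hgx : g * x₀ ∉ center G := fun hc => hgx' (pow_mem hc p)
    have hceq : cen ((g * x₀) ^ p) = cen (g ^ p) := by
      rw [hpow]
      ext c
      rw [mem_cen', mem_cen']
      have hcc : Commute c (x₀ ^ p * ⁅x₀, g⁆ ^ p.choose 2) := mem_center_iff.1 hzc c
      exact ⟨fun hcm => by
        have hh := hcm.mul_right hcc.inv_right
        rwa [mul_inv_cancel_right] at hh, fun hcm => hcm.mul_right hcc⟩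
    have h1 : cen g = cen (g ^ p) := cen_eq_of_le hidx trivial hg' trivial hgp
      (cen_le_cen_of_mem_zpowers (npow_mem_zpowers g p))
    have h2 : cen (g * x₀) = cen ((g * x₀) ^ p) := cen_eq_of_le hidx trivial hgx trivial hgx'
      (cen_le_cen_of_mem_zpowers (npow_mem_zpowers (g * x₀) p))
    have h3 : cen (g * x₀) = cen g := by rw [h2, hceq, h1]
    have hle : cen g ≤ C := by
      intro c hc
      have hc1 : Commute c g := mem_cen'.1 hc
      have hc2 : Commute c (g * x₀) := mem_cen'.1 (h3.symm ▸ hc)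
      rw [hC, mem_cen']
      have := (hc1.inv_right).mul_right hc2
      rwa [inv_mul_cancel_left] at this
    have h4 : cen g = C := cen_eq_of_le hidx trivial hg' trivial hx₀ hle
    refine ⟨⟨hg, hle (mem_cen.2 rfl)⟩, mem_centralizer_iff.2 fun c hc => ?_⟩
    exact mem_cen.1 (h4.symm ▸ hc : c ∈ cen g)
  have hCn : ∀ s ∈ (P : Subgroup G), ∀ c, s * c * s⁻¹ ∈ C ↔ c ∈ C := by
    intro s hs c
    have hsx : cen (s * x₀ * s⁻¹) = C := by
      ext d
      rw [show s * x₀ * s⁻¹ = ⁅s, x₀⁆ * x₀ by rw [commutatorElement_def]; group, mem_cen', hC,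
        mem_cen']
      have hcc : Commute d ⁅s, x₀⁆ := mem_center_iff.1 (hx₀c s hs) d
      exact ⟨fun hcm => by
        have hh := hcc.inv_right.mul_right hcm
        rwa [inv_mul_cancel_left] at hh, fun hcm => hcc.mul_right hcm⟩
    conv_lhs => rw [← hsx]
    rw [conj_mem_cen_iff]
  refine ⟨A.subgroupOf (P : Subgroup G), ⟨?_⟩, ⟨⟨?_⟩⟩, ?_⟩
  · rintro ⟨a, haP⟩ ⟨⟨-, haC⟩, haZ⟩ ⟨s, hs⟩
    refine ⟨⟨mul_mem (mul_mem hs haP) ((P : Subgroup G).inv_mem hs), (hCn s hs a).2 haC⟩,
      mem_centralizer_iff.2 fun c hc => ?_⟩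
    have h5 : s⁻¹ * c * s ∈ C := (hCn s hs _).1 (by simpa [mul_assoc] using hc)
    have h6 : s⁻¹ * c * s * a = a * (s⁻¹ * c * s) := mem_centralizer_iff.1 haZ _ h5
    calc c * (s * a * s⁻¹) = s * (s⁻¹ * c * s * a) * s⁻¹ := by group
      _ = s * (a * (s⁻¹ * c * s)) * s⁻¹ := by rw [h6]
      _ = s * a * s⁻¹ * c := by group
  · rintro ⟨⟨u, huP⟩, hu⟩ ⟨⟨v, hvP⟩, hv⟩
    exact Subtype.ext (Subtype.ext (mem_centralizer_iff.1 hv.2 u hu.1.2))
  · rintro ⟨y, hy⟩
    by_cases hyp : y ^ p ∈ center G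
    · exact ⟨⟨pow_mem hy p, mem_cen.2 (mem_center_iff.1 hyp x₀).symm⟩,
        mem_centralizer_iff.2 fun c _ => mem_center_iff.1 hyp c⟩
    · exact pow_mem (hbig y hy hyp) p

end Cfsg.Agent.S4134
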