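import Mathlib
import Cfsg.Statements.S4135
import Cfsg.Agent.Lib.TwoClassSizes.Basic

set_option autoImplicit false
open Cfsg

namespace Cfsg.Agent.S4135

/-- Let G be a finite group, r a prime and R a Sylow r-subgroup of G that is not central, N a normal subgroup of G containing R, and m a natural number such that every element of N has a conjugacy class in G of size 1 or m. Then N is nilpotent. -/
theorem result {G : Type*} [Group G] [Finite G] (r : ℕ) [Fact r.Prime]
    (R : Sylow r G) (hR : ¬ (R : Subgroup G) ≤ Subgroup.center G) (N : Subgroup G) [N.Normal] (hRN : (R : Subgroup G) ≤ N)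
    (m : ℕ) (h : ∀ x ∈ N, (Subgroup.centralizer ({x} : Set G)).index = 1 ∨ (Subgroup.centralizer ({x} : Set G)).index = m) : Group.IsNilpotent N := by
  refine Lib.TwoClassSizes.isNilpotent (r := r) (m := m) ?_ ?_ ?_
  · intro x hx hx'
    refine (h x hx).resolve_left fun h1 => hx' (Subgroup.mem_center_iff.2 fun g => ?_)
    exact Subgroup.mem_centralizer_singleton_iff.1 ((Subgroup.index_eq_one.1 h1).symm ▸ Subgroup.mem_top g)
  · intro S
    obtain ⟨g, rfl⟩ := MulAction.exists_smul_eq G R S
    rintro _ ⟨y, hy, rfl⟩
    exact ‹N.Normal›.conj_mem y (hRN hy) g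
  · intro S hS
    refine hR fun y hy => ?_
    obtain ⟨g, rfl⟩ := MulAction.exists_smul_eq G R S
    exact Lib.TwoClassSizes.mem_center_of_conj (g := g) (hS ⟨y, hy, rfl⟩)

end Cfsg.Agent.S4135
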