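import Cfsg.Statements.S4139
import Cfsg.Agent.Lib.ClassSizes.Basic

set_option autoImplicit false
open Cfsg

namespace Cfsg.Agent.S4139

open Cfsg.Agent.Lib.ClassSizes.Basic
open scoped Pointwise

theorem card_carrier_eq {G : Type*} [Group G] (x : G) :
    Nat.card (ConjClasses.mk x).carrier = (Subgroup.centralizer ({x} : Set G)).index := by
  classical
  rw [← ConjAct.orbit_eq_carrier_conjClasses]
  have : MulAction.stabilizer (ConjAct G) x = Subgroup.centralizer {x} :=
    ConjAct.stabilizer_eq_centralizer x
  rw [Subgroup.index, ← this]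
  exact Nat.card_congr (MulAction.orbitEquivQuotientStabilizer (ConjAct G) x)

/-- The number of elements whose class size satisfies `Q`. -/
theorem card_eq_sum {G : Type*} [Group G] [Finite G] (N : ℕ) (hN : Nat.card G < N) (Q : ℕ → Prop)
    [DecidablePred Q] :
    Nat.card {g : G // Q (Subgroup.centralizer ({g} : Set G)).index} =
      ∑ k ∈ (Finset.range N).filter Q, Nat.card {C : ConjClasses G // Nat.card C.carrier = k} * k := by
  classical
  have := Fintype.ofFinite G
  have := Fintype.ofFinite (ConjClasses G)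
  have hsize : ∀ C : ConjClasses G, ∀ g, ConjClasses.mk g = C →
      (Subgroup.centralizer ({g} : Set G)).index = Nat.card C.carrier := by
    rintro C g rfl; exact (card_carrier_eq g).symm
  rw [Nat.card_eq_fintype_card, Fintype.card_subtype,
    Finset.card_eq_sum_card_fiberwise (t := (Finset.univ : Finset (ConjClasses G)).filter fun C => Q (Nat.card C.carrier))
      (f := ConjClasses.mk) (fun g hg => Finset.mem_filter.mpr ⟨Finset.mem_univ _, by
        rw [card_carrier_eq]; exact (Finset.mem_filter.mp hg).2⟩),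
    ← Finset.sum_fiberwise_of_maps_to (t := (Finset.range N).filter Q)
      (g := fun C : ConjClasses G => Nat.card C.carrier) (fun C hC => Finset.mem_filter.mpr
        ⟨Finset.mem_range.mpr (lt_of_le_of_lt (Nat.card_le_card_of_injective _ Subtype.val_injective) hN),
          (Finset.mem_filter.mp hC).2⟩)]
  refine Finset.sum_congr rfl fun k hk => ?_
  rw [Nat.card_eq_fintype_card, Fintype.card_subtype, ← smul_eq_mul, ← Finset.sum_const]
  refine Finset.sum_congr (Finset.ext fun C => ?_) fun C hC => ?_
  · simp only [Finset.mem_filter, Finset.mem_univ, true_and]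
    exact ⟨fun h => h.2, fun h => ⟨h ▸ (Finset.mem_filter.mp hk).2, h⟩⟩
  · obtain ⟨-, hC⟩ := Finset.mem_filter.mp hC
    rw [← hC, Nat.card_eq_fintype_card (α := C.carrier), ← Set.toFinset_card]
    congr 1
    ext g
    simp only [Finset.mem_filter, Finset.mem_univ, true_and, Set.mem_toFinset,
      ConjClasses.mem_carrier_iff_mk_eq]
    exact ⟨fun h => h.2, fun h => ⟨by rw [hsize C g h, hC]; exact (Finset.mem_filter.mp hk).2, h⟩⟩

/-- The elements whose class has size prime to `p`. -/
abbrev goodSet (G : Type*) [Group G] (p : ℕ) : Set G :=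
  {g | ¬ p ∣ (Subgroup.centralizer ({g} : Set G)).index}

theorem card_center_inf {G : Type*} [Group G] [Finite G] {p : ℕ} [hp : Fact p.Prime] (P : Sylow p G) :
    Nat.card (Subgroup.center G ⊓ (P : Subgroup G) : Subgroup G) =
      p ^ (Nat.card (Subgroup.center G)).factorization p := by
  obtain ⟨R⟩ : Nonempty (Sylow p (Subgroup.center G)) := inferInstance
  let R' := (R : Subgroup (Subgroup.center G)).map (Subgroup.center G).subtype
  have hR' : R' ≤ Subgroup.center G := Subgroup.map_subtype_le _
  obtain ⟨S, hS⟩ := (R.isPGroup'.map (Subgroup.center G).subtype).exists_le_sylow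
  obtain ⟨a, ha⟩ := MulAction.exists_smul_eq G S P
  have hRP : R' ≤ (P : Subgroup G) := by
    intro r hr
    rw [← ha, Sylow.coe_subgroup_smul]
    have := Subgroup.smul_mem_pointwise_smul r (MulAut.conj a) _ (hS hr)
    have hc := Subgroup.mem_center_iff.mp (hR' hr) a
    simpa [hc] using this
  obtain ⟨k, hk⟩ := IsPGroup.iff_card.mp (P.isPGroup'.to_le (inf_le_right :
    Subgroup.center G ⊓ (P : Subgroup G) ≤ _))
  have h1 : Nat.card R' ∣ p ^ k := hk ▸ Subgroup.card_dvd_of_le (le_inf hR' hRP)
  rw [Subgroup.card_map_of_injective (Subgroup.center G).subtype_injective, Sylow.card_eq_multiplicity] at h1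
  have h2 : p ^ k ∣ Nat.card (Subgroup.center G) := hk ▸ Subgroup.card_dvd_of_le inf_le_left
  rw [hk, le_antisymm ((hp.out.pow_dvd_iff_le_factorization Nat.card_pos.ne').mp h2)
    ((Nat.pow_dvd_pow_iff_le_right hp.out.one_lt).mp h1)]

/-- In a nilpotent group the elements of class size prime to `p` number `|Z|_p |H|_{p'}`. -/
theorem card_good_of_nilpotent {H : Type*} [Group H] [Finite H] (hH : Group.IsNilpotent H) {p : ℕ}
    [hp : Fact p.Prime] (P : Sylow p H) :
    Nat.card (goodSet H p) = Nat.card (Subgroup.center H ⊓ (P : Subgroup H) : Subgroup H) * (P : Subgroup H).index := by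
  haveI := hH
  set C := Subgroup.centralizer ((P : Subgroup H) : Set H) with hC
  have hPn : (P : Subgroup H).Normal := inferInstance
  have hset : goodSet H p = (C : Set H) := by
    ext g
    constructor
    · intro hg
      obtain ⟨S, hS⟩ := exists_sylow_le hg
      have : Subsingleton (Sylow p H) := (Sylow.unique_of_normal P hPn).instSubsingleton
      obtain rfl := Subsingleton.elim S P
      exact Subgroup.mem_centralizer_iff.mpr fun a ha => (mem_cen.mp (hS ha)).symm
    · intro hg
      exact not_dvd_of_sylow_le P fun a ha =>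
        mem_cen.mpr (Subgroup.mem_centralizer_iff.mp hg a ha).symm
  rw [hset]
  change Nat.card C = _
  have htop : C ⊔ (P : Subgroup H) = ⊤ := by
    rw [← Subgroup.index_eq_one]
    by_contra hne
    obtain ⟨q, hq, hdvd⟩ := Nat.exists_prime_and_dvd hne
    have := Fact.mk hq
    obtain ⟨Q⟩ : Nonempty (Sylow q H) := inferInstance
    refine not_dvd_of_sylow_le Q ?_ hdvd
    rcases eq_or_ne q p with rfl | hqp
    · have : Subsingleton (Sylow q H) := (Sylow.unique_of_normal P hPn).instSubsingleton
      rw [Subsingleton.elim Q P]; exact le_sup_right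
    · refine le_trans (fun x hx => Subgroup.mem_centralizer_iff.mpr fun a ha => ?_) le_sup_left
      exact Subgroup.commute_of_normal_of_disjoint _ _ hPn inferInstance
        (IsPGroup.disjoint_of_ne p q hqp.symm _ _ P.isPGroup' Q.isPGroup') a x ha hx
  have hint : C ⊓ (P : Subgroup H) = Subgroup.center H ⊓ (P : Subgroup H) := by
    refine le_antisymm (le_inf ?_ inf_le_right) (inf_le_inf_right _ (Subgroup.center_le_centralizer _))
    intro x hx
    have hall : C ⊔ (P : Subgroup H) ≤ Subgroup.centralizer ({x} : Set H) := by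
      refine sup_le (fun y hy => ?_) (fun y hy => ?_)
      · exact mem_cen.mpr (Subgroup.mem_centralizer_iff.mp hy x hx.2)
      · exact mem_cen.mpr (Subgroup.mem_centralizer_iff.mp hx.1 y hy).symm
    rw [htop] at hall
    exact Subgroup.mem_center_iff.mpr fun g => (mem_cen.mp (hall (Subgroup.mem_top g))).symm
  have h1 : (P : Subgroup H).relIndex C = (P : Subgroup H).index := by
    rw [← Subgroup.relIndex_sup_right, htop, Subgroup.relIndex_top_right]
  rw [← hint, ← h1, ← Subgroup.inf_relIndex_right, inf_comm (P : Subgroup H) C,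
    mul_comm, ← Subgroup.relIndex_bot_left (C ⊓ _), mul_comm, Subgroup.relIndex_mul_relIndex _ _ _ bot_le inf_le_left,
    Subgroup.relIndex_bot_left]

/-- Counting the elements of class size prime to `p` detects the normality of the Sylow `p`-subgroup. -/
theorem normal_of_card_good {G : Type*} [Group G] [Finite G] {p : ℕ} [hp : Fact p.Prime] (P : Sylow p G)
    (h : Nat.card (goodSet G p) =
      Nat.card (Subgroup.center G ⊓ (P : Subgroup G) : Subgroup G) * (P : Subgroup G).index) :
    (P : Subgroup G).Normal := by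
  classical
  set Zp : Subgroup G := Subgroup.center G ⊓ (P : Subgroup G) with hZp
  have hZn : Zp.Normal := ⟨fun z hz g => by
    rw [show g * z * g⁻¹ = z by rw [Subgroup.mem_center_iff.mp hz.1 g]; group]; exact hz⟩
  let π : G →* G ⧸ Zp := QuotientGroup.mk' Zp
  set C := Subgroup.centralizer ((P : Subgroup G) : Set G) with hC
  have hZC : Zp ≤ C := inf_le_left.trans (Subgroup.center_le_centralizer _)
  have hgoodmul : ∀ g, ∀ z ∈ Zp, g ∈ goodSet G p → g * z ∈ goodSet G p := by
    intro g z hz hg
    show ¬ p ∣ _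
    rwa [show Subgroup.centralizer ({g * z} : Set G) = Subgroup.centralizer ({g} : Set G) by
      ext y
      have hzy := Subgroup.mem_center_iff.mp hz.1
      rw [mem_cen, mem_cen]
      constructor <;> intro h1
      · refine mul_right_cancel (b := z) ?_
        rw [mul_assoc g y z, hzy y, ← mul_assoc, h1, mul_assoc]
      · rw [mul_assoc, ← hzy y, ← mul_assoc, h1, mul_assoc]]
  have hCgood : (C : Set G) ⊆ goodSet G p := fun g hg => not_dvd_of_sylow_le P fun a ha =>
    mem_cen.mpr (Subgroup.mem_centralizer_iff.mp hg a ha).symm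
  -- the image of the good set
  set T : Set (G ⧸ Zp) := π '' goodSet G p with hT
  have hpre : QuotientGroup.mk ⁻¹' T = goodSet G p := by
    refine Set.Subset.antisymm (fun g hg => ?_) (fun g hg => ⟨g, hg, rfl⟩)
    obtain ⟨g₀, hg₀, he⟩ := hg
    have hm : g₀⁻¹ * g ∈ Zp := QuotientGroup.eq.mp he
    simpa using hgoodmul g₀ _ hm hg₀
  have hTcard : Nat.card T = (P : Subgroup G).index := by
    have h1 := QuotientGroup.card_preimage_mk Zp T
    rw [hpre, h] at h1
    exact (Nat.eq_of_mul_eq_mul_left Nat.card_pos h1).symm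
  -- the action of `P` on the image
  have hTconj : ∀ (c : G), ∀ t ∈ T, π c * t * (π c)⁻¹ ∈ T := by
    rintro c _ ⟨g, hg, rfl⟩
    refine ⟨c * g * c⁻¹, ?_, by simp [map_mul, map_inv]⟩
    show ¬ p ∣ _
    rwa [show (Subgroup.centralizer ({c * g * c⁻¹} : Set G)).index = (Subgroup.centralizer ({g} : Set G)).index by
      rw [← card_carrier_eq, ← card_carrier_eq]
      congr 3
      exact ConjClasses.mk_eq_mk_iff_isConj.mpr (isConj_iff.mpr ⟨c⁻¹, by group⟩)]
  let act : MulAction (P : Subgroup G) T :=
    { smul := fun c t => ⟨π c * t * (π c)⁻¹, hTconj c t t.2⟩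
      one_smul := fun t => Subtype.ext (by
        show π ((1 : (P : Subgroup G)) : G) * (t : G ⧸ Zp) * (π ((1 : (P : Subgroup G)) : G))⁻¹ = t
        simp)
      mul_smul := fun a b t => Subtype.ext (by
        show π ((a * b : (P : Subgroup G)) : G) * (t : G ⧸ Zp) * (π ((a * b : (P : Subgroup G)) : G))⁻¹ =
          π a * (π b * t * (π b)⁻¹) * (π a)⁻¹
        rw [Subgroup.coe_mul, map_mul]; group) }
  have hfix : Subtype.val '' MulAction.fixedPoints (P : Subgroup G) T = (C.map π : Set (G ⧸ Zp)) := by
    ext t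
    constructor
    · rintro ⟨⟨_, g, hg, rfl⟩, hf, rfl⟩
      refine ⟨g, ?_, rfl⟩
      -- the elements normalising `g Zp`
      let M : Subgroup G := (Subgroup.centralizer ({π g} : Set (G ⧸ Zp))).comap π
      let φ : M →* Zp := MonoidHom.mk' (fun y => ⟨g⁻¹ * ((y : G) * g * (y : G)⁻¹), by
          rw [← QuotientGroup.eq_one_iff]
          have hy := mem_cen.mp y.2
          change π (g⁻¹ * ((y : G) * g * (y : G)⁻¹)) = 1
          simp only [map_mul, map_inv]
          rw [← hy]
          group⟩)
        (fun a b => by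
          apply Subtype.ext
          have hb : g⁻¹ * ((b : G) * g * (b : G)⁻¹) ∈ Subgroup.center G := by
            have hy := mem_cen.mp b.2
            have : g⁻¹ * ((b : G) * g * (b : G)⁻¹) ∈ Zp := by
              rw [← QuotientGroup.eq_one_iff]
              change π (g⁻¹ * ((b : G) * g * (b : G)⁻¹)) = 1
              simp only [map_mul, map_inv]
              rw [← hy]
              group
            exact this.1
          have hz := Subgroup.mem_center_iff.mp hb
          show g⁻¹ * (((a * b : M) : G) * g * ((a * b : M) : G)⁻¹) =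
            g⁻¹ * ((a : G) * g * (a : G)⁻¹) * (g⁻¹ * ((b : G) * g * (b : G)⁻¹))
          rw [Subgroup.coe_mul]
          calc g⁻¹ * ((a : G) * b * g * ((a : G) * b)⁻¹)
              = g⁻¹ * ((a : G) * g * ((g⁻¹ * ((b : G) * g * (b : G)⁻¹)) * (a : G)⁻¹)) := by group
            _ = g⁻¹ * ((a : G) * g * ((a : G)⁻¹ * (g⁻¹ * ((b : G) * g * (b : G)⁻¹)))) := by rw [hz]
            _ = _ := by group)
      have hker : φ.ker = (Subgroup.centralizer ({g} : Set G)).subgroupOf M := by
        ext y
        rw [MonoidHom.mem_ker, Subgroup.mem_subgroupOf, mem_cen, Subtype.ext_iff]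
        show g⁻¹ * ((y : G) * g * (y : G)⁻¹) = 1 ↔ _
        rw [inv_mul_eq_one, eq_mul_inv_iff_mul_eq]
      have hCM : Subgroup.centralizer ({g} : Set G) ≤ M := fun y hy => by
        refine Subgroup.mem_comap.mpr (mem_cen.mpr ?_)
        rw [← map_mul, ← map_mul, mem_cen.mp hy]
      have hidx : (Subgroup.centralizer ({g} : Set G)).relIndex M = 1 := by
        obtain ⟨k, hk⟩ := IsPGroup.iff_card.mp (P.isPGroup'.to_le (inf_le_right : Zp ≤ (P : Subgroup G)))
        have hd : (Subgroup.centralizer ({g} : Set G)).relIndex M ∣ p ^ k := by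
          rw [← hk]; show Subgroup.index _ ∣ _
          rw [← hker, Subgroup.index_ker]
          exact Subgroup.card_subgroup_dvd_card _
        obtain ⟨j, -, hj⟩ := (Nat.dvd_prime_pow hp.out).mp hd
        rcases Nat.eq_zero_or_pos j with rfl | hj0
        · simpa using hj
        · exact absurd ((dvd_pow_self p hj0.ne').trans (hj ▸ Subgroup.relIndex_dvd_index_of_le hCM)) hg
      refine Subgroup.mem_centralizer_iff.mpr fun a ha => ?_
      have haM : a ∈ M := by
        refine Subgroup.mem_comap.mpr (mem_cen.mpr ?_)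
        have h2 : π a * π g * (π a)⁻¹ = π g := congrArg Subtype.val (hf ⟨a, ha⟩)
        exact (mul_inv_eq_iff_eq_mul.mp h2).symm
      exact (mem_cen.mp (Subgroup.relIndex_eq_one.mp hidx haM)).symm
    · rintro ⟨g, hg, rfl⟩
      refine ⟨⟨π g, g, hCgood hg, rfl⟩, fun c => Subtype.ext ?_, rfl⟩
      show π c * π g * (π c)⁻¹ = π g
      rw [← map_mul, Subgroup.mem_centralizer_iff.mp hg c c.2, map_mul, mul_inv_cancel_right]
  -- `C ∩ P = Zp`
  have hCbar : ¬ p ∣ Nat.card (C.map π) := by
    have hmod := P.isPGroup'.card_modEq_card_fixedPoints T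
    intro hd
    have he : Nat.card (MulAction.fixedPoints (P : Subgroup G) T) = Nat.card (C.map π) := by
      rw [← Nat.card_image_of_injective Subtype.val_injective, hfix]
      rfl
    rw [he, hTcard] at hmod
    exact P.not_dvd_index ((Nat.ModEq.dvd_iff hmod dvd_rfl).mpr hd)
  have hCP : C ⊓ (P : Subgroup G) ≤ Zp := by
    have h1 : ((C ⊓ (P : Subgroup G)).map π) = ⊥ := by
      rw [← Subgroup.card_eq_one]
      obtain ⟨k, hk⟩ := IsPGroup.iff_card.mp
        ((P.isPGroup'.to_le (inf_le_right : C ⊓ (P : Subgroup G) ≤ _)).map π)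
      rcases Nat.eq_zero_or_pos k with rfl | hk0
      · simpa using hk
      · refine absurd ?_ hCbar
        exact ((dvd_pow_self p hk0.ne').trans (hk ▸ Subgroup.card_dvd_of_le (Subgroup.map_mono inf_le_left)))
    rw [Subgroup.map_eq_bot_iff, QuotientGroup.ker_mk'] at h1
    exact h1
  -- counting
  set N := Subgroup.normalizer ((P : Subgroup G) : Set G) with hN
  have hCN : C ≤ N := Subgroup.centralizer_le_normalizer _
  have hsize : Nat.card (C.map π) * Nat.card (P : Subgroup G) ≤ Nat.card N := by
    have hout : ∀ c : C.map π, ∃ g ∈ C, π g = c := fun c => c.2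
    choose f hfC hf using hout
    rw [← Nat.card_prod]
    refine Nat.card_le_card_of_injective
      (fun x => (⟨f x.1 * x.2, N.mul_mem (hCN (hfC _)) (Subgroup.le_normalizer x.2.2)⟩ : N)) ?_
    rintro ⟨c, x⟩ ⟨d, y⟩ he
    have he' : f c * (x : G) = f d * y := congrArg Subtype.val he
    have h1 : (f d)⁻¹ * f c = (y : G) * (x : G)⁻¹ :=
      eq_mul_inv_of_mul_eq (by rw [mul_assoc, he']; group)
    have h2 : (f d)⁻¹ * f c ∈ Zp := hCP ⟨C.mul_mem (C.inv_mem (hfC d)) (hfC c),
      show (f d)⁻¹ * f c ∈ (P : Subgroup G) from h1 ▸ (P : Subgroup G).mul_mem y.2 ((P : Subgroup G).inv_mem x.2)⟩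
    have hcd : c = d := Subtype.ext (by rw [← hf c, ← hf d]; exact (QuotientGroup.eq.mpr h2).symm)
    subst hcd
    exact Prod.ext rfl (Subtype.ext (mul_left_cancel he'))
  have := Fintype.ofFinite (G ⧸ N)
  have := Fintype.ofFinite (G ⧸ Zp)
  let B : G ⧸ N → Finset (G ⧸ Zp) := fun q =>
    ((Finset.univ.filter fun x => x ∈ C.map π).image fun x => π q.out * x * (π q.out)⁻¹).erase 1
  have hsub : T.toFinset ⊆ insert 1 (Finset.univ.biUnion B) := by
    intro t ht
    obtain ⟨g, hg, rfl⟩ := Set.mem_toFinset.mp ht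
    rcases eq_or_ne (π g) 1 with h1 | h1
    · exact Finset.mem_insert.mpr (Or.inl h1)
    refine Finset.mem_insert_of_mem (Finset.mem_biUnion.mpr ?_)
    obtain ⟨S, hS⟩ := exists_sylow_le hg
    obtain ⟨a, ha⟩ := MulAction.exists_smul_eq G P S
    obtain ⟨n, hn⟩ := QuotientGroup.mk_out_eq_mul N a
    refine ⟨(a : G ⧸ N), Finset.mem_univ _, Finset.mem_erase.mpr ⟨h1, Finset.mem_image.mpr
      ⟨π ((n : G)⁻¹ * (a⁻¹ * g * a) * n), Finset.mem_filter.mpr ⟨Finset.mem_univ _,
        Subgroup.mem_map_of_mem π ?_⟩, ?_⟩⟩⟩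
    · rw [Subgroup.mem_centralizer_iff]
      intro x hx
      have hx' : (n : G) * x * (n : G)⁻¹ ∈ (P : Subgroup G) :=
        (Subgroup.mem_normalizer_iff.mp n.2 x).mp hx
      have hax : a * ((n : G) * x * (n : G)⁻¹) * a⁻¹ ∈ (S : Subgroup G) := by
        rw [← ha, Sylow.coe_subgroup_smul]
        exact Subgroup.smul_mem_pointwise_smul _ (MulAut.conj a) _ hx'
      have hcomm := mem_cen.mp (hS hax)
      calc x * ((n : G)⁻¹ * (a⁻¹ * g * a) * n)
          = (n : G)⁻¹ * (a⁻¹ * (a * ((n : G) * x * (n : G)⁻¹) * a⁻¹ * g) * a) * n := by group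
        _ = (n : G)⁻¹ * (a⁻¹ * (g * (a * ((n : G) * x * (n : G)⁻¹) * a⁻¹)) * a) * n := by
            rw [hcomm]
        _ = _ := by group
    · rw [hn]
      simp only [map_mul, map_inv]
      group
  have hB : ∀ q, (B q).card ≤ Nat.card (C.map π) - 1 := by
    intro q
    rw [Finset.card_erase_of_mem (Finset.mem_image.mpr ⟨1, Finset.mem_filter.mpr
      ⟨Finset.mem_univ _, one_mem _⟩, by simp⟩)]
    refine Nat.sub_le_sub_right (Finset.card_image_le.trans (le_of_eq ?_)) 1
    rw [Nat.card_eq_fintype_card, Fintype.card_subtype]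
  have hle : (P : Subgroup G).index ≤ N.index * (Nat.card (C.map π) - 1) + 1 := by
    rw [← hTcard, Nat.card_eq_fintype_card, ← Set.toFinset_card]
    refine (Finset.card_le_card hsub).trans ((Finset.card_insert_le _ _).trans (Nat.add_le_add_right ?_ 1))
    refine Finset.card_biUnion_le.trans ((Finset.sum_le_card_nsmul _ _ _ fun q _ => hB q).trans (le_of_eq ?_))
    rw [smul_eq_mul, Finset.card_univ, Subgroup.index, Nat.card_eq_fintype_card (α := G ⧸ N)]
  have hge : N.index * Nat.card (C.map π) ≤ (P : Subgroup G).index := by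
    refine Nat.le_of_mul_le_mul_right ?_ (Nat.card_pos (α := (P : Subgroup G)))
    rw [Subgroup.index_mul_card, mul_assoc, ← N.index_mul_card]
    exact Nat.mul_le_mul_left _ hsize
  have hN1 : N.index = 1 := by
    obtain ⟨c, hc⟩ : ∃ c, Nat.card (C.map π) = c + 1 := ⟨Nat.card (C.map π) - 1, by
      have : 0 < Nat.card (C.map π) := Nat.card_pos; omega⟩
    rw [hc, Nat.add_sub_cancel] at hle
    rw [hc, Nat.mul_succ] at hge
    have : N.index ≠ 0 := Subgroup.index_ne_zero_of_finite
    omega
  exact Subgroup.normalizer_eq_top_iff.mp (Subgroup.index_eq_one.mp hN1)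

theorem mem_center_iff_index_eq_one {G : Type*} [Group G] (g : G) :
    g ∈ Subgroup.center G ↔ (Subgroup.centralizer ({g} : Set G)).index = 1 := by
  rw [Subgroup.index_eq_one, Subgroup.centralizer_eq_top_iff_subset, Set.singleton_subset_iff]
  rfl

theorem card_eq_of_counts {G H : Type*} [Group G] [Finite G] [Group H] [Finite H]
    (h : ∀ k : ℕ, Nat.card {C : ConjClasses G // Nat.card C.carrier = k} = Nat.card {C : ConjClasses H // Nat.card C.carrier = k})
    (Q : ℕ → Prop) :
    Nat.card {g : G // Q (Subgroup.centralizer ({g} : Set G)).index} =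
      Nat.card {g : H // Q (Subgroup.centralizer ({g} : Set H)).index} := by
  classical
  rw [card_eq_sum (Nat.card G + Nat.card H + 1) (by omega) Q,
    card_eq_sum (Nat.card G + Nat.card H + 1) (by omega) Q]
  exact Finset.sum_congr rfl fun k _ => by rw [h k]


/-- Let G and H be finite groups such that for every natural number k, G and H have the same number of conjugacy classes of size k. If H is nilpotent then G is nilpotent. -/
theorem result {G H : Type*} [Group G] [Finite G] [Group H] [Finite H]
    (hH : Group.IsNilpotent H)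
    (h : ∀ k : ℕ, Nat.card {C : ConjClasses G // Nat.card C.carrier = k} = Nat.card {C : ConjClasses H // Nat.card C.carrier = k}) :
    Group.IsNilpotent G := by
  refine (Group.isNilpotent_of_finite_tfae.out 0 3 rfl rfl).mpr fun p hp P => ?_
  obtain ⟨R⟩ : Nonempty (Sylow p H) := inferInstance
  refine normal_of_card_good P ?_
  have hcard : Nat.card G = Nat.card H := by
    have h1 := card_eq_of_counts h (fun _ => True)
    rwa [Nat.card_congr (Equiv.subtypeUnivEquiv fun _ => trivial),
      Nat.card_congr (Equiv.subtypeUnivEquiv fun _ => trivial)] at h1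
  have hZ : Nat.card (Subgroup.center G) = Nat.card (Subgroup.center H) := by
    have h1 := card_eq_of_counts h (fun k => k = 1)
    rwa [← Nat.card_congr (Equiv.subtypeEquivRight (mem_center_iff_index_eq_one (G := G))),
      ← Nat.card_congr (Equiv.subtypeEquivRight (mem_center_iff_index_eq_one (G := H)))] at h1
  have hidx : (P : Subgroup G).index = (R : Subgroup H).index := by
    have hP := (P : Subgroup G).index_mul_card
    have hR := (R : Subgroup H).index_mul_card
    rw [Sylow.card_eq_multiplicity] at hP hR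
    rw [hcard] at hP
    exact Nat.eq_of_mul_eq_mul_right (Nat.pow_pos hp.out.pos) (hP.trans hR.symm)
  rw [card_center_inf P, hZ, ← card_center_inf R, hidx, ← card_good_of_nilpotent hH R]
  exact card_eq_of_counts h (fun k => ¬ p ∣ k)

end Cfsg.Agent.S4139
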