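import Cfsg.Statements.S4140
import Cfsg.Agent.Lib.CaminaPair.Main

set_option autoImplicit false
open Cfsg

namespace Cfsg.Agent.S4140

/-- An element outside a subgroup has a power of prime-power order outside it. -/
theorem exists_primary {G : Type*} [Group G] [Finite G] {K : Subgroup G} {g : G} (h : g ∉ K) :
    ∃ (p k : ℕ), p.Prime ∧ ∃ z : G, (∃ j : ℕ, g ^ j = z) ∧ orderOf z = p ^ k ∧ z ∉ K := by
  induction hn : orderOf g using Nat.strong_induction_on generalizing g with
  | _ n ih =>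
  by_cases h1 : n = 1
  · exact absurd (by rw [orderOf_eq_one_iff.mp (hn.trans h1)]; exact one_mem K) h
  obtain ⟨p, hp, hd⟩ := Nat.exists_prime_and_dvd h1
  by_cases hpp : ∃ k, n = p ^ k
  · obtain ⟨k, hk⟩ := hpp
    exact ⟨p, k, hp, g, ⟨1, pow_one g⟩, hn.trans hk, h⟩
  set m := n / p ^ n.factorization p with hm
  have hnm : p ^ n.factorization p * m = n := Nat.ordProj_mul_ordCompl_eq_self n p
  have hn0 : n ≠ 0 := hn ▸ (orderOf_pos g).ne'
  have hm1 : 1 < m := by
    rcases Nat.lt_or_ge 1 m with h | h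
    · exact h
    · interval_cases m
      · simp [hn0.symm] at hnm
      · exact absurd ⟨_, (mul_one _).symm.trans hnm |>.symm⟩ hpp
  have hp1 : 1 < p ^ n.factorization p :=
    Nat.one_lt_pow (Nat.Prime.factorization_pos_of_dvd hp hn0 hd).ne' hp.one_lt
  have hcop : (p ^ n.factorization p).Coprime m := (Nat.coprime_ordCompl hp hn0).pow_left _
  have hsplit : ∀ a b : ℕ, 1 < a → 1 < b → a * b = n → orderOf (g ^ a) < n := by
    intro a b ha hb hab
    have h2 : (g ^ a) ^ b = 1 := by rw [← pow_mul, hab, ← hn, pow_orderOf_eq_one]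
    refine (Nat.le_of_dvd (by omega) (orderOf_dvd_of_pow_eq_one h2)).trans_lt ?_
    rw [← hab]; exact lt_mul_of_one_lt_left (by omega) ha
  by_cases hga : g ^ p ^ n.factorization p ∈ K
  · by_cases hgm : g ^ m ∈ K
    · exact absurd (by
        obtain ⟨u, hu⟩ : ∃ u : ℤ × ℤ, (p ^ n.factorization p : ℕ) * u.1 + (m : ℕ) * u.2 = (1 : ℤ) :=
          ⟨(Nat.gcdA _ _, Nat.gcdB _ _), by rw [← Nat.gcd_eq_gcd_ab, hcop.gcd_eq_one]; rfl⟩
        rw [← zpow_one g, ← hu, zpow_add, zpow_mul, zpow_mul, zpow_natCast, zpow_natCast]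
        exact mul_mem (zpow_mem hga _) (zpow_mem hgm _)) h
    · obtain ⟨q, k, hq, z, ⟨j, hj⟩, hz⟩ := ih _ (hsplit m _ hm1 hp1 (by rw [mul_comm, hnm])) hgm rfl
      exact ⟨q, k, hq, z, ⟨m * j, by rw [pow_mul, hj]⟩, hz⟩
  · obtain ⟨q, k, hq, z, ⟨j, hj⟩, hz⟩ := ih _ (hsplit _ m hp1 hm1 hnm) hga rfl
    exact ⟨q, k, hq, z, ⟨p ^ n.factorization p * j, by rw [pow_mul, hj]⟩, hz⟩

/-- Let G be a finite group and N a proper non-trivial normal subgroup such that for every g outside N the conjugacy class of g is a union of cosets of N (equivalently gn is conjugate to g for every n ∈ N). Then either every element of G outside N acts fixed-point-freely on N (C_G(x) ≤ N for all x ∈ N, x ≠ 1, so G is a Frobenius group with kernel N), or N has prime-power order, or G/N has prime-power order. -/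
theorem result {G : Type*} [Group G] [Finite G] (N : Subgroup G) [N.Normal] (hN1 : N ≠ ⊥) (hN2 : N ≠ ⊤)
    (hcam : ∀ g : G, g ∉ N → ∀ n ∈ N, ∃ x : G, x * g * x⁻¹ = g * n) :
    (∀ x ∈ N, x ≠ 1 → Subgroup.centralizer ({x} : Set G) ≤ N) ∨ IsPrimePow (Nat.card N) ∨ IsPrimePow N.index := by
  by_cases hall : ∀ x ∈ N, x ≠ 1 → Subgroup.centralizer ({x} : Set G) ≤ N
  · exact Or.inl hall
  push Not at hall
  obtain ⟨x, hxN, hx1, hnot⟩ := hall
  obtain ⟨y, hyC, hyN⟩ := SetLike.not_le_iff_exists.mp hnot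
  obtain ⟨p, k, hp, z, hzy, hzp, hzN⟩ := exists_primary hyN
  haveI := Fact.mk hp
  have hcomm : Commute z x := by
    obtain ⟨j, rfl⟩ := hzy
    exact ((show Commute y x from (Subgroup.mem_centralizer_singleton_iff.mp hyC)).pow_left j)
  have h1 := Lib.CaminaPair.pow_eq_one hcam hzN hxN hcomm
  rw [hzp] at h1
  have hpN : p ∣ Nat.card N := by
    obtain ⟨j, -, hj⟩ := (Nat.dvd_prime_pow hp).mp (orderOf_dvd_of_pow_eq_one h1)
    rcases Nat.eq_zero_or_pos j with rfl | hj0
    · exact absurd (orderOf_eq_one_iff.mp (by simpa using hj)) hx1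
    · have h2 := orderOf_dvd_natCard (⟨x, hxN⟩ : N)
      rw [Subgroup.orderOf_mk, hj] at h2
      exact (dvd_pow_self p hj0.ne').trans h2
  have hpi : p ∣ N.index := by
    have h3 : orderOf (QuotientGroup.mk' N z) ∣ p ^ k := hzp ▸ orderOf_map_dvd _ z
    obtain ⟨j, -, hj⟩ := (Nat.dvd_prime_pow hp).mp h3
    rcases Nat.eq_zero_or_pos j with rfl | hj0
    · exact absurd ((QuotientGroup.eq_one_iff z).mp (orderOf_eq_one_iff.mp (by simpa using hj))) hzN
    · exact (dvd_pow_self p hj0.ne').trans (hj ▸ orderOf_dvd_natCard (QuotientGroup.mk' N z))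
  exact Or.inr (Lib.CaminaPair.isPrimePow_or hcam hpN hpi)

end Cfsg.Agent.S4140
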