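import Cfsg.Statements.S4142
-- import your own Cfsg.Agent.* helpers here

set_option autoImplicit false
open Cfsg

namespace Cfsg.Agent.S4142

private theorem key {G : Type*} [Group G] [Finite G] (N : Subgroup G) [N.Normal] (g : G) :
    (∀ n ∈ N, ∃ x : G, x * g * x⁻¹ = g * n) ↔
      Nat.card (Subgroup.centralizer ({g} : Set G)) =
        Nat.card (Subgroup.centralizer ({(QuotientGroup.mk g : G ⧸ N)} : Set (G ⧸ N))) := by
  classical
  set π := QuotientGroup.mk' N with hπ
  set D := Subgroup.centralizer ({(QuotientGroup.mk g : G ⧸ N)} : Set (G ⧸ N)) with hD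
  set M := D.comap π with hM
  set C := Subgroup.centralizer ({g} : Set G) with hC
  have memM : ∀ x : G, x ∈ M ↔ g⁻¹ * (x * g * x⁻¹) ∈ N := by
    intro x
    rw [hM, Subgroup.mem_comap, hD, Subgroup.mem_centralizer_singleton_iff,
      ← QuotientGroup.eq_one_iff]
    simp only [hπ, QuotientGroup.mk'_apply, QuotientGroup.mk_mul, QuotientGroup.mk_inv]
    rw [inv_mul_eq_one, eq_mul_inv_iff_mul_eq]
    exact eq_comm
  have hCM : C ≤ M := by
    intro x hx
    rw [hC, Subgroup.mem_centralizer_singleton_iff] at hx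
    rw [memM, hx]; simp
  have hNM : N ≤ M := by
    intro n hn
    rw [hM, Subgroup.mem_comap]
    have : π n = 1 := (QuotientGroup.eq_one_iff n).2 hn
    rw [this]; exact one_mem _
  have cardM : Nat.card M = Nat.card N * Nat.card D := by
    rw [← Subgroup.card_mul_index (N.subgroupOf M),
      Nat.card_congr (Subgroup.subgroupOfEquivOfLe hNM).toEquiv]
    congr 1
    change N.relIndex M = _
    have h := Subgroup.relIndex_comap (⊥ : Subgroup (G ⧸ N)) π M
    rw [MonoidHom.comap_bot, QuotientGroup.ker_mk', Subgroup.relIndex_bot_left, hM,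
      Subgroup.map_comap_eq_self_of_surjective (QuotientGroup.mk'_surjective N)] at h
    exact h
  have hwd : ∀ a b : M, (QuotientGroup.leftRel (C.subgroupOf M)).r a b →
      g⁻¹ * ((a : G) * g * (a : G)⁻¹) = g⁻¹ * ((b : G) * g * (b : G)⁻¹) := by
    intro a b hab
    rw [QuotientGroup.leftRel_apply, Subgroup.mem_subgroupOf, hC,
      Subgroup.mem_centralizer_singleton_iff] at hab
    simp only [Subgroup.coe_mul, Subgroup.coe_inv] at hab
    have : (a : G) * g * (a : G)⁻¹ = (b : G) * g * (b : G)⁻¹ := by
      calc (a : G) * g * (a : G)⁻¹ = (a : G) * (g * ((a : G)⁻¹ * b)) * (b : G)⁻¹ := by group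
        _ = (a : G) * (((a : G)⁻¹ * b) * g) * (b : G)⁻¹ := by rw [hab]
        _ = _ := by group
    rw [this]
  let F : M ⧸ C.subgroupOf M → N := Quotient.lift
    (fun a : M => (⟨g⁻¹ * ((a : G) * g * (a : G)⁻¹), (memM _).1 a.2⟩ : N))
    (fun a b h => Subtype.ext (hwd a b h))
  have Finj : Function.Injective F := by
    intro a b
    induction a using QuotientGroup.induction_on with | H a => ?_
    induction b using QuotientGroup.induction_on with | H b => ?_
    intro h
    have h' : g⁻¹ * ((a : G) * g * (a : G)⁻¹) = g⁻¹ * ((b : G) * g * (b : G)⁻¹) :=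
      congrArg Subtype.val h
    rw [mul_right_inj] at h'
    rw [QuotientGroup.eq, Subgroup.mem_subgroupOf, hC, Subgroup.mem_centralizer_singleton_iff]
    simp only [Subgroup.coe_mul, Subgroup.coe_inv]
    calc (a : G)⁻¹ * b * g = (a : G)⁻¹ * ((b : G) * g * (b : G)⁻¹) * b := by group
      _ = (a : G)⁻¹ * ((a : G) * g * (a : G)⁻¹) * b := by rw [h']
      _ = _ := by group
  have hsurj : Function.Surjective F ↔ (∀ n ∈ N, ∃ x : G, x * g * x⁻¹ = g * n) := by
    constructor
    · intro h n hn
      obtain ⟨a, ha⟩ := h ⟨n, hn⟩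
      induction a using QuotientGroup.induction_on with | H a => ?_
      refine ⟨a, ?_⟩
      have h' : g⁻¹ * ((a : G) * g * (a : G)⁻¹) = n := congrArg Subtype.val ha
      rw [← h']; group
    · intro h n
      obtain ⟨x, hx⟩ := h n n.2
      have hxM : x ∈ M := (memM x).2 (by rw [hx]; simp)
      refine ⟨((⟨x, hxM⟩ : M) : M ⧸ C.subgroupOf M), Subtype.ext ?_⟩
      change g⁻¹ * (x * g * x⁻¹) = n
      rw [hx]; group
  have cardQ : Nat.card (M ⧸ C.subgroupOf M) * Nat.card C = Nat.card N * Nat.card D := by
    rw [← cardM, mul_comm, ← Subgroup.card_mul_index (C.subgroupOf M),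
      Nat.card_congr (Subgroup.subgroupOfEquivOfLe hCM).toEquiv]
    rfl
  rw [← hsurj]
  constructor
  · intro h
    rw [Nat.card_congr (Equiv.ofBijective F ⟨Finj, h⟩)] at cardQ
    exact Nat.eq_of_mul_eq_mul_left Nat.card_pos cardQ
  · intro h
    rw [h] at cardQ
    exact ((Nat.bijective_iff_injective_and_card F).2
      ⟨Finj, Nat.eq_of_mul_eq_mul_right Nat.card_pos cardQ⟩).2

/-- Let G be a finite group and N a normal subgroup. Then the conjugacy class of every element g outside N is a union of cosets of N (gn is conjugate to g for all n ∈ N) if and only if for every g outside N the centralizer of g in G has the same order as the centralizer of gN in G/N. -/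
theorem result {G : Type*} [Group G] [Finite G] (N : Subgroup G) [N.Normal] :
    (∀ g : G, g ∉ N → ∀ n ∈ N, ∃ x : G, x * g * x⁻¹ = g * n) ↔
      ∀ g : G, g ∉ N → Nat.card (Subgroup.centralizer ({g} : Set G)) =
        Nat.card (Subgroup.centralizer ({(QuotientGroup.mk g : G ⧸ N)} : Set (G ⧸ N))) := by
  exact forall_congr' fun g => imp_congr_right fun _ => key N g

end Cfsg.Agent.S4142
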