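import Cfsg.Statements.S4143
-- import your own Cfsg.Agent.* helpers here

set_option autoImplicit false
open Cfsg

namespace Cfsg.Agent.S4143

section Aux

open scoped commutatorElement

variable {p : ℕ} [Fact p.Prime]

private theorem comm_fibre {X : Type*} [Group X] (a g h : X)
    (e1 : g * a * g⁻¹ = h * a * h⁻¹) : (h⁻¹ * g) * a = a * (h⁻¹ * g) := by
  calc h⁻¹ * g * a = h⁻¹ * (g * a * g⁻¹) * g := by group
    _ = h⁻¹ * (h * a * h⁻¹) * g := by rw [e1]
    _ = _ := by group

/-- Two elements of a group of order `p ^ 3` that do not commute generate it. -/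
private theorem closure_pair_eq {X : Type*} [Group X] [Finite X] {B : Subgroup X}
    (hB : Nat.card B = p ^ 3) {b1 b2 : X} (h1 : b1 ∈ B) (h2 : b2 ∈ B) (hne : b1 * b2 ≠ b2 * b1) :
    Subgroup.closure ({b1, b2} : Set X) = B := by
  have hp := (Fact.out : p.Prime)
  have hle : Subgroup.closure ({b1, b2} : Set X) ≤ B := by
    rw [Subgroup.closure_le]; rintro y (rfl | rfl) <;> assumption
  refine Subgroup.eq_of_le_of_card_ge hle ?_
  have h3 := Subgroup.card_dvd_of_le hle
  rw [hB] at h3
  obtain ⟨i, -, hi⟩ := (Nat.dvd_prime_pow hp).1 h3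
  rw [hB, hi]
  refine Nat.pow_le_pow_right hp.pos ?_
  by_contra hi3
  apply hne
  have hb1 : b1 ∈ Subgroup.closure ({b1, b2} : Set X) := Subgroup.subset_closure (by simp)
  have hb2 : b2 ∈ Subgroup.closure ({b1, b2} : Set X) := Subgroup.subset_closure (by simp)
  interval_cases i
  · rw [pow_zero, Subgroup.card_eq_one] at hi
    rw [hi, Subgroup.mem_bot] at hb1
    rw [hb1, one_mul, mul_one]
  · haveI := isCyclic_of_prime_card (hi.trans (pow_one p))
    letI : CommGroup (Subgroup.closure ({b1, b2} : Set X)) := IsCyclic.commGroup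
    exact congrArg Subtype.val (mul_comm (⟨b1, hb1⟩ : Subgroup.closure ({b1, b2} : Set X)) ⟨b2, hb2⟩)
  · exact congrArg Subtype.val (IsPGroup.commutative_of_card_eq_prime_sq hi ⟨b1, hb1⟩ ⟨b2, hb2⟩)

/-- Central subgroups of a non-abelian group of order `p ^ 3` have order at most `p`. -/
private theorem card_central_le {B : Type*} [Group B] [Finite B] (hB : Nat.card B = p ^ 3)
    (hna : ¬ IsMulCommutative B) (W : Subgroup B) (hW : W ≤ Subgroup.center B) : Nat.card W ≤ p := by
  have hp := (Fact.out : p.Prime)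
  have h3 := Subgroup.card_subgroup_dvd_card W
  rw [hB] at h3
  obtain ⟨i, hi, hi'⟩ := (Nat.dvd_prime_pow hp).1 h3
  rw [hi']
  refine le_of_le_of_eq (Nat.pow_le_pow_right hp.pos ?_) (pow_one p)
  by_contra hi2
  haveI : W.Normal := ⟨fun u hu g => by
    rw [Subgroup.mem_center_iff.1 (hW hu) g, mul_inv_cancel_right]; exact hu⟩
  have hq : Nat.card (B ⧸ W) = p ^ (3 - i) := by
    have h4 := Subgroup.card_mul_index W
    rw [hi', hB, Subgroup.index] at h4
    have h5 : p ^ 3 = p ^ i * p ^ (3 - i) := by rw [← pow_add]; congr 1; omega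
    rw [h5] at h4
    exact Nat.eq_of_mul_eq_mul_left (pow_pos hp.pos _) h4
  have hcyc : IsCyclic (B ⧸ W) := by
    rcases Nat.lt_or_ge i 3 with h6 | h6
    · rw [show 3 - i = 1 by omega, pow_one] at hq
      exact isCyclic_of_prime_card hq
    · rw [show 3 - i = 0 by omega, pow_zero] at hq
      haveI := (Nat.card_eq_one_iff_unique.1 hq).1
      exact isCyclic_of_subsingleton
  exact hna ((QuotientGroup.mk' W).isMulCommutative_of_isCyclic_of_ker_le_center
    (by rw [QuotientGroup.ker_mk']; exact hW))

/-- A self-centralising subgroup of order `p ^ 2` lies in a non-abelian one of order `p ^ 3`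
that contains its centraliser. -/
private theorem exists_overgroup {Y : Type*} [Group Y] [Finite Y] {n : ℕ} (hn : Nat.card Y = p ^ n)
    (h3 : 3 ≤ n) (A : Subgroup Y) (hA : Nat.card A = p ^ 2)
    (hCA : Subgroup.centralizer (A : Set Y) ≤ A) :
    ∃ N : Subgroup Y, Nat.card N = p ^ 3 ∧ ¬ IsMulCommutative N ∧
      Subgroup.centralizer (N : Set Y) ≤ N := by
  classical
  have hp := (Fact.out : p.Prime)
  haveI := (IsPGroup.of_card hn).isNilpotent
  set N := Subgroup.normalizer (A : Set Y)
  have hAN : A ≤ N := Subgroup.le_normalizer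
  have hAlt : A < N := by
    refine Group.normalizerCondition_of_isNilpotent A (lt_top_iff_ne_top.2 fun h => ?_)
    have h4 := hA
    rw [h, Subgroup.card_top, hn] at h4
    have := Nat.pow_right_injective hp.two_le h4
    omega
  have hna : ¬ IsMulCommutative N := fun hab => by
    have hle : N ≤ Subgroup.centralizer (A : Set Y) := fun g hg => by
      rw [Subgroup.mem_centralizer_iff]
      exact fun a ha => setLike_mul_comm (hAN ha) hg
    exact (hAlt.trans_le (hle.trans hCA)).ne rfl
  refine ⟨N, ?_, hna, ((Subgroup.centralizer_le (SetLike.coe_subset_coe.2 hAN)).trans hCA).trans hAN⟩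
  have hZA : Subgroup.center Y ≤ A := (Subgroup.center_le_centralizer _).trans hCA
  obtain ⟨a0, ha0, ha0Z⟩ : ∃ a ∈ A, a ∉ Subgroup.center Y := by
    by_contra! h
    have htop : Subgroup.centralizer (A : Set Y) = ⊤ :=
      Subgroup.centralizer_eq_top_iff_subset.2 (fun a ha => h a ha)
    have h4 := Subgroup.card_le_of_le (htop ▸ hCA : ⊤ ≤ A)
    rw [Subgroup.card_top, hn, hA] at h4
    have := (Nat.pow_le_pow_iff_right hp.one_lt).1 h4
    omega
  -- the orbit of `a0` under `N`
  let f : N ⧸ A.subgroupOf N → Y := fun q => (q.out : Y) * a0 * (q.out : Y)⁻¹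
  have hfA : ∀ q, f q ∈ A ∧ f q ∉ Subgroup.center Y := fun q => by
    refine ⟨(Subgroup.mem_normalizer_iff.1 q.out.2 a0).1 ha0, fun hc => ha0Z ?_⟩
    have h := Subgroup.Normal.conj_mem inferInstance (f q) hc (q.out : Y)⁻¹
    simpa [f, mul_assoc] using h
  have hcomm : ∀ x y : A, x * y = y * x := IsPGroup.commutative_of_card_eq_prime_sq hA
  have hgen : ∀ x : Y, x * a0 = a0 * x → x ∈ A := by
    intro x hx
    refine hCA ?_
    obtain ⟨j, -, hj⟩ := IsPGroup.card_center_eq_prime_pow hn (by omega)
    have hsup : Subgroup.center Y ⊔ Subgroup.zpowers a0 = A := by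
      have hle := sup_le hZA (Subgroup.zpowers_le.2 ha0)
      refine Subgroup.eq_of_le_of_card_ge hle ?_
      have h2 := Subgroup.card_dvd_of_le hle
      rw [hA] at h2 ⊢
      obtain ⟨i, hi, hi'⟩ := (Nat.dvd_prime_pow hp).1 h2
      rw [hi']
      refine Nat.pow_le_pow_right hp.pos ?_
      by_contra hi2
      have h9 : Subgroup.center Y = Subgroup.center Y ⊔ Subgroup.zpowers a0 := by
        refine Subgroup.eq_of_le_of_card_ge le_sup_left ?_
        rw [hi']
        haveI : Nontrivial Y := Finite.one_lt_card_iff_nontrivial.1 (hn ▸ Nat.one_lt_pow (by omega) hp.one_lt)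
        obtain ⟨j, hj0, hj⟩ := IsPGroup.card_center_eq_prime_pow hn (by omega)
        rw [hj]
        exact Nat.pow_le_pow_right hp.pos (by omega)
      exact ha0Z (h9.symm ▸ Subgroup.mem_sup_right (Subgroup.mem_zpowers a0))
    have hle : A ≤ Subgroup.centralizer {x} := by
      rw [← hsup]
      exact sup_le (Subgroup.center_le_centralizer _)
        (Subgroup.zpowers_le.2 (Subgroup.mem_centralizer_singleton_iff.2 hx.symm))
    rw [Subgroup.mem_centralizer_iff]
    exact fun y hy => Subgroup.mem_centralizer_singleton_iff.1 (hle hy)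
  have hf : Function.Injective f := by
    intro u v huv
    rw [← QuotientGroup.out_eq' u, ← QuotientGroup.out_eq' v, eq_comm, QuotientGroup.eq,
      Subgroup.mem_subgroupOf]
    exact hgen _ (comm_fibre a0 (u.out : Y) (v.out : Y) huv)
  have hcard : (A.subgroupOf N).index < p ^ 2 := by
    have h1 : (Set.range f).ncard = (A.subgroupOf N).index := by
      rw [← Nat.card_coe_set_eq, Nat.card_range_of_injective hf]; rfl
    rw [← h1, ← hA, show Nat.card A = (A : Set Y).ncard from Nat.card_coe_set_eq _]
    refine Set.ncard_lt_ncard ⟨?_, ?_⟩ (Set.toFinite _)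
    · rintro _ ⟨q, rfl⟩; exact (hfA q).1
    · intro h
      have h1A : (1 : Y) ∈ Set.range f := h A.one_mem
      obtain ⟨q, hq⟩ := h1A
      exact (hfA q).2 (hq ▸ one_mem _)
  obtain ⟨i, hi⟩ := (IsPGroup.iff_card (p := p)).1 ((IsPGroup.of_card hn).to_subgroup N)
  have hlt : Nat.card A < Nat.card N := by
    by_contra h
    exact hAlt.ne (Subgroup.eq_of_le_of_card_ge hAN (not_lt.1 h))
  rw [hA, hi] at hlt
  have h2i := (Nat.pow_lt_pow_iff_right hp.one_lt).1 hlt
  have h5 : p ^ i < p ^ 4 := by
    rw [← hi, ← Subgroup.card_mul_index (A.subgroupOf N),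
      Nat.card_congr (Subgroup.subgroupOfEquivOfLe hAN).toEquiv, hA, show p ^ 4 = p ^ 2 * p ^ 2 by ring]
    exact Nat.mul_lt_mul_of_pos_left hcard (pow_pos hp.pos _)
  have h4i := (Nat.pow_lt_pow_iff_right hp.one_lt).1 h5
  rw [hi, show i = 3 by omega]

private theorem main (p : ℕ) [Fact p.Prime] : ∀ (n : ℕ) {X : Type*} [Group X] [Finite X],
    Nat.card X = p ^ n → ∀ B : Subgroup X, Nat.card B = p ^ 3 → ¬ IsMulCommutative B →
      Subgroup.centralizer (B : Set X) ≤ B → Group.nilpotencyClass X = n - 1 := by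
  intro n
  induction n with
  | zero =>
    intro X _ _ hX B hB
    have h1 := Subgroup.card_subgroup_dvd_card B
    rw [hX, hB, pow_zero, Nat.dvd_one] at h1
    exact absurd h1 (Nat.one_lt_pow three_ne_zero (Fact.out : p.Prime).one_lt).ne'
  | succ n ih =>
    intro X _ _ hX B hB hBna hC
    classical
    have hp := (Fact.out : p.Prime)
    haveI := (IsPGroup.of_card hX).isNilpotent
    have hn3 : 3 ≤ n + 1 := by
      have h1 := Subgroup.card_subgroup_dvd_card B
      rw [hX, hB] at h1
      exact (Nat.pow_dvd_pow_iff_le_right hp.one_lt).1 h1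
    haveI : Nontrivial X := Finite.one_lt_card_iff_nontrivial.1 (hX ▸ Nat.one_lt_pow (by omega) hp.one_lt)
    set CB := Subgroup.centralizer (B : Set X)
    have hCBcard : Nat.card CB ≤ p := by
      rw [← Nat.card_congr (Subgroup.subgroupOfEquivOfLe hC).toEquiv]
      refine card_central_le hB hBna _ fun u hu => ?_
      rw [Subgroup.mem_center_iff]
      exact fun v => Subtype.ext (hu _ v.2)
    have hZcard : Nat.card (Subgroup.center X) = p := by
      obtain ⟨j, hj0, hj⟩ := IsPGroup.card_center_eq_prime_pow hX (by omega)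
      have h1 := (Subgroup.card_le_of_le (Subgroup.center_le_centralizer (B : Set X))).trans hCBcard
      rw [hj] at h1 ⊢
      refine le_antisymm h1 ?_
      exact (pow_one p).ge.trans (Nat.pow_le_pow_right hp.pos hj0)
    set Z := Subgroup.center X with hZdef
    have hZB : Z ≤ B := (Subgroup.center_le_centralizer _).trans hC
    obtain ⟨b1, hb1, b2, hb2, hne⟩ : ∃ u ∈ B, ∃ v ∈ B, u * v ≠ v * u := by
      by_contra! h
      exact hBna ⟨⟨fun u v => Subtype.ext (h u u.2 v v.2)⟩⟩
    have hn : Nat.card (X ⧸ Z) = p ^ n := by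
      have h1 := Subgroup.card_mul_index Z
      rw [hX, hZcard, pow_succ'] at h1
      exact Nat.eq_of_mul_eq_mul_left hp.pos h1
    set π := QuotientGroup.mk' Z
    set A := B.map π
    have hAcard : Nat.card A = p ^ 2 := by
      have h := Subgroup.relIndex_comap (⊥ : Subgroup (X ⧸ Z)) π B
      rw [MonoidHom.comap_bot, QuotientGroup.ker_mk', Subgroup.relIndex_bot_left, Subgroup.relIndex] at h
      have h2 := Subgroup.card_mul_index (Z.subgroupOf B)
      rw [h, Nat.card_congr (Subgroup.subgroupOfEquivOfLe hZB).toEquiv, hZcard, hB, pow_succ' p 2] at h2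
      exact Nat.eq_of_mul_eq_mul_left hp.pos h2
    have hCA : Subgroup.centralizer (A : Set (X ⧸ Z)) ≤ A := by
      set D := (Subgroup.centralizer (A : Set (X ⧸ Z))).comap π with hD
      have hcomm : ∀ x ∈ D, ∀ b ∈ B, ⁅x, b⁆ ∈ Z := by
        intro x hx b hb
        refine (QuotientGroup.eq_one_iff _).1 ?_
        change π ⁅x, b⁆ = 1
        rw [map_commutatorElement, commutatorElement_eq_one_iff_mul_comm]
        exact (Subgroup.mem_centralizer_iff.1 hx _ (Subgroup.mem_map_of_mem π hb)).symm
      have hBD : B ≤ D := by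
        intro b hb
        rw [hD, Subgroup.mem_comap, Subgroup.mem_centralizer_iff]
        exact fun y hy => congrArg Subtype.val
          (IsPGroup.commutative_of_card_eq_prime_sq hAcard ⟨y, hy⟩ ⟨π b, Subgroup.mem_map_of_mem π hb⟩)
      let f : D ⧸ CB.subgroupOf D → Z × Z := fun q =>
        (⟨⁅(q.out : X), b1⁆, hcomm _ q.out.2 _ hb1⟩, ⟨⁅(q.out : X), b2⁆, hcomm _ q.out.2 _ hb2⟩)
      have hf : Function.Injective f := by
        intro u v huv
        rw [← QuotientGroup.out_eq' u, ← QuotientGroup.out_eq' v, eq_comm, QuotientGroup.eq,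
          Subgroup.mem_subgroupOf]
        have e1 := congrArg Subtype.val (congrArg Prod.fst huv)
        have e2 := congrArg Subtype.val (congrArg Prod.snd huv)
        simp only [f, commutatorElement_def] at e1 e2
        have k1 := comm_fibre b1 (u.out : X) (v.out : X) (mul_right_cancel e1)
        have k2 := comm_fibre b2 (u.out : X) (v.out : X) (mul_right_cancel e2)
        have hle : B ≤ Subgroup.centralizer {(v.out : X)⁻¹ * (u.out : X)} := by
          rw [← closure_pair_eq hB hb1 hb2 hne, Subgroup.closure_le]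
          rintro w (rfl | rfl) <;> rw [SetLike.mem_coe, Subgroup.mem_centralizer_singleton_iff]
          · exact k1.symm
          · exact k2.symm
        simp only [Subgroup.coe_mul, Subgroup.coe_inv]
        rw [Subgroup.mem_centralizer_iff]
        exact fun y hy => Subgroup.mem_centralizer_singleton_iff.1 (hle hy)
      have hDle : Nat.card D ≤ Nat.card B := by
        have h1 := Nat.card_le_card_of_injective f hf
        rw [Nat.card_prod, hZcard] at h1
        rw [← Subgroup.card_mul_index (CB.subgroupOf D), hB,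
          Nat.card_congr (Subgroup.subgroupOfEquivOfLe (hC.trans hBD)).toEquiv]
        calc Nat.card CB * (CB.subgroupOf D).index ≤ p * (p * p) := Nat.mul_le_mul hCBcard h1
          _ = p ^ 3 := by ring
      have hDB : B = D := Subgroup.eq_of_le_of_card_ge hBD hDle
      intro y hy
      obtain ⟨x, rfl⟩ := QuotientGroup.mk'_surjective Z y
      exact Subgroup.mem_map_of_mem π (hDB ▸ (show x ∈ D from hy))
    have hcl : Group.nilpotencyClass (X ⧸ Z) = n - 1 := by
      haveI := (IsPGroup.of_card hn).isNilpotent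
      haveI : Nontrivial (X ⧸ Z) := Finite.one_lt_card_iff_nontrivial.1
        (hn ▸ Nat.one_lt_pow (by omega) hp.one_lt)
      by_cases h2 : n = 2
      · have hab : ∀ u v : X ⧸ Z, u * v = v * u := IsPGroup.commutative_of_card_eq_prime_sq (h2 ▸ hn)
        have h1 : Group.nilpotencyClass (X ⧸ Z) ≤ 1 :=
          Group.IsNilpotent.nilpotencyClass_le_one_iff.2 ⟨⟨hab⟩⟩
        have h0 : Group.nilpotencyClass (X ⧸ Z) ≠ 0 := fun h =>
          not_subsingleton (X ⧸ Z) (Group.nilpotencyClass_zero_iff_subsingleton.1 h)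
        omega
      · obtain ⟨N, hN1, hN2, hN3⟩ := exists_overgroup hn (by omega) A hAcard hCA
        exact ih hn N hN1 hN2 hN3
    have hq : Group.nilpotencyClass (X ⧸ Z) = Group.nilpotencyClass X - 1 :=
      Group.nilpotencyClass_quotient_center
    have h0 : Group.nilpotencyClass X ≠ 0 := fun h =>
      not_subsingleton X (Group.nilpotencyClass_zero_iff_subsingleton.1 h)
    omega

end Aux

/-- Let X be a finite p-group of order p^n containing a non-abelian subgroup B of order p³ with C_X(B) ≤ B. Then X has nilpotency class n − 1 (maximal class). -/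
theorem result {X : Type*} [Group X] [Finite X] {p : ℕ} [Fact p.Prime] (n : ℕ) (hX : Nat.card X = p ^ n)
    (B : Subgroup X) (hB : Nat.card B = p ^ 3) (hBna : ¬ IsMulCommutative B) (hC : Subgroup.centralizer (B : Set X) ≤ B) :
    Group.nilpotencyClass X = n - 1 := main p n hX B hB hBna hC

end Cfsg.Agent.S4143
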