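import Cfsg.Statements.S4144
import Cfsg.Agent.Lib.MaxClass.Rank

set_option autoImplicit false
set_option linter.style.haveILetI false
open Cfsg

namespace Cfsg.Agent.S4144

/-- Let X be a finite p-group of order p^n, n ≥ 2, of nilpotency class n − 1 (maximal class), and H any subgroup of X. Then the index in H of the subgroup generated by the p-th powers of elements of H is at most p^p. -/
theorem result {X : Type*} [Group X] [Finite X] {p : ℕ} [Fact p.Prime] (n : ℕ) (hn : 2 ≤ n) (hX : Nat.card X = p ^ n)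
    (hmax : Group.nilpotencyClass X = n - 1) (H : Subgroup X) :
    (Subgroup.closure {y : X | ∃ h ∈ H, y = h ^ p}).relIndex H ≤ p ^ p := by
  have hp := (Fact.out : p.Prime)
  haveI : Group.IsNilpotent X := (IsPGroup.of_card hX).isNilpotent
  refine Cfsg.Agent.Lib.MaxClass.relIndex_powClosure_le ?_
  obtain ⟨e, he⟩ := IsPGroup.iff_card.1 ((IsPGroup.of_card hX).to_subgroup H)
  rcases Nat.lt_or_ge p e with hpe | hpe
  swap
  · rw [he]
    exact (Nat.pow_le_pow_right hp.pos hpe).trans (Nat.le_mul_of_pos_right _ Nat.card_pos)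
  have hen : e ≤ n := by
    have := Subgroup.card_le_of_le (le_top : H ≤ ⊤)
    rwa [he, Subgroup.card_top, hX, Nat.pow_le_pow_iff_right hp.one_lt] at this
  have := hp.two_le
  rcases eq_or_ne p 2 with rfl | hp2
  · have hidx := Cfsg.Agent.Lib.PGroups.index_commutator_of_class (p := 2) n hn hX hmax
    obtain ⟨C, hC, hCi⟩ := Cfsg.Agent.Lib.PGroups.exists_cyclic_index_two n (by omega) hX hidx
    have hcyc : IsCyclic (H ⊓ C : Subgroup X) := Subgroup.isCyclic_of_le inf_le_right
    obtain ⟨g, hg⟩ := (Subgroup.isCyclic_iff_exists_zpowers_eq_top (H := H ⊓ C)).1 hcyc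
    have hgH : g ∈ H := ((hg ▸ Subgroup.mem_zpowers g : g ∈ H ⊓ C)).1
    have h1 : Nat.card H ≤ Nat.card (H ⊓ C : Subgroup X) * 2 := by
      have h2 : C.relIndex H ≤ 2 := by
        haveI : C.Normal := Subgroup.normal_of_index_eq_two hCi
        have := Subgroup.relIndex_dvd_index_of_normal C H
        rw [hCi] at this
        exact Nat.le_of_dvd two_pos this
      have h5 := Subgroup.relIndex_mul_relIndex ⊥ _ H bot_le (inf_le_left : H ⊓ C ≤ H)
      rw [Subgroup.relIndex_bot_left, Subgroup.relIndex_bot_left, inf_comm,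
        Subgroup.inf_relIndex_right] at h5
      rw [inf_comm, ← h5]
      exact Nat.mul_le_mul_left _ h2
    have h2 : Nat.card (H ⊓ C : Subgroup X) ≤
        2 * Nat.card (Cfsg.Agent.Lib.MaxClass.powClosure 2 H) := by
      have h3 : Nat.card (Subgroup.zpowers (g ^ 2)) ≤ Nat.card (Cfsg.Agent.Lib.MaxClass.powClosure 2 H) :=
        Subgroup.card_le_of_le (Subgroup.zpowers_le.2 (Subgroup.subset_closure ⟨g, hgH, rfl⟩))
      rw [← hg, Nat.card_zpowers]
      rw [Nat.card_zpowers] at h3
      refine le_trans ?_ (Nat.mul_le_mul_left 2 h3)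
      refine Nat.le_of_dvd (Nat.mul_pos two_pos (orderOf_pos _)) (orderOf_dvd_of_pow_eq_one ?_)
      rw [pow_mul, pow_orderOf_eq_one]
    calc Nat.card H ≤ Nat.card (H ⊓ C : Subgroup X) * 2 := h1
      _ ≤ 2 * Nat.card (Cfsg.Agent.Lib.MaxClass.powClosure 2 H) * 2 := Nat.mul_le_mul_right 2 h2
      _ = 2 ^ 2 * Nat.card (Cfsg.Agent.Lib.MaxClass.powClosure 2 H) := by ring
  · exact (Cfsg.Agent.Lib.MaxClass.MC.of_class (p := p) (by omega) hX hmax).card_le_powClosure (by omega) H

end Cfsg.Agent.S4144
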