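import Cfsg.Statements.S4145
-- import your own Cfsg.Agent.* helpers here

set_option autoImplicit false
open Cfsg

namespace Cfsg.Agent.S4145

section Aux

open scoped commutatorElement Pointwise

variable {p : ℕ} [Fact p.Prime]

/-- A `p`-element normalising a Sylow subgroup lies in it. -/
private theorem mem_of_pel {G : Type*} [Group G] [Finite G] (P : Sylow p G) {x : G}
    (hx : x ∈ Subgroup.normalizer ((P : Subgroup G) : Set G)) {k : ℕ} (hk : x ^ p ^ k = 1) :
    x ∈ (P : Subgroup G) := by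
  have hp : IsPGroup p (Subgroup.zpowers x) := by
    obtain ⟨j, -, hj⟩ := (Nat.dvd_prime_pow Fact.out).1 (orderOf_dvd_of_pow_eq_one hk)
    exact IsPGroup.of_card (n := j) (by rw [Nat.card_zpowers, hj])
  have hle := P.is_maximal' (hp.to_sup_of_normal_right' P.isPGroup' (Subgroup.zpowers_le.2 hx)) le_sup_right
  exact hle ▸ Subgroup.mem_sup_left (Subgroup.mem_zpowers x)

/-- An element acting on a cyclic Sylow subgroup by a power congruent to `1` mod `p` centralises it. -/
private theorem commute_gen {G : Type*} [Group G] [Finite G] (P : Sylow p G) {x y : G}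
    (hy : Subgroup.zpowers y = (P : Subgroup G))
    (hx : x ∈ Subgroup.normalizer ((P : Subgroup G) : Set G)) (k : ℤ) (hk : x * y * x⁻¹ = y ^ k)
    (hp : (p : ℤ) ∣ k - 1) : Commute x y := by
  obtain ⟨e, he⟩ := (IsPGroup.iff_card (p := p)).1 P.isPGroup'
  have hiter : ∀ j : ℕ, x ^ j * y * (x ^ j)⁻¹ = y ^ (k ^ j) := by
    intro j
    induction j with
    | zero => simp
    | succ j ih =>
      calc x ^ (j + 1) * y * (x ^ (j + 1))⁻¹ = x * (x ^ j * y * (x ^ j)⁻¹) * x⁻¹ := by
            rw [pow_succ']; group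
        _ = MulAut.conj x (y ^ (k ^ j)) := by rw [ih]; rfl
        _ = (x * y * x⁻¹) ^ (k ^ j) := by rw [map_zpow]; rfl
        _ = _ := by rw [hk, ← zpow_mul, ← pow_succ']
  have hord : (orderOf y : ℤ) ∣ k ^ p ^ e - 1 := by
    have h1 : ((p : ℤ) ^ (e + 1)) ∣ k ^ p ^ e - 1 ^ p ^ e := dvd_sub_pow_of_dvd_sub hp e
    rw [one_pow] at h1
    refine dvd_trans ?_ h1
    have : orderOf y = p ^ e := by rw [← Nat.card_zpowers, hy, he]
    rw [this]
    push_cast
    exact pow_dvd_pow _ (Nat.le_succ e)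
  have h1 : x ^ p ^ e ∈ Subgroup.centralizer ({y} : Set G) := by
    rw [Subgroup.mem_centralizer_singleton_iff]
    have h2 : y ^ (k ^ p ^ e - 1) = 1 := orderOf_dvd_iff_zpow_eq_one.1 hord
    rw [zpow_sub, zpow_one, mul_inv_eq_one] at h2
    have := hiter (p ^ e)
    rw [h2] at this
    exact mul_inv_eq_iff_eq_mul.1 this
  set r := ordCompl[p] (orderOf x)
  have hr : x ^ r ∈ Subgroup.centralizer ({y} : Set G) := by
    have hrP : x ^ r ∈ (P : Subgroup G) := by
      refine mem_of_pel P (pow_mem hx r) (k := (orderOf x).factorization p) ?_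
      rw [← pow_mul, mul_comm, Nat.ordProj_mul_ordCompl_eq_self, pow_orderOf_eq_one]
    rw [← hy] at hrP
    obtain ⟨i, hi⟩ := hrP
    rw [Subgroup.mem_centralizer_singleton_iff, ← hi]
    exact ((Commute.refl y).zpow_left i).eq
  have hcop : Nat.Coprime (p ^ e) r :=
    (Nat.coprime_ordCompl Fact.out (orderOf_pos x).ne').pow_left e
  have hx1 : x ∈ Subgroup.centralizer ({y} : Set G) := by
    have hg := Nat.gcd_eq_gcd_ab (p ^ e) r
    rw [hcop] at hg
    rw [← zpow_one x, show (1 : ℤ) = _ from hg, zpow_add, zpow_mul, zpow_mul, zpow_natCast, zpow_natCast]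
    exact mul_mem (zpow_mem h1 _) (zpow_mem hr _)
  exact Subgroup.mem_centralizer_singleton_iff.1 hx1

/-- An element normalising a cyclic Sylow subgroup and centralising a non-trivial element of it centralises it. -/
private theorem centralizes {G : Type*} [Group G] [Finite G] (P : Sylow p G) [IsCyclic (P : Subgroup G)] {x : G}
    (hx : x ∈ Subgroup.normalizer ((P : Subgroup G) : Set G)) {z : G} (hz : z ∈ (P : Subgroup G))
    (hz1 : z ≠ 1) (hxz : Commute x z) : x ∈ Subgroup.centralizer ((P : Subgroup G) : Set G) := by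
  obtain ⟨⟨y, hyP⟩, hy⟩ := IsCyclic.exists_generator (α := (P : Subgroup G))
  have hy' : Subgroup.zpowers y = (P : Subgroup G) := by
    refine le_antisymm (Subgroup.zpowers_le.2 hyP) fun u hu => ?_
    obtain ⟨i, hi⟩ := hy ⟨u, hu⟩
    exact ⟨i, congrArg Subtype.val hi⟩
  obtain ⟨k, hk⟩ : x * y * x⁻¹ ∈ Subgroup.zpowers y := by
    rw [hy']; exact (Subgroup.mem_normalizer_iff.1 hx y).1 hyP
  have hk' : y ^ k = x * y * x⁻¹ := hk
  obtain ⟨i, hi⟩ : z ∈ Subgroup.zpowers y := hy' ▸ hz
  have hi' : y ^ i = z := hi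
  have hzk : z ^ (k - 1) = 1 := by
    rw [zpow_sub, zpow_one, mul_inv_eq_one]
    calc z ^ k = (y ^ k) ^ i := by rw [← hi', ← zpow_mul, ← zpow_mul, mul_comm]
      _ = MulAut.conj x (y ^ i) := by rw [hk', map_zpow]; rfl
      _ = x * z * x⁻¹ := by rw [hi']; rfl
      _ = z := by rw [hxz.eq, mul_inv_cancel_right]
  have hp : (p : ℤ) ∣ k - 1 := by
    refine dvd_trans ?_ (orderOf_dvd_iff_zpow_eq_one.2 hzk)
    obtain ⟨j, hj⟩ := IsPGroup.iff_orderOf.1 P.isPGroup' ⟨z, hz⟩
    rw [Subgroup.orderOf_mk] at hj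
    rw [hj]
    refine Int.natCast_dvd_natCast.2 (dvd_pow_self p fun h0 => hz1 ?_)
    rw [← orderOf_eq_one_iff, hj, h0, pow_zero]
  have h := commute_gen P hy' hx k hk'.symm hp
  rw [Subgroup.mem_centralizer_iff]
  intro u hu
  obtain ⟨j, hj⟩ : u ∈ Subgroup.zpowers y := hy' ▸ hu
  exact hj ▸ (h.zpow_right j).symm.eq

/-- The map of a normal complement of a Sylow subgroup of a normal subgroup is normal. -/
private theorem normal_map_complement {G : Type*} [Group G] [Finite G] (H : Subgroup G) [H.Normal]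
    (S : Sylow p H) (N : Subgroup H) [N.Normal] (hN : N.IsComplement' (S : Subgroup H)) :
    (N.map H.subtype).Normal := by
  have hidx : ∀ u : H, u ^ Nat.card (S : Subgroup H) ∈ N := fun u => by
    rw [← hN.symm.index_eq_card]
    exact N.pow_index_mem u
  obtain ⟨e, he⟩ := (IsPGroup.iff_card (p := p)).1 S.isPGroup'
  have hNp : (Nat.card N).Coprime p := by
    rw [Nat.coprime_comm, (Fact.out : p.Prime).coprime_iff_not_dvd, ← hN.index_eq_card]
    exact S.not_dvd_index
  have key : ∀ u : H, u ∈ N ↔ (orderOf u).Coprime p := by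
    refine fun u => ⟨fun hu => ?_, fun hu => ?_⟩
    · refine Nat.Coprime.coprime_dvd_left ?_ hNp
      simpa [Subgroup.orderOf_mk] using orderOf_dvd_natCard (⟨u, hu⟩ : N)
    · have h1 := hidx u
      rw [he] at h1
      have hcop : (orderOf u).gcd (p ^ e) = 1 := hu.pow_right e
      have hg := Nat.gcd_eq_gcd_ab (orderOf u) (p ^ e)
      rw [hcop] at hg
      rw [← zpow_one u, show (1 : ℤ) = _ from hg, zpow_add, zpow_mul, zpow_mul, zpow_natCast,
        zpow_natCast, pow_orderOf_eq_one, one_zpow, one_mul]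
      exact zpow_mem h1 _
  refine ⟨fun u hu g => ?_⟩
  obtain ⟨v, hv, rfl⟩ := Subgroup.mem_map.1 hu
  refine ⟨MulAut.conjNormal g v, (key _).2 ?_, MulAut.conjNormal_apply g v⟩
  rw [MulEquiv.orderOf_eq]
  exact (key v).1 hv

private theorem main {G : Type*} [Group G] [Finite G] (H : Subgroup G) [H.Normal] (h1 : p ∣ Nat.card H)
    (h2 : p ∣ H.index) (P : Sylow p G) [IsCyclic (P : Subgroup G)] (Q0 : Sylow p H)
    (hQP : (Q0 : Subgroup H).map H.subtype ≤ P) :
    Cfsg.HasNormalPComplement p H ∧ Cfsg.IsPSolvable p G := by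
  classical
  set Q := (Q0 : Subgroup H).map H.subtype
  have hPH : (P : Subgroup G).subgroupOf H = Q0 := by
    refine Q0.is_maximal' (P.isPGroup'.comap_of_injective H.subtype H.subtype_injective) ?_
    exact Subgroup.map_le_iff_le_comap.1 hQP
  have hQmem : ∀ u, u ∈ Q ↔ u ∈ (P : Subgroup G) ∧ u ∈ H := fun u => by
    refine ⟨fun h => ⟨hQP h, by obtain ⟨v, -, rfl⟩ := h; exact v.2⟩, fun h => ?_⟩
    exact ⟨⟨u, h.2⟩, hPH ▸ h.1, rfl⟩
  obtain ⟨⟨y, hyP⟩, hy⟩ := IsCyclic.exists_generator (α := (P : Subgroup G))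
  have hy' : Subgroup.zpowers y = (P : Subgroup G) := by
    refine le_antisymm (Subgroup.zpowers_le.2 hyP) fun u hu => ?_
    obtain ⟨i, hi⟩ := hy ⟨u, hu⟩
    exact ⟨i, congrArg Subtype.val hi⟩
  have hPnH : ¬ (P : Subgroup G) ≤ H := fun h =>
    P.not_dvd_index (h2.trans (Subgroup.index_dvd_of_le h))
  have hcomm : ∀ u ∈ (P : Subgroup G), ∀ v ∈ (P : Subgroup G), u * v = v * u := by
    intro u hu v hv
    obtain ⟨i, rfl⟩ : u ∈ Subgroup.zpowers y := hy' ▸ hu
    obtain ⟨j, rfl⟩ : v ∈ Subgroup.zpowers y := hy' ▸ hv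
    exact zpow_mul_comm y i j
  -- the normaliser of `Q` in `H` centralises it
  have hNC : ∀ h ∈ H, h ∈ Subgroup.normalizer (Q : Set G) → h ∈ Subgroup.centralizer (Q : Set G) := by
    intro h hh hhN
    set D := Subgroup.centralizer (Q : Set G) ⊓ (H ⊔ (P : Subgroup G)) with hD
    have hPD : (P : Subgroup G) ≤ D := fun u hu => ⟨Subgroup.mem_centralizer_iff.2 fun q hq =>
      hcomm q (hQP hq) u hu, Subgroup.mem_sup_right hu⟩
    have hPD2 : ((h • P : Sylow p G) : Subgroup G) ≤ D := by
      intro u hu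
      rw [Sylow.coe_subgroup_smul] at hu
      obtain ⟨v, hv, rfl⟩ := hu
      change h * v * h⁻¹ ∈ D
      have hv' := hPD hv
      refine ⟨Subgroup.mem_centralizer_iff.2 fun q hq => ?_, Subgroup.mul_mem _ (Subgroup.mul_mem _ (Subgroup.mem_sup_left hh)
        hv'.2) (Subgroup.inv_mem _ (Subgroup.mem_sup_left hh))⟩
      have hq' : h⁻¹ * q * h ∈ Q := by
        have := (Subgroup.mem_normalizer_iff.1 (inv_mem hhN) q).1 hq
        simpa using this
      have := Subgroup.mem_centralizer_iff.1 hv'.1 _ hq'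
      calc q * (h * v * h⁻¹) = h * ((h⁻¹ * q * h) * v) * h⁻¹ := by group
        _ = h * (v * (h⁻¹ * q * h)) * h⁻¹ := by rw [this]
        _ = _ := by group
    obtain ⟨d, hd⟩ := MulAction.exists_smul_eq D (P.subtype hPD) ((h • P).subtype hPD2)
    rw [Sylow.smul_subtype] at hd
    have hd' : (d : G) • P = h • P := Sylow.subtype_injective hd
    set n := (d : G)⁻¹ * h with hn
    have hnN : n ∈ Subgroup.normalizer ((P : Subgroup G) : Set G) := by
      exact Sylow.smul_eq_iff_mem_normalizer.1 (by rw [hn, mul_smul, ← hd', inv_smul_smul])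
    have hnHP : n ∈ ((H ⊔ (P : Subgroup G) : Subgroup G) : Set G) :=
      mul_mem (inv_mem d.2.2) (Subgroup.mem_sup_left hh)
    rw [Subgroup.normal_mul] at hnHP
    obtain ⟨m, hm, u, hu, hmu⟩ := hnHP
    have hmu' : m * u = n := hmu
    have hmN : m ∈ Subgroup.normalizer ((P : Subgroup G) : Set G) := by
      rw [show m = n * u⁻¹ by rw [← hmu']; group]
      exact mul_mem hnN (inv_mem (Subgroup.le_normalizer hu))
    obtain ⟨k, hk⟩ : m * y * m⁻¹ ∈ Subgroup.zpowers y := by
      rw [hy']; exact (Subgroup.mem_normalizer_iff.1 hmN y).1 hyP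
    have hk' : y ^ k = m * y * m⁻¹ := hk
    have hkp : (p : ℤ) ∣ k - 1 := by
      by_contra hnd
      have hyk : y ^ (k - 1) ∈ H := by
        rw [zpow_sub, zpow_one, hk']
        have := Subgroup.Normal.conj_mem (inferInstance : H.Normal) m⁻¹ (inv_mem hm) y
        have h3 := mul_mem hm this
        simpa [mul_assoc] using h3
      obtain ⟨e, he⟩ := (IsPGroup.iff_card (p := p)).1 P.isPGroup'
      have hco : Int.gcd (k - 1) ((p ^ e : ℕ) : ℤ) = 1 := by
        rw [← Int.isCoprime_iff_gcd_eq_one]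
        push_cast
        exact (((Nat.prime_iff_prime_int.1 Fact.out).coprime_iff_not_dvd).2 hnd).symm.pow_right
      refine hPnH (hy' ▸ Subgroup.zpowers_le.2 ?_)
      have hord : y ^ ((p ^ e : ℕ) : ℤ) = 1 := by
        rw [zpow_natCast, ← he, ← hy', Nat.card_zpowers, pow_orderOf_eq_one]
      have hg := Int.gcd_eq_gcd_ab (k - 1) ((p ^ e : ℕ) : ℤ)
      rw [hco, Nat.cast_one] at hg
      rw [← zpow_one y, hg, zpow_add, zpow_mul, zpow_mul, hord, one_zpow, mul_one]
      exact zpow_mem hyk _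
    have hmy := commute_gen P hy' hmN k hk'.symm hkp
    have hmC : m ∈ Subgroup.centralizer (Q : Set G) := Subgroup.mem_centralizer_iff.2 fun q hq => by
      obtain ⟨i, rfl⟩ : q ∈ Subgroup.zpowers y := hy' ▸ hQP hq
      exact (hmy.zpow_right i).symm.eq
    have : h = (d : G) * (m * u) := by rw [hmu', hn, mul_inv_cancel_left]
    rw [this]
    exact mul_mem d.2.1 (mul_mem hmC (hPD hu).1)
  -- Burnside in `H`
  have hB : Subgroup.normalizer ((Q0 : Subgroup H) : Set H) ≤ Subgroup.centralizer ((Q0 : Subgroup H) : Set H) := by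
    intro a ha
    have haN : (a : G) ∈ Subgroup.normalizer (Q : Set G) := by
      rw [Subgroup.mem_normalizer_iff]
      intro q
      constructor
      · rintro ⟨v, hv, rfl⟩
        exact ⟨_, (Subgroup.mem_normalizer_iff.1 ha v).1 hv, rfl⟩
      · rintro ⟨v, hv, hvq⟩
        refine ⟨a⁻¹ * v * a, (Subgroup.mem_normalizer_iff.1 ha _).2 (by rw [show a * (a⁻¹ * v * a) * a⁻¹ = v by group]; exact hv), ?_⟩
        simp only [map_mul, map_inv, hvq]
        change (a : G)⁻¹ * ((a : G) * q * (a : G)⁻¹) * (a : G) = q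
        group
    rw [Subgroup.mem_centralizer_iff]
    exact fun v hv => Subtype.ext
      (Subgroup.mem_centralizer_iff.1 (hNC _ a.2 haN) _ ⟨v, hv, rfl⟩)
  set NH := (MonoidHom.transferSylow Q0 hB).ker
  have hNH : NH.IsComplement' (Q0 : Subgroup H) := MonoidHom.ker_transferSylow_isComplement' Q0 hB
  refine ⟨⟨Q0, NH, inferInstance, hNH⟩, ?_⟩
  -- pass to the quotient by the complement
  set O := NH.map H.subtype with hO
  haveI : O.Normal := normal_map_complement H Q0 NH hNH
  have hOcard : Nat.card O = Nat.card NH := Subgroup.card_map_of_injective H.subtype_injective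
  have hOH : O ≤ H := Subgroup.map_subtype_le NH
  set π := QuotientGroup.mk' O
  have hπ : Function.Surjective π := QuotientGroup.mk'_surjective O
  set Hb := H.map π
  haveI : Hb.Normal := Subgroup.Normal.map inferInstance π hπ
  have hrel : O.relIndex H = Nat.card (Q0 : Subgroup H) := by
    rw [← hNH.symm.index_eq_card, Subgroup.relIndex, Subgroup.subgroupOf, hO,
      Subgroup.comap_map_eq_self_of_injective H.subtype_injective]
  have hHb : Nat.card Hb = Nat.card (Q0 : Subgroup H) := by
    have h := Subgroup.relIndex_comap (⊥ : Subgroup (G ⧸ O)) π H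
    rw [MonoidHom.comap_bot, QuotientGroup.ker_mk', Subgroup.relIndex_bot_left, hrel] at h
    exact h.symm
  set Pb := P.mapSurjective hπ
  haveI : IsCyclic (Pb : Subgroup (G ⧸ O)) :=
    isCyclic_of_surjective (π.subgroupMap (P : Subgroup G)) (π.subgroupMap_surjective _)
  have hHbP : Hb ≤ (Pb : Subgroup (G ⧸ O)) := by
    obtain ⟨e, he⟩ := (IsPGroup.iff_card (p := p)).1 Q0.isPGroup'
    rw [← Pb.is_maximal' (Pb.isPGroup'.to_sup_of_normal_right (IsPGroup.of_card (hHb.trans he))) le_sup_left]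
    exact le_sup_right
  obtain ⟨z, hz, hz1⟩ : ∃ z ∈ Hb, z ≠ 1 := by
    by_contra! hcon
    have h1' : Hb = ⊥ := (Subgroup.eq_bot_iff_forall _).2 hcon
    rw [h1', Subgroup.card_bot] at hHb
    exact Q0.ne_bot_of_dvd_card h1 (Subgroup.card_eq_one.1 hHb.symm)
  set C := Subgroup.centralizer (Hb : Set (G ⧸ O)) with hC
  have hPC : (Pb : Subgroup (G ⧸ O)) ≤ C := by
    intro u hu
    rw [hC, Subgroup.mem_centralizer_iff]
    intro q hq
    letI : CommGroup (Pb : Subgroup (G ⧸ O)) := IsCyclic.commGroup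
    exact congrArg Subtype.val (mul_comm (⟨q, hHbP hq⟩ : (Pb : Subgroup (G ⧸ O))) ⟨u, hu⟩)
  set S := Pb.subtype hPC
  have hS : Subgroup.normalizer ((S : Subgroup C) : Set C) ≤ Subgroup.centralizer ((S : Subgroup C) : Set C) := by
    intro a ha
    have haN : (a : G ⧸ O) ∈ Subgroup.normalizer ((Pb : Subgroup (G ⧸ O)) : Set (G ⧸ O)) := by
      rw [Subgroup.mem_normalizer_iff]
      intro q
      constructor
      · exact fun hq => (Subgroup.mem_normalizer_iff.1 ha ⟨q, hPC hq⟩).1 hq
      · intro hq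
        have hqC : q ∈ C := by
          simpa [mul_assoc] using mul_mem (mul_mem (inv_mem a.2) (hPC hq)) a.2
        exact (Subgroup.mem_normalizer_iff.1 ha ⟨q, hqC⟩).2 hq
    have := centralizes Pb haN (hHbP hz) hz1 (Subgroup.mem_centralizer_iff.1 a.2 z hz).symm
    rw [Subgroup.mem_centralizer_iff]
    exact fun v hv => Subtype.ext (Subgroup.mem_centralizer_iff.1 this _ hv)
  set NC := (MonoidHom.transferSylow S hS).ker
  have hNC' : NC.IsComplement' (S : Subgroup C) := MonoidHom.ker_transferSylow_isComplement' S hS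
  set W := NC.map C.subtype with hW
  haveI : W.Normal := normal_map_complement C S NC hNC'
  have hWC : W ≤ C := Subgroup.map_subtype_le NC
  have hle2 : W.comap π ≤ C.comap π := Subgroup.comap_mono hWC
  have hrelcomap : ∀ X Y : Subgroup (G ⧸ O), (X.comap π).relIndex (Y.comap π) = X.relIndex Y := fun X Y => by
    rw [Subgroup.relIndex_comap, Subgroup.map_comap_eq_self_of_surjective hπ]
  refine ⟨4, ![⊥, O, W.comap π, C.comap π, ⊤], rfl, rfl, ?_, ?_, ?_⟩
  · refine Fin.monotone_iff_le_succ.2 ?_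
    intro i
    fin_cases i <;> simp
    · exact (QuotientGroup.ker_mk' O).ge.trans (π.ker_le_comap W)
    · exact hle2
  · intro i
    fin_cases i <;> simp <;> first | infer_instance | exact Subgroup.Normal.comap inferInstance π
  · intro i
    have hnd : ∀ {m : ℕ}, ¬ p ∣ m → m.Coprime p := fun h =>
      ((Nat.Prime.coprime_iff_not_dvd Fact.out).2 h).symm
    fin_cases i
    · right
      change ((⊥ : Subgroup G).relIndex O).Coprime p
      rw [Subgroup.relIndex_bot_left, hOcard, ← hNH.index_eq_card]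
      exact hnd Q0.not_dvd_index
    · right
      change (O.relIndex (W.comap π)).Coprime p
      have h := hrelcomap ⊥ W
      rw [MonoidHom.comap_bot, QuotientGroup.ker_mk', Subgroup.relIndex_bot_left] at h
      rw [h, hW, Subgroup.card_map_of_injective C.subtype_injective, ← hNC'.index_eq_card]
      exact hnd S.not_dvd_index
    · left
      obtain ⟨e, he⟩ := (IsPGroup.iff_card (p := p)).1 S.isPGroup'
      refine ⟨e, ?_⟩
      change (W.comap π).relIndex (C.comap π) = p ^ e
      rw [hrelcomap, Subgroup.relIndex, Subgroup.subgroupOf, hW,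
        Subgroup.comap_map_eq_self_of_injective C.subtype_injective, hNC'.symm.index_eq_card, he]
    · right
      change ((C.comap π).relIndex ⊤).Coprime p
      rw [Subgroup.relIndex_top_right, Subgroup.index_comap_of_surjective _ hπ]
      exact hnd fun h => Pb.not_dvd_index (h.trans (Subgroup.index_dvd_of_le hPC))

end Aux

/-- Let G be a finite group with a cyclic Sylow p-subgroup and H a normal subgroup such that p divides both the order of H and the index of H. Then H has a normal p-complement and G is p-solvable. -/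
theorem result {G : Type*} [Group G] [Finite G] (p : ℕ) [Fact p.Prime]
    (P : Sylow p G) (hP : IsCyclic (P : Subgroup G)) (H : Subgroup G) [H.Normal] (h1 : p ∣ Nat.card H) (h2 : p ∣ H.index) :
    Cfsg.HasNormalPComplement p H ∧ Cfsg.IsPSolvable p G := by
  obtain ⟨Q0⟩ := (inferInstance : Nonempty (Sylow p H))
  obtain ⟨R, hR⟩ := (Q0.isPGroup'.map H.subtype).exists_le_sylow
  haveI := hP
  haveI : IsCyclic (R : Subgroup G) := isCyclic_of_surjective (P.equiv R) (P.equiv R).surjective
  exact main H h1 h2 R Q0 hR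

end Cfsg.Agent.S4145
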