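import Cfsg.Statements.S4149
import Cfsg.Agent.Lib.ClassSizes.Basic

set_option autoImplicit false
open Cfsg

namespace Cfsg.Agent.S4149

open Cfsg.Agent.Lib.ClassSizes.Basic

/-- If the automiser of a Sylow `r`-subgroup is nontrivial, at most half of the elements have class size prime
to `r`. -/
theorem two_mul_card_le {G : Type*} [Group G] [Fintype G] [DecidableEq G] {r : ℕ} [Fact r.Prime] (R : Sylow r G)
    (hR : ¬ Subgroup.normalizer ((R : Subgroup G) : Set G) ≤
      Subgroup.centralizer ((R : Subgroup G) : Set G)) :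
    2 * ((Finset.univ : Finset G).filter fun x =>
      ¬ r ∣ (Subgroup.centralizer ({x} : Set G)).index).card ≤ Nat.card G := by
  classical
  set N := Subgroup.normalizer ((R : Subgroup G) : Set G) with hN
  set C := Subgroup.centralizer ((R : Subgroup G) : Set G) with hC
  have hCN : C ≤ N := Subgroup.centralizer_le_normalizer _
  have := Fintype.ofFinite (G ⧸ N)
  let U : Finset G := Finset.univ.biUnion fun c : G ⧸ N =>
    (Finset.univ.filter fun x : G => x ∈ C).image fun x => c.out * x * c.out⁻¹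
  have hsub : ((Finset.univ : Finset G).filter fun x =>
      ¬ r ∣ (Subgroup.centralizer ({x} : Set G)).index) ⊆ U := by
    intro x hx
    have hxr := (Finset.mem_filter.mp hx).2
    obtain ⟨S, hS⟩ := exists_sylow_le hxr
    obtain ⟨g, hg⟩ := MulAction.exists_smul_eq G R S
    obtain ⟨n, hn⟩ := QuotientGroup.mk_out_eq_mul N g
    refine Finset.mem_biUnion.mpr ⟨(g : G ⧸ N), Finset.mem_univ _, Finset.mem_image.mpr
      ⟨(n : G)⁻¹ * (g⁻¹ * x * g) * n, Finset.mem_filter.mpr ⟨Finset.mem_univ _, ?_⟩, by rw [hn]; group⟩⟩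
    rw [hC, Subgroup.mem_centralizer_iff]
    intro a ha
    have ha' : (n : G) * a * (n : G)⁻¹ ∈ (R : Subgroup G) :=
      (Subgroup.mem_normalizer_iff.mp n.2 a).mp ha
    have hga : g * ((n : G) * a * (n : G)⁻¹) * g⁻¹ ∈ (S : Subgroup G) := by
      rw [← hg, Sylow.coe_subgroup_smul]
      exact Subgroup.smul_mem_pointwise_smul _ (MulAut.conj g) _ ha'
    have hcomm := mem_cen.mp (hS hga)
    calc a * ((n : G)⁻¹ * (g⁻¹ * x * g) * n)
        = (n : G)⁻¹ * (g⁻¹ * (g * ((n : G) * a * (n : G)⁻¹) * g⁻¹ * x) * g) * n := by group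
      _ = (n : G)⁻¹ * (g⁻¹ * (x * (g * ((n : G) * a * (n : G)⁻¹) * g⁻¹)) * g) * n := by
          rw [hcomm]
      _ = _ := by group
  have hcard : U.card ≤ N.index * Nat.card C := by
    refine Finset.card_biUnion_le.trans ((Finset.sum_le_card_nsmul _ _ (Nat.card C) fun c _ => ?_).trans
      (le_of_eq ?_))
    · refine Finset.card_image_le.trans (le_of_eq ?_)
      rw [Nat.card_eq_fintype_card, Fintype.card_subtype]
    · rw [smul_eq_mul, Finset.card_univ, Subgroup.index, Nat.card_eq_fintype_card (α := G ⧸ N)]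
  have hrel : 2 ≤ C.relIndex N := by
    have h1 : C.relIndex N ≠ 0 := Subgroup.index_ne_zero_of_finite
    have h2 : C.relIndex N ≠ 1 := fun h => hR (Subgroup.relIndex_eq_one.mp h)
    omega
  calc 2 * ((Finset.univ : Finset G).filter fun x =>
        ¬ r ∣ (Subgroup.centralizer ({x} : Set G)).index).card
      ≤ 2 * (N.index * Nat.card C) := Nat.mul_le_mul_left _ ((Finset.card_le_card hsub).trans hcard)
    _ ≤ C.relIndex N * (N.index * Nat.card C) := Nat.mul_le_mul_right _ hrel
    _ = Nat.card G := by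
        rw [← mul_assoc, Subgroup.relIndex_mul_index hCN, mul_comm, Subgroup.card_mul_index]


/-- Let G be a finite group that has a normal p-complement for at most one prime p dividing its order, and let σ be a natural number such that every conjugacy class size of G has at most σ distinct prime divisors. Then the number of primes dividing at least one conjugacy class size of G is at most 2σ. -/
theorem result {G : Type*} [Group G] [Finite G] (σ : ℕ)
    (hσ : ∀ x : G, ((Subgroup.centralizer ({x} : Set G)).index).primeFactors.card ≤ σ)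
    (hnil : ∀ p q : ℕ, p.Prime → q.Prime → p ∣ Nat.card G → q ∣ Nat.card G →
      Cfsg.HasNormalPComplement p G → Cfsg.HasNormalPComplement q G → p = q) :
    Nat.card {p : ℕ | p.Prime ∧ ∃ x : G, p ∣ (Subgroup.centralizer ({x} : Set G)).index} ≤ 2 * σ := by
  classical
  have := Fintype.ofFinite G
  set T : Finset ℕ := (Finset.range (Nat.card G + 1)).filter fun p =>
    p.Prime ∧ ∃ x : G, p ∣ (Subgroup.centralizer ({x} : Set G)).index with hT
  have hmemT : ∀ p : ℕ, (p.Prime ∧ ∃ x : G, p ∣ (Subgroup.centralizer ({x} : Set G)).index) →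
      p ∈ T ∧ p ∣ Nat.card G := by
    rintro p ⟨hp, x, hx⟩
    have hd : p ∣ Nat.card G := hx.trans (Subgroup.index_dvd_card _)
    exact ⟨Finset.mem_filter.2 ⟨Finset.mem_range.2 (Nat.lt_succ_of_le (Nat.le_of_dvd Nat.card_pos hd)), hp, x, hx⟩, hd⟩
  have hTset : {p : ℕ | p.Prime ∧ ∃ x : G, p ∣ (Subgroup.centralizer ({x} : Set G)).index} = ↑T := by
    ext p
    exact ⟨fun h => (hmemT p h).1, fun h => (Finset.mem_filter.1 h).2⟩
  rw [Nat.card_coe_set_eq, hTset, Set.ncard_coe_finset]
  by_contra hlt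
  let D : G → ℕ → Prop := fun x p => p ∣ (Subgroup.centralizer ({x} : Set G)).index
  -- every element has at most `σ` of the primes
  have hupper : ∑ p ∈ T, (Finset.univ.filter fun x => D x p).card ≤ Nat.card G * σ := by
    have h1 : ∑ p ∈ T, (Finset.univ.filter fun x => D x p).card = ∑ x : G, (T.filter fun p => D x p).card := by
      simp only [Finset.card_filter]
      exact Finset.sum_comm
    rw [h1, Nat.card_eq_fintype_card, ← Finset.card_univ, ← smul_eq_mul]
    refine Finset.sum_le_card_nsmul _ _ _ fun x _ => le_trans (Finset.card_le_card fun p hp => ?_) (hσ x)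
    obtain ⟨hp1, hp2⟩ := Finset.mem_filter.1 hp
    exact Nat.mem_primeFactors.2 ⟨(Finset.mem_filter.1 hp1).2.1, hp2, Subgroup.index_ne_zero_of_finite⟩
  -- the primes with a normal complement
  let T0 : Finset ℕ := T.filter fun p =>
    p.Prime ∧ Cfsg.HasNormalPComplement p G
  have hT0 : T0.card ≤ 1 := by
    refine Finset.card_le_one.2 fun p hp q hq => ?_
    obtain ⟨hp1, hp2, hp3⟩ := Finset.mem_filter.1 hp
    obtain ⟨hq1, hq2, hq3⟩ := Finset.mem_filter.1 hq
    exact hnil p q hp2 hq2 (hmemT p (Finset.mem_filter.1 hp1).2).2 (hmemT q (Finset.mem_filter.1 hq1).2).2 hp3 hq3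
  have hlow : ∀ p ∈ T, p ∉ T0 → Nat.card G ≤ 2 * (Finset.univ.filter fun x => D x p).card := by
    intro p hp hp0
    obtain ⟨-, hpp, -⟩ := Finset.mem_filter.1 hp
    have := Fact.mk hpp
    obtain ⟨R⟩ : Nonempty (Sylow p G) := inferInstance
    have hR : ¬ Subgroup.normalizer ((R : Subgroup G) : Set G) ≤
        Subgroup.centralizer ((R : Subgroup G) : Set G) := by
      intro h
      obtain ⟨-, N, hN, hc, -, -⟩ := exists_abelian_complement R h
      exact hp0 (Finset.mem_filter.2 ⟨hp, hpp, R, N, hN, hc⟩)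
    have h1 := two_mul_card_le R hR
    have h2 := Finset.card_filter_add_card_filter_not (s := (Finset.univ : Finset G)) (fun x => D x p)
    rw [Finset.card_univ, ← Nat.card_eq_fintype_card] at h2
    simp only [D] at h2 ⊢
    omega
  have hpos : ∀ p ∈ T, 1 ≤ (Finset.univ.filter fun x => D x p).card := by
    intro p hp
    obtain ⟨x, hx⟩ := (Finset.mem_filter.1 hp).2.2
    exact Finset.card_pos.2 ⟨x, Finset.mem_filter.2 ⟨Finset.mem_univ _, hx⟩⟩
  have hsum : (T.card - T0.card) * Nat.card G + T0.card ≤ 2 * ∑ p ∈ T, (Finset.univ.filter fun x => D x p).card := by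
    rw [Finset.mul_sum, ← Finset.sum_sdiff (Finset.filter_subset _ T : T0 ⊆ T)]
    refine add_le_add ?_ ?_
    · rw [← Finset.card_sdiff_of_subset (Finset.filter_subset _ T : T0 ⊆ T), ← smul_eq_mul]
      exact Finset.card_nsmul_le_sum _ _ _ fun p hp =>
        hlow p (Finset.mem_sdiff.1 hp).1 (Finset.mem_sdiff.1 hp).2
    · calc T0.card = ∑ _p ∈ T0, 1 := by simp
        _ ≤ _ := Finset.sum_le_sum fun p hp => le_trans (by norm_num)
          (Nat.mul_le_mul_left 2 (hpos p (Finset.mem_filter.1 hp).1))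
  have hG : 0 < Nat.card G := Nat.card_pos
  have h3 : 2 * σ + 1 ≤ T.card := by omega
  rcases Nat.le_one_iff_eq_zero_or_eq_one.1 hT0 with h | h <;> rw [h] at hsum
  · rw [Nat.sub_zero, add_zero] at hsum
    have := Nat.mul_le_mul_right (Nat.card G) h3
    nlinarith
  · obtain ⟨k, hk⟩ : ∃ k, T.card = 2 * σ + 1 + k := ⟨T.card - (2 * σ + 1), by omega⟩
    rw [hk, show 2 * σ + 1 + k - 1 = 2 * σ + k by omega] at hsum
    nlinarith

end Cfsg.Agent.S4149
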