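import Cfsg.Statements.S4151
import Mathlib
import Cfsg.Agent.Lib.TIHall.Structure
import Cfsg.Agent.Lib.Coprime.Glauberman
import Cfsg.Agent.Lib.Coprime.Commutator
import Cfsg.Agent.Lib.Spectrum.Basic

set_option autoImplicit false
set_option linter.style.haveILetI false
open Cfsg

namespace Cfsg.Agent.S4151

open Subgroup
open scoped commutatorElement

/-- A group with a fixed-point-free linear representation and abelian Sylow two-subgroups has all
Sylow subgroups cyclic. -/
theorem isZGroup_of_lin {H : Type*} [Group H] [Finite H]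
    (hlin : Lib.FpfLinear.Linearize.HasLinFPF H)
    (h2 : ∀ P : Sylow 2 H, IsMulCommutative (P : Subgroup H)) : IsZGroup H := by
  obtain ⟨m, hm, ρ, hρ⟩ := hlin
  haveI : NeZero m := ⟨hm.ne'⟩
  refine ⟨fun p hp P => ?_⟩
  haveI := Fact.mk hp
  rcases eq_or_ne p 2 with rfl | hp2
  · exact Lib.FpfLinear.Basic.isCyclic_of_comm hρ _ (h2 P)
  · exact Lib.FpfLinear.Perfect.sylow_odd_cyclic hρ hp2 _ P.2

variable {G : Type*} [Group G] [Finite G]

/-- Each prime has an invariant Sylow subgroup that is centralised, or is a commutator and meets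
the centralizer trivially. -/
theorem sylow_dichotomy {H Q : Subgroup G} [IsZGroup H] (hQ : Q ≤ normalizer (H : Set G))
    (hcop : (Nat.card Q).Coprime (Nat.card H)) (p : ℕ) [Fact p.Prime] :
    ∃ P : Subgroup G, P ≤ H ∧ IsPGroup p P ∧ Nat.card P = p ^ (Nat.card H).factorization p ∧
      IsCyclic P ∧ Q ≤ normalizer (P : Set G) ∧
      (P ≤ centralizer (Q : Set G) ∨
        (⁅Q, P⁆ = P ∧ ¬ p ∣ Nat.card ↥(H ⊓ centralizer (Q : Set G)))) := by
  have hsolv : Group.IsSolvable Q ∨ Group.IsSolvable H := Or.inr inferInstance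
  set C := H ⊓ centralizer (Q : Set G) with hC
  obtain ⟨U, hU, hUp, hUn, hU1⟩ : ∃ U : Subgroup G, U ≤ C ∧ IsPGroup p U ∧
      Q ≤ normalizer (U : Set G) ∧ (p ∣ Nat.card C → U ≠ ⊥) := by
    by_cases hp : p ∣ Nat.card C
    · obtain ⟨c, hc⟩ := exists_prime_orderOf_dvd_card' p hp
      refine ⟨zpowers (c : G), zpowers_le.mpr c.2, ?_, ?_, fun _ h => ?_⟩
      · exact IsPGroup.of_card (n := 1) (by rw [Nat.card_zpowers, orderOf_coe, hc, pow_one])
      · intro q hq
        refine Lib.Coprime.mem_normalizer_of_conj_smul_eq ?_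
        have hqc : q * (c : G) * q⁻¹ = c := by
          rw [mem_centralizer_iff.mp (mem_inf.mp c.2).2 q hq, mul_inv_cancel_right]
        rw [Lib.Coprime.conj_smul_eq_map, MonoidHom.map_zpowers]
        simp [hqc]
      · have h1 : (c : G) = 1 := zpowers_eq_bot.mp h
        have := congrArg orderOf h1
        rw [orderOf_coe, hc, orderOf_one] at this
        exact (Fact.out : p.Prime).ne_one this
    · exact ⟨⊥, bot_le, IsPGroup.of_bot, le_top.trans (normalizer_eq_top (H := (⊥ : Subgroup G))).ge,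
        fun h => absurd h hp⟩
  obtain ⟨P, hUP, hP⟩ := Lib.Coprime.exists_invariant_sylow_ge hQ hcop hsolv p U
    (hU.trans inf_le_left) hUp hUn
  have hcyc : IsCyclic (P : Subgroup H) := inferInstance
  have hcyc' : IsCyclic ((P : Subgroup H).map H.subtype) :=
    isCyclic_of_surjective _ ((P : Subgroup H).equivMapOfInjective H.subtype H.subtype_injective).surjective
  have hcard := Lib.Coprime.card_sylow_map P
  set P' := (P : Subgroup H).map H.subtype with hP'
  have hP'p : IsPGroup p P' := P.2.map _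
  have hP'H : P' ≤ H := map_subtype_le _
  refine ⟨P', hP'H, hP'p, ?_, hcyc', hP, ?_⟩
  · rw [hP', card_map_of_injective H.subtype_injective, P.card_eq_multiplicity]
  rcases IsPGroup.commutator_eq_bot_or_commutator_eq_self hP'p hP
      (hcop.symm.coprime_dvd_left (card_dvd_of_le hP'H)) with h | h
  · exact Or.inl (le_centralizer_iff.mp (commutator_eq_bot_iff_le_centralizer.mp h))
  · refine Or.inr ⟨h, fun hp => hU1 hp ?_⟩
    haveI : IsMulCommutative P' := IsCyclic.isMulCommutative
    have h3 := Lib.Coprime.centralizer_inf_commutator_eq_bot hP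
      (hcop.coprime_dvd_right (card_dvd_of_le hP'H))
    rw [commutator_comm, h] at h3
    rw [eq_bot_iff, ← h3]
    exact fun x hx => ⟨⟨hUP hx, (hU hx).2⟩, hUP hx⟩

/-- A moved invariant Sylow subgroup of a Z-group is normal. -/
theorem le_normalizer_of_moved {H Q P : Subgroup G} [IsZGroup H]
    (hQ : Q ≤ normalizer (H : Set G)) {p : ℕ} [Fact p.Prime] (hPH : P ≤ H) (hPp : IsPGroup p P)
    (hPc : Nat.card P = p ^ (Nat.card H).factorization p) (hcyc : IsCyclic P)
    (hcomm : ⁅Q, P⁆ = P) : H ≤ normalizer (P : Set G) := by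
  set A := (_root_.commutator H).map H.subtype with hA
  haveI : IsCyclic (_root_.commutator H) := IsZGroup.isCyclic_commutator _
  haveI : IsCyclic A :=
    isCyclic_of_surjective _ ((_root_.commutator H).equivMapOfInjective H.subtype H.subtype_injective).surjective
  have hA' : A = ⁅H, H⁆ := map_subtype_commutator H
  have hQA : Q ≤ normalizer (A : Set G) := by
    intro q hq
    refine Lib.Coprime.mem_normalizer_of_conj_smul_eq ?_
    rw [hA', Lib.Coprime.conj_smul_eq_map, map_commutator, ← Lib.Coprime.conj_smul_eq_map,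
      Lib.Coprime.conj_smul_eq_self_of_mem_normalizer (hQ hq)]
  have hHA : H ≤ normalizer (A : Set G) := by
    intro q hq
    refine Lib.Coprime.mem_normalizer_of_conj_smul_eq ?_
    rw [hA', Lib.Coprime.conj_smul_eq_map, map_commutator, ← Lib.Coprime.conj_smul_eq_map,
      Lib.Coprime.conj_smul_eq_self_of_mem_normalizer (le_normalizer hq)]
  -- `P` centralises `A`
  have hPA : P ≤ centralizer (A : Set G) := by
    conv_lhs => rw [← hcomm]
    rw [commutator_le]
    intro q hq x hx
    rw [mem_centralizer_iff]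
    intro a ha
    let φ := A.normalizerMonoidHom
    have h1 : φ ⁅(⟨q, hQA hq⟩ : normalizer (A : Set G)), ⟨x, hHA (hPH hx)⟩⁆ = 1 := by
      rw [map_commutatorElement, commutatorElement_eq_one_iff_commute]
      have : Std.Commutative (α := MulAut A) (· * ·) := ⟨fun u v => by
        apply (IsCyclic.mulAutMulEquiv A).injective
        rw [map_mul, map_mul, mul_comm]⟩
      exact this.comm _ _
    have h2 := congrArg Subtype.val (MulEquiv.ext_iff.mp h1 ⟨a, ha⟩)
    change ⁅q, x⁆ * a * ⁅q, x⁆⁻¹ = a at h2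
    exact (mul_inv_eq_iff_eq_mul.mp h2).symm
  intro h hh
  refine Lib.Coprime.mem_normalizer_of_conj_smul_eq ?_
  refine (eq_of_le_of_card_ge ?_ (by rw [Lib.Coprime.card_conj_smul])).symm
  intro x hx
  rw [Lib.Coprime.mem_conj_smul]
  obtain ⟨y, hy⟩ : ∃ y, y = h⁻¹ * x * h := ⟨_, rfl⟩
  rw [← hy]
  have hyA : y * x⁻¹ ∈ A := by
    rw [hA', hy, show h⁻¹ * x * h * x⁻¹ = ⁅h⁻¹, x⁆ by simp [commutatorElement_def, mul_assoc]]
    exact commutator_mem_commutator (inv_mem hh) (hPH hx)
  have hyP : Commute y x ∧ ∀ z ∈ P, Commute y z := by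
    have : ∀ z ∈ P, Commute y z := fun z hz => by
      rw [show y = y * x⁻¹ * x by group]
      refine Commute.mul_left (mem_centralizer_iff.mp (hPA hz) _ hyA) ?_
      haveI : IsMulCommutative P := IsCyclic.isMulCommutative
      exact congrArg Subtype.val (mul_comm' (⟨x, hx⟩ : P) ⟨z, hz⟩)
    exact ⟨this x hx, this⟩
  have hyH : y ∈ H := hy ▸ mul_mem (mul_mem (inv_mem hh) (hPH hx)) hh
  have hsup : IsPGroup p (zpowers y ⊔ P : Subgroup G) := by
    refine IsPGroup.to_sup_of_normal_right' ?_ hPp ?_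
    · obtain ⟨k, hk⟩ := hPp ⟨x, hx⟩
      have hxk : x ^ p ^ k = 1 := congrArg Subtype.val hk
      have : y ^ p ^ k = 1 := by
        rw [hy, show h⁻¹ * x * h = MulAut.conj h⁻¹ x by simp, ← map_pow, hxk, map_one]
      obtain ⟨j, -, hj⟩ := (Nat.dvd_prime_pow Fact.out).mp (orderOf_dvd_of_pow_eq_one this)
      exact IsPGroup.of_card (by rw [Nat.card_zpowers, hj])
    · refine zpowers_le.mpr ?_
      rw [mem_normalizer_iff]
      intro z
      constructor
      · intro hz; rw [(hyP.2 z hz).eq, mul_inv_cancel_right]; exact hz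
      · intro hz
        have e := hyP.2 _ hz
        have : y * z * y⁻¹ = z := by
          have := e.eq
          calc y * z * y⁻¹ = y⁻¹ * (y * (y * z * y⁻¹)) := by group
            _ = y⁻¹ * ((y * z * y⁻¹) * y) := by rw [this]
            _ = z := by group
        rwa [this] at hz
  obtain ⟨j, hj⟩ := IsPGroup.iff_card.mp hsup
  have hle : zpowers y ⊔ P ≤ H := sup_le (zpowers_le.mpr hyH) hPH
  have hj' : p ^ j ∣ p ^ (Nat.card H).factorization p := by
    refine pow_dvd_pow _ ((Fact.out : p.Prime).pow_dvd_iff_le_factorization Nat.card_pos.ne' |>.mp ?_)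
    exact hj ▸ card_dvd_of_le hle
  have := eq_of_le_of_card_ge (le_sup_right : P ≤ zpowers y ⊔ P)
    (by rw [hj, hPc]; exact Nat.le_of_dvd (pow_pos (Fact.out : p.Prime).pos _) hj')
  rw [this]
  exact mem_sup_left (mem_zpowers y)

/-- The fixed points of a coprime operator group on a Z-group form a Hall subgroup with an
invariant normal complement. -/
theorem zgroup_split {H Q : Subgroup G} [IsZGroup H] (hQ : Q ≤ normalizer (H : Set G))
    (hcop : (Nat.card Q).Coprime (Nat.card H)) :
    ∃ D : Subgroup G, D ≤ H ∧ H ≤ normalizer (D : Set G) ∧ Q ≤ normalizer (D : Set G) ∧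
      (Nat.card D).Coprime (Nat.card ↥(H ⊓ centralizer (Q : Set G))) ∧
      D ⊔ (H ⊓ centralizer (Q : Set G)) = H := by
  set C := H ⊓ centralizer (Q : Set G) with hC
  obtain ⟨D, -, hD⟩ := Finite.exists_le_maximal
    (p := fun D : Subgroup G => D ≤ H ∧ H ≤ normalizer (D : Set G) ∧ Q ≤ normalizer (D : Set G) ∧
      (Nat.card D).Coprime (Nat.card C))
    (a := ⊥) ⟨bot_le, le_top.trans (normalizer_eq_top (H := (⊥ : Subgroup G))).ge,
      le_top.trans (normalizer_eq_top (H := (⊥ : Subgroup G))).ge, by simp⟩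
  obtain ⟨⟨hDH, hHD, hQD, hDC⟩, hmax⟩ := hD
  refine ⟨D, hDH, hHD, hQD, hDC, ?_⟩
  have hle : D ⊔ C ≤ H := sup_le hDH inf_le_left
  refine eq_of_le_of_card_ge hle (Nat.le_of_dvd Nat.card_pos ?_)
  rw [Nat.dvd_iff_prime_pow_dvd_dvd]
  intro p k hp hk
  haveI := Fact.mk hp
  have hk' := (hp.pow_dvd_iff_le_factorization Nat.card_pos.ne').mp hk
  obtain ⟨P, hPH, hPp, hPc, hcyc, hPQ, hdich⟩ := sylow_dichotomy hQ hcop p
  refine (pow_dvd_pow p hk').trans (hPc ▸ card_dvd_of_le ?_)
  rcases hdich with h | ⟨hcomm, hpC⟩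
  · exact (le_inf hPH h).trans le_sup_right
  · have hHP := le_normalizer_of_moved hQ hPH hPp hPc hcyc hcomm
    refine le_trans ?_ le_sup_left
    refine le_trans le_sup_left (hmax (y := P ⊔ D) ⟨sup_le hPH hDH,
      Lib.Coprime.le_normalizer_sup hHP hHD, Lib.Coprime.le_normalizer_sup hPQ hQD, ?_⟩ le_sup_right)
    refine (Nat.Coprime.mul_left ?_ hDC).coprime_dvd_left
      (Lib.Spectrum.Basic.card_sup_dvd (hPH.trans hHD))
    rw [hPc]
    exact ((hp.coprime_iff_not_dvd.mpr hpC).pow_left _)

/-- The main statement. -/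
theorem main (H : Subgroup G)
    (hTI : Cfsg.IsTISubset (H : Set G)) (hnn : ¬ H.Normal)
    (hHall : (Nat.card H).Coprime (H.subgroupOf (normalizer (H : Set G))).index)
    {n : ℕ} (M : Fin (n + 1) → Subgroup G) (h0 : M 0 = ⊥) (htop : M (Fin.last n) = ⊤)
    (hmono : Monotone M) (hMn : ∀ i, (M i).Normal)
    (hfac : ∀ i : Fin n, (∀ q : ℕ, q.Prime → q ∣ (M i.castSucc).relIndex (M i.succ) → q ∣ Nat.card H) ∨
        ((M i.castSucc).relIndex (M i.succ)).Coprime (Nat.card H))
    (h2 : ∀ P : Sylow 2 H, IsMulCommutative (P : Subgroup H))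
    (Q : Subgroup G) (hQ : Q ≤ normalizer (H : Set G)) (hQH : Q ⊓ H = ⊥)
    (hQH' : Q ⊔ H = normalizer (H : Set G)) :
    (Nat.card ↥(H ⊓ centralizer (Q : Set G))).Coprime (H ⊓ centralizer (Q : Set G)).index ∧
    ∃ N : Subgroup G, N.Normal ∧ N.IsComplement' (H ⊓ centralizer (Q : Set G)) := by
  obtain ⟨O, hO⟩ : ∃ O, O = sSup {K : Subgroup G | K.Normal ∧ (Nat.card K).Coprime (Nat.card H)} :=
    ⟨_, rfl⟩
  obtain ⟨hOn, hOcop⟩ := Lib.TIHall.core_spec (Nat.card H) O hO
  haveI := hOn
  have hH := S4115.hall_of_ti H hTI hHall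
  have hne : H ≠ ⊥ := fun h => hnn (h ▸ inferInstance)
  have hmax : ∀ K : Subgroup G, K.Normal → (Nat.card K).Coprime (Nat.card H) → K ≤ O :=
    fun K hK hKc => hO ▸ le_sSup ⟨hK, hKc⟩
  have hON := Lib.TIHall.sup_normalizer_eq_top H hTI hne hH O hmax hOcop M h0 htop hmono hMn hfac
  haveI := isZGroup_of_lin (Lib.TIHall.hasLinFPF_of_ti H hTI hnn hH O hOcop hON) h2
  have hcop : (Nat.card Q).Coprime (Nat.card H) := by
    have h1 := card_mul_index (H.subgroupOf (normalizer (H : Set G)))
    rw [Nat.card_congr (subgroupOfEquivOfLe le_normalizer).toEquiv] at h1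
    have h3 := Lib.Coprime.card_sup_of_disjoint hQ (disjoint_iff.mpr hQH)
    rw [hQH'] at h3
    rw [h3, mul_comm (Nat.card Q)] at h1
    rw [← Nat.eq_of_mul_eq_mul_left Nat.card_pos h1]
    exact hHall.symm
  obtain ⟨D, hDH, hHD, hQD, hDC, hDC'⟩ := zgroup_split hQ hcop
  set C := H ⊓ centralizer (Q : Set G) with hC
  have hCH : C ≤ H := inf_le_left
  have hCQ : C ≤ normalizer (Q : Set G) :=
    inf_le_right.trans (centralizer_le_normalizer _)
  have hOtop : O ⊔ (Q ⊔ (D ⊔ C)) = ⊤ := by rw [hDC', hQH', hON]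
  have hN0 : ∀ X : Subgroup G, O ≤ normalizer (X : Set G) → Q ≤ normalizer (X : Set G) →
      D ≤ normalizer (X : Set G) → C ≤ normalizer (X : Set G) → X.Normal := by
    intro X h1 h2 h3 h4
    rw [← normalizer_eq_top_iff, eq_top_iff, ← hOtop]
    exact sup_le h1 (sup_le h2 (sup_le h3 h4))
  have hOD : (O ⊔ D).Normal :=
    hN0 _ (le_sup_left.trans le_normalizer)
      (Lib.Coprime.le_normalizer_sup le_normalizer_of_normal hQD)
      (le_sup_right.trans le_normalizer)
      (Lib.Coprime.le_normalizer_sup le_normalizer_of_normal (hCH.trans hHD))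
  haveI := hOD
  obtain ⟨N, hNdef⟩ : ∃ N : Subgroup G, N = Q ⊔ (O ⊔ D) := ⟨_, rfl⟩
  have hNn : N.Normal := by
    subst hNdef
    refine hN0 _ ((le_sup_left.trans le_sup_right).trans le_normalizer) (le_sup_left.trans le_normalizer)
      ((le_sup_right.trans le_sup_right).trans le_normalizer) ?_
    exact Lib.Coprime.le_normalizer_sup hCQ le_normalizer_of_normal
  haveI := hNn
  have hNC : (Nat.card N).Coprime (Nat.card C) := by
    subst hNdef
    refine ((hcop.coprime_dvd_right (card_dvd_of_le hCH)).mul_left ?_).coprime_dvd_left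
      (Lib.Cores.card_sup_dvd_mul Q (O ⊔ D))
    rw [sup_comm]
    exact (hDC.mul_left (hOcop.coprime_dvd_right (card_dvd_of_le hCH))).coprime_dvd_left
      (Lib.Cores.card_sup_dvd_mul D O)
  have htop' : C ⊔ N = ⊤ := by
    subst hNdef
    rw [eq_top_iff, ← hOtop]
    exact sup_le ((le_sup_left.trans le_sup_right).trans le_sup_right)
      (sup_le (le_sup_left.trans le_sup_right)
        (sup_le ((le_sup_right.trans le_sup_right).trans le_sup_right) le_sup_left))
  have hcard : Nat.card N * Nat.card C = Nat.card G := by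
    refine Nat.dvd_antisymm (hNC.mul_dvd_of_dvd_of_dvd (card_subgroup_dvd_card _) (card_subgroup_dvd_card _)) ?_
    rw [mul_comm]
    have := Lib.Cores.card_sup_dvd_mul C N
    rwa [htop', card_top] at this
  refine ⟨?_, N, hNn, isComplement'_of_coprime hcard hNC⟩
  rw [← card_mul_index C, mul_comm] at hcard
  rw [← Nat.eq_of_mul_eq_mul_left Nat.card_pos hcard]
  exact hNC.symm

/-- Let G be a finite group and H a non-normal subgroup meeting each of its conjugates by elements outside N_G(H) trivially, with the order of H coprime to its index in N_G(H), such that G is π-separable for π the set of primes dividing the order of H (G has a chain of normal subgroups from 1 to G each of whose factors has order divisible only by primes dividing the order of H or coprime to it). Suppose a Sylow 2-subgroup of H is abelian and Q is a complement of H in N_G(H). Then C_H(Q), the subgroup of elements of H commuting with Q, has order coprime to its index in G and has a normal complement in G. -/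
theorem result {G : Type*} [Group G] [Finite G] (H : Subgroup G)
    (hTI : Cfsg.IsTISubset (H : Set G)) (hnn : ¬ H.Normal)
    (hHall : (Nat.card H).Coprime (H.subgroupOf (Subgroup.normalizer (H : Set G))).index)
    (hsep : ∃ (n : ℕ) (M : Fin (n + 1) → Subgroup G), M 0 = ⊥ ∧ M (Fin.last n) = ⊤ ∧ Monotone M ∧ (∀ i, (M i).Normal) ∧
      ∀ i : Fin n, (∀ q : ℕ, q.Prime → q ∣ (M i.castSucc).relIndex (M i.succ) → q ∣ Nat.card H) ∨
        ((M i.castSucc).relIndex (M i.succ)).Coprime (Nat.card H))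
    (h2 : ∀ P : Sylow 2 H, IsMulCommutative (P : Subgroup H))
    (Q : Subgroup G) (hQ : Q ≤ Subgroup.normalizer (H : Set G)) (hQH : Q ⊓ H = ⊥) (hQH' : Q ⊔ H = Subgroup.normalizer (H : Set G)) :
    (Nat.card ↥(H ⊓ Subgroup.centralizer (Q : Set G))).Coprime (H ⊓ Subgroup.centralizer (Q : Set G)).index ∧
    ∃ N : Subgroup G, N.Normal ∧ N.IsComplement' (H ⊓ Subgroup.centralizer (Q : Set G)) := by
  obtain ⟨n, M, h0, htop, hmono, hMn, hfac⟩ := hsep
  exact main H hTI hnn hHall M h0 htop hmono hMn hfac h2 Q hQ hQH hQH'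

end Cfsg.Agent.S4151
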