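import Cfsg.Statements.S4152
-- import your own Cfsg.Agent.* helpers here

set_option autoImplicit false
open Cfsg

namespace Cfsg.Agent.S4152

section Counting

variable {G : Type*} [Group G] [Finite G]

/-- Commuting pairs `(u, n)` in `g N × N` centralising `s`, first component killed by `a`. -/
private def T1 (a : ℕ) (N : Subgroup G) (g s : G) : Type _ :=
  {x : G × G // g⁻¹ * x.1 ∈ N ∧ x.2 ∈ N ∧ Commute s x.1 ∧ Commute s x.2 ∧ Commute x.1 x.2 ∧ x.1 ^ a = 1}

/-- Commuting pairs `(u, n)` in `g N × N` centralising `s`, second component killed by `a`. -/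
private def T2 (a : ℕ) (N : Subgroup G) (g s : G) : Type _ :=
  {x : G × G // g⁻¹ * x.1 ∈ N ∧ x.2 ∈ N ∧ Commute s x.1 ∧ Commute s x.2 ∧ Commute x.1 x.2 ∧ x.2 ^ a = 1}

omit [Finite G] in
private theorem coset_pow {N : Subgroup G} {g u : G} (hg : g ∈ Subgroup.normalizer (N : Set G))
    (hu : g⁻¹ * u ∈ N) (j : ℕ) : (g ^ j)⁻¹ * u ^ j ∈ N := by
  induction j with
  | zero => simp
  | succ j ih =>
    have h := (Subgroup.mem_normalizer_iff.1 (inv_mem (pow_mem hg j)) (g⁻¹ * u)).1 hu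
    have := mul_mem h ih
    convert this using 1
    rw [pow_succ' g, pow_succ' u]
    group

omit [Finite G] in
private theorem pow_eq_of_pow_eq_one {x : G} {n i j : ℕ} (hx : x ^ n = 1) (h : i ≡ j [MOD n]) :
    x ^ i = x ^ j :=
  pow_eq_pow_iff_modEq.2 (h.of_dvd (orderOf_dvd_of_pow_eq_one hx))

private theorem key (a b e f : ℕ) (hab : ∀ x : G, x ^ (a * b) = 1)
    (hea : e ≡ 1 [MOD a]) (heb : e ≡ 0 [MOD b]) (hfa : f ≡ 0 [MOD a]) (hfb : f ≡ 1 [MOD b])
    (hef : e + f ≡ 1 [MOD a * b]) :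
    ∀ (N : Subgroup G) (g : G), g ∈ Subgroup.normalizer (N : Set G) → g ^ a = 1 →
      Nat.card (T1 a N g 1) = Nat.card (T2 a N g 1) := by
  classical
  intro N
  induction N using (measure fun N : Subgroup G => Nat.card N).wf.induction with
  | h N ih =>
  intro g hgN hga
  haveI := Fintype.ofFinite G
  let F := fun x : G => x ^ e
  let Q := fun x : G => x ^ f
  have hFa : ∀ x : G, (x ^ e) ^ a = 1 := fun x => by
    rw [← pow_mul]
    obtain ⟨c, hc⟩ := (Nat.modEq_zero_iff_dvd.1 heb)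
    rw [hc, show b * c * a = (a * b) * c by ring, pow_mul, hab, one_pow]
  have hQb : ∀ x : G, (x ^ f) ^ b = 1 := fun x => by
    rw [← pow_mul]
    obtain ⟨c, hc⟩ := (Nat.modEq_zero_iff_dvd.1 hfa)
    rw [hc, show a * c * b = (a * b) * c by ring, pow_mul, hab, one_pow]
  have hsplit : ∀ x : G, x ^ e * x ^ f = x := fun x => by
    rw [← pow_add, pow_eq_of_pow_eq_one (hab x) hef, pow_one]
  have huniq : ∀ v s : G, Commute v s → v ^ a = 1 → s ^ b = 1 → (v * s) ^ e = v ∧ (v * s) ^ f = s := by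
    intro v s hc hv hs
    rw [hc.mul_pow, hc.mul_pow, pow_eq_of_pow_eq_one hv hea, pow_eq_of_pow_eq_one hs heb,
      pow_eq_of_pow_eq_one hv hfa, pow_eq_of_pow_eq_one hs hfb]
    simp
  have hQN : ∀ u, g⁻¹ * u ∈ N → u ^ f ∈ N := fun u hu => by
    have := coset_pow hgN hu f
    obtain ⟨c, hc⟩ := (Nat.modEq_zero_iff_dvd.1 hfa)
    rwa [hc, pow_mul g, hga, one_pow, inv_one, one_mul, ← hc] at this
  have hFN : ∀ u, g⁻¹ * u ∈ N → g⁻¹ * u ^ e ∈ N := fun u hu => by
    have := mul_mem hu (inv_mem (hQN u hu))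
    convert this using 1
    nth_rewrite 2 [← hsplit u]
    group
  let S : Finset G := Finset.univ.filter fun s => s ∈ N ∧ s ^ b = 1
  have memS : ∀ s, s ∈ S ↔ s ∈ N ∧ s ^ b = 1 := fun s => by simp [S]
  let T := {x : G × G // g⁻¹ * x.1 ∈ N ∧ x.2 ∈ N ∧ Commute x.1 x.2}
  let e1 : T ≃ Σ s : S, T1 a N g s :=
    { toFun := fun x => ⟨⟨x.1.1 ^ f, (memS _).2 ⟨hQN _ x.2.1, hQb _⟩⟩,
        ⟨(x.1.1 ^ e, x.1.2), hFN _ x.2.1, x.2.2.1, Commute.pow_pow (Commute.refl x.1.1) f e,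
          (x.2.2.2.pow_left f), x.2.2.2.pow_left e, hFa _⟩⟩
      invFun := fun y => ⟨(y.2.1.1 * (y.1 : G), y.2.1.2), by
          rw [← mul_assoc]; exact mul_mem y.2.2.1 ((memS _).1 y.1.2).1,
        y.2.2.2.1, y.2.2.2.2.2.2.1.mul_left y.2.2.2.2.2.1⟩
      left_inv := fun x => Subtype.ext (Prod.ext (hsplit _) rfl)
      right_inv := fun y => by
        obtain ⟨⟨s, hs⟩, ⟨⟨v, n⟩, h1, h2, h3, h4, h5, h6⟩⟩ := y
        obtain ⟨hv, hs'⟩ := huniq v s h3.symm h6 ((memS s).1 hs).2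
        exact Sigma.subtype_ext (Subtype.ext hs') (Prod.ext hv rfl) }
  let e2 : T ≃ Σ s : S, T2 a N g s :=
    { toFun := fun x => ⟨⟨x.1.2 ^ f, (memS _).2 ⟨pow_mem x.2.2.1 _, hQb _⟩⟩,
        ⟨(x.1.1, x.1.2 ^ e), x.2.1, pow_mem x.2.2.1 _, (x.2.2.2.pow_right f).symm,
          Commute.pow_pow (Commute.refl x.1.2) f e, x.2.2.2.pow_right e, hFa _⟩⟩
      invFun := fun y => ⟨(y.2.1.1, y.2.1.2 * (y.1 : G)), y.2.2.1,
        mul_mem y.2.2.2.1 ((memS _).1 y.1.2).1,
        y.2.2.2.2.2.2.1.mul_right y.2.2.2.2.1.symm⟩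
      left_inv := fun x => Subtype.ext (Prod.ext rfl (hsplit _))
      right_inv := fun y => by
        obtain ⟨⟨s, hs⟩, ⟨⟨v, n⟩, h1, h2, h3, h4, h5, h6⟩⟩ := y
        obtain ⟨hv, hs'⟩ := huniq n s h4.symm h6 ((memS s).1 hs).2
        exact Sigma.subtype_ext (Subtype.ext hs') (Prod.ext rfl hv) }
  haveI : ∀ s : G, Finite (T1 a N g s) := fun s => Subtype.finite
  haveI : ∀ s : G, Finite (T2 a N g s) := fun s => Subtype.finite
  have hsum : ∑ s ∈ S, Nat.card (T1 a N g s) = ∑ s ∈ S, Nat.card (T2 a N g s) := by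
    rw [← Finset.sum_coe_sort S, ← Finset.sum_coe_sort S, ← Nat.card_sigma, ← Nat.card_sigma]
    exact Nat.card_congr (e1.symm.trans e2)
  -- the part of `S` centralising everything in sight
  let Z := S.filter fun s => Commute s g ∧ ∀ n ∈ N, Commute s n
  have hZ : ∀ s ∈ Z, Nat.card (T1 a N g s) = Nat.card (T1 a N g 1) ∧
      Nat.card (T2 a N g s) = Nat.card (T2 a N g 1) := by
    intro s hs
    obtain ⟨-, hsg, hsn⟩ := Finset.mem_filter.1 hs
    have hc : ∀ u, g⁻¹ * u ∈ N → Commute s u := fun u hu => by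
      simpa using hsg.mul_right (hsn _ hu)
    refine ⟨Nat.card_congr (Equiv.subtypeEquivRight fun x => ?_),
      Nat.card_congr (Equiv.subtypeEquivRight fun x => ?_)⟩ <;>
    exact ⟨fun ⟨h1, h2, _, _, h5, h6⟩ => ⟨h1, h2, Commute.one_left _, Commute.one_left _, h5, h6⟩,
      fun ⟨h1, h2, _, _, h5, h6⟩ => ⟨h1, h2, hc _ h1, hsn _ h2, h5, h6⟩⟩
  have hrest : ∀ s ∈ S, s ∉ Z → Nat.card (T1 a N g s) = Nat.card (T2 a N g s) := by
    intro s hsS hsZ
    by_cases hne : ∃ u, g⁻¹ * u ∈ N ∧ Commute s u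
    swap
    · rw [not_exists] at hne
      haveI : IsEmpty (T1 a N g s) := ⟨fun x => hne _ ⟨x.2.1, x.2.2.2.1⟩⟩
      haveI : IsEmpty (T2 a N g s) := ⟨fun x => hne _ ⟨x.2.1, x.2.2.2.1⟩⟩
      rw [Nat.card_of_isEmpty, Nat.card_of_isEmpty]
    obtain ⟨u₀, hu₀, hsu₀⟩ := hne
    set g' := u₀ ^ e with hg'
    have hg'N : g⁻¹ * g' ∈ N := hFN _ hu₀
    have hsg' : Commute s g' := hsu₀.pow_right e
    set M := N ⊓ Subgroup.centralizer ({s} : Set G)
    have memM : ∀ x, x ∈ M ↔ x ∈ N ∧ Commute s x := fun x => by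
      rw [Subgroup.mem_inf, Subgroup.mem_centralizer_singleton_iff]
      exact ⟨fun h => ⟨h.1, h.2.symm⟩, fun h => ⟨h.1, h.2.symm⟩⟩
    have hg'n : g' ∈ Subgroup.normalizer (N : Set G) := by
      have := mul_mem hgN (Subgroup.le_normalizer hg'N)
      rwa [mul_inv_cancel_left] at this
    have hg'M : g' ∈ Subgroup.normalizer (M : Set G) := by
      rw [Subgroup.mem_normalizer_iff]
      intro x
      have hN := Subgroup.mem_normalizer_iff.1 hg'n x
      simp only [SetLike.mem_coe, memM] at *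
      constructor
      · exact fun ⟨h1, h2⟩ => ⟨hN.1 h1, (hsg'.mul_right h2).mul_right hsg'.inv_right⟩
      · intro ⟨h1, h2⟩
        refine ⟨hN.2 h1, ?_⟩
        simpa [mul_assoc] using (hsg'.inv_right.mul_right h2).mul_right hsg'
    have hmem : ∀ u, (g'⁻¹ * u ∈ M) ↔ (g⁻¹ * u ∈ N ∧ Commute s u) := fun u => by
      rw [memM]
      constructor
      · rintro ⟨h1, h2⟩
        refine ⟨by simpa [mul_assoc] using mul_mem hg'N h1, ?_⟩
        simpa using hsg'.mul_right h2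
      · rintro ⟨h1, h2⟩
        refine ⟨?_, hsg'.inv_right.mul_right h2⟩
        simpa [mul_assoc] using mul_mem (inv_mem hg'N) h1
    have hMlt : Nat.card M < Nat.card N := by
      have hle : M ≤ N := inf_le_left
      refine lt_of_le_of_ne (Subgroup.card_le_of_le hle) fun hcard => hsZ ?_
      have hMN : M = N := Subgroup.eq_of_le_of_card_ge hle hcard.ge
      have hsn : ∀ n ∈ N, Commute s n := fun n hn => ((memM n).1 (hMN.symm ▸ hn)).2
      refine Finset.mem_filter.2 ⟨hsS, ?_, hsn⟩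
      have := hsg'.mul_right (hsn _ (inv_mem hg'N))
      simpa using this
    have h := ih M hMlt g' hg'M (hFa _)
    refine (Nat.card_congr (Equiv.subtypeEquivRight fun x => ?_)).trans
      (h.trans (Nat.card_congr (Equiv.subtypeEquivRight fun x => ?_))) <;>
    · rw [hmem, memM]
      simp only [Commute.one_left, true_and]
      tauto
  rw [← Finset.sum_filter_add_sum_filter_not S (fun s => Commute s g ∧ ∀ n ∈ N, Commute s n),
    ← Finset.sum_filter_add_sum_filter_not S (fun s => Commute s g ∧ ∀ n ∈ N, Commute s n)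
      (fun s => Nat.card (T2 a N g s)),
    Finset.sum_congr rfl (fun s hs => (hZ s hs).1),
    Finset.sum_congr rfl (fun s hs => (hZ s hs).2),
    Finset.sum_congr rfl fun s hs => hrest s (Finset.mem_filter.1 hs).1
      (fun hz => by exact (Finset.mem_filter.1 hs).2 (Finset.mem_filter.1 hz).2)] at hsum
  have h1Z : (1 : G) ∈ Z :=
    Finset.mem_filter.2 ⟨(memS 1).2 ⟨one_mem _, one_pow _⟩, Commute.one_left _, fun n _ => Commute.one_left _⟩
  rw [Finset.sum_const, Finset.sum_const, smul_eq_mul, smul_eq_mul] at hsum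
  exact Nat.eq_of_mul_eq_mul_left (Finset.card_pos.2 ⟨1, h1Z⟩) (Nat.add_right_cancel hsum)

/-- Counting classes by commuting pairs. -/
private theorem card_classes (P : G → Prop) (hP : ∀ g x, P x → P (g * x * g⁻¹)) :
    Nat.card G * Nat.card {C : ConjClasses G // ∀ x, ConjClasses.mk x = C → P x} =
      Nat.card {x : G × G // P x.1 ∧ Commute x.1 x.2} := by
  classical
  have hc : ∀ C : ConjClasses G, ∀ x, ConjClasses.mk x = C → P x → ∀ y, ConjClasses.mk y = C → P y := by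
    intro C x hx hpx y hy
    obtain ⟨c, hc⟩ := isConj_iff.1 (ConjClasses.mk_eq_mk_iff_isConj.1 (hx.trans hy.symm))
    exact hc ▸ hP c x hpx
  have hrep : ∀ x : G, ∃ c : G, c * x * c⁻¹ = Quotient.out (ConjClasses.mk x) :=
    fun x => isConj_iff.1 (ConjClasses.mk_eq_mk_iff_isConj.1 (Quotient.out_eq _).symm)
  choose c hcx using hrep
  let r := fun C : {C : ConjClasses G // ∀ x, ConjClasses.mk x = C → P x} => Quotient.out C.1
  rw [← Nat.card_prod]
  let F : {x : G × G // P x.1 ∧ Commute x.1 x.2} →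
      {C : ConjClasses G // ∀ x, ConjClasses.mk x = C → P x} × G := fun x =>
    (⟨ConjClasses.mk x.1.1, hc _ _ rfl x.2.1⟩, c x.1.1 * x.1.2)
  refine (Nat.card_congr ((Equiv.ofBijective F ⟨?_, ?_⟩).trans (Equiv.prodComm _ _))).symm
  · rintro ⟨⟨x, y⟩, hx, hxy⟩ ⟨⟨x', y'⟩, hx', hxy'⟩ h
    have h1 : ConjClasses.mk x = ConjClasses.mk x' := congrArg (fun z => z.1.1) h
    have h2 : c x * y = c x' * y' := congrArg (fun z => z.2) h
    have e1 := hcx x
    rw [h1, ← hcx x'] at e1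
    have key : x = x' := by
      have a1 : x = y⁻¹ * x * y := by rw [mul_assoc, hxy.eq, inv_mul_cancel_left]
      have a2 : x' = y'⁻¹ * x' * y' := by rw [mul_assoc, hxy'.eq, inv_mul_cancel_left]
      calc x = y⁻¹ * x * y := a1
        _ = (c x * y)⁻¹ * (c x * x * (c x)⁻¹) * (c x * y) := by group
        _ = (c x' * y')⁻¹ * (c x' * x' * (c x')⁻¹) * (c x' * y') := by rw [e1, h2]
        _ = y'⁻¹ * x' * y' := by group
        _ = x' := a2.symm
    subst key
    exact Subtype.ext (Prod.ext rfl (mul_left_cancel h2))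
  · rintro ⟨⟨C, hC⟩, u⟩
    let x := u⁻¹ * Quotient.out C * u
    have hx : ConjClasses.mk x = C := by
      conv_rhs => rw [← Quotient.out_eq C]
      exact ConjClasses.mk_eq_mk_iff_isConj.2 (isConj_iff.2 ⟨u, by simp only [x]; group⟩)
    have hcomm : Commute x ((c x)⁻¹ * u) := by
      have h := hcx x
      rw [hx] at h
      have h' : c x * x * (c x)⁻¹ * u = u * x := by rw [h]; simp only [x]; group
      change x * ((c x)⁻¹ * u) = (c x)⁻¹ * u * x
      calc x * ((c x)⁻¹ * u) = (c x)⁻¹ * (c x * x * (c x)⁻¹ * u) := by group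
        _ = (c x)⁻¹ * (u * x) := by rw [h']
        _ = _ := (mul_assoc _ _ _).symm
    refine ⟨⟨(x, (c x)⁻¹ * u), hC x hx, hcomm⟩, Prod.ext (Subtype.ext hx) ?_⟩
    exact mul_inv_cancel_left _ _

end Counting

/-- Let G be a finite group, N a normal subgroup and π a set of primes. Then the number of conjugacy classes of π-elements of G (elements whose order is divisible only by primes in π) is at most the number of conjugacy classes of π-elements of N (under conjugation by N) times the number of conjugacy classes of π-elements of G/N. -/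
theorem result {G : Type*} [Group G] [Finite G] (N : Subgroup G) [N.Normal] (π : Set ℕ) :
    Nat.card {C : ConjClasses G // ∀ q : ℕ, q.Prime → (∃ g : G, ConjClasses.mk g = C ∧ q ∣ orderOf g) → q ∈ π} ≤ Nat.card {C : ConjClasses N // ∀ q : ℕ, q.Prime → (∃ g : N, ConjClasses.mk g = C ∧ q ∣ orderOf g) → q ∈ π} * Nat.card {C : ConjClasses (G ⧸ N) // ∀ q : ℕ, q.Prime → (∃ g : (G ⧸ N), ConjClasses.mk g = C ∧ q ∣ orderOf g) → q ∈ π} := by
  classical
  let P : ∀ {H : Type _} [Group H], H → Prop := fun {H} _ x => ∀ q : ℕ, q.Prime → q ∣ orderOf x → q ∈ π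
  have conv : ∀ {H : Type _} [Group H] [Finite H],
      Nat.card H * Nat.card {C : ConjClasses H //
        ∀ q : ℕ, q.Prime → (∃ g : H, ConjClasses.mk g = C ∧ q ∣ orderOf g) → q ∈ π} =
      Nat.card {x : H × H // P x.1 ∧ Commute x.1 x.2} := by
    intro H _ _
    rw [← card_classes (fun x : H => P x) (fun g x hx q hq hd => hx q hq (by
      rwa [← MulAut.conj_apply, MulEquiv.orderOf_eq (MulAut.conj g) x] at hd))]
    congr 1
    refine Nat.card_congr (Equiv.subtypeEquivRight fun C => ⟨?_, ?_⟩)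
    · exact fun h x hx q hq hd => h q hq ⟨x, hx, hd⟩
    · exact fun h q hq ⟨x, hx, hd⟩ => h x hx q hq hd
  have h1 := conv (H := G)
  have h2 := conv (H := N)
  have h3 := conv (H := G ⧸ N)
  -- numbers `a`, `b`
  set K := Nat.card G
  have hK : K ≠ 0 := Nat.card_pos.ne'
  set a := ∏ q ∈ K.primeFactors.filter (fun q => q ∈ π), q ^ K.factorization q with ha
  set b := ∏ q ∈ K.primeFactors.filter (fun q => q ∉ π), q ^ K.factorization q with hb
  have hab : a * b = K := by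
    rw [ha, hb, Finset.prod_filter_mul_prod_filter_not]
    exact Nat.factorization_prod_pow_eq_self hK
  have hpa : ∀ q : ℕ, q.Prime → q ∣ a → q ∈ π := by
    intro q hq hd
    obtain ⟨r, hr, hdr⟩ := (Prime.dvd_finsetProd_iff hq.prime _).1 (ha ▸ hd)
    obtain ⟨hr, hrπ⟩ := Finset.mem_filter.1 hr
    rwa [(Nat.prime_dvd_prime_iff_eq hq (Nat.prime_of_mem_primeFactors hr)).1 (hq.dvd_of_dvd_pow hdr)]
  have hpb : ∀ q : ℕ, q.Prime → q ∣ b → q ∉ π := by
    intro q hq hd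
    obtain ⟨r, hr, hdr⟩ := (Prime.dvd_finsetProd_iff hq.prime _).1 (hb ▸ hd)
    obtain ⟨hr, hrπ⟩ := Finset.mem_filter.1 hr
    rwa [(Nat.prime_dvd_prime_iff_eq hq (Nat.prime_of_mem_primeFactors hr)).1 (hq.dvd_of_dvd_pow hdr)]
  have hcop : a.Coprime b :=
    Nat.coprime_of_dvd fun q hq h1 h2 => hpb q hq h2 (hpa q hq h1)
  obtain ⟨e, hea, heb⟩ := Nat.chineseRemainder hcop 1 0
  obtain ⟨f, hfa, hfb⟩ := Nat.chineseRemainder hcop 0 1
  have hef : e + f ≡ 1 [MOD a * b] :=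
    (Nat.modEq_and_modEq_iff_modEq_mul hcop).1 ⟨hea.add hfa, heb.add hfb⟩
  have hpow : ∀ x : G, x ^ (a * b) = 1 := fun x => by rw [hab]; exact pow_card_eq_one'
  have hP : ∀ {H : Type _} [Group H] (x : H), x ^ (a * b) = 1 → (P x ↔ x ^ a = 1) := by
    intro H _ x hx
    refine ⟨fun h => ?_, fun h q hq hd => hpa q hq (hd.trans (orderOf_dvd_of_pow_eq_one h))⟩
    rw [← orderOf_dvd_iff_pow_eq_one]
    refine Nat.Coprime.dvd_of_dvd_mul_right ?_ (orderOf_dvd_of_pow_eq_one hx)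
    exact Nat.coprime_of_dvd fun q hq h1 h2 => hpb q hq h2 (h q hq h1)
  have hnorm : Subgroup.normalizer (N : Set G) = ⊤ := Subgroup.normalizer_eq_top N
  haveI := Fintype.ofFinite G
  haveI := Fintype.ofFinite N
  haveI := Fintype.ofFinite (G ⧸ N)
  -- compare the commuting pairs
  suffices hmain : Nat.card {x : G × G // P x.1 ∧ Commute x.1 x.2} ≤
      Nat.card {x : N × N // P x.1 ∧ Commute x.1 x.2} *
        Nat.card {x : (G ⧸ N) × (G ⧸ N) // P x.1 ∧ Commute x.1 x.2} by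
    rw [← h1, ← h2, ← h3] at hmain
    refine Nat.le_of_mul_le_mul_left (hmain.trans_eq ?_) (Nat.card_pos : 0 < Nat.card G)
    have : Nat.card G = Nat.card N * Nat.card (G ⧸ N) := (Subgroup.card_mul_index N).symm
    rw [show K = Nat.card G from rfl, this]
    ring
  let q := QuotientGroup.mk' N
  have hdown : ∀ x : G, P x → P (q x) := fun x hx r hr hd => hx r hr (hd.trans (orderOf_map_dvd q x))
  let Φ : {x : G × G // P x.1 ∧ Commute x.1 x.2} →
      {x : (G ⧸ N) × (G ⧸ N) // P x.1 ∧ Commute x.1 x.2} :=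
    fun x => ⟨(q x.1.1, q x.1.2), hdown _ x.2.1, x.2.2.map q⟩
  rw [Nat.card_congr (Equiv.sigmaFiberEquiv Φ).symm, Nat.card_sigma, mul_comm,
    Nat.card_eq_fintype_card (α := {x : (G ⧸ N) × (G ⧸ N) // P x.1 ∧ Commute x.1 x.2}),
    ← smul_eq_mul, ← Finset.card_univ, ← Finset.sum_const]
  refine Finset.sum_le_sum fun z _ => ?_
  by_cases hz : Nonempty {x // Φ x = z}
  swap
  · haveI := not_nonempty_iff.1 hz
    rw [Nat.card_of_isEmpty]
    exact Nat.zero_le _
  obtain ⟨⟨⟨⟨g, y⟩, hg, hgy⟩, hΦ⟩⟩ := hz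
  have hga : g ^ a = 1 := (hP g (hpow g)).1 hg
  have hcoset : ∀ x, Φ x = z → g⁻¹ * x.1.1 ∈ N ∧ y⁻¹ * x.1.2 ∈ N := by
    intro x hx
    have h := congrArg Subtype.val (hx.trans hΦ.symm)
    exact ⟨QuotientGroup.eq.1 (congrArg Prod.fst h).symm, QuotientGroup.eq.1 (congrArg Prod.snd h).symm⟩
  -- a section `u ↦ y_u` of the second coordinate
  have hex : ∀ u : G, ∃ w : G, (∃ w' : G, y⁻¹ * w' ∈ N ∧ Commute u w') → y⁻¹ * w ∈ N ∧ Commute u w :=
    fun u => by
      by_cases h : ∃ w' : G, y⁻¹ * w' ∈ N ∧ Commute u w'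
      · exact ⟨h.choose, fun _ => h.choose_spec⟩
      · exact ⟨1, fun h' => absurd h' h⟩
  choose w hw using hex
  let i : {x // Φ x = z} → T1 a N g 1 := fun x =>
    ⟨(x.1.1.1, (w x.1.1.1)⁻¹ * x.1.1.2), (hcoset x.1 x.2).1, by
      have h1 := (hcoset x.1 x.2).2
      have h2 := (hw x.1.1.1 ⟨_, h1, x.1.2.2⟩).1
      simpa [mul_assoc] using mul_mem (inv_mem h2) h1,
      Commute.one_left _, Commute.one_left _,
      (hw x.1.1.1 ⟨_, (hcoset x.1 x.2).2, x.1.2.2⟩).2.inv_right.mul_right x.1.2.2,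
      (hP _ (hpow _)).1 x.1.2.1⟩
  have hi : Function.Injective i := by
    intro u v huv
    have h' := congrArg Subtype.val huv
    have e1 : u.1.1.1 = v.1.1.1 := (congrArg Prod.fst h' :)
    have e2 : (w u.1.1.1)⁻¹ * u.1.1.2 = (w v.1.1.1)⁻¹ * v.1.1.2 := (congrArg Prod.snd h' :)
    rw [e1] at e2
    exact Subtype.ext (Subtype.ext (Prod.ext e1 (mul_left_cancel e2)))
  haveI : Finite (T1 a N g 1) := Subtype.finite
  refine (Nat.card_le_card_of_injective i hi).trans ?_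
  rw [key a b e f hpow hea heb hfa hfb hef N g (hnorm ▸ Subgroup.mem_top g) hga]
  -- bound the swapped count
  have hex' : ∀ n : G, ∃ u : G, (∃ u' : G, g⁻¹ * u' ∈ N ∧ Commute u' n) → g⁻¹ * u ∈ N ∧ Commute u n :=
    fun n => by
      by_cases h : ∃ u' : G, g⁻¹ * u' ∈ N ∧ Commute u' n
      · exact ⟨h.choose, fun _ => h.choose_spec⟩
      · exact ⟨1, fun h' => absurd h' h⟩
  choose v hv using hex'
  haveI : Finite (T2 a N g 1) := Subtype.finite
  let j : T2 a N g 1 → {x : N × N // P x.1 ∧ Commute x.1 x.2} := fun x =>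
    ⟨(⟨x.1.2, x.2.2.1⟩, ⟨(v x.1.2)⁻¹ * x.1.1, by
        have h2 := (hv x.1.2 ⟨_, x.2.1, x.2.2.2.2.2.1⟩).1
        simpa [mul_assoc] using mul_mem (inv_mem h2) x.2.1⟩),
      (hP _ (Subtype.ext (by simpa using hpow x.1.2))).2 (Subtype.ext (by simpa using x.2.2.2.2.2.2)),
      Subtype.ext ((hv x.1.2 ⟨_, x.2.1, x.2.2.2.2.2.1⟩).2.symm.inv_right.mul_right x.2.2.2.2.2.1.symm).eq⟩
  refine Nat.card_le_card_of_injective j ?_
  intro u u' huu
  have h' := congrArg Subtype.val huu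
  have e1 : u.1.2 = u'.1.2 := congrArg Subtype.val (congrArg Prod.fst h')
  have e2 : (v u.1.2)⁻¹ * u.1.1 = (v u'.1.2)⁻¹ * u'.1.1 := congrArg Subtype.val (congrArg Prod.snd h')
  rw [e1] at e2
  exact Subtype.ext (Prod.ext (mul_left_cancel e2) e1)

end Cfsg.Agent.S4152
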