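import Cfsg.Statements.S4153
-- import your own Cfsg.Agent.* helpers here

set_option autoImplicit false
open Cfsg

namespace Cfsg.Agent.S4153

private theorem pel_iff {G : Type*} [Group G] (p : ℕ) [Fact p.Prime] (g : G) :
    (∃ k : ℕ, orderOf g = p ^ k) ↔ ∃ k : ℕ, g ^ p ^ k = 1 := by
  refine ⟨fun ⟨k, hk⟩ => ⟨k, by rw [← hk]; exact pow_orderOf_eq_one g⟩, fun ⟨k, hk⟩ => ?_⟩
  obtain ⟨j, -, hj⟩ := (Nat.dvd_prime_pow Fact.out).1 (orderOf_dvd_of_pow_eq_one hk)
  exact ⟨j, hj⟩

private theorem sigma_card {α β : Type*} [Finite α] [Finite β] (f : α → β) (c : ℕ) :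
    ((∀ b, c ≤ Nat.card {a // f a = b}) → Nat.card β * c ≤ Nat.card α) ∧
    ((∀ b, c = Nat.card {a // f a = b}) → Nat.card β * c = Nat.card α) := by
  classical
  haveI := Fintype.ofFinite β
  have h : Nat.card α = ∑ b, Nat.card {a // f a = b} := by
    rw [← Nat.card_sigma, Nat.card_congr (Equiv.sigmaFiberEquiv f)]
  refine ⟨fun hc => ?_, fun hc => ?_⟩
  · rw [h, Nat.card_eq_fintype_card, ← smul_eq_mul, ← Finset.card_univ, ← Finset.sum_const]
    exact Finset.sum_le_sum fun b _ => hc b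
  · rw [h, Finset.sum_congr rfl fun b _ => (hc b).symm, Finset.sum_const, Finset.card_univ,
      Nat.card_eq_fintype_card, smul_eq_mul]

/-- Let G be a finite group, p a prime, N a normal subgroup, P a Sylow p-subgroup of G and P̄ a Sylow p-subgroup of G/N. Count the elements of p-power order, the identity included. Then (number of such elements of G/N)/#P̄ ≤ (number of such elements of G)/#P, stated as a cross-multiplied inequality, with equality when N is central. -/
theorem result {G : Type*} [Group G] [Finite G] (p : ℕ) [Fact p.Prime] (N : Subgroup G) [N.Normal]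
    (P : Sylow p G) (Pbar : Sylow p (G ⧸ N)) :
    Nat.card {g : (G ⧸ N) // ∃ k : ℕ, orderOf g = p ^ k} * Nat.card (P : Subgroup G) ≤ Nat.card {g : G // ∃ k : ℕ, orderOf g = p ^ k} * Nat.card (Pbar : Subgroup (G ⧸ N)) ∧
    (N ≤ Subgroup.center G → Nat.card {g : (G ⧸ N) // ∃ k : ℕ, orderOf g = p ^ k} * Nat.card (P : Subgroup G) = Nat.card {g : G // ∃ k : ℕ, orderOf g = p ^ k} * Nat.card (Pbar : Subgroup (G ⧸ N))) := by
  classical
  let π := QuotientGroup.mk' N
  have hπs : Function.Surjective π := QuotientGroup.mk'_surjective N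
  let A := {g : G // ∃ k : ℕ, orderOf g = p ^ k}
  let B := {g : (G ⧸ N) // ∃ k : ℕ, orderOf g = p ^ k}
  let f : A → B := fun a => ⟨π a.1, by
    obtain ⟨k, hk⟩ := (pel_iff p a.1).1 a.2
    exact (pel_iff p _).2 ⟨k, by rw [← map_pow, hk, map_one]⟩⟩
  let c := Nat.card ↥(N.subgroupOf (P : Subgroup G))
  have cardQ : ∀ Q : Sylow p G,
      Nat.card ↥(N.subgroupOf (Q : Subgroup G)) * Nat.card (Pbar : Subgroup (G ⧸ N)) =
        Nat.card (Q : Subgroup G) := by
    intro Q
    have h1 := (Q.mapSurjective hπs).card_eq_multiplicity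
    have h2 := Pbar.card_eq_multiplicity
    rw [h2, ← h1, Sylow.coe_mapSurjective, ← Subgroup.card_mul_index (N.subgroupOf (Q : Subgroup G))]
    congr 1
    change _ = N.relIndex (Q : Subgroup G)
    have h := Subgroup.relIndex_comap (⊥ : Subgroup (G ⧸ N)) π (Q : Subgroup G)
    rw [MonoidHom.comap_bot, QuotientGroup.ker_mk', Subgroup.relIndex_bot_left] at h
    exact h.symm
  have cardc : ∀ Q : Sylow p G, Nat.card ↥(N.subgroupOf (Q : Subgroup G)) = c := by
    intro Q
    have h1 := cardQ Q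
    have h2 := cardQ P
    rw [Q.card_eq_multiplicity, ← P.card_eq_multiplicity] at h1
    exact Nat.eq_of_mul_eq_mul_right Nat.card_pos (h1.trans h2.symm)
  have hfib : ∀ b : B, c ≤ Nat.card {a // f a = b} ∧
      (N ≤ Subgroup.center G → c = Nat.card {a // f a = b}) := by
    intro b
    have hb : IsPGroup p (Subgroup.zpowers b.1) := by
      obtain ⟨k, hk⟩ := b.2
      exact IsPGroup.of_card (n := k) (by rw [Nat.card_zpowers, hk])
    obtain ⟨R, hR⟩ := hb.exists_le_sylow
    obtain ⟨Q, hQ⟩ := Sylow.mapSurjective_surjective hπs p R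
    have hbR : b.1 ∈ (Q : Subgroup G).map π := by
      rw [← Sylow.coe_mapSurjective hπs, hQ]; exact hR (Subgroup.mem_zpowers _)
    obtain ⟨g, hgQ, hgb⟩ := Subgroup.mem_map.1 hbR
    have hpel : ∀ u ∈ (Q : Subgroup G), ∃ k : ℕ, orderOf u = p ^ k := fun u hu => by
      obtain ⟨k, hk⟩ := Q.isPGroup' ⟨u, hu⟩
      exact (pel_iff p u).2 ⟨k, by simpa using congrArg Subtype.val hk⟩
    let i : ↥(N.subgroupOf (Q : Subgroup G)) → {a // f a = b} := fun n =>
      ⟨⟨g * ((n : (Q : Subgroup G)) : G), hpel _ (mul_mem hgQ n.1.2)⟩, Subtype.ext (by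
        change π (g * _) = b.1
        have : π ((n : (Q : Subgroup G)) : G) = 1 := (QuotientGroup.eq_one_iff _).2 n.2
        rw [map_mul, this, mul_one, hgb])⟩
    have hi : Function.Injective i := fun n m h => by
      have h' := congrArg (fun a : {a // f a = b} => a.1.1) h
      exact Subtype.ext (Subtype.ext (mul_left_cancel h'))
    refine ⟨(cardc Q) ▸ Nat.card_le_card_of_injective i hi, fun hc => ?_⟩
    rw [← cardc Q]
    refine Nat.card_congr (Equiv.ofBijective i ⟨hi, ?_⟩)
    rintro ⟨⟨a, ha⟩, hab⟩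
    have hab' : π a = π g := by rw [hgb]; exact congrArg Subtype.val hab
    have hn : g⁻¹ * a ∈ N := QuotientGroup.eq.1 hab'.symm
    have hz := hc hn
    have hnp : ∃ k, (g⁻¹ * a) ^ p ^ k = 1 := by
      obtain ⟨k, hk⟩ := (pel_iff p g).1 (hpel g hgQ)
      obtain ⟨j, hj⟩ := (pel_iff p a).1 ha
      refine ⟨k + j, ?_⟩
      have hcom : Commute g (g⁻¹ * a) := Subgroup.mem_center_iff.1 hz g
      have hcom' : Commute g a := by
        have := (Commute.refl g).mul_right hcom
        simpa using this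
      rw [(hcom'.inv_left).mul_pow, inv_pow, pow_add, pow_mul g, hk, one_pow, inv_one, one_mul,
        mul_comm (p ^ k), pow_mul, hj, one_pow]
    obtain ⟨k, hk⟩ := hnp
    have hZ : (Subgroup.zpowers (g⁻¹ * a)).Normal := by
      refine ⟨fun x hx y => ?_⟩
      have hxc : x ∈ Subgroup.center G := (Subgroup.zpowers_le.2 hz) hx
      rw [Subgroup.mem_center_iff.1 hxc y, mul_inv_cancel_right]
      exact hx
    haveI := hZ
    have hZp : IsPGroup p (Subgroup.zpowers (g⁻¹ * a)) := by
      obtain ⟨j, hj⟩ := (pel_iff p (g⁻¹ * a)).2 ⟨k, hk⟩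
      exact IsPGroup.of_card (n := j) (by rw [Nat.card_zpowers, hj])
    have hle := Q.is_maximal' (Q.isPGroup'.to_sup_of_normal_right hZp) le_sup_left
    have hmem : g⁻¹ * a ∈ (Q : Subgroup G) :=
      hle ▸ Subgroup.mem_sup_right (Subgroup.mem_zpowers _)
    exact ⟨⟨⟨_, hmem⟩, hn⟩, Subtype.ext (Subtype.ext (mul_inv_cancel_left g a))⟩
  have hP := cardQ P
  constructor
  · have := (sigma_card f c).1 fun b => (hfib b).1
    rw [← hP, ← mul_assoc]
    exact Nat.mul_le_mul_right _ this
  · intro hc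
    have := (sigma_card f c).2 fun b => (hfib b).2 hc
    rw [← hP, ← mul_assoc]
    exact congrArg (· * _) this

end Cfsg.Agent.S4153
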