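import Cfsg.Statements.S4154
-- import your own Cfsg.Agent.* helpers here

set_option autoImplicit false
open Cfsg

namespace Cfsg.Agent.S4154

/-- Let G be a finite group and α an automorphism of G such that every element of G is the product of an element fixed by α and an element of the form g⁻¹α(g). If N is a normal α-invariant subgroup, then the automorphism ᾱ induced on G/N has the same property, and every coset fixed by ᾱ contains an element fixed by α (so the fixed points of ᾱ are the images of the fixed points of α). -/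
theorem result {G : Type*} [Group G] [Finite G] (α : MulAut G)
    (hccp : ∀ x : G, ∃ c g : G, α c = c ∧ x = c * (g⁻¹ * α g))
    (N : Subgroup G) [N.Normal] (hN : ∀ n ∈ N, α n ∈ N) :
    (∀ x : G, ∃ c g : G, c⁻¹ * α c ∈ N ∧ x⁻¹ * (c * (g⁻¹ * α g)) ∈ N) ∧
    (∀ x : G, x⁻¹ * α x ∈ N → ∃ c : G, α c = c ∧ c⁻¹ * x ∈ N) := by
  classical
  refine ⟨fun x => ?_, fun x hx => ?_⟩
  · obtain ⟨c, g, hc, h⟩ := hccp x
    exact ⟨c, g, by rw [hc, inv_mul_cancel]; exact one_mem _, by rw [← h, inv_mul_cancel]; exact one_mem _⟩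
  let C : Subgroup G := (α.toMonoidHom).eqLocus (MonoidHom.id G)
  let π := QuotientGroup.mk' N
  have hmem : ∀ c, c ∈ C ↔ α c = c := fun c => Iff.rfl
  let D : Subgroup G :=
    { carrier := {y | π (α y) = π y}
      one_mem' := by simp
      mul_mem' := fun {a b} ha hb => by
        simp only [Set.mem_setOf_eq, map_mul] at *
        rw [ha, hb]
      inv_mem' := fun {a} ha => by
        simp only [Set.mem_setOf_eq, map_inv] at *
        rw [ha] }
  have memD : ∀ y, y ∈ D ↔ y⁻¹ * α y ∈ N := fun y => by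
    change π (α y) = π y ↔ _
    rw [eq_comm]
    exact QuotientGroup.eq
  have hND : N ≤ D := fun n hn => (memD n).2 (mul_mem (inv_mem hn) (hN n hn))
  have hCD : C ≤ D := fun c hc => by
    rw [memD, (hmem c).1 hc, inv_mul_cancel]; exact one_mem _
  have hsup : C ⊔ N = D := by
    refine le_antisymm (sup_le hCD hND) ?_
    by_contra hne
    have hlt : C ⊔ N < D := lt_of_le_not_ge (sup_le hCD hND) hne
    -- every element is (an element of `C`) times a twisted commutator
    have hwd : ∀ a b : G, a⁻¹ * b ∈ D → π (a * (α a)⁻¹) = π (b * (α b)⁻¹) := by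
      intro a b h
      have h' : π (α (a⁻¹ * b)) = π (a⁻¹ * b) := h
      rw [map_mul, map_mul, map_mul, map_inv, map_inv, map_inv] at h'
      rw [map_mul, map_mul, map_inv, map_inv]
      calc π a * (π (α a))⁻¹ = π a * ((π (α a))⁻¹ * π (α b)) * (π (α b))⁻¹ := by group
        _ = π a * ((π a)⁻¹ * π b) * (π (α b))⁻¹ := by rw [h']
        _ = _ := by group
    let k : G ⧸ D → G ⧸ N := Quotient.lift (fun a => π (a * (α a)⁻¹))
      (fun a b h => hwd a b (QuotientGroup.leftRel_apply.1 h))
    let F : ↥(Subgroup.map π C) × (G ⧸ D) → G ⧸ N := fun q => (q.1 : G ⧸ N) * k q.2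
    have hF : Function.Surjective F := by
      intro y
      obtain ⟨x, rfl⟩ := QuotientGroup.mk'_surjective N y
      obtain ⟨c, g, hc, h⟩ := hccp x
      refine ⟨(⟨π c, Subgroup.mem_map_of_mem _ ((hmem c).2 hc)⟩, ((g⁻¹ : G) : G ⧸ D)), ?_⟩
      change π c * π (g⁻¹ * (α g⁻¹)⁻¹) = π x
      rw [map_inv, inv_inv, ← map_mul, ← h]
    have h1 := Nat.card_le_card_of_surjective F hF
    rw [Nat.card_prod] at h1
    have h2 : Nat.card ↥(C.map π) = N.relIndex (C ⊔ N) := by
      have h := Subgroup.relIndex_comap (⊥ : Subgroup (G ⧸ N)) π (C ⊔ N)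
      rw [MonoidHom.comap_bot, QuotientGroup.ker_mk', Subgroup.relIndex_bot_left, Subgroup.map_sup,
        QuotientGroup.map_mk'_self, sup_bot_eq] at h
      exact h.symm
    have h3 : N.index = N.relIndex (C ⊔ N) * (C ⊔ N).relIndex D * D.index := by
      rw [Subgroup.relIndex_mul_relIndex _ _ _ le_sup_right hlt.le,
        Subgroup.relIndex_mul_index hND]
    have h4 : 1 < (C ⊔ N).relIndex D := by
      have h5 : (C ⊔ N).relIndex D ≠ 1 := fun h => hne (Subgroup.relIndex_eq_one.1 h)
      have h6 : (C ⊔ N).relIndex D ≠ 0 := Subgroup.FiniteIndex.index_ne_zero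
      omega
    have h5 : 0 < N.relIndex (C ⊔ N) * D.index :=
      Nat.mul_pos (Nat.pos_of_ne_zero Subgroup.FiniteIndex.index_ne_zero)
        (Nat.pos_of_ne_zero Subgroup.FiniteIndex.index_ne_zero)
    have h7 : Nat.card (G ⧸ N) ≤ N.relIndex (C ⊔ N) * D.index := by rw [← h2]; exact h1
    change N.index ≤ _ at h7
    rw [h3] at h7
    nlinarith
  have hxD : x ∈ ((C ⊔ N : Subgroup G) : Set G) := by rw [hsup]; exact (memD x).2 hx
  rw [Subgroup.mul_normal] at hxD
  obtain ⟨c, hc, n, hn, rfl⟩ := hxD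
  exact ⟨c, (hmem c).1 hc, by rwa [inv_mul_cancel_left]⟩

end Cfsg.Agent.S4154
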