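import Cfsg.Statements.S4155
import Cfsg.Agent.Lib.Cores.Basic
import Cfsg.Agent.Lib.Transfer.Frobenius
import Cfsg.Agent.Lib.Frobenius.FixedPointFree
import Cfsg.Agent.Lib.PGroups.UniqueInvolution

set_option autoImplicit false
open Cfsg

namespace Cfsg.Agent.S4155


set_option linter.unusedSectionVars false

open Cfsg.Agent.Lib.Frobenius

variable {G : Type*} [Group G] [Finite G]

theorem not_commute (N : Subgroup G)
    (heq : ∀ x : G, x ∉ N → ∀ n ∈ N, orderOf (x * n) = orderOf x)
    {q r : ℕ} (hq : q.Prime) (hr : r.Prime) (hqr : q ≠ r) {x v : G} (hx : x ∉ N) {k : ℕ}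
    (hxk : orderOf x = q ^ k) (hv : v ∈ N) (hvr : v ^ r = 1) (hc : Commute x v) : v = 1 := by
  by_contra h1
  have := Fact.mk hr
  have hvo : orderOf v = r := orderOf_eq_prime hvr h1
  have h := heq x hx v hv
  rw [hc.orderOf_mul_eq_mul_orderOf_of_coprime
    (by rw [hxk, hvo]; exact ((Nat.coprime_primes hq hr).2 hqr).pow_left k), hvo] at h
  exact hr.ne_one ((Nat.mul_eq_left (orderOf_pos x).ne').1 h)

theorem exists_central (N : Subgroup G) (hnil : Group.IsNilpotent N) {r : ℕ} (hr : r.Prime)
    (hd : r ∣ Nat.card N) : ∃ z : N, z ∈ Subgroup.center N ∧ z ^ r = 1 ∧ z ≠ 1 := by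
  have := Fact.mk hr
  have : Group.IsNilpotent N := hnil
  set R : Sylow r N := default
  have hRn : (R : Subgroup N).Normal :=
    R.normal_of_normalizerCondition Group.normalizerCondition_of_isNilpotent
  have : Nontrivial (R : Subgroup N) := by
    rw [Subgroup.nontrivial_iff_ne_bot]
    exact fun h => R.not_dvd_index (by rw [h, Subgroup.index_bot]; exact hd)
  have := R.2.center_nontrivial
  obtain ⟨m, hm, hc⟩ := (R.2.to_subgroup (Subgroup.center (R : Subgroup N))).nontrivial_iff_card.mp
    inferInstance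
  obtain ⟨z, hz⟩ := exists_prime_orderOf_dvd_card' (G := Subgroup.center (R : Subgroup N)) r
    (hc ▸ dvd_pow_self r (by omega))
  refine ⟨((z : (R : Subgroup N)) : N), ?_, ?_, fun h => ?_⟩
  · rw [Subgroup.mem_center_iff]
    intro g
    obtain ⟨a, b, -, -, hab', hcomm, ha, hb'⟩ :=
      Cfsg.Agent.Lib.Transfer.PResidual.exists_pPart_mul_pPrimePart (p := r) g (isOfFinOrder_of_finite g)
    have haR : a ∈ (R : Subgroup N) := by
      obtain ⟨e, he⟩ := ha
      have hA : IsPGroup r ↥(Subgroup.zpowers a) := by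
        obtain ⟨j, -, hj⟩ := (Nat.dvd_prime_pow Fact.out).1 (orderOf_dvd_of_pow_eq_one he)
        exact IsPGroup.of_card (n := j) (by rw [Nat.card_zpowers, hj])
      have hle : Subgroup.zpowers a ≤ Subgroup.normalizer ((R : Subgroup N) : Set N) := by
        rw [Subgroup.normalizer_eq_top]; exact le_top
      have hsup : IsPGroup r ↥(Subgroup.zpowers a ⊔ (R : Subgroup N)) :=
        IsPGroup.to_sup_of_normal_right' hA R.2 hle
      have := R.3 hsup le_sup_right
      rw [← this]
      exact Subgroup.mem_sup_left (Subgroup.mem_zpowers a)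
    set y : N := ((z : (R : Subgroup N)) : N) with hy
    have hya : a * y = y * a :=
      congrArg Subtype.val (Subgroup.mem_center_iff.1 z.2 ⟨a, haR⟩)
    have hyb : b * y = y * b :=
      Cfsg.Agent.Lib.Transfer.Frobenius.commute_of_coprime_of_isNilpotent (by
        rw [hy, Subgroup.orderOf_coe, Subgroup.orderOf_coe, hz]; exact hb')
    rw [← hab']
    calc a * b * y = a * (b * y) := mul_assoc _ _ _
      _ = a * (y * b) := by rw [hyb]
      _ = (a * y) * b := (mul_assoc _ _ _).symm
      _ = y * a * b := by rw [hya]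
      _ = y * (a * b) := mul_assoc _ _ _
  · have h1 : z ^ r = 1 := orderOf_dvd_iff_pow_eq_one.1 hz.dvd
    exact congrArg (fun t : Subgroup.center (R : Subgroup N) => ((t : (R : Subgroup N)) : N)) h1
  · have h1 : z = 1 := Subtype.ext (Subtype.ext h)
    rw [h1, orderOf_one] at hz
    exact hr.ne_one hz.symm

/-- Let G be a finite group and N a proper non-trivial normal nilpotent subgroup whose order is not a prime power, such that for every x outside N all elements of the coset xN have the same order as x. Then N is the Fitting subgroup of G, and for every prime q every Sylow q-subgroup of G/N is cyclic or generalized quaternion. -/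
theorem result {G : Type*} [Group G] [Finite G] (N : Subgroup G) [N.Normal] (hN1 : N ≠ ⊥) (hN2 : N ≠ ⊤)
    (heq : ∀ x : G, x ∉ N → ∀ n ∈ N, orderOf (x * n) = orderOf x)
    (hnil : Group.IsNilpotent N) (hnpp : ¬ IsPrimePow (Nat.card N)) :
    N = Cfsg.fittingSubgroup G ∧
    ∀ (q : ℕ) [Fact q.Prime] (Q : Sylow q (G ⧸ N)), IsCyclic (Q : Subgroup (G ⧸ N)) ∨ ∃ n : ℕ, Nonempty ((Q : Subgroup (G ⧸ N)) ≃* QuaternionGroup (2 ^ n)) := by
  classical
  have hF : N ≤ Cfsg.fittingSubgroup G := Cfsg.Agent.Lib.Cores.le_fittingSubgroup hnil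
  have hN : Nat.card N ≠ 1 := fun h => hN1 (Subgroup.card_eq_one.1 h)
  have other : ∀ q : ℕ, q.Prime → ∃ r : ℕ, r.Prime ∧ r ∣ Nat.card N ∧ q ≠ r := by
    intro q hq
    by_contra hcon
    push Not at hcon
    refine hnpp ((isPrimePow_nat_iff _).2 ⟨q, (Nat.card N).primeFactorsList.length, hq,
      List.length_pos_iff.2 fun h => ?_, ?_⟩)
    · rcases (Nat.primeFactorsList_eq_nil _).1 h with h' | h'
      · exact Nat.card_pos.ne' h'
      · exact hN h'
    · exact (Nat.eq_prime_pow_of_unique_prime_dvd Nat.card_pos.ne'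
        fun {d} hd hdN => (hcon d hd hdN).symm).symm
  refine ⟨le_antisymm hF ?_, ?_⟩
  · by_contra hle
    obtain ⟨x, hx, hmin⟩ := Nat.find_spec (p := fun n => ∃ x ∈ Cfsg.fittingSubgroup G, x ∉ N ∧ orderOf x = n)
      (by obtain ⟨x, h1, h2⟩ := SetLike.not_le_iff_exists.1 hle; exact ⟨_, x, h1, h2, rfl⟩)
    obtain ⟨hxN, hn⟩ := hmin
    have small : ∀ d : ℕ, d ∣ orderOf x → d ≠ 1 → x ^ d ∈ N := by
      intro d hd hd1
      by_contra h
      have hlt : orderOf (x ^ d) < orderOf x := by
        have hd0 : d ≠ 0 := fun h0 => (orderOf_pos x).ne' (by simpa [h0] using hd)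
        rw [orderOf_pow_of_dvd hd0 hd]
        exact Nat.div_lt_self (orderOf_pos x) (by omega)
      exact Nat.find_min (p := fun n => ∃ x ∈ Cfsg.fittingSubgroup G, x ∉ N ∧ orderOf x = n) _
        (hn ▸ hlt) ⟨_, pow_mem hx d, h, rfl⟩
    have ho1 : orderOf x ≠ 1 := fun h => hxN (orderOf_eq_one_iff.1 h ▸ N.one_mem)
    obtain ⟨q, hq, hqd⟩ := Nat.exists_prime_and_dvd ho1
    obtain ⟨k, hk⟩ : ∃ k, orderOf x = q ^ k := by
      by_contra hne
      push Not at hne
      set A := q ^ (orderOf x).factorization q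
      set B := orderOf x / q ^ (orderOf x).factorization q
      have hAB : A * B = orderOf x := Nat.ordProj_mul_ordCompl_eq_self _ q
      have hA1 : A ≠ 1 := by
        have := hq.factorization_pos_of_dvd (orderOf_pos x).ne' hqd
        exact (Nat.one_lt_pow this.ne' hq.one_lt).ne'
      have hB1 : B ≠ 1 := fun h => hne _ (by rw [← hAB, h, mul_one])
      obtain ⟨u, v, huv⟩ : IsCoprime (A : ℤ) (B : ℤ) :=
        Int.isCoprime_iff_nat_coprime.2 (by
          simpa using (Nat.coprime_ordCompl hq (orderOf_pos x).ne').pow_left _)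
      refine hxN ?_
      rw [show x = (x ^ A) ^ u * (x ^ B) ^ v by
        rw [← zpow_natCast x A, ← zpow_natCast x B, ← zpow_mul, ← zpow_mul, ← zpow_add,
          mul_comm (A : ℤ), mul_comm (B : ℤ), huv, zpow_one]]
      exact mul_mem (zpow_mem (small A ⟨B, hAB.symm⟩ hA1) u)
        (zpow_mem (small B ⟨A, by rw [← hAB, mul_comm]⟩ hB1) v)
    obtain ⟨r, hr, hrd, hqr⟩ := other q hq
    obtain ⟨z, -, hzr, hz1⟩ := exists_central N hnil hr hrd
    have := Fact.mk hr
    have hnF : Group.IsNilpotent (Cfsg.fittingSubgroup G) := Cfsg.Agent.Lib.Cores.fittingSubgroup_isNilpotent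
    have hzo : orderOf (z : G) = r := orderOf_eq_prime (congrArg Subtype.val hzr)
      fun h => hz1 (Subtype.ext h)
    have hcc := Cfsg.Agent.Lib.Transfer.Frobenius.commute_of_coprime_of_isNilpotent
      (G := Cfsg.fittingSubgroup G) (a := ⟨x, hx⟩) (b := ⟨z, hF z.2⟩) (by
        rw [← Subgroup.orderOf_coe, ← Subgroup.orderOf_coe]
        simp only [hk, hzo]
        exact ((Nat.coprime_primes hq hr).2 hqr).pow_left k)
    exact hz1 (Subtype.ext (not_commute N heq hq hr hqr hxN hk z.2 (congrArg Subtype.val hzr)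
      (congrArg Subtype.val hcc)))
  · intro q hq Q
    obtain ⟨r, hr, hrd, hqr⟩ := other q hq.out
    obtain ⟨z, hzc, hzr, hz1⟩ := exists_central N hnil hr hrd
    -- the module
    let Zc : Subgroup G := (Subgroup.center N).map N.subtype
    have hZn : Zc.Normal := ConjAct.normal_of_characteristic_of_normal
    let V : Subgroup Zc :=
      { carrier := {v | v ^ r = 1}
        mul_mem' := fun {a b} ha hb => by
          have hab : Commute a b := by
            obtain ⟨a', ha', hea⟩ := a.2
            obtain ⟨b', -, heb⟩ := b.2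
            refine Subtype.ext ?_
            show (a : G) * b = b * a
            rw [← hea, ← heb]
            exact congrArg Subtype.val ((Subgroup.mem_center_iff.1 ha' b').symm)
          show (a * b) ^ r = 1
          rw [hab.mul_pow, show a ^ r = 1 from ha, show b ^ r = 1 from hb, one_mul]
        one_mem' := one_pow _
        inv_mem' := fun {a} ha => by
          show a⁻¹ ^ r = 1
          rw [inv_pow, show a ^ r = 1 from ha, inv_one] }
    have hVN : ∀ v : V, ((v : Zc) : G) ∈ N := fun v => Subgroup.map_subtype_le _ (v : Zc).2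
    let _ : CommGroup V :=
      { (inferInstance : Group V) with
        mul_comm := fun a b => by
          obtain ⟨a', ha', hea⟩ := (a : Zc).2
          obtain ⟨b', -, heb⟩ := (b : Zc).2
          refine Subtype.ext (Subtype.ext ?_)
          show ((a : Zc) : G) * (b : Zc) = (b : Zc) * (a : Zc)
          rw [← hea, ← heb]
          exact congrArg Subtype.val ((Subgroup.mem_center_iff.1 ha' b').symm) }
    have : Nontrivial V := ⟨⟨⟨(z : G), ⟨z, hzc, rfl⟩⟩, Subtype.ext (show (z : G) ^ r = 1 from congrArg Subtype.val hzr)⟩, 1,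
      fun h => hz1 (Subtype.ext (congrArg (fun t : V => ((t : Zc) : G)) h))⟩
    let ρ : G →* MulAut V :=
      { toFun := fun g =>
          { toFun := fun v => ⟨⟨g * (v : Zc) * g⁻¹, hZn.conj_mem _ (v : Zc).2 g⟩, Subtype.ext (by
              show (g * ((v : Zc) : G) * g⁻¹) ^ r = 1
              rw [conj_pow, show ((v : Zc) : G) ^ r = 1 from congrArg Subtype.val v.2]; group)⟩
            invFun := fun v => ⟨⟨g⁻¹ * (v : Zc) * g, by
              simpa using hZn.conj_mem _ (v : Zc).2 g⁻¹⟩, Subtype.ext (by
              show (g⁻¹ * ((v : Zc) : G) * g) ^ r = 1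
              have : (g⁻¹ * ((v : Zc) : G) * g⁻¹⁻¹) ^ r = 1 := by
                rw [conj_pow, show ((v : Zc) : G) ^ r = 1 from congrArg Subtype.val v.2]; group
              simpa using this)⟩
            left_inv := fun v => Subtype.ext (Subtype.ext (by simp [mul_assoc]))
            right_inv := fun v => Subtype.ext (Subtype.ext (by simp [mul_assoc]))
            map_mul' := fun a b => Subtype.ext (Subtype.ext (by simp [mul_assoc])) }
        map_one' := MulEquiv.ext fun v => Subtype.ext (Subtype.ext (by simp))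
        map_mul' := fun a b => MulEquiv.ext fun v => Subtype.ext (Subtype.ext (by simp [mul_assoc])) }
    have hfix : ∀ g : G, ∀ v : V, ρ g v = v → Commute g ((v : Zc) : G) := fun g v h =>
      mul_inv_eq_iff_eq_mul.1 (congrArg (fun t : V => ((t : Zc) : G)) h)
    obtain ⟨T, rfl⟩ := Sylow.mapSurjective_surjective (f := QuotientGroup.mk' N)
      (QuotientGroup.mk'_surjective N) q Q
    set f := (QuotientGroup.mk' N).subgroupMap (T : Subgroup G)
    let σ : ↥(T : Subgroup G) →* MulAut V := ρ.comp (T : Subgroup G).subtype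
    have hout : ∀ t : ↥(T : Subgroup G), (t : G) ∉ N → ∀ v, σ t v = v → v = 1 := by
      intro t ht v hv
      obtain ⟨k, hk⟩ := (IsPGroup.iff_orderOf.1 T.2) t
      exact Subtype.ext (Subtype.ext (not_commute N heq hq.out hr hqr ht (by rw [Subgroup.orderOf_coe, hk])
        (hVN v) (congrArg Subtype.val v.2) (hfix _ v hv)))
    have hker : f.ker ≤ σ.ker := by
      intro t ht
      have htN : (t : G) ∈ N :=
        (QuotientGroup.eq_one_iff _).1 (congrArg Subtype.val (MonoidHom.mem_ker.1 ht))
      refine MonoidHom.mem_ker.2 (MulEquiv.ext fun v => Subtype.ext (Subtype.ext ?_))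
      obtain ⟨c, hc, hec⟩ := (v : Zc).2
      show (t : G) * ((v : Zc) : G) * (t : G)⁻¹ = ((v : Zc) : G)
      have := congrArg Subtype.val (Subgroup.mem_center_iff.1 hc ⟨t, htN⟩)
      rw [mul_inv_eq_iff_eq_mul, ← hec]
      exact this
    let τ := MonoidHom.liftOfSurjective f ((QuotientGroup.mk' N).subgroupMap_surjective _) ⟨σ, hker⟩
    have hτ : IsFPF τ := by
      intro a ha v hv
      obtain ⟨t, rfl⟩ := (QuotientGroup.mk' N).subgroupMap_surjective _ a
      refine hout t (fun h => ha (Subtype.ext ((QuotientGroup.eq_one_iff _).2 h))) v ?_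
      rwa [MonoidHom.liftOfRightInverse_comp_apply] at hv
    have hP := (T.mapSurjective (QuotientGroup.mk'_surjective N)).2
    rcases Cfsg.Agent.Lib.PGroups.isCyclic_or_quaternion hP (fun x y hx hy => by
        obtain ⟨z, hz, hzo⟩ : ∃ z : ↥((T : Subgroup G).map (QuotientGroup.mk' N)),
            z ∈ Subgroup.center _ ∧ orderOf z = q := by
          have hP' : IsPGroup q ↥((T : Subgroup G).map (QuotientGroup.mk' N)) := T.2.map _
          have : Nontrivial ↥((T : Subgroup G).map (QuotientGroup.mk' N)) :=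
            ⟨x, 1, fun h => hq.out.ne_one (by rw [← hx, h]; exact orderOf_one)⟩
          have := hP'.center_nontrivial
          obtain ⟨m, hm, hc⟩ := (hP'.to_subgroup (Subgroup.center _)).nontrivial_iff_card.mp this
          obtain ⟨z, hz⟩ := exists_prime_orderOf_dvd_card' (G := Subgroup.center _) q
            (hc ▸ dvd_pow_self q (by omega))
          exact ⟨z, z.2, by rw [Subgroup.orderOf_coe]; exact hz⟩
        have h1 : ∀ w : ↥((T : Subgroup G).map (QuotientGroup.mk' N)), orderOf w = q →
            Subgroup.zpowers z = Subgroup.zpowers w := by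
          intro w hw
          have hwm := hτ.mem_zpowers_of_commute hq.out hzo (orderOf_dvd_iff_pow_eq_one.1 hw.dvd)
            (Subgroup.mem_center_iff.1 hz w).symm
          refine (Subgroup.eq_of_le_of_card_ge (Subgroup.zpowers_le.2 hwm) ?_).symm
          rw [Nat.card_zpowers, Nat.card_zpowers, hw, hzo]
        exact (SetLike.ext_iff.1 ((h1 x hx).symm.trans (h1 y hy)) y).2 (Subgroup.mem_zpowers y)) with h | ⟨-, n, -, h⟩
    · exact Or.inl h
    · exact Or.inr ⟨n, h⟩

end Cfsg.Agent.S4155
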