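import Cfsg.Statements.S4156
-- import your own Cfsg.Agent.* helpers here

set_option autoImplicit false
open Cfsg
open scoped commutatorElement

namespace Cfsg.Agent.S4156

open Matrix in
private noncomputable def permMat {n : ℕ} {F : Type*} [CommRing F] (σ : Equiv.Perm (Fin (n + 1))) :
    Matrix (Fin n) (Fin n) F :=
  fun i j => (if (i.castSucc : Fin (n + 1)) = σ j.castSucc then 1 else 0) -
    (if (i.castSucc : Fin (n + 1)) = σ (Fin.last n) then 1 else 0)

private theorem permMat_mul {n : ℕ} {F : Type*} [CommRing F] (σ τ : Equiv.Perm (Fin (n + 1))) :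
    (permMat (σ * τ) : Matrix (Fin n) (Fin n) F) = permMat σ * permMat τ := by
  ext i j
  set f : Fin (n + 1) → F := fun l =>
    ((if (i.castSucc : Fin (n + 1)) = σ l then (1 : F) else 0) -
      (if (i.castSucc : Fin (n + 1)) = σ (Fin.last n) then 1 else 0)) *
    ((if l = τ j.castSucc then (1 : F) else 0) - (if l = τ (Fin.last n) then 1 else 0)) with hf
  have h1 : (permMat σ * permMat τ : Matrix (Fin n) (Fin n) F) i j = ∑ l : Fin n, f l.castSucc := rfl
  have h2 : ∑ l, f l = ∑ l : Fin n, f l.castSucc := by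
    rw [Fin.sum_univ_castSucc]
    simp [hf]
  rw [h1, ← h2]
  simp only [hf, mul_sub, Finset.sum_sub_distrib, mul_ite, mul_one, mul_zero,
    Finset.sum_ite_eq', Finset.mem_univ, if_true]
  simp only [permMat, Equiv.Perm.mul_apply]
  ring_nf
  split_ifs <;> simp_all
  all_goals (split_ifs <;> simp_all)

private theorem permMat_one {n : ℕ} {F : Type*} [CommRing F] :
    (permMat (1 : Equiv.Perm (Fin (n + 1))) : Matrix (Fin n) (Fin n) F) = 1 := by
  ext i j
  simp [permMat, Matrix.one_apply, Fin.ext_iff, i.isLt.ne]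

/-- Let n ≥ 5 and F a finite field. Then the projective special linear group PSL_n(F) contains a subgroup isomorphic to the alternating group of degree n + 1. -/
theorem result (n : ℕ) (hn : 5 ≤ n) (F : Type*) [Field F] [Finite F] :
    ∃ f : alternatingGroup (Fin (n + 1)) →* Matrix.ProjectiveSpecialLinearGroup (Fin n) F, Function.Injective f := by
  classical
  have h5 : 5 ≤ Nat.card (Fin (n + 1)) := by simp; omega
  haveI : IsSimpleGroup (alternatingGroup (Fin (n + 1))) := alternatingGroup.isSimpleGroup h5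
  let m : Equiv.Perm (Fin (n + 1)) →* Matrix (Fin n) (Fin n) F :=
    { toFun := permMat, map_one' := permMat_one, map_mul' := permMat_mul }
  let a : Equiv.Perm (Fin (n + 1)) := Equiv.swap ⟨0, by omega⟩ ⟨1, by omega⟩ * Equiv.swap ⟨0, by omega⟩ ⟨2, by omega⟩
  have ha : a ∈ alternatingGroup (Fin (n + 1)) := by
    rw [Equiv.Perm.mem_alternatingGroup]
    simp only [a, Equiv.Perm.sign_mul]
    rw [Equiv.Perm.sign_swap (by simp [Fin.ext_iff]), Equiv.Perm.sign_swap (by simp [Fin.ext_iff])]
    decide
  have hm : m a ≠ 1 := fun h => by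
    have := congrFun (congrFun h (⟨2, by omega⟩ : Fin n)) (⟨0, by omega⟩ : Fin n)
    have hl : n ≠ 0 ∧ n ≠ 1 ∧ n ≠ 2 := ⟨by omega, by omega, by omega⟩
    simp [m, permMat, a, Matrix.one_apply, Equiv.swap_apply_def, Fin.ext_iff, hl.1, hl.2.1, hl.2.2,
      hl.1.symm, hl.2.1.symm, hl.2.2.symm] at this
  have hnc : commutator (alternatingGroup (Fin (n + 1))) = ⊤ := by
    refine (Subgroup.Normal.eq_bot_or_eq_top inferInstance).resolve_left fun h => ?_
    let b : Equiv.Perm (Fin (n + 1)) := Equiv.swap ⟨0, by omega⟩ ⟨1, by omega⟩ * Equiv.swap ⟨0, by omega⟩ ⟨3, by omega⟩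
    have hb : b ∈ alternatingGroup (Fin (n + 1)) := by
      rw [Equiv.Perm.mem_alternatingGroup]
      simp only [b, Equiv.Perm.sign_mul]
      rw [Equiv.Perm.sign_swap (by simp [Fin.ext_iff]), Equiv.Perm.sign_swap (by simp [Fin.ext_iff])]
      decide
    have hab : ⁅(⟨a, ha⟩ : alternatingGroup (Fin (n + 1))), (⟨b, hb⟩ : alternatingGroup (Fin (n + 1)))⁆ = (1 : alternatingGroup (Fin (n + 1))) := by
      rw [← Subgroup.mem_bot, ← h]
      exact Subgroup.commutator_mem_commutator trivial trivial
    rw [commutatorElement_eq_one_iff_mul_comm] at hab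
    have := Equiv.congr_fun (congrArg Subtype.val hab) ⟨0, by omega⟩
    simp [a, b, Equiv.swap_apply_def, Fin.ext_iff] at this
  have habel : ∀ {A : Type _} [Group A] (φ : alternatingGroup (Fin (n + 1)) →* A), (∀ x y, Commute (φ x) (φ y)) →
      ∀ x, φ x = 1 := by
    intro A _ φ hφ x
    have : commutator (alternatingGroup (Fin (n + 1))) ≤ φ.ker := by
      rw [commutator_def, Subgroup.commutator_le]
      intro u _ v _
      rw [MonoidHom.mem_ker, map_commutatorElement, commutatorElement_eq_one_iff_commute]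
      exact hφ u v
    exact this (hnc ▸ Subgroup.mem_top x)
  let d : alternatingGroup (Fin (n + 1)) →* Fˣ :=
    ((Matrix.detMonoidHom).comp (m.comp (alternatingGroup (Fin (n + 1))).subtype)).toHomUnits
  have hd : ∀ x : alternatingGroup (Fin (n + 1)), (m x).det = 1 := fun x => by
    simpa [d] using congrArg Units.val (habel d (fun u v => Commute.all _ _) x)
  let s : alternatingGroup (Fin (n + 1)) →* Matrix.SpecialLinearGroup (Fin n) F :=
    { toFun := fun x => ⟨m x, hd x⟩
      map_one' := Subtype.ext (by simp)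
      map_mul' := fun x y => Subtype.ext (by change m (x * y : alternatingGroup (Fin (n + 1))).1 = m x * m y; simp) }
  refine ⟨(QuotientGroup.mk' _).comp s, ?_⟩
  rw [← MonoidHom.ker_eq_bot_iff]
  refine (Subgroup.Normal.eq_bot_or_eq_top inferInstance).resolve_right fun h => ?_
  have hc : ∀ x, s x ∈ Subgroup.center (Matrix.SpecialLinearGroup (Fin n) F) := fun x =>
    (QuotientGroup.eq_one_iff _).1 (show _ ∈ ((QuotientGroup.mk' _).comp s).ker by rw [h]; trivial)
  have := habel s (fun u v => Subgroup.mem_center_iff.1 (hc v) (s u)) ⟨a, ha⟩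
  exact hm (congrArg Subtype.val this)

end Cfsg.Agent.S4156
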