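import Cfsg.Statements.S4161
import Cfsg.Agent.Lib.ClassSizes.NonAdjacent
-- import your own Cfsg.Agent.* helpers here

set_option autoImplicit false
open Cfsg

namespace Cfsg.Agent.S4161

/-- Let G be a finite non-solvable group and p ≠ q primes each dividing the size of some conjugacy class of G. Then either some class size is divisible by pq, or there is a prime r, different from p and q, such that some class size is divisible by pr and some class size is divisible by rq. -/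
theorem result {G : Type*} [Group G] [Finite G] (hG : ¬ Group.IsSolvable G)
    (p q : ℕ) (hp : p.Prime) (hq : q.Prime) (hpq : p ≠ q) (hp' : ∃ x : G, p ∣ (Subgroup.centralizer ({x} : Set G)).index) (hq' : ∃ x : G, q ∣ (Subgroup.centralizer ({x} : Set G)).index) :
    (∃ x : G, p * q ∣ (Subgroup.centralizer ({x} : Set G)).index) ∨ ∃ r : ℕ, r.Prime ∧ r ≠ p ∧ r ≠ q ∧ (∃ x : G, p * r ∣ (Subgroup.centralizer ({x} : Set G)).index) ∧ (∃ y : G, r * q ∣ (Subgroup.centralizer ({y} : Set G)).index) := by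
  have := Fact.mk hp
  have := Fact.mk hq
  by_contra hcon
  push Not at hcon
  obtain ⟨hnadj, hno⟩ := hcon
  have hn : ¬ Lib.ClassSizes.NonAdjacent.Adj G p q := fun ⟨x, hx⟩ => hnadj x hx
  have hsymm : ∀ a b : ℕ, Lib.ClassSizes.NonAdjacent.Adj G a b →
      Lib.ClassSizes.NonAdjacent.Adj G b a := fun a b ⟨x, hx⟩ => ⟨x, by rwa [mul_comm]⟩
  have fin : ∀ r : ℕ, r.Prime → r ≠ p → r ≠ q → Lib.ClassSizes.NonAdjacent.Adj G p r →
      Lib.ClassSizes.NonAdjacent.Adj G r q → False := fun r hr h1 h2 ⟨x, hx⟩ ⟨y, hy⟩ =>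
    hno r hr h1 h2 ⟨x, hx⟩ y hy
  by_cases hgp : Lib.ClassSizes.NonAdjacent.Good G p <;>
    by_cases hgq : Lib.ClassSizes.NonAdjacent.Good G q
  · obtain ⟨r, hr, h1, h2, h3, h4⟩ :=
      Lib.ClassSizes.NonAdjacent.exists_common hpq hgp hgq hp' hq' hn
    exact fin r hr h1 h2 h3 h4
  · obtain ⟨r, hr, hbad, hadj⟩ := Lib.ClassSizes.NonAdjacent.exists_bad_adj hG hgp hp'
    have := Fact.mk hr
    have hrq : r ≠ q := fun h => hn (hsymm _ _ (h ▸ hadj))
    have hrp : r ≠ p := fun h => hbad (h ▸ hgp)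
    exact fin r hr hrp hrq (hsymm _ _ hadj)
      (Lib.ClassSizes.NonAdjacent.adj_of_bad hrq hbad hgq)
  · obtain ⟨r, hr, hbad, hadj⟩ := Lib.ClassSizes.NonAdjacent.exists_bad_adj hG hgq hq'
    have := Fact.mk hr
    have hrp : r ≠ p := fun h => hn (h ▸ hadj)
    have hrq : r ≠ q := fun h => hbad (h ▸ hgq)
    exact fin r hr hrp hrq (Lib.ClassSizes.NonAdjacent.adj_of_bad hrp.symm hgp hbad) hadj
  · exact hn (Lib.ClassSizes.NonAdjacent.adj_of_bad hpq hgp hgq)

end Cfsg.Agent.S4161
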