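import Cfsg.Statements.S4168


set_option autoImplicit false
open Cfsg

namespace Cfsg.Agent.S4168

/-- Let L be a finite quasisimple group (perfect with L/Z(L) simple). Then every prime dividing the order of the centre Z(L) also divides the order of L/Z(L). -/
theorem result {L : Type*} [Group L] [Finite L] (hL : Cfsg.IsQuasisimple L)
    (p : ℕ) (hp : p.Prime) (hdiv : p ∣ Nat.card (Subgroup.center L)) : p ∣ (Subgroup.center L).index := by
  obtain ⟨hperf, hsimple⟩ := hL
  haveI : Fact p.Prime := ⟨hp⟩
  obtain ⟨z, hz⟩ := exists_prime_orderOf_dvd_card' p hdiv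
  haveI := hperf
  have hker : (MonoidHom.transferCenterPow L).ker = ⊤ := by
    rw [eq_top_iff, ← Group.IsPerfect.commutator_eq_top (G := L), commutator_def,
      Subgroup.commutator_le]
    intro a _ b _
    rw [MonoidHom.mem_ker, map_commutatorElement, commutatorElement_eq_one_iff_mul_comm]
    exact Subtype.ext (Subgroup.mem_center_iff.mp (MonoidHom.transferCenterPow L b).2 _)
  have h1 : (z : L) ^ (Subgroup.center L).index = 1 := by
    have : (z : L) ∈ (MonoidHom.transferCenterPow L).ker := by rw [hker]; trivial
    rw [MonoidHom.mem_ker] at this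
    simpa using congrArg Subtype.val this
  rw [← hz, ← Subgroup.orderOf_coe]
  exact orderOf_dvd_of_pow_eq_one h1

end Cfsg.Agent.S4168
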