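import Cfsg.Statements.S4169
import Cfsg.Agent.Lib.ClassSizeMin.Basic
import Cfsg.Agent.Lib.PGroups.MaxAbelian

set_option autoImplicit false
open Cfsg

namespace Cfsg.Agent.S4169

/-- Let P be a finite p-group whose conjugacy classes have exactly two sizes (1 and one other value). Then P has nilpotency class at most 3. -/
theorem result {P : Type*} [Group P] [Finite P] {p : ℕ} [Fact p.Prime] (hP : IsPGroup p P)
    (m : ℕ) (hm : 1 < m) (h : ∀ x : P, (Subgroup.centralizer ({x} : Set P)).index = 1 ∨ (Subgroup.centralizer ({x} : Set P)).index = m) :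
    upperCentralSeries P 3 = ⊤ := by
  obtain ⟨A, -, hAn, hA, hmax⟩ :=
    Cfsg.Agent.Lib.PGroups.exists_maximal_normal_abelian (⊥ : Subgroup P) inferInstance
  have hCA := Cfsg.Agent.Lib.PGroups.centralizer_eq_self_of_maximal hP hA hmax
  have h3 := Cfsg.Agent.Lib.ClassSizeMin.Basic.class_le_three A hA hCA Set.univ fun x _ a ha =>
    Cfsg.Agent.Lib.ClassSizeMin.Basic.commutator_mem_center A hA x m
      (by rcases h x with h' | h' <;> omega)
      (fun y hy => by rcases h y with h' | h' <;> omega) a ha
  have hT : Subgroup.closure (Set.univ : Set P) = ⊤ := Subgroup.closure_univ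
  rw [eq_top_iff]
  intro x _
  change x ∈ Subgroup.upperCentralSeries P (2 + 1)
  rw [Subgroup.mem_upperCentralSeries_succ_iff]
  intro y
  rw [Subgroup.mem_upperCentralSeries_succ_iff]
  intro z
  rw [Subgroup.upperCentralSeries_one, Subgroup.mem_center_iff]
  intro w
  let u : P → ↥(Subgroup.closure (Set.univ : Set P)) := fun g => ⟨g, hT ▸ Subgroup.mem_top g⟩
  have hx : u x ∈ Subgroup.upperCentralSeries ↥(Subgroup.closure (Set.univ : Set P)) 3 := by
    rw [h3]; trivial
  rw [Subgroup.mem_upperCentralSeries_succ_iff] at hx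
  have hxy := hx (u y)
  rw [Subgroup.mem_upperCentralSeries_succ_iff] at hxy
  have hxyz := hxy (u z)
  rw [Subgroup.upperCentralSeries_one, Subgroup.mem_center_iff] at hxyz
  exact congrArg Subtype.val (hxyz (u w))

end Cfsg.Agent.S4169
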