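import Cfsg.Statements.S4170
import Mathlib.GroupTheory.Sylow
import Mathlib.GroupTheory.Perm.Cycle.Type
import Mathlib.GroupTheory.GroupAction.FixingSubgroup
import Mathlib.Data.Set.Card
-- import your own Cfsg.Agent.* helpers here

set_option autoImplicit false
set_option linter.style.haveILetI false
open scoped Pointwise
open Cfsg

namespace Cfsg.Agent.S4170

/-- Let p be an odd prime and G a nontrivial group of permutations of a finite set Ω that is generated by its elements of p-power order. Then Ω has two disjoint nonempty subsets Δ₁ and Δ₂ such that the index in G of the subgroup of elements mapping Δ₁ onto Δ₁ and Δ₂ onto Δ₂ (and hence also the complement of their union onto itself) is divisible by p. -/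
theorem result {Ω : Type*} [Fintype Ω] (p : ℕ) [Fact p.Prime] (hp : p ≠ 2) (G : Subgroup (Equiv.Perm Ω)) (hG : G ≠ ⊥) (hgen : Subgroup.closure {g : G | ∃ k : ℕ, orderOf g = p ^ k} = ⊤) :
    ∃ Δ₁ Δ₂ : Set Ω, Δ₁.Nonempty ∧ Δ₂.Nonempty ∧ Disjoint Δ₁ Δ₂ ∧ p ∣ (MulAction.stabilizer G Δ₁ ⊓ MulAction.stabilizer G Δ₂).index := by
  classical
  have hp' : p.Prime := Fact.out
  -- a prime order element
  have hdvd : p ∣ Nat.card G := by
    by_contra hnd
    apply hG
    have h1 : {g : G | ∃ k : ℕ, orderOf g = p ^ k} ⊆ {1} := by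
      rintro g ⟨k, hk⟩
      rcases Nat.eq_zero_or_pos k with rfl | hk0
      · exact orderOf_eq_one_iff.1 (by simpa using hk)
      · exact absurd (dvd_trans (dvd_pow_self p hk0.ne') (hk ▸ orderOf_dvd_natCard g)) hnd
    have h2 : (⊤ : Subgroup G) ≤ ⊥ := hgen ▸ (Subgroup.closure_mono h1).trans
      (le_of_eq (by simp))
    rw [eq_bot_iff]
    intro g hg
    have := h2 (Subgroup.mem_top (⟨g, hg⟩ : G))
    simpa [Subgroup.mem_bot, Subtype.ext_iff] using this
  obtain ⟨x, hx⟩ := exists_prime_orderOf_dvd_card' p hdvd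
  obtain ⟨a, ha⟩ : ∃ a : Ω, x • a ≠ a := by
    by_contra hfix
    push Not at hfix
    have hx1 : x = 1 := by
      apply Subtype.ext
      apply Equiv.ext
      intro a
      exact hfix a
    rw [hx1, orderOf_one] at hx
    exact hp'.one_lt.ne hx
  set D : Set Ω := MulAction.orbit (Subgroup.zpowers x) a with hD
  have hDcard : Nat.card D = p := by
    have h1 := Nat.card_congr (MulAction.orbitEquivQuotientStabilizer (Subgroup.zpowers x) a)
    have h2 : Nat.card D ∣ p := by
      rw [hD, h1]
      have := Subgroup.card_quotient_dvd_card (MulAction.stabilizer (Subgroup.zpowers x) a)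
      rwa [Nat.card_zpowers, hx] at this
    rcases (Nat.dvd_prime hp').1 h2 with h | h
    · exfalso
      have hs : Subsingleton D := (Nat.card_eq_one_iff_unique.1 h).1
      have hm : x • a ∈ D := ⟨⟨x, Subgroup.mem_zpowers x⟩, rfl⟩
      exact ha (congrArg Subtype.val
        (Subsingleton.elim (⟨x • a, hm⟩ : D) ⟨a, MulAction.mem_orbit_self a⟩))
    · exact h
  have haD : a ∈ D := MulAction.mem_orbit_self a
  have hDn : D.ncard = p := by rw [← Nat.card_coe_set_eq]; exact hDcard
  refine ⟨{a}, D \ {a}, ⟨a, rfl⟩, ?_, Set.disjoint_sdiff_right, ?_⟩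
  · rw [← Set.ncard_pos (Set.toFinite _)]
    have := Set.ncard_sdiff_singleton_of_mem haD
    have := hp'.one_lt
    omega
  by_contra hnd
  set H := MulAction.stabilizer G ({a} : Set Ω) ⊓ MulAction.stabilizer G (D \ {a}) with hH
  obtain ⟨Q⟩ : Nonempty (Sylow p H) := inferInstance
  set Q' : Subgroup G := (Q : Subgroup H).map H.subtype with hQ'
  -- the image of a Sylow subgroup of the stabilizer is Sylow in G
  have hQcard : Nat.card Q' = p ^ (Nat.card G).factorization p := by
    rw [hQ', Subgroup.card_map_of_injective H.subtype_injective, Q.card_eq_multiplicity]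
    congr 1
    rw [← Subgroup.card_mul_index H, Nat.factorization_mul Nat.card_pos.ne'
      Subgroup.index_ne_zero_of_finite, Finsupp.add_apply,
      Nat.factorization_eq_zero_of_not_dvd hnd, add_zero]
  have hQH : Q' ≤ H := Subgroup.map_subtype_le _
  have hQp : IsPGroup p Q' := IsPGroup.of_card hQcard
  -- it fixes the orbit pointwise
  have hfix : ∀ q ∈ Q', ∀ b ∈ D, q • b = b := by
    intro q hq b hb
    have hqH := hQH hq
    have hq1 : q • ({a} : Set Ω) = {a} := MulAction.mem_stabilizer_iff.1 hqH.1
    rw [Set.smul_set_singleton, Set.singleton_eq_singleton_iff] at hq1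
    by_cases hba : b = a
    · rw [hba]; exact hq1
    have hb' : b ∈ D \ {a} := ⟨hb, hba⟩
    have hsub : MulAction.orbit Q' b ⊆ D \ {a} := by
      rintro _ ⟨r, rfl⟩
      show (r : G) • b ∈ D \ {a}
      have hr : (r : G) • (D \ {a}) = D \ {a} := MulAction.mem_stabilizer_iff.1 (hQH r.2).2
      rw [← hr]
      exact Set.smul_mem_smul_set hb'
    obtain ⟨k, hk⟩ := hQp.card_orbit b
    have hlt : Nat.card (MulAction.orbit Q' b) < p := by
      have h1 := Set.ncard_le_ncard hsub (Set.toFinite _)
      have h2 := Set.ncard_sdiff_singleton_of_mem haD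
      rw [Nat.card_coe_set_eq]
      have := hp'.one_lt
      omega
    have hk0 : k = 0 := by
      by_contra hk0
      rw [hk] at hlt
      exact absurd hlt (not_lt.2 (Nat.le_self_pow hk0 p))
    rw [hk0, pow_zero] at hk
    haveI := (Nat.card_eq_one_iff_unique.1 hk).1
    exact congrArg Subtype.val (Subsingleton.elim
      (⟨q • b, ⟨⟨q, hq⟩, rfl⟩⟩ : MulAction.orbit Q' b) ⟨b, MulAction.mem_orbit_self b⟩)
  set K : Subgroup G := fixingSubgroup G D with hK
  have hQK : Q' ≤ K := fun q hq => (mem_fixingSubgroup_iff G).2 fun b hb => hfix q hq b hb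
  have hxD : x • D = D := by
    have := MulAction.smul_orbit (⟨x, Subgroup.mem_zpowers x⟩ : Subgroup.zpowers x) a
    exact this
  have hxS : x ∈ MulAction.stabilizer G D := MulAction.mem_stabilizer_iff.2 hxD
  have hKS : K ≤ MulAction.stabilizer G D := fun g hg => by
    rw [MulAction.mem_stabilizer_iff]
    have hg' := (mem_fixingSubgroup_iff G).1 hg
    ext b
    constructor
    · rintro ⟨c, hc, rfl⟩
      show g • c ∈ D
      rw [hg' c hc]
      exact hc
    · intro hb
      exact ⟨b, hb, hg' b hb⟩
  set S : Subgroup G := MulAction.stabilizer G D with hS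
  -- a p-part of the index of K in S contradicts maximality
  have hnorm : (K.subgroupOf S).Normal := by
    constructor
    intro k hk g
    rw [Subgroup.mem_subgroupOf] at hk ⊢
    rw [hK, mem_fixingSubgroup_iff] at hk ⊢
    intro b hb
    have hg : ((g : G))⁻¹ • b ∈ D := by
      have := MulAction.mem_stabilizer_iff.1 (inv_mem g.2)
      rw [← this]
      exact Set.smul_mem_smul_set hb
    simp only [Subgroup.coe_mul, Subgroup.coe_inv, mul_smul]
    rw [hk _ hg, smul_inv_smul]
  haveI := hnorm
  have hnd2 : ¬ p ∣ K.relIndex S := by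
    intro h
    have h1 : p ^ ((Nat.card G).factorization p + 1) ∣ Nat.card S := by
      rw [pow_succ, ← hQcard, ← Subgroup.card_mul_index (K.subgroupOf S),
        Nat.card_congr (Subgroup.subgroupOfEquivOfLe hKS).toEquiv]
      exact mul_dvd_mul (Subgroup.card_dvd_of_le hQK) h
    have h2 := h1.trans (Subgroup.card_subgroup_dvd_card S)
    have h3 := (hp'.pow_dvd_iff_le_factorization Nat.card_pos.ne').1 h2
    omega
  have hxK : x ∉ K := fun h => ha ((mem_fixingSubgroup_iff G).1 h a haD)
  apply hnd2
  have hy : orderOf (QuotientGroup.mk' (K.subgroupOf S) ⟨x, hxS⟩) = p := by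
    refine orderOf_eq_prime ?_ ?_
    · rw [← map_pow, show (⟨x, hxS⟩ : S) ^ p = 1 from Subtype.ext (by
        rw [SubgroupClass.coe_pow, Subgroup.coe_one, ← hx, pow_orderOf_eq_one]), map_one]
    · intro h
      rw [QuotientGroup.mk'_apply, QuotientGroup.eq_one_iff, Subgroup.mem_subgroupOf] at h
      exact hxK h
  exact hy ▸ orderOf_dvd_natCard _

end Cfsg.Agent.S4170
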