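import Cfsg.Statements.S4172
import Cfsg.Agent.Lib.Transfer.Tate
import Cfsg.Agent.Lib.Cores.Basic
import Cfsg.Agent.Lib.Cores.MinNormal
import Cfsg.Agent.Lib.Components.GenFitting
import Cfsg.Agent.Lib.FStarTools.Basic
import Cfsg.Agent.Lib.PGroups.Frattini
import Cfsg.Agent.Lib.PLocal.Thompson
import Cfsg.Agent.S3747

set_option autoImplicit false
open Cfsg

namespace Cfsg.Agent.S4172

open Cfsg.Agent.Lib
open scoped commutatorElement

variable {G : Type*} [Group G] [Finite G] {p : ℕ} [hp : Fact p.Prime]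

/-- In a two-generator `p`-group, a normal subgroup outside the Frattini subgroup has cyclic quotient. -/
theorem isCyclic_quotient {Q : Type*} [Group Q] [Finite Q] (hQ : IsPGroup p Q)
    (hgen : (frattini Q).index = p ^ 2) (K : Subgroup Q) [K.Normal] (hK : ¬ K ≤ frattini Q) :
    IsCyclic (Q ⧸ K) := by
  obtain ⟨u, huK, hu⟩ := SetLike.not_le_iff_exists.mp hK
  set L := frattini Q ⊔ Subgroup.zpowers u with hL
  by_cases hLtop : L = ⊤
  · have hu' : Subgroup.zpowers u = ⊤ := frattini_nongenerating (by rwa [sup_comm])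
    have : Subsingleton (Q ⧸ K) := QuotientGroup.subsingleton_iff.mpr
      (top_le_iff.mp (hu' ▸ Subgroup.zpowers_le.mpr huK))
    exact isCyclic_of_subsingleton
  obtain ⟨v, hv⟩ : ∃ v, v ∉ L := by
    by_contra h; push Not at h; exact hLtop ((Subgroup.eq_top_iff' L).mpr h)
  set L' := L ⊔ Subgroup.zpowers v with hL'
  have h1 : (frattini Q).relIndex L * (L.relIndex L' * L'.index) = p ^ 2 := by
    rw [Subgroup.relIndex_mul_index (le_sup_left : L ≤ L'), Subgroup.relIndex_mul_index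
      (le_sup_left : frattini Q ≤ L), hgen]
  have hge : ∀ A B : Subgroup Q, ¬ B ≤ A → A.relIndex B ∣ p ^ 2 → p ≤ A.relIndex B := by
    intro A B hAB hd
    obtain ⟨i, -, hi⟩ := (Nat.dvd_prime_pow hp.out).mp hd
    rcases Nat.eq_zero_or_pos i with rfl | hi0
    · exact absurd (Subgroup.relIndex_eq_one.mp (by simpa using hi)) hAB
    · rw [hi]; exact Nat.le_self_pow hi0.ne' p
  have h2 := hge (frattini Q) L (fun h => hu (h (le_sup_right (α := Subgroup Q) (Subgroup.mem_zpowers u))))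
    (h1 ▸ dvd_mul_right _ _)
  have h3 := hge L L' (fun h => hv (h (le_sup_right (α := Subgroup Q) (Subgroup.mem_zpowers v))))
    (h1 ▸ dvd_mul_of_dvd_right (dvd_mul_right _ _) _)
  have h4 : L'.index = 1 := by
    have h5 : 0 < L'.index := Nat.pos_of_ne_zero Subgroup.index_ne_zero_of_finite
    by_contra hne
    have h6 : p * (p * 2) ≤ p ^ 2 :=
      h1 ▸ Nat.mul_le_mul h2 (Nat.mul_le_mul h3 (by omega : 2 ≤ L'.index))
    have h7 := hp.out.pos
    nlinarith
  have h5 : Subgroup.zpowers u ⊔ Subgroup.zpowers v = ⊤ := by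
    refine frattini_nongenerating ?_
    rw [sup_comm (Subgroup.zpowers u ⊔ _), ← sup_assoc]
    exact Subgroup.index_eq_one.mp h4
  rw [isCyclic_iff_exists_zpowers_eq_top]
  refine ⟨QuotientGroup.mk' K v, ?_⟩
  have h6 := congrArg (Subgroup.map (QuotientGroup.mk' K)) h5
  rw [Subgroup.map_sup, MonoidHom.map_zpowers, MonoidHom.map_zpowers, Subgroup.map_top_of_surjective _ (QuotientGroup.mk'_surjective K),
    (QuotientGroup.eq_one_iff u).mpr huK |> fun h => (show QuotientGroup.mk' K u = 1 from h),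
    Subgroup.zpowers_one_eq_bot, bot_sup_eq] at h6
  exact h6

/-- Consequently the derived subgroup of `P` lies in every subgroup it normalises not meeting `P` inside `Φ(P)`. -/
theorem commutator_le_of_not_le (P : Sylow p G) (hgen : (frattini ↥(P : Subgroup G)).index = p ^ 2)
    (K : Subgroup G) [(K.subgroupOf (P : Subgroup G)).Normal]
    (hK : ¬ K ⊓ (P : Subgroup G) ≤ (frattini ↥(P : Subgroup G)).map (P : Subgroup G).subtype) :
    (IsCyclic ((P : Subgroup G) ⧸ K.subgroupOf (P : Subgroup G))) ∧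
    ∀ a ∈ (P : Subgroup G), ∀ b ∈ (P : Subgroup G), ⁅a, b⁆ ∈ K := by
  have hcyc := isCyclic_quotient P.isPGroup' hgen (K.subgroupOf (P : Subgroup G)) fun h =>
    hK fun x hx => ⟨⟨x, hx.2⟩, h (Subgroup.mem_subgroupOf.mpr hx.1), rfl⟩
  refine ⟨hcyc, fun a ha b hb => ?_⟩
  have h1 : QuotientGroup.mk' (K.subgroupOf (P : Subgroup G)) ⁅(⟨a, ha⟩ : (P : Subgroup G)), ⟨b, hb⟩⁆ = 1 := by
    rw [map_commutatorElement, commutatorElement_eq_one_iff_mul_comm]
    obtain ⟨g, hg⟩ := IsCyclic.exists_generator (α := (P : Subgroup G) ⧸ K.subgroupOf (P : Subgroup G))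
    obtain ⟨i, hi⟩ := Subgroup.mem_zpowers_iff.mp (hg (QuotientGroup.mk' _ (⟨a, ha⟩ : (P : Subgroup G))))
    obtain ⟨j, hj⟩ := Subgroup.mem_zpowers_iff.mp (hg (QuotientGroup.mk' _ (⟨b, hb⟩ : (P : Subgroup G))))
    rw [← hi, ← hj]
    exact (Commute.zpow_zpow_self g i j).eq
  exact Subgroup.mem_subgroupOf.mp ((QuotientGroup.eq_one_iff _).mp h1)

/-- A subgroup normalised by `P` and meeting it inside `Φ(P)` has a normal `p`-complement. -/
theorem exists_complement_of_inf_le (P : Sylow p G) (A : Subgroup G)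
    (hAP : (P : Subgroup G) ≤ Subgroup.normalizer (A : Set G))
    (h : A ⊓ (P : Subgroup G) ≤ (frattini ↥(P : Subgroup G)).map (P : Subgroup G).subtype) :
    ∃ N : Subgroup A, N.Normal ∧ ¬ p ∣ Nat.card N ∧ ∃ k, N.index = p ^ k := by
  set H : Subgroup G := A ⊔ (P : Subgroup G) with hH
  let P0 : Sylow p H := P.subtype le_sup_right
  have hn : (A.subgroupOf H).Normal :=
    Subgroup.normal_subgroupOf_of_le_normalizer (sup_le Subgroup.le_normalizer hAP)
  have hle : A.subgroupOf H ⊓ (P0 : Subgroup H) ≤ (frattini P0).map (P0 : Subgroup H).subtype := by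
    intro x hx
    obtain ⟨y, hy, hyx⟩ := h ⟨Subgroup.mem_subgroupOf.mp hx.1, hx.2⟩
    let e : (P : Subgroup G) ≃* (P0 : Subgroup H) :=
      (Subgroup.subgroupOfEquivOfLe le_sup_right).symm
    exact ⟨e y, frattini_le_comap_frattini_of_surjective (φ := e.toMonoidHom) e.surjective hy,
      Subtype.ext hyx⟩
  obtain ⟨S, M, hM, hc⟩ := Transfer.Tate.hasNormalPComplement_of_inf_le_frattini P0 _ hle
  let e : (A.subgroupOf H) ≃* A := Subgroup.subgroupOfEquivOfLe le_sup_left
  refine ⟨M.map e.toMonoidHom, hM.map _ e.surjective, ?_, ?_⟩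
  · rw [show e.toMonoidHom = (e : _ →* A) from rfl, Subgroup.card_map_of_injective e.injective, ← hc.index_eq_card]
    exact S.not_dvd_index
  · obtain ⟨k, hk⟩ := IsPGroup.iff_card.mp S.isPGroup'
    exact ⟨k, by rw [show e.toMonoidHom = (e : _ →* A) from rfl, Subgroup.index_map_equiv, hc.symm.index_eq_card, hk]⟩

theorem ne_bot_not_le_frattini (P : Sylow p G) (hcore : Cfsg.pPrimeCore p G = ⊥)
    (hfrat : ((frattini ↥(P : Subgroup G)).map (P : Subgroup G).subtype).normalCore = ⊥)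
    (K : Subgroup G) [hKn : K.Normal] (hK : K ≠ ⊥) :
    ¬ K ⊓ (P : Subgroup G) ≤ (frattini ↥(P : Subgroup G)).map (P : Subgroup G).subtype := by
  intro h
  obtain ⟨N, hN, hNp, k, hk⟩ := exists_complement_of_inf_le P K
    (by rw [Subgroup.normalizer_eq_top_iff.mpr hKn]; exact le_top) h
  have hNbot : N = ⊥ := by
    have h1 : (pPrimeCore p K).map K.subtype ≤ pPrimeCore p G := by
      have := Cores.normal_map_subtype K (pPrimeCore p K)
      refine Cores.le_pPrimeCore ?_
      rw [Subgroup.card_map_of_injective K.subtype_injective]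
      exact Cores.pPrimeCore_coprime p
    rw [hcore, le_bot_iff, Subgroup.map_eq_bot_iff_of_injective _ K.subtype_injective] at h1
    exact le_bot_iff.mp (h1 ▸ Cores.le_pPrimeCore_of_not_dvd hNp)
  rw [hNbot, Subgroup.index_bot] at hk
  have hKp : IsPGroup p K := IsPGroup.of_card hk
  have h2 : K ≤ (P : Subgroup G) := (Cores.le_pCore hKp).trans (Cores.pCore_le_sylow P)
  exact hK (le_bot_iff.mp (hfrat ▸ (Subgroup.normal_le_normalCore.mpr ((le_inf le_rfl h2).trans h))))

/-- The image of `P` modulo a normal subgroup is cyclic. -/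
theorem isCyclic_image (P : Sylow p G) (hgen : (frattini ↥(P : Subgroup G)).index = p ^ 2)
    (hcore : Cfsg.pPrimeCore p G = ⊥)
    (hfrat : ((frattini ↥(P : Subgroup G)).map (P : Subgroup G).subtype).normalCore = ⊥)
    (K : Subgroup G) [hKn : K.Normal] (hK : K ≠ ⊥) :
    IsCyclic ↥((P : Subgroup G).map (QuotientGroup.mk' K)) := by
  have hc := (commutator_le_of_not_le P hgen K
    (ne_bot_not_le_frattini P hcore hfrat K hK)).1
  let f : (P : Subgroup G) ⧸ K.subgroupOf (P : Subgroup G) →* (P : Subgroup G).map (QuotientGroup.mk' K) :=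
    QuotientGroup.lift _ ((QuotientGroup.mk' K).subgroupMap (P : Subgroup G)) fun x hx =>
      Subtype.ext ((QuotientGroup.eq_one_iff _).mpr (Subgroup.mem_subgroupOf.mp hx))
  exact isCyclic_of_surjective f fun y => by
    obtain ⟨x, hx⟩ := (QuotientGroup.mk' K).subgroupMap_surjective (P : Subgroup G) y
    exact ⟨x, hx⟩

omit hp in
/-- A perfect group with abelian Sylow `p`-subgroups has no central element of order `p`. -/
theorem central_eq_one {E : Type*} [Group E] [Finite E] [Fact p.Prime] (hE : commutator E = ⊤)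
    (Q : Sylow p E) (hQ : IsMulCommutative (Q : Subgroup E)) (z : E) (hz : z ∈ Subgroup.center E)
    (hzQ : z ∈ (Q : Subgroup E)) : z = 1 := by
  haveI := hQ
  letI : CommGroup (Q : Subgroup E) := { (inferInstance : Group (Q : Subgroup E)) with mul_comm := hQ.is_comm.comm }
  let φ : (Q : Subgroup E) →* (Q : Subgroup E) := MonoidHom.id _
  have hT : MonoidHom.transfer φ = 1 := by
    have h := Abelianization.commutator_subset_ker (MonoidHom.transfer φ)
    rw [hE, top_le_iff, MonoidHom.ker_eq_top_iff] at h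
    exact h
  have key : ∀ (k : ℕ) (g₀ : E), g₀⁻¹ * z ^ k * g₀ ∈ (Q : Subgroup E) → g₀⁻¹ * z ^ k * g₀ = z ^ k := by
    intro k g₀ _
    rw [mul_assoc, ← Subgroup.mem_center_iff.mp (pow_mem hz k) g₀, ← mul_assoc, inv_mul_cancel, one_mul]
  have h1 := MonoidHom.transfer_eq_pow φ z key
  rw [hT, MonoidHom.one_apply] at h1
  have h2 : z ^ (Q : Subgroup E).index = 1 := (congrArg Subtype.val h1).symm
  obtain ⟨k, hk⟩ := Q.isPGroup' ⟨z, hzQ⟩
  have h3 : z ^ p ^ k = 1 := congrArg Subtype.val hk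
  have h4 := Nat.dvd_gcd (orderOf_dvd_of_pow_eq_one h2) (orderOf_dvd_of_pow_eq_one h3)
  rw [Nat.Coprime.gcd_eq_one (Nat.Coprime.pow_right k
    ((‹Fact p.Prime›.out.coprime_iff_not_dvd.mpr Q.not_dvd_index).symm))] at h4
  exact orderOf_eq_one_iff.mp (Nat.dvd_one.mp h4)

theorem abelian_case (P : Sylow p G) (hna : ¬ IsMulCommutative (P : Subgroup G))
    (hgen : (frattini ↥(P : Subgroup G)).index = p ^ 2) (hcore : Cfsg.pPrimeCore p G = ⊥)
    (hfrat : ((frattini ↥(P : Subgroup G)).map (P : Subgroup G).subtype).normalCore = ⊥)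
    (N : Subgroup G) [hNn : N.Normal] (hNne : N ≠ ⊥) (huniq : ∀ K : Subgroup G, K.Normal → K ≠ ⊥ → N ≤ K)
    (hF : fittingSubgroup G ≠ ⊥) :
    generalizedFittingSubgroup G = N ∧ IsMulCommutative N := by
  classical
  set R : Subgroup G := fittingSubgroup G with hRdef
  have hRn : R.Normal := Cores.fittingSubgroup_normal
  have hNR : N ≤ R := huniq R hRn hF
  have hRP : R ≤ (P : Subgroup G) := by
    rw [hRdef, FStarTools.fitting_eq_pCore hcore]; exact Cores.pCore_le_sylow P
  have hcyc := commutator_le_of_not_le P hgen N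
    (ne_bot_not_le_frattini P hcore hfrat N hNne)
  have hcyc := hcyc.1
  -- `R` is elementary abelian
  have hΦ : ∀ K : Subgroup G, K.Normal →
      K ≤ (frattini ↥(P : Subgroup G)).map (P : Subgroup G).subtype → K = ⊥ := fun K hK h => by
    haveI := hK
    exact le_bot_iff.mp (hfrat ▸ Subgroup.normal_le_normalCore.mpr h)
  have hcomm : ∀ a ∈ R, ∀ b ∈ R, a * b = b * a := by
    intro a ha b hb
    have h1 : ⁅R, R⁆ = ⊥ := hΦ _ (Subgroup.commutator_normal R R) (Subgroup.commutator_le.mpr fun a ha b hb =>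
      ⟨⁅(⟨a, hRP ha⟩ : (P : Subgroup G)), ⟨b, hRP hb⟩⁆, PGroups.commutator_le_frattini P.isPGroup' (Subgroup.commutator_mem_commutator (Subgroup.mem_top _) (Subgroup.mem_top _)), rfl⟩)
    exact commutatorElement_eq_one_iff_mul_comm.mp
      (Subgroup.mem_bot.mp (h1 ▸ Subgroup.commutator_mem_commutator ha hb))
  have hpow : ∀ a ∈ R, a ^ p = 1 := by
    intro a ha
    let W : Subgroup G := Subgroup.closure ((fun x => x ^ p) '' (R : Set G))
    have hW : W.Normal := by
      refine ⟨fun w hw g => ?_⟩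
      have : W.map (MulAut.conj g).toMonoidHom ≤ W := by
        rw [MonoidHom.map_closure, Subgroup.closure_le]
        rintro _ ⟨_, ⟨x, hx, rfl⟩, rfl⟩
        exact Subgroup.subset_closure ⟨g * x * g⁻¹, hRn.conj_mem x hx g, by simp [conj_pow]⟩
      exact this ⟨w, hw, rfl⟩
    have h1 : W = ⊥ := hΦ W hW ((Subgroup.closure_le _).mpr (by
      rintro _ ⟨x, hx, rfl⟩
      exact ⟨(⟨x, hRP hx⟩ : (P : Subgroup G)) ^ p, PGroups.pow_mem_frattini P.isPGroup' _, rfl⟩))
    exact Subgroup.mem_bot.mp (h1 ▸ Subgroup.subset_closure ⟨a, ha, rfl⟩)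
  haveI hNc : IsMulCommutative N := ⟨⟨fun a b => Subtype.ext (hcomm a (hNR a.2) b (hNR b.2))⟩⟩
  -- no components
  have hE : layer G = ⊥ := by
    by_contra hE
    have hEn : (layer G).Normal := inferInstance
    have hNE : N ≤ layer G := huniq _ hEn hE
    obtain ⟨Q, hQ⟩ := (show ∃ Q : Sylow p (layer G),
        (Q : Subgroup (layer G)) = (P : Subgroup G).subgroupOf (layer G) from by
      refine ⟨IsPGroup.toSylow (P := (P : Subgroup G).subgroupOf (layer G))
        (P.isPGroup'.comap_subtype) ?_, rfl⟩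
      have h1 := PLocal.not_dvd_relIndex_inf P (layer G)
      rwa [Subgroup.inf_relIndex_right] at h1)
    refine hNne ((Subgroup.eq_bot_iff_forall N).mpr fun z hz => ?_)
    have hzc : ∀ w ∈ layer G, w * z = z * w := fun w hw =>
      (Subgroup.mem_centralizer_iff.mp (Components.Layer.fitting_le_centralizer_layer (hNR hz)) w hw)
    refine congrArg Subtype.val (central_eq_one (p := p) ?_ Q ?_ (⟨z, hNE hz⟩ : layer G)
      (Subgroup.mem_center_iff.mpr fun w => Subtype.ext (hzc w w.2)) ?_)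
    · exact Group.isPerfect_def.mp Components.Layer.layer_perfect
    · rw [hQ]
      refine ⟨⟨fun a b => ?_⟩⟩
      obtain ⟨⟨a, haE⟩, haP⟩ := a
      obtain ⟨⟨b, hbE⟩, hbP⟩ := b
      apply Subtype.ext
      apply Subtype.ext
      show a * b = b * a
      obtain ⟨g, hg⟩ := IsCyclic.exists_generator (α := (P : Subgroup G) ⧸ N.subgroupOf (P : Subgroup G))
      -- both are powers of a single element of the layer modulo `N`
      let Ep : Subgroup ((P : Subgroup G) ⧸ N.subgroupOf (P : Subgroup G)) :=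
        ((layer G).subgroupOf (P : Subgroup G)).map (QuotientGroup.mk' _)
      obtain ⟨c, hc⟩ := IsCyclic.exists_generator (α := Ep)
      obtain ⟨c', hc'E, hc'⟩ := c.2
      have hex : ∀ x (hxE : x ∈ layer G) (hxP : x ∈ (P : Subgroup G)),
          ∃ i : ℤ, ∃ n ∈ N, x = (c' : G) ^ i * n := by
        intro x hxE hxP
        obtain ⟨i, hi⟩ := Subgroup.mem_zpowers_iff.mp (hc ⟨_, ⟨⟨x, hxP⟩, hxE, rfl⟩⟩)
        have h1 : QuotientGroup.mk' (N.subgroupOf (P : Subgroup G)) (c' ^ i) =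
            QuotientGroup.mk' (N.subgroupOf (P : Subgroup G)) ⟨x, hxP⟩ := by
          rw [map_zpow, hc']; exact congrArg Subtype.val hi
        obtain ⟨n, hn, hn'⟩ := QuotientGroup.mk'_eq_mk' (N.subgroupOf (P : Subgroup G)) |>.mp h1
        exact ⟨i, n, Subgroup.mem_subgroupOf.mp hn, (congrArg Subtype.val hn').symm⟩
      obtain ⟨i, n, hn, rfl⟩ := hex a haE haP
      obtain ⟨j, m, hm, rfl⟩ := hex b hbE hbP
      have hcE : (c' : G) ∈ layer G := hc'E
      have hnc : ∀ n ∈ N, ∀ w ∈ layer G, Commute w n := fun n hn w hw =>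
        Subgroup.mem_centralizer_iff.mp (Components.Layer.fitting_le_centralizer_layer (hNR hn)) w hw
      exact ((Commute.zpow_zpow_self (c' : G) i j).mul_right (hnc m hm _ (zpow_mem hcE i))).mul_left
        ((hnc n hn _ (zpow_mem hcE j)).symm.mul_right (hcomm n (hNR hn) m (hNR hm)))
    · rw [hQ]; exact Subgroup.mem_subgroupOf.mpr (hRP (hNR hz))
  have hgF : generalizedFittingSubgroup G = R := by rw [generalizedFittingSubgroup, hE, bot_sup_eq]
  refine ⟨hgF.trans ?_, hNc⟩
  -- `R = N`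
  refine le_antisymm ?_ hNR
  by_contra hRN
  obtain ⟨r, hrR, hrN⟩ := SetLike.not_le_iff_exists.mp hRN
  obtain ⟨g, hg⟩ := IsCyclic.exists_generator (α := (P : Subgroup G) ⧸ N.subgroupOf (P : Subgroup G))
  obtain ⟨v, rfl⟩ := QuotientGroup.mk_surjective g
  let Q := (P : Subgroup G) ⧸ N.subgroupOf (P : Subgroup G)
  have hrep : ∀ x (hx : x ∈ (P : Subgroup G)), ∃ i : ℕ, ∃ n ∈ N, x = (v : G) ^ i * n := by
    intro x hx
    obtain ⟨i, hi⟩ := (isOfFinOrder_of_finite _).mem_powers_iff_mem_zpowers.mpr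
      (hg (QuotientGroup.mk ⟨x, hx⟩))
    have h1 : QuotientGroup.mk' (N.subgroupOf (P : Subgroup G)) (v ^ i) =
        QuotientGroup.mk' (N.subgroupOf (P : Subgroup G)) ⟨x, hx⟩ := by
      rw [map_pow]; exact hi
    obtain ⟨n, hn, hn'⟩ := QuotientGroup.mk'_eq_mk' (N.subgroupOf (P : Subgroup G)) |>.mp h1
    exact ⟨i, n, Subgroup.mem_subgroupOf.mp hn, (congrArg Subtype.val hn').symm⟩
  obtain ⟨i, n, hn, hr⟩ := hrep r (hRP hrR)
  set h : G := (v : G) ^ i with hh
  have hhR : h ∈ R := by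
    rw [show h = r * n⁻¹ from eq_mul_inv_of_mul_eq hr.symm]; exact mul_mem hrR (inv_mem (hNR hn))
  have hhN : h ∉ N := fun hh' => hrN (hr ▸ mul_mem hh' hn)
  -- `R = N⟨h⟩`
  have hRh : ∀ x ∈ R, ∃ j : ℤ, x * (h ^ j)⁻¹ ∈ N := by
    intro x hx
    let Rq : Subgroup Q := (R.subgroupOf (P : Subgroup G)).map (QuotientGroup.mk' _)
    have hmem : ∀ y ∈ R, ∀ hy : y ∈ (P : Subgroup G),
        (QuotientGroup.mk ⟨y, hy⟩ : Q) ∈ Rq := fun y hy hy' => ⟨⟨y, hy'⟩, hy, rfl⟩
    have hRq : Nat.card Rq ∣ p := by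
      haveI : IsCyclic Q := hcyc
      rw [← IsCyclic.exponent_eq_card]
      refine Monoid.exponent_dvd_of_forall_pow_eq_one ?_
      rintro ⟨_, y, hy, rfl⟩
      apply Subtype.ext
      show (QuotientGroup.mk' _ y) ^ p = 1
      rw [← map_pow, show y ^ p = 1 from Subtype.ext (hpow _ hy), map_one]
    let hq : Rq := ⟨QuotientGroup.mk ⟨h, hRP hhR⟩, hmem h hhR _⟩
    have hq1 : hq ≠ 1 := fun e => hhN (Subgroup.mem_subgroupOf.mp
      ((QuotientGroup.eq_one_iff _).mp (congrArg Subtype.val e)))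
    haveI : Nontrivial Rq := ⟨⟨hq, 1, hq1⟩⟩
    have hcardp : Nat.card Rq = p := ((Nat.dvd_prime hp.out).mp hRq).resolve_left Finite.one_lt_card.ne'
    have := mem_zpowers_of_prime_card hcardp hq1
      (g' := (⟨_, hmem x hx (hRP hx)⟩ : Rq))
    obtain ⟨j, hj⟩ := Subgroup.mem_zpowers_iff.mp this
    refine ⟨j, ?_⟩
    have h1 : (QuotientGroup.mk (⟨h, hRP hhR⟩ : (P : Subgroup G)) : Q) ^ j = QuotientGroup.mk ⟨x, hRP hx⟩ :=
      congrArg Subtype.val hj
    have h2 : ((⟨h, hRP hhR⟩ : (P : Subgroup G)) ^ j)⁻¹ * ⟨x, hRP hx⟩ ∈ N.subgroupOf (P : Subgroup G) :=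
      QuotientGroup.eq.mp h1
    have h3 : (h ^ j)⁻¹ * x ∈ N := Subgroup.mem_subgroupOf.mp h2
    rwa [hcomm _ (inv_mem (zpow_mem hhR j)) x hx] at h3
  have hhz : ∀ y ∈ (P : Subgroup G), y * h = h * y := by
    intro y hy
    obtain ⟨j, m, hm, rfl⟩ := hrep y hy
    exact (((Commute.pow_pow_self (v : G) j i)).mul_left (hcomm m (hNR hm) h hhR)).eq
  have hint : ∀ j : ℤ, h ^ j ∈ N → h ^ j = 1 := by
    intro j hj
    by_contra hne
    apply hhN
    have hord : orderOf h = p := orderOf_eq_prime (hpow h hhR) fun h1 => hhN (h1 ▸ one_mem N)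
    have hcardz : Nat.card (Subgroup.zpowers h) = p := by rw [Nat.card_zpowers, hord]
    have := mem_zpowers_of_prime_card hcardz
      (g := (⟨h ^ j, Subgroup.zpow_mem_zpowers h j⟩ : Subgroup.zpowers h))
      (fun e => hne (congrArg Subtype.val e)) (g' := ⟨h, Subgroup.mem_zpowers h⟩)
    obtain ⟨l, hl⟩ := Subgroup.mem_zpowers_iff.mp this
    have hl' : (h ^ j) ^ l = h := congrArg Subtype.val hl
    exact hl' ▸ zpow_mem hj l
  choose e he using hRh
  let π₀ : R → G := fun x => (x : G) * (h ^ e x x.2)⁻¹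
  have huni : ∀ (x : R) (j : ℤ), (x : G) * (h ^ j)⁻¹ ∈ N → π₀ x = (x : G) * (h ^ j)⁻¹ := by
    intro x j hj
    have h1 := mul_mem (inv_mem (he x x.2)) hj
    have h2 : ((x : G) * (h ^ e x x.2)⁻¹)⁻¹ * ((x : G) * (h ^ j)⁻¹) = h ^ (e x x.2 - j) := by
      rw [mul_inv_rev, inv_inv, mul_assoc, inv_mul_cancel_left, zpow_sub]
    rw [h2] at h1
    have h3 := hint _ h1
    rw [zpow_sub, mul_inv_eq_one] at h3
    show (x : G) * (h ^ e x x.2)⁻¹ = _
    rw [h3]
  have hπmem : ∀ x : R, π₀ x ∈ N := fun x => he x x.2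
  have hπmul : ∀ x y : R, π₀ (x * y) = π₀ x * π₀ y := by
    intro x y
    have heq : ((x * y : R) : G) * (h ^ (e x x.2 + e y y.2))⁻¹ = π₀ x * π₀ y := by
      show (x : G) * y * _ = (x : G) * (h ^ e x x.2)⁻¹ * ((y : G) * (h ^ e y y.2)⁻¹)
      rw [add_comm, zpow_add, mul_inv_rev, mul_assoc (x : G) (h ^ e x x.2)⁻¹, mul_assoc (x : G) (y : G),
        ← mul_assoc (y : G), ← mul_assoc (h ^ e x x.2)⁻¹, hcomm (y : G) y.2 _ (inv_mem (zpow_mem hhR _))]
    exact (huni (x * y) _ (heq ▸ mul_mem (hπmem x) (hπmem y))).trans heq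
  have hπP : ∀ (x : R) (y : G) (_ : y ∈ (P : Subgroup G)) (hx' : y⁻¹ * x * y ∈ R),
      π₀ ⟨y⁻¹ * x * y, hx'⟩ = y⁻¹ * π₀ x * y := by
    intro x y hy hx'
    have hc : Commute y ((h ^ e x x.2)⁻¹) := (Commute.zpow_right (hhz y hy) _).inv_right
    have heq : y⁻¹ * (x : G) * y * (h ^ e x x.2)⁻¹ = y⁻¹ * π₀ x * y := by
      show _ = y⁻¹ * ((x : G) * (h ^ e x x.2)⁻¹) * y
      rw [mul_assoc (y⁻¹ * (x : G)), hc.eq]
      simp only [mul_assoc]
    refine (huni ⟨_, hx'⟩ _ ?_).trans heq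
    show y⁻¹ * (x : G) * y * _ ∈ N
    rw [heq]
    simpa using hNn.conj_mem _ (hπmem x) y⁻¹
  -- averaging
  have := Fintype.ofFinite (G ⧸ (P : Subgroup G))
  have hconjR : ∀ (g : G) (x : R), g⁻¹ * x * g ∈ R := fun g x => by
    simpa using hRn.conj_mem x x.2 g⁻¹
  let φ₀ : G → R → N := fun g x => ⟨g * π₀ ⟨g⁻¹ * x * g, hconjR g x⟩ * g⁻¹, hNn.conj_mem _ (hπmem _) g⟩
  have hφ₀ : ∀ g : G, ∀ y ∈ (P : Subgroup G), φ₀ (g * y) = φ₀ g := by
    intro g y hy
    funext x
    apply Subtype.ext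
    have hx' : y⁻¹ * (g⁻¹ * (x : G) * g) * y ∈ R := hconjR y ⟨_, hconjR g x⟩
    have he' : (⟨(g * y)⁻¹ * x * (g * y), hconjR (g * y) x⟩ : R) =
        ⟨y⁻¹ * ((⟨g⁻¹ * x * g, hconjR g x⟩ : R) : G) * y, hx'⟩ := Subtype.ext (by simp [mul_assoc])
    show g * y * π₀ _ * (g * y)⁻¹ = g * π₀ _ * g⁻¹
    rw [he', hπP _ y hy hx']
    group
  let φ : G ⧸ (P : Subgroup G) → R → N := Quotient.lift φ₀ fun a b hab => by
    have h1 : a⁻¹ * b ∈ (P : Subgroup G) := QuotientGroup.leftRel_apply.mp hab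
    have h2 := hφ₀ a _ h1
    rw [mul_inv_cancel_left] at h2
    exact h2.symm
  open scoped IsMulCommutative in
  let π : R →* N := MonoidHom.mk' (fun x => ∏ q, φ q x) (fun x y => by
    rw [← Finset.prod_mul_distrib]
    refine Finset.prod_congr rfl fun q _ => ?_
    induction q using QuotientGroup.induction_on with
    | _ g =>
    apply Subtype.ext
    show g * π₀ _ * g⁻¹ = g * π₀ _ * g⁻¹ * (g * π₀ _ * g⁻¹)
    rw [show (⟨g⁻¹ * ((x * y : R) : G) * g, hconjR g (x * y)⟩ : R) =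
      ⟨g⁻¹ * x * g, hconjR g x⟩ * ⟨g⁻¹ * y * g, hconjR g y⟩ from Subtype.ext (by simp [mul_assoc]), hπmul]
    group)
  have hπN : ∀ x : R, (x : G) ∈ N → ((π x : N) : G) = (x : G) ^ (P : Subgroup G).index := by
    intro x hx
    have h1 : ∀ q, φ q x = ⟨x, hx⟩ := by
      intro q
      induction q using QuotientGroup.induction_on with
      | _ g =>
      apply Subtype.ext
      show g * π₀ _ * g⁻¹ = (x : G)
      rw [huni ⟨g⁻¹ * x * g, hconjR g x⟩ 0 (by simpa using hNn.conj_mem _ hx g⁻¹)]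
      simp [mul_assoc]
    open scoped IsMulCommutative in
    show ((∏ q, φ q x : N) : G) = _
    open scoped IsMulCommutative in
    rw [Finset.prod_congr rfl fun q _ => h1 q, Finset.prod_const, Finset.card_univ, SubgroupClass.coe_pow,
      Subgroup.index, Nat.card_eq_fintype_card (α := G ⧸ (P : Subgroup G))]
  have hequiv : ∀ (a : G) (x : R), ((π ⟨a⁻¹ * x * a, hconjR a x⟩ : N) : G) = a⁻¹ * (π x : N) * a := by
    intro a x
    let cN : N →* N := MonoidHom.mk' (fun n => ⟨a⁻¹ * n * a, by simpa using hNn.conj_mem _ n.2 a⁻¹⟩)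
      (fun m n => Subtype.ext (by simp [mul_assoc]))
    have h1 : ∀ q : G ⧸ (P : Subgroup G), φ q ⟨a⁻¹ * x * a, hconjR a x⟩ = cN (φ (a • q) x) := by
      intro q
      induction q using QuotientGroup.induction_on with
      | _ g =>
      apply Subtype.ext
      show g * π₀ _ * g⁻¹ = a⁻¹ * (a * g * π₀ _ * (a * g)⁻¹) * a
      have he2 : (⟨(a * g)⁻¹ * x * (a * g), hconjR (a * g) x⟩ : R) =
          ⟨g⁻¹ * ((⟨a⁻¹ * x * a, hconjR a x⟩ : R) : G) * g, hconjR g _⟩ := Subtype.ext (by simp [mul_assoc])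
      refine Eq.trans ?_ (congrArg (fun z => a⁻¹ * (a * g * π₀ z * (a * g)⁻¹) * a) he2.symm)
      group
    open scoped IsMulCommutative in
    show ((∏ q, φ q ⟨a⁻¹ * x * a, hconjR a x⟩ : N) : G) = ((cN (∏ q, φ q x) : N) : G)
    open scoped IsMulCommutative in
    rw [map_prod, Finset.prod_congr rfl fun q _ => h1 q]
    open scoped IsMulCommutative in
    exact congrArg Subtype.val (Fintype.prod_equiv (MulAction.toPerm a) _ _ fun q => rfl)
  let K : Subgroup G := (π.ker).map R.subtype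
  have hKn : K.Normal := ⟨by
    rintro _ ⟨x, hx, rfl⟩ g
    refine ⟨⟨g * x * g⁻¹, hRn.conj_mem x x.2 g⟩, ?_, rfl⟩
    have h1 := hequiv g⁻¹ x
    rw [SetLike.mem_coe, MonoidHom.mem_ker] at hx ⊢
    rw [hx, OneMemClass.coe_one, mul_one, inv_mul_cancel] at h1
    apply Subtype.ext
    simpa using h1⟩
  have hcop : Nat.Coprime p (P : Subgroup G).index :=
    hp.out.coprime_iff_not_dvd.mpr P.not_dvd_index
  have hKN : K ⊓ N = ⊥ := by
    rw [Subgroup.eq_bot_iff_forall]
    rintro _ ⟨⟨x, hx, rfl⟩, hxN⟩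
    rw [SetLike.mem_coe, MonoidHom.mem_ker] at hx
    have h1 := hπN x hxN
    rw [hx, OneMemClass.coe_one] at h1
    have h2 := Nat.dvd_gcd (orderOf_dvd_of_pow_eq_one (hpow x x.2)) (orderOf_dvd_of_pow_eq_one h1.symm)
    rw [hcop.gcd_eq_one] at h2
    exact orderOf_eq_one_iff.mp (Nat.dvd_one.mp h2)
  have hK : K ≠ ⊥ := by
    intro hK
    rw [Subgroup.map_eq_bot_iff_of_injective _ R.subtype_injective] at hK
    have := Nat.card_le_card_of_injective π ((MonoidHom.ker_eq_bot_iff π).mp hK)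
    exact absurd (Subgroup.eq_of_le_of_card_ge hNR this) (fun e => hrN (e ▸ hrR))
  exact hNne (le_bot_iff.mp (hKN ▸ le_inf (huniq K hKn hK) le_rfl))


/-- Let p be a prime and G a finite group with a non-commutative Sylow p-subgroup P whose Frattini subgroup has index p² in P (P is generated by two elements). Suppose G has no nontrivial normal subgroup of order prime to p and the Frattini subgroup of P contains no nontrivial normal subgroup of G. Then the generalized Fitting subgroup F*(G) is the unique minimal normal subgroup of G, the image of P in G/F*(G) is cyclic, and if F*(G) is not commutative then P permutes the components of G transitively by conjugation. -/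
theorem result {G : Type*} [Group G] [Finite G] (p : ℕ) [Fact p.Prime] (P : Sylow p G) (hna : ¬ IsMulCommutative (P : Subgroup G)) (hgen : (frattini ↥(P : Subgroup G)).index = p ^ 2) (hcore : Cfsg.pPrimeCore p G = ⊥) (hfrat : ((frattini ↥(P : Subgroup G)).map (P : Subgroup G).subtype).normalCore = ⊥) [hFn : (Cfsg.generalizedFittingSubgroup G).Normal] :
    (Cfsg.generalizedFittingSubgroup G ≠ ⊥ ∧ ∀ K : Subgroup G, K.Normal → K ≠ ⊥ → Cfsg.generalizedFittingSubgroup G ≤ K) ∧
      IsCyclic ↥((P : Subgroup G).map (QuotientGroup.mk' (Cfsg.generalizedFittingSubgroup G))) ∧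
      (¬ IsMulCommutative (Cfsg.generalizedFittingSubgroup G) → ∀ K L : Subgroup G, Cfsg.IsComponent K → Cfsg.IsComponent L → ∃ x ∈ (P : Subgroup G), L = K.map (MulAut.conj x).toMonoidHom) := by
  haveI : Nontrivial G := by
    by_contra h
    rw [not_nontrivial_iff_subsingleton] at h
    exact hna ⟨⟨fun a b => Subsingleton.elim _ _⟩⟩
  obtain ⟨N, hNn, hNne, hNmin⟩ := Cores.MinNormal.exists_minimal (G := G)
  have hcomm : ∀ K : Subgroup G, K.Normal → K ≠ ⊥ →
      ∀ a ∈ (P : Subgroup G), ∀ b ∈ (P : Subgroup G), ⁅a, b⁆ ∈ K := fun K hK hne =>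
    (haveI := hK; commutator_le_of_not_le P hgen K
      (by haveI := hK; exact ne_bot_not_le_frattini P hcore hfrat K hne)).2
  have huniq : ∀ K : Subgroup G, K.Normal → K ≠ ⊥ → N ≤ K := by
    intro K hK hne
    rcases hNmin (N ⊓ K) inferInstance inf_le_left with h | h
    · refine absurd ⟨⟨fun a b => Subtype.ext ?_⟩⟩ hna
      refine commutatorElement_eq_one_iff_mul_comm.mp (Subgroup.mem_bot.mp (h ▸ ⟨?_, ?_⟩))
      · exact hcomm N hNn hNne a a.2 b b.2
      · exact hcomm K hK hne a a.2 b b.2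
    · exact inf_eq_left.mp h
  have hne : Cfsg.generalizedFittingSubgroup G ≠ ⊥ := Components.GenFitting.ne_bot
  by_cases hF : Cfsg.fittingSubgroup G = ⊥
  swap
  · haveI := hNn
    obtain ⟨hgF, hNc⟩ := abelian_case P hna hgen hcore hfrat N hNne huniq hF
    exact ⟨⟨hne, fun K hK hKne => hgF ▸ huniq K hK hKne⟩,
      isCyclic_image P hgen hcore hfrat _ hne, fun h => absurd (hgF ▸ hNc) h⟩
  have hgF : Cfsg.generalizedFittingSubgroup G = Cfsg.layer G := by
    rw [Cfsg.generalizedFittingSubgroup, hF, sup_bot_eq]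
  have hle : Cfsg.generalizedFittingSubgroup G ≤ N := by
    rw [hgF, ← (S3747.result).2 hF]
    refine sSup_le fun M hM => ?_
    rcases hM.2.2 N hNn (huniq M hM.2.1 hM.1) with h | h
    · exact absurd h hNne
    · exact h.ge
  refine ⟨⟨hne, fun K hK hKne => hle.trans (huniq K hK hKne)⟩,
    isCyclic_image P hgen hcore hfrat _ hne, fun _ K L hK hL => ?_⟩
  by_contra hnot
  push Not at hnot
  let O : Set (Subgroup G) := {M | ∃ x ∈ (P : Subgroup G), M = K.map (MulAut.conj x).toMonoidHom}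
  let O' : Set (Subgroup G) := {M | Cfsg.IsComponent M ∧ M ∉ O}
  have hOc : ∀ M ∈ O, Cfsg.IsComponent M := by
    rintro M ⟨x, -, rfl⟩; exact Components.Component.conj hK x
  have hcc : ∀ (a b : G) (M : Subgroup G),
      (M.map (MulAut.conj b).toMonoidHom).map (MulAut.conj a).toMonoidHom =
        M.map (MulAut.conj (a * b)).toMonoidHom := fun a b M => by
    rw [Subgroup.map_map, map_mul]; rfl
  have hnorm : ∀ S : Set (Subgroup G), (∀ x ∈ (P : Subgroup G), ∀ M ∈ S,
      M.map (MulAut.conj x).toMonoidHom ∈ S) → (P : Subgroup G) ≤ Subgroup.normalizer ((sSup S : Subgroup G) : Set G) := by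
    intro S hS
    have hmap : ∀ x ∈ (P : Subgroup G), (sSup S).map (MulAut.conj x).toMonoidHom ≤ sSup S := by
      intro x hx
      rw [Subgroup.map_le_iff_le_comap]
      exact sSup_le fun M hM => Subgroup.map_le_iff_le_comap.mp (le_sSup (hS x hx M hM))
    intro x hx
    rw [Subgroup.mem_normalizer_iff_map_conj_eq]
    refine le_antisymm (hmap x hx) ?_
    have := Subgroup.map_mono (f := (MulAut.conj x).toMonoidHom) (hmap x⁻¹ (inv_mem hx))
    rw [hcc, mul_inv_cancel, map_one] at this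
    exact (Subgroup.map_id (sSup S)).ge.trans this
  have hOinv : ∀ x ∈ (P : Subgroup G), ∀ M ∈ O, M.map (MulAut.conj x).toMonoidHom ∈ O := by
    rintro x hx _ ⟨y, hy, rfl⟩
    exact ⟨x * y, mul_mem hx hy, hcc x y K⟩
  have hO'inv : ∀ x ∈ (P : Subgroup G), ∀ M ∈ O', M.map (MulAut.conj x).toMonoidHom ∈ O' := by
    rintro x hx M ⟨hM, hMO⟩
    refine ⟨Components.Component.conj hM x, fun h => hMO ?_⟩
    have h1 := hOinv x⁻¹ (inv_mem hx) _ h
    rw [hcc, inv_mul_cancel, map_one] at h1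
    rwa [show M.map ((1 : MulAut G).toMonoidHom) = M from Subgroup.map_id M] at h1
  set A : Subgroup G := sSup O with hA
  set B : Subgroup G := sSup O' with hB
  have hlayer : A ⊔ B = Cfsg.layer G := by
    refine le_antisymm (sup_le (sSup_le fun M hM => Components.Layer.component_le_layer (hOc M hM))
      (sSup_le fun M hM => Components.Layer.component_le_layer hM.1)) (sSup_le fun M hM => ?_)
    by_cases h : M ∈ O
    · exact (le_sSup h).trans le_sup_left
    · exact (le_sSup (show M ∈ O' from ⟨hM, h⟩)).trans le_sup_right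
  have hAB : A ≤ Subgroup.centralizer (B : Set G) := by
    refine sSup_le fun M hM => Subgroup.le_centralizer_iff.mp (sSup_le fun M' hM' => ?_)
    exact Components.Component.le_centralizer_of_ne hM'.1 (hOc M hM) (fun h => hM'.2 (h ▸ hM))
  have hint : A ⊓ B = ⊥ := by
    have h1 : A ⊓ B ≤ (Subgroup.center ↥(Cfsg.layer G)).map (Cfsg.layer G).subtype := by
      intro x hx
      refine ⟨⟨x, hlayer.le (Subgroup.mem_sup_left hx.1)⟩, Subgroup.mem_center_iff.mpr fun w => ?_, rfl⟩
      apply Subtype.ext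
      have : A ⊔ B ≤ Subgroup.centralizer ({x} : Set G) := by
        refine sup_le (fun y hy => ?_) (fun y hy => ?_)
        · exact Subgroup.mem_centralizer_singleton_iff.mpr (Subgroup.mem_centralizer_iff.mp (hAB hy) x hx.2).symm
        · exact Subgroup.mem_centralizer_singleton_iff.mpr (Subgroup.mem_centralizer_iff.mp (hAB hx.1) y hy)
      exact Subgroup.mem_centralizer_singleton_iff.mp (this (hlayer.ge w.2))
    have h2 : (Subgroup.center ↥(Cfsg.layer G)).map (Cfsg.layer G).subtype ≤ Cfsg.fittingSubgroup G := by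
      haveI := Cores.normal_map_subtype (Cfsg.layer G) (Subgroup.center ↥(Cfsg.layer G))
      refine Cores.le_fittingSubgroup (S3747.nilpotent_of_comm ⟨⟨?_⟩⟩)
      rintro ⟨_, a, ha, rfl⟩ ⟨_, b, -, rfl⟩
      exact Subtype.ext (congrArg Subtype.val (Subgroup.mem_center_iff.mp ha b)).symm
    exact le_bot_iff.mp (hF ▸ h1.trans h2)
  have hbad : ∀ S : Set (Subgroup G), (∀ M ∈ S, Cfsg.IsComponent M) → (∃ M, M ∈ S) →
      (∀ x ∈ (P : Subgroup G), ∀ M ∈ S, M.map (MulAut.conj x).toMonoidHom ∈ S) →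
      ∀ a ∈ (P : Subgroup G), ∀ b ∈ (P : Subgroup G), ⁅a, b⁆ ∈ sSup S := by
    intro S hS hSne hSinv
    haveI : ((sSup S).subgroupOf (P : Subgroup G)).Normal :=
      Subgroup.normal_subgroupOf_of_le_normalizer (hnorm S hSinv)
    refine (commutator_le_of_not_le P hgen _ fun hle' => ?_).2
    set U : Subgroup G := sSup S with hU
    obtain ⟨M, hM, hMp, k, hk⟩ := exists_complement_of_inf_le P U (hnorm S hSinv) hle'
    have hperf : ⁅U, U⁆ = U := le_antisymm (Subgroup.commutator_le_self U) (sSup_le fun T hT =>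
      (Components.Component.commutator_self (hS T hT)).ge.trans
        (Subgroup.commutator_mono (le_sSup hT) (le_sSup hT)))
    haveI : Group.IsPerfect ↥U := Subgroup.isPerfect_iff.mpr hperf
    have hMtop : M = ⊤ := by
      haveI := hM
      have hsol : Group.IsSolvable (↥U ⧸ M) := by
        haveI := (IsPGroup.of_card (p := p) (n := k)
          (by rw [← hk]; rfl) : IsPGroup p (↥U ⧸ M)).isNilpotent
        infer_instance
      by_contra hne
      haveI : Nontrivial (↥U ⧸ M) := QuotientGroup.nontrivial_iff.mpr hne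
      refine (Group.IsSolvable.commutator_lt_top_of_nontrivial (↥U ⧸ M)).ne ?_
      rw [commutator_def, ← Subgroup.map_top_of_surjective _ (QuotientGroup.mk'_surjective M), ← Subgroup.map_commutator]
      congr 1
      exact (commutator_def _).symm.trans (Group.isPerfect_def.mp inferInstance)
    rw [hMtop, Subgroup.card_top] at hMp
    have hUlayer : U ≤ Cfsg.layer G := sSup_le fun T hT => Components.Layer.component_le_layer (hS T hT)
    haveI : (U.subgroupOf (Cfsg.layer G)).Normal := by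
      refine Subgroup.normal_subgroupOf_of_le_normalizer fun w hw => ?_
      rw [Subgroup.mem_normalizer_iff_map_conj_eq, hU, sSup_eq_iSup, Subgroup.map_iSup]
      refine iSup_congr fun T => ?_
      rw [Subgroup.map_iSup]
      refine iSup_congr fun hT => ?_
      exact Subgroup.mem_normalizer_iff_map_conj_eq.mp (Components.Layer.layer_le_normalizer (hS T hT) hw)
    have h1 : U.subgroupOf (Cfsg.layer G) ≤ Cfsg.pPrimeCore p ↥(Cfsg.layer G) := by
      refine Cores.le_pPrimeCore_of_not_dvd ?_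
      rwa [Nat.card_congr (Subgroup.subgroupOfEquivOfLe hUlayer).toEquiv]
    have h2 : (Cfsg.pPrimeCore p ↥(Cfsg.layer G)).map (Cfsg.layer G).subtype ≤ Cfsg.pPrimeCore p G := by
      haveI := Cores.normal_map_subtype (Cfsg.layer G) (Cfsg.pPrimeCore p ↥(Cfsg.layer G))
      refine Cores.le_pPrimeCore ?_
      rw [Subgroup.card_map_of_injective (Cfsg.layer G).subtype_injective]
      exact Cores.pPrimeCore_coprime p
    have h3 : U ≤ ⊥ := fun x hx => hcore ▸ h2 ⟨⟨x, hUlayer hx⟩, h1 hx, rfl⟩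
    obtain ⟨T, hT⟩ := hSne
    exact Components.Component.ne_bot (hS T hT) (le_bot_iff.mp ((le_sSup hT).trans h3))
  refine hna ⟨⟨fun a b => Subtype.ext ?_⟩⟩
  refine commutatorElement_eq_one_iff_mul_comm.mp (Subgroup.mem_bot.mp (hint ▸ ⟨?_, ?_⟩))
  · refine hbad O hOc ⟨K, 1, one_mem _, ?_⟩ hOinv a a.2 b b.2
    rw [map_one]; exact (Subgroup.map_id K).symm
  · refine hbad O' (fun M hM => hM.1) ⟨L, hL, ?_⟩ hO'inv a a.2 b b.2
    rintro ⟨x, hx, hLx⟩
    exact hnot x hx hLx

end Cfsg.Agent.S4172
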