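import Cfsg.Statements.S4176
import Cfsg.Agent.Lib.OrbitSpan.Coprime

set_option autoImplicit false
open Cfsg

namespace Cfsg.Agent.S4176

open Cfsg.Agent.Lib.OrbitSpan in
private theorem sumSpans {k V B : Type*} [Field k] (p : ℕ) [Fact p.Prime] [CharP k p] [AddCommGroup V] [Module k V]
    [Group B] [Finite B] (σ : Representation k B V) (a : V) (hsol : Cfsg.IsPSolvable p B)
    (P : Sylow p B) (hP : ∀ x ∈ (P : Subgroup B), σ x a = a) : Coprime.SumSpans σ a := by
  intro hspan v hv
  obtain ⟨n, C, h0, h1, hmono, hnorm, hstep⟩ := hsol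
  refine Invariants.invariants_le_span_orbit_sum σ a P hP hspan n C h0 h1 hmono hnorm (fun i => ?_) v hv
  rcases hstep i with ⟨m, hm⟩ | h
  · left
    haveI := hnorm i.castSucc
    haveI := hnorm i.succ
    set π := QuotientGroup.mk' (C i.castSucc)
    have hs : Function.Surjective π := QuotientGroup.mk'_surjective _
    have hcard : Nat.card ↥((C i.succ).map π) = p ^ m := by
      have h := Subgroup.relIndex_comap (⊥ : Subgroup (B ⧸ C i.castSucc)) π (C i.succ)
      rw [MonoidHom.comap_bot, QuotientGroup.ker_mk', Subgroup.relIndex_bot_left] at h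
      rw [← h, hm]
    haveI : ((C i.succ).map π).Normal := (hnorm i.succ).map π hs
    have hle : (C i.succ).map π ≤ (P.mapSurjective hs : Subgroup (B ⧸ C i.castSucc)) := by
      rw [← (P.mapSurjective hs).is_maximal'
        ((P.mapSurjective hs).isPGroup'.to_sup_of_normal_right (IsPGroup.of_card hcard)) le_sup_left]
      exact le_sup_right
    rw [Sylow.coe_mapSurjective, Subgroup.map_le_iff_le_comap, Subgroup.comap_map_eq,
      QuotientGroup.ker_mk'] at hle
    rwa [sup_comm]
  · right
    rw [Ne, CharP.cast_eq_zero_iff k p]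
    exact fun hd => (Fact.out : p.Prime).one_lt.ne' (Nat.eq_one_of_dvd_coprimes h hd dvd_rfl)

private theorem psolvable_subgroup {G : Type*} [Group G] (p : ℕ) [Fact p.Prime]
    (hsol : Cfsg.IsPSolvable p G) (B : Subgroup G) : Cfsg.IsPSolvable p B := by
  obtain ⟨n, C, h0, h1, hmono, hnorm, hstep⟩ := hsol
  refine ⟨n, fun i => (C i).subgroupOf B, ?_, ?_, fun i j hij => Subgroup.comap_mono (hmono hij),
    fun i => (hnorm i).comap _, fun i => ?_⟩
  · simp [h0]
  · simp [h1]
  · haveI := hnorm i.castSucc
    have hdvd : ((C i.castSucc).subgroupOf B).relIndex ((C i.succ).subgroupOf B) ∣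
        (C i.castSucc).relIndex (C i.succ) := by
      rw [← Subgroup.inf_subgroupOf_right (C i.succ) B, Subgroup.relIndex_subgroupOf inf_le_right]
      have h := Subgroup.relIndex_dvd_index_of_normal ((C i.castSucc).subgroupOf (C i.succ))
        ((C i.succ ⊓ B).subgroupOf (C i.succ))
      rwa [Subgroup.relIndex_subgroupOf inf_le_left] at h
    rcases hstep i with ⟨m, hm⟩ | h
    · rw [hm] at hdvd
      obtain ⟨j, -, hj⟩ := (Nat.dvd_prime_pow Fact.out).1 hdvd
      exact Or.inl ⟨j, hj⟩
    · exact Or.inr (Nat.Coprime.coprime_dvd_left hdvd h)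

/-- Let k be a field of prime characteristic p, H a finite p-soluble group and ρ a k-linear representation of H on V. Let a be a vector that is fixed by some Sylow p-subgroup of H and whose H-orbit spans V. Then the space of H-fixed vectors has dimension at most 1, and every vector b whose H-orbit has size coprime to the size of the orbit of a is fixed by H. -/
theorem result {k V H : Type*} [Field k] (p : ℕ) [Fact p.Prime] [CharP k p] [AddCommGroup V] [Module k V]
    [Group H] [Finite H] (hsol : Cfsg.IsPSolvable p H) (ρ : Representation k H V) (a : V)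
    (hfix : ∃ P : Sylow p H, ∀ x : H, x ∈ (P : Subgroup H) → ρ x a = a)
    (hspan : Submodule.span k {u : V | ∃ h : H, ρ h a = u} = ⊤) :
    Module.finrank k ρ.invariants ≤ 1 ∧
    ∀ b : V, (Nat.card {u : V | ∃ h : H, ρ h a = u}).Coprime (Nat.card {u : V | ∃ h : H, ρ h b = u}) → ∀ h : H, ρ h b = b := by
  obtain ⟨P, hP⟩ := hfix
  refine Cfsg.Agent.Lib.OrbitSpan.Coprime.main ρ a hspan (sumSpans p ρ a hsol P hP) ?_
  intro B A hA hidx
  have hPA : (P : Subgroup H) ≤ A := fun x hx => (hA x).2 (hP x hx)
  have hpA : ¬ p ∣ (A.subgroupOf B).index := fun h =>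
    P.not_dvd_index ((hidx ▸ h : p ∣ A.index).trans (Subgroup.index_dvd_of_le hPA))
  let Q : Sylow p ↥(A.subgroupOf B) := default
  have hQ : ¬ p ∣ ((Q : Subgroup ↥(A.subgroupOf B)).map (A.subgroupOf B).subtype).index := by
    rw [Subgroup.index_map_subtype]
    exact fun h => ((Fact.out : p.Prime).dvd_mul.1 h).elim Q.not_dvd_index hpA
  refine sumSpans p _ a (psolvable_subgroup p hsol B) ((Q.isPGroup'.map _).toSylow hQ) ?_
  intro x hx
  obtain ⟨y, -, rfl⟩ := Subgroup.mem_map.1 hx
  exact (hA _).1 y.2

end Cfsg.Agent.S4176
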