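import Cfsg.Statements.S4178
-- import your own Cfsg.Agent.* helpers here

set_option autoImplicit false
open Cfsg

namespace Cfsg.Agent.S4178

private theorem index_le_of_orbit {G X : Type*} [Group G] [Finite X] [MulAction G X] (R : Subgroup G)
    [Finite G] (x : X) (hR : MulAction.stabilizer G x ≤ R) (s : Set X) (hs : MulAction.orbit G x ⊆ s) :
    R.index ≤ s.ncard := by
  refine le_trans ?_ (Set.ncard_le_ncard hs)
  rw [← MulAction.index_stabilizer]
  exact Nat.le_of_dvd (Nat.pos_of_ne_zero Subgroup.FiniteIndex.index_ne_zero) (Subgroup.index_dvd_of_le hR)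

/-- Let F be a finite field with q elements, V a non-zero finite-dimensional F-space of dimension d, H a group of invertible linear maps of V, and R the subgroup of H generated by the elements of H that fix some non-zero vector (have eigenvalue 1). Then the index of R in H is at most q^d − 1; and if H leaves invariant some proper non-zero subspace, the index is at most q^(d/2) − 1. -/
theorem result {F V : Type*} [Field F] [Fintype F] [AddCommGroup V] [Module F V] [FiniteDimensional F V] [Nontrivial V]
    (H : Subgroup (V ≃ₗ[F] V)) :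
    (Subgroup.closure {h : ↥H | ∃ v : V, v ≠ 0 ∧ (h : V ≃ₗ[F] V) v = v}).index ≤ Fintype.card F ^ Module.finrank F V - 1 ∧
    ((∃ W : Submodule F V, W ≠ ⊥ ∧ W ≠ ⊤ ∧ ∀ h ∈ H, ∀ w ∈ W, h w ∈ W) →
      ((Subgroup.closure {h : ↥H | ∃ v : V, v ≠ 0 ∧ (h : V ≃ₗ[F] V) v = v}).index : ℝ) ≤ Real.sqrt ((Fintype.card F : ℝ) ^ Module.finrank F V) - 1) := by
  classical
  haveI : Finite V := Module.finite_of_finite F
  haveI : Finite (V ≃ₗ[F] V) := DFunLike.finite _
  set R := Subgroup.closure {h : ↥H | ∃ v : V, v ≠ 0 ∧ (h : V ≃ₗ[F] V) v = v}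
  have hpow : ∀ {U : Type _} [AddCommGroup U] [Module F U] [Finite U],
      ({u : U | u ≠ 0}).ncard = Fintype.card F ^ Module.finrank F U - 1 := by
    intro U _ _ _
    have h : {u : U | u ≠ 0} = {0}ᶜ := rfl
    rw [h, Set.ncard_compl, Set.ncard_singleton, Module.natCard_eq_pow_finrank (K := F),
      Nat.card_eq_fintype_card]
  have hstab : ∀ v : V, v ≠ 0 → MulAction.stabilizer H v ≤ R :=
    fun v hv h hh => Subgroup.subset_closure ⟨v, hv, hh⟩
  constructor
  · obtain ⟨v, hv⟩ := exists_ne (0 : V)
    refine (index_le_of_orbit R v (hstab v hv) {u | u ≠ 0} ?_).trans hpow.le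
    rintro _ ⟨h, rfl⟩
    exact fun h0 => hv ((h : V ≃ₗ[F] V).injective (h0.trans (map_zero _).symm))
  · rintro ⟨W, hW0, hW1, hinv⟩
    have hq : (1 : ℝ) ≤ Fintype.card F := by exact_mod_cast Fintype.card_pos
    have bound : ∀ e N : ℕ, 2 * e ≤ Module.finrank F V → N ≤ Fintype.card F ^ e - 1 →
        (N : ℝ) ≤ Real.sqrt ((Fintype.card F : ℝ) ^ Module.finrank F V) - 1 := by
      intro e N he hN
      have h1 : 1 ≤ Fintype.card F ^ e := Nat.one_le_pow _ _ Fintype.card_pos
      have h2 : (N : ℝ) + 1 ≤ (Fintype.card F : ℝ) ^ e := by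
        exact_mod_cast (show N + 1 ≤ Fintype.card F ^ e by omega)
      have h3 : (Fintype.card F : ℝ) ^ e ≤ Real.sqrt ((Fintype.card F : ℝ) ^ Module.finrank F V) := by
        refine Real.le_sqrt_of_sq_le ?_
        rw [← pow_mul, mul_comm]
        exact pow_le_pow_right₀ hq he
      linarith
    by_cases hd : 2 * Module.finrank F W ≤ Module.finrank F V
    · obtain ⟨w, hw, hw0⟩ := (Submodule.ne_bot_iff W).1 hW0
      refine bound _ _ hd ?_
      refine (index_le_of_orbit R w (hstab w hw0) (Subtype.val '' {u : W | u ≠ 0}) ?_).trans ?_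
      · rintro _ ⟨h, rfl⟩
        refine ⟨⟨_, hinv _ h.2 w hw⟩, fun h0 => hw0 ?_, rfl⟩
        exact (h : V ≃ₗ[F] V).injective ((congrArg Subtype.val h0).trans (map_zero _).symm)
      · rw [Set.ncard_image_of_injective _ Subtype.val_injective]
        exact hpow.le
    · obtain ⟨v, -, hv⟩ := SetLike.exists_of_lt (lt_top_iff_ne_top.2 hW1)
      letI : MulAction H (V ⧸ W) :=
        { smul := fun h => W.mapQ W ((h : V ≃ₗ[F] V) : V →ₗ[F] V) (hinv _ h.2)
          one_smul := fun x => Submodule.Quotient.induction_on W x fun y => rfl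
          mul_smul := fun g h x => Submodule.Quotient.induction_on W x fun y => rfl }
      have hs : MulAction.stabilizer H (Submodule.Quotient.mk v : V ⧸ W) ≤ R := by
        intro h hh
        have hh' : Submodule.Quotient.mk ((h : V ≃ₗ[F] V) v) = (Submodule.Quotient.mk v : V ⧸ W) := hh
        rw [Submodule.Quotient.eq] at hh'
        refine Subgroup.subset_closure ?_
        by_contra hcon
        let g : V →ₗ[F] V := ((h : V ≃ₗ[F] V) : V →ₗ[F] V) - LinearMap.id
        have hg : Function.Injective g := by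
          rw [← LinearMap.ker_eq_bot, LinearMap.ker_eq_bot']
          intro u hu
          by_contra hu0
          exact hcon ⟨u, hu0, sub_eq_zero.1 hu⟩
        have hgW : W.map g = W := by
          refine Submodule.eq_of_le_of_finrank_le ?_
            (Submodule.equivMapOfInjective g hg W).finrank_eq.le
          rintro _ ⟨w, hw, rfl⟩
          exact sub_mem (hinv _ h.2 w hw) hw
        obtain ⟨w, hw, hwv⟩ : g v ∈ W.map g := by rw [hgW]; exact hh'
        exact hv (hg hwv ▸ hw)
      refine bound (Module.finrank F (V ⧸ W)) _ (by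
        have := W.finrank_quotient_add_finrank; omega) ?_
      haveI : Finite (V ⧸ W) := Quotient.finite _
      refine (index_le_of_orbit R _ hs {u | u ≠ 0} ?_).trans hpow.le
      rintro _ ⟨h, rfl⟩ h0
      have h0' : (Submodule.Quotient.mk ((h : V ≃ₗ[F] V) v) : V ⧸ W) = 0 := h0
      rw [Submodule.Quotient.mk_eq_zero] at h0'
      refine hv ?_
      have h' := hinv _ (inv_mem h.2) _ h0'
      rwa [show ((h : V ≃ₗ[F] V)⁻¹) ((h : V ≃ₗ[F] V) v) = v from
        LinearEquiv.symm_apply_apply _ v] at h' 

end Cfsg.Agent.S4178
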