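import Cfsg.Statements.S4181
import Cfsg.Agent.Lib.SylowFix.Count
set_option autoImplicit false
open Cfsg

namespace Cfsg.Agent.S4181

/-- Let p be a prime and G a finite group generated by its elements of p-power order, and let H be a proper subgroup of G containing a Sylow p-subgroup of G. Then 2p − 1 times the number of Sylow p-subgroups of H is at most p − 1 times the number of Sylow p-subgroups of G. -/
theorem result {G : Type*} [Group G] [Finite G] (p : ℕ) [Fact p.Prime] (hgen : Subgroup.closure {g : G | ∃ k : ℕ, orderOf g = p ^ k} = ⊤)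
    (H : Subgroup G) (hH : H ≠ ⊤) (P : Sylow p G) (hP : (P : Subgroup G) ≤ H) :
    (2 * p - 1) * Nat.card (Sylow p ↥H) ≤ (p - 1) * Nat.card (Sylow p G) := by
  classical
  have : Fintype (G ⧸ H) := Fintype.ofFinite _
  have hG : Lib.SylowFix.Gen p G := hgen
  set N := Subgroup.normalizer ((P : Subgroup G) : Set G) with hN
  -- fixed points of `P` on the cosets of `H`
  have hn : Lib.SylowFix.NoFix G (Finset.univ : Finset (G ⧸ H)) := by
    intro c _
    by_contra hcon
    push Not at hcon
    obtain ⟨a, rfl⟩ := QuotientGroup.mk_surjective c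
    refine hH (eq_top_iff.mpr fun g _ => ?_)
    have h : (QuotientGroup.mk (a * g * a⁻¹ * a) : G ⧸ H) = QuotientGroup.mk a := hcon (a * g * a⁻¹)
    rw [QuotientGroup.eq] at h
    simpa [mul_assoc] using H.inv_mem h
  have hb := Lib.SylowFix.le_of_nonneg (P : Subgroup G) _
    (Lib.SylowFix.nonneg hG P (Finset.univ : Finset (G ⧸ H)) (fun _ _ _ => Finset.mem_univ _) hn)
  set f := (Lib.SylowFix.fixSet (P : Subgroup G) (Finset.univ : Finset (G ⧸ H))).card
  have hnum : f = H.relIndex N := by
    have e : ((Lib.SylowFix.fixSet (P : Subgroup G) (Finset.univ : Finset (G ⧸ H))) : Set (G ⧸ H)) =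
        MulAction.orbit ↥N ((QuotientGroup.mk (1 : G) : G ⧸ H)) := by
      ext c
      rw [Finset.mem_coe, Lib.SylowFix.mem_fixSet]
      constructor
      · rintro ⟨-, hc⟩
        obtain ⟨a, rfl⟩ := QuotientGroup.mk_surjective c
        have hsub : ((a⁻¹ • P : Sylow p G) : Subgroup G) ≤ H := by
          intro x hx
          rw [Sylow.coe_subgroup_smul] at hx
          obtain ⟨z, hz, rfl⟩ := hx
          have h : (QuotientGroup.mk (z * a) : G ⧸ H) = QuotientGroup.mk a := hc z hz
          rw [eq_comm, QuotientGroup.eq] at h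
          simpa [mul_assoc] using h
        obtain ⟨k, hk⟩ := MulAction.exists_smul_eq ↥H (P.subtype hP) ((a⁻¹ • P).subtype hsub)
        rw [Sylow.smul_subtype] at hk
        have hk' := Sylow.subtype_injective hk
        have hkN : a * (k : G) ∈ N := by
          refine Sylow.smul_eq_iff_mem_normalizer.mp ?_
          rw [mul_smul, show (k : G) • P = a⁻¹ • P from hk', smul_inv_smul]
        refine ⟨⟨a * (k : G), hkN⟩, ?_⟩
        show (QuotientGroup.mk (a * (k : G) * 1) : G ⧸ H) = QuotientGroup.mk a
        rw [QuotientGroup.eq]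
        simp
      · rintro ⟨m, rfl⟩
        refine ⟨Finset.mem_univ _, fun g hg => ?_⟩
        show (QuotientGroup.mk (g * ((m : G) * 1)) : G ⧸ H) = QuotientGroup.mk ((m : G) * 1)
        rw [QuotientGroup.eq]
        have hm := (Subgroup.mem_normalizer_iff'.mp m.2 ((m : G)⁻¹ * g⁻¹)).mp
        have h2 : (m : G)⁻¹ * g⁻¹ * (m : G) ∈ (P : Subgroup G) := by
          have h3 := (Subgroup.mem_normalizer_iff.mp (N.inv_mem m.2) g⁻¹).mp ((P : Subgroup G).inv_mem hg)
          simpa [mul_assoc] using h3
        simpa [mul_assoc] using hP h2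
    have e2 : MulAction.stabilizer ↥N ((QuotientGroup.mk (1 : G) : G ⧸ H)) = H.subgroupOf N := by
      ext m
      rw [MulAction.mem_stabilizer_iff, Subgroup.mem_subgroupOf]
      show (QuotientGroup.mk ((m : G) * 1) : G ⧸ H) = QuotientGroup.mk 1 ↔ _
      rw [mul_one, QuotientGroup.eq, mul_one, inv_mem_iff]
    calc f = Nat.card (↑(Lib.SylowFix.fixSet (P : Subgroup G) (Finset.univ : Finset (G ⧸ H))) : Set (G ⧸ H)) := by
          simp [f, Nat.card_eq_fintype_card]
      _ = _ := by
          rw [e, Nat.card_congr (MulAction.orbitEquivQuotientStabilizer ↥N _), e2]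
          rfl
  have hnG : Nat.card (Sylow p G) = N.index := P.card_eq_index_normalizer
  have hnH : Nat.card (Sylow p ↥H) = N.relIndex H := by
    rw [(P.subtype hP).card_eq_index_normalizer]
    show (Subgroup.normalizer (((P : Subgroup G).subgroupOf H : Subgroup ↥H) : Set ↥H)).index = _
    rw [← Subgroup.subgroupOf_normalizer_eq hP]
    rfl
  have hcount : Fintype.card (G ⧸ H) * Nat.card (Sylow p ↥H) = Nat.card (Sylow p G) * f := by
    rw [hnG, hnH, hnum, ← Nat.card_eq_fintype_card, ← Subgroup.index_eq_card]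
    have h1 := Subgroup.relIndex_mul_index (inf_le_right : N ⊓ H ≤ H)
    have h2 := Subgroup.relIndex_mul_index (inf_le_left : N ⊓ H ≤ N)
    rw [Subgroup.inf_relIndex_right] at h1
    rw [inf_comm N H] at h2 h1
    rw [Subgroup.inf_relIndex_right] at h2
    rw [mul_comm, h1, mul_comm, h2]
  rw [Finset.card_univ] at hb
  refine Nat.le_of_mul_le_mul_left ?_ (Fintype.card_pos (α := G ⧸ H))
  calc Fintype.card (G ⧸ H) * ((2 * p - 1) * Nat.card (Sylow p ↥H))
      = Nat.card (Sylow p G) * ((2 * p - 1) * f) := by rw [mul_left_comm, hcount]; ring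
    _ ≤ Nat.card (Sylow p G) * ((p - 1) * Fintype.card (G ⧸ H)) := Nat.mul_le_mul_left _ hb
    _ = _ := by ring

end Cfsg.Agent.S4181
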