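import Cfsg.Statements.S4182

set_option autoImplicit false
open Cfsg

namespace Cfsg.Agent.S4182

variable {G : Type*} [Group G]

/-- The p-elements. -/
private def PE (p : ℕ) (L : Subgroup G) : Set G := {g | g ∈ L ∧ ∃ k : ℕ, orderOf g = p ^ k}

private lemma pgroup_not_union [Finite G] (p : ℕ) [Fact p.Prime] (P : Subgroup G)
    (hP : IsPGroup p P) (s : Finset (Subgroup G)) (hs : s.card ≤ p)
    (hcov : ∀ x ∈ P, ∃ K ∈ s, x ∈ K) : ∃ K ∈ s, P ≤ K := by
  classical
  cases nonempty_fintype G
  by_contra hne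
  push_neg at hne
  have hp := (Fact.out : p.Prime)
  have hsz : ∀ K ∈ s, Nat.card ↥(P ⊓ K) * p ≤ Nat.card P := by
    intro K hK
    have hlt : P ⊓ K < P := lt_of_le_of_ne inf_le_left fun h => hne K hK (h ▸ inf_le_right)
    obtain ⟨c, hc⟩ := hP.exists_card_eq
    obtain ⟨b, hb⟩ := (hP.to_le (inf_le_left : P ⊓ K ≤ P)).exists_card_eq
    have hblt : p ^ b < p ^ c := by
      rw [← hb, ← hc]
      exact lt_of_le_of_ne (Subgroup.card_le_of_le inf_le_left)
        fun h => hlt.ne (Subgroup.eq_of_le_of_card_ge inf_le_left h.ge)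
    have : b < c := (Nat.pow_lt_pow_iff_right hp.one_lt).1 hblt
    rw [hb, hc, ← pow_succ]
    exact Nat.pow_le_pow_right hp.pos this
  have hsub : (P : Set G).toFinset.erase 1 ⊆
      s.biUnion (fun K => ((P ⊓ K : Subgroup G) : Set G).toFinset.erase 1) := by
    intro x hx
    simp only [Finset.mem_erase, Set.mem_toFinset, SetLike.mem_coe] at hx
    obtain ⟨K, hK, hxK⟩ := hcov x hx.2
    simp only [Finset.mem_biUnion, Finset.mem_erase, Set.mem_toFinset, SetLike.mem_coe]
    exact ⟨K, hK, hx.1, hx.2, hxK⟩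
  have hc1 : ∀ H : Subgroup G, ((H : Set G).toFinset.erase 1).card = Nat.card H - 1 := by
    intro H
    rw [Finset.card_erase_of_mem (by simp [H.one_mem]), ← Set.ncard_eq_toFinset_card']
    rfl
  have hle := (Finset.card_le_card hsub).trans Finset.card_biUnion_le
  rw [hc1] at hle
  have h2 : (∑ K ∈ s, (((P ⊓ K : Subgroup G) : Set G).toFinset.erase 1).card) * p
      ≤ s.card * (Nat.card P - p) := by
    rw [Finset.sum_mul]
    refine (Finset.sum_le_card_nsmul _ _ (Nat.card P - p) fun K hK => ?_).trans_eq (by simp)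
    rw [hc1, Nat.sub_mul, one_mul]
    exact Nat.sub_le_sub_right (hsz K hK) p
  have h3 : (Nat.card P - 1) * p ≤ p * (Nat.card P - p) :=
    (Nat.mul_le_mul_right p hle).trans (h2.trans (Nat.mul_le_mul_right _ hs))
  have h4 : Nat.card P - 1 ≤ Nat.card P - p :=
    Nat.le_of_mul_le_mul_left (by rwa [mul_comm (Nat.card P - 1)] at h3) hp.pos
  have hPpos : 1 < Nat.card P := by
    rw [Subgroup.one_lt_card_iff_ne_bot]
    rintro rfl
    obtain ⟨K, hK, -⟩ := hcov 1 (one_mem _)
    exact hne K hK bot_le
  have := hp.two_le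
  omega

private lemma key [Finite G] (p : ℕ) [Fact p.Prime] : ∀ n, ∀ L : Subgroup G, Nat.card L = n →
    Subgroup.closure (PE p L) = L → ∀ s : Finset (Subgroup G), s.card ≤ p →
      (∀ g ∈ PE p L, ∃ K ∈ s, g ∈ K) → ∃ K ∈ s, L ≤ K := by
  classical
  intro n
  induction n using Nat.strong_induction_on with
  | _ n IH =>
    intro L hn hL s hs hcov
    by_contra hne
    push_neg at hne
    let O : Subgroup G → Subgroup G := fun K => Subgroup.closure (PE p (L ⊓ K))
    have hOle : ∀ K, O K ≤ L ⊓ K := fun K =>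
      (Subgroup.closure_le _).2 fun x hx => hx.1
    -- proper p-generated subgroups
    let S : Set (Subgroup G) := {M | M < L ∧ Subgroup.closure (PE p M) = M}
    have hOS : ∀ K ∈ s, O K ∈ S := by
      intro K hK
      refine ⟨lt_of_le_of_ne ((hOle K).trans inf_le_left)
        fun h => hne K hK (h.ge.trans ((hOle K).trans inf_le_right)), ?_⟩
      refine le_antisymm ((Subgroup.closure_le _).2 fun x hx => hx.1) ?_
      exact Subgroup.closure_mono fun x hx => ⟨Subgroup.subset_closure hx, hx.2⟩
    have hSle : ∀ M ∈ S, ∃ K ∈ s, M ≤ O K := by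
      intro M hM
      have hlt : Nat.card M < n := hn ▸ lt_of_le_of_ne (Subgroup.card_le_of_le hM.1.le)
        (fun h => hM.1.ne (Subgroup.eq_of_le_of_card_ge hM.1.le h.ge))
      obtain ⟨K, hK, hMK⟩ := IH _ hlt M rfl hM.2 s hs fun g hg => hcov g ⟨hM.1.le hg.1, hg.2⟩
      refine ⟨K, hK, ?_⟩
      conv_lhs => rw [← hM.2]
      exact Subgroup.closure_mono fun x hx => ⟨⟨hM.1.le hx.1, hMK hx.1⟩, hx.2⟩
    let T : Set (Subgroup G) := {M | Maximal (· ∈ S) M}
    have hTsub : T ⊆ ↑(s.image O) := by
      intro M hM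
      obtain ⟨K, hK, hMK⟩ := hSle M hM.1
      exact Finset.mem_image.2 ⟨K, hK, le_antisymm (hM.2 (hOS K hK) hMK) hMK⟩
    have hTcard : T.ncard ≤ p := (Set.ncard_le_ncard hTsub (Finset.finite_toSet _)).trans
      (by rw [Set.ncard_coe_finset]; exact Finset.card_image_le.trans hs)
    have hup : ∀ K ∈ s, ∃ M ∈ T, O K ≤ M := fun K hK => by
      obtain ⟨M, hM1, hM2⟩ := (Set.toFinite S).exists_le_maximal (hOS K hK)
      exact ⟨M, hM2, hM1⟩
    -- conjugation by elements of L permutes T
    let c : G → Subgroup G → Subgroup G := fun x M => M.map (MulAut.conj x).toMonoidHom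
    have hcc : ∀ x y M, c x (c y M) = c (x * y) M := by
      intro x y M
      simp only [c, Subgroup.map_map]
      congr 1
      ext z
      simp [mul_assoc]
    have hc1 : ∀ M, c 1 M = M := by
      intro M
      ext z
      simp [c]
    have hLc : ∀ x ∈ L, c x L = L := by
      intro x hx
      ext z
      constructor
      · rintro ⟨w, hw, rfl⟩
        exact L.mul_mem (L.mul_mem hx hw) (L.inv_mem hx)
      · intro hz
        exact ⟨x⁻¹ * z * x, L.mul_mem (L.mul_mem (L.inv_mem hx) hz) hx, by simp [mul_assoc]⟩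
    have hS : ∀ x ∈ L, ∀ M ∈ S, c x M ∈ S := by
      intro x hx M hM
      refine ⟨?_, ?_⟩
      · have := (Subgroup.map_lt_map_iff_of_injective (f := (MulAut.conj x).toMonoidHom)
          (MulAut.conj x).injective).2 hM.1
        exact this.trans_eq (hLc x hx)
      · refine le_antisymm ((Subgroup.closure_le _).2 fun z hz => hz.1) ?_
        conv_lhs => rw [show c x M = (Subgroup.closure (PE p M)).map
          (MulAut.conj x).toMonoidHom by rw [hM.2]]
        rw [MonoidHom.map_closure]
        refine Subgroup.closure_mono ?_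
        rintro _ ⟨w, ⟨hw, k, hk⟩, rfl⟩
        exact ⟨Subgroup.mem_map_of_mem _ hw, k, by
          rw [← hk]; exact orderOf_injective _ (MulAut.conj x).injective w⟩
    have hT : ∀ x ∈ L, ∀ M ∈ T, c x M ∈ T := by
      intro x hx M hM
      refine ⟨hS x hx M hM.1, fun N hN hle => ?_⟩
      have h := hM.2 (hS x⁻¹ (L.inv_mem hx) N hN) (by
        have := Subgroup.map_mono (f := (MulAut.conj x⁻¹).toMonoidHom) hle
        change c x⁻¹ (c x M) ≤ _ at this
        rwa [hcc, inv_mul_cancel, hc1] at this)
      have := Subgroup.map_mono (f := (MulAut.conj x).toMonoidHom) h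
      change c x (c x⁻¹ N) ≤ _ at this
      rwa [hcc, mul_inv_cancel, hc1] at this
    -- each p-element fixes every member of T
    have hfix : ∀ g ∈ PE p L, ∀ M ∈ T, c g M = M := by
      intro g hg M hM
      obtain ⟨K, hK, hgK⟩ := hcov g hg
      obtain ⟨M0, hM0, hK0⟩ := hup K hK
      have hgM0 : g ∈ M0 := hK0 (Subgroup.subset_closure ⟨⟨hg.1, hgK⟩, hg.2⟩)
      have hf0 : c g M0 = M0 := by
        ext z
        constructor
        · rintro ⟨w, hw, rfl⟩
          exact M0.mul_mem (M0.mul_mem hgM0 hw) (M0.inv_mem hgM0)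
        · intro hz
          exact ⟨g⁻¹ * z * g, M0.mul_mem (M0.mul_mem (M0.inv_mem hgM0) hz) hgM0,
            by simp [mul_assoc]⟩
      by_contra hne'
      have hiter : ∀ j, (c g)^[j] M = c (g ^ j) M := by
        intro j
        induction j with
        | zero => simp [hc1]
        | succ j ih => rw [Function.iterate_succ_apply', ih, hcc, ← pow_succ']
      obtain ⟨k, hk⟩ := hg.2
      have hper : Function.IsPeriodicPt (c g) (p ^ k) M := by
        change (c g)^[p ^ k] M = M
        rw [hiter, ← hk, pow_orderOf_eq_one, hc1]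
      obtain ⟨i, -, hi⟩ := (Nat.dvd_prime_pow (Fact.out : p.Prime)).1 hper.minimalPeriod_dvd
      have hi0 : i ≠ 0 := by
        rintro rfl
        rw [pow_zero, Function.minimalPeriod_eq_one_iff_isFixedPt] at hi
        exact hne' hi
      let orb : Finset (Subgroup G) :=
        (Finset.range (Function.minimalPeriod (c g) M)).image fun j => (c g)^[j] M
      have horb : orb.card = p ^ i := by
        rw [Finset.card_image_of_injOn, Finset.card_range, hi]
        intro a ha b hb hab
        exact Function.iterate_injOn_Iio_minimalPeriod (by simpa using ha) (by simpa using hb) hab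
      have horbT : (↑(insert M0 orb) : Set (Subgroup G)) ⊆ T := by
        intro N hN
        simp only [Finset.coe_insert, Set.mem_insert_iff, Finset.mem_coe, orb,
          Finset.mem_image] at hN
        rcases hN with rfl | ⟨j, -, rfl⟩
        · exact hM0
        · rw [hiter]; exact hT _ (L.pow_mem hg.1 j) M hM
      have hnot : M0 ∉ orb := by
        intro h
        obtain ⟨j, -, hj⟩ := Finset.mem_image.1 h
        apply hne'
        rw [hiter] at hj
        calc c g M = c g (c (g ^ j)⁻¹ M0) := by rw [← hj, hcc (g ^ j)⁻¹, inv_mul_cancel, hc1]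
          _ = c (g ^ j)⁻¹ (c g M0) := by
              rw [hcc, hcc]; congr 1; exact ((Commute.refl g).pow_right j).inv_right
          _ = M := by rw [hf0, ← hj, hcc, inv_mul_cancel, hc1]
      have h5 := (Set.ncard_le_ncard horbT (Set.toFinite _)).trans hTcard
      rw [Set.ncard_coe_finset, Finset.card_insert_of_notMem hnot, horb] at h5
      have : p ≤ p ^ i := Nat.le_self_pow hi0 p
      omega
    have hnorm : ∀ M ∈ T, L ≤ Subgroup.normalizer (M : Set G) := by
      intro M hM
      rw [← hL, Subgroup.closure_le]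
      intro g hg
      rw [SetLike.mem_coe, Subgroup.mem_normalizer_iff]
      intro z
      have h := hfix g hg M hM
      constructor
      · intro hz; rw [← h]; exact ⟨z, hz, rfl⟩
      · intro hz
        rw [← h] at hz
        obtain ⟨w, hw, hwz⟩ := hz
        simp at hwz
        subst hwz
        exact hw
    let P : Sylow p L := Classical.arbitrary _
    obtain ⟨K, hK, hPK⟩ := pgroup_not_union p ((P : Subgroup L).map L.subtype)
      (P.isPGroup'.map _) s hs (by
        intro x hx
        obtain ⟨y, hy, rfl⟩ := hx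
        refine hcov _ ⟨y.2, ?_⟩
        obtain ⟨k, hk⟩ := IsPGroup.iff_orderOf.1 P.isPGroup' ⟨y, hy⟩
        exact ⟨k, by rw [Subgroup.orderOf_mk] at hk; simpa using hk⟩)
    obtain ⟨M, hM, hKM⟩ := hup K hK
    apply hM.1.1.ne
    refine le_antisymm hM.1.1.le ?_
    rw [← hL, Subgroup.closure_le]
    intro g hg
    obtain ⟨k, hk⟩ := hg.2
    have hpg : IsPGroup p (Subgroup.zpowers (⟨g, hg.1⟩ : L)) := by
      refine IsPGroup.of_card (n := k) ?_
      rw [Nat.card_zpowers, Subgroup.orderOf_mk, hk]
    obtain ⟨Q, hQ⟩ := hpg.exists_le_sylow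
    obtain ⟨l, hl⟩ := MulAction.exists_smul_eq L P Q
    have hgQ := hQ (Subgroup.mem_zpowers _)
    rw [← hl, Sylow.coe_subgroup_smul] at hgQ
    obtain ⟨w, hw, hwg⟩ := Subgroup.mem_map.1 hgQ
    have hwM : (w : G) ∈ M := by
      refine hKM (Subgroup.subset_closure ⟨⟨w.2, hPK ⟨w, hw, rfl⟩⟩, ?_⟩)
      obtain ⟨j, hj⟩ := IsPGroup.iff_orderOf.1 P.isPGroup' ⟨w, hw⟩
      exact ⟨j, by rw [Subgroup.orderOf_mk] at hj; simpa using hj⟩
    have := (Subgroup.mem_normalizer_iff.1 (hnorm M hM l.2) (w : G)).1 hwM
    have e : (g : G) = l * w * (l : G)⁻¹ := by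
      have := congrArg Subtype.val hwg.symm
      simpa using this
    rw [SetLike.mem_coe, e]
    exact this

/-- Let p be a prime and G a finite group generated by its p-elements. If a finite family of proper subgroups of G covers the set of p-elements of G (every element of p-power order lies in one of them), then the family has at least p + 1 members. -/
theorem result {G : Type*} [Group G] [Finite G] (p : ℕ) [Fact p.Prime] (hgen : Subgroup.closure {g : G | ∃ k : ℕ, orderOf g = p ^ k} = ⊤)
    {ι : Type*} [Fintype ι] (K : ι → Subgroup G) (hK : ∀ i, K i ≠ ⊤)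
    (hcov : ∀ g : G, (∃ k : ℕ, orderOf g = p ^ k) → ∃ i, g ∈ K i) :
    p + 1 ≤ Fintype.card ι := by
  classical
  by_contra h
  have hPE : PE p (⊤ : Subgroup G) = {g : G | ∃ k : ℕ, orderOf g = p ^ k} := by
    ext g; simp [PE]
  obtain ⟨M, hM, hle⟩ := key p _ ⊤ rfl (by rw [hPE]; exact hgen) (Finset.univ.image K)
    (Finset.card_image_le.trans (by simp only [Finset.card_univ]; omega))
    (by
      intro g hg
      obtain ⟨i, hi⟩ := hcov g hg.2
      exact ⟨K i, Finset.mem_image_of_mem _ (Finset.mem_univ i), hi⟩)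
  obtain ⟨i, -, rfl⟩ := Finset.mem_image.1 hM
  exact hK i (top_le_iff.1 hle)

end Cfsg.Agent.S4182
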