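import Mathlib
import Cfsg.Statements.S4184
import Cfsg.Agent.Lib.ClassSizes.Basic
-- import your own Cfsg.Agent.* helpers here

set_option autoImplicit false
open Cfsg

set_option linter.style.haveILetI false

namespace Cfsg.Agent.S4184

open Cfsg.Agent.Lib.ClassSizes.Basic in
private theorem index_eq_one_iff {G : Type*} [Group G] (hZ : Subgroup.center G = ⊥) (g : G) :
    (Subgroup.centralizer ({g} : Set G)).index = 1 ↔ g = 1 := by
  rw [Subgroup.index_eq_one]
  constructor
  · intro h
    have : g ∈ Subgroup.center G := Subgroup.mem_center_iff.2 fun y =>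
      (mem_cen.1 (h ▸ Subgroup.mem_top y)).symm
    rwa [hZ, Subgroup.mem_bot] at this
  · rintro rfl
    exact eq_top_iff.2 fun y _ => mem_cen.2 (by simp)

/-- An element of order `p` in a nontrivial `p`-subgroup that is central in it. -/
private theorem exists_central_orderOf {G : Type*} [Group G] [Finite G] (p : ℕ) [Fact p.Prime]
    (D : Subgroup G) (hD : IsPGroup p D) (hne : D ≠ ⊥) :
    ∃ z ∈ D, orderOf z = p ∧ ∀ d ∈ D, d * z = z * d := by
  haveI : Nontrivial D := D.nontrivial_iff_ne_bot.2 hne
  haveI := hD.center_nontrivial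
  have hcard : p ∣ Nat.card (Subgroup.center D) := by
    obtain ⟨k, hk⟩ := IsPGroup.iff_card.1 (hD.to_subgroup (Subgroup.center D))
    rcases k with _ | k
    · exact absurd hk (by rw [pow_zero]; exact (Finite.one_lt_card).ne')
    · exact hk ▸ dvd_pow_self p (Nat.succ_ne_zero k)
  obtain ⟨z, hz⟩ := exists_prime_orderOf_dvd_card' p hcard
  refine ⟨((z : D) : G), (z : D).2, ?_, fun d hd => ?_⟩
  · rw [Subgroup.orderOf_coe, Subgroup.orderOf_coe, hz]
  · have := Subgroup.mem_center_iff.1 z.2 ⟨d, hd⟩
    exact congrArg Subtype.val this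

private theorem factor_centralizer_add {G : Type*} [Group G] [Finite G] (g : G) (q : ℕ) :
    (Nat.card (Subgroup.centralizer ({g} : Set G))).factorization q +
      (Subgroup.centralizer ({g} : Set G)).index.factorization q =
        (Nat.card G).factorization q := by
  rw [← Subgroup.card_mul_index (Subgroup.centralizer ({g} : Set G)),
    Nat.factorization_mul Nat.card_pos.ne' Subgroup.index_ne_zero_of_finite]
  rfl

/-- The facts about the set of class sizes of `M` that the argument uses. -/
private theorem sizes_of_disconnected {M : Type*} [Group M] [Finite M] (A : Set ℕ)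
    (hA : ∃ a ∈ A, a.Prime ∧ a ∣ Nat.card M) (hB : ∃ b ∉ A, b.Prime ∧ b ∣ Nat.card M)
    (hno : ∀ a ∈ A, ∀ b ∉ A, a.Prime → b.Prime → a ∣ Nat.card M → b ∣ Nat.card M →
      ¬ ∃ x : M, orderOf x = a * b) :
    (∀ x : M, x ≠ 1 →
      ((∀ q ∈ A, (Subgroup.centralizer ({x} : Set M)).index.factorization q =
          (Nat.card M).factorization q) ∨
        (∀ q ∉ A, (Subgroup.centralizer ({x} : Set M)).index.factorization q =
          (Nat.card M).factorization q)) ∧
      ¬ ((∀ q ∈ A, (Subgroup.centralizer ({x} : Set M)).index.factorization q =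
          (Nat.card M).factorization q) ∧
        (∀ q ∉ A, (Subgroup.centralizer ({x} : Set M)).index.factorization q =
          (Nat.card M).factorization q))) ∧
    ∀ q : ℕ, ∃ x : M, (Subgroup.centralizer ({x} : Set M)).index.factorization q =
      (Nat.card M).factorization q := by
  classical
  -- the key point
  have hkey : ∀ (x : M) (r q : ℕ), r.Prime → r ∣ orderOf x → (r ∈ A ↔ q ∉ A) →
      (Subgroup.centralizer ({x} : Set M)).index.factorization q =
        (Nat.card M).factorization q := by
    intro x r q hr hrx hrq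
    have h0 : (Nat.card (Subgroup.centralizer ({x} : Set M))).factorization q = 0 := by
      by_contra h0
      have hq : q.Prime := by
        by_contra hq
        exact h0 (Nat.factorization_eq_zero_of_not_prime _ hq)
      haveI := Fact.mk hq
      have hqd : q ∣ Nat.card (Subgroup.centralizer ({x} : Set M)) :=
        Nat.dvd_of_factorization_pos h0
      obtain ⟨y, hy⟩ := exists_prime_orderOf_dvd_card' q hqd
      have hyo : orderOf (y : M) = q := by rw [Subgroup.orderOf_coe, hy]
      have hne : r ≠ q := fun e => by subst e; tauto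
      obtain ⟨t, ht⟩ := hrx
      have htpos : t ≠ 0 := by rintro rfl; simp [orderOf_pos x |>.ne'] at ht
      have hx' : orderOf (x ^ t) = r := by
        rw [orderOf_pow' _ htpos, ht, Nat.gcd_mul_left_left, Nat.mul_div_cancel _ (Nat.pos_of_ne_zero htpos)]
      have hc : Commute (x ^ t) (y : M) :=
        Commute.pow_left (Cfsg.Agent.Lib.ClassSizes.Basic.mem_cen.1 y.2) t
      have hcop : (orderOf (x ^ t)).Coprime (orderOf (y : M)) := by
        rw [hx', hyo]; exact (Nat.coprime_primes hr hq).2 hne
      have hord : orderOf (x ^ t * (y : M)) = r * q := by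
        rw [hc.orderOf_mul_eq_mul_orderOf_of_coprime hcop, hx', hyo]
      have hrM : r ∣ Nat.card M := hx' ▸ orderOf_dvd_natCard _
      have hqM : q ∣ Nat.card M := hyo ▸ orderOf_dvd_natCard _
      by_cases hrA : r ∈ A
      · exact hno r hrA q (hrq.1 hrA) hr hq hrM hqM ⟨_, hord⟩
      · have hqA : q ∈ A := by tauto
        exact hno q hqA r hrA hq hr hqM hrM ⟨_, by rw [hord, mul_comm]⟩
    have := factor_centralizer_add x q
    omega
  refine ⟨fun x hx => ⟨?_, ?_⟩, fun q => ?_⟩
  · obtain ⟨r, hr, hrx⟩ := Nat.exists_prime_and_dvd (mt orderOf_eq_one_iff.1 hx)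
    by_cases hrA : r ∈ A
    · exact Or.inr fun q hq => hkey x r q hr hrx (iff_of_true hrA hq)
    · exact Or.inl fun q hq => hkey x r q hr hrx (iff_of_false hrA (fun h => h hq))
  · rintro ⟨h1, h2⟩
    have hall : (Subgroup.centralizer ({x} : Set M)).index = Nat.card M :=
      Nat.eq_of_factorization_eq Subgroup.index_ne_zero_of_finite Nat.card_pos.ne' fun q => by
        by_cases hq : q ∈ A
        · exact h1 q hq
        · exact h2 q hq
    have hc := Subgroup.card_mul_index (Subgroup.centralizer ({x} : Set M))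
    rw [hall] at hc
    have hbot : Subgroup.centralizer ({x} : Set M) = ⊥ := Subgroup.card_eq_one.1
      (Nat.eq_of_mul_eq_mul_right Nat.card_pos (hc.trans (one_mul _).symm))
    have hmem : x ∈ Subgroup.centralizer ({x} : Set M) :=
      Cfsg.Agent.Lib.ClassSizes.Basic.mem_cen.2 rfl
    rw [hbot, Subgroup.mem_bot] at hmem
    exact hx hmem
  · by_cases hq : q ∈ A
    · obtain ⟨b, hbA, hb, hbd⟩ := hB
      haveI := Fact.mk hb
      obtain ⟨x, hx⟩ := exists_prime_orderOf_dvd_card' b hbd
      exact ⟨x, hkey x b q hb (dvd_of_eq hx.symm) (iff_of_false hbA (fun h => h hq))⟩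
    · obtain ⟨a, haA, ha, had⟩ := hA
      haveI := Fact.mk ha
      obtain ⟨x, hx⟩ := exists_prime_orderOf_dvd_card' a had
      exact ⟨x, hkey x a q ha (dvd_of_eq hx.symm) (iff_of_true haA hq)⟩

open Cfsg.Agent.Lib.ClassSizes.Basic in
/-- The main step: no prime of `A` has a larger part in `#G` than the number `m`. -/
private theorem factor_le {G : Type*} [Group G] [Finite G] (hZ : Subgroup.center G = ⊥) (m : ℕ)
    (hm : m ∣ Nat.card G) (A : Set ℕ)
    (hdv : ∀ g : G, ∀ q, (Subgroup.centralizer ({g} : Set G)).index.factorization q ≤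
      m.factorization q)
    (hor : ∀ g : G, g ≠ 1 →
      (∀ q ∈ A, (Subgroup.centralizer ({g} : Set G)).index.factorization q = m.factorization q) ∨
      (∀ q ∉ A, (Subgroup.centralizer ({g} : Set G)).index.factorization q = m.factorization q))
    (hnot : ∀ g : G, g ≠ 1 →
      ¬ ((∀ q ∈ A, (Subgroup.centralizer ({g} : Set G)).index.factorization q = m.factorization q) ∧
      (∀ q ∉ A, (Subgroup.centralizer ({g} : Set G)).index.factorization q = m.factorization q)))
    (p : ℕ) (hp : p.Prime) (hpA : p ∈ A) (hpm : m.factorization p ≠ 0)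
    (b : ℕ) (hb : b.Prime) (hbA : b ∉ A) (hbm : m.factorization b ≠ 0) :
    (Nat.card G).factorization p ≤ m.factorization p := by
  classical
  haveI := Fact.mk hp
  haveI := Fact.mk hb
  set C : G → Subgroup G := fun g => Subgroup.centralizer ({g} : Set G) with hC
  by_contra hlt
  rw [not_le] at hlt
  -- an element of order `q` central in a Sylow `q`-subgroup has class size prime to `q`
  have hcentral : ∀ (q : ℕ) [Fact q.Prime] (Q : Sylow q G) (z : G),
      (∀ d ∈ (Q : Subgroup G), d * z = z * d) → (C z).index.factorization q = 0 := by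
    intro q _ Q z hz
    exact Nat.factorization_eq_zero_of_not_dvd
      (not_dvd_of_sylow_le Q fun d hd => mem_cen.2 (hz d hd).symm)
  -- `y` of order `b`
  have hbG : b ∣ Nat.card G := (Nat.dvd_of_factorization_pos hbm).trans hm
  obtain ⟨B⟩ : Nonempty (Sylow b G) := inferInstance
  have hBne : (B : Subgroup G) ≠ ⊥ := B.ne_bot_of_dvd_card hbG
  obtain ⟨y, -, hyo, hyc⟩ := exists_central_orderOf b (B : Subgroup G) B.2 hBne
  have hy1 : y ≠ 1 := fun e => hb.ne_one (by rw [← hyo, e, orderOf_one])
  have hyA : ∀ q ∈ A, (C y).index.factorization q = m.factorization q := by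
    rcases hor y hy1 with h | h
    · exact h
    · exact absurd ((hcentral b B y hyc).symm.trans (h b hbA)).symm hbm
  -- `D`, a Sylow `p`-subgroup of the centralizer of `y`
  have hsum := factor_centralizer_add y p
  obtain ⟨D₀⟩ : Nonempty (Sylow p (C y)) := inferInstance
  set D : Subgroup G := (D₀ : Subgroup (C y)).map (C y).subtype with hD
  have hDle : D ≤ C y := Subgroup.map_subtype_le _
  have hDcard : Nat.card D = p ^ (Nat.card (C y)).factorization p := by
    rw [hD, Subgroup.card_map_of_injective (Subgroup.subtype_injective _), D₀.card_eq_multiplicity]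
  have hDp : IsPGroup p D := IsPGroup.map D₀.2 _
  have hDne : D ≠ ⊥ := by
    intro e
    rw [e, Subgroup.card_bot] at hDcard
    have := (Nat.pow_eq_one.1 hDcard.symm).resolve_left hp.ne_one
    have := hyA p hpA
    simp only [hC] at *
    omega
  obtain ⟨w, hwD, hwo, hwc⟩ := exists_central_orderOf p D hDp hDne
  have hw1 : w ≠ 1 := fun e => hp.ne_one (by rw [← hwo, e, orderOf_one])
  have hbp : b ≠ p := fun e => hbA (e ▸ hpA)
  have hmix : ∀ v : G, v ≠ 1 → v ∈ C y → (orderOf y).Coprime (orderOf v) →
      ∀ q ∈ A, (C v).index.factorization q = m.factorization q := by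
    intro v hv hvy hcop
    rcases hor v hv with h | h
    · exact h
    exfalso
    have hcom : Commute y v := mem_cen.1 hvy
    have hyv : y * v ≠ 1 := fun e => hy1 (by
      obtain ⟨k, hk⟩ := mem_powers_of_commute_coprime hcom hcop
      rw [← hk, e, one_pow])
    have hle : ∀ u : G, C (y * v) ≤ C u → ∀ q, (C u).index.factorization q ≤
        (C (y * v)).index.factorization q := fun u hu q =>
      (Nat.factorization_le_iff_dvd Subgroup.index_ne_zero_of_finite
        Subgroup.index_ne_zero_of_finite).2 (Subgroup.index_dvd_of_le hu) q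
    have hyl := hle y ((cen_mul_eq hcom hcop).le.trans inf_le_left)
    have hvl := hle v ((cen_mul_eq hcom hcop).le.trans inf_le_right)
    exact hnot (y * v) hyv
      ⟨fun q hq => le_antisymm (hdv _ q) (hyA q hq ▸ hyl q),
        fun q hq => le_antisymm (hdv _ q) (h q hq ▸ hvl q)⟩
  have hwA := hmix w hw1 (hDle hwD) (by rw [hyo, hwo]; exact (Nat.coprime_primes hb hp).2 hbp)
  -- a central element of a Sylow subgroup over `D`
  obtain ⟨P, hP⟩ := hDp.exists_le_sylow
  have hPne : (P : Subgroup G) ≠ ⊥ := fun e => hDne (le_bot_iff.1 (e ▸ hP))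
  obtain ⟨z, hzP, hzo, hzc⟩ := exists_central_orderOf p (P : Subgroup G) P.2 hPne
  have hz1 : z ≠ 1 := fun e => hp.ne_one (by rw [← hzo, e, orderOf_one])
  set E : Subgroup G := D ⊔ Subgroup.zpowers z with hE
  have hEP : E ≤ (P : Subgroup G) := sup_le hP (Subgroup.zpowers_le.2 hzP)
  have hEw : E ≤ C w := sup_le (fun d hd => mem_cen.2 (hwc d hd).symm)
    (Subgroup.zpowers_le.2 (mem_cen.2 (hzc w (hP hwD))))
  obtain ⟨k, hk⟩ := IsPGroup.iff_card.1 (P.2.to_le hEP)
  have hkle : k ≤ (Nat.card (C w)).factorization p :=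
    (hp.pow_dvd_iff_le_factorization Nat.card_pos.ne').1 (hk ▸ Subgroup.card_dvd_of_le hEw)
  have hcardle : Nat.card E ≤ Nat.card D := by
    rw [hk, hDcard]
    refine Nat.pow_le_pow_right hp.pos (hkle.trans ?_)
    have := factor_centralizer_add w p
    have := hyA p hpA
    have := hwA p hpA
    simp only [hC] at *
    omega
  have hDE : D = E := Subgroup.eq_of_le_of_card_ge le_sup_left hcardle
  have hzy : z ∈ C y := hDle (hDE ▸ (le_sup_right : Subgroup.zpowers z ≤ E) (Subgroup.mem_zpowers z))
  have hzA := hmix z hz1 hzy (by rw [hyo, hzo]; exact (Nat.coprime_primes hb hp).2 hbp) p hpA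
  rw [hcentral p P z hzc] at hzA
  exact hpm hzA.symm


/-- Let G and M be finite groups with trivial centres and the same set of conjugacy class sizes, and suppose the prime graph of M is disconnected: the prime divisors of #M split into two non-empty parts such that M has no element of order pq with p in one part and q in the other. Then #G = #M. -/
theorem result {G M : Type*}
    [Group G] [Finite G] [Group M] [Finite M] (hZG : Subgroup.center G = ⊥) (hZM : Subgroup.center M = ⊥)
    (h : Set.range (fun g : G => (Subgroup.centralizer ({g} : Set G)).index) = Set.range (fun g : M => (Subgroup.centralizer ({g} : Set M)).index))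
    (hdisc : ∃ A : Set ℕ, (∃ a ∈ A, a.Prime ∧ a ∣ Nat.card M) ∧ (∃ b ∉ A, b.Prime ∧ b ∣ Nat.card M) ∧
      ∀ a ∈ A, ∀ b ∉ A, a.Prime → b.Prime → a ∣ Nat.card M → b ∣ Nat.card M → ¬ ∃ x : M, orderOf x = a * b) :
    Nat.card G = Nat.card M := by
  classical
  obtain ⟨A, hA, hB, hno⟩ := hdisc
  obtain ⟨hM, hfull⟩ := sizes_of_disconnected A hA hB hno
  set m := Nat.card M with hm
  have hGM : ∀ g : G, ∃ x : M, (g ≠ 1 → x ≠ 1) ∧
      (Subgroup.centralizer ({x} : Set M)).index = (Subgroup.centralizer ({g} : Set G)).index := by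
    intro g
    obtain ⟨x, hx⟩ : (Subgroup.centralizer ({g} : Set G)).index ∈
        Set.range (fun g : M => (Subgroup.centralizer ({g} : Set M)).index) := h ▸ ⟨g, rfl⟩
    simp only at hx
    refine ⟨x, fun hg hx1 => hg ((index_eq_one_iff hZG g).1 ?_), hx⟩
    rw [← hx]; exact (index_eq_one_iff hZM x).2 hx1
  have hdv : ∀ (g : G) (q : ℕ), (Subgroup.centralizer ({g} : Set G)).index.factorization q ≤
      m.factorization q := by
    intro g q
    obtain ⟨x, -, hx⟩ := hGM g
    rw [← hx]
    exact (Nat.factorization_le_iff_dvd Subgroup.index_ne_zero_of_finite Nat.card_pos.ne').2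
      (Subgroup.index_dvd_card _) q
  have hor : ∀ g : G, g ≠ 1 →
      ((∀ q ∈ A, (Subgroup.centralizer ({g} : Set G)).index.factorization q = m.factorization q) ∨
        (∀ q ∉ A, (Subgroup.centralizer ({g} : Set G)).index.factorization q = m.factorization q)) ∧
      ¬ ((∀ q ∈ A, (Subgroup.centralizer ({g} : Set G)).index.factorization q = m.factorization q) ∧
        (∀ q ∉ A, (Subgroup.centralizer ({g} : Set G)).index.factorization q = m.factorization q)) :=
    fun g hg => by
    obtain ⟨x, hx1, hx⟩ := hGM g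
    exact hx ▸ (hM x (hx1 hg))
  have hmG : m ∣ Nat.card G := by
    rw [← Nat.factorization_le_iff_dvd Nat.card_pos.ne' Nat.card_pos.ne']
    intro q
    obtain ⟨x, hx⟩ := hfull q
    obtain ⟨g, hg⟩ : (Subgroup.centralizer ({x} : Set M)).index ∈
        Set.range (fun g : G => (Subgroup.centralizer ({g} : Set G)).index) := h ▸ ⟨x, rfl⟩
    simp only at hg
    rw [← hx, ← hg]
    exact (Nat.factorization_le_iff_dvd Subgroup.index_ne_zero_of_finite Nat.card_pos.ne').2
      (Subgroup.index_dvd_card _) q
  refine (Nat.eq_of_factorization_eq Nat.card_pos.ne' Nat.card_pos.ne' fun p => ?_)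
  refine le_antisymm ?_ ((Nat.factorization_le_iff_dvd Nat.card_pos.ne' Nat.card_pos.ne').2 hmG p)
  by_cases hp : p.Prime
  swap
  · simp [Nat.factorization_eq_zero_of_not_prime _ hp]
  haveI := Fact.mk hp
  by_cases hpm : m.factorization p = 0
  · -- a prime not dividing `#M` gives a central Sylow subgroup
    rw [hpm, Nat.le_zero]
    by_contra h0
    obtain ⟨P⟩ : Nonempty (Sylow p G) := inferInstance
    have hno' : ¬ ∃ g : G, p ∣ (Subgroup.centralizer ({g} : Set G)).index := by
      rintro ⟨g, hg⟩
      have := hdv g p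
      have := hp.factorization_pos_of_dvd Subgroup.index_ne_zero_of_finite hg
      omega
    rw [Cfsg.Agent.Lib.ClassSizes.Basic.exists_dvd_iff P, not_not, hZG, le_bot_iff] at hno'
    exact P.ne_bot_of_dvd_card (Nat.dvd_of_factorization_pos h0) hno'
  by_cases hpA : p ∈ A
  · obtain ⟨b, hbA, hb, hbd⟩ := hB
    exact factor_le hZG m hmG A hdv (fun g hg => (hor g hg).1) (fun g hg => (hor g hg).2) p hp hpA
      hpm b hb hbA (hb.factorization_pos_of_dvd Nat.card_pos.ne' hbd).ne'
  · obtain ⟨a, haA, ha, had⟩ := hA
    refine factor_le hZG m hmG Aᶜ hdv (fun g hg => ?_) (fun g hg => ?_) p hp hpA hpm a ha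
      (fun h => h haA) (ha.factorization_pos_of_dvd Nat.card_pos.ne' had).ne'
    · rcases (hor g hg).1 with h1 | h2
      · exact Or.inr fun q hq => h1 q (not_not.1 hq)
      · exact Or.inl fun q hq => h2 q hq
    · rintro ⟨h1, h2⟩
      exact (hor g hg).2 ⟨fun q hq => h2 q (fun h => h hq), fun q hq => h1 q hq⟩

end Cfsg.Agent.S4184
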