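import Cfsg.Statements.S4186


set_option autoImplicit false
open Cfsg

namespace Cfsg.Agent.S4186

/-- Let T and X be subgroups of a group with T a finite 2-group normalizing X but not centralizing it. Then some element of T inverts some non-identity element of X under conjugation. -/
theorem result {G : Type*} [Group G] (T X : Subgroup G) [Finite ↥T] (hT : IsPGroup 2 ↥T) (hTN : T ≤ Subgroup.normalizer (X : Set G)) (hTC : ¬ T ≤ Subgroup.centralizer (X : Set G)) : ∃ t ∈ T, ∃ x ∈ X, x ≠ 1 ∧ t * x * t⁻¹ = x⁻¹ := by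
  classical
  obtain ⟨t, htT, htC⟩ := SetLike.not_le_iff_exists.mp hTC
  obtain ⟨k, hk⟩ := hT ⟨t, htT⟩
  have hk' : t ^ 2 ^ k = 1 := by simpa using congrArg Subtype.val hk
  have hex : ∃ j, t ^ 2 ^ j ∈ Subgroup.centralizer (X : Set G) := ⟨k, by rw [hk']; exact one_mem _⟩
  have h0 : Nat.find hex ≠ 0 := fun h => htC (by
    have := Nat.find_spec hex; rw [h] at this; simpa using this)
  obtain ⟨j, hj⟩ := Nat.exists_eq_succ_of_ne_zero h0
  have hjC : t ^ 2 ^ j ∉ Subgroup.centralizer (X : Set G) := Nat.find_min hex (by omega)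
  have hsq : (t ^ 2 ^ j) * (t ^ 2 ^ j) ∈ Subgroup.centralizer (X : Set G) := by
    have := Nat.find_spec hex
    rw [hj, pow_succ, pow_mul, pow_two] at this
    exact this
  generalize hu : t ^ 2 ^ j = u at hjC hsq
  have huT : u ∈ T := hu ▸ pow_mem htT _
  obtain ⟨x, hxX, hxu⟩ : ∃ x ∈ X, u * x * u⁻¹ ≠ x := by
    by_contra! hcon
    apply hjC
    rw [Subgroup.mem_centralizer_iff]
    intro x hx
    have := hcon x hx
    calc x * u = (u * x * u⁻¹) * u := by rw [this]
      _ = u * x := by group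
  have hN : u * x * u⁻¹ ∈ X := by
    have := hTN huT
    rw [Subgroup.mem_normalizer_iff] at this
    exact (this x).1 hxX
  refine ⟨u, huT, x⁻¹ * (u * x * u⁻¹), mul_mem (inv_mem hxX) hN, ?_, ?_⟩
  · intro h
    exact hxu (inv_mul_eq_one.mp h).symm
  · rw [Subgroup.mem_centralizer_iff] at hsq
    have h2 : (u * u) * x * (u * u)⁻¹ = x := by rw [← hsq x hxX]; group
    calc u * (x⁻¹ * (u * x * u⁻¹)) * u⁻¹ = (u * x * u⁻¹)⁻¹ * ((u * u) * x * (u * u)⁻¹) := by group
      _ = (u * x * u⁻¹)⁻¹ * x := by rw [h2]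
      _ = _ := by group

end Cfsg.Agent.S4186
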