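import Cfsg.Statements.S4188
import Cfsg.Agent.Lib.TwoGroupOnOdd.Bound
import Cfsg.Agent.Lib.PGroups.Frattini
-- import your own Cfsg.Agent.* helpers here

set_option autoImplicit false
open Cfsg

namespace Cfsg.Agent.S4188

/-- Let G be a finite group that is the semidirect product of a normal abelian subgroup N of odd order by a 2-subgroup P, and suppose N is the unique minimal normal subgroup of G. Then the index of the Frattini subgroup of P in P is at most #N − 1. -/
theorem result {G : Type*} [Group G] [Finite G] (N P : Subgroup G) (hN : N.Normal) (hNab : IsMulCommutative ↥N) (hNodd : Odd (Nat.card ↥N)) (hP : IsPGroup 2 ↥P) (hdisj : N ⊓ P = ⊥) (hprod : N ⊔ P = ⊤) (hmin : N ≠ ⊥ ∧ ∀ M : Subgroup G, M.Normal → M ≠ ⊥ → N ≤ M) : (frattini ↥P).index ≤ Nat.card ↥N - 1 := by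
  have := Fact.mk Nat.prime_two
  letI : CommGroup N := { (inferInstance : Group N) with mul_comm := hNab.is_comm.comm }
  let φ : P →* MulAut N := (MulAut.conjNormal : G →* MulAut N).comp P.subtype
  have hker : ∀ g : P, φ g = 1 → ∀ x ∈ N, (g : G) * x = x * g := by
    intro g hg x hx
    have h := congrArg Subtype.val (MulEquiv.ext_iff.mp hg ⟨x, hx⟩)
    rw [MulAut.one_apply] at h
    rw [← mul_inv_eq_iff_eq_mul]
    simpa [φ, MulAut.conjNormal_apply] using h
  have hinj : Function.Injective φ := by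
    rw [injective_iff_map_eq_one]
    intro g₀ hg₀
    by_contra hne
    let K : Subgroup G := P ⊓ Subgroup.centralizer (N : Set G)
    have hg₀K : (g₀ : G) ∈ K :=
      ⟨g₀.2, Subgroup.mem_centralizer_iff.mpr fun x hx => (hker g₀ hg₀ x hx).symm⟩
    have hKP : K ≤ P := inf_le_left
    have hKn : K.Normal := by
      refine ⟨fun y hy g => ?_⟩
      obtain ⟨n, hn, p, hp, rfl⟩ :=
        Subgroup.mem_sup_of_normal_left.mp (hprod.symm ▸ Subgroup.mem_top g : g ∈ N ⊔ P)
      have h1 : p * y * p⁻¹ ∈ K := by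
        refine ⟨P.mul_mem (P.mul_mem hp hy.1) (P.inv_mem hp), ?_⟩
        have : (Subgroup.centralizer (N : Set G)).Normal := inferInstance
        exact this.conj_mem y hy.2 p
      have h2 : n * (p * y * p⁻¹) * n⁻¹ = p * y * p⁻¹ := by
        rw [Subgroup.mem_centralizer_iff.mp h1.2 n hn, mul_inv_cancel_right]
      have h3 : n * p * y * (n * p)⁻¹ = n * (p * y * p⁻¹) * n⁻¹ := by group
      rw [h3, h2]
      exact h1
    have hK : K ≠ ⊥ := fun h => hne (Subtype.ext (Subgroup.mem_bot.mp (h ▸ hg₀K)))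
    exact hmin.1 (eq_bot_iff.mpr ((le_inf le_rfl ((hmin.2 K hKn hK).trans hKP)).trans hdisj.le))
  have hN1 : 1 < Nat.card N :=
    Finite.one_lt_card_iff_nontrivial.mpr ((Subgroup.nontrivial_iff_ne_bot N).mpr hmin.1)
  have hgood := Lib.TwoGroupOnOdd.good_bound _ φ rfl hinj hP hNodd hN1
  have hle : (frattini P).index ≤ Lib.TwoGroupOnOdd.sqIndex P := by
    refine Nat.le_of_dvd (Nat.pos_of_ne_zero Subgroup.index_ne_zero_of_finite)
      (Subgroup.index_dvd_of_le ((Subgroup.closure_le _).mpr ?_))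
    rintro _ ⟨x, rfl⟩
    exact Lib.PGroups.pow_mem_frattini hP x
  rcases hgood with h | ⟨h, h'⟩ <;> omega

end Cfsg.Agent.S4188
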