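import Cfsg.Statements.S4189
import Cfsg.Agent.Lib.PGroups.MaximalClass
import Cfsg.Agent.Lib.TwoGroups.Recognition
import Cfsg.Agent.Lib.TwoGroups.OddAut
-- import your own Cfsg.Agent.* helpers here

set_option autoImplicit false
open Cfsg

namespace Cfsg.Agent.S4189

/-- Let P be a finite non-abelian 2-group whose commutator subgroup has index 4 and whose automorphism group is not a 2-group (some automorphism has order that is not a power of 2). Then P is isomorphic to the quaternion group of order 8. -/
theorem result {P : Type*} [Group P] [Finite P] (hP : IsPGroup 2 P) (hna : ¬ IsMulCommutative P) (h4 : (commutator P).index = 4) (haut : ¬ IsPGroup 2 (MulAut P)) : Nonempty (P ≃* QuaternionGroup 2) := by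
  have : Fact (Nat.Prime 2) := ⟨Nat.prime_two⟩
  obtain ⟨n, hX⟩ := IsPGroup.iff_card.mp hP
  have hn : 3 ≤ n := by
    by_contra h
    apply hna
    have hd : Nat.card P ∣ 2 ^ 2 := hX ▸ pow_dvd_pow 2 (by omega)
    have h' : commutator P = ⊥ := by
      apply Subgroup.eq_bot_of_card_eq
      have h1 := (commutator P).card_mul_index
      have h2 := Nat.le_of_dvd (by norm_num) hd
      have h3 := Nat.card_pos (α := commutator P)
      rw [h4] at h1
      omega
    exact Lib.PGroups.isMulCommutative_of_commutator_eq_bot h'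
  have hZ := Lib.PGroups.card_center_eq_two hn hX h4
  obtain ⟨C, hC, hCi⟩ := Lib.PGroups.exists_cyclic_index_two n hn hX h4
  by_cases huniq : ∀ D : Subgroup P, IsCyclic D → D.index = 2 → D = C
  · refine absurd (Lib.TwoGroups.OddAut.isPGroup_mulAut fun φ hφ => ?_) haut
    have hcard : Nat.card (C.map φ.toMonoidHom) = Nat.card C :=
      (Nat.card_congr (C.equivMapOfInjective φ.toMonoidHom φ.injective).toEquiv).symm
    have hmap : C.map φ.toMonoidHom = C := by
      refine huniq _ ((C.equivMapOfInjective φ.toMonoidHom φ.injective).isCyclic.mp hC) ?_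
      have h1 := (C.map φ.toMonoidHom).card_mul_index
      rw [hcard, ← C.card_mul_index, hCi] at h1
      exact Nat.eq_of_mul_eq_mul_left Nat.card_pos h1
    obtain ⟨a, ha⟩ := Subgroup.isCyclic_iff_exists_zpowers_eq_top C |>.mp hC
    obtain ⟨k, hk⟩ := hP a
    obtain ⟨l, -, hl⟩ := (Nat.dvd_prime_pow Nat.prime_two).mp (orderOf_dvd_of_pow_eq_one hk)
    have hφa : φ a ∈ Subgroup.zpowers a := by
      rw [ha]
      exact hmap.le ⟨a, ha ▸ Subgroup.mem_zpowers a, rfl⟩
    obtain ⟨r, hr⟩ : ∃ r : ℕ, a ^ r = φ a :=
      (mem_powers_iff_mem_zpowers.mpr hφa)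
    have hfa := Lib.TwoGroups.OddAut.fix_of_power hr.symm hφ hl
    have hfC : ∀ c ∈ C, φ c = c := by
      rw [← ha]
      rintro _ ⟨i, rfl⟩
      simp [map_zpow, hfa]
    apply MulEquiv.ext
    intro t
    rw [MulAut.one_apply]
    by_cases ht : t ∈ C
    · exact hfC t ht
    · have hft : φ t ∉ C := fun h => ht (by
        obtain ⟨c, hc, hce⟩ := hmap.ge h
        exact φ.injective hce ▸ hc)
      have hc : t⁻¹ * φ t ∈ C :=
        (Subgroup.mul_mem_iff_of_index_two hCi).mpr (by
          rw [inv_mem_iff]; exact ⟨fun h => absurd h ht, fun h => absurd h hft⟩)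
      obtain ⟨j, hj⟩ := hP (t⁻¹ * φ t)
      exact Lib.TwoGroups.OddAut.fix_of_translate hφ (f := t⁻¹ * φ t) (by group) (hfC _ hc) hj
  · push Not at huniq
    obtain ⟨D, hD, hDi, hne⟩ := huniq
    have hCn := C.normal_of_index_eq_two hCi
    have hle : C ⊓ D ≤ Subgroup.center P := fun z hz => Subgroup.mem_center_iff.mpr fun g => by
      have htop : C ⊔ D ≤ Subgroup.centralizer ({z} : Set P) := sup_le
        (fun c hc => Subgroup.mem_centralizer_singleton_iff.mpr
          (congrArg Subtype.val (hC.isMulCommutative.is_comm.comm (⟨c, hc⟩ : C) ⟨z, hz.1⟩)))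
        (fun c hc => Subgroup.mem_centralizer_singleton_iff.mpr
          (congrArg Subtype.val (hD.isMulCommutative.is_comm.comm (⟨c, hc⟩ : D) ⟨z, hz.2⟩)))
      have hsup : C ⊔ D = ⊤ := by
        rw [← Subgroup.index_eq_one]
        rcases (Nat.dvd_prime Nat.prime_two).mp
          (hCi ▸ Subgroup.index_dvd_of_le (le_sup_left : C ≤ C ⊔ D)) with h | h
        · exact h
        · refine absurd ?_ hne
          have h5 := Subgroup.relIndex_mul_index (le_sup_left : C ≤ C ⊔ D)
          have h6 := Subgroup.relIndex_mul_index (le_sup_right : D ≤ C ⊔ D)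
          rw [h, hCi] at h5
          rw [h, hDi] at h6
          have hCC := Subgroup.relIndex_eq_one.mp (by omega : C.relIndex (C ⊔ D) = 1)
          have hDD := Subgroup.relIndex_eq_one.mp (by omega : D.relIndex (C ⊔ D) = 1)
          exact le_antisymm (le_sup_right.trans hCC) (le_sup_left.trans hDD)
      exact Subgroup.mem_centralizer_singleton_iff.mp (htop (hsup ▸ Subgroup.mem_top g))
    have hi : (C ⊓ D).index ≤ 4 := Subgroup.index_inf_le.trans (by rw [hCi, hDi])
    have hcm := (C ⊓ D).card_mul_index
    have hzle := Nat.le_of_dvd (by rw [hZ]; norm_num) (Subgroup.card_dvd_of_le hle)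
    rw [hZ] at hzle
    obtain rfl : n = 3 := by
      by_contra h
      have h1 : 2 ^ 4 ≤ Nat.card P := hX ▸ Nat.pow_le_pow_right (by norm_num) (by omega)
      nlinarith
    norm_num at hX
    rw [hX] at hcm
    have hI : Nat.card (C ⊓ D : Subgroup P) = 2 := by
      rcases Nat.lt_or_ge (Nat.card (C ⊓ D : Subgroup P)) 2 with h | h
      · nlinarith
      · omega
    have hord : ∀ E : Subgroup P, IsCyclic E → E.index = 2 →
        ∃ a : P, Subgroup.zpowers a = E ∧ orderOf a = 4 := fun E hE hEi => by
      obtain ⟨a, ha⟩ := Subgroup.isCyclic_iff_exists_zpowers_eq_top E |>.mp hE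
      refine ⟨a, ha, ?_⟩
      have h := E.card_mul_index
      rw [hEi, hX] at h
      rw [← Nat.card_zpowers, ha]
      omega
    obtain ⟨a, haC, ha⟩ := hord C hC hCi
    obtain ⟨b, hbD, hb⟩ := hord D hD hDi
    have hbC : b ∉ C := fun h => hne (Subgroup.eq_of_le_of_card_ge
      (hbD ▸ (Subgroup.zpowers_le.mpr h)) (by
        rw [← haC, ← hbD, Nat.card_zpowers, Nat.card_zpowers, ha, hb]))
    have hbb : b * b ∈ C := (Subgroup.mul_mem_iff_of_index_two hCi).mpr Iff.rfl
    rw [← haC, ← mem_powers_iff_mem_zpowers] at hbb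
    obtain ⟨i, hi'⟩ := hbb
    simp only at hi'
    have hconj : b * a * b⁻¹ ∈ C := hCn.conj_mem a (haC ▸ Subgroup.mem_zpowers a) b
    rw [← haC, ← mem_powers_iff_mem_zpowers] at hconj
    obtain ⟨r, hr⟩ := hconj
    simp only at hr
    have ha4 : a ^ 4 = 1 := ha ▸ pow_orderOf_eq_one a
    rw [← pow_mod_orderOf, ha] at hi' hr
    have hoi : orderOf (a ^ (i % 4)) = 2 := by
      rw [hi', ← pow_two, orderOf_pow' _ (by norm_num), hb]
      rfl
    have hi2 : i % 4 = 2 := by
      have : i % 4 < 4 := Nat.mod_lt _ (by norm_num)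
      interval_cases h : i % 4 <;> first
        | rfl
        | simp [orderOf_pow', ha] at hoi
    have hr3 : r % 4 = 3 := by
      have hor : orderOf (a ^ (r % 4)) = 4 := by
        rw [hr, show b * a * b⁻¹ = MulAut.conj b a from rfl, MulEquiv.orderOf_eq, ha]
      have : r % 4 < 4 := Nat.mod_lt _ (by norm_num)
      interval_cases h : r % 4
      · simp at hor
      · exfalso
        rw [pow_one] at hr
        have hcomm : a * b = b * a := by
          calc a * b = b * a * b⁻¹ * b := by rw [← hr]
            _ = b * a := by group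
        apply hna
        have hCle : C ≤ Subgroup.centralizer ({b} : Set P) := by
          rw [← haC, Subgroup.zpowers_le, Subgroup.mem_centralizer_singleton_iff]
          exact hcomm
        have haz : a ∈ Subgroup.center P := Subgroup.mem_center_iff.mpr fun g => by
          by_cases hg : g ∈ C
          · exact congrArg Subtype.val
              (hC.isMulCommutative.is_comm.comm (⟨g, hg⟩ : C) ⟨a, haC ▸ Subgroup.mem_zpowers a⟩)
          · have hgb : g * b ∈ C := (Subgroup.mul_mem_iff_of_index_two hCi).mpr
              ⟨fun h => absurd h hg, fun h => absurd h hbC⟩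
            have h1 : g * b * a = a * (g * b) := congrArg Subtype.val
              (hC.isMulCommutative.is_comm.comm (⟨g * b, hgb⟩ : C) ⟨a, haC ▸ Subgroup.mem_zpowers a⟩)
            calc g * a = g * (b * a) * b⁻¹ * 1 := by rw [← hcomm]; group
              _ = g * b * a * b⁻¹ := by group
              _ = a * g := by rw [h1]; group
        have := Subgroup.orderOf_dvd_natCard _ haz
        rw [hZ, ha] at this
        exact absurd (Nat.le_of_dvd (by norm_num) this) (by norm_num)
      · simp [orderOf_pow', ha] at hor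
      · rfl
    rw [hi2] at hi'
    rw [hr3] at hr
    refine Lib.TwoGroups.Recognition.nonempty_quaternion (m := 2) ha hi'.symm ?_ (haC ▸ hbC) hX
    rw [← hr, eq_inv_iff_mul_eq_one, ← pow_succ, ha4]

end Cfsg.Agent.S4189
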