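import Cfsg.Statements.S4190
import Cfsg.Agent.Lib.SolvClass.ClassLower
import Mathlib.Algebra.Group.TransferInstance

set_option autoImplicit false
open Cfsg

namespace Cfsg.Agent.S4190

/-- Let G be a finite solvable group and p a prime dividing the index of the Fitting subgroup of G. Then the number of conjugacy classes of G is at least p/(3·log₂ p). -/
theorem result {G : Type*} [Group G] [Finite G] (hG : Group.IsSolvable G) (p : ℕ) [Fact p.Prime] (hp : p ∣ (Cfsg.fittingSubgroup G).index) : (p : ℝ) / (3 * Real.logb 2 p) ≤ Nat.card (ConjClasses G) := by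
  obtain ⟨n, ⟨e⟩⟩ := Finite.exists_equiv_fin G
  haveI : Small.{0} G := ⟨⟨Fin n, ⟨e⟩⟩⟩
  let f : Shrink.{0} G ≃* G := Shrink.mulEquiv
  haveI := hG
  haveI : Finite (Shrink.{0} G) := Finite.of_equiv _ f.toEquiv.symm
  haveI : Group.IsSolvable (Shrink.{0} G) :=
    Group.isSolvable_of_isSolvable_injective (f := f.toMonoidHom) f.injective
  have hidx : (Cfsg.fittingSubgroup (Shrink.{0} G)).index = (Cfsg.fittingSubgroup G).index := by
    rw [← Cfsg.Agent.Lib.Cores.map_fittingSubgroup_equiv f]
    exact (Subgroup.index_map_equiv (Cfsg.fittingSubgroup (Shrink.{0} G)) f).symm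
  have h := Cfsg.Agent.Lib.SolvClass.ClassLower.est_class_number p _ (Shrink.{0} G) rfl (hidx ▸ hp)
  rw [Cfsg.Agent.Lib.SolvClass.k_congr f] at h
  exact h

end Cfsg.Agent.S4190
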