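import Cfsg.Statements.S4192
import Cfsg.Agent.Lib.RealGraph56.Structure
-- import your own Cfsg.Agent.* helpers here

set_option autoImplicit false
open Cfsg

namespace Cfsg.Agent.S4192

/-- Let G be a finite group; call an element real when it is conjugate to its inverse, and say that the real-class-size graph of a group is disconnected when the primes dividing its real class sizes split into two non-empty disjoint parts with no real class size divisible by a prime from each part. If the real-class-size graph of G is disconnected, then some real class size of G is even, and either the Sylow 2-subgroups of G are normal, or the subgroup K generated by the 2-elements of G (the smallest normal subgroup of odd index) again has a disconnected real-class-size graph and every real class size of K is odd or a power of 2. -/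
theorem result {G : Type*} [Group G] [Finite G] (h : (∃ π₁ π₂ : Set ℕ, π₁.Nonempty ∧ π₂.Nonempty ∧ Disjoint π₁ π₂ ∧ (∀ q ∈ π₁ ∪ π₂, q.Prime ∧ ∃ n ∈ {n : ℕ | ∃ x : G, IsConj x x⁻¹ ∧ (Subgroup.centralizer ({x} : Set G)).index = n}, q ∣ n) ∧ (∀ q : ℕ, q.Prime → (∃ n ∈ {n : ℕ | ∃ x : G, IsConj x x⁻¹ ∧ (Subgroup.centralizer ({x} : Set G)).index = n}, q ∣ n) → q ∈ π₁ ∨ q ∈ π₂) ∧ ∀ a ∈ π₁, ∀ b ∈ π₂, ∀ n ∈ {n : ℕ | ∃ x : G, IsConj x x⁻¹ ∧ (Subgroup.centralizer ({x} : Set G)).index = n}, ¬ (a ∣ n ∧ b ∣ n))) : (∃ n ∈ {n : ℕ | ∃ x : G, IsConj x x⁻¹ ∧ (Subgroup.centralizer ({x} : Set G)).index = n}, 2 ∣ n) ∧ ((∀ P : Sylow 2 G, (P : Subgroup G).Normal) ∨ ((∃ π₁ π₂ : Set ℕ, π₁.Nonempty ∧ π₂.Nonempty ∧ Disjoint π₁ π₂ ∧ (∀ q ∈ π₁ ∪ π₂, q.Prime ∧ ∃ n ∈ {n : ℕ | ∃ x : ↥(Subgroup.closure {g : G | ∃ k : ℕ, orderOf g = 2 ^ k}), IsConj x x⁻¹ ∧ (Subgroup.centralizer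 ({x} : Set ↥(Subgroup.closure {g : G | ∃ k : ℕ, orderOf g = 2 ^ k}))).index = n}, q ∣ n) ∧ (∀ q : ℕ, q.Prime → (∃ n ∈ {n : ℕ | ∃ x : ↥(Subgroup.closure {g : G | ∃ k : ℕ, orderOf g = 2 ^ k}), IsConj x x⁻¹ ∧ (Subgroup.centralizer ({x} : Set ↥(Subgroup.closure {g : G | ∃ k : ℕ, orderOf g = 2 ^ k}))).index = n}, q ∣ n) → q ∈ π₁ ∨ q ∈ π₂) ∧ ∀ a ∈ π₁, ∀ b ∈ π₂, ∀ n ∈ {n : ℕ | ∃ x : ↥(Subgroup.closure {g : G | ∃ k : ℕ, orderOf g = 2 ^ k}), IsConj x x⁻¹ ∧ (Subgroup.centralizer ({x} : Set ↥(Subgroup.closure {g : G | ∃ k : ℕ, orderOf g = 2 ^ k}))).index = n}, ¬ (a ∣ n ∧ b ∣ n)) ∧ ∀ n ∈ {n : ℕ | ∃ x : ↥(Subgroup.closure {g : G | ∃ k : ℕ, orderOf g = 2 ^ k}), IsConj x x⁻¹ ∧ (Subgroup.centralizer ({x} : Set ↥(Subgroup.closure {g : G | ∃ k : ℕ, orderOf g = 2 ^ k}))).index = n}, Odd n ∨ ∃ j : ℕ, n = 2 ^ j)) := by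
  obtain ⟨π₁, π₂, h₁, h₂, hdisj, hsub', hcover', hnoedge'⟩ := h
  have hcover : ∀ q : ℕ, q.Prime → (∃ y : G, IsConj y y⁻¹ ∧
      q ∣ Lib.RealGraph56.idx y) → q ∈ π₁ ∨ q ∈ π₂ :=
    fun q hq ⟨y, hy, hqy⟩ => hcover' q hq ⟨_, ⟨y, hy, rfl⟩, hqy⟩
  have hsub : ∀ q ∈ π₁ ∪ π₂, q.Prime ∧ ∃ y : G, IsConj y y⁻¹ ∧
      q ∣ Lib.RealGraph56.idx y := fun q hq => by
    obtain ⟨hqp, n, ⟨y, hy, rfl⟩, hqn⟩ := hsub' q hq
    exact ⟨hqp, y, hy, hqn⟩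
  have hnoedge : ∀ a ∈ π₁, ∀ b ∈ π₂, ∀ y : G, IsConj y y⁻¹ →
      ¬ (a ∣ Lib.RealGraph56.idx y ∧ b ∣ Lib.RealGraph56.idx y) :=
    fun a ha b hb y hy => hnoedge' a ha b hb _ ⟨y, hy, rfl⟩
  have hsol := Lib.RealGraph56.isSolvable_of_disconnected π₁ π₂ h₁ h₂ hcover hsub hdisj hnoedge
  obtain ⟨y, hy, hy2⟩ :=
    Lib.RealGraph56.exists_even_idx π₁ π₂ h₁ h₂ hcover hsub hdisj hnoedge
  refine ⟨⟨_, ⟨y, hy, rfl⟩, hy2⟩, ?_⟩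
  obtain ⟨side, S, t, K⟩ : ∃ (side : ℕ → Prop) (_ : Lib.RealGraph56.Side G side) (t : G),
      Lib.RealGraph56.Key side t := by
    by_cases h2 : 2 ∈ π₁
    · have S : Lib.RealGraph56.Side G (· ∈ π₂) := ⟨fun h => Set.disjoint_left.1 hdisj h2 h,
        fun y hy q r _ hr hq hry hs => (hcover r hr ⟨y, hy, hry⟩).resolve_left fun hr1 =>
          hnoedge r hr1 q hs y hy ⟨hry, hq⟩⟩
      obtain ⟨q, hq⟩ := h₂
      obtain ⟨hqp, z, hz, hqz⟩ := hsub q (Or.inr hq)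
      exact ⟨_, S, S.exists_key ⟨z, q, hz, hqp, hqz, hq⟩⟩
    · have S : Lib.RealGraph56.Side G (· ∈ π₁) := ⟨h2,
        fun y hy q r _ hr hq hry hs => (hcover r hr ⟨y, hy, hry⟩).resolve_right fun hr1 =>
          hnoedge q hs r hr1 y hy ⟨hq, hry⟩⟩
      obtain ⟨q, hq⟩ := h₁
      obtain ⟨hqp, z, hz, hqz⟩ := hsub q (Or.inl hq)
      exact ⟨_, S, S.exists_key ⟨z, q, hz, hqp, hqz, hq⟩⟩
  rcases Lib.RealGraph56.structure_twoGen S K hsol with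
    h | ⟨hsizes, ⟨a, ha, ha2⟩, b, r, hb, hr, hr2, hrb⟩
  · exact Or.inl h
  refine Or.inr ⟨⟨{2}, {q | q.Prime ∧ q ≠ 2 ∧ ∃ z : ↥(Lib.RealGraph56.twoGen G),
      IsConj z z⁻¹ ∧ q ∣ Lib.RealGraph56.idx z}, ⟨2, rfl⟩,
      ⟨r, hr, hr2, b, hb, hrb⟩, ?_, ?_, ?_, ?_⟩, ?_⟩
  · rw [Set.disjoint_left]
    rintro q rfl ⟨-, hne, -⟩
    exact hne rfl
  · rintro q (rfl | ⟨hq, -, z, hz, hqz⟩)
    · exact ⟨Nat.prime_two, _, ⟨a, ha, rfl⟩, ha2⟩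
    · exact ⟨hq, _, ⟨z, hz, rfl⟩, hqz⟩
  · rintro q hq ⟨n, ⟨z, hz, rfl⟩, hqz⟩
    by_cases h : q = 2
    · exact Or.inl h
    · exact Or.inr ⟨hq, h, z, hz, hqz⟩
  · rintro q rfl l ⟨hl, hl2, -⟩ n ⟨z, hz, rfl⟩ ⟨hqn, hln⟩
    rcases hsizes z hz with h | ⟨j, hj⟩
    · exact Nat.not_even_iff_odd.2 h (even_iff_two_dvd.2 hqn)
    · exact hl2 ((Nat.prime_dvd_prime_iff_eq hl Nat.prime_two).1
        (hl.dvd_of_dvd_pow (hln.trans (dvd_of_eq hj))))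
  · rintro n ⟨z, hz, rfl⟩
    exact hsizes z hz

end Cfsg.Agent.S4192
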