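import Cfsg.Statements.S4194
import Cfsg.Agent.Lib.CentralTwoElements

set_option autoImplicit false
open Cfsg

namespace Cfsg.Agent.S4194

/-- A finite group G has commutative Sylow 2-subgroups if and only if every 2-element of G (element of order a power of 2) is 2-central, that is, its centralizer contains a Sylow 2-subgroup of G. -/
theorem result {G : Type*} [Group G] [Finite G] (P : Sylow 2 G) :
    IsMulCommutative (P : Subgroup G) ↔ ∀ x : G, (∃ k : ℕ, orderOf x = 2 ^ k) → (∃ Q : Sylow 2 G, (Q : Subgroup G) ≤ Subgroup.centralizer ({x} : Set G)) := by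
  have : Fact (Nat.Prime 2) := ⟨Nat.prime_two⟩
  refine ⟨fun hP x hx => ?_, fun h => Cfsg.Agent.Lib.CentralTwoElements.isMulCommutative h P⟩
  obtain ⟨k, hk⟩ := hx
  have hp : IsPGroup 2 (Subgroup.zpowers x) := IsPGroup.of_card (by rw [Nat.card_zpowers, hk])
  obtain ⟨Q, hQ⟩ := hp.exists_le_sylow
  obtain ⟨g, rfl⟩ := MulAction.exists_smul_eq G P Q
  refine ⟨g • P, fun y hy => ?_⟩
  obtain ⟨a, ha, rfl⟩ := Subgroup.mem_map.1 hy
  obtain ⟨b, hb, hxb⟩ := Subgroup.mem_map.1 (hQ (Subgroup.mem_zpowers x))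
  rw [Subgroup.mem_centralizer_singleton_iff, ← hxb]
  have hab : a * b = b * a := congrArg Subtype.val (hP.is_comm.comm ⟨a, ha⟩ ⟨b, hb⟩)
  show g * a * g⁻¹ * (g * b * g⁻¹) = g * b * g⁻¹ * (g * a * g⁻¹)
  calc g * a * g⁻¹ * (g * b * g⁻¹) = g * (a * b) * g⁻¹ := by group
    _ = g * b * g⁻¹ * (g * a * g⁻¹) := by rw [hab]; group

end Cfsg.Agent.S4194
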