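import Cfsg.Statements.S4195
-- import your own Cfsg.Agent.* helpers here

set_option autoImplicit false
open Cfsg

namespace Cfsg.Agent.S4195

lemma exists_inverting_two_element {G : Type*} [Group G] [Finite G] (x : G) (hreal : IsConj x x⁻¹) :
    ∃ t : G, (∃ k : ℕ, orderOf t = 2 ^ k) ∧ t * x * t⁻¹ = x⁻¹ := by
  obtain ⟨g, hg⟩ := isConj_iff.1 hreal
  obtain ⟨k, m, hm, hkm⟩ := Nat.exists_eq_two_pow_mul_odd (n := orderOf g) (orderOf_pos g).ne'
  have hg2 : Commute (g ^ 2) x := by
    have h2 : g * x⁻¹ * g⁻¹ = x := by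
      have := congrArg (fun y => y⁻¹) hg
      simpa [mul_assoc] using this
    change g ^ 2 * x = x * g ^ 2
    calc g ^ 2 * x = g * (g * x * g⁻¹) * g := by rw [sq]; group
      _ = (g * x⁻¹ * g⁻¹) * g ^ 2 := by rw [hg, sq]; group
      _ = x * g ^ 2 := by rw [h2]
  refine ⟨g ^ m, ⟨k, ?_⟩, ?_⟩
  · rw [orderOf_pow, hkm, Nat.gcd_mul_left_left, Nat.mul_div_cancel _ hm.pos]
  · obtain ⟨j, rfl⟩ := hm
    have hc : Commute ((g ^ 2) ^ j) x := hg2.pow_left j
    rw [pow_succ', pow_mul]
    calc g * (g ^ 2) ^ j * x * (g * (g ^ 2) ^ j)⁻¹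
        = g * ((g ^ 2) ^ j * x) * ((g ^ 2) ^ j)⁻¹ * g⁻¹ := by group
      _ = g * (x * (g ^ 2) ^ j) * ((g ^ 2) ^ j)⁻¹ * g⁻¹ := by rw [hc.eq]
      _ = x⁻¹ := by rw [← hg]; group

/-- Let x be a non-identity element of a finite group G whose centralizer contains a Sylow 2-subgroup of G. If x is conjugate to its inverse, then x has order 2. -/
theorem result {G : Type*} [Group G] [Finite G] (x : G) (hx : x ≠ 1) (P : Sylow 2 G) (hP : (P : Subgroup G) ≤ Subgroup.centralizer ({x} : Set G)) (hreal : IsConj x x⁻¹) : orderOf x = 2 := by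
  obtain ⟨t, ⟨k, hk⟩, ht⟩ := exists_inverting_two_element x hreal
  set C := Subgroup.centralizer ({x} : Set G) with hC
  have hmem : ∀ y, y ∈ C ↔ Commute y x := fun y => Subgroup.mem_centralizer_singleton_iff
  -- `t` normalizes `C`; adjoin it and compare 2-parts
  have htN : t ∈ Subgroup.normalizer (C : Set G) := by
    rw [Subgroup.mem_normalizer_iff]
    intro y
    rw [hmem, hmem]
    have hx' : x = t * x⁻¹ * t⁻¹ := by
      have := congrArg (fun y => y⁻¹) ht
      simpa [mul_assoc] using this.symm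
    constructor
    · intro hy
      have := (hy.inv_right).conj t
      rwa [← hx'] at this
    · intro hy
      have h1 : Commute (t * y * t⁻¹) (t * x * t⁻¹) := by rw [ht]; exact hy.inv_right
      exact (Commute.conj_iff t).1 h1
  set N := Subgroup.normalizer (C : Set G)
  haveI : (C.subgroupOf N).Normal := Subgroup.normal_subgroupOf_of_le_normalizer le_rfl
  let q : N →* N ⧸ C.subgroupOf N := QuotientGroup.mk' _
  have hord : orderOf (q ⟨t, htN⟩) ∣ 2 ^ k := by
    rw [← hk, ← Subgroup.orderOf_mk t htN]; exact orderOf_map_dvd _ _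
  have hidx : orderOf (q ⟨t, htN⟩) ∣ P.index := by
    refine (orderOf_dvd_natCard _).trans ?_
    refine dvd_trans ?_ (Subgroup.index_dvd_of_le hP)
    exact ⟨N.index, (Subgroup.relIndex_mul_index Subgroup.le_normalizer).symm⟩
  have hcop : Nat.Coprime (2 ^ k) P.index :=
    Nat.Coprime.pow_left _ ((Nat.prime_two.coprime_iff_not_dvd).2 P.not_dvd_index)
  have h1 : orderOf (q ⟨t, htN⟩) = 1 := Nat.eq_one_of_dvd_coprimes hcop hord hidx
  rw [orderOf_eq_one_iff, QuotientGroup.mk'_apply, QuotientGroup.eq_one_iff, Subgroup.mem_subgroupOf,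
    hmem] at h1
  have : x = x⁻¹ := by
    conv_rhs => rw [← ht]
    rw [h1.eq, mul_inv_cancel_right]
  rw [orderOf_eq_prime_iff]
  exact ⟨by rw [sq]; nth_rw 2 [this]; exact mul_inv_cancel x, hx⟩

end Cfsg.Agent.S4195
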