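import Cfsg.Statements.S4196
import Cfsg.Agent.S4195

set_option autoImplicit false
open Cfsg

namespace Cfsg.Agent.S4196

/-- A finite group G has elementary abelian Sylow 2-subgroups (commutative with every element squaring to the identity) if and only if every 2-element of G has a Sylow 2-subgroup in its centralizer and is conjugate to its inverse. -/
theorem result {G : Type*} [Group G] [Finite G] (P : Sylow 2 G) :
    (IsMulCommutative (P : Subgroup G) ∧ ∀ x ∈ (P : Subgroup G), x ^ 2 = 1) ↔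
      ∀ x : G, (∃ k : ℕ, orderOf x = 2 ^ k) → (∃ Q : Sylow 2 G, (Q : Subgroup G) ≤ Subgroup.centralizer ({x} : Set G)) ∧ IsConj x x⁻¹ := by
  constructor
  · rintro ⟨hc, he⟩ x ⟨k, hk⟩
    have hp : IsPGroup 2 (Subgroup.zpowers x) := IsPGroup.of_card (n := k) (by rw [Nat.card_zpowers, hk])
    obtain ⟨Q, hQ⟩ := hp.exists_le_sylow
    have hxQ : x ∈ (Q : Subgroup G) := hQ (Subgroup.mem_zpowers x)
    let e := P.equiv Q
    haveI := hc
    have hcQ : IsMulCommutative (Q : Subgroup G) :=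
      ⟨⟨fun a b => e.symm.injective (by simp only [map_mul]; exact mul_comm' _ _)⟩⟩
    have h2 : x ^ 2 = 1 := by
      have h3 : ((e.symm ⟨x, hxQ⟩ : (P : Subgroup G)) : G) ^ 2 = 1 := he _ (e.symm ⟨x, hxQ⟩).2
      have h4 : (e.symm ⟨x, hxQ⟩) ^ 2 = 1 := Subtype.ext (by simpa using h3)
      rw [← map_pow, map_eq_one_iff _ e.symm.injective] at h4
      simpa using congrArg Subtype.val h4
    refine ⟨⟨Q, fun y hy => ?_⟩, ?_⟩
    · rw [Subgroup.mem_centralizer_singleton_iff]
      haveI := hcQ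
      exact congrArg Subtype.val (mul_comm' (⟨y, hy⟩ : (Q : Subgroup G)) ⟨x, hxQ⟩)
    · have : x⁻¹ = x := inv_eq_of_mul_eq_one_right (by rw [← sq, h2])
      rw [this]
  · intro h
    have he : ∀ x ∈ (P : Subgroup G), x ^ 2 = 1 := by
      intro x hx
      by_cases h1 : x = 1
      · simp [h1]
      obtain ⟨k, hk⟩ := IsPGroup.iff_orderOf.1 P.2 ⟨x, hx⟩
      rw [Subgroup.orderOf_mk] at hk
      obtain ⟨⟨Q, hQ⟩, hr⟩ := h x ⟨k, hk⟩
      rw [← Cfsg.Agent.S4195.result x h1 Q hQ hr]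
      exact pow_orderOf_eq_one x
    refine ⟨⟨⟨fun a b => ?_⟩⟩, he⟩
    have h2 : ∀ z : (P : Subgroup G), z⁻¹ = z := fun z =>
      inv_eq_of_mul_eq_one_right (Subtype.ext (by
        rw [Subgroup.coe_mul, ← sq, he _ z.2, Subgroup.coe_one]))
    calc a * b = (a * b)⁻¹ := (h2 _).symm
      _ = b * a := by rw [mul_inv_rev, h2, h2]

end Cfsg.Agent.S4196
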