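import Cfsg.Statements.S4198
import Mathlib.GroupTheory.SpecificGroups.Alternating.Centralizer
import Mathlib.Combinatorics.Enumerative.Partition.Basic

set_option autoImplicit false
open Cfsg

namespace Cfsg.Agent.S4198

open Equiv Equiv.Perm

lemma card_partition_succ (n : ℕ) : Nat.card (Nat.Partition (n + 1)) ≤ 2 * Nat.card (Nat.Partition n) := by
  classical
  have hex : ∀ q : Nat.Partition (n + 1), ∃ a, a ∈ q.parts ∧ ∀ b ∈ q.parts, a ≤ b := by
    intro q
    have hne : q.parts.toFinset.Nonempty := by
      rw [Multiset.toFinset_nonempty]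
      intro h
      simpa [h] using q.parts_sum
    exact ⟨_, Multiset.mem_toFinset.1 (Finset.min'_mem _ hne),
      fun b hb => Finset.min'_le _ b (Multiset.mem_toFinset.2 hb)⟩
  choose a ha hmin using hex
  have key : ∀ q, ∃ r : Nat.Partition n,
      (a q = 1 ∧ q.parts = 1 ::ₘ r.parts) ∨
      (2 ≤ a q ∧ r.parts = (a q - 1) ::ₘ q.parts.erase (a q)) := by
    intro q
    have hs : a q + (q.parts.erase (a q)).sum = n + 1 := by
      rw [← Multiset.sum_cons, Multiset.cons_erase (ha q), q.parts_sum]
    have hpos := q.parts_pos (ha q)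
    by_cases h1 : a q = 1
    · refine ⟨⟨q.parts.erase (a q), fun hi => q.parts_pos (Multiset.mem_of_mem_erase hi), by omega⟩, Or.inl ⟨h1, ?_⟩⟩
      show q.parts = 1 ::ₘ q.parts.erase (a q)
      conv_lhs => rw [← Multiset.cons_erase (ha q), h1]
      rw [h1]
    · refine ⟨⟨(a q - 1) ::ₘ q.parts.erase (a q), fun hi => ?_, by rw [Multiset.sum_cons]; omega⟩,
        Or.inr ⟨by omega, rfl⟩⟩
      rcases Multiset.mem_cons.1 hi with rfl | h
      · omega
      · exact q.parts_pos (Multiset.mem_of_mem_erase h)
  choose r hr using key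
  have : Nat.card (Nat.Partition (n + 1)) ≤ Nat.card (Bool × Nat.Partition n) := by
    refine Nat.card_le_card_of_injective (fun q => (decide (a q = 1), r q)) fun q q' h => ?_
    obtain ⟨h1, h2⟩ := Prod.mk.inj h
    apply Nat.Partition.ext
    rcases hr q with ⟨e, hq⟩ | ⟨e, hq⟩ <;> rcases hr q' with ⟨e', hq'⟩ | ⟨e', hq'⟩
    · rw [hq, hq', h2]
    · rw [decide_eq_decide] at h1; omega
    · rw [decide_eq_decide] at h1; omega
    · rw [← h2] at hq'
      have hm : ∀ b ∈ (r q).parts, a q - 1 ≤ b := by
        intro b hb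
        rw [hq, Multiset.mem_cons] at hb
        rcases hb with rfl | hb
        · exact le_rfl
        · exact (Nat.sub_le _ _).trans (hmin q b (Multiset.mem_of_mem_erase hb))
      have hm' : ∀ b ∈ (r q).parts, a q' - 1 ≤ b := by
        intro b hb
        rw [hq', Multiset.mem_cons] at hb
        rcases hb with rfl | hb
        · exact le_rfl
        · exact (Nat.sub_le _ _).trans (hmin q' b (Multiset.mem_of_mem_erase hb))
      have e1 := hm (a q' - 1) (hq' ▸ Multiset.mem_cons_self _ _)
      have e2 := hm' (a q - 1) (hq ▸ Multiset.mem_cons_self _ _)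
      have hab : a q = a q' := by omega
      rw [hq, hab, Multiset.cons_inj_right] at hq'
      rw [← Multiset.cons_erase (ha q), ← Multiset.cons_erase (ha q'), hab, hq']
  simpa using this

lemma card_partition_five : Nat.card (Nat.Partition 5) ≤ 7 := by
  classical
  have hsum : ∀ q : Nat.Partition 5, q.parts.count 1 + 2 * q.parts.count 2 + 3 * q.parts.count 3 +
      4 * q.parts.count 4 + 5 * q.parts.count 5 = 5 := by
    intro q
    have h := Finset.sum_multiset_count_of_subset q.parts ({1, 2, 3, 4, 5} : Finset ℕ) (fun b hb => by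
      have h1 := q.parts_pos (Multiset.mem_toFinset.1 hb)
      have h2 := Nat.Partition.le_of_mem_parts (Multiset.mem_toFinset.1 hb)
      simp only [Finset.mem_insert, Finset.mem_singleton]; omega)
    rw [q.parts_sum] at h
    simp at h
    omega
  let e : Nat.Partition 5 → {x : Fin 3 × Fin 2 × Fin 2 × Fin 2 // 2 * x.1.1 + 3 * x.2.1.1 + 4 * x.2.2.1.1 + 5 * x.2.2.2.1 ≤ 5} :=
    fun q => ⟨(⟨q.parts.count 2, by have := hsum q; omega⟩, ⟨q.parts.count 3, by have := hsum q; omega⟩,
      ⟨q.parts.count 4, by have := hsum q; omega⟩, ⟨q.parts.count 5, by have := hsum q; omega⟩),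
      by have := hsum q; show 2 * q.parts.count 2 + 3 * q.parts.count 3 + 4 * q.parts.count 4 + 5 * q.parts.count 5 ≤ 5; omega⟩
  refine (Nat.card_le_card_of_injective e fun q q' h => ?_).trans (le_of_eq ?_)
  · simp only [e, Subtype.mk.injEq, Prod.mk.injEq, Fin.mk.injEq] at h
    have h1 := hsum q
    have h2 := hsum q'
    apply Nat.Partition.ext
    refine Multiset.ext.2 fun b => ?_
    by_cases hb : b = 0 ∨ 5 < b
    · rw [Multiset.count_eq_zero.2, Multiset.count_eq_zero.2] <;>
      · intro hm
        have := Nat.Partition.le_of_mem_parts hm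
        first
          | (have := q.parts_pos hm; omega)
          | (have := q'.parts_pos hm; omega)
    · rcases (show b = 1 ∨ b = 2 ∨ b = 3 ∨ b = 4 ∨ b = 5 by omega) with rfl | rfl | rfl | rfl | rfl <;> omega
  · rw [Nat.card_eq_fintype_card]; decide

lemma card_partition_le : ∀ n, 5 ≤ n → Nat.card (Nat.Partition n) ≤ 2 ^ (n - 2) := by
  intro n hn
  induction n, hn using Nat.le_induction with
  | base => exact card_partition_five.trans (by norm_num)
  | succ n hn ih =>
    refine (card_partition_succ n).trans ?_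
    rw [show n + 1 - 2 = n - 2 + 1 by omega, pow_succ']
    exact Nat.mul_le_mul_left 2 ih

variable {n : ℕ}

lemma card_conjClasses_perm_le :
    Nat.card (ConjClasses (Perm (Fin n))) ≤ Nat.card (Nat.Partition n) := by
  let f : ConjClasses (Perm (Fin n)) → Nat.Partition (Fintype.card (Fin n)) :=
    Quotient.lift (fun σ : Perm (Fin n) => σ.partition) fun σ τ h => partition_eq_of_isConj.1 h
  calc Nat.card (ConjClasses (Perm (Fin n))) ≤ Nat.card (Nat.Partition (Fintype.card (Fin n))) := by
        refine Nat.card_le_card_of_injective f ?_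
        intro a b
        induction a using Quotient.inductionOn with | h σ => ?_
        induction b using Quotient.inductionOn with | h τ => ?_
        intro h
        exact Quotient.sound (partition_eq_of_isConj.2 h)
    _ = _ := by rw [Fintype.card_fin]

/-- Among three elements of `A_n` conjugate in `S_n`, two are conjugate in `A_n`. -/
lemma two_of_three (x y z : alternatingGroup (Fin n)) (h1 : IsConj (x : Perm (Fin n)) y)
    (h2 : IsConj (x : Perm (Fin n)) z) : IsConj x y ∨ IsConj x z ∨ IsConj y z := by
  obtain ⟨g, hg⟩ := isConj_iff.1 h1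
  obtain ⟨h, hh⟩ := isConj_iff.1 h2
  rcases Int.units_eq_one_or (sign g) with sg | sg
  · exact Or.inl (isConj_iff.2 ⟨⟨g, sg⟩, Subtype.ext hg⟩)
  rcases Int.units_eq_one_or (sign h) with sh | sh
  · exact Or.inr (Or.inl (isConj_iff.2 ⟨⟨h, sh⟩, Subtype.ext hh⟩))
  refine Or.inr (Or.inr (isConj_iff.2 ⟨⟨h * g⁻¹, ?_⟩, Subtype.ext ?_⟩))
  · rw [mem_alternatingGroup, map_mul, sign_inv, sg, sh]; rfl
  · show h * g⁻¹ * y * (h * g⁻¹)⁻¹ = z
    rw [← hg, ← hh]; group

lemma card_conjClasses_lt (hn : 5 ≤ n) :
    Nat.card (ConjClasses (alternatingGroup (Fin n))) < Nat.card (ConjClasses (Perm (Fin n))) := by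
  classical
  let ι : ConjClasses (alternatingGroup (Fin n)) → ConjClasses (Perm (Fin n)) :=
    ConjClasses.map (alternatingGroup (Fin n)).subtype
  let r : ConjClasses (alternatingGroup (Fin n)) → ConjClasses (alternatingGroup (Fin n)) :=
    fun C => (⟨C, rfl⟩ : ∃ D, ι D = ι C).choose
  have hr : ∀ C, ι (r C) = ι C := fun C => (⟨C, rfl⟩ : ∃ D, ι D = ι C).choose_spec
  have hr' : ∀ C D, ι C = ι D → r C = r D := by intro C D h; simp only [r, h]
  -- a non-chosen class has all cycles odd and of distinct lengths
  have hsplit : ∀ C, C ≠ r C → ∀ σ, ι C = ConjClasses.mk σ →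
      (∀ c ∈ σ.cycleType, Odd c ∧ 3 ≤ c) ∧ n ≤ σ.cycleType.sum + 1 ∧ σ.cycleType.Nodup := by
    intro C hC σ hσ
    obtain ⟨x, rfl⟩ := ConjClasses.mk_surjective C
    obtain ⟨y, hy⟩ := ConjClasses.mk_surjective (r (ConjClasses.mk x))
    have hxy : IsConj (x : Perm (Fin n)) y := ConjClasses.mk_eq_mk_iff_isConj.1 (by
      have := hr (ConjClasses.mk x)
      rw [← hy] at this
      exact this.symm)
    have hct : σ.cycleType = (x : Perm (Fin n)).cycleType :=
      (isConj_iff_cycleType_eq.1 (ConjClasses.mk_eq_mk_iff_isConj.1 hσ)).symm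
    have hle : Subgroup.centralizer {(x : Perm (Fin n))} ≤ alternatingGroup (Fin n) := by
      intro c hc
      by_contra hcA
      apply hC
      rw [← hy, ConjClasses.mk_eq_mk_iff_isConj]
      obtain ⟨g, hg⟩ := isConj_iff.1 hxy
      rcases Int.units_eq_one_or (sign g) with sg | sg
      · exact isConj_iff.2 ⟨⟨g, sg⟩, Subtype.ext hg⟩
      · refine isConj_iff.2 ⟨⟨g * c, ?_⟩, Subtype.ext ?_⟩
        · rw [mem_alternatingGroup, map_mul, sg]
          rw [mem_alternatingGroup] at hcA
          rcases Int.units_eq_one_or (sign c) with sc | sc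
          · exact absurd sc hcA
          · rw [sc]; rfl
        · show g * c * x * (g * c)⁻¹ = y
          have := (Subgroup.mem_centralizer_singleton_iff.1 hc)
          rw [mul_assoc g c, this, ← hg]; group
    obtain ⟨h1, h2, h3⟩ := centralizer_le_alternating_iff.1 hle
    rw [hct]
    refine ⟨fun c hc => ⟨h1 c hc, ?_⟩, by simpa using h2, Multiset.nodup_iff_count_le_one.2 h3⟩
    have := two_le_of_mem_cycleType hc
    obtain ⟨k, hk⟩ := h1 c hc
    omega
  let a : Multiset ℕ → ℕ := fun m => if h : ∃ a, a ∈ m then h.choose else 0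
  let T : Multiset ℕ → Multiset ℕ := fun m => (a m - 1) ::ₘ m.erase (a m)
  let ct : ConjClasses (Perm (Fin n)) → Multiset ℕ :=
    Quotient.lift cycleType fun σ τ h => isConj_iff_cycleType_eq.1 h
  have hct : ∀ C, C ≠ r C → (∀ c ∈ ct (ι C), Odd c ∧ 3 ≤ c) ∧ n ≤ (ct (ι C)).sum + 1 ∧ a (ct (ι C)) ∈ ct (ι C) ∧
      (ct (ι C)).sum ≤ n := by
    intro C hC
    obtain ⟨σ, hσ⟩ := ConjClasses.mk_surjective (ι C)
    obtain ⟨h1, h2, -⟩ := hsplit C hC σ hσ.symm
    rw [← hσ]
    have hs : σ.cycleType.sum ≤ n := by
      rw [sum_cycleType]; simpa using σ.support.card_le_univ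
    have hex : ∃ a, a ∈ σ.cycleType := by
      refine Multiset.exists_mem_of_ne_zero fun h => ?_
      rw [h, Multiset.sum_zero] at h2
      omega
    refine ⟨h1, h2, ?_, hs⟩
    show (if h : ∃ a, a ∈ σ.cycleType then h.choose else 0) ∈ σ.cycleType
    rw [dif_pos hex]; exact hex.choose_spec
  have hper : ∀ C, C ≠ r C → ∃ σ : Perm (Fin n), σ.cycleType = T (ct (ι C)) := by
    intro C hC
    obtain ⟨h1, -, h3, h4⟩ := hct C hC
    rw [exists_with_cycleType_iff]
    constructor
    · have := Multiset.sum_cons (a (ct (ι C))) ((ct (ι C)).erase (a (ct (ι C))))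
      rw [Multiset.cons_erase h3] at this
      simp only [T, Multiset.sum_cons, Fintype.card_fin]
      omega
    · intro b hb
      rcases Multiset.mem_cons.1 hb with rfl | hb
      · have := (h1 _ h3).2; omega
      · have := (h1 _ (Multiset.mem_of_mem_erase hb)).2; omega
  let F : ConjClasses (alternatingGroup (Fin n)) → ConjClasses (Perm (Fin n)) := fun C =>
    if h : C = r C then ι C else ConjClasses.mk (hper C h).choose
  have hFt : ∀ C, C ≠ r C → ct (F C) = T (ct (ι C)) := by
    intro C h
    simp only [F, dif_neg h]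
    exact (hper C h).choose_spec
  have hodd : ∀ C, C ≠ r C → ∀ D, F C ≠ ι D := by
    intro C hC D hD
    obtain ⟨h1, -, h3, -⟩ := hct C hC
    obtain ⟨x, rfl⟩ := ConjClasses.mk_surjective D
    have hx : (x : Perm (Fin n)).cycleType = T (ct (ι C)) := by
      rw [← hFt C hC, hD]; rfl
    have hev : ∀ m : Multiset ℕ, (∀ c ∈ m, Odd c) → Even (m.sum + Multiset.card m) := by
      intro m
      induction m using Multiset.induction_on with
      | empty => simp
      | cons b m ih =>
        intro h
        obtain ⟨k, hk⟩ := h b (Multiset.mem_cons_self _ _)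
        obtain ⟨l, hl⟩ := ih fun c hc => h c (Multiset.mem_cons_of_mem hc)
        exact ⟨k + l + 1, by rw [Multiset.sum_cons, Multiset.card_cons]; omega⟩
    obtain ⟨l, hl⟩ := hev ((ct (ι C)).erase (a (ct (ι C)))) fun c hc => (h1 c (Multiset.mem_of_mem_erase hc)).1
    obtain ⟨k, hk⟩ := (h1 _ h3).1
    have he := x.2
    rw [mem_alternatingGroup, sign_of_cycleType, hx, Multiset.sum_cons, Multiset.card_cons] at he
    rw [Units.ext_iff, Units.val_pow_eq_pow_val, Units.val_neg, Units.val_one, neg_one_pow_eq_one_iff_even (by decide)] at he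
    obtain ⟨j, hj⟩ := he
    omega
  have hrec : ∀ C D, C ≠ r C → D ≠ r D → T (ct (ι C)) = T (ct (ι D)) → ct (ι C) = ct (ι D) := by
    intro C D hC hD h
    obtain ⟨h1, -, h3, -⟩ := hct C hC
    obtain ⟨g1, -, g3, -⟩ := hct D hD
    have hmem : a (ct (ι C)) - 1 ∈ T (ct (ι D)) := h ▸ Multiset.mem_cons_self _ _
    have hab : a (ct (ι C)) - 1 = a (ct (ι D)) - 1 := by
      rcases Multiset.mem_cons.1 hmem with e | e
      · exact e
      · obtain ⟨k, hk⟩ := (g1 _ (Multiset.mem_of_mem_erase e)).1
        obtain ⟨j, hj⟩ := (h1 _ h3).1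
        omega
    have hab' : a (ct (ι C)) = a (ct (ι D)) := by have := (h1 _ h3).2; omega
    simp only [T, hab', Multiset.cons_inj_right] at h
    rw [← Multiset.cons_erase h3, ← Multiset.cons_erase g3, hab', h]
  have hinj : Function.Injective F := by
    intro C D h
    by_cases hC : C = r C <;> by_cases hD : D = r D
    · simp only [F, dif_pos hC, dif_pos hD] at h
      rw [hC, hD]; exact hr' C D h
    · refine absurd h.symm ?_
      have := hodd D hD C
      simpa [F, dif_pos hC] using this
    · refine absurd h ?_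
      have := hodd C hC D
      simpa [F, dif_pos hD] using this
    · have h' : ι C = ι D := by
        have := hrec C D hC hD (by rw [← hFt C hC, ← hFt D hD, h])
        revert this
        induction ι C using Quotient.inductionOn with | h σ => ?_
        induction ι D using Quotient.inductionOn with | h τ => ?_
        intro this
        exact Quotient.sound (isConj_iff_cycleType_eq.2 this)
      obtain ⟨x, hx⟩ := ConjClasses.mk_surjective C
      obtain ⟨y, hy⟩ := ConjClasses.mk_surjective D
      obtain ⟨z, hz⟩ := ConjClasses.mk_surjective (r C)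
      have h1 : IsConj (x : Perm (Fin n)) y := ConjClasses.mk_eq_mk_iff_isConj.1 (by
        subst hx hy; exact h')
      have h2 : IsConj (x : Perm (Fin n)) z := ConjClasses.mk_eq_mk_iff_isConj.1 (by
        have := hr C
        rw [← hz] at this
        subst hx; exact this.symm)
      rcases two_of_three x y z h1 h2 with e | e | e
      · rw [← hx, ← hy]; exact ConjClasses.mk_eq_mk_iff_isConj.2 e
      · exact absurd (by rw [← hz, ← hx]; exact ConjClasses.mk_eq_mk_iff_isConj.2 e) hC
      · exact absurd (by rw [← hr' C D h', ← hz, ← hy]; exact ConjClasses.mk_eq_mk_iff_isConj.2 e) hD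
  -- the class of a transposition is missed
  obtain ⟨t, ht⟩ : ∃ t : Perm (Fin n), t.cycleType = {2} := by
    rw [exists_with_cycleType_iff]
    refine ⟨by simp; omega, by simp⟩
  have := Fintype.ofFinite (ConjClasses (alternatingGroup (Fin n)))
  have := Fintype.ofFinite (ConjClasses (Perm (Fin n)))
  rw [Nat.card_eq_fintype_card, Nat.card_eq_fintype_card]
  refine Fintype.card_lt_of_injective_of_notMem F hinj (b := ConjClasses.mk t) ?_
  rintro ⟨C, hC⟩
  by_cases h : C = r C
  · obtain ⟨x, rfl⟩ := ConjClasses.mk_surjective C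
    simp only [F, dif_pos h] at hC
    have := x.2
    have e : (x : Perm (Fin n)).cycleType = t.cycleType :=
      isConj_iff_cycleType_eq.1 (ConjClasses.mk_eq_mk_iff_isConj.1 hC)
    rw [mem_alternatingGroup, sign_of_cycleType, e, ht] at this
    exact absurd this (by decide)
  · obtain ⟨h1, h2, h3, -⟩ := hct C h
    have e := hFt C h
    rw [hC] at e
    have e' : t.cycleType = T (ct (ι C)) := e
    rw [ht] at e'
    have hs := Multiset.sum_cons (a (ct (ι C))) ((ct (ι C)).erase (a (ct (ι C))))
    rw [Multiset.cons_erase h3] at hs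
    have e'' := congrArg Multiset.sum e'
    simp only [T, Multiset.sum_singleton, Multiset.sum_cons] at e''
    have := (h1 _ h3).2
    omega

/-- For n ≥ 5 the alternating group of degree n has strictly fewer conjugacy classes than the symmetric group of degree n, and the symmetric group of degree n (whose classes correspond to the partitions of n) has at most 2^(n−2) conjugacy classes. -/
theorem result (n : ℕ) (hn : 5 ≤ n) : Nat.card (ConjClasses (alternatingGroup (Fin n))) < Nat.card (ConjClasses (Equiv.Perm (Fin n))) ∧ Nat.card (ConjClasses (Equiv.Perm (Fin n))) ≤ 2 ^ (n - 2) := by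
  exact ⟨card_conjClasses_lt hn, card_conjClasses_perm_le.trans (card_partition_le n hn)⟩

end Cfsg.Agent.S4198
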