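import Cfsg.Statements.S4200
import Mathlib.GroupTheory.GroupAction.CardCommute
import Mathlib.GroupTheory.Coset.Card
import Mathlib.Algebra.Order.BigOperators.Group.Finset
import Mathlib.Algebra.BigOperators.Ring.Finset
import Mathlib.Data.Nat.Cast.Order.Ring
import Mathlib.Tactic.Group
import Mathlib.Tactic.Ring

set_option autoImplicit false
open Cfsg

namespace Cfsg.Agent.S4200

variable {X : Type*} [Group X] [Finite X]

lemma card_comm_pairs (M : Type*) [Group M] [Fintype M] :
    Nat.card { p : M × M // Commute p.1 p.2 } = ∑ g : M, Nat.card {h : M // Commute h g} := by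
  classical
  rw [← Nat.card_sigma]
  exact Nat.card_congr
    { toFun := fun p => ⟨p.1.2, p.1.1, p.2⟩
      invFun := fun s => ⟨(s.2.1, s.1), s.2.2⟩
      left_inv := fun _ => rfl
      right_inv := fun _ => rfl }

lemma sum_subgroup_le [Fintype X] (Y : Subgroup X) [Fintype Y] (f : X → ℕ) :
    ∑ h : Y, f h ≤ ∑ g : X, f g := by
  classical
  refine (le_of_eq ?_).trans
    (Finset.sum_le_sum_of_subset (Finset.subset_univ ((Finset.univ : Finset Y).map ⟨Subtype.val, Subtype.val_injective⟩)))
  rw [Finset.sum_map]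
  rfl

/-- `|C_X(g)| ≤ [X:Y] |C_Y(g)|`, with strictness when `Y C_X(g) ≠ X`. -/
lemma cent_le (Y : Subgroup X) (g : X) :
    Nat.card {h : X // Commute h g} ≤ Y.index * Nat.card {h : Y // Commute (h : X) g} ∧
    (Nat.card {h : X // Commute h g} = Y.index * Nat.card {h : Y // Commute (h : X) g} →
      ∀ y : X, ∃ k ∈ Y, Commute (k⁻¹ * y) g) := by
  let C := Subgroup.centralizer ({g} : Set X)
  have hmem : ∀ h, h ∈ C ↔ Commute h g := fun h => Subgroup.mem_centralizer_singleton_iff
  have e1 : Nat.card {h : X // Commute h g} = Nat.card C :=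
    Nat.card_congr (Equiv.subtypeEquivRight fun h => (hmem h).symm)
  have e2 : Nat.card {h : Y // Commute (h : X) g} = Nat.card (Y.subgroupOf C) :=
    Nat.card_congr
      { toFun := fun h => ⟨⟨(h.1 : X), (hmem _).2 h.2⟩, h.1.2⟩
        invFun := fun h => ⟨⟨(h.1 : X), h.2⟩, (hmem _).1 h.1.2⟩
        left_inv := fun _ => rfl
        right_inv := fun _ => rfl }
  rw [e1, e2, ← (Y.subgroupOf C).card_mul_index, mul_comm Y.index]
  have hinj : Function.Injective (fun q : C ⧸ Y.subgroupOf C =>
      Quotient.map' (Subtype.val : C → X) (fun a b hab => by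
        rw [QuotientGroup.leftRel_apply] at hab ⊢
        simpa [Subgroup.mem_subgroupOf] using hab) q : C ⧸ Y.subgroupOf C → X ⧸ Y) := by
    intro a b
    induction a using QuotientGroup.induction_on with | H a => ?_
    induction b using QuotientGroup.induction_on with | H b => ?_
    intro hab
    exact QuotientGroup.eq.2 (by simpa [Subgroup.mem_subgroupOf] using QuotientGroup.eq.1 hab)
  refine ⟨Nat.mul_le_mul_left _ (Nat.card_le_card_of_injective _ hinj), fun he y => ?_⟩
  have hcard : Nat.card (C ⧸ Y.subgroupOf C) = Nat.card (X ⧸ Y) :=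
    Nat.eq_of_mul_eq_mul_left Nat.card_pos he
  obtain ⟨q, hq⟩ := (hinj.bijective_of_nat_card_le hcard.ge).2 (QuotientGroup.mk (y⁻¹ : X))
  induction q using QuotientGroup.induction_on with | H c => ?_
  have hk : ((c : X))⁻¹ * y⁻¹ ∈ Y := QuotientGroup.eq.1 hq
  refine ⟨((c : X)⁻¹ * y⁻¹)⁻¹, Y.inv_mem hk, ?_⟩
  have := ((hmem _).1 c.2)
  simpa [mul_assoc] using this

lemma sum_centralizer_eq [Fintype X] (Y : Subgroup X) [Fintype Y] :
    ∑ g : X, Nat.card {h : Y // Commute (h : X) g} = ∑ h : Y, Nat.card {g : X // Commute g (h : X)} := by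
  classical
  rw [← Nat.card_sigma, ← Nat.card_sigma]
  exact Nat.card_congr
    { toFun := fun s => ⟨s.2.1, s.1, s.2.2.symm⟩
      invFun := fun s => ⟨s.2.1, s.1, s.2.2.symm⟩
      left_inv := fun _ => rfl
      right_inv := fun _ => rfl }

lemma inner_eq (Y : Subgroup X) (h : Y) :
    Nat.card {g : Y // Commute (g : X) (h : X)} = Nat.card {g : Y // Commute g h} :=
  Nat.card_congr (Equiv.subtypeEquivRight fun g =>
    ⟨fun e => Subtype.ext e.eq, fun e => congrArg Subtype.val e.eq⟩)

lemma sum_centralizer_le [Fintype X] (Y : Subgroup X) [Fintype Y] :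
    ∑ g : X, Nat.card {h : X // Commute h g} ≤
      Y.index * (Y.index * ∑ h : Y, Nat.card {g : Y // Commute g h}) := by
  refine (Finset.sum_le_sum fun g _ => (cent_le Y g).1).trans ?_
  rw [← Finset.mul_sum, sum_centralizer_eq]
  refine Nat.mul_le_mul_left _ ?_
  rw [Finset.mul_sum]
  refine Finset.sum_le_sum fun h _ => ?_
  rw [← inner_eq]
  exact (cent_le Y (h : X)).1

lemma sum_centralizer_lt [Fintype X] (Y : Subgroup X) [Fintype Y] (hn : ¬ Y.Normal) :
    ∑ g : X, Nat.card {h : X // Commute h g} <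
      Y.index * (Y.index * ∑ h : Y, Nat.card {g : Y // Commute g h}) := by
  refine lt_of_le_of_lt (Finset.sum_le_sum fun g _ => (cent_le Y g).1) ?_
  rw [← Finset.mul_sum, sum_centralizer_eq]
  refine Nat.mul_lt_mul_of_pos_left ?_ (Nat.pos_of_ne_zero Subgroup.index_ne_zero_of_finite)
  rw [Finset.mul_sum]
  refine Finset.sum_lt_sum (fun h _ => ?_) ?_
  · rw [← inner_eq]; exact (cent_le Y (h : X)).1
  · by_contra hne
    simp only [not_exists, not_and, not_lt] at hne
    apply hn
    constructor
    intro a ha y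
    have he : Nat.card {g : X // Commute g a} = Y.index * Nat.card {g : Y // Commute (g : X) a} := by
      refine le_antisymm (cent_le Y a).1 ?_
      have := hne ⟨a, ha⟩ (Finset.mem_univ _)
      rwa [← inner_eq] at this
    obtain ⟨k, hk, hc⟩ := (cent_le Y a).2 he y
    have : y * a * y⁻¹ = k * a * k⁻¹ := by
      calc y * a * y⁻¹ = k * ((k⁻¹ * y) * a) * y⁻¹ := by group
        _ = k * (a * (k⁻¹ * y)) * y⁻¹ := by rw [hc.eq]
        _ = k * a * k⁻¹ := by group
    rw [this]
    exact Y.mul_mem (Y.mul_mem hk ha) (Y.inv_mem hk)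


/-- Let Y be a subgroup of the finite group X, of index m. Then the numbers of conjugacy classes satisfy k(Y) ≤ m·k(X) and k(X) ≤ m·k(Y), and the second inequality is strict unless Y is normal in X. -/
theorem result {X : Type*} [Group X] [Finite X] (Y : Subgroup X) : Nat.card (ConjClasses Y) ≤ Y.index * Nat.card (ConjClasses X) ∧ Nat.card (ConjClasses X) ≤ Y.index * Nat.card (ConjClasses Y) ∧ (¬ Y.Normal → Nat.card (ConjClasses X) < Y.index * Nat.card (ConjClasses Y)) := by
  classical
  have := Fintype.ofFinite X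
  have hYpos : 0 < Nat.card Y := Nat.card_pos
  have hX := card_comm_eq_card_conjClasses_mul_card X
  have hY := card_comm_eq_card_conjClasses_mul_card Y
  rw [card_comm_pairs] at hX hY
  rw [← Y.card_mul_index] at hX
  have h1 : ∑ h : Y, Nat.card {g : Y // Commute g h} ≤ ∑ g : X, Nat.card {h : X // Commute h g} := by
    refine le_trans ?_ (sum_subgroup_le Y fun g => Nat.card {h : X // Commute h g})
    refine Finset.sum_le_sum fun h _ => ?_
    refine Nat.card_le_card_of_injective (fun g => ⟨(g.1 : X), congrArg Subtype.val g.2.eq⟩) ?_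
    intro a b hab
    exact Subtype.ext (Subtype.ext (congrArg (fun z => (z.1 : X)) hab))
  have h2 := sum_centralizer_le Y
  refine ⟨?_, ?_, fun hn => ?_⟩
  · rw [hX, hY] at h1
    refine Nat.le_of_mul_le_mul_right ?_ hYpos
    calc _ ≤ _ := h1
      _ = _ := by ring
  · rw [hX, hY] at h2
    refine Nat.le_of_mul_le_mul_right (c := Nat.card Y * Y.index) ?_ ?_
    · calc _ ≤ _ := h2
        _ = _ := by ring
    · exact Nat.mul_pos hYpos (Nat.pos_of_ne_zero Subgroup.index_ne_zero_of_finite)
  · have h3 := sum_centralizer_lt Y hn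
    rw [hX, hY] at h3
    refine Nat.lt_of_mul_lt_mul_right (a := Nat.card Y * Y.index) ?_
    calc _ < _ := h3
      _ = _ := by ring

end Cfsg.Agent.S4200
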