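import Cfsg.Statements.S4203
-- import your own Cfsg.Agent.* helpers here

set_option autoImplicit false
open Cfsg

namespace Cfsg.Agent.S4203

universe u

lemma solvable_extension {G : Type*} [Group G] (N : Subgroup G) [N.Normal] [Group.IsSolvable N]
    [Group.IsSolvable (G ⧸ N)] : Group.IsSolvable G :=
  solvable_of_ker_le_range N.subtype (QuotientGroup.mk' N) (by simp)

lemma index_modEq {N : Type*} [Group N] [Finite N] {p : ℕ} [Fact p.Prime] (P : Sylow p N) (K : Subgroup N)
    (hK : Subgroup.normalizer ((P : Subgroup N) : Set N) ≤ K) : K.index ≡ 1 [MOD p] := by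
  have h1 := card_sylow_modEq_one p N
  rw [Sylow.card_eq_index_normalizer P] at h1
  have hPK : (P : Subgroup N) ≤ K := Subgroup.le_normalizer.trans hK
  have h2 := card_sylow_modEq_one p K
  rw [Sylow.card_eq_index_normalizer (P.subtype hPK), ← (P.subtype hPK).coe_coe, Sylow.coe_subtype,
    ← Subgroup.subgroupOf_normalizer_eq hPK] at h2
  rw [← P.coe_coe, ← Subgroup.relIndex_mul_index hK, Subgroup.relIndex] at h1
  have := (h2.mul_right K.index).symm.trans h1
  simpa using this

lemma relIndex_sup_of_normal {G : Type*} [Group G] [Finite G] (H K : Subgroup G) [H.Normal] :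
    K.relIndex H = K.relIndex (H ⊔ K) := by
  have h1 := Subgroup.relIndex_mul_relIndex (H ⊓ K) H (H ⊔ K) inf_le_left le_sup_left
  have h2 := Subgroup.relIndex_mul_relIndex (H ⊓ K) K (H ⊔ K) inf_le_right le_sup_right
  rw [Subgroup.inf_relIndex_left, Subgroup.relIndex_sup_left (H := K) (K := H)] at h1
  rw [Subgroup.inf_relIndex_right] at h2
  have h3 : H.relIndex K ≠ 0 := Subgroup.index_ne_zero_of_finite (H := H.subgroupOf K)
  apply Nat.eq_of_mul_eq_mul_right (Nat.pos_of_ne_zero h3)
  rw [h1, ← h2, mul_comm]

lemma solvable_perm_small {α : Type*} [Finite α] (h4 : Nat.card α = 4) : Group.IsSolvable (Equiv.Perm α) := by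
  classical
  have := Fintype.ofFinite α
  haveI := alternatingGroup.kleinFour_isKleinFour h4
  haveI : Group.IsSolvable (alternatingGroup.kleinFour α) :=
    Group.isSolvable_of_comm fun a b => (mul_comm_of_exponent_two IsKleinFour.exponent_two a b)
  haveI : Group.IsSolvable (commutator (alternatingGroup α)) := by
    rw [← alternatingGroup.kleinFour_eq_commutator h4]; infer_instance
  haveI : Group.IsSolvable (alternatingGroup α) :=
    solvable_of_ker_le_range (commutator (alternatingGroup α)).subtype (Abelianization.of (G := alternatingGroup α))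
      (by simp [Abelianization.ker_of])
  exact solvable_of_ker_le_range (alternatingGroup α).subtype (Equiv.Perm.sign (α := α))
    (by rw [Subgroup.range_subtype]; rfl)

/-- If the index of every maximal subgroup is a prime or the square of one, the group is solvable. -/
lemma solvable_of_index_small : ∀ (n : ℕ) (G : Type u) [Group G] [Finite G], Nat.card G = n →
    (∀ M : Subgroup G, IsCoatom M → ∃ p : ℕ, p.Prime ∧ (M.index = p ∨ M.index = p ^ 2)) →
      Group.IsSolvable G := by
  intro n
  induction n using Nat.strong_induction_on with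
  | _ n ih =>
    intro G _ _ hn h
    rcases subsingleton_or_nontrivial G with hs | hnt
    · exact Group.isSolvable_of_comm fun a b => Subsingleton.elim _ _
    -- a nontrivial normal solvable subgroup suffices
    have red : ∀ K : Subgroup G, K.Normal → K ≠ ⊥ → Group.IsSolvable K → Group.IsSolvable G := by
      intro K _ hK _
      haveI : Group.IsSolvable (G ⧸ K) := by
        refine ih _ ?_ (G ⧸ K) rfl ?_
        · rw [← hn, ← K.card_mul_index, ← Subgroup.index_eq_card]
          exact lt_mul_left (Nat.pos_of_ne_zero Subgroup.index_ne_zero_of_finite) ((Subgroup.one_lt_card_iff_ne_bot K).2 hK)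
        · intro M hM
          obtain ⟨q, hq⟩ := h (M.comap (QuotientGroup.mk' K)) (Subgroup.isCoatom_comap_of_surjective (QuotientGroup.mk'_surjective K) hM)
          rw [Subgroup.index_comap_of_surjective _ (QuotientGroup.mk'_surjective K)] at hq
          exact ⟨q, hq⟩
      exact solvable_extension K
    by_contra hns
    obtain ⟨N, hNmem, hNmin⟩ := (Set.toFinite {K : Subgroup G | K.Normal ∧ K ≠ ⊥}).exists_minimal
      ⟨⊤, Subgroup.normal_of_characteristic _, top_ne_bot⟩
    obtain ⟨hNn, hN⟩ := hNmem
    have hperf : ⁅N, N⁆ = N := by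
      by_cases hb : ⁅N, N⁆ = ⊥
      · exact absurd (red N hNn hN (Group.isSolvable_of_comm fun a b => Subtype.ext
          (Subgroup.mem_centralizer_iff.1 (Subgroup.commutator_eq_bot_iff_le_centralizer.1 hb b.2) a a.2))) hns
      · exact le_antisymm (Subgroup.commutator_le_left _ _)
          (hNmin ⟨Subgroup.commutator_normal _ _, hb⟩ (Subgroup.commutator_le_left _ _))
    have hpne : (Nat.card N).primeFactors.Nonempty := by
      rw [Nat.nonempty_primeFactors]; exact (Subgroup.one_lt_card_iff_ne_bot N).2 hN
    set p := (Nat.card N).primeFactors.max' hpne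
    have hpmem := Finset.max'_mem _ hpne
    haveI hp : Fact p.Prime := ⟨Nat.prime_of_mem_primeFactors hpmem⟩
    obtain ⟨P⟩ : Nonempty (Sylow p N) := inferInstance
    set Q : Subgroup G := (P : Subgroup N).map N.subtype
    by_cases hQ : Subgroup.normalizer (Q : Set G) = ⊤
    · haveI : Q.Normal := Subgroup.normalizer_eq_top_iff.1 hQ
      haveI : Group.IsNilpotent Q := (P.2.map N.subtype).isNilpotent
      refine hns (red Q inferInstance ?_ inferInstance)
      rw [Ne, Subgroup.map_eq_bot_iff_of_injective _ N.subtype_injective]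
      exact P.ne_bot_of_dvd_card (Nat.dvd_of_mem_primeFactors hpmem)
    obtain ⟨M, hM, hMle⟩ := (eq_top_or_exists_le_coatom (Subgroup.normalizer (Q : Set G))).resolve_left hQ
    have hfr : Subgroup.normalizer (Q : Set G) ⊔ N = ⊤ := Sylow.normalizer_sup_eq_top P
    have hNM : N ⊔ M = ⊤ := top_le_iff.1 (hfr ▸ sup_le (hMle.trans le_sup_right) le_sup_left)
    have hidx : M.index = (M.subgroupOf N).index := by
      rw [← Subgroup.relIndex_top_right, ← hNM, ← relIndex_sup_of_normal]; rfl
    have hK : Subgroup.normalizer ((P : Subgroup N) : Set N) ≤ M.subgroupOf N := by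
      intro x hx
      refine hMle (Subgroup.le_normalizer_map N.subtype ⟨x, hx, rfl⟩)
    have hmod : M.index ≡ 1 [MOD p] := hidx ▸ index_modEq P _ hK
    obtain ⟨q, hq, hqi⟩ := h M hM
    have hqN : q ∣ Nat.card N := by
      refine dvd_trans ?_ ((M.subgroupOf N).index_dvd_card)
      rw [← hidx]; rcases hqi with e | e <;> rw [e]
      exact dvd_pow_self _ two_ne_zero
    have hqp : q ≤ p := Finset.le_max' _ _ (Nat.mem_primeFactors.2 ⟨hq, hqN, Nat.card_pos.ne'⟩)
    have hp2 := hp.out.two_le
    have hne : q ≠ p := by
      intro e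
      rcases hqi with e' | e' <;> rw [e', e, Nat.ModEq, Nat.mod_eq_of_lt (show 1 < p by omega)] at hmod <;>
        simp [Nat.pow_mod] at hmod
    have hq2 : q = 2 ∧ M.index = 4 := by
      rcases hqi with e | e
      · exfalso
        rw [e, Nat.ModEq, Nat.mod_eq_of_lt (show 1 < p by omega), Nat.mod_eq_of_lt (show q < p by omega)] at hmod
        exact hq.ne_one hmod
      · rw [e] at hmod
        have hd : p ∣ q ^ 2 - 1 := (Nat.modEq_iff_dvd' (Nat.one_le_pow _ _ hq.pos)).1 hmod.symm
        rw [show q ^ 2 - 1 = (q + 1) * (q - 1) by simpa using Nat.sq_sub_sq q 1] at hd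
        rcases (Nat.Prime.dvd_mul hp.out).1 hd with hd | hd
        · have hpe : p = q + 1 := by have := Nat.le_of_dvd (by omega) hd; omega
          have : q = 2 := by
            rcases hq.eq_two_or_odd' with e2 | ⟨j, hj⟩
            · exact e2
            · have : p = 2 := (hp.out.eq_two_or_odd').resolve_right (by rintro ⟨i, hi⟩; omega)
              have := hq.two_le; omega
          exact ⟨this, by rw [e, this]; rfl⟩
        · have := hq.two_le
          have := Nat.le_of_dvd (by omega) hd
          omega
    -- the action on the four cosets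
    haveI : Group.IsSolvable (Equiv.Perm (G ⧸ M)) := solvable_perm_small (by rw [← Subgroup.index_eq_card, hq2.2])
    let f := (MulAction.toPermHom G (G ⧸ M)).comp N.subtype
    have hcom : commutator N = ⊤ := by
      apply Subgroup.map_injective N.subtype_injective
      rw [Subgroup.map_subtype_commutator, hperf, ← MonoidHom.range_eq_map, Subgroup.range_subtype]
    have hker : ∀ x : N, f x = 1 := by
      have hder : ∀ k, derivedSeries N k = ⊤ := fun k => by
        induction k with
        | zero => rfl
        | succ k ihk => rw [derivedSeries_succ, ihk]; exact hcom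
      obtain ⟨k, hk⟩ := (Group.isSolvable_def (G := Equiv.Perm (G ⧸ M))).1 inferInstance
      intro x
      have := map_derivedSeries_le_derivedSeries f k
      rw [hder, hk, le_bot_iff, Subgroup.map_eq_bot_iff] at this
      exact MonoidHom.mem_ker.1 (this (Subgroup.mem_top x))
    refine hM.1 (top_le_iff.1 (hNM ▸ sup_le (fun x hx => ?_) le_rfl))
    have := congrArg (fun g : Equiv.Perm (G ⧸ M) => g ((1 : G) : G ⧸ M)) (hker ⟨x, hx⟩)
    have h3 : ((x * 1 : G) : G ⧸ M) = ((1 : G) : G ⧸ M) := this
    rw [mul_one, eq_comm, QuotientGroup.eq] at h3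
    simpa using h3

/-- A finite group in which every maximal subgroup has index a prime or the square of a prime is solvable. -/
theorem result {G : Type*} [Group G] [Finite G] (h : ∀ M : Subgroup G, IsCoatom M → ∃ p : ℕ, p.Prime ∧ (M.index = p ∨ M.index = p ^ 2)) : Group.IsSolvable G := by
  exact solvable_of_index_small _ G rfl h

end Cfsg.Agent.S4203
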