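import Cfsg.Statements.S4204
-- import your own Cfsg.Agent.* helpers here

set_option autoImplicit false
open Cfsg

namespace Cfsg.Agent.S4204

/-- `γ_i(H)` with `γ_0 = ⊤`. -/
def fittingTerm {G : Type*} [Group G] (H : Subgroup G) : ℕ → Subgroup G
  | 0 => ⊤
  | i + 1 => H.lowerCentralSeries i

instance fittingTermNormal {G : Type*} [Group G] (H : Subgroup G) [H.Normal] (i : ℕ) :
    (fittingTerm H i).Normal := by
  cases i with
  | zero => exact Subgroup.normal_of_characteristic (⊤ : Subgroup G)
  | succ i =>
    show (H.lowerCentralSeries i).Normal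
    induction i with
    | zero => rw [Subgroup.lowerCentralSeries_zero]; infer_instance
    | succ i ih => rw [Subgroup.lowerCentralSeries_succ]; exact Subgroup.commutator_normal _ _

lemma normal_iSup_of {G : Type*} [Group G] {ι : Sort*} {A : ι → Subgroup G} (h : ∀ i, (A i).Normal) :
    (⨆ i, A i).Normal := by
  constructor
  intro x hx g
  have : (⨆ i, A i) ≤ (⨆ i, A i).comap (MulAut.conj g).toMonoidHom :=
    iSup_le fun i y hy => Subgroup.mem_comap.2 (Subgroup.mem_iSup_of_mem i ((h i).conj_mem y hy g))
  exact this hx

/-- The largest `A` with `⁅A, B⁆ ≤ X`, for normal `X`. -/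
def commutatorPreimage {G : Type*} [Group G] (B X : Subgroup G) [X.Normal] : Subgroup G :=
  (Subgroup.centralizer ((B.map (QuotientGroup.mk' X) : Subgroup (G ⧸ X)) : Set (G ⧸ X))).comap (QuotientGroup.mk' X)

lemma le_commutatorPreimage {G : Type*} [Group G] {A B X : Subgroup G} [X.Normal] :
    A ≤ commutatorPreimage B X ↔ ⁅A, B⁆ ≤ X := by
  rw [commutatorPreimage, ← Subgroup.map_le_iff_le_comap, ← Subgroup.commutator_eq_bot_iff_le_centralizer,
    ← Subgroup.map_commutator, Subgroup.map_eq_bot_iff, QuotientGroup.ker_mk']


/-- If `H` and `K` are normal subgroups of a finite group with `H` nilpotent of class at most `c` and `K` nilpotent of class at most `d` (the terms with index `c`, respectively `d`, of their lower central series are trivial, indices starting at `0`), then `HK` is nilpotent of class at most `c + d`. -/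
theorem result {G : Type*} [Group G] [Finite G] (H K : Subgroup G) [H.Normal] [K.Normal] (c d : ℕ) (hH : H.lowerCentralSeries c = ⊥) (hK : K.lowerCentralSeries d = ⊥) : (H ⊔ K).lowerCentralSeries (c + d) = ⊥ := by
  have key : ∀ n, (H ⊔ K).lowerCentralSeries n ≤
      ⨆ (i : ℕ) (j : ℕ) (_ : i + j = n + 1), fittingTerm H i ⊓ fittingTerm K j := by
    intro n
    induction n with
    | zero =>
      rw [Subgroup.lowerCentralSeries_zero]
      refine sup_le (le_iSup_of_le 1 (le_iSup_of_le 0 (le_iSup_of_le rfl ?_))) (le_iSup_of_le 0 (le_iSup_of_le 1 (le_iSup_of_le rfl ?_)))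
      · exact le_inf le_rfl le_top
      · exact le_inf le_top le_rfl
    | succ n ih =>
      rw [Subgroup.lowerCentralSeries_succ]
      refine (Subgroup.commutator_mono ih le_rfl).trans ?_
      set X := ⨆ (i : ℕ) (j : ℕ) (_ : i + j = n + 1 + 1), fittingTerm H i ⊓ fittingTerm K j
      haveI : X.Normal := by
        refine normal_iSup_of (fun i => normal_iSup_of fun j => normal_iSup_of fun _ => ?_)
        exact Subgroup.normal_inf_normal _ _
      rw [← le_commutatorPreimage]
      refine iSup_le fun i => iSup_le fun j => iSup_le fun hij => ?_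
      rw [le_commutatorPreimage, Subgroup.commutator_comm, ← le_commutatorPreimage]
      refine sup_le ?_ ?_ <;> rw [le_commutatorPreimage, Subgroup.commutator_comm]
      · refine le_iSup_of_le (i + 1) (le_iSup_of_le j (le_iSup_of_le (by omega) (le_inf ?_ ?_)))
        · refine (Subgroup.commutator_mono inf_le_left le_rfl).trans ?_
          cases i with
          | zero => exact Subgroup.commutator_le_right _ _
          | succ i => exact le_of_eq (Subgroup.lowerCentralSeries_succ H i).symm
        · exact (Subgroup.commutator_mono inf_le_right le_rfl).trans (Subgroup.commutator_le_left _ _)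
      · refine le_iSup_of_le i (le_iSup_of_le (j + 1) (le_iSup_of_le (by omega) (le_inf ?_ ?_)))
        · exact (Subgroup.commutator_mono inf_le_left le_rfl).trans (Subgroup.commutator_le_left _ _)
        · refine (Subgroup.commutator_mono inf_le_right le_rfl).trans ?_
          cases j with
          | zero => exact Subgroup.commutator_le_right _ _
          | succ j => exact le_of_eq (Subgroup.lowerCentralSeries_succ K j).symm
  refine eq_bot_iff.2 ((key (c + d)).trans (iSup_le fun i => iSup_le fun j => iSup_le fun hij => ?_))
  rcases Nat.lt_or_ge c i with hi | hi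
  · obtain ⟨i, rfl⟩ : ∃ i', i = i' + 1 := ⟨i - 1, by omega⟩
    exact inf_le_left.trans (hH ▸ Subgroup.lowerCentralSeries_antitone H (show c ≤ i by omega))
  · obtain ⟨j, rfl⟩ : ∃ j', j = j' + 1 := ⟨j - 1, by omega⟩
    exact inf_le_right.trans (hK ▸ Subgroup.lowerCentralSeries_antitone K (show d ≤ j by omega))

end Cfsg.Agent.S4204
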