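import Cfsg.Statements.S4207
-- import your own Cfsg.Agent.* helpers here

set_option autoImplicit false
open Cfsg

namespace Cfsg.Agent.S4207

/-- Every subgroup containing `Φ(P)` of index at most `p^m` needs at most `m` more generators. -/
lemma exists_generators {P : Type*} [Group P] [Finite P] {p n : ℕ} (hp : p.Prime) (hP : Nat.card P = p ^ n) :
    ∀ (m : ℕ) (K : Subgroup P), K.index ∣ p ^ m →
      ∃ x : Fin m → P, K ⊔ Subgroup.closure (Set.range x) = ⊤
  | 0, K, h => ⟨fun _ => 1, by rw [pow_zero, Nat.dvd_one, Subgroup.index_eq_one] at h; simp [h]⟩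
  | m + 1, K, h => by
    by_cases hK : K = ⊤
    · exact ⟨fun _ => 1, by simp [hK]⟩
    obtain ⟨a, ha⟩ : ∃ a, a ∉ K := by
      simpa using mt (Subgroup.eq_top_iff' K).2 hK
    set L := K ⊔ Subgroup.zpowers a
    have hlt : K < L := lt_of_le_of_ne le_sup_left fun he =>
      ha (he ▸ (le_sup_right : Subgroup.zpowers a ≤ L) (Subgroup.mem_zpowers a))
    obtain ⟨k, hk, hk'⟩ := (Nat.dvd_prime_pow hp).1 h
    obtain ⟨l, hl, hl'⟩ := (Nat.dvd_prime_pow hp).1 ((Subgroup.index_dvd_of_le hlt.le).trans h)
    have hlk : l < k := by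
      rw [← Nat.pow_lt_pow_iff_right hp.one_lt, ← hk', ← hl']
      exact Subgroup.index_strictAnti hlt
    obtain ⟨x, hx⟩ := exists_generators hp hP m L (hl' ▸ pow_dvd_pow p (by omega))
    refine ⟨Fin.cons a x, top_le_iff.1 (hx ▸ sup_le (sup_le le_sup_left ?_) ?_)⟩
    · rw [Subgroup.zpowers_eq_closure, Fin.range_cons]
      exact (Subgroup.closure_mono (by simp)).trans le_sup_right
    · rw [Fin.range_cons]
      exact (Subgroup.closure_mono (Set.subset_insert _ _)).trans le_sup_right

lemma exists_frattini_generators {P : Type*} [Group P] [Finite P] {p n r : ℕ} [hp : Fact p.Prime]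
    (hP : Nat.card P = p ^ n) (hr : (frattini P).index = p ^ r) :
    ∃ x : Fin r → P, ∀ y : Fin r → P, (∀ i, (y i) * (x i)⁻¹ ∈ frattini P) →
      Subgroup.closure (Set.range y) = ⊤ := by
  obtain ⟨x, hx⟩ := exists_generators hp.out hP r (frattini P) (hr ▸ dvd_rfl)
  refine ⟨x, fun y hy => frattini_nongenerating (top_le_iff.1 (hx ▸ sup_le le_sup_right ?_))⟩
  rw [Subgroup.closure_le]
  rintro _ ⟨i, rfl⟩
  have : x i = (y i * (x i)⁻¹)⁻¹ * y i := by group
  rw [this]
  exact Subgroup.mul_mem _ (Subgroup.mem_sup_right (Subgroup.inv_mem _ (hy i)))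
    (Subgroup.mem_sup_left (Subgroup.subset_closure ⟨i, rfl⟩))

lemma card_auto_dvd {P : Type*} [Group P] [Finite P] {p n r : ℕ} [hp : Fact p.Prime]
    (hP : Nat.card P = p ^ n) (hr : (frattini P).index = p ^ r) (A : Subgroup (MulAut P))
    (hA : ∀ α ∈ A, ∀ x : P, α x * x⁻¹ ∈ frattini P) (x : Fin r → P)
    (hx : ∀ y : Fin r → P, (∀ i, (y i) * (x i)⁻¹ ∈ frattini P) → Subgroup.closure (Set.range y) = ⊤) :
    Nat.card A ∣ p ^ (r * (n - r)) := by
  let X := {y : Fin r → P // ∀ i, (y i) * (x i)⁻¹ ∈ frattini P}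
  letI : MulAction A X :=
    { smul := fun α y => ⟨fun i => (α : MulAut P) (y.1 i), fun i => by
        have := (frattini P).mul_mem (hA α α.2 (y.1 i)) (y.2 i)
        simpa [mul_assoc] using this⟩
      one_smul := fun y => rfl
      mul_smul := fun _ _ _ => rfl }
  have hfree : ∀ y : X, MulAction.stabilizer A y = ⊥ := by
    intro y
    rw [eq_bot_iff]
    intro α hα
    rw [Subgroup.mem_bot]
    have h1 : ∀ i, (α : MulAut P) (y.1 i) = y.1 i := fun i => congrFun (congrArg Subtype.val hα) i
    apply Subtype.ext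
    apply MulEquiv.ext
    intro z
    have h2 : Subgroup.closure (Set.range y.1) ≤ MonoidHom.eqLocus ((α : MulAut P).toMonoidHom) (MonoidHom.id P) := by
      rw [Subgroup.closure_le]; rintro _ ⟨i, rfl⟩; exact h1 i
    rw [hx y.1 y.2] at h2
    exact h2 (Subgroup.mem_top z)
  have hcard : Nat.card X = p ^ (r * (n - r)) := by
    have e : X ≃ (Fin r → frattini P) :=
      { toFun := fun y i => ⟨_, y.2 i⟩
        invFun := fun f => ⟨fun i => (f i : P) * x i, fun i => by simp⟩
        left_inv := fun y => by ext i; simp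
        right_inv := fun f => by ext i; simp }
    have hF := (frattini P).card_mul_index
    rw [hr, hP] at hF
    have hrn : r ≤ n := (Nat.pow_dvd_pow_iff_le_right hp.out.one_lt).1 ⟨_, by rw [← hF, mul_comm]⟩
    have : Nat.card (frattini P) = p ^ (n - r) := by
      apply Nat.eq_of_mul_eq_mul_right (pow_pos hp.out.pos r)
      rw [hF, ← pow_add, Nat.sub_add_cancel hrn]
    rw [Nat.card_congr e, Nat.card_fun, this, Nat.card_eq_fintype_card, Fintype.card_fin, ← pow_mul, mul_comm]
  have := Fintype.ofFinite (MulAction.orbitRel.Quotient A X)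
  rw [← hcard, Nat.card_congr (MulAction.selfEquivSigmaOrbits A X), Nat.card_sigma]
  refine Finset.dvd_sum fun q _ => ?_
  rw [Nat.card_congr (MulAction.orbitEquivQuotientStabilizer A q.out), hfree, ← Subgroup.index, Subgroup.index_bot]


/-- Let `P` be a group of order `p^n` whose Frattini subgroup has index `p^r`. Then any group of automorphisms of `P` each of which induces the identity on the Frattini quotient has order dividing `p^(r(n-r))`; in particular it is a `p`-group. -/
theorem result {P : Type*} [Group P] [Finite P] {p n r : ℕ} [Fact p.Prime] (hP : Nat.card P = p ^ n) (hr : (frattini P).index = p ^ r) (A : Subgroup (MulAut P)) (hA : ∀ α ∈ A, ∀ x : P, α x * x⁻¹ ∈ frattini P) : Nat.card A ∣ p ^ (r * (n - r)) := by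
  obtain ⟨x, hx⟩ := exists_frattini_generators hP hr
  exact card_auto_dvd hP hr A hA x hx

end Cfsg.Agent.S4207
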