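import Cfsg.Statements.S4208
import Cfsg.Agent.S4207
import Cfsg.Agent.Lib.PGroups.Frattini
import Mathlib.LinearAlgebra.Matrix.GeneralLinearGroup.Card

set_option autoImplicit false
open Cfsg

namespace Cfsg.Agent.S4208

lemma card_addAut_zmod {A : Type*} [AddCommGroup A] [Finite A] {p r : ℕ} [Fact p.Prime] [Module (ZMod p) A]
    (hV : Nat.card A = p ^ r) : Nat.card (A ≃+ A) = ∏ i ∈ Finset.range r, (p ^ r - p ^ i) := by
  haveI : Module.Finite (ZMod p) A := Module.Finite.of_finite
  have hd : Module.finrank (ZMod p) A = r := by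
    have h := Module.natCard_eq_pow_finrank (K := ZMod p) (V := A)
    rw [Nat.card_zmod, hV] at h
    exact (Nat.pow_right_injective (Fact.out : p.Prime).two_le h).symm
  let e1 : (A ≃+ A) ≃ (A ≃ₗ[ZMod p] A) :=
    { toFun := fun f => { f with map_smul' := fun c x => ZMod.map_smul f.toAddMonoidHom c x }
      invFun := fun f => f.toAddEquiv
      left_inv := fun f => rfl
      right_inv := fun f => rfl }
  let b : Module.Basis (Fin r) (ZMod p) A := Module.finBasisOfFinrankEq (ZMod p) A hd
  have e2 : (A ≃ₗ[ZMod p] A) ≃ GL (Fin r) (ZMod p) :=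
    (LinearMap.GeneralLinearGroup.generalLinearEquiv (ZMod p) A).symm.toEquiv.trans
      (Units.mapEquiv (LinearMap.toMatrixAlgEquiv b).toMulEquiv).toEquiv
  rw [Nat.card_congr (e1.trans e2), Matrix.card_GL_field, ZMod.card, ← Fin.prod_univ_eq_prod_range]

/-- The automorphism group of an elementary abelian group of order `p ^ r` has order `|GL(r,p)|`. -/
lemma card_mulAut_elemAb {V : Type*} [CommGroup V] [Finite V] {p r : ℕ} [Fact p.Prime]
    (hV : Nat.card V = p ^ r) (he : ∀ v : V, v ^ p = 1) :
    Nat.card (MulAut V) = ∏ i ∈ Finset.range r, (p ^ r - p ^ i) := by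
  letI : Module (ZMod p) (Additive V) := AddCommGroup.zmodModule (fun v => he (Additive.toMul v))
  haveI : Finite (Additive V) := ‹Finite V›
  exact (Nat.card_congr (MulEquiv.toAdditive (G := V) (H := V))).trans
    (card_addAut_zmod (A := Additive V) hV)

/-- Let `P` be a group of order `p^n` whose Frattini subgroup has index `p^r`. Then the order of the automorphism group of `P` divides `p^(r(n-r)) · (p^r - 1)(p^r - p) ⋯ (p^r - p^(r-1))`. -/
theorem result {P : Type*} [Group P] [Finite P] {p n r : ℕ} [Fact p.Prime] (hP : Nat.card P = p ^ n) (hr : (frattini P).index = p ^ r) : Nat.card (MulAut P) ∣ p ^ (r * (n - r)) * ∏ i ∈ Finset.range r, (p ^ r - p ^ i) := by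
  have hp : IsPGroup p P := IsPGroup.of_card hP
  haveI : (frattini P).Characteristic := inferInstance
  have hmap : ∀ α : MulAut P, (frattini P).map α.toMonoidHom = frattini P := fun α =>
    Subgroup.characteristic_iff_map_eq.1 inferInstance α
  let ρ : MulAut P →* MulAut (P ⧸ frattini P) :=
    { toFun := fun α => QuotientGroup.congr _ _ α (hmap α)
      map_one' := MulEquiv.ext fun x => by
        induction x using QuotientGroup.induction_on with | H x => rfl
      map_mul' := fun a b => MulEquiv.ext fun x => by
        induction x using QuotientGroup.induction_on with | H x => rfl }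
  have hker : Nat.card ρ.ker ∣ p ^ (r * (n - r)) := by
    refine Cfsg.Agent.S4207.result hP hr ρ.ker fun α hα x => ?_
    have h := congrArg (fun f : MulAut (P ⧸ frattini P) => f (x : P ⧸ frattini P)) (MonoidHom.mem_ker.1 hα)
    have h' : ((α x : P) : P ⧸ frattini P) = (x : P ⧸ frattini P) := h
    have h'' := QuotientGroup.eq.1 h'.symm
    exact (inferInstance : (frattini P).Normal).mem_comm h''
  have hel := Cfsg.Agent.Lib.PGroups.frattiniQuotient_elemAb hp
  letI : CommGroup (P ⧸ frattini P) :=
    { (inferInstance : Group (P ⧸ frattini P)) with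
      mul_comm := fun a b => congrArg Subtype.val
        (hel.1.is_comm.comm ⟨a, Subgroup.mem_top a⟩ ⟨b, Subgroup.mem_top b⟩) }
  have hV := card_mulAut_elemAb (V := P ⧸ frattini P) (p := p) (r := r)
    (by rw [← hr]; rfl) (fun v => hel.2 v (Subgroup.mem_top v))
  rw [← ρ.ker.card_mul_index, Subgroup.index_ker]
  exact Nat.mul_dvd_mul hker ((Subgroup.card_subgroup_dvd_card _).trans (dvd_of_eq hV))

end Cfsg.Agent.S4208
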