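import Cfsg.Statements.S4216
import Mathlib.GroupTheory.Transfer
import Mathlib.GroupTheory.Sylow
import Mathlib.Tactic.Group

set_option autoImplicit false
open Cfsg
open scoped commutatorElement

namespace Cfsg.Agent.S4216

open MulAction

/-- For a `p`-group action, an invariant function with values killed by `p` has the same product over
all points as over the fixed points. -/
lemma prod_eq_prod_fixed {H X A : Type*} [Group H] [Finite H] [MulAction H X] [Fintype X] [CommGroup A] {p : ℕ}
    [Fact p.Prime] (hH : IsPGroup p H) (f : X → A) (hinv : ∀ (h : H) x, f (h • x) = f x)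
    (hp : ∀ x, f x ^ p = 1) [DecidablePred fun x : X => x ∈ fixedPoints H X] :
    ∏ x, f x = ∏ x ∈ Finset.univ.filter (fun x => x ∈ fixedPoints H X), f x := by
  classical
  rw [← Finset.prod_filter_mul_prod_filter_not Finset.univ (fun x => x ∈ fixedPoints H X)]
  refine mul_eq_left.2 ?_
  rw [← Finset.prod_fiberwise (Finset.univ.filter fun x => x ∉ fixedPoints H X)
    (fun x => (Quotient.mk (orbitRel H X) x))]
  refine Finset.prod_eq_one fun w _ => ?_
  induction w using Quotient.inductionOn with | h x => ?_
  by_cases hx : x ∈ fixedPoints H X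
  · refine Finset.prod_eq_one fun y hy => absurd hx ?_
    simp only [Finset.mem_filter, Finset.mem_univ, true_and] at hy
    obtain ⟨h, hh⟩ := Quotient.eq.1 hy.2
    intro hxf
    simp only at hh
    rw [hxf h] at hh
    exact hy.1 (hh ▸ hxf)
  · have hset : (Finset.univ.filter fun y => y ∉ fixedPoints H X).filter
        (fun y => Quotient.mk (orbitRel H X) y = Quotient.mk (orbitRel H X) x) =
        (orbit H x).toFinset := by
      ext y
      simp only [Finset.mem_filter, Finset.mem_univ, true_and, Set.mem_toFinset, Quotient.eq, orbitRel_apply]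
      refine ⟨fun h => h.2, fun h => ⟨fun hy => hx ?_, h⟩⟩
      obtain ⟨h', hh⟩ := h
      simp only at hh
      intro k
      have : h' • x = x := by
        have h3 := hy h'⁻¹
        rw [← hh, inv_smul_smul] at h3
        exact h3.symm
      rw [this] at hh
      rw [hh]; exact hy k
    rw [hset, Finset.prod_congr rfl (g := fun _ => f x) (fun y hy => by
      obtain ⟨h, rfl⟩ := Set.mem_toFinset.1 hy; exact hinv h x), Finset.prod_const]
    obtain ⟨n, hn⟩ := hH.card_orbit x
    rw [Set.toFinset_card, ← Nat.card_eq_fintype_card, hn]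
    cases n with
    | zero =>
      refine absurd ?_ hx
      intro h
      have hs := Nat.card_eq_one_iff_unique.1 (by rw [hn, pow_zero])
      exact congrArg Subtype.val (hs.1.elim ⟨h • x, mem_orbit x h⟩ ⟨x, mem_orbit_self x⟩)
    | succ n => rw [pow_succ', pow_mul, hp, one_pow]

/-- The transfer of `u` when every `u`-orbit of length `> 1` contributes trivially. -/
lemma transfer_eq_prod_fixed {G A : Type*} [Group G] [Finite G] [CommGroup A] {H : Subgroup G} (φ : H →* A)
    (u : G) [Fintype (G ⧸ H)] [DecidablePred fun c : G ⧸ H => u • c = c] (f : G ⧸ H → A)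
    (hf : ∀ (c : G ⧸ H) (h : c.out⁻¹ * u * c.out ∈ H), u • c = c → f c = φ ⟨_, h⟩)
    (hbig : ∀ (c : G ⧸ H) (h : c.out⁻¹ * u ^ Function.minimalPeriod (u • ·) c * c.out ∈ H),
      u • c ≠ c → φ ⟨_, h⟩ = 1) :
    MonoidHom.transfer φ u = ∏ c ∈ Finset.univ.filter (fun c : G ⧸ H => u • c = c), f c := by
  classical
  have := Fintype.ofFinite (Quotient (orbitRel (Subgroup.zpowers u) (G ⧸ H)))
  rw [MonoidHom.transfer_eq_prod_quotient_orbitRel_zpowers_quot]
  rw [← Finset.prod_filter_of_ne (p := fun q => u • q.out = q.out)]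
  · refine Finset.prod_nbij' (fun q => q.out) (fun c => Quotient.mk _ c) ?_ ?_ ?_ ?_ ?_
    · intro q hq; simpa using hq
    · intro c hc
      simp only [Finset.mem_filter, Finset.mem_univ, true_and] at hc ⊢
      obtain ⟨⟨z, hz⟩, hk⟩ := Quotient.mk_out (s := orbitRel (Subgroup.zpowers u) (G ⧸ H)) c
      obtain ⟨k, rfl⟩ := hz
      rw [← hk]
      change u • (u ^ k • c) = u ^ k • c
      have : u ^ k • c = c := by
        have := Subgroup.zpow_mem (stabilizer G c) (mem_stabilizer_iff.2 hc) k
        exact this
      rw [this, hc]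
    · intro q hq; exact Quotient.out_eq q
    · intro c hc
      simp only [Finset.mem_filter, Finset.mem_univ, true_and] at hc
      obtain ⟨⟨z, hz⟩, hk⟩ := Quotient.mk_out (s := orbitRel (Subgroup.zpowers u) (G ⧸ H)) c
      obtain ⟨k, rfl⟩ := hz
      rw [← hk]
      exact Subgroup.zpow_mem (stabilizer G c) (mem_stabilizer_iff.2 hc) k
    · intro q hq
      simp only [Finset.mem_filter, Finset.mem_univ, true_and] at hq
      have h1 : Function.minimalPeriod (u • ·) q.out = 1 :=
        Function.minimalPeriod_eq_one_iff_isFixedPt.2 hq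
      have hmem := QuotientGroup.out_conj_pow_minimalPeriod_mem H u q.out
      refine Eq.trans ?_ (hf q.out (by simpa [h1] using hmem) hq).symm
      congr 1
      simp [h1]
  · intro q _ hne
    by_contra hq
    exact hne (hbig _ _ hq)

/-- Grün's first Theorem: if `P` is a Sylow `p`-subgroup of the finite group `G`, then `P ∩ G'` is the subgroup generated by `P ∩ N_G(P)'` together with the subgroups `P ∩ z P' z⁻¹` for all `z ∈ G`, where `'` denotes the derived subgroup and `N_G(P)` the normalizer of `P`. -/
theorem result {G : Type*} [Group G] [Finite G] {p : ℕ} [Fact p.Prime] (P : Sylow p G) : (P : Subgroup G) ⊓ commutator G = ((P : Subgroup G) ⊓ ⁅Subgroup.normalizer ((P : Subgroup G) : Set G), Subgroup.normalizer ((P : Subgroup G) : Set G)⁆) ⊔ ⨆ z : G, (P : Subgroup G) ⊓ (⁅(P : Subgroup G), (P : Subgroup G)⁆).map (MulAut.conj z).toMonoidHom := by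
  classical
  set N := Subgroup.normalizer ((P : Subgroup G) : Set G)
  set D := ⁅(P : Subgroup G), (P : Subgroup G)⁆
  set K := ((P : Subgroup G) ⊓ ⁅N, N⁆) ⊔ ⨆ z : G, (P : Subgroup G) ⊓ D.map (MulAut.conj z).toMonoidHom with hKdef
  have hKP : K ≤ P := sup_le inf_le_left (iSup_le fun z => inf_le_left)
  have hPN : (P : Subgroup G) ≤ N := Subgroup.le_normalizer
  have hDP : D ≤ P := Subgroup.commutator_le_self _
  have hDK : D ≤ K := (le_inf hDP (Subgroup.commutator_mono hPN hPN)).trans le_sup_left
  have hKG : K ≤ commutator G := by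
    refine sup_le (inf_le_right.trans (Subgroup.commutator_mono le_top le_top)) (iSup_le fun z => inf_le_right.trans ?_)
    rw [Subgroup.map_le_iff_le_comap]
    refine (Subgroup.commutator_mono le_top le_top : D ≤ commutator G).trans ?_
    exact le_of_eq ((inferInstance : (commutator G).Characteristic).fixed (MulAut.conj z)).symm
  refine le_antisymm ?_ (le_inf hKP hKG)
  -- `P / K` is abelian
  set Kp := K.subgroupOf (P : Subgroup G)
  have hcomK : _root_.commutator (P : Subgroup G) ≤ Kp := by
    rw [commutator_def, Subgroup.commutator_le]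
    intro a _ b _
    exact hDK (Subgroup.commutator_mem_commutator a.2 b.2)
  haveI : Kp.Normal := by
    constructor
    intro x hx g
    have := Kp.mul_mem (hcomK (Subgroup.commutator_mem_commutator (Subgroup.mem_top g) (Subgroup.mem_top x))) hx
    simpa [commutatorElement_def, mul_assoc] using this
  letI : CommGroup ((P : Subgroup G) ⧸ Kp) :=
    { (inferInstance : Group ((P : Subgroup G) ⧸ Kp)) with
      mul_comm := fun a b => by
        induction a using QuotientGroup.induction_on with | H a => ?_
        induction b using QuotientGroup.induction_on with | H b => ?_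
        rw [← QuotientGroup.mk_mul, ← QuotientGroup.mk_mul, QuotientGroup.eq]
        have := hcomK (Subgroup.commutator_mem_commutator (Subgroup.mem_top b⁻¹) (Subgroup.mem_top a⁻¹))
        simpa [commutatorElement_def, mul_assoc] using this }
  set φ : (P : Subgroup G) →* (P : Subgroup G) ⧸ Kp := QuotientGroup.mk' Kp
  have hφ : ∀ a : (P : Subgroup G), φ a = 1 ↔ (a : G) ∈ K := fun a => by
    rw [QuotientGroup.mk'_apply, QuotientGroup.eq_one_iff, Subgroup.mem_subgroupOf]
  intro u₀ hu₀
  suffices main : ∀ n, ∀ u, u ∈ (P : Subgroup G) → u ∈ commutator G → orderOf u = n → u ∈ K from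
    main _ u₀ hu₀.1 hu₀.2 rfl
  intro n
  induction n using Nat.strong_induction_on with
  | _ n ih =>
    intro u hu huG hn
    by_cases hu1 : u = 1
    · rw [hu1]; exact one_mem _
    obtain ⟨e, he⟩ := IsPGroup.iff_orderOf.1 P.2 ⟨u, hu⟩
    rw [Subgroup.orderOf_mk] at he
    have hpu : p ∣ orderOf u := by
      cases e with
      | zero => exact absurd (orderOf_eq_one_iff.1 (by simpa using he)) hu1
      | succ e => exact he ▸ dvd_pow_self p e.succ_ne_zero
    -- powers `u ^ m`, `p ∣ m`, contribute nothing
    have hsmall : ∀ m, p ∣ m → ∀ g : G, ∀ h : g⁻¹ * u ^ m * g ∈ (P : Subgroup G), φ ⟨_, h⟩ = 1 := by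
      intro m hm g h
      rw [hφ]
      refine ih (orderOf (g⁻¹ * u ^ m * g)) ?_ _ h ?_ rfl
      · have : orderOf (g⁻¹ * u ^ m * g) = orderOf (u ^ m) := by
          have := (MulAut.conj g⁻¹).orderOf_eq (u ^ m)
          simpa using this
        rw [this, orderOf_pow, ← hn]
        exact Nat.div_lt_self (orderOf_pos u) (lt_of_lt_of_le (Fact.out : p.Prime).one_lt
          (Nat.le_of_dvd (Nat.gcd_pos_of_pos_left _ (orderOf_pos u)) (Nat.dvd_gcd hpu hm)))
      · have := (inferInstance : (commutator G).Normal).conj_mem _ (pow_mem huG m) g⁻¹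
        simpa using this
    have := Fintype.ofFinite (G ⧸ (P : Subgroup G))
    let f : G ⧸ (P : Subgroup G) → (P : Subgroup G) ⧸ Kp := fun c =>
      if h : c.out⁻¹ * u * c.out ∈ (P : Subgroup G) then φ ⟨_, h⟩ else 1
    have hconst : ∀ (z : (P : Subgroup G)) (c : G ⧸ (P : Subgroup G)), u • c = c → u • (z • c) = z • c →
        f (z • c) = f c := by
      intro z c h1 h2
      have hm : ∀ d : G ⧸ (P : Subgroup G), u • d = d → d.out⁻¹ * u * d.out ∈ (P : Subgroup G) := by
        intro d hd
        rw [mul_assoc, ← QuotientGroup.eq, QuotientGroup.out_eq']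
        conv_lhs => rw [← hd, ← QuotientGroup.out_eq' d]
        rfl
      simp only [f, dif_pos (hm c h1), dif_pos (hm _ h2)]
      have hr : ((z : G) * c.out)⁻¹ * (z • c).out ∈ (P : Subgroup G) := by
        rw [← QuotientGroup.eq, QuotientGroup.out_eq']
        conv_rhs => rw [← QuotientGroup.out_eq' c]
        rfl
      set r : (P : Subgroup G) := ⟨_, hr⟩
      have hw : c.out⁻¹ * ((z : G)⁻¹ * u * z) * c.out ∈ (P : Subgroup G) := by
        have := P.1.mul_mem (P.1.mul_mem r.2 (hm _ h2)) (P.1.inv_mem r.2)
        simpa [r, mul_assoc] using this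
      have e1 : (⟨_, hm _ h2⟩ : (P : Subgroup G)) = r⁻¹ * ⟨_, hw⟩ * r := by
        ext; simp [r, mul_assoc]
      rw [e1, map_mul, map_mul, map_inv, mul_comm (φ r)⁻¹, inv_mul_cancel_right]
      rw [eq_comm, ← inv_mul_eq_one, ← map_inv, ← map_mul, hφ]
      refine Subgroup.mem_sup_right (Subgroup.mem_iSup_of_mem c.out⁻¹ ⟨SetLike.coe_mem _, ?_⟩)
      refine ⟨⁅u⁻¹, (z : G)⁻¹⁆, Subgroup.commutator_mem_commutator (P.1.inv_mem hu) (P.1.inv_mem z.2), ?_⟩
      simp [commutatorElement_def, mul_assoc]
    let ω : G ⧸ (P : Subgroup G) → Quotient (orbitRel (P : Subgroup G) (G ⧸ (P : Subgroup G))) := Quotient.mk _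
    let B : Quotient (orbitRel (P : Subgroup G) (G ⧸ (P : Subgroup G))) → (P : Subgroup G) ⧸ Kp :=
      fun w => if h : ∃ d, ω d = w ∧ u • d = d then f h.choose else 1
    have hBf : ∀ c, u • c = c → B (ω c) = f c := by
      intro c hc
      have h : ∃ d, ω d = ω c ∧ u • d = d := ⟨c, rfl, hc⟩
      simp only [B, dif_pos h]
      obtain ⟨z, hz⟩ := Quotient.eq.1 h.choose_spec.1
      simp only at hz
      rw [← hz]
      exact hconst z c hc (by rw [hz]; exact h.choose_spec.2)
    have hBp : ∀ w, B w ^ p = 1 := by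
      intro w
      simp only [B]
      split_ifs with h
      · simp only [f]
        split_ifs with h'
        · rw [← map_pow]
          have e : (⟨_, h'⟩ : (P : Subgroup G)) ^ p = ⟨h.choose.out⁻¹ * u ^ p * h.choose.out, by
              have := (⟨_, h'⟩ ^ p : (P : Subgroup G)).2
              rw [SubgroupClass.coe_pow] at this
              convert this using 1
              have e2 := conj_pow (a := h.choose.out⁻¹) (b := u) (i := p)
              simpa using e2.symm⟩ := by
            ext
            have e2 := conj_pow (a := h.choose.out⁻¹) (b := u) (i := p)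
            simpa using e2
          rw [e]; exact hsmall p dvd_rfl _ _
        · exact one_pow _
      · exact one_pow _
    have hωinv : ∀ (z : (P : Subgroup G)) c, ω (z • c) = ω c := fun z c =>
      Quotient.sound (mem_orbit c z)
    have hV : MonoidHom.transfer φ u = 1 :=
      MonoidHom.mem_ker.1 (Abelianization.commutator_subset_ker _ huG)
    rw [transfer_eq_prod_fixed φ u f (fun c h _ => dif_pos h) (fun c h hne => hsmall _ ?_ _ h)] at hV
    swap
    · have hdvd : Function.minimalPeriod (u • ·) c ∣ p ^ e := by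
        rw [← he]
        refine Function.IsPeriodicPt.minimalPeriod_dvd ?_
        show ((u • ·)^[orderOf u]) c = c
        simp [smul_iterate, pow_orderOf_eq_one]
      obtain ⟨i, -, hi⟩ := (Nat.dvd_prime_pow Fact.out).1 hdvd
      rw [hi]
      cases i with
      | zero => exact absurd (Function.minimalPeriod_eq_one_iff_isFixedPt.1 (by simpa using hi)) hne
      | succ i => exact dvd_pow_self p i.succ_ne_zero
    have hZ : IsPGroup p (Subgroup.zpowers u) := P.2.to_le (Subgroup.zpowers_le.2 hu)
    have e1 : ∏ c ∈ Finset.univ.filter (fun c : G ⧸ (P : Subgroup G) => u • c = c), f c =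
        ∏ c, B (ω c) := by
      rw [prod_eq_prod_fixed hZ (fun c => B (ω c)) (fun z c => ?_) (fun c => hBp _)]
      · refine Finset.prod_congr ?_ fun c hc => (hBf c ((Finset.mem_filter.1 hc).2 ⟨u, Subgroup.mem_zpowers u⟩)).symm
        ext c
        simp only [Finset.mem_filter, Finset.mem_univ, true_and]
        refine ⟨fun h z => ?_, fun h => h ⟨u, Subgroup.mem_zpowers u⟩⟩
        obtain ⟨k, hk⟩ := z.2
        change (z : G) • c = c
        rw [← hk]
        exact Subgroup.zpow_mem (stabilizer G c) (mem_stabilizer_iff.2 h) k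
      · exact congrArg B (hωinv ⟨z.1, Subgroup.zpowers_le.2 hu z.2⟩ c)
    rw [e1, prod_eq_prod_fixed P.2 (fun c => B (ω c)) (fun z c => congrArg B (hωinv z c)) (fun c => hBp _)] at hV
    rw [Finset.prod_congr rfl (g := fun _ => φ ⟨u, hu⟩) fun c hc => ?_, Finset.prod_const] at hV
    swap
    · have hc' : c ∈ fixedPoints (P : Subgroup G) (G ⧸ (P : Subgroup G)) := (Finset.mem_filter.1 hc).2
      have hcu : u • c = c := hc' ⟨u, hu⟩
      rw [hBf c hcu]
      have hg : c.out ∈ N := by
        rw [← Sylow.mem_fixedPoints_mul_left_cosets_iff_mem_normalizer, QuotientGroup.out_eq']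
        exact hc'
      have hm : c.out⁻¹ * u * c.out ∈ (P : Subgroup G) := (Subgroup.mem_normalizer_iff''.1 hg u).1 hu
      simp only [f, dif_pos hm]
      rw [eq_comm, ← inv_mul_eq_one, ← map_inv, ← map_mul, hφ]
      refine Subgroup.mem_sup_left ⟨SetLike.coe_mem _, ?_⟩
      have := Subgroup.commutator_mem_commutator (hPN (P.1.inv_mem hu)) (N.inv_mem hg)
      simpa [commutatorElement_def, mul_assoc] using this
    have hcop : (orderOf u).Coprime (Finset.univ.filter (fun c => c ∈ fixedPoints (P : Subgroup G) (G ⧸ (P : Subgroup G)))).card := by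
      rw [he]
      refine Nat.Coprime.pow_left _ ((Fact.out : p.Prime).coprime_iff_not_dvd.2 fun hd => P.not_dvd_index ?_)
      have hmod := P.2.card_modEq_card_fixedPoints (G ⧸ (P : Subgroup G))
      rw [Subgroup.index_eq_card, Nat.dvd_iff_mod_eq_zero, hmod, ← Nat.dvd_iff_mod_eq_zero]
      rwa [Nat.card_eq_fintype_card, Fintype.card_subtype]
    have h1 : orderOf (φ ⟨u, hu⟩) = 1 :=
      Nat.eq_one_of_dvd_coprimes hcop ((orderOf_map_dvd φ _).trans (dvd_of_eq (Subgroup.orderOf_mk u hu)))
        (orderOf_dvd_of_pow_eq_one hV)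
    exact (hφ ⟨u, hu⟩).1 (orderOf_eq_one_iff.1 h1)

end Cfsg.Agent.S4216
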