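import Cfsg.Statements.S4217
import Cfsg.Agent.Lib.Cores.Gaschutz
import Mathlib.GroupTheory.Sylow
import Mathlib.Tactic

set_option autoImplicit false
open Cfsg

namespace Cfsg.Agent.S4217

open Subgroup

variable {G : Type*} [Group G] [Finite G] (A : Subgroup G) [A.Normal]

/-- The elements of `A` killed by `m`. -/
def killedBy (hA : IsMulCommutative A) (m : ℕ) : Subgroup G where
  carrier := {a | a ∈ A ∧ a ^ m = 1}
  one_mem' := ⟨one_mem _, one_pow m⟩
  mul_mem' := fun {a b} ha hb => ⟨mul_mem ha.1 hb.1, by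
    have hc : Commute a b := congrArg Subtype.val (hA.is_comm.comm (⟨a, ha.1⟩ : A) ⟨b, hb.1⟩)
    rw [hc.mul_pow, ha.2, hb.2, one_mul]⟩
  inv_mem' := fun {a} ha => ⟨inv_mem ha.1, by rw [inv_pow, ha.2, inv_one]⟩

theorem killedBy_normal (hA : IsMulCommutative A) (m : ℕ) : (killedBy A hA m).Normal :=
  ⟨fun a ha g => ⟨‹A.Normal›.conj_mem a ha.1 g, by rw [conj_pow, ha.2, mul_one, mul_inv_cancel]⟩⟩

/-- For one prime: a subgroup `L` of index at most `|A|_p` meeting `A` inside the `p'`-part. -/
theorem exists_for_prime (hA : IsMulCommutative A) {p : ℕ} (hp : p.Prime) {U K : Subgroup G} (hAU : A ≤ U)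
    (hd : K ⊓ A = ⊥) (hs : K ⊔ A = U) (hU : ¬ p ∣ U.index) :
    ∃ L : Subgroup G, L.index ≤ p ^ (Nat.card A).factorization p ∧
      L ⊓ A ≤ killedBy A hA (Nat.card A / p ^ (Nat.card A).factorization p) := by
  set v := (Nat.card A).factorization p
  set m := Nat.card A / p ^ v
  have hm : p ^ v * m = Nat.card A := Nat.ordProj_mul_ordCompl_eq_self _ _
  set B := killedBy A hA m with hB
  haveI : B.Normal := killedBy_normal A hA m
  let π := QuotientGroup.mk' B
  have hπ : Function.Surjective π := QuotientGroup.mk'_surjective B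
  have hBA : B ≤ A := fun a ha => ha.1
  haveI : IsMulCommutative A := hA
  haveI : (A.map π).Normal := ‹A.Normal›.map π hπ
  haveI : IsMulCommutative (A.map π) := ⟨⟨by
    rintro ⟨_, a, ha, rfl⟩ ⟨_, b, hb, rfl⟩
    apply Subtype.ext
    show π a * π b = π b * π a
    rw [← map_mul, ← map_mul, show a * b = b * a from congrArg Subtype.val (hA.is_comm.comm (⟨a, ha⟩ : A) ⟨b, hb⟩)]⟩⟩
  have hAp : IsPGroup p (A.map π) := by
    rintro ⟨_, a, ha, rfl⟩
    refine ⟨v, Subtype.ext ?_⟩
    show π a ^ p ^ v = 1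
    rw [← map_pow, QuotientGroup.mk'_apply, QuotientGroup.eq_one_iff]
    refine ⟨pow_mem ha _, ?_⟩
    rw [← pow_mul, hm]
    exact congrArg Subtype.val (pow_card_eq_one' (G := A) (x := ⟨a, ha⟩))
  haveI := Fact.mk hp
  obtain ⟨e, he⟩ := IsPGroup.iff_card.1 hAp
  have hcard : e ≤ v := by
    have h1 : Nat.card (A.map π) ∣ Nat.card A := card_map_dvd A π
    rw [he] at h1
    exact (hp.pow_dvd_iff_le_factorization Nat.card_pos.ne').1 h1
  have hKU : K ≤ U := hs ▸ le_sup_left
  have hd' : K.map π ⊓ A.map π = ⊥ := by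
    rw [eq_bot_iff]
    rintro _ ⟨⟨k, hk, rfl⟩, a, ha, hak⟩
    have h1 : a⁻¹ * k ∈ B := QuotientGroup.eq.1 hak
    have hkA : k ∈ A := by simpa using mul_mem ha (hBA h1)
    have : k = 1 := by
      have h2 : k ∈ K ⊓ A := ⟨hk, hkA⟩
      rwa [hd, mem_bot] at h2
    rw [mem_bot, this, map_one]
  have hs' : A.map π ⊔ K.map π = U.map π := by rw [← Subgroup.map_sup, sup_comm, hs]
  obtain ⟨H, hH⟩ := Cfsg.Agent.Lib.Cores.Gaschutz.exists_complement (K := A.map π) (U := U.map π) (A := K.map π)
    (map_mono hAU) (by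
      rw [he, index_map_eq U hπ (by rw [QuotientGroup.ker_mk']; exact hBA.trans hAU)]
      exact Nat.Coprime.pow_left e (hp.coprime_iff_not_dvd.2 hU)) hd' hs'
  refine ⟨H.comap π, ?_, ?_⟩
  · rw [index_comap_of_surjective _ hπ, hH.index_eq_card, he]
    exact Nat.pow_le_pow_right hp.pos hcard
  · rintro a ⟨haH, haA⟩
    have h1 : π a ∈ A.map π ⊓ H := ⟨mem_map_of_mem π haA, haH⟩
    rw [hH.disjoint.eq_bot, mem_bot, QuotientGroup.mk'_apply, QuotientGroup.eq_one_iff] at h1
    exact h1

/-- Let `A` be an abelian normal subgroup of the finite group `G`. Then `A` has a complement in `G` if and only if, for every prime `p` dividing the index of `A`, there are a Sylow `p`-subgroup `S` of `G/A` and a subgroup `K` of `G` with `K ∩ A = 1` and `KA` equal to the preimage of `S` (that is, `A` has a complement in the preimage of a Sylow `p`-subgroup of `G/A`). -/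
theorem result {G : Type*} [Group G] [Finite G] (A : Subgroup G) [A.Normal] (hA : IsMulCommutative A) : (∃ K : Subgroup G, K.IsComplement' A) ↔ ∀ p : ℕ, p.Prime → p ∣ A.index → ∃ (S : Sylow p (G ⧸ A)) (K : Subgroup G), K ⊓ A = ⊥ ∧ K ⊔ A = (S : Subgroup (G ⧸ A)).comap (QuotientGroup.mk' A) := by
  haveI := hA
  constructor
  · rintro ⟨K, hK⟩ p _ _
    refine ⟨default, K ⊓ (((default : Sylow p (G ⧸ A)) : Subgroup (G ⧸ A)).comap (QuotientGroup.mk' A)), ?_, ?_⟩
    · rw [eq_bot_iff, ← hK.disjoint.eq_bot]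
      exact inf_le_inf_right _ inf_le_left
    · refine le_antisymm (sup_le inf_le_right ?_) ?_
      · intro a ha
        rw [Subgroup.mem_comap, QuotientGroup.mk'_apply, (QuotientGroup.eq_one_iff a).2 ha]
        exact one_mem _
      · intro u hu
        obtain ⟨⟨⟨k, hk⟩, ⟨a, ha⟩⟩, h⟩ := hK.existsUnique u |>.exists
        have h' : k * a = u := h
        rw [← h']
        refine mul_mem (Subgroup.mem_sup_left ⟨hk, ?_⟩) (Subgroup.mem_sup_right ha)
        rw [SetLike.mem_coe, Subgroup.mem_comap, QuotientGroup.mk'_apply] at *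
        rw [← h', QuotientGroup.mk_mul, (QuotientGroup.eq_one_iff a).2 ha, mul_one] at hu
        exact hu
  · intro h
    classical
    have hex : ∀ p : (Nat.card A).primeFactors, ∃ L : Subgroup G,
        L.index ≤ (p : ℕ) ^ (Nat.card A).factorization p ∧
          L ⊓ A ≤ killedBy A hA (Nat.card A / (p : ℕ) ^ (Nat.card A).factorization p) := by
      rintro ⟨p, hp⟩
      have hp' := Nat.prime_of_mem_primeFactors hp
      haveI := Fact.mk hp'
      by_cases hpi : p ∣ A.index
      · obtain ⟨S, K, hd, hs⟩ := h p hp' hpi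
        refine exists_for_prime A hA hp' (U := _) ?_ hd hs ?_
        · rw [← hs]; exact le_sup_right
        · rw [Subgroup.index_comap_of_surjective _ (QuotientGroup.mk'_surjective A)]
          exact S.not_dvd_index
      · exact exists_for_prime A hA hp' (U := A) (K := ⊥) le_rfl (bot_inf_eq _) (bot_sup_eq _) hpi
    choose L hL1 hL2 using hex
    refine ⟨⨅ p, L p, ?_⟩
    have hdisj : (⨅ p, L p) ⊓ A = ⊥ := by
      rw [eq_bot_iff]
      rintro x ⟨hx, hxA⟩
      rw [Subgroup.mem_bot, ← orderOf_eq_one_iff]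
      by_contra hne
      obtain ⟨q, hq, hqx⟩ := Nat.exists_prime_and_dvd hne
      have hqA : q ∣ Nat.card A := hqx.trans (A.orderOf_dvd_natCard hxA)
      let q' : (Nat.card A).primeFactors := ⟨q, Nat.mem_primeFactors.2 ⟨hq, hqA, Nat.card_pos.ne'⟩⟩
      have hmem : x ∈ L q' ⊓ A := ⟨(Subgroup.mem_iInf.1 hx) q', hxA⟩
      exact Nat.not_dvd_ordCompl hq Nat.card_pos.ne'
        (hqx.trans (orderOf_dvd_of_pow_eq_one (hL2 q' hmem).2))
    have hidx : (⨅ p, L p).index ≤ Nat.card A := by
      refine (Subgroup.index_iInf_le L).trans ((Finset.prod_le_prod' fun p _ => hL1 p).trans (le_of_eq ?_))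
      rw [Finset.prod_coe_sort (f := fun p : ℕ => p ^ (Nat.card A).factorization p)]
      exact (by rfl : ∏ p ∈ (Nat.card A).primeFactors, p ^ (Nat.card A).factorization p =
        (Nat.card A).factorization.prod (· ^ ·)).trans (Nat.prod_factorization_pow_eq_self Nat.card_pos.ne')
    set H := ⨅ p, L p
    have hinj : Function.Injective (fun x : H × A => (x.1 : G) * (x.2 : G)) :=
      Subgroup.mul_injective_of_disjoint (disjoint_iff.2 hdisj)
    refine ((Nat.bijective_iff_injective_and_card _).2 ⟨hinj, ?_⟩)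
    refine le_antisymm (Nat.card_le_card_of_injective _ hinj) ?_
    rw [Nat.card_prod, ← H.card_mul_index]
    exact Nat.mul_le_mul_left _ hidx

end Cfsg.Agent.S4217
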