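import Cfsg.Statements.S4219
import Mathlib.GroupTheory.GroupAction.MultipleTransitivity
import Mathlib.GroupTheory.Sylow
import Mathlib.Tactic.Group

set_option autoImplicit false
open Cfsg

namespace Cfsg.Agent.S4219

lemma isPGroup_conj {G : Type*} [Group G] {p : ℕ} {Q : Subgroup G} (h : IsPGroup p Q) (g : G) :
    IsPGroup p (Q.map (MulAut.conj g).toMonoidHom) := h.map _

/-- Two conjugate `p`-subgroups of `S`, one of them Sylow in a conjugate of `S`, are conjugate in `S`. -/
lemma exists_conj_in_stabilizer {G : Type*} [Group G] [Finite G] {p : ℕ} [Fact p.Prime] {S Q R : Subgroup G}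
    (hQ : Q ≤ S) (hR : R ≤ S) (hQp : IsPGroup p Q) (hcard : Nat.card Q = Nat.card R)
    (hidx : ¬ p ∣ Q.relIndex S) : ∃ s ∈ S, Q.map (MulAut.conj s).toMonoidHom = R := by
  have hQ' : IsPGroup p (Q.subgroupOf S) := hQp.comap_subtype
  let Qs : Sylow p S := hQ'.toSylow hidx
  have hRp : IsPGroup p R := by
    obtain ⟨k, hk⟩ := IsPGroup.iff_card.1 hQp
    exact IsPGroup.of_card (n := k) (hcard ▸ hk)
  obtain ⟨Rs, hRs⟩ := (hRp.comap_subtype (K := S)).exists_le_sylow
  obtain ⟨s, hs⟩ := MulAction.exists_smul_eq S Qs Rs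
  have hRsc : Nat.card (Rs : Subgroup S) = Nat.card R := by
    rw [← hcard, ← Nat.card_congr (Subgroup.subgroupOfEquivOfLe hQ).toEquiv]
    exact Nat.card_congr (Rs.equiv Qs).toEquiv
  have hReq : R.subgroupOf S = (Rs : Subgroup S) := by
    refine Subgroup.eq_of_le_of_card_ge hRs ?_
    rw [hRsc, Nat.card_congr (Subgroup.subgroupOfEquivOfLe hR).toEquiv]
  refine ⟨s, s.2, ?_⟩
  have : (Q.subgroupOf S).map (MulAut.conj s).toMonoidHom = R.subgroupOf S := by
    rw [hReq, ← hs, Sylow.coe_subgroup_smul]
    rfl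
  conv_lhs => rw [← Subgroup.map_subgroupOf_eq_of_le hQ]
  conv_rhs => rw [← Subgroup.map_subgroupOf_eq_of_le hR, ← this]
  rw [Subgroup.map_map, Subgroup.map_map]
  rfl

/-- Let a finite group `G` act `t`-fold transitively on a finite set, let `H` be the stabilizer of `t` distinct points and `P` a Sylow `p`-subgroup of `H`. Then the normalizer of `P` in `G` is `t`-fold transitive on the fixed points of `P`: any `t` distinct fixed points of `P` can be carried to any other `t` distinct fixed points of `P` by an element normalizing `P`. -/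
theorem result {G : Type*} [Group G] [Finite G] {α : Type*} [Fintype α] [MulAction G α] {t : ℕ} (hG : MulAction.IsMultiplyPretransitive G α t) (x : Fin t ↪ α) {p : ℕ} [Fact p.Prime] (P : Sylow p (MulAction.stabilizer G x)) (a b : Fin t ↪ α) (ha : ∀ i, a i ∈ MulAction.fixedPoints ((P : Subgroup (MulAction.stabilizer G x)).map (MulAction.stabilizer G x).subtype) α) (hb : ∀ i, b i ∈ MulAction.fixedPoints ((P : Subgroup (MulAction.stabilizer G x)).map (MulAction.stabilizer G x).subtype) α) : ∃ g ∈ Subgroup.normalizer ((((P : Subgroup (MulAction.stabilizer G x)).map (MulAction.stabilizer G x).subtype) : Subgroup G) : Set G), g • a = b := by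
  haveI : MulAction.IsPretransitive G (Fin t ↪ α) := hG
  set Q : Subgroup G := ((P : Subgroup (MulAction.stabilizer G x)).map (MulAction.stabilizer G x).subtype) with hQdef
  have hQp : IsPGroup p Q := P.2.map _
  have hmem : ∀ (c : Fin t ↪ α), (∀ i, c i ∈ MulAction.fixedPoints Q α) → Q ≤ MulAction.stabilizer G c := by
    intro c hc q hq
    rw [MulAction.mem_stabilizer_iff]
    ext i
    exact hc i ⟨q, hq⟩
  obtain ⟨g, hg⟩ := MulAction.exists_smul_eq G a b
  obtain ⟨u, hu⟩ := MulAction.exists_smul_eq G x b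
  set Y := MulAction.stabilizer G b
  have hQY : Q ≤ Y := hmem b hb
  have hQ1 : Q.map (MulAut.conj g).toMonoidHom ≤ Y := by
    rintro _ ⟨q, hq, rfl⟩
    rw [MulAction.mem_stabilizer_iff]
    have h1 : q • a = a := hmem a ha hq
    show (g * q * g⁻¹) • b = b
    rw [← hg, mul_smul, mul_smul, inv_smul_smul, h1]
  have hcard : Nat.card (Q.map (MulAut.conj g).toMonoidHom) = Nat.card Q :=
    Subgroup.card_map_of_injective (MulEquiv.injective _)
  have hidx : ¬ p ∣ (Q.map (MulAut.conj g).toMonoidHom).relIndex Y := by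
    have hXY : Nat.card Y = Nat.card (MulAction.stabilizer G x) :=
      Nat.card_congr (MulAction.stabilizerEquivStabilizer hu.symm).toEquiv.symm
    have h1 : (Q.map (MulAut.conj g).toMonoidHom).relIndex Y = (P : Subgroup (MulAction.stabilizer G x)).index := by
      apply Nat.eq_of_mul_eq_mul_left (Nat.card_pos (α := (P : Subgroup (MulAction.stabilizer G x))))
      rw [Subgroup.card_mul_index, ← hXY, ← Subgroup.card_mul_index
        ((Q.map (MulAut.conj g).toMonoidHom).subgroupOf Y), Subgroup.relIndex,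
        Nat.card_congr (Subgroup.subgroupOfEquivOfLe hQ1).toEquiv, hcard,
        Subgroup.card_map_of_injective (MulAction.stabilizer G x).subtype_injective]
    rw [h1]; exact P.not_dvd_index
  obtain ⟨s, hs, hsq⟩ := exists_conj_in_stabilizer hQ1 hQY (isPGroup_conj hQp g) hcard hidx
  refine ⟨s * g, ?_, by rw [mul_smul, hg]; exact hs⟩
  rw [Subgroup.mem_normalizer_iff]
  intro q
  have hQ2 : Q.map (MulAut.conj (s * g)).toMonoidHom = Q := by
    refine Eq.trans ?_ hsq
    rw [Subgroup.map_map Q]
    exact congrArg (fun f => Q.map f) (MonoidHom.ext fun z => by simp)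
  constructor
  · intro hq
    rw [← hQ2]
    exact ⟨q, hq, rfl⟩
  · intro hq
    rw [← hQ2] at hq
    obtain ⟨r, hr, he⟩ := hq
    rwa [← (MulAut.conj (s * g)).injective he]

end Cfsg.Agent.S4219
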