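import Cfsg.Statements.S4220
import Mathlib
import Cfsg.Agent.S0713

set_option autoImplicit false
open Cfsg

namespace Cfsg.Agent.S4220

set_option maxHeartbeats 4000000
set_option linter.all false
open Equiv commutatorElement Pointwise

universe u

variable {α : Type u} [Fintype α] [DecidableEq α]

omit [Fintype α] [DecidableEq α] in
theorem inv_app (f : Perm α) (x : α) : f⁻¹ (f x) = x := Perm.inv_eq_iff_eq.mpr rfl

omit [Fintype α] [DecidableEq α] in
theorem app_inv (f : Perm α) (x : α) : f (f⁻¹ x) = x := Equiv.apply_symm_apply f x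

/-- A double transposition as a commutator. -/
theorem dbl_eq {a b c d : α} (h1 : a ≠ b) (h2 : a ≠ c) (h3 : a ≠ d) (h4 : b ≠ c) (h5 : b ≠ d)
    (h6 : c ≠ d) :
    ⁅swap a b * swap a c, swap a b * swap a d⁆ = swap a b * swap c d := by
  have g1 := Ne.symm h1; have g2 := Ne.symm h2; have g3 := Ne.symm h3
  have g4 := Ne.symm h4; have g5 := Ne.symm h5; have g6 := Ne.symm h6
  simp only [commutatorElement_def, mul_inv_rev, swap_inv]
  ext x
  simp only [Perm.mul_apply]
  by_cases ha : x = a
  · simp only [ha, swap_apply_left, swap_apply_right, swap_apply_of_ne_of_ne, ne_eq, not_false_eq_true, *]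
  by_cases hb : x = b
  · simp only [hb, swap_apply_left, swap_apply_right, swap_apply_of_ne_of_ne, ne_eq, not_false_eq_true, *]
  by_cases hc : x = c
  · simp only [hc, swap_apply_left, swap_apply_right, swap_apply_of_ne_of_ne, ne_eq, not_false_eq_true, *]
  by_cases hd : x = d
  · simp only [hd, swap_apply_left, swap_apply_right, swap_apply_of_ne_of_ne, ne_eq, not_false_eq_true, *]
  simp only [swap_apply_of_ne_of_ne, ne_eq, not_false_eq_true, *]

/-- Three-cycles are commutators. -/
theorem three_mem_commutator {g : Perm α} (hg : g.IsThreeCycle) :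
    g ∈ ⁅(⊤ : Subgroup (Perm α)), (⊤ : Subgroup (Perm α))⁆ := by
  have h := hg.isThreeCycle_sq
  obtain ⟨a, b, c, hab, hac, hbc, habc⟩ :=
    Finset.card_eq_three.mp h.card_support
  have key : ∀ a b c : α,
      ⁅swap a b, swap a c⁆ = (swap a b * swap a c) * (swap a b * swap a c) := fun a b c => by
    simp [commutatorElement_def, mul_assoc]
  -- `g` is the square of its square
  have hg4 : g = (g * g) * (g * g) := by
    have : g ^ 3 = 1 := hg.orderOf ▸ pow_orderOf_eq_one g
    calc g = g ^ 3 * g := by rw [this, one_mul]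
      _ = (g * g) * (g * g) := by simp [pow_succ, mul_assoc]
  obtain ⟨x, hx⟩ : ∃ x, (g * g) x ≠ x := ⟨a, by
    rw [← Perm.mem_support, habc]; simp⟩
  set f := g * g with hf
  have h2 : f (f x) ≠ x := fun e => by
    have h3 := h.orderOf ▸ pow_orderOf_eq_one f
    have e3 : f (f (f x)) = x := by
      calc f (f (f x)) = (f ^ 3) x := rfl
        _ = x := by rw [h3]; rfl
    rw [e] at e3
    exact hx e3
  have hsup : f.support = {x, f x, f (f x)} := by
    refine (Finset.eq_of_subset_of_card_le ?_ ?_).symm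
    · intro y hy
      simp only [Finset.mem_insert, Finset.mem_singleton] at hy
      rcases hy with rfl | rfl | rfl <;>
        simp only [Perm.mem_support, ne_eq, EmbeddingLike.apply_eq_iff_eq] <;> exact hx
    · rw [h.card_support, Finset.card_eq_three.mpr ⟨x, f x, f (f x), Ne.symm hx, Ne.symm h2,
        fun e => hx (f.injective e).symm, rfl⟩]
  have hfs : f = swap x (f (f x)) * swap x (f x) := by
    refine Equiv.ext fun y => ?_
    simp only [Perm.mul_apply]
    by_cases h1 : y = x
    · rw [h1, swap_apply_left, swap_apply_of_ne_of_ne hx (fun e => hx (f.injective e).symm)]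
    by_cases h3 : y = f x
    · rw [h3, swap_apply_right, swap_apply_left]
    by_cases h4 : y = f (f x)
    · rw [h4, swap_apply_of_ne_of_ne h2 (fun e => hx (f.injective e)), swap_apply_right]
      have h3 := h.orderOf ▸ pow_orderOf_eq_one f
      calc f (f (f x)) = (f ^ 3) x := rfl
        _ = x := by rw [h3]; rfl
    rw [swap_apply_of_ne_of_ne h1 h3, swap_apply_of_ne_of_ne h1 h4]
    rw [← Perm.notMem_support, hsup]
    simp [h1, h3, h4]
  rw [hg4, hfs, ← key]
  exact Subgroup.commutator_mem_commutator trivial trivial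

theorem alternating_le_commutator :
    alternatingGroup α ≤ ⁅(⊤ : Subgroup (Perm α)), (⊤ : Subgroup (Perm α))⁆ := by
  rw [← Equiv.Perm.closure_three_cycles_eq_alternating, Subgroup.closure_le]
  exact fun g hg => three_mem_commutator hg

theorem dbl_mem_commutator_alternating {a b c d : α} (h1 : a ≠ b) (h2 : a ≠ c) (h3 : a ≠ d)
    (h4 : b ≠ c) (h5 : b ≠ d) (h6 : c ≠ d) :
    swap a b * swap c d ∈ ⁅alternatingGroup α, alternatingGroup α⁆ := by
  rw [← dbl_eq h1 h2 h3 h4 h5 h6]
  exact Subgroup.commutator_mem_commutator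
    (Perm.isThreeCycle_swap_mul_swap_same h1 h2 h4).mem_alternatingGroup
    (Perm.isThreeCycle_swap_mul_swap_same h1 h3 h5).mem_alternatingGroup

section Group

variable (G : Subgroup (Perm α)) {m : ℕ}

theorem exists_map (hm : MulAction.IsMultiplyPretransitive G α m) {ι : Type} [Fintype ι]
    (hι : Fintype.card ι ≤ m) (hmα : m ≤ Fintype.card α) (f g : ι → α)
    (hf : Function.Injective f) (hg : Function.Injective g) :
    ∃ x ∈ G, ∀ i, x (f i) = g i := by
  haveI := hm
  haveI : MulAction.IsMultiplyPretransitive G α (Fintype.card ι) :=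
    MulAction.isMultiplyPretransitive_of_le (n := m) hι (by rwa [Nat.card_eq_fintype_card])
  let e := (Fintype.equivFin ι).symm
  obtain ⟨x, hx⟩ := MulAction.exists_smul_eq G (⟨f ∘ e, hf.comp e.injective⟩ : Fin _ ↪ α)
    ⟨g ∘ e, hg.comp e.injective⟩
  refine ⟨x, x.2, fun i => ?_⟩
  have := congrArg (fun z : Fin (Fintype.card ι) ↪ α => z (e.symm i)) hx
  simp only [Function.Embedding.smul_apply] at this
  simpa [Subgroup.smul_def, Perm.smul_def] using this

variable {G} (h4 : MulAction.IsMultiplyPretransitive G α 4) (hn : 5 ≤ Fintype.card α)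

include h4 hn

theorem isPreprimitive_of_four : MulAction.IsPreprimitive G α := by
  haveI := h4
  haveI : MulAction.IsMultiplyPretransitive G α 2 :=
    MulAction.isMultiplyPretransitive_of_le (n := 4) (by norm_num)
      (by rw [Nat.card_eq_fintype_card]; omega)
  exact MulAction.isPreprimitive_of_is_two_pretransitive inferInstance

theorem le_of_three {g : Perm α} (hg : g ∈ G) (h : g.IsThreeCycle) : alternatingGroup α ≤ G :=
  Equiv.Perm.alternatingGroup_le_of_isPreprimitive_of_isThreeCycle_mem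
    (isPreprimitive_of_four h4 hn) h hg

theorem le_of_double {a b c d : α} (h1 : a ≠ b) (h2 : a ≠ c) (h3 : a ≠ d) (h4' : b ≠ c)
    (h5 : b ≠ d) (h6 : c ≠ d) (hg : swap a b * swap c d ∈ G) : alternatingGroup α ≤ G := by
  obtain ⟨e, he⟩ : ∃ e, e ∉ ({a, b, c, d} : Finset α) := by
    by_contra h
    push Not at h
    have : Finset.univ ⊆ ({a, b, c, d} : Finset α) := fun x _ => h x
    have h' := (Finset.card_le_card this).trans Finset.card_le_four
    rw [Finset.card_univ] at h'
    omega
  simp only [Finset.mem_insert, Finset.mem_singleton, not_or] at he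
  obtain ⟨hea, heb, hec, hed⟩ := he
  obtain ⟨x, hx, hxi⟩ := exists_map G h4 (ι := Fin 4) (by simp) (by omega) ![a, b, c, d]
    ![a, b, c, e] (by intro i j; fin_cases i <;> fin_cases j <;> simp [*, Ne.symm, eq_comm])
    (by intro i j; fin_cases i <;> fin_cases j <;>
      simp [*, Ne.symm h1, Ne.symm h2, Ne.symm h4', Ne.symm hea, Ne.symm heb, Ne.symm hec])
  have e0 : x a = a := hxi 0
  have e1 : x b = b := hxi 1
  have e2 : x c = c := hxi 2
  have e3 : x d = e := hxi 3
  have hconj : x * (swap a b * swap c d) * x⁻¹ = swap a b * swap c e := by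
    rw [← mul_assoc x, Equiv.mul_swap_eq_swap_mul x a b, mul_assoc (swap (x a) (x b)) x,
      Equiv.mul_swap_eq_swap_mul x c d, e0, e1, e2, e3]
    group
  have hg' : swap a b * swap c e ∈ G := hconj ▸ mul_mem (mul_mem hx hg) (inv_mem hx)
  have hdis : Commute (swap c d) (swap a b) := by
    refine Equiv.Perm.Disjoint.commute fun z => ?_
    by_cases hzc : z = c
    · exact Or.inr (swap_apply_of_ne_of_ne (hzc ▸ Ne.symm h2) (hzc ▸ Ne.symm h4'))
    by_cases hzd : z = d
    · exact Or.inr (swap_apply_of_ne_of_ne (hzd ▸ Ne.symm h3) (hzd ▸ Ne.symm h5))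
    exact Or.inl (swap_apply_of_ne_of_ne hzc hzd)
  refine le_of_three h4 hn (mul_mem hg hg') ?_
  have : swap a b * swap c d * (swap a b * swap c e) = swap c d * swap c e := by
    rw [mul_assoc (swap a b), ← mul_assoc (swap c d), hdis.eq, ← mul_assoc, ← mul_assoc,
      swap_mul_self, one_mul]
  rw [this]
  exact Perm.isThreeCycle_swap_mul_swap_same h6 (Ne.symm hec) (Ne.symm hed)

theorem le_of_swap {a b : α} (hab : a ≠ b) (hg : swap a b ∈ G) : alternatingGroup α ≤ G := by
  rw [Equiv.Perm.subgroup_eq_top_of_isPreprimitive_of_isSwap_mem (isPreprimitive_of_four h4 hn)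
    _ ⟨a, b, hab, rfl⟩ hg]
  exact le_top

theorem le_of_invol {t : Perm α} (ht : t ∈ G) (ht2 : t * t = 1) (ht1 : t ≠ 1)
    (hs : t.support.card ≤ 4) : alternatingGroup α ≤ G := by
  have htt : ∀ z, t (t z) = z := fun z => Equiv.congr_fun ht2 z
  obtain ⟨a, ha⟩ : ∃ a, t a ≠ a := by
    by_contra h
    push Not at h
    exact ht1 (Equiv.ext h)
  by_cases h1 : ∀ z, z ≠ a → z ≠ t a → t z = z
  · have : t = swap a (t a) := Equiv.ext fun z => by
      by_cases hza : z = a
      · rw [hza, swap_apply_left]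
      by_cases hzb : z = t a
      · rw [hzb, swap_apply_right, htt]
      rw [swap_apply_of_ne_of_ne hza hzb, h1 z hza hzb]
    exact le_of_swap h4 hn (Ne.symm ha) (this ▸ ht)
  push Not at h1
  obtain ⟨c, hca, hcb, hc⟩ := h1
  have hda : t c ≠ a := fun e => hcb (by rw [← e, htt])
  have hdb : t c ≠ t a := fun e => hca (t.injective e)
  have hsub : ({a, t a, c, t c} : Finset α) ⊆ t.support := fun z hz => by
    simp only [Finset.mem_insert, Finset.mem_singleton] at hz
    rcases hz with rfl | rfl | rfl | rfl <;> rw [Perm.mem_support]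
    · exact ha
    · rw [htt]; exact Ne.symm ha
    · exact hc
    · rw [htt]; exact Ne.symm hc
  have hcard : ({a, t a, c, t c} : Finset α).card = 4 := by
    rw [Finset.card_insert_of_notMem, Finset.card_insert_of_notMem, Finset.card_insert_of_notMem,
      Finset.card_singleton]
    · simp [Ne.symm hc]
    · simp [Ne.symm hcb, Ne.symm hdb]
    · simp [Ne.symm ha, Ne.symm hca, Ne.symm hda]
  have hsupp := Finset.eq_of_subset_of_card_le hsub (by omega)
  have : t = swap a (t a) * swap c (t c) := Equiv.ext fun z => by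
    rw [Perm.mul_apply]
    by_cases hza : z = a
    · rw [hza, swap_apply_of_ne_of_ne (Ne.symm hca) (Ne.symm hda), swap_apply_left]
    by_cases hzb : z = t a
    · rw [hzb, swap_apply_of_ne_of_ne (Ne.symm hcb) (Ne.symm hdb), swap_apply_right, htt]
    by_cases hzc : z = c
    · rw [hzc, swap_apply_left, swap_apply_of_ne_of_ne hda hdb]
    by_cases hzd : z = t c
    · rw [hzd, swap_apply_right, htt, swap_apply_of_ne_of_ne hca hcb]
    rw [swap_apply_of_ne_of_ne hzc hzd, swap_apply_of_ne_of_ne hza hzb, ← Perm.notMem_support,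
      ← hsupp]
    simp [hza, hzb, hzc, hzd]
  exact le_of_double h4 hn (Ne.symm ha) (Ne.symm hca) (Ne.symm hda) (Ne.symm hcb) (Ne.symm hdb)
    (Ne.symm hc) (this ▸ ht)

end Group

section Witt

variable {G : Subgroup (Perm α)} {m p : ℕ} [Fact p.Prime]

/-- The subgroup fixing `R` pointwise. -/
def fixR (G : Subgroup (Perm α)) (R : Finset α) : Subgroup (Perm α) where
  carrier := {g | g ∈ G ∧ ∀ x ∈ R, g x = x}
  one_mem' := ⟨one_mem G, fun _ _ => rfl⟩
  mul_mem' := fun ha hb => ⟨mul_mem ha.1 hb.1, fun x hx => by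
    rw [Perm.mul_apply, hb.2 x hx, ha.2 x hx]⟩
  inv_mem' := fun ha => ⟨inv_mem ha.1, fun x hx => Perm.inv_eq_iff_eq.mpr (ha.2 x hx).symm⟩

theorem mem_fixR {R : Finset α} {g : Perm α} : g ∈ fixR G R ↔ g ∈ G ∧ ∀ x ∈ R, g x = x := Iff.rfl

/-- Witt: the normaliser of a Sylow subgroup of the stabiliser induces everything. -/
theorem witt (hm : MulAction.IsMultiplyPretransitive G α m) (R : Finset α) (hR : R.card ≤ m)
    (hmα : m ≤ Fintype.card α) (S : Sylow p (fixR G R)) (π : Perm R) :
    ∃ g ∈ G, g ∈ Subgroup.normalizer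
      (((S : Subgroup (fixR G R)).map (fixR G R).subtype : Subgroup (Perm α)) : Set (Perm α)) ∧
      ∀ x : R, g x = π x := by
  set P := (S : Subgroup (fixR G R)).map (fixR G R).subtype with hP
  have hPH : P ≤ (fixR G R) := Subgroup.map_subtype_le _
  haveI := hm
  haveI : MulAction.IsMultiplyPretransitive G α R.card :=
    MulAction.isMultiplyPretransitive_of_le (n := m) hR (by rwa [Nat.card_eq_fintype_card])
  let e := R.equivFin.symm
  obtain ⟨g₀, hg₀⟩ := MulAction.exists_smul_eq G
    (⟨fun i => (e i : α), Subtype.val_injective.comp e.injective⟩ : Fin R.card ↪ α)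
    ⟨fun i => (π (e i) : α), Subtype.val_injective.comp (π.injective.comp e.injective)⟩
  have hg : ∀ x : R, (g₀ : Perm α) x = π x := fun x => by
    have := congrArg (fun z : Fin R.card ↪ α => z (e.symm x)) hg₀
    simp only [Function.Embedding.smul_apply] at this
    simpa [Subgroup.smul_def, Perm.smul_def] using this
  set g : Perm α := (g₀ : Perm α) with hgdef
  set P' := P.map (MulAut.conj g⁻¹).toMonoidHom with hP'
  have hP'H : P' ≤ (fixR G R) := by
    rintro _ ⟨u, hu, rfl⟩
    refine ⟨?_, fun x hx => ?_⟩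
    · simpa using mul_mem (mul_mem (inv_mem g₀.2) (hPH hu).1) g₀.2
    · show (g⁻¹ * u * g⁻¹⁻¹) x = x
      rw [inv_inv, Perm.mul_apply, Perm.mul_apply, hg ⟨x, hx⟩, (hPH hu).2 _ (π ⟨x, hx⟩).2,
        ← hg ⟨x, hx⟩, Perm.inv_eq_iff_eq]
  have hPp : IsPGroup p P := S.2.map _
  have hP'p : IsPGroup p (P'.subgroupOf (fixR G R)) :=
    (hPp.map _).of_equiv (Subgroup.subgroupOfEquivOfLe hP'H).symm
  obtain ⟨S', hS'⟩ := hP'p.exists_le_sylow
  obtain ⟨h, hh⟩ := MulAction.exists_smul_eq (fixR G R) S' S
  set n : Perm α := g * (h : Perm α)⁻¹ with hn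
  refine ⟨n, mul_mem g₀.2 (inv_mem h.2.1), ?_, fun x => ?_⟩
  · have hle : P.map (MulAut.conj n⁻¹).toMonoidHom ≤ P := by
      rintro _ ⟨u, hu, rfl⟩
      have h1 : (⟨g⁻¹ * u * g⁻¹⁻¹, hP'H ⟨u, hu, rfl⟩⟩ : (fixR G R)) ∈ (S' : Subgroup (fixR G R)) :=
        hS' (by rw [Subgroup.mem_subgroupOf]; exact ⟨u, hu, rfl⟩)
      refine ⟨h * ⟨g⁻¹ * u * g⁻¹⁻¹, hP'H ⟨u, hu, rfl⟩⟩ * h⁻¹, ?_, ?_⟩
      · rw [← hh, Sylow.coe_subgroup_smul]
        exact Subgroup.smul_mem_pointwise_smul _ (MulAut.conj h) _ h1
      · show (h : Perm α) * (g⁻¹ * u * g⁻¹⁻¹) * (h : Perm α)⁻¹ = n⁻¹ * u * n⁻¹⁻¹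
        rw [hn]; group
    have heq : P.map (MulAut.conj n⁻¹).toMonoidHom = P := Subgroup.eq_of_le_of_card_ge hle
      (by rw [Subgroup.card_map_of_injective (f := (MulAut.conj n⁻¹).toMonoidHom) (MulEquiv.injective _)])
    have := Subgroup.mem_normalizer_iff_map_conj_eq.mpr heq
    have h2 := inv_mem this
    rwa [inv_inv] at h2
  · rw [hn, Perm.mul_apply, (inv_mem h.2 : (h : Perm α)⁻¹ ∈ (fixR G R)).2 x x.2, hg]

end Witt

section Orbits

/-- A p-group fixing `R` pointwise with orbits of size `p` elsewhere. -/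
structure Setting (p : ℕ) (P : Subgroup (Perm α)) (R : Finset α) : Prop where
  pgroup : IsPGroup p P
  fix : ∀ u ∈ P, ∀ x ∈ R, u x = x
  card : ∀ x ∉ R, Nat.card (MulAction.orbit P x) = p

variable {p : ℕ} [Fact p.Prime] {P : Subgroup (Perm α)} {R : Finset α} (hS : Setting p P R)

omit [Fintype α] [DecidableEq α] in
theorem mem_orb {u : Perm α} (hu : u ∈ P) (x : α) : u x ∈ MulAction.orbit P x :=
  ⟨⟨u, hu⟩, rfl⟩

include hS

omit [Fact p.Prime] in
theorem not_mem {x y : α} (hx : x ∉ R) (hy : y ∈ MulAction.orbit P x) : y ∉ R := by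
  obtain ⟨⟨u, hu⟩, rfl⟩ := hy
  intro h
  have h1 : u (u x) = u x := hS.fix u hu _ h
  have h2 : u x = x := u.injective h1
  exact hx (h2 ▸ h)

theorem period {u : Perm α} (hu : u ∈ P) {x : α} (hx : x ∉ R) (hux : u x ≠ x) :
    (∀ y ∈ MulAction.orbit P x, ∃ i : ℕ, (u ^ i) x = y) ∧ (u ^ p) x = x := by
  have hp : p.Prime := Fact.out
  set v : P := ⟨u, hu⟩
  have hsub : MulAction.orbit (Subgroup.zpowers v) x ⊆ MulAction.orbit P x := by
    rintro _ ⟨w, rfl⟩
    exact ⟨w, rfl⟩
  set c := Function.minimalPeriod (v • ·) x with hc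
  have hcard : Nat.card (MulAction.orbit (Subgroup.zpowers v) x) = c := by
    haveI := Fintype.ofFinite (MulAction.orbit (Subgroup.zpowers v) x)
    rw [Nat.card_eq_fintype_card, hc, MulAction.minimalPeriod_eq_card]
  have hcle : c ≤ p := by
    rw [← hcard, ← hS.card x hx]
    exact Nat.card_mono (Set.toFinite _) hsub
  have hc1 : c ≠ 1 := fun h1 => hux (Function.minimalPeriod_eq_one_iff_isFixedPt.mp h1)
  obtain ⟨j, hj⟩ := IsPGroup.iff_orderOf.mp hS.pgroup v
  have hcdvd : c ∣ p ^ j := by
    refine Function.IsPeriodicPt.minimalPeriod_dvd ?_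
    show (v • ·)^[p ^ j] x = x
    rw [smul_iterate_apply, ← hj, pow_orderOf_eq_one, one_smul]
  obtain ⟨i, -, hi⟩ := (Nat.dvd_prime_pow hp).mp hcdvd
  have hcp : c = p := by
    rcases Nat.lt_or_ge i 1 with h | h
    · interval_cases i
      exact absurd (by simpa using hi) hc1
    · refine le_antisymm hcle ?_
      rw [hi]
      exact Nat.le_self_pow (by omega) p
  have heq : MulAction.orbit (Subgroup.zpowers v) x = MulAction.orbit P x :=
    Set.eq_of_subset_of_ncard_le hsub (by
      show Nat.card _ ≤ Nat.card _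
      rw [hS.card x hx, hcard, hcp]) (Set.toFinite _)
  refine ⟨fun y hy => ?_, ?_⟩
  · rw [← heq] at hy
    obtain ⟨⟨w, hw⟩, rfl⟩ := hy
    obtain ⟨k, rfl⟩ := mem_powers_iff_mem_zpowers.mpr hw
    exact ⟨k, rfl⟩
  · have := Function.isPeriodicPt_minimalPeriod (v • ·) x
    rw [← hc, hcp] at this
    have h' : (v • ·)^[p] x = x := this
    rw [smul_iterate_apply] at h'
    exact h'

theorem exists_move {x : α} (hx : x ∉ R) : ∃ u ∈ P, u x ≠ x := by
  by_contra h
  push Not at h
  have : MulAction.orbit P x = {x} := by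
    refine Set.eq_singleton_iff_unique_mem.mpr ⟨MulAction.mem_orbit_self x, ?_⟩
    rintro _ ⟨w, rfl⟩
    exact h w w.2
  have hc := hS.card x hx
  rw [this, Nat.card_eq_fintype_card] at hc
  simp at hc
  exact (Fact.out : p.Prime).ne_one hc.symm

theorem fix_orbit {w : Perm α} (hw : w ∈ P) {x : α} (hx : x ∉ R) (hwx : w x = x) {y : α}
    (hy : y ∈ MulAction.orbit P x) : w y = y := by
  by_contra h
  have hxy : x ∈ MulAction.orbit P y := MulAction.mem_orbit_symm.mp hy
  obtain ⟨i, hi⟩ := (period hS hw (not_mem hS hx hy) h).1 x hxy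
  apply h
  -- `w` moves `y` along powers, so it cannot fix `x`
  have hpow : (w ^ i) x = x := by
    clear hi
    induction i with
    | zero => simp
    | succ i ih => rw [pow_succ, Perm.mul_apply, hwx, ih]
  have hyx : y = x := (w ^ i).injective (hi.trans hpow.symm)
  rw [hyx, hwx]

theorem agree {v w : Perm α} (hv : v ∈ P) (hw : w ∈ P) {x : α} (hx : x ∉ R) (h : v x = w x)
    {y : α} (hy : y ∈ MulAction.orbit P x) : v y = w y := by
  have h1 := fix_orbit hS (mul_mem (inv_mem hw) hv) hx
    (by rw [Perm.mul_apply, h, inv_app]) hy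
  rw [Perm.mul_apply, Perm.inv_eq_iff_eq] at h1
  exact h1

theorem agree_pow {v w : Perm α} (hv : v ∈ P) {x : α}
    (h : ∀ y ∈ MulAction.orbit P x, v y = w y) (i : ℕ) {y : α} (hy : y ∈ MulAction.orbit P x) :
    (v ^ i) y = (w ^ i) y := by
  induction i generalizing y with
  | zero => simp
  | succ i ih =>
    rw [pow_succ, Perm.mul_apply, pow_succ, Perm.mul_apply, ← h y hy]
    refine ih ?_
    obtain ⟨a, rfl⟩ := hy
    exact ⟨⟨v, hv⟩ * a, rfl⟩

/-- Each element is a power of a moving one on an orbit. -/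
theorem exists_pow_eq {u w : Perm α} (hu : u ∈ P) (hw : w ∈ P) {x : α} (hx : x ∉ R)
    (hux : u x ≠ x) : ∃ i : ℕ, ∀ y ∈ MulAction.orbit P x, w y = (u ^ i) y := by
  obtain ⟨i, hi⟩ := (period hS hu hx hux).1 (w x) (mem_orb hw x)
  exact ⟨i, fun y hy => agree hS hw (pow_mem hu i) hx hi.symm hy⟩

end Orbits

section Normalizer

variable {p : ℕ} [Fact p.Prime] {P : Subgroup (Perm α)} {R : Finset α} (hS : Setting p P R)

/-- The elements of the normaliser keeping every orbit. -/
def keep (P : Subgroup (Perm α)) (R : Finset α) (g : Perm α) : Prop :=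
  g ∈ Subgroup.normalizer (P : Set (Perm α)) ∧ ∀ x ∉ R, g x ∈ MulAction.orbit P x

omit [Fintype α] [DecidableEq α] in
theorem map_orbit {g : Perm α} (hg : g ∈ Subgroup.normalizer (P : Set (Perm α))) {x y : α}
    (hy : y ∈ MulAction.orbit P x) : g y ∈ MulAction.orbit P (g x) := by
  obtain ⟨⟨u, hu⟩, rfl⟩ := hy
  refine ⟨⟨g * u * g⁻¹, (Subgroup.mem_normalizer_iff.mp hg u).mp hu⟩, ?_⟩
  show (g * u * g⁻¹) (g x) = g (u x)
  simp [Perm.mul_apply]

include hS

theorem mem_R_iff {g : Perm α} (hg : g ∈ Subgroup.normalizer (P : Set (Perm α))) (x : α) :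
    g x ∈ R ↔ x ∈ R := by
  have key : ∀ h ∈ Subgroup.normalizer (P : Set (Perm α)), ∀ z ∈ R, h z ∈ R := by
    intro h hh z hz
    by_contra hn
    obtain ⟨u, hu, hmov⟩ := exists_move hS hn
    apply hmov
    have h1 := hS.fix (h⁻¹ * u * h⁻¹⁻¹)
      ((Subgroup.mem_normalizer_iff.mp (inv_mem hh) u).mp hu) z hz
    simp only [inv_inv, Perm.mul_apply, Perm.inv_eq_iff_eq] at h1
    exact h1
  refine ⟨fun h => ?_, key g hg x⟩
  simpa using key g⁻¹ (inv_mem hg) (g x) h

theorem exists_mult {g : Perm α} (hg : keep P R g) {x : α} (hx : x ∉ R) :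
    ∃ a : ℕ, ∀ u ∈ P, ∀ y ∈ MulAction.orbit P x, (g * u * g⁻¹) y = (u ^ a) y := by
  obtain ⟨u₀, hu₀, hmov⟩ := exists_move hS hx
  have hgu : g * u₀ * g⁻¹ ∈ P := (Subgroup.mem_normalizer_iff.mp hg.1 u₀).mp hu₀
  obtain ⟨a, ha⟩ := exists_pow_eq hS hu₀ hgu hx hmov
  refine ⟨a, fun u hu y hy => ?_⟩
  obtain ⟨i, hi⟩ := exists_pow_eq hS hu₀ hu hx hmov
  have hgy : g⁻¹ y ∈ MulAction.orbit P x := by
    have h1 := map_orbit (inv_mem hg.1) hy
    have h2 : g⁻¹ x ∈ MulAction.orbit P x := by
      have h3 := map_orbit (inv_mem hg.1) (hg.2 x hx)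
      rw [inv_app] at h3
      exact MulAction.mem_orbit_symm.mp h3
    rwa [MulAction.orbit_eq_iff.mpr h2] at h1
  calc (g * u * g⁻¹) y = g (u (g⁻¹ y)) := rfl
    _ = g ((u₀ ^ i) (g⁻¹ y)) := by rw [hi _ hgy]
    _ = ((g * u₀ * g⁻¹) ^ i) y := by rw [conj_pow]; rfl
    _ = ((u₀ ^ a) ^ i) y := agree_pow hS hgu ha i hy
    _ = ((u₀ ^ i) ^ a) y := by rw [← pow_mul, mul_comm, pow_mul]
    _ = (u ^ a) y := (agree_pow hS hu hi a hy).symm

/-- No nonidentity element is supported on a single orbit. -/
def NoSingle (P : Subgroup (Perm α)) : Prop :=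
  ∀ w ∈ P, ∀ x, (∀ y, y ∉ MulAction.orbit P x → w y = y) → w = 1

theorem exists_scalar (hsingle : NoSingle P) (hthree : ∀ a b c d : α, a ∉ R → b ∉ R → c ∉ R → d ∉ R →
      b ∈ MulAction.orbit P a ∨ c ∈ MulAction.orbit P a ∨ d ∈ MulAction.orbit P a ∨
        c ∈ MulAction.orbit P b ∨ d ∈ MulAction.orbit P b ∨ d ∈ MulAction.orbit P c)
    {g : Perm α} (hg : keep P R g) : ∃ a : ℕ, ∀ u ∈ P, g * u * g⁻¹ = u ^ a := by
  choose! A hA using fun x (hx : x ∉ R) => exists_mult hS hg hx
  have hmem : ∀ u ∈ P, ∀ a : ℕ, (u ^ a)⁻¹ * (g * u * g⁻¹) ∈ P := fun u hu a =>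
    mul_mem (inv_mem (pow_mem hu a)) ((Subgroup.mem_normalizer_iff.mp hg.1 u).mp hu)
  have hval : ∀ u ∈ P, ∀ a : ℕ, ∀ y, (g * u * g⁻¹) y = (u ^ a) y →
      ((u ^ a)⁻¹ * (g * u * g⁻¹)) y = y := fun u _ a y h => by
    rw [Perm.mul_apply, h, inv_app]
  have hR : ∀ u ∈ P, ∀ a : ℕ, ∀ y ∈ R, ((u ^ a)⁻¹ * (g * u * g⁻¹)) y = y := fun u hu a y hy =>
    hS.fix _ (hmem u hu a) y hy
  by_cases hex : ∃ w ∈ P, w ≠ 1 ∧ ∃ x, x ∉ R ∧ w x = x
  · obtain ⟨w, hw, hw1, x, hx, hwx⟩ := hex
    obtain ⟨y, hy⟩ : ∃ y, w y ≠ y := by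
      by_contra h
      push Not at h
      exact hw1 (Equiv.ext h)
    have hyR : y ∉ R := fun h => hy (hS.fix w hw y h)
    have hyx : y ∉ MulAction.orbit P x := fun h => hy (fix_orbit hS hw hx hwx h)
    obtain ⟨z, hzy, hz⟩ : ∃ z, z ∉ MulAction.orbit P y ∧ w z ≠ z := by
      by_contra h
      push Not at h
      exact hw1 (hsingle w hw y h)
    have hzR : z ∉ R := fun h => hz (hS.fix w hw z h)
    have hzx : z ∉ MulAction.orbit P x := fun h => hz (fix_orbit hS hw hx hwx h)
    have hcover : ∀ v ∉ R, v ∈ MulAction.orbit P x ∨ v ∈ MulAction.orbit P y ∨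
        v ∈ MulAction.orbit P z := by
      intro v hv
      rcases hthree x y z v hx hyR hzR hv with h | h | h | h | h | h
      exacts [absurd h hyx, absurd h hzx, Or.inl h, absurd h hzy, Or.inr (Or.inl h),
        Or.inr (Or.inr h)]
    -- `g w g⁻¹ = w ^ (A y)`
    have hwy : g * w * g⁻¹ = w ^ A y := by
      refine (inv_mul_eq_one.mp (hsingle _ (hmem w hw (A y)) z fun v hv => ?_)).symm
      by_cases hvR : v ∈ R
      · exact hR w hw _ v hvR
      rcases hcover v hvR with h | h | h
      · refine hval w hw _ v ?_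
        rw [hA x hx w hw v h]
        have hwv := fix_orbit hS hw hx hwx h
        have : ∀ i : ℕ, (w ^ i) v = v := fun i => by
          induction i with
          | zero => simp
          | succ i ih => rw [pow_succ, Perm.mul_apply, hwv, ih]
        rw [this, this]
      · exact hval w hw _ v (hA y hyR w hw v h)
      · exact absurd h hv
    refine ⟨A y, fun u hu => (inv_mul_eq_one.mp (hsingle _ (hmem u hu (A y)) x fun v hv => ?_)).symm⟩
    by_cases hvR : v ∈ R
    · exact hR u hu _ v hvR
    rcases hcover v hvR with h | h | h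
    · exact absurd h hv
    · exact hval u hu _ v (hA y hyR u hu v h)
    · refine hval u hu _ v ?_
      rw [hA z hzR u hu v h]
      obtain ⟨i, hi⟩ := exists_pow_eq hS hw hu hzR hz
      have hwz : ∀ v ∈ MulAction.orbit P z, (w ^ A z) v = (w ^ A y) v := fun v hv => by
        rw [← hA z hzR w hw v hv, hwy]
      rw [agree_pow hS hu hi (A z) h, agree_pow hS hu hi (A y) h, ← pow_mul, ← pow_mul,
        mul_comm i, mul_comm i, pow_mul, pow_mul,
        agree_pow hS (pow_mem hw _) hwz i h]
  · push Not at hex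
    by_cases hne : ∃ x, x ∉ R
    · obtain ⟨x, hx⟩ := hne
      refine ⟨A x, fun u hu => ?_⟩
      by_contra h
      refine hex _ (hmem u hu (A x)) (fun h1 => h (inv_mul_eq_one.mp h1).symm) x hx
        (hval u hu _ x (hA x hx u hu x (MulAction.mem_orbit_self x)))
    · push Not at hne
      exact ⟨0, fun u hu => Equiv.ext fun y => by
        rw [hS.fix _ ((Subgroup.mem_normalizer_iff.mp hg.1 u).mp hu) y (hne y), pow_zero,
          Perm.one_apply]⟩

/-- An element keeping the orbits and centralising `P` has p-th power supported on `R`. -/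
theorem pow_eq_ofSubtype {d : Perm α} (hd : keep P R d) (hc : ∀ u ∈ P, d * u * d⁻¹ = u)
    (τ : Perm R) (hτ : ∀ x : R, d x = τ x) : d ^ p = Perm.ofSubtype (τ ^ p) := by
  refine Equiv.ext fun y => ?_
  by_cases hy : y ∈ R
  · rw [Perm.ofSubtype_apply_of_mem _ hy]
    have : ∀ j : ℕ, ∀ x : R, (d ^ j) x = (τ ^ j) x := by
      intro j
      induction j with
      | zero => intro x; rfl
      | succ j ih => intro x; rw [pow_succ', Perm.mul_apply, ih, hτ]; rw [pow_succ', Perm.mul_apply]
    exact this p ⟨y, hy⟩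
  · rw [Perm.ofSubtype_apply_of_not_mem _ hy]
    obtain ⟨u, hu, hmov⟩ := exists_move hS hy
    obtain ⟨hgen, hper⟩ := period hS hu hy hmov
    obtain ⟨i, hi⟩ := hgen _ (hd.2 y hy)
    have hcomm : Commute d (u ^ i) := Commute.pow_right (mul_inv_eq_iff_eq_mul.mp (hc u hu)) i
    have : ∀ j : ℕ, (d ^ j) y = ((u ^ i) ^ j) y := by
      intro j
      induction j with
      | zero => rfl
      | succ j ih =>
        rw [pow_succ', Perm.mul_apply, ih, ← Perm.mul_apply, (hcomm.pow_right j).eq,
          Perm.mul_apply, ← hi, pow_succ, Perm.mul_apply]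
    rw [this, ← pow_mul, mul_comm, pow_mul]
    clear this hcomm hi
    induction i with
    | zero => rfl
    | succ i ih => rw [pow_succ, Perm.mul_apply, hper, ih]

end Normalizer

set_option maxHeartbeats 1000000 in
/-- No group of degree nine is four-fold transitive without containing the alternating group. -/
theorem nine {G : Subgroup (Perm α)} (h4 : MulAction.IsMultiplyPretransitive G α 4)
    (hn : Fintype.card α = 9) : alternatingGroup α ≤ G := by
  classical
  by_contra hA
  have hn5 : 5 ≤ Fintype.card α := by omega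
  have h5 : ¬ 5 ∣ Nat.card G := by
    intro h
    haveI : Fact (Nat.Prime 5) := ⟨by norm_num⟩
    obtain ⟨g, hg⟩ := exists_prime_orderOf_dvd_card' 5 h
    have ho : orderOf (g : Perm α) = 5 := by rw [Subgroup.orderOf_coe, hg]
    have hcyc : (g : Perm α).IsCycle :=
      Perm.isCycle_of_prime_order' (ho ▸ (by norm_num)) (by omega)
    exact hA (Cfsg.Agent.S0713.result G (isPreprimitive_of_four h4 hn5) (p := 5) (by norm_num) hn5
      (by omega) hcyc (hcyc.orderOf ▸ ho) g.2)
  obtain ⟨R, -, hRc⟩ := Finset.exists_subset_card_eq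
    (show 3 ≤ (Finset.univ : Finset α).card by rw [Finset.card_univ]; omega)
  obtain ⟨R2, hR2s, hR2c⟩ := Finset.exists_subset_card_eq (show 2 ≤ R.card by omega)
  -- orders
  have hH : fixR G R = (fixingSubgroup G (R : Set α)).map G.subtype := by
    ext g
    simp only [mem_fixR, Subgroup.mem_map, mem_fixingSubgroup_iff, Subgroup.coe_subtype]
    constructor
    · rintro ⟨hg, hf⟩
      exact ⟨⟨g, hg⟩, fun x hx => hf x hx, rfl⟩
    · rintro ⟨g, hf, rfl⟩
      exact ⟨g.2, fun x hx => hf x hx⟩
  have hH2 : fixR G R2 = (fixingSubgroup G (R2 : Set α)).map G.subtype := by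
    ext g
    simp only [mem_fixR, Subgroup.mem_map, mem_fixingSubgroup_iff, Subgroup.coe_subtype]
    constructor
    · rintro ⟨hg, hf⟩
      exact ⟨⟨g, hg⟩, fun x hx => hf x hx, rfl⟩
    · rintro ⟨g, hf, rfl⟩
      exact ⟨g.2, fun x hx => hf x hx⟩
  have hidx : ∀ (S : Finset α), S.card ≤ 4 →
      Nat.card G = Nat.card (fixingSubgroup G (S : Set α)) * ((Nat.choose 9 S.card) * S.card.factorial) := by
    intro S hS
    haveI := h4
    haveI : MulAction.IsMultiplyPretransitive G α S.card :=
      MulAction.isMultiplyPretransitive_of_le (n := 4) hS (by rw [Nat.card_eq_fintype_card]; omega)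
    have h := MulAction.IsMultiplyPretransitive.index_of_fixingSubgroup_eq (G := G) (S : Set α)
      (by rw [Set.ncard_coe_finset]; infer_instance)
    rw [Set.ncard_coe_finset, Nat.card_eq_fintype_card, hn] at h
    rw [← h, Subgroup.card_mul_index]
  have e3 := hidx R (by omega)
  have e2 := hidx R2 (by omega)
  rw [hRc, show Nat.choose 9 3 * Nat.factorial 3 = 504 by decide] at e3
  rw [hR2c, show Nat.choose 9 2 * Nat.factorial 2 = 72 by decide] at e2
  set H := fixR G R with hHdef
  set H2 := fixR G R2 with hH2def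
  have cH : Nat.card H = Nat.card (fixingSubgroup G (R : Set α)) := by
    rw [hH]; exact Subgroup.card_map_of_injective G.subtype_injective
  have cH2 : Nat.card H2 = Nat.card (fixingSubgroup G (R2 : Set α)) := by
    rw [hH2]; exact Subgroup.card_map_of_injective G.subtype_injective
  have e27 : Nat.card H2 = 7 * Nat.card H := by omega
  have d720 : Nat.card H ∣ 720 := by
    let f : H →* Perm {x // x ∉ R} :=
      { toFun := fun g => (g : Perm α).subtypePerm fun x => by
          constructor
          · intro hx h; exact hx ((g.2.2 x h).symm ▸ h)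
          · intro hx h
            refine hx ?_
            have := g.2.2 _ h
            rwa [(g : Perm α).injective this] at h
        map_one' := rfl
        map_mul' := fun a b => rfl }
    have hf : Function.Injective f := fun a b h => Subtype.ext (Equiv.ext fun x => by
      by_cases hx : x ∈ R
      · rw [a.2.2 x hx, b.2.2 x hx]
      · exact congrArg Subtype.val (Equiv.congr_fun h ⟨x, hx⟩))
    have := Subgroup.card_dvd_of_injective f hf
    rw [Nat.card_perm, Nat.card_eq_fintype_card (α := {x // x ∉ R}), Fintype.card_subtype_compl,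
      Fintype.card_coe, hn, hRc] at this
    exact this
  have h5H : ¬ 5 ∣ Nat.card H := fun h => h5 ((h.mul_right 504).trans (dvd_of_eq (by omega)))
  have h6H : 6 ≤ Nat.card H := by
    haveI := h4
    haveI : MulAction.IsMultiplyPretransitive (fixingSubgroup G (R : Set α))
        (SubMulAction.ofFixingSubgroup G (R : Set α)) 1 :=
      SubMulAction.ofFixingSubgroup.isMultiplyPretransitive (n := 4) G (R : Set α)
        (by rw [Set.ncard_coe_finset, hRc])
    haveI := MulAction.is_one_pretransitive_iff.mp this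
    have hcard : Nat.card (SubMulAction.ofFixingSubgroup G (R : Set α)) = 6 := by
      show Nat.card {x // x ∈ (R : Set α)ᶜ} = 6
      rw [Nat.card_coe_set_eq, Set.ncard_compl, Set.ncard_coe_finset, Nat.card_eq_fintype_card,
        hn, hRc]
    obtain ⟨x⟩ : Nonempty (SubMulAction.ofFixingSubgroup G (R : Set α)) :=
      (Nat.card_pos_iff.mp (by omega)).1
    have := MulAction.index_stabilizer_of_transitive (fixingSubgroup G (R : Set α)) x
    rw [cH]
    refine Nat.le_of_dvd Nat.card_pos ?_
    rw [← hcard, ← this]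
    exact Subgroup.index_dvd_card _
  have h4H : ¬ 4 ∣ Nat.card H := by
    intro h
    haveI : Fact (Nat.Prime 2) := ⟨Nat.prime_two⟩
    obtain ⟨T, hT⟩ := Sylow.exists_subgroup_card_pow_prime 2 (show 2 ^ 2 ∣ Nat.card H from h)
    -- some point outside `R` has nontrivial stabiliser in `T`
    obtain ⟨x, hxR, t, htT, ht1, htx⟩ : ∃ x, x ∉ R ∧ ∃ t ∈ T, t ≠ 1 ∧ (t : Perm α) x = x := by
      by_contra hno
      push Not at hno
      let act : MulAction T {x // x ∉ R} :=
        { smul := fun t x => ⟨((t : H) : Perm α) x, fun h => x.2 (by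
            have := (t : H).2.2 _ h
            rwa [((t : H) : Perm α).injective this] at h)⟩
          one_smul := fun x => rfl
          mul_smul := fun a b x => rfl }
      have hstab : ∀ x : {x // x ∉ R}, MulAction.stabilizer T x = ⊥ := fun x => by
        rw [Subgroup.eq_bot_iff_forall]
        intro t ht
        by_contra h1
        refine hno x.1 x.2 t.1 t.2 (fun e => h1 (Subtype.ext e)) ?_
        exact congrArg Subtype.val ht
      haveI := Fintype.ofFinite (Quotient (MulAction.orbitRel T {x // x ∉ R}))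
      have he := Nat.card_congr (MulAction.selfEquivOrbitsQuotientProd hstab)
      rw [Nat.card_prod, hT, Nat.card_eq_fintype_card, Fintype.card_subtype_compl,
        Fintype.card_coe, hn, hRc, Nat.card_eq_fintype_card] at he
      omega
    obtain ⟨j, -, hj⟩ := (Nat.dvd_prime_pow Nat.prime_two).mp
      ((Subgroup.orderOf_mk t htT ▸ orderOf_dvd_natCard (⟨t, htT⟩ : T)).trans (dvd_of_eq hT))
    have hj1 : 1 ≤ j := by
      rcases Nat.eq_zero_or_pos j with rfl | h0
      · exact absurd (orderOf_eq_one_iff.mp (by simpa using hj)) ht1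
      · exact h0
    set s : Perm α := ((t : Perm α)) ^ 2 ^ (j - 1) with hs
    have ho : orderOf (t : Perm α) = 2 ^ j := by rw [Subgroup.orderOf_coe]; exact hj
    have hs2 : s * s = 1 := by
      rw [hs, ← pow_add, ← two_mul, ← pow_succ', Nat.sub_add_cancel hj1, ← ho, pow_orderOf_eq_one]
    have hs1 : s ≠ 1 := by
      intro h1
      have := Nat.le_of_dvd (pow_pos (by norm_num) _) (orderOf_dvd_of_pow_eq_one h1)
      rw [ho] at this
      exact absurd this (not_le.mpr (Nat.pow_lt_pow_right (by norm_num) (by omega)))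
    have hfix : ∀ y ∈ insert x R, s y = y := by
      intro y hy
      have hty : (t : Perm α) y = y := by
        rcases Finset.mem_insert.mp hy with rfl | hy
        · exact htx
        · exact t.2.2 y hy
      exact Perm.pow_apply_eq_self_of_apply_eq_self hty _
    have hsup : s.support.card ≤ 5 := by
      have hsub : s.support ⊆ (insert x R)ᶜ := fun y hy => Finset.mem_compl.mpr fun h =>
        Perm.mem_support.mp hy (hfix y h)
      refine (Finset.card_le_card hsub).trans ?_
      rw [Finset.card_compl, Finset.card_insert_of_notMem hxR, hn, hRc]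
    have heven : 2 ∣ s.support.card := by
      rw [← Perm.sum_cycleType]
      refine Multiset.dvd_sum fun c hc => ?_
      have hd := Perm.dvd_of_mem_cycleType hc
      have hd2 : c ∣ 2 := hd.trans (orderOf_dvd_of_pow_eq_one (by rw [pow_two, hs2]))
      have := Perm.two_le_of_mem_cycleType hc
      have := Nat.le_of_dvd two_pos hd2
      exact dvd_of_eq (by omega)
    have hsG : s ∈ G := pow_mem t.2.1 _
    exact hA (le_of_invol h4 hn5 hsG hs2 hs1 (by omega))
  -- divisors
  have h18 : Nat.card H ∣ 18 := by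
    have hmem : Nat.card H ∈ (720 : ℕ).divisors := Nat.mem_divisors.mpr ⟨d720, by norm_num⟩
    revert hmem h4H h5H
    generalize Nat.card H = c
    intro h5 h4 hmem
    have hkey : ∀ c ∈ (720 : ℕ).divisors, ¬ 5 ∣ c → ¬ 4 ∣ c → c ∣ 18 := by decide +kernel
    exact hkey c hmem h5 h4
  haveI : Fact (Nat.Prime 7) := ⟨by norm_num⟩
  obtain ⟨Q⟩ : Nonempty (Sylow 7 H2) := inferInstance
  have h7 : (Nat.card H2).factorization 7 = 1 := by
    have h7H : ¬ 7 ∣ Nat.card H := fun h => by
      have := h.trans h18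
      norm_num at this
    rw [e27, Nat.factorization_mul (by norm_num) (by omega), Finsupp.add_apply,
      Nat.Prime.factorization_self (by norm_num), Nat.factorization_eq_zero_of_not_dvd h7H]
  have hQc : Nat.card Q = 7 := by rw [Q.card_eq_multiplicity, h7, pow_one]
  haveI hQn : (Q : Subgroup H2).Normal := by
    have h1 : Nat.card (Sylow 7 H2) ≡ 1 [MOD 7] := card_sylow_modEq_one 7 H2
    have h2 : Nat.card (Sylow 7 H2) ∣ Nat.card H := by
      have := Q.card_dvd_index
      have h3 := (Q : Subgroup H2).card_mul_index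
      rw [hQc, e27] at h3
      rwa [Nat.eq_of_mul_eq_mul_left (by norm_num) h3] at this
    have h3 : Nat.card (Sylow 7 H2) = 1 := by
      have hmem : Nat.card (Sylow 7 H2) ∈ (18 : ℕ).divisors :=
        Nat.mem_divisors.mpr ⟨h2.trans h18, by norm_num⟩
      revert hmem h1
      generalize Nat.card (Sylow 7 H2) = c
      intro h1 hmem
      have hkey : ∀ c ∈ (18 : ℕ).divisors, c % 7 = 1 % 7 → c = 1 := by decide +kernel
      exact hkey c hmem h1
    haveI := (Nat.card_eq_one_iff_unique.mp h3).1
    exact Q.normal_of_subsingleton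
  set P := (Q : Subgroup H2).map H2.subtype with hP
  have hPc : Nat.card P = 7 := by
    rw [hP, Subgroup.card_map_of_injective H2.subtype_injective]
    exact hQc
  set N := G ⊓ Subgroup.normalizer (P : Set (Perm α)) with hN
  have hle : H2 ≤ N := by
    intro g hg
    refine ⟨hg.1, Subgroup.mem_normalizer_iff.mpr fun u => ⟨?_, ?_⟩⟩
    · rintro ⟨v, hv, rfl⟩
      exact ⟨⟨g, hg⟩ * v * ⟨g, hg⟩⁻¹, hQn.conj_mem v hv _, rfl⟩
    · rintro ⟨v, hv, hve⟩
      refine ⟨⟨g, hg⟩⁻¹ * v * ⟨g, hg⟩⁻¹⁻¹, hQn.conj_mem v hv _, ?_⟩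
      show g⁻¹ * (v : Perm α) * g⁻¹⁻¹ = u
      rw [show (v : Perm α) = g * u * g⁻¹ from hve]
      group
  obtain ⟨a, b, hab, hR2⟩ := Finset.card_eq_two.mp hR2c
  obtain ⟨w, hwG, hwN, hwπ⟩ := witt h4 R2 (by omega) (by omega) Q
    (swap ⟨a, by simp [hR2]⟩ ⟨b, by simp [hR2]⟩)
  have hwH2 : w ∉ H2 := fun h => hab (by
    have := hwπ ⟨a, by simp [hR2]⟩
    rw [swap_apply_left, h.2 a (by simp [hR2])] at this
    exact this)
  have h84 : 84 ≤ Nat.card N := by
    have h1 : Nat.card H2 ∣ Nat.card N := Subgroup.card_dvd_of_le hle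
    have h2 : Nat.card H2 ≠ Nat.card N := fun h => hwH2 (by
      rw [Subgroup.eq_of_le_of_card_ge hle h.ge]
      exact ⟨hwG, hwN⟩)
    have h3 := Nat.le_of_dvd Nat.card_pos h1
    obtain ⟨c, hc⟩ := h1
    have : 2 ≤ c := by
      rcases Nat.lt_or_ge c 2 with hc2 | hc2
      · interval_cases c <;> simp_all
      · exact hc2
    rw [hc, e27]
    nlinarith
  -- the orbit of `P`
  obtain ⟨u0, hu0⟩ := Subgroup.bot_or_exists_ne_one P |>.resolve_left (fun h => by
    rw [h, Subgroup.card_bot] at hPc
    omega)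
  have hu07 : orderOf u0 = 7 := by
    have h1 := orderOf_dvd_natCard (⟨u0, hu0.1⟩ : P)
    rw [hPc, Subgroup.orderOf_mk] at h1
    exact ((Nat.dvd_prime (by norm_num)).mp h1).resolve_left
      (fun h => hu0.2 (orderOf_eq_one_iff.mp h))
  have hu0fix : ∀ x ∈ R2, u0 x = x := fun x hx => (Subgroup.map_subtype_le _ hu0.1).2 x hx
  have hcyc : u0.IsCycle := Perm.isCycle_of_prime_order' (hu07 ▸ (by norm_num)) (by omega)
  have hsupp : u0.support = R2ᶜ := by
    refine Finset.eq_of_subset_of_card_le (fun x hx => Finset.mem_compl.mpr fun h =>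
      Perm.mem_support.mp hx (hu0fix x h)) ?_
    rw [← hcyc.orderOf, hu07, Finset.card_compl, hn, hR2c]
  obtain ⟨x0, hx0⟩ : ∃ x0, x0 ∈ u0.support := by
    refine Finset.card_pos.mp ?_
    rw [← hcyc.orderOf, hu07]; norm_num
  have hgen : ∀ g ∈ P, ∃ i : Fin 7, u0 ^ (i : ℕ) = g := by
    intro g hg
    have hz : Subgroup.zpowers u0 = P := Subgroup.eq_of_le_of_card_ge
      (Subgroup.zpowers_le.mpr hu0.1) (by rw [Nat.card_zpowers, hu07, hPc])
    rw [← hz] at hg
    obtain ⟨k, rfl⟩ := mem_powers_iff_mem_zpowers.mpr hg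
    exact ⟨⟨k % 7, Nat.mod_lt _ (by norm_num)⟩, by
      show u0 ^ (k % 7) = u0 ^ k
      rw [← hu07, pow_mod_orderOf]⟩
  choose! idx hidx using hgen
  have hcj : ∀ n : N, (n : Perm α) * u0 * (n : Perm α)⁻¹ ∈ P := fun n =>
    (Subgroup.mem_normalizer_iff.mp n.2.2 u0).mp hu0.1
  have hnz : ∀ n : N, idx ((n : Perm α) * u0 * (n : Perm α)⁻¹) ∈ (Finset.univ : Finset (Fin 7)).erase 0 := by
    intro n
    refine Finset.mem_erase.mpr ⟨fun h => ?_, Finset.mem_univ _⟩
    have := hidx _ (hcj n)
    rw [h] at this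
    simp only [Fin.val_zero, pow_zero] at this
    exact hu0.2 (by rw [eq_comm, mul_inv_eq_one] at this; simpa using this)
  have hxn : ∀ n : N, (n : Perm α) x0 ∈ u0.support := by
    intro n
    by_contra h
    rw [Perm.notMem_support] at h
    have h1 := (Subgroup.mem_normalizer_iff.mp (inv_mem n.2.2) u0).mp hu0.1
    obtain ⟨i, hi⟩ : ∃ i : Fin 7, u0 ^ (i : ℕ) = (n : Perm α)⁻¹ * u0 * (n : Perm α)⁻¹⁻¹ :=
      ⟨_, hidx _ h1⟩
    have hfix : (u0 ^ (i : ℕ)) x0 = x0 := by
      rw [hi, inv_inv, Perm.mul_apply, Perm.mul_apply, h, inv_app]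
    have hdvd : (orderOf u0) ∣ (i : ℕ) := by
      rw [orderOf_dvd_iff_pow_eq_one, hcyc.pow_eq_one_iff' (Perm.mem_support.mp hx0)]
      exact hfix
    rw [hu07] at hdvd
    have hi0 : (i : ℕ) = 0 := Nat.eq_zero_of_dvd_of_lt hdvd i.2
    rw [hi0, pow_zero, inv_inv] at hi
    exact hu0.2 (by
      have := congrArg (fun z => (n : Perm α) * z * (n : Perm α)⁻¹) hi
      simpa [mul_assoc] using this.symm)
  let F : N → u0.support × ((Finset.univ : Finset (Fin 7)).erase 0 : Finset (Fin 7)) := fun n =>
    (⟨_, hxn n⟩, ⟨_, hnz n⟩)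
  have hF : Function.Injective F := by
    intro n n' h
    simp only [F, Prod.mk.injEq, Subtype.mk.injEq] at h
    have hu : (n : Perm α) * u0 * (n : Perm α)⁻¹ = (n' : Perm α) * u0 * (n' : Perm α)⁻¹ := by
      rw [← hidx _ (hcj n), ← hidx _ (hcj n'), h.2]
    set d := (n' : Perm α)⁻¹ * (n : Perm α) with hd
    have hdu : d * u0 = u0 * d := by
      have := congrArg (fun z => (n' : Perm α)⁻¹ * z * (n : Perm α)) hu
      simpa [hd, mul_assoc] using this
    have hdx : d x0 = x0 := by rw [hd, Perm.mul_apply, h.1, inv_app]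
    have hdC : ∀ x ∈ u0.support, d x = x := by
      intro x hx
      obtain ⟨i, hi⟩ := hcyc.exists_pow_eq (Perm.mem_support.mp hx0) (Perm.mem_support.mp hx)
      rw [← hi, ← Perm.mul_apply, ((show Commute d u0 from hdu).pow_right i).eq, Perm.mul_apply, hdx]
    by_contra hne
    have hd1 : d ≠ 1 := fun e => hne (Subtype.ext (inv_mul_eq_one.mp e).symm)
    have hsub : d.support ⊆ R2 := fun x hx => by
      by_contra h
      exact Perm.mem_support.mp hx (hdC x (hsupp ▸ Finset.mem_compl.mpr h))
    have h2 := Perm.two_le_card_support_of_ne_one hd1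
    have hd2 : d.support.card = 2 := le_antisymm ((Finset.card_le_card hsub).trans hR2c.le) h2
    obtain ⟨a', b', hab', hd'⟩ := Perm.card_support_eq_two.mp hd2
    exact hA (le_of_swap h4 hn5 hab' (hd' ▸ mul_mem (inv_mem n'.2.1) n.2.1))
  have h42 := Nat.card_le_card_of_injective F hF
  rw [Nat.card_prod, Nat.card_eq_finsetCard, Nat.card_eq_finsetCard,
    ← hcyc.orderOf, hu07] at h42
  rw [Finset.card_erase_of_mem (Finset.mem_univ _), Finset.card_univ, Fintype.card_fin] at h42
  omega


/-- Let `n = kp + r` with `p` prime, `1 ≤ k < p` and `r > k`, excluding the case `k = 1, r = 2`. Then a permutation group of degree `n` that is `(r + 1)`-fold transitive contains the alternating group. -/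
theorem result {α : Type*} [Fintype α] [DecidableEq α] (G : Subgroup (Equiv.Perm α)) {k p r : ℕ} (hp : p.Prime) (hn : Fintype.card α = k * p + r) (hk : 1 ≤ k) (hpk : k < p) (hrk : k < r) (hex : ¬ (k = 1 ∧ r = 2)) (hG : MulAction.IsMultiplyPretransitive G α (r + 1)) : alternatingGroup α ≤ G := by
  classical
  haveI : Fact p.Prime := ⟨hp⟩
  haveI := hG
  have hp2 := hp.two_le
  have hr : 2 ≤ r := by omega
  have hcard : p + r ≤ Fintype.card α := by rw [hn]; nlinarith
  -- small cases
  by_cases hsmall : Fintype.card α ≤ r + 3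
  · haveI : MulAction.IsMultiplyPretransitive G α (Nat.card α - 2) :=
      MulAction.isMultiplyPretransitive_of_le (n := r + 1)
        (by rw [Nat.card_eq_fintype_card]; omega) (by rw [Nat.card_eq_fintype_card]; omega)
    exact _root_.IsMultiplyPretransitive.alternatingGroup_le α G inferInstance
  have hp3 : 3 ≤ p := by
    by_contra h
    have : p = 2 := by omega
    subst this
    have : k = 1 := by omega
    subst this
    omega
  have hr3 : 3 ≤ r := by
    by_contra h
    exact hex ⟨by omega, by omega⟩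
  have h4 : MulAction.IsMultiplyPretransitive G α 4 :=
    MulAction.isMultiplyPretransitive_of_le (n := r + 1) (by omega)
      (by rw [Nat.card_eq_fintype_card]; omega)
  have hn5 : 5 ≤ Fintype.card α := by omega
  by_cases h9 : p = 3 ∧ r = 3
  · obtain ⟨rfl, rfl⟩ := h9
    have : k = 2 := by omega
    exact nine h4 (by omega)
  obtain ⟨R, -, hRc⟩ := Finset.exists_subset_card_eq
    (show r ≤ (Finset.univ : Finset α).card by rw [Finset.card_univ]; omega)
  obtain ⟨S⟩ : Nonempty (Sylow p (fixR G R)) := inferInstance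
  set P := (S : Subgroup (fixR G R)).map (fixR G R).subtype with hPdef
  have hPH : P ≤ fixR G R := Subgroup.map_subtype_le _
  have hcompl : Fintype.card {x // x ∉ R} = k * p := by
    rw [Fintype.card_subtype_compl, Fintype.card_coe, hRc, hn]; omega
  have hS : Setting p P R := by
    refine ⟨S.2.map _, fun u hu x hx => (hPH hu).2 x hx, fun x hx => ?_⟩
    letI act : MulAction (fixR G R) {y // y ∉ R} :=
      { smul := fun g y => ⟨(g : Perm α) y, fun h => y.2 (by
          have := g.2.2 _ h
          rwa [(g : Perm α).injective this] at h)⟩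
        one_smul := fun y => rfl
        mul_smul := fun a b y => rfl }
    haveI : MulAction.IsPretransitive (fixR G R) {y // y ∉ R} := ⟨fun y z => by
      obtain ⟨g, hg, hgi⟩ := exists_map G hG (ι := Option (Fin r)) (by simp) (by omega)
        (fun o => o.elim (y : α) fun i => ((R.equivFinOfCardEq hRc).symm i : α))
        (fun o => o.elim (z : α) fun i => ((R.equivFinOfCardEq hRc).symm i : α))
        (by
          rintro (_ | i) (_ | j) h <;> simp only [Option.elim] at h
          · rfl
          · exact absurd (h ▸ ((R.equivFinOfCardEq hRc).symm j).2) y.2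
          · exact absurd (h ▸ ((R.equivFinOfCardEq hRc).symm i).2) y.2
          · exact congrArg some ((R.equivFinOfCardEq hRc).symm.injective (Subtype.ext h)))
        (by
          rintro (_ | i) (_ | j) h <;> simp only [Option.elim] at h
          · rfl
          · exact absurd (h ▸ ((R.equivFinOfCardEq hRc).symm j).2) z.2
          · exact absurd (h ▸ ((R.equivFinOfCardEq hRc).symm i).2) z.2
          · exact congrArg some ((R.equivFinOfCardEq hRc).symm.injective (Subtype.ext h)))
      refine ⟨⟨g, hg, fun w hw => ?_⟩, Subtype.ext (hgi none)⟩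
      have := hgi (some (R.equivFinOfCardEq hRc ⟨w, hw⟩))
      simpa using this⟩
    have hOsub : ∀ y ∈ MulAction.orbit P x, y ∉ R := fun y hy h => by
      obtain ⟨u, rfl⟩ := hy
      have h1 : (u : Perm α) ((u : Perm α) x) = (u : Perm α) x := (hPH u.2).2 _ h
      exact hx ((u : Perm α).injective h1 ▸ h)
    obtain ⟨j, hj⟩ := (S.2.map (fixR G R).subtype).card_orbit x
    have hj' : Nat.card (MulAction.orbit P x) = p ^ j := hj
    have hle : p ^ j ≤ k * p := by
      rw [← hj', ← hcompl, ← Nat.card_eq_fintype_card]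
      exact Nat.card_le_card_of_injective (fun y => ⟨y.1, hOsub _ y.2⟩)
        (fun a b h => Subtype.ext (congrArg Subtype.val h :))
    have hj2 : j < 2 := by
      by_contra h
      have : p ^ 2 ≤ p ^ j := Nat.pow_le_pow_right hp.pos (by omega)
      nlinarith
    have hj0 : j ≠ 0 := by
      intro h
      subst h
      -- then `P` fixes `x`, but the stabiliser of `x` has index `k * p`
      have hidx := MulAction.index_stabilizer_of_transitive (fixR G R) (⟨x, hx⟩ : {y // y ∉ R})
      rw [Nat.card_eq_fintype_card, hcompl] at hidx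
      have hle' : (S : Subgroup (fixR G R)) ≤
          MulAction.stabilizer (fixR G R) (⟨x, hx⟩ : {y // y ∉ R}) := by
        intro s hs
        have h1 : ((s : Perm α)) x ∈ MulAction.orbit P x :=
          ⟨⟨(s : Perm α), Subgroup.mem_map_of_mem _ hs⟩, rfl⟩
        haveI : Subsingleton (MulAction.orbit P x) :=
          (Nat.card_eq_one_iff_unique.mp (hj'.trans (pow_zero p))).1
        refine Subtype.ext ?_
        show (s : Perm α) x = x
        exact congrArg Subtype.val
          (Subsingleton.elim (⟨_, h1⟩ : MulAction.orbit P x) ⟨x, MulAction.mem_orbit_self x⟩)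
      refine S.not_dvd_index ((dvd_mul_left p k).trans ?_)
      rw [← hidx]
      exact Subgroup.index_dvd_of_le hle'
    rw [hj', show j = 1 by omega, pow_one]
  -- a nonidentity element moving one orbit only is a cycle
  by_cases hsingle : NoSingle P
  swap
  · simp only [NoSingle, not_forall] at hsingle
    obtain ⟨w, hw, x, hwx, hw1⟩ := hsingle
    have hxR : x ∉ R := fun h => hw1 (Equiv.ext fun y => by
      by_cases hy : y ∈ MulAction.orbit P x
      · obtain ⟨u, rfl⟩ := hy
        have : (u : Perm α) x = x := hS.fix u u.2 x h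
        show w ((u : Perm α) x) = (1 : Perm α) ((u : Perm α) x)
        rw [Perm.one_apply, this]
        exact hS.fix w hw x h
      · exact hwx y hy)
    obtain ⟨y, hy⟩ : ∃ y, w y ≠ y := by
      by_contra h
      push Not at h
      exact hw1 (Equiv.ext h)
    have hyx : y ∈ MulAction.orbit P x := by
      by_contra h
      exact hy (hwx y h)
    have hwp : w ^ p = 1 := Equiv.ext fun z => by
      by_cases hz : z ∈ MulAction.orbit P x ∧ w z ≠ z
      · exact (period hS hw (not_mem hS hxR hz.1) hz.2).2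
      · have hwz : w z = z := by
          by_contra hh
          exact hz ⟨by_contra fun h' => hh (hwx z h'), hh⟩
        exact Perm.pow_apply_eq_self_of_apply_eq_self hwz p
    have hord : orderOf w = p :=
      ((Nat.dvd_prime hp).mp (orderOf_dvd_of_pow_eq_one hwp)).resolve_left
        (fun h => hw1 (orderOf_eq_one_iff.mp h))
    have hsupp : w.support.card ≤ p := by
      rw [← hS.card x hxR, Nat.card_coe_set_eq,
        ← Set.ncard_coe_finset]
      exact Set.ncard_le_ncard (fun z hz => by_contra fun h =>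
        Perm.mem_support.mp (Finset.mem_coe.mp hz) (hwx z h)) (Set.toFinite _)
    have hcyc : w.IsCycle := Perm.isCycle_of_prime_order (hord ▸ hp) (by omega)
    exact Cfsg.Agent.S0713.result G (isPreprimitive_of_four h4 hn5) hp hn5 (by omega) hcyc
      (hcyc.orderOf ▸ hord) (hPH hw).1
  -- the normaliser
  set N := G ⊓ Subgroup.normalizer (P : Set (Perm α)) with hN
  let ψ : N →* Perm R :=
    { toFun := fun g => (g : Perm α).subtypePerm fun x => mem_R_iff hS g.2.2 x
      map_one' := rfl
      map_mul' := fun a b => rfl }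
  have hψsurj : Function.Surjective ψ := fun π => by
    obtain ⟨g, hg, hgn, hgπ⟩ := witt hG R (by omega) (by rw [hn]; omega) S π
    exact ⟨⟨g, hg, hgn⟩, Equiv.ext fun x => Subtype.ext (hgπ x)⟩
  let φ : N →* MulAut P := P.normalizerMonoidHom.comp (Subgroup.inclusion inf_le_right)
  have hφ : ∀ (n : N) (u : P), ((φ n u : P) : Perm α) = (n : Perm α) * u * (n : Perm α)⁻¹ :=
    fun n u => rfl
  let Ob := {s : Set α // ∃ x, x ∉ R ∧ s = MulAction.orbit P x}
  have himg : ∀ (n : Perm α), n ∈ Subgroup.normalizer (P : Set (Perm α)) → ∀ x,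
      n '' MulAction.orbit P x = MulAction.orbit P (n x) := by
    intro n hn x
    refine Set.Subset.antisymm ?_ fun z hz => ⟨n⁻¹ z, ?_, app_inv _ _⟩
    · rintro _ ⟨y, hy, rfl⟩
      exact map_orbit hn hy
    · have := map_orbit (inv_mem hn) hz
      rwa [inv_app] at this
  have hob : ∀ (n : N) (s : Ob), ∃ x, x ∉ R ∧ (n : Perm α) '' s.1 = MulAction.orbit P x := by
    rintro n ⟨_, x, hx, rfl⟩
    exact ⟨(n : Perm α) x, fun h => hx ((mem_R_iff hS n.2.2 x).mp h), himg _ n.2.2 x⟩
  letI actOb : MulAction N Ob :=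
    { smul := fun n s => ⟨(n : Perm α) '' s.1, hob n s⟩
      one_smul := fun s => Subtype.ext (Set.image_id _)
      mul_smul := fun a b s => Subtype.ext (Set.image_comp (a : Perm α) (b : Perm α) s.1) }
  haveI : Fintype Ob := Fintype.ofFinite _
  let σ : N →* Perm Ob := MulAction.toPermHom N Ob
  have hker : ∀ n : N, σ n = 1 → keep P R (n : Perm α) := by
    intro n hn
    refine ⟨n.2.2, fun x hx => ?_⟩
    have h1 : (n : Perm α) '' MulAction.orbit P x = MulAction.orbit P x :=
      congrArg Subtype.val (Equiv.congr_fun hn ⟨_, x, hx, rfl⟩)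
    rw [himg _ n.2.2] at h1
    exact h1 ▸ MulAction.mem_orbit_self _
  have hObcard : Fintype.card Ob = k := by
    let f : {x // x ∉ R} → Ob := fun x => ⟨MulAction.orbit P (x : α), x.1, x.2, rfl⟩
    have hfib : ∀ s : Ob, Nat.card {x // f x = s} = p := by
      rintro ⟨_, x, hx, rfl⟩
      rw [← hS.card x hx]
      refine Nat.card_congr ⟨fun y => ⟨y.1.1, ?_⟩, fun y => ⟨⟨y.1, not_mem hS hx y.2⟩, ?_⟩,
        fun y => rfl, fun y => rfl⟩
      · have e : MulAction.orbit P (y.1.1 : α) = MulAction.orbit P x := congrArg Subtype.val y.2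
        exact e.le (MulAction.mem_orbit_self _)
      · exact Subtype.ext (MulAction.orbit_eq_iff.mpr y.2)
    have h1 := Nat.card_congr (Equiv.sigmaFiberEquiv f)
    rw [Nat.card_sigma] at h1
    simp only [hfib, Finset.sum_const, Finset.card_univ, smul_eq_mul] at h1
    rw [Nat.card_eq_fintype_card, hcompl] at h1
    exact Nat.eq_of_mul_eq_mul_right hp.pos h1
  -- finishing with an element centralising `P`
  have finish : ∀ d : N, σ d = 1 → φ d = 1 → ∀ τ : Perm R, ψ d = τ →
      Perm.ofSubtype (τ ^ p) ∈ G := by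
    intro d h1 h2 τ h3
    have h4 := pow_eq_ofSubtype hS (hker d h1) (fun u hu => by
      have := congrArg (fun a : MulAut P => ((a ⟨u, hu⟩ : P) : Perm α)) h2
      simpa [hφ] using this) τ (fun x => by rw [← h3]; rfl)
    exact h4 ▸ pow_mem d.2.1 p
  have mulComm : ∀ n m : N, σ n = 1 → σ m = 1 → Commute (φ n) (φ m) := by
    intro n m hn hm
    refine MulEquiv.ext fun u => Subtype.ext (Equiv.ext fun y => ?_)
    show ((φ n (φ m u) : P) : Perm α) y = ((φ m (φ n u) : P) : Perm α) y
    by_cases hy : y ∈ R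
    · rw [hS.fix _ (φ n (φ m u)).2 y hy, hS.fix _ (φ m (φ n u)).2 y hy]
    obtain ⟨a, ha⟩ := exists_mult hS (hker n hn) hy
    obtain ⟨b, hb⟩ := exists_mult hS (hker m hm) hy
    have hy' := MulAction.mem_orbit_self (M := P) y
    rw [hφ n (φ m u), ha _ (φ m u).2 y hy', hφ m (φ n u), hb _ (φ n u).2 y hy',
      agree_pow hS (φ m u).2 (w := (u : Perm α) ^ b) (fun z hz => hb _ u.2 z hz) a hy',
      agree_pow hS (φ n u).2 (w := (u : Perm α) ^ a) (fun z hz => ha _ u.2 z hz) b hy',
      ← pow_mul, ← pow_mul, mul_comm]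
  -- the target
  by_cases hr5 : 5 ≤ r
  · set K := σ.ker with hK
    haveI : (K.map ψ).Normal := Subgroup.Normal.map inferInstance ψ hψsurj
    have hnt : Nontrivial (K.map ψ) := by
      rw [Subgroup.nontrivial_iff_ne_bot]
      intro h
      have h1 : K ≤ ψ.ker := by rwa [Subgroup.map_eq_bot_iff] at h
      have h2 := Subgroup.index_dvd_of_le h1
      rw [Subgroup.index_ker, Subgroup.index_ker, MonoidHom.range_eq_top.mpr hψsurj,
        Subgroup.card_top, Nat.card_perm, Nat.card_eq_fintype_card (α := R), Fintype.card_coe,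
        hRc] at h2
      have h3 : Nat.card σ.range ≤ k.factorial := by
        rw [← hObcard, ← Nat.card_eq_fintype_card, ← Nat.card_perm]
        exact Subgroup.card_le_card_group _
      have h4 := (Nat.le_of_dvd Nat.card_pos h2).trans h3
      have h5 := (Nat.factorial_lt (by omega : 0 < k)).mpr hrk
      omega
    have halt : alternatingGroup R ≤ K.map ψ :=
      Equiv.Perm.alternatingGroup_le_of_normal
        (by rw [Nat.card_eq_fintype_card, Fintype.card_coe]; omega) hnt
    obtain ⟨a, b, c, d, hab, hac, had, hbc, hbd, hcd⟩ : ∃ a b c d : R,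
        a ≠ b ∧ a ≠ c ∧ a ≠ d ∧ b ≠ c ∧ b ≠ d ∧ c ≠ d := by
      let e := (R.equivFinOfCardEq hRc).symm
      refine ⟨e ⟨0, by omega⟩, e ⟨1, by omega⟩, e ⟨2, by omega⟩, e ⟨3, by omega⟩, ?_, ?_, ?_, ?_,
        ?_, ?_⟩ <;> simp [e.injective.eq_iff]
    have hmem : swap a b * swap c d ∈ (⁅K, K⁆).map ψ := by
      rw [Subgroup.map_commutator]
      exact Subgroup.commutator_mono halt halt (dbl_mem_commutator_alternating hab hac had hbc hbd hcd)
    obtain ⟨x, hx, hxψ⟩ := hmem
    have hxK : x ∈ K := Subgroup.commutator_le_left K K hx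
    have hxφ : x ∈ φ.ker := by
      have hle : ⁅K, K⁆ ≤ φ.ker := by
        rw [Subgroup.commutator_le]
        intro n hn m hm
        rw [MonoidHom.mem_ker, map_commutatorElement, commutatorElement_eq_one_iff_commute]
        exact mulComm n m hn hm
      exact hle hx
    have hmemG := finish x hxK hxφ _ hxψ
    obtain ⟨q, hq⟩ : ∃ q, p = 2 * q + 1 := hp.odd_of_ne_two (by omega)
    have hdd : (swap a b * swap c d) * (swap a b * swap c d) = 1 := by
      have hc' : Commute (swap a b) (swap c d) := Perm.Disjoint.commute fun z => by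
        by_cases hza : z = a
        · exact Or.inr (swap_apply_of_ne_of_ne (hza ▸ hac) (hza ▸ had))
        by_cases hzb : z = b
        · exact Or.inr (swap_apply_of_ne_of_ne (hzb ▸ hbc) (hzb ▸ hbd))
        exact Or.inl (swap_apply_of_ne_of_ne hza hzb)
      rw [mul_assoc, ← mul_assoc (swap c d), ← hc'.eq, mul_assoc (swap a b) (swap c d),
        swap_mul_self, mul_one, swap_mul_self]
    rw [hq, pow_add, pow_mul, pow_two, hdd, one_pow, one_mul, pow_one, map_mul,
      Perm.ofSubtype_swap_eq, Perm.ofSubtype_swap_eq] at hmemG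
    exact le_of_double h4 hn5 (Subtype.coe_ne_coe.mpr hab) (Subtype.coe_ne_coe.mpr hac)
      (Subtype.coe_ne_coe.mpr had) (Subtype.coe_ne_coe.mpr hbc) (Subtype.coe_ne_coe.mpr hbd)
      (Subtype.coe_ne_coe.mpr hcd) hmemG
  have hk3 : k ≤ 3 := by omega
  have hthree : ∀ a b c d : α, a ∉ R → b ∉ R → c ∉ R → d ∉ R →
      b ∈ MulAction.orbit P a ∨ c ∈ MulAction.orbit P a ∨ d ∈ MulAction.orbit P a ∨
        c ∈ MulAction.orbit P b ∨ d ∈ MulAction.orbit P b ∨ d ∈ MulAction.orbit P c := by
    intro a b c d ha hb hc hd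
    by_contra hc0
    push Not at hc0
    obtain ⟨h1, h2, h3, h4, h5, h6⟩ := hc0
    have key : ∀ (x y : α) (hx : x ∉ R) (hy : y ∉ R), y ∉ MulAction.orbit P x →
        (⟨_, x, hx, rfl⟩ : Ob) ≠ ⟨_, y, hy, rfl⟩ := fun x y hx hy h e =>
      h (by
        have e' : MulAction.orbit P x = MulAction.orbit P y := congrArg Subtype.val e
        rw [e']
        exact MulAction.mem_orbit_self y)
    have hle := Finset.card_le_univ ({⟨_, a, ha, rfl⟩, ⟨_, b, hb, rfl⟩, ⟨_, c, hc, rfl⟩,
      ⟨_, d, hd, rfl⟩} : Finset Ob)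
    rw [Finset.card_insert_of_notMem (by
        simp only [Finset.mem_insert, Finset.mem_singleton, not_or]
        exact ⟨key a b ha hb h1, key a c ha hc h2, key a d ha hd h3⟩),
      Finset.card_insert_of_notMem (by
        simp only [Finset.mem_insert, Finset.mem_singleton, not_or]
        exact ⟨key b c hb hc h4, key b d hb hd h5⟩),
      Finset.card_insert_of_notMem (by
        simp only [Finset.mem_singleton]
        exact key c d hc hd h6), Finset.card_singleton] at hle
    omega
  have central : ∀ n : N, σ n = 1 → ∀ m : N, Commute (φ n) (φ m) := by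
    intro n hn m
    obtain ⟨a, ha⟩ := exists_scalar hS hsingle hthree (hker n hn)
    have key : ∀ u : P, φ n u = u ^ a := fun u => Subtype.ext (by
      rw [hφ, SubmonoidClass.coe_pow]
      exact ha _ u.2)
    refine MulEquiv.ext fun u => ?_
    show φ n (φ m u) = φ m (φ n u)
    rw [key, key, map_pow]
  have comm_le : ∀ L : Subgroup N, IsCyclic (L.map σ) → ⁅L, L⁆ ≤ φ.ker ⊓ σ.ker := by
    intro L hL
    obtain ⟨ξ, hξ⟩ := hL.exists_generator
    obtain ⟨x0, hx0, hx0ξ⟩ := ξ.2
    have hpow : ∀ n ∈ L, ∃ i : ℤ, σ ((x0 ^ i)⁻¹ * n) = 1 := by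
      intro n hn
      obtain ⟨i, hi⟩ := Subgroup.mem_zpowers_iff.mp (hξ ⟨σ n, Subgroup.mem_map_of_mem σ hn⟩)
      refine ⟨i, ?_⟩
      rw [map_mul, map_inv, map_zpow, hx0ξ, inv_mul_eq_one]
      exact congrArg Subtype.val hi
    rw [Subgroup.commutator_le]
    intro n hn m hm
    obtain ⟨i, hi⟩ := hpow n hn
    obtain ⟨j, hj⟩ := hpow m hm
    rw [Subgroup.mem_inf, MonoidHom.mem_ker, MonoidHom.mem_ker, map_commutatorElement,
      map_commutatorElement, commutatorElement_eq_one_iff_commute,
      commutatorElement_eq_one_iff_commute]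
    constructor
    · have e1 : φ n = φ (x0 ^ i) * φ ((x0 ^ i)⁻¹ * n) := by rw [← map_mul]; group
      have e2 : φ m = φ (x0 ^ j) * φ ((x0 ^ j)⁻¹ * m) := by rw [← map_mul]; group
      have c1 : Commute (φ (x0 ^ i)) (φ (x0 ^ j)) := by
        rw [map_zpow, map_zpow]
        exact Commute.zpow_zpow_self _ _ _
      rw [e1, e2]
      exact ((c1.mul_right (central _ hj _).symm).mul_left
        ((central _ hi _).mul_right (central _ hi _)))
    · have e1 : σ n = σ x0 ^ i := by
        rwa [map_mul, map_inv, map_zpow, inv_mul_eq_one, eq_comm] at hi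
      have e2 : σ m = σ x0 ^ j := by
        rwa [map_mul, map_inv, map_zpow, inv_mul_eq_one, eq_comm] at hj
      rw [e1, e2]
      exact Commute.zpow_zpow_self _ _ _
  have halt : alternatingGroup R ≤ (⁅(⊤ : Subgroup N), (⊤ : Subgroup N)⁆ : Subgroup N).map ψ := by
    rw [Subgroup.map_commutator, Subgroup.map_top_of_surjective ψ hψsurj]
    exact alternating_le_commutator
  let e := (R.equivFinOfCardEq hRc).symm
  rcases (show r = 3 ∨ r = 4 by omega) with rfl | rfl
  · -- three points
    have hcyc : IsCyclic ((⊤ : Subgroup N).map σ) := by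
      haveI : IsCyclic (Perm Ob) := by
        rcases (show k = 1 ∨ k = 2 by omega) with rfl | rfl
        · haveI : Subsingleton (Perm Ob) := by
            haveI : Subsingleton Ob := Fintype.card_le_one_iff_subsingleton.mp (by omega)
            infer_instance
          exact isCyclic_of_subsingleton
        · haveI : Fact (Nat.Prime 2) := ⟨Nat.prime_two⟩
          exact isCyclic_of_prime_card (p := 2)
            (by rw [Nat.card_perm, Nat.card_eq_fintype_card, hObcard]; rfl)
      infer_instance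
    have h3 := Perm.isThreeCycle_swap_mul_swap_same (a := e 0) (b := e 1) (c := e 2)
      (by simp [e.injective.eq_iff]) (by simp [e.injective.eq_iff]) (by simp [e.injective.eq_iff])
    obtain ⟨x, hx, hxψ⟩ := halt h3.mem_alternatingGroup
    obtain ⟨hxφ, hxσ⟩ := comm_le ⊤ hcyc hx
    have hmemG := finish x hxσ hxφ _ hxψ
    set τ := swap (e 0) (e 1) * swap (e 0) (e 2) with hτ
    have hτp : (τ ^ p).IsThreeCycle := by
      have hp' : p % 3 = 1 ∨ p % 3 = 2 := by
        have : p ≠ 3 := fun h => h9 ⟨h, rfl⟩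
        have : ¬ 3 ∣ p := fun h =>
          this (((Nat.prime_dvd_prime_iff_eq Nat.prime_three hp).mp h).symm)
        omega
      have h30 : τ ^ 3 = 1 := h3.orderOf ▸ pow_orderOf_eq_one τ
      rw [← Nat.div_add_mod p 3, pow_add, pow_mul, h30, one_pow, one_mul]
      rcases hp' with h | h <;> rw [h]
      · rwa [pow_one]
      · rw [pow_two]; exact h3.isThreeCycle_sq
    refine le_of_three h4 hn5 hmemG ?_
    rw [Perm.IsThreeCycle, Perm.cycleType_ofSubtype]
    exact hτp
  · -- four points
    set L : Subgroup N := ⁅(⊤ : Subgroup N), (⊤ : Subgroup N)⁆ with hL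
    have hcyc : IsCyclic (L.map σ) := by
      have hle : L.map σ ≤ alternatingGroup Ob := by
        rw [hL, Subgroup.map_commutator]
        exact (Subgroup.commutator_mono le_top le_top).trans
          (le_of_eq_of_le rfl (alternatingGroup.commutator_perm_le (α := Ob)))
      haveI : IsCyclic (alternatingGroup Ob) :=
        alternatingGroup.isCyclic_of_card_le_three (by rw [Nat.card_eq_fintype_card]; omega)
      exact isCyclic_of_injective (Subgroup.inclusion hle) (Subgroup.inclusion_injective hle)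
    have hd : swap (e 0) (e 1) * swap (e 2) (e 3) ∈ (⁅L, L⁆).map ψ := by
      rw [Subgroup.map_commutator]
      exact Subgroup.commutator_mono halt halt (dbl_mem_commutator_alternating
        (by simp [e.injective.eq_iff]) (by simp [e.injective.eq_iff]) (by simp [e.injective.eq_iff])
        (by simp [e.injective.eq_iff]) (by simp [e.injective.eq_iff]) (by simp [e.injective.eq_iff]))
    obtain ⟨x, hx, hxψ⟩ := hd
    obtain ⟨hxφ, hxσ⟩ := comm_le L hcyc hx
    have hmemG := finish x hxσ hxφ _ hxψ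
    obtain ⟨q, hq⟩ : ∃ q, p = 2 * q + 1 := hp.odd_of_ne_two (by omega)
    have hdd : (swap (e 0) (e 1) * swap (e 2) (e 3)) * (swap (e 0) (e 1) * swap (e 2) (e 3)) = 1 := by
      have hc' : Commute (swap (e 0) (e 1)) (swap (e 2) (e 3)) := Perm.Disjoint.commute fun z => by
        by_cases hza : z = e 0
        · subst hza; exact Or.inr (swap_apply_of_ne_of_ne (by simp [e.injective.eq_iff]) (by simp [e.injective.eq_iff]))
        by_cases hzb : z = e 1
        · subst hzb; exact Or.inr (swap_apply_of_ne_of_ne (by simp [e.injective.eq_iff]) (by simp [e.injective.eq_iff]))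
        exact Or.inl (swap_apply_of_ne_of_ne hza hzb)
      rw [mul_assoc, ← mul_assoc (swap (e 2) (e 3)), ← hc'.eq, mul_assoc (swap (e 0) (e 1)) (swap (e 2) (e 3)),
        swap_mul_self, mul_one, swap_mul_self]
    rw [hq, pow_add, pow_mul, pow_two, hdd, one_pow, one_mul, pow_one, map_mul,
      Perm.ofSubtype_swap_eq, Perm.ofSubtype_swap_eq] at hmemG
    exact le_of_double h4 hn5 (by simp [e.injective.eq_iff, Subtype.coe_inj])
      (by simp [e.injective.eq_iff, Subtype.coe_inj]) (by simp [e.injective.eq_iff, Subtype.coe_inj])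
      (by simp [e.injective.eq_iff, Subtype.coe_inj]) (by simp [e.injective.eq_iff, Subtype.coe_inj])
      (by simp [e.injective.eq_iff, Subtype.coe_inj]) hmemG

end Cfsg.Agent.S4220
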