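import Cfsg.Statements.S4221
import Cfsg.Agent.Lib.BC77.Hall4.Degree

set_option autoImplicit false
open Cfsg

namespace Cfsg.Agent.S4221

/-- Let `G` be a `4`-fold transitive permutation group on a finite set of `n` points in which the pointwise stabilizer of some four distinct points has odd order. Then `n = 4` or `n = 5` with `G` the full symmetric group, or `n = 6` or `n = 7` with `G` the alternating group, or `n = 11` and `G` has order `7920`. -/
theorem result {α : Type*} [Fintype α] [DecidableEq α] (G : Subgroup (Equiv.Perm α)) (hG : MulAction.IsMultiplyPretransitive G α 4) (x : Fin 4 ↪ α) (hodd : Odd (Nat.card (MulAction.stabilizer G x))) : ((Fintype.card α = 4 ∨ Fintype.card α = 5) ∧ G = ⊤) ∨ ((Fintype.card α = 6 ∨ Fintype.card α = 7) ∧ G = alternatingGroup α) ∨ (Fintype.card α = 11 ∧ Nat.card G = 7920) := by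
  classical
  let a := x 0
  let b := x 1
  let c := x 2
  let d := x 3
  have h : Lib.BC77.Hall4.Dist a b c d := by
    constructor <;> exact x.injective.ne (by decide)
  have hx : h.emb = x := by
    ext i
    fin_cases i <;> rfl
  have hodd0 : Odd (Nat.card (Lib.BC77.Hall4.Hs G a b c d)) := by
    rw [Lib.BC77.Hall4.Hs_eq_stabilizer h, hx]; exact hodd
  have hyp : Lib.BC77.Hall4.Hyp G α :=
    ⟨hG, fun p q r s h' => Lib.BC77.Hall4.card_Hs_eq hG h h' ▸ hodd0⟩
  have hcard := Lib.BC77.Hall4.card_eq_descFactorial hG h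
  have hdvd : Nat.card G ∣ Nat.factorial (Fintype.card α) := Lib.BC77.Hall4.card_dvd_factorial (α := α)
  have hperm : Nat.card (Equiv.Perm α) = Nat.factorial (Fintype.card α) := by
    rw [Nat.card_perm, Nat.card_eq_fintype_card]
  have h4 : 4 ≤ (Fintype.card α) := by
    simpa using Fintype.card_le_of_embedding x
  have hmul := G.index_mul_card
  rw [hperm] at hmul
  have alt : G.index = 2 → G = alternatingGroup α :=
    Equiv.Perm.eq_alternatingGroup_of_index_eq_two
  rcases le_or_gt (Fintype.card α) 5 with h5 | h5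
  · refine Or.inl ⟨by omega, ?_⟩
    obtain ⟨j, hj⟩ := hodd0
    rw [hj] at hcard
    rw [hcard] at hdvd
    apply Subgroup.eq_top_of_card_eq
    rw [hperm, hcard]
    rcases (show (Fintype.card α) = 4 ∨ (Fintype.card α) = 5 by omega) with e | e <;> rw [e] at hdvd ⊢ <;>
      simp only [Nat.descFactorial, Nat.factorial] at hdvd ⊢ <;>
      norm_num at hdvd ⊢ <;>
      have := Nat.le_of_dvd (by norm_num) hdvd <;> omega
  rcases le_or_gt (Fintype.card α) 7 with h7 | h7
  · refine Or.inr (Or.inl ?_)
    rcases Lib.BC77.Hall4.small_degree hyp h (by omega) h7 with ⟨e, eH⟩ | ⟨e, eH⟩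
    · refine ⟨Or.inl e, alt ?_⟩
      rw [hcard, eH, e] at hmul
      norm_num [Nat.descFactorial, Nat.factorial] at hmul
      omega
    · refine ⟨Or.inr e, alt ?_⟩
      rw [hcard, eH, e] at hmul
      norm_num [Nat.descFactorial, Nat.factorial] at hmul
      omega
  · obtain ⟨e, eH⟩ := Lib.BC77.Hall4.large_degree hyp h (by omega)
    refine Or.inr (Or.inr ⟨e, ?_⟩)
    rw [hcard, eH, e]
    decide

end Cfsg.Agent.S4221
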