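import Cfsg.Statements.S4225
import Cfsg.Agent.Lib.PGroupTheory.Regular
import Mathlib.Tactic.Group

set_option autoImplicit false
open Cfsg

namespace Cfsg.Agent.S4225

/-- In a regular `p`-group, for every `k` the elements whose `p^k`-th power is `1` form a characteristic subgroup. -/
theorem result {G : Type*} [Group G] [Finite G] {p : ℕ} [Fact p.Prime] (hG : Cfsg.IsRegularPGroup p G) (k : ℕ) : ∃ H : Subgroup G, H.Characteristic ∧ (H : Set G) = {x : G | x ^ p ^ k = 1} := by
  refine ⟨Subgroup.closure {x : G | x ^ p ^ k = 1}, ?_, ?_⟩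
  · rw [Subgroup.characteristic_iff_map_le]
    intro φ
    rw [MonoidHom.map_closure, Subgroup.closure_le]
    rintro _ ⟨x, hx, rfl⟩
    refine Subgroup.subset_closure ?_
    show (φ x) ^ p ^ k = 1
    rw [← map_pow, show x ^ p ^ k = 1 from hx, map_one]
  · ext x
    refine ⟨fun hx => ?_, fun hx => Subgroup.subset_closure hx⟩
    exact Lib.PGroupTheory.pow_eq_one_of_mem_closure hG.1 ((Lib.PGroupTheory.isRegularPGroup_iff.1 hG).2 k) hx

end Cfsg.Agent.S4225
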