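import Cfsg.Statements.S4230
-- import your own Cfsg.Agent.* helpers here

set_option autoImplicit false
open Cfsg

namespace Cfsg.Agent.S4230

/-- Let p be an odd prime, q a natural number not divisible by p, and e the multiplicative order of q modulo p. For a natural number f, p divides the value at q of the f-th cyclotomic polynomial if and only if f = e·p^j for some j ≥ 0. -/
theorem result (p q f : ℕ) (hp : p.Prime) (hp2 : p ≠ 2) (hpq : ¬ p ∣ q) :
    ((p : ℤ) ∣ (Polynomial.cyclotomic f ℤ).eval (q : ℤ)) ↔ ∃ j : ℕ, f = orderOf (q : ZMod p) * p ^ j := by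
  haveI : Fact p.Prime := ⟨hp⟩
  have hq : (q : ZMod p) ≠ 0 := fun h => hpq ((ZMod.natCast_eq_zero_iff q p).1 h)
  set e := orderOf (q : ZMod p) with he
  have hepos : 0 < e := by
    rw [he, ← Units.val_mk0 hq, orderOf_units]; exact orderOf_pos _
  have hroot : ((p : ℤ) ∣ (Polynomial.cyclotomic f ℤ).eval (q : ℤ)) ↔
      (Polynomial.cyclotomic f (ZMod p)).IsRoot (q : ZMod p) := by
    rw [← ZMod.intCast_zmod_eq_zero_iff_dvd, Polynomial.IsRoot.def]
    constructor <;> intro h
    · rw [← Polynomial.map_cyclotomic_int f (ZMod p), Polynomial.eval_natCast_map]; simpa using h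
    · rw [← Polynomial.map_cyclotomic_int f (ZMod p), Polynomial.eval_natCast_map] at h; simpa using h
  have hene : ¬ p ∣ e := by
    intro hd
    have h1 : e ∣ p - 1 := orderOf_dvd_of_pow_eq_one (ZMod.pow_card_sub_one_eq_one hq)
    have := Nat.le_of_dvd (by have := hp.two_le; omega) (hd.trans h1)
    have := hp.two_le
    omega
  rw [hroot]
  constructor
  · intro h
    rcases Nat.eq_zero_or_pos f with rfl | hf
    · simp [Polynomial.IsRoot.def] at h
    obtain ⟨k, m, hm, rfl⟩ := Nat.exists_eq_pow_mul_and_not_dvd hf.ne' p hp.ne_one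
    haveI : NeZero (m : ZMod p) := ⟨fun h0 => hm ((ZMod.natCast_eq_zero_iff m p).1 h0)⟩
    exact ⟨k, by rw [(Polynomial.isRoot_cyclotomic_prime_pow_mul_iff_of_charP.1 h).eq_orderOf]; ring⟩
  · rintro ⟨j, rfl⟩
    haveI : NeZero (e : ZMod p) := ⟨fun h0 => hene ((ZMod.natCast_eq_zero_iff e p).1 h0)⟩
    rw [mul_comm]
    exact Polynomial.isRoot_cyclotomic_prime_pow_mul_iff_of_charP.2 (IsPrimitiveRoot.orderOf _)

end Cfsg.Agent.S4230
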