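import Cfsg.Statements.S4234
import Cfsg.Agent.Lib.Fg6.Order1092
import Cfsg.Agent.Lib.Linear.Simple
import Cfsg.Agent.Lib.Linear.Order
import Cfsg.Agent.Lib.Linear.SL2

set_option autoImplicit false
set_option linter.style.haveILetI false
open Cfsg

namespace Cfsg.Agent.S4234

open Subgroup

/-- Preimages of coatoms are coatoms. -/
theorem isCoatom_comap {G Q : Type*} [Group G] [Group Q] (f : G →* Q) (hf : Function.Surjective f)
    {M : Subgroup Q} (hM : IsCoatom M) : IsCoatom (M.comap f) := by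
  refine ⟨fun h => hM.1 ?_, fun U hU => ?_⟩
  · rw [← map_comap_eq_self_of_surjective hf M, h, map_top_of_surjective f hf]
  · have hker : f.ker ≤ U := fun x hx => hU.le (by rw [mem_comap, MonoidHom.mem_ker.1 hx]; exact one_mem _)
    have h1 : M < U.map f := by
      refine lt_of_le_of_ne ?_ fun he => hU.ne ?_
      · rw [← map_comap_eq_self_of_surjective hf M]; exact map_mono hU.le
      · rw [he, comap_map_eq_self hker]
    rw [← comap_map_eq_self hker, hM.2 _ h1, comap_top]

/-- All nonnormal subgroups have maximal normalisers. -/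
def Good (G : Type*) [Group G] : Prop :=
  ∀ H : Subgroup G, ¬ H.Normal → IsCoatom (normalizer (H : Set G))

theorem Good.of_equiv {G Q : Type*} [Group G] [Group Q] (e : G ≃* Q) (h : Good Q) : Good G := by
  intro H hH
  have hn : ¬ (H.map e.toMonoidHom).Normal := fun hn => hH (by
    have := hn.comap e.toMonoidHom
    rwa [comap_map_eq_self_of_injective (f := e.toMonoidHom) e.injective] at this)
  have h1 := isCoatom_comap e.toMonoidHom e.surjective (h _ hn)
  rwa [Subgroup.comap_normalizer_eq_of_surjective _ (f := e.toMonoidHom) e.surjective,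
    comap_map_eq_self_of_injective (f := e.toMonoidHom) e.injective] at h1

theorem good_psl : Good (Matrix.ProjectiveSpecialLinearGroup (Fin 2) (ZMod 13)) := by
  haveI : Fact (Nat.Prime 13) := ⟨by norm_num⟩
  haveI : IsSimpleGroup (Matrix.ProjectiveSpecialLinearGroup (Fin 2) (ZMod 13)) :=
    Lib.Linear.isSimpleGroup_PSL le_rfl fun _ => by rw [Nat.card_zmod]; norm_num
  have hc : Nat.card (Matrix.ProjectiveSpecialLinearGroup (Fin 2) (ZMod 13)) = 1092 := by
    have := Lib.Linear.two_mul_card_PSL_two_of_odd (F := ZMod 13) (by rw [ZMod.card]; decide)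
    rw [ZMod.card] at this
    omega
  intro H hH
  refine Lib.Fg6.Order1092.isCoatom_normalizer hc H (fun h => hH ?_) (fun h => hH ?_) <;>
    rw [h] <;> infer_instance

theorem two_ne : (2 : ZMod 13) ≠ 0 := by decide

theorem good_sl : Good (Matrix.SpecialLinearGroup (Fin 2) (ZMod 13)) := by
  haveI : Fact (Nat.Prime 13) := ⟨by norm_num⟩
  set K := Matrix.SpecialLinearGroup (Fin 2) (ZMod 13)
  set Z := center K with hZ
  have hZ2 : Nat.card Z = 2 := by
    rw [hZ, Lib.Linear.card_center_SL, Fintype.card_fin, Nat.card_zmod]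
    rfl
  have hinv : ∀ g : K, g * g = 1 → g ∈ Z := by
    intro g hg
    by_cases h1 : g = 1
    · rw [h1]; exact one_mem _
    · have := Lib.Linear.eq_neg_one_of_mul_self (F := ZMod 13) two_ne h1 hg
      rw [hZ, mem_center_iff]
      intro x
      refine Subtype.ext ?_
      show (x : Matrix (Fin 2) (Fin 2) (ZMod 13)) * (g : Matrix (Fin 2) (Fin 2) (ZMod 13)) = _ * _
      rw [this, mul_neg, mul_one, neg_mul, one_mul]
  set π := QuotientGroup.mk' Z with hπ
  have hπs : Function.Surjective π := QuotientGroup.mk'_surjective Z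
  intro H hH
  by_cases hZH : Z ≤ H
  · have he : (H.map π).comap π = H := comap_map_eq_self (by rw [hπ, QuotientGroup.ker_mk']; exact hZH)
    have hn : ¬ (H.map π).Normal := fun hn => hH (he ▸ hn.comap π)
    have := isCoatom_comap π hπs (good_psl (H.map π) hn)
    rwa [Subgroup.comap_normalizer_eq_of_surjective _ hπs, he] at this
  -- `H` has odd order
  have hodd : ¬ 2 ∣ Nat.card H := by
    intro h2
    haveI : Fact (Nat.Prime 2) := ⟨Nat.prime_two⟩
    obtain ⟨⟨t, ht⟩, hto⟩ := exists_prime_orderOf_dvd_card' (G := H) 2 h2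
    rw [Subgroup.orderOf_mk] at hto
    have htt : t * t = 1 := by rw [← pow_two]; exact orderOf_dvd_iff_pow_eq_one.1 (dvd_of_eq hto)
    refine hZH ?_
    rw [← eq_of_le_of_card_ge (zpowers_le.2 (hinv t htt)) (by rw [Nat.card_zpowers, hto, hZ2])]
    exact zpowers_le.2 ht
  have hmap : ¬ (H.map π).Normal := by
    intro hn
    apply hH
    -- the elements of odd order of `H Z` are those of `H`
    refine ⟨fun x hx g => ?_⟩
    have h1 : π (g * x * g⁻¹) ∈ H.map π := by
      rw [map_mul, map_mul, map_inv]; exact hn.conj_mem _ ⟨x, hx, rfl⟩ _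
    obtain ⟨y, hy, hyx⟩ := h1
    obtain ⟨z, hz, hyz⟩ : ∃ z ∈ Z, g * x * g⁻¹ = y * z :=
      ⟨y⁻¹ * (g * x * g⁻¹), QuotientGroup.eq.1 hyx, (mul_inv_cancel_left y _).symm⟩
    have hzy : Commute y z := (mem_center_iff.1 hz y)
    have e1 : (g * x * g⁻¹) ^ Nat.card H = 1 := by
      rw [conj_pow, orderOf_dvd_iff_pow_eq_one.1 (H.orderOf_dvd_natCard hx), mul_one, mul_inv_cancel]
    rw [hyz, hzy.mul_pow, orderOf_dvd_iff_pow_eq_one.1 (H.orderOf_dvd_natCard hy), one_mul] at e1
    have hz1 : z = 1 := orderOf_eq_one_iff.1 (Nat.eq_one_of_dvd_coprimes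
      ((Nat.Prime.coprime_iff_not_dvd Nat.prime_two).2 hodd) ((Z.orderOf_dvd_natCard hz).trans hZ2.dvd)
      (orderOf_dvd_of_pow_eq_one e1))
    rw [hyz, hz1, mul_one]
    exact hy
  have hN : normalizer (H : Set K) = (normalizer ((H.map π : Subgroup (K ⧸ Z)) : Set (K ⧸ Z))).comap π := by
    refine le_antisymm (le_trans (le_comap_map π _) (comap_mono (le_normalizer_map π))) fun g hg => ?_
    rw [mem_normalizer_iff_map_conj_eq]
    refine eq_of_le_of_card_ge ?_ (card_map_of_injective (MulAut.conj g).injective).ge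
    rintro _ ⟨x, hx, rfl⟩
    have h1 : π (g * x * g⁻¹) ∈ H.map π := by
      rw [map_mul, map_mul, map_inv]
      exact (mem_normalizer_iff.1 hg _).1 ⟨x, hx, rfl⟩
    obtain ⟨y, hy, hyx⟩ := h1
    obtain ⟨z, hz, hyz⟩ : ∃ z ∈ Z, g * x * g⁻¹ = y * z :=
      ⟨y⁻¹ * (g * x * g⁻¹), QuotientGroup.eq.1 hyx, (mul_inv_cancel_left y _).symm⟩
    have hzy : Commute y z := (mem_center_iff.1 hz y)
    have e1 : (g * x * g⁻¹) ^ Nat.card H = 1 := by
      rw [conj_pow, orderOf_dvd_iff_pow_eq_one.1 (H.orderOf_dvd_natCard hx), mul_one, mul_inv_cancel]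
    rw [hyz, hzy.mul_pow, orderOf_dvd_iff_pow_eq_one.1 (H.orderOf_dvd_natCard hy), one_mul] at e1
    have hz1 : z = 1 := orderOf_eq_one_iff.1 (Nat.eq_one_of_dvd_coprimes
      ((Nat.Prime.coprime_iff_not_dvd Nat.prime_two).2 hodd) ((Z.orderOf_dvd_natCard hz).trans hZ2.dvd)
      (orderOf_dvd_of_pow_eq_one e1))
    show g * x * g⁻¹ ∈ H
    rw [hyz, hz1, mul_one]
    exact hy
  rw [hN]
  exact isCoatom_comap π hπs (good_psl _ hmap)

/-- Let K be isomorphic to PSL(2, 13) or to SL(2, 13) and let S be a finite abelian group of order coprime to the order of K. Then in the direct product K × S every subgroup that is not normal has a normalizer that is a maximal subgroup. -/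
theorem result {K S : Type*} [Group K] [CommGroup S] [Finite K] [Finite S]
    (hK : Nonempty (K ≃* Matrix.ProjectiveSpecialLinearGroup (Fin 2) (ZMod 13)) ∨
      Nonempty (K ≃* Matrix.SpecialLinearGroup (Fin 2) (ZMod 13)))
    (hKS : (Nat.card K).Coprime (Nat.card S)) (H : Subgroup (K × S)) (hH : ¬ H.Normal) :
    IsCoatom (Subgroup.normalizer (H : Set (K × S))) := by
  have hgood : Good K := by
    rcases hK with ⟨⟨e⟩⟩ | ⟨⟨e⟩⟩
    exacts [good_psl.of_equiv e, good_sl.of_equiv e]
  -- `H` splits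
  set A := H.map (MonoidHom.fst K S)
  have hsplit : ∀ k s, (k, s) ∈ H → (k, (1 : S)) ∈ H := by
    intro k s hks
    obtain ⟨m, hm⟩ := exists_pow_eq_self_of_coprime
      ((hKS.symm.coprime_dvd_right (orderOf_dvd_natCard k)) : (Nat.card S).Coprime (orderOf k))
    have h1 := pow_mem (pow_mem hks (Nat.card S)) m
    rw [Prod.pow_mk, Prod.pow_mk, hm, pow_card_eq_one', one_pow] at h1
    exact h1
  have hmem : ∀ x : K × S, x ∈ normalizer (H : Set (K × S)) ↔ x.1 ∈ normalizer (A : Set K) := by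
    have hdec : ∀ x : K × S, x ∈ H ↔ x.1 ∈ A ∧ ((1 : K), x.2) ∈ H := by
      intro x
      refine ⟨fun hx => ⟨⟨x, hx, rfl⟩, ?_⟩, fun ⟨⟨y, hy, hyx⟩, h2⟩ => ?_⟩
      · have := mul_mem (inv_mem (hsplit x.1 x.2 hx)) hx
        rwa [show (x.1, (1 : S))⁻¹ * x = ((1 : K), x.2) from Prod.ext (inv_mul_cancel x.1) (by simp)] at this
      · obtain ⟨y1, y2⟩ := y
        obtain rfl : y1 = x.1 := hyx
        simpa using mul_mem (hsplit _ _ hy) h2
    rintro ⟨a, b⟩
    rw [mem_normalizer_iff, mem_normalizer_iff]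
    refine ⟨fun h k => ?_, fun h ⟨c, d⟩ => ?_⟩
    · have h1 := h (k, 1)
      rw [hdec, hdec (_ * _ * _)] at h1
      simp only [Prod.fst_mul, Prod.snd_mul, Prod.fst_inv, Prod.snd_inv, mul_one, mul_inv_cancel] at h1
      have h11 : ((1 : K), (1 : S)) ∈ H := one_mem H
      simpa [h11] using h1
    · rw [hdec, hdec (_ * _ * _)]
      simp only [Prod.fst_mul, Prod.snd_mul, Prod.fst_inv, Prod.snd_inv, mul_comm b, mul_inv_cancel_right]
      rw [h c]
  have hA : ¬ A.Normal := fun hn => hH (normalizer_eq_top_iff.1 (eq_top_iff.2 fun x _ => by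
    rw [hmem, normalizer_eq_top_iff.2 hn]; trivial))
  rw [show normalizer (H : Set (K × S)) = (normalizer (A : Set K)).comap (MonoidHom.fst K S) from
    Subgroup.ext hmem]
  exact isCoatom_comap _ (fun k => ⟨(k, 1), rfl⟩) (hgood A hA)

end Cfsg.Agent.S4234
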