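import Cfsg.Statements.S4236
import Cfsg.Agent.Lib.Fgs9.ThirtyFive

set_option autoImplicit false
open Cfsg

namespace Cfsg.Agent.S4236

/-- No finite group has exactly 35 Sylow 17-subgroups. -/
theorem result {G : Type*} [Group G] [Finite G] : Nat.card (Sylow 17 G) ≠ 35 := by
  haveI : Fact (Nat.Prime 17) := ⟨by norm_num⟩
  intro hcard
  set f := MulAction.toPermHom G (Sylow 17 G)
  have hloc : ∀ Q : Sylow 17 G, Cfsg.Agent.Lib.Fgs9.ThirtyFive.Local f.range Q ((Q : Subgroup G).map f) := by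
    intro Q
    refine ⟨fun s ⟨x, _, hx⟩ => ⟨x, hx⟩, Q.2.map f, ?_, ?_, ?_, ?_⟩
    · rintro _ ⟨x, hx, rfl⟩
      exact Sylow.smul_eq_iff_mem_normalizer.2 (Subgroup.le_normalizer hx)
    · intro R hR
      have hle : (Q : Subgroup G) ≤ Subgroup.normalizer ((R : Subgroup G) : Set G) := fun x hx =>
        Sylow.smul_eq_iff_mem_normalizer.1 (hR (f x) ⟨x, hx, rfl⟩)
      have hsup := Q.2.to_sup_of_normal_right' R.2 hle
      exact Sylow.ext ((R.3 hsup le_sup_right).symm.trans (Q.3 hsup le_sup_left))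
    · rintro _ ⟨g, rfl⟩ hg _ ⟨x, hx, rfl⟩
      refine ⟨g * x * g⁻¹, ?_, by simp⟩
      exact (Subgroup.mem_normalizer_iff.1 (Sylow.smul_eq_iff_mem_normalizer.1 hg) x).1 hx
    · rintro _ ⟨g, rfl⟩ hg ⟨k, hk⟩
      have hgN : g ∈ Subgroup.normalizer ((Q : Subgroup G) : Set G) := Sylow.smul_eq_iff_mem_normalizer.1 hg
      obtain ⟨a, b, ha, hb, hab, -, ⟨j, hj⟩, hcop⟩ :=
        Cfsg.Agent.Lib.Transfer.PResidual.exists_pPart_mul_pPrimePart (p := 17) g (isOfFinOrder_of_finite g)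
      have hb1 : f b = 1 := by
        obtain ⟨i, hi⟩ := Subgroup.mem_zpowers_iff.1 hb
        refine orderOf_eq_one_iff.1 (Nat.eq_one_of_dvd_coprimes (hcop.pow_right k) (orderOf_map_dvd f b)
          (orderOf_dvd_of_pow_eq_one ?_))
        rw [← hi, map_zpow, ← zpow_natCast, zpow_comm, zpow_natCast, hk, one_zpow]
      have haP : IsPGroup 17 (Subgroup.zpowers a) := by
        obtain ⟨l, -, hl⟩ := (Nat.dvd_prime_pow (Fact.out : Nat.Prime 17)).1 (orderOf_dvd_of_pow_eq_one hj)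
        exact IsPGroup.of_card (n := l) (by rw [Nat.card_zpowers, hl])
      have hsup := haP.to_sup_of_normal_right' Q.2
        (Subgroup.zpowers_le.2 (Subgroup.zpowers_le.2 hgN ha))
      have haQ : a ∈ (Q : Subgroup G) :=
        (Q.3 hsup le_sup_right) ▸ Subgroup.mem_sup_left (Subgroup.mem_zpowers a)
      exact ⟨a, haQ, by rw [← hab, map_mul, hb1, mul_one]⟩
  obtain ⟨Q⟩ : Nonempty (Sylow 17 G) := inferInstance
  have htr : MulAction.IsPretransitive f.range (Sylow 17 G) := by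
    refine ⟨fun R S => ?_⟩
    obtain ⟨g, hg⟩ := MulAction.exists_smul_eq G R S
    exact ⟨⟨f g, g, rfl⟩, hg⟩
  exact Cfsg.Agent.Lib.Fgs9.ThirtyFive.main hcard (hloc Q) (fun R => ⟨_, hloc R⟩) htr

end Cfsg.Agent.S4236
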