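import Cfsg.Statements.S4237
import Cfsg.Agent.Lib.SubgroupCountSq.Ambient
-- import your own Cfsg.Agent.* helpers here

set_option autoImplicit false
open Cfsg

namespace Cfsg.Agent.S4237

/-- Let G be a finite group, p a prime and a a natural number such that p^(a+1) divides the order of G. Then the number of subgroups of G of order p^a is congruent to 1 or to 1 + p modulo p². -/
theorem result {G : Type*} [Group G] [Finite G] (p a : ℕ) (hp : p.Prime) (hdvd : p ^ (a + 1) ∣ Nat.card G) :
    Nat.card {H : Subgroup G // Nat.card H = p ^ a} ≡ 1 [MOD p ^ 2] ∨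
      Nat.card {H : Subgroup G // Nat.card H = p ^ a} ≡ 1 + p [MOD p ^ 2] := by
  have := Fact.mk hp
  obtain ⟨P⟩ : Nonempty (Sylow p G) := inferInstance
  obtain ⟨n, hn⟩ := IsPGroup.iff_card.mp P.2
  have han : a < n := by
    have h := (hp.pow_dvd_iff_le_factorization Nat.card_pos.ne').mp hdvd
    rw [P.card_eq_multiplicity] at hn
    have := Nat.pow_right_injective hp.two_le hn
    omega
  rcases Nat.eq_zero_or_pos a with rfl | ha
  · left
    have h : Nat.card {H : Subgroup G // Nat.card H = p ^ 0} = 1 :=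
      Nat.card_eq_one_iff_unique.mpr ⟨⟨fun A B => Subtype.ext
        ((Subgroup.eq_bot_of_card_eq _ A.2).trans (Subgroup.eq_bot_of_card_eq _ B.2).symm)⟩,
        ⟨⟨⊥, Subgroup.card_bot⟩⟩⟩
    rw [h]
  have hmain := Lib.SubgroupCountSq.cnt_modEq_sylow P hn han
  by_cases hc : IsCyclic (P : Subgroup G)
  · left
    rw [Lib.SubgroupCountSq.cnt_cyclic hn han.le] at hmain
    exact hmain
  by_cases h2 : p = 2 → (commutator (P : Subgroup G)).index ≠ 4
  · exact Or.inr (hmain.trans (Lib.SubgroupCountSq.kulakoff n hn hc h2 a ha han))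
  push Not at h2
  obtain ⟨rfl, h4⟩ := h2
  rcases Nat.lt_or_ge (a + 1) n with ha1 | ha1
  · left
    exact hmain.trans (Lib.SubgroupCountSq.cnt_maxClass_modEq hn h4 ha (by omega))
  · right
    obtain rfl : n = a + 1 := by omega
    refine hmain.trans ?_
    have he : Lib.SubgroupCountSq.cnt (P : Subgroup G) (2 ^ a) =
        Nat.card (Lib.SubgroupCountSq.MaxOver 2 (⊥ : Subgroup (P : Subgroup G))) := by
      refine Nat.card_congr (Equiv.subtypeEquivRight fun H => ⟨fun h => ⟨?_, bot_le⟩,
        fun h => Lib.SubgroupCountSq.card_eq_of_index hn h.1⟩)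
      have h1 := H.card_mul_index
      rw [h, hn, pow_succ] at h1
      exact Nat.eq_of_mul_eq_mul_left (pow_pos two_pos a) h1
    rw [he]
    exact Lib.SubgroupCountSq.maxOver_bot_modEq P.2 hc

end Cfsg.Agent.S4237
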