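import Cfsg.Statements.S4238
import Cfsg.Agent.Lib.Transfer.Frobenius
import Cfsg.Agent.Lib.Coprime.Commutator
import Cfsg.Agent.Lib.PGroups.Frattini

set_option autoImplicit false
open Cfsg

namespace Cfsg.Agent.S4238

open Subgroup Cfsg.Agent.Lib.Transfer.PResidual
open scoped commutatorElement

variable {p : ℕ} [hp : Fact p.Prime]

lemma exists_orderOf_eq_exponent_pGroup {K : Type*} [Group K] [Finite K] (hK : IsPGroup p K) :
    ∃ k : K, orderOf k = Monoid.exponent K := by
  obtain ⟨k, hk⟩ := Finite.exists_max (fun x : K => orderOf x)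
  refine ⟨k, Nat.dvd_antisymm (Monoid.order_dvd_exponent k) (Monoid.exponent_dvd.2 fun g => ?_)⟩
  obtain ⟨a, ha⟩ := IsPGroup.iff_orderOf.1 hK g
  obtain ⟨b, hb⟩ := IsPGroup.iff_orderOf.1 hK k
  rw [ha, hb]
  refine pow_dvd_pow p ((Nat.pow_le_pow_iff_right hp.out.one_lt).1 ?_)
  rw [← ha, ← hb]; exact hk g

/-- A group `V ⋊ ⟨a⟩`, `a` of prime order `r ≠ p` acting without fixed points on the `p`-group `V ≠ 1`. -/
lemma bad_section {X : Type*} [Group X] [Finite X] (V : Subgroup X) [V.Normal] [IsMulCommutative V]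
    (hVp : IsPGroup p V) (hV : V ≠ ⊥) {r : ℕ} (hr : r.Prime) (hrp : r ≠ p) (a : X) (ha : orderOf a = r)
    (htop : V ⊔ zpowers a = ⊤) (hfix : ∀ v ∈ V, a * v = v * a → v = 1) :
    Cfsg.pPrimeCore p X = ⊥ ∧ ∀ k : X, orderOf k ≠ Monoid.exponent X := by
  haveI := Fact.mk hr
  have hdec : ∀ x : X, ∃ v ∈ V, ∃ i : ℕ, x = v * a ^ i := by
    intro x
    have hx : x ∈ ((V ⊔ zpowers a : Subgroup X) : Set X) := by simp [htop]
    rw [normal_mul] at hx
    obtain ⟨v, hv, w, hw, rfl⟩ := hx
    obtain ⟨i, rfl⟩ := mem_powers_iff_mem_zpowers.2 hw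
    exact ⟨v, hv, i, rfl⟩
  have har : a ^ r = 1 := ha ▸ pow_orderOf_eq_one a
  -- an element of `X` centralising a nontrivial element of `V` has `p`-power order
  have hcent : ∀ x : X, ∀ w ∈ V, w ≠ 1 → x * w = w * x → x ∈ V := by
    intro x w hw hw1 hxw
    obtain ⟨v, hv, i, rfl⟩ := hdec x
    have hvw : Commute v w := congrArg Subtype.val (mul_comm' (⟨v, hv⟩ : V) ⟨w, hw⟩)
    have hai : Commute (a ^ i) w := by
      have h1 : Commute (v * a ^ i) w := hxw
      simpa using hvw.inv_left.mul_left h1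
    by_cases hri : r ∣ i
    · obtain ⟨c, rfl⟩ := hri
      simpa [pow_mul, har] using hv
    exfalso
    apply hw1
    apply hfix w hw
    obtain ⟨m, -, hm⟩ := Nat.exists_mul_mod_eq_one_of_coprime
      (Nat.coprime_comm.1 (hr.coprime_iff_not_dvd.2 hri)) hr.one_lt
    have h2 := hai.pow_left m
    rw [← pow_mul, pow_eq_pow_mod _ har, hm, pow_one] at h2
    exact h2.eq
  obtain ⟨v₀, hv₀, hv₀1⟩ : ∃ v ∈ V, v ≠ 1 := by
    simpa [eq_bot_iff_forall] using hV
  constructor
  · rw [Cfsg.pPrimeCore, sSup_eq_bot]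
    rintro M ⟨hMn, hM⟩
    have hdisj : Disjoint M V := by
      refine disjoint_of_coprime_natCard ?_
      obtain ⟨k, hk⟩ := IsPGroup.iff_card.1 hVp
      rw [hk]; exact Nat.Coprime.pow_right k hM
    rw [eq_bot_iff]
    intro m hm
    have hc : m * v₀ = v₀ * m :=
      commute_of_normal_of_disjoint M V hMn inferInstance hdisj m v₀ hm hv₀
    exact disjoint_iff.1 hdisj ▸ (⟨hm, hcent m v₀ hv₀ hv₀1 hc⟩ : m ∈ M ⊓ V)
  · intro k hk
    obtain ⟨w, hw⟩ := exists_prime_orderOf_dvd_card' (G := V) p
      (hVp.card_eq_or_dvd.resolve_left fun h => hV (card_eq_one.1 h))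
    have hpk : p ∣ orderOf k := by
      rw [hk, ← hw, ← Subgroup.orderOf_coe]; exact Monoid.order_dvd_exponent _
    have hrk : r ∣ orderOf k := by rw [hk, ← ha]; exact Monoid.order_dvd_exponent _
    obtain ⟨c, hc⟩ := hpk
    -- `k ^ c` has order `p`, so lies in `V`
    have hord : orderOf (k ^ c) = p := by
      have hcpos : 0 < c := Nat.pos_of_ne_zero fun h => (orderOf_pos k).ne' (by rw [hc, h, mul_zero])
      rw [orderOf_pow, hc, Nat.gcd_mul_left_left, Nat.mul_div_cancel _ hcpos]
    have hkc1 : k ^ c ≠ 1 := fun h => by rw [h, orderOf_one] at hord; exact hp.out.ne_one hord.symm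
    have hkcV : k ^ c ∈ V := by
      obtain ⟨v, hv, i, hvi⟩ := hdec (k ^ c)
      have h1 : ((k ^ c : X) : X ⧸ V) = 1 := by
        rw [← orderOf_eq_one_iff]
        refine Nat.eq_one_of_dvd_coprimes ((Nat.coprime_primes hp.out hr).2 (Ne.symm hrp))
          (hord ▸ orderOf_map_dvd (QuotientGroup.mk' V) (k ^ c)) ?_
        rw [hvi, QuotientGroup.mk_mul, (QuotientGroup.eq_one_iff v).2 hv, one_mul, QuotientGroup.mk_pow]
        refine orderOf_dvd_of_pow_eq_one ?_
        rw [← pow_mul, mul_comm, pow_mul, ← QuotientGroup.mk_pow, har, QuotientGroup.mk_one, one_pow]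
      exact (QuotientGroup.eq_one_iff _).1 h1
    have hkV := hcent k _ hkcV hkc1 (Commute.self_pow k c).eq
    obtain ⟨e, he⟩ := IsPGroup.iff_orderOf.1 hVp ⟨k, hkV⟩
    rw [Subgroup.orderOf_mk] at he
    rw [he] at hrk
    exact hrp ((Nat.prime_dvd_prime_iff_eq hr hp.out).1 (hr.dvd_of_dvd_pow hrk))

/-- `Φ(Q) ⟨c⟩`. -/
def fSub {H : Type*} [Group H] (Q : Subgroup H) (c : H) : Subgroup H :=
  (frattini Q).map Q.subtype ⊔ zpowers c

lemma exists_bad_section {H : Type*} [Group H] [Finite H] (Q : Subgroup H) [Q.Normal] (hQp : IsPGroup p Q)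
    (g : H) (hgp : (orderOf g).Coprime p) (htop : Q ⊔ zpowers g = ⊤) {r : ℕ} (hr : r.Prime) (hrp : r ≠ p)
    (hgr : g ^ r ∈ centralizer (Q : Set H)) (hgc : g ∉ centralizer (Q : Set H)) :
    ∃ (F : Subgroup H) (_ : F.Normal) (X : Subgroup (H ⧸ F)),
      Cfsg.pPrimeCore p X = ⊥ ∧ ∀ k : X, orderOf k ≠ Monoid.exponent X := by
  haveI := Fact.mk hr
  have hg1 : orderOf g ≠ 1 := fun e => hgc (orderOf_eq_one_iff.1 e ▸ one_mem _)
  let F : Subgroup H := fSub Q (g ^ r)
  have hFdef : F = (frattini Q).map Q.subtype ⊔ zpowers (g ^ r) := rfl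
  have hFQ : (frattini Q).map Q.subtype ≤ Q := Subgroup.map_subtype_le _
  have hcomm : ∀ x ∈ Q, g ^ r * x = x * g ^ r := fun x hx => (mem_centralizer_iff.1 hgr x hx).symm
  haveI : ((frattini Q).map Q.subtype).Normal := inferInstance
  haveI hFn : F.Normal := by
    rw [← normalizer_eq_top_iff, eq_top_iff, ← htop]
    refine sup_le ?_ (zpowers_le.2 ?_)
    · intro x hx
      rw [mem_normalizer_iff_map_conj_eq, hFdef, Subgroup.map_sup, MonoidHom.map_zpowers,
        mem_normalizer_iff_map_conj_eq.1 (normalizer_eq_top ((frattini Q).map Q.subtype) ▸ mem_top x)]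
      congr 2
      show x * g ^ r * x⁻¹ = g ^ r
      rw [← hcomm x hx, mul_inv_cancel_right]
    · rw [mem_normalizer_iff_map_conj_eq, hFdef, Subgroup.map_sup, MonoidHom.map_zpowers,
        mem_normalizer_iff_map_conj_eq.1 (normalizer_eq_top ((frattini Q).map Q.subtype) ▸ mem_top g)]
      congr 2
      show g * g ^ r * g⁻¹ = g ^ r
      rw [(Commute.self_pow g r).eq, mul_inv_cancel_right]
  let π := QuotientGroup.mk' F
  set W : Subgroup (H ⧸ fSub Q (g ^ r)) := Q.map π with hW
  set A : Subgroup (H ⧸ fSub Q (g ^ r)) := zpowers (π g) with hA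
  haveI : W.Normal := Subgroup.Normal.map ‹Q.Normal› π (QuotientGroup.mk'_surjective F)
  have hWp : IsPGroup p W := hQp.map π
  have hWc : ∀ x ∈ Q, ∀ y ∈ Q, Commute (π x) (π y) := by
    intro x hx y hy
    have hxy := Cfsg.Agent.Lib.PGroups.commutatorElement_mem_frattini hQp (⟨x, hx⟩ : Q) ⟨y, hy⟩
    have : ⁅x, y⁆ ∈ F := mem_sup_left ⟨_, hxy, map_commutatorElement Q.subtype _ _⟩
    rw [← QuotientGroup.eq_one_iff, ← QuotientGroup.mk'_apply, map_commutatorElement,
      commutatorElement_eq_one_iff_mul_comm] at this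
    exact this
  haveI : IsMulCommutative W := ⟨⟨by
    rintro ⟨_, x, hx, rfl⟩ ⟨_, y, hy, rfl⟩; exact Subtype.ext (hWc x hx y hy).eq⟩⟩
  have hgF : g ∉ F := by
    intro hgF
    have hnorm : (frattini Q).map Q.subtype ≤ F := le_sup_left
    rw [hFdef, ← SetLike.mem_coe, normal_mul] at hgF
    obtain ⟨f, hf, w, hw, hfw⟩ := hgF
    have hfQ : f ∈ Q := hFQ hf
    obtain ⟨i, hi⟩ := mem_zpowers_iff.1 hw
    -- `g ∈ Q C(Q)`, and `g` is a `p'`-element
    obtain ⟨e, he⟩ := IsPGroup.iff_orderOf.1 hQp ⟨f, hfQ⟩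
    rw [Subgroup.orderOf_mk] at he
    have hcfw : Commute f w := by
      rw [← hi]; exact (Commute.zpow_left (hcomm f hfQ) i).symm
    have h1 : (g : H) ^ (p ^ e) = w ^ (p ^ e) := by
      have hfw' : f * w = g := hfw
      rw [← hfw', hcfw.mul_pow, ← he, pow_orderOf_eq_one, one_mul]
    apply hgc
    obtain ⟨m, -, hm⟩ : ∃ m, m < orderOf g ∧ p ^ e * m % orderOf g = 1 :=
      Nat.exists_mul_mod_eq_one_of_coprime (Nat.Coprime.pow_left e hgp.symm)
        (lt_of_le_of_ne (orderOf_pos g) (Ne.symm hg1))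
    have h2 : g = (w ^ p ^ e) ^ m := by
      rw [← h1, ← pow_mul]
      conv_lhs => rw [← pow_one g, ← hm, pow_mod_orderOf]
    rw [h2]
    refine pow_mem (pow_mem ?_ _) _
    rw [← hi]
    exact zpow_mem hgr i
  have hcop : (Nat.card A).Coprime (Nat.card W) := by
    obtain ⟨k, hk⟩ := IsPGroup.iff_card.1 hWp
    rw [hk, hA, Nat.card_zpowers]
    refine Nat.Coprime.pow_right k (hgp.coprime_dvd_left ?_)
    exact orderOf_map_dvd π g
  have hAW : A ≤ normalizer (W : Set (H ⧸ fSub Q (g ^ r))) := by rw [normalizer_eq_top]; exact le_top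
  set V := ⁅W, A⁆ with hVdef
  have hVW : V ≤ W := commutator_le_left _ _
  have hVne : V ≠ ⊥ := by
    intro hV
    -- then `g` acts trivially on `Q/Φ(Q)`
    apply hgc
    have hc : zpowers g ≤ centralizer (Q : Set H) := by
      refine Cfsg.Agent.Lib.Coprime.le_centralizer_of_frattini (by rw [normalizer_eq_top]; exact le_top) ?_ ?_
      · obtain ⟨k, hk⟩ := IsPGroup.iff_card.1 (hQp.to_subgroup (frattini Q))
        rw [hk, Nat.card_zpowers]
        refine Nat.Coprime.pow_right k ?_
        exact hgp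
      · intro b hb x hx
        have h1 : b * x * b⁻¹ * x⁻¹ ∈ Q :=
          Q.mul_mem (‹Q.Normal›.conj_mem x hx b) (Q.inv_mem hx)
        have h2 : b * x * b⁻¹ * x⁻¹ ∈ F := by
          rw [← QuotientGroup.eq_one_iff, ← QuotientGroup.mk'_apply]
          have : ⁅π x, π b⁆ ∈ V := commutator_mem_commutator (mem_map_of_mem π hx)
            (show π b ∈ A by rw [hA, ← MonoidHom.map_zpowers]; exact mem_map_of_mem π hb)
          rw [hV, mem_bot, commutatorElement_eq_one_iff_mul_comm] at this
          simp only [π] at this ⊢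
          rw [map_mul, map_mul, map_mul, map_inv, map_inv, ← this]
          group
        -- `F ∩ Q = Φ(Q)`
        rw [hFdef, ← SetLike.mem_coe, normal_mul] at h2
        obtain ⟨f, hf, w, hw, hfw⟩ := h2
        have hw1 : w ∈ Q := by
          have hfw' : f * w = b * x * b⁻¹ * x⁻¹ := hfw
          have := Q.mul_mem (Q.inv_mem (hFQ hf)) h1
          rwa [← hfw', inv_mul_cancel_left] at this
        have hdisj : Disjoint (zpowers (g ^ r)) Q := by
          refine disjoint_of_coprime_natCard ?_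
          obtain ⟨k, hk⟩ := IsPGroup.iff_card.1 hQp
          rw [hk, Nat.card_zpowers]
          refine Nat.Coprime.pow_right k (hgp.coprime_dvd_left ?_)
          exact orderOf_dvd_of_pow_eq_one (by rw [← pow_mul, mul_comm, pow_mul, pow_orderOf_eq_one, one_pow])
        have : w = 1 := Subgroup.disjoint_def.1 hdisj hw hw1
        rw [← hfw, this]
        simpa using hf
    exact hc (mem_zpowers g)
  set X : Subgroup (H ⧸ fSub Q (g ^ r)) := V ⊔ A
  haveI : (V.subgroupOf X).Normal := normal_subgroupOf_of_le_normalizer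
    (sup_le le_normalizer (Cfsg.Agent.Lib.Coprime.right_le_normalizer_commutator W A))
  haveI : IsMulCommutative V := ⟨⟨fun a b => Subtype.ext (by
    have := congrArg Subtype.val (mul_comm' (⟨a, hVW a.2⟩ : W) ⟨b, hVW b.2⟩)
    exact this)⟩⟩
  let a : X := ⟨π g, mem_sup_right (mem_zpowers _)⟩
  have ha : orderOf a = r := by
    refine orderOf_eq_prime ?_ fun e => hgF ?_
    · apply Subtype.ext
      rw [SubmonoidClass.coe_pow, coe_one]
      show π g ^ r = 1
      rw [← map_pow, QuotientGroup.mk'_apply, QuotientGroup.eq_one_iff]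
      exact mem_sup_right (mem_zpowers _)
    · exact (QuotientGroup.eq_one_iff _).1 (congrArg Subtype.val e)
  obtain ⟨hcore, hexp⟩ := bad_section (V.subgroupOf X) ((hWp.to_le hVW).comap_subtype)
    (fun e => hVne (by
      rw [← map_subgroupOf_eq_of_le (le_sup_left : V ≤ X), e, Subgroup.map_bot]))
    hr hrp a ha
    (by
      apply Subgroup.map_injective X.subtype_injective
      rw [Subgroup.map_sup, MonoidHom.map_zpowers, map_subgroupOf_eq_of_le le_sup_left,
        ← MonoidHom.range_eq_map, range_subtype]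
      rfl)
    (fun v hv e => by
      have hmem : (v : H ⧸ fSub Q (g ^ r)) ∈ (W ⊓ centralizer (A : Set (H ⧸ fSub Q (g ^ r)))) ⊓ ⁅W, A⁆ := by
        refine ⟨⟨hVW hv, ?_⟩, hv⟩
        rw [hA, zpowers_eq_closure, centralizer_closure]
        show (v : H ⧸ fSub Q (g ^ r)) ∈ centralizer {π g}
        rw [
          Subgroup.mem_centralizer_singleton_iff]
        exact (congrArg Subtype.val e).symm
      rw [Cfsg.Agent.Lib.Coprime.centralizer_inf_commutator_eq_bot hAW hcop, mem_bot] at hmem
      exact Subtype.ext hmem)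
  exact ⟨F, hFn, X, hcore, hexp⟩

/-- Let G be a finite group and p a prime. Then G has a normal p-complement if and only if every section K = H/N of G (N a normal subgroup of a subgroup H) whose largest normal subgroup of order prime to p is trivial contains an element whose order equals the exponent of K. -/
theorem result {G : Type*} [Group G] [Finite G] (p : ℕ) [Fact p.Prime] :
    Cfsg.HasNormalPComplement p G ↔
      ∀ (H : Subgroup G) (N : Subgroup H) [N.Normal], Cfsg.pPrimeCore p (H ⧸ N) = ⊥ →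
        ∃ k : H ⧸ N, orderOf k = Monoid.exponent (H ⧸ N) := by
  constructor
  · intro h H N _ hcore
    have h' : HasNormalPComplement p (H ⧸ N) :=
      hasNormalPComplement_of_surjective (QuotientGroup.mk' N) (QuotientGroup.mk'_surjective N)
        (hasNormalPComplement_subgroup h H)
    refine exists_orderOf_eq_exponent_pGroup (p := p) (pResidual_eq_bot_iff.1 (le_bot_iff.1 (hcore ▸ le_sSup ?_)))
    exact ⟨inferInstance, Nat.coprime_comm.1 ((Fact.out : p.Prime).coprime_iff_not_dvd.2
      (hasNormalPComplement_iff_not_dvd.1 h'))⟩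
  · intro h
    refine Cfsg.Agent.Lib.Transfer.Frobenius.hasNormalPComplement_of_forall_centralizes fun Q hQ _ g hg hgp => ?_
    induction hn : orderOf g using Nat.strong_induction_on generalizing g with
    | _ n ih =>
      by_contra hgc
      have hg1 : orderOf g ≠ 1 := fun e => hgc (orderOf_eq_one_iff.1 e ▸ one_mem _)
      obtain ⟨r, hr, hrg⟩ := Nat.exists_prime_and_dvd hg1
      haveI := Fact.mk hr
      have hrp : r ≠ p := fun e => (Fact.out : p.Prime).ne_one
        (Nat.eq_one_of_dvd_coprimes hgp (e ▸ hrg) dvd_rfl)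
      have hgr : g ^ r ∈ centralizer (Q : Set G) := by
        refine ih _ ?_ _ (pow_mem hg r) (hgp.coprime_dvd_left (orderOf_dvd_of_pow_eq_one ?_)) rfl
        · rw [← hn, orderOf_pow, Nat.gcd_eq_right hrg]
          exact Nat.div_lt_self (orderOf_pos g) hr.one_lt
        · rw [← pow_mul, mul_comm, pow_mul, pow_orderOf_eq_one, one_pow]
      let H : Subgroup G := Q ⊔ zpowers g
      have hHN : H ≤ normalizer (Q : Set G) := sup_le le_normalizer (zpowers_le.2 hg)
      haveI : (Q.subgroupOf H).Normal := normal_subgroupOf_of_le_normalizer hHN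
      have hgH : g ∈ H := mem_sup_right (mem_zpowers g)
      obtain ⟨F, hFn, X, hcore, hexp⟩ := exists_bad_section (p := p) (Q.subgroupOf H) hQ.comap_subtype ⟨g, hgH⟩
        (by rwa [Subgroup.orderOf_mk])
        (by
          apply Subgroup.map_injective H.subtype_injective
          rw [Subgroup.map_sup, MonoidHom.map_zpowers, map_subgroupOf_eq_of_le le_sup_left,
            ← MonoidHom.range_eq_map, range_subtype]
          rfl)
        hr hrp
        (by
          rw [mem_centralizer_iff]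
          intro x hx
          exact Subtype.ext (mem_centralizer_iff.1 hgr x hx))
        (fun hc => hgc (by
          rw [mem_centralizer_iff]
          intro q hq
          exact congrArg Subtype.val (mem_centralizer_iff.1 hc ⟨q, mem_sup_left hq⟩ hq)))
      -- realise `X` as a section of `G`
      let π := QuotientGroup.mk' F
      let H1 : Subgroup H := X.comap π
      let e1 := (H1.equivMapOfInjective H.subtype H.subtype_injective).symm
      let f : (H1.map H.subtype) →* X := (π.subgroupComap X).comp e1.toMonoidHom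
      have hf : Function.Surjective f := by
        rintro ⟨x, hx⟩
        obtain ⟨y, rfl⟩ := QuotientGroup.mk'_surjective F x
        refine ⟨e1.symm ⟨y, hx⟩, Subtype.ext ?_⟩
        show π ((e1 (e1.symm ⟨y, hx⟩) : H1) : H) = π y
        rw [MulEquiv.apply_symm_apply]
      let e := QuotientGroup.quotientKerEquivOfSurjective f hf
      have hcore' : Cfsg.pPrimeCore p ((H1.map H.subtype) ⧸ f.ker) = ⊥ := by
        rw [Cfsg.pPrimeCore, sSup_eq_bot]
        rintro M ⟨hMn, hM⟩
        have : M.map e.toMonoidHom ≤ Cfsg.pPrimeCore p X :=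
          le_sSup ⟨hMn.map _ e.surjective, by rwa [card_map_of_injective (f := e.toMonoidHom) e.injective]⟩
        rw [hcore, le_bot_iff, map_eq_bot_iff_of_injective (f := e.toMonoidHom) _ e.injective] at this
        exact this
      obtain ⟨k, hk⟩ := h (H1.map H.subtype) f.ker hcore'
      refine hexp (e k) ?_
      rw [e.orderOf_eq, hk, Monoid.exponent_eq_of_mulEquiv e]

end Cfsg.Agent.S4238
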