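import Cfsg.Statements.S4242
import Cfsg.Agent.Lib.Transfer.Frobenius
import Cfsg.Agent.Lib.Cores.Basic

set_option autoImplicit false
open Cfsg

namespace Cfsg.Agent.S4242

open Subgroup

variable {G : Type*} [Group G] [Finite G] {p : ℕ}

lemma commute_of_nilpotent {K : Subgroup G} (hK : Group.IsNilpotent K) {a b : G} (ha : a ∈ K) (hb : b ∈ K)
    (h : (orderOf a).Coprime (orderOf b)) : a * b = b * a := by
  haveI := hK
  exact congrArg Subtype.val (Cfsg.Agent.Lib.Transfer.Frobenius.commute_of_coprime_of_isNilpotent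
    (a := (⟨a, ha⟩ : K)) (b := ⟨b, hb⟩) (by rwa [Subgroup.orderOf_mk, Subgroup.orderOf_mk]))

lemma isNilpotent_of_dvd (h : ∀ M : Subgroup G, IsCoatom M → p ∣ Nat.card M → Group.IsNilpotent M)
    {H : Subgroup G} (hH : H ≠ ⊤) (hp : p ∣ Nat.card H) : Group.IsNilpotent H := by
  obtain ⟨M, hM, hHM⟩ := (eq_top_or_exists_le_coatom H).resolve_left hH
  exact Cfsg.Agent.Lib.Cores.isNilpotent_of_le hHM (h M hM (hp.trans (card_dvd_of_le hHM)))

/-- `O_p(G) ≠ 1` for a non-nilpotent such group. -/
lemma exists_normal_pGroup [hp : Fact p.Prime] (hpG : p ∣ Nat.card G)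
    (h : ∀ M : Subgroup G, IsCoatom M → p ∣ Nat.card M → Group.IsNilpotent M)
    {M₀ : Subgroup G} (hM₀ : IsCoatom M₀) (hp₀ : ¬ p ∣ Nat.card M₀) (hn₀ : ¬ Group.IsNilpotent M₀) :
    ∃ U : Subgroup G, U.Normal ∧ U ≠ ⊥ ∧ IsPGroup p U := by
  by_contra hno
  simp only [not_exists, not_and] at hno
  have hdvd : ∀ U : Subgroup G, IsPGroup p U → U ≠ ⊥ → p ∣ Nat.card U := fun U hU hU1 =>
    hU.card_eq_or_dvd.resolve_left fun e => hU1 (card_eq_one.1 e)
  -- `G` is `p`-nilpotent
  have hnpc : Cfsg.HasNormalPComplement p G := by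
    refine Cfsg.Agent.Lib.Transfer.Frobenius.hasNormalPComplement_of_forall_centralizes fun Q hQ hQ1 g hg hgp => ?_
    have hN : normalizer (Q : Set G) ≠ ⊤ := fun e =>
      hno Q (normalizer_eq_top_iff.1 e) hQ1 hQ
    have hnil := isNilpotent_of_dvd h hN ((hdvd Q hQ hQ1).trans (card_dvd_of_le le_normalizer))
    rw [mem_centralizer_iff]
    intro q hq
    obtain ⟨k, hk⟩ := IsPGroup.iff_orderOf.1 hQ ⟨q, hq⟩
    rw [Subgroup.orderOf_mk] at hk
    exact commute_of_nilpotent hnil (le_normalizer hq) hg (hk ▸ Nat.Coprime.pow_left k hgp.symm)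
  obtain ⟨P, N, hNn, hNP⟩ := hnpc
  have hNcop : ¬ p ∣ Nat.card N := by rw [← hNP.index_eq_card]; exact P.not_dvd_index
  have hM0N : M₀ ≤ N := by
    intro m hm
    have hm' : (orderOf m).Coprime p :=
      (Nat.coprime_comm.1 (hp.out.coprime_iff_not_dvd.2 fun hd => hp₀ (hd.trans (M₀.orderOf_dvd_natCard hm))))
    exact (Cfsg.Agent.Lib.Transfer.PResidual.mem_iff_coprime_of_isComplement' P N hNP m).2 hm'
  have hNtop : N ≠ ⊤ := fun e => hNcop (by rw [e, card_top]; exact hpG)
  have hNeq : N = M₀ := (hM₀.le_iff.1 hM0N).resolve_left hNtop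
  have hPne : (P : Subgroup G) ≠ ⊥ := P.ne_bot_of_dvd_card hpG
  -- `P` centralises a Sylow subgroup of `N` for every prime
  have hC : N ≤ centralizer ((P : Subgroup G) : Set G) := by
    have hkey : Nat.card N ∣ Nat.card (N ⊓ centralizer ((P : Subgroup G) : Set G) : Subgroup G) := by
      rw [← Nat.factorization_le_iff_dvd Nat.card_pos.ne' Nat.card_pos.ne']
      intro q
      by_cases hq : q.Prime
      swap
      · simp [Nat.factorization_eq_zero_of_not_prime _ hq]
      haveI := Fact.mk hq
      obtain ⟨Q⟩ : Nonempty (Sylow q N) := inferInstance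
      set Q' : Subgroup G := (Q : Subgroup N).map N.subtype
      have hQN : Q' ≤ N := map_subtype_le _
      have hQc : Nat.card Q' = q ^ (Nat.card N).factorization q := by
        rw [card_map_of_injective N.subtype_injective]; exact Q.card_eq_multiplicity
      by_cases hQ0 : Q' = ⊥
      · rw [hQ0, card_bot] at hQc
        have : (Nat.card N).factorization q = 0 := by
          rcases Nat.eq_zero_or_pos ((Nat.card N).factorization q) with e | e
          · exact e
          · exact absurd hQc.symm (Nat.one_lt_pow e.ne' hq.one_lt).ne'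
        rw [this]; exact Nat.zero_le _
      have hqN : q ∣ Nat.card N := by
        have := card_dvd_of_le hQN
        rcases Nat.eq_zero_or_pos ((Nat.card N).factorization q) with e | e
        · exact absurd (card_eq_one.1 (by rw [hQc, e, pow_zero])) hQ0
        · exact (dvd_pow_self q e.ne').trans (hQc ▸ this)
      have hqp : q ≠ p := fun e => hNcop (e ▸ hqN)
      have hfr : normalizer (Q' : Set G) ⊔ N = ⊤ := Sylow.normalizer_sup_eq_top Q
      have hpN : p ∣ Nat.card (normalizer (Q' : Set G)) := by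
        have := hpG
        rw [← card_top (G := G), ← hfr] at this
        rcases hp.out.dvd_mul.1 (this.trans (Cfsg.Agent.Lib.Cores.card_sup_dvd_mul _ N)) with e | e
        · exact e
        · exact absurd e hNcop
      -- a Sylow `p`-subgroup of `N_G(Q')` is Sylow in `G` and centralises `Q'`
      obtain ⟨T⟩ : Nonempty (Sylow p (normalizer (Q' : Set G))) := inferInstance
      set T' : Subgroup G := (T : Subgroup (normalizer (Q' : Set G))).map (normalizer (Q' : Set G)).subtype
      have hTN : T' ≤ normalizer (Q' : Set G) := map_subtype_le _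
      have hTp : IsPGroup p T' := T.2.map _
      obtain ⟨P', hP'⟩ := hTp.exists_le_sylow
      have hTP : T' = P' := by
        refine eq_of_le_of_card_ge hP' ?_
        rw [card_map_of_injective (normalizer (Q' : Set G)).subtype_injective, T.card_eq_multiplicity,
          P'.card_eq_multiplicity]
        refine Nat.pow_le_pow_right hp.out.pos ?_
        have hd : Nat.card G ∣ Nat.card (normalizer (Q' : Set G)) * Nat.card N := by
          rw [← card_top (G := G), ← hfr]; exact Cfsg.Agent.Lib.Cores.card_sup_dvd_mul _ N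
        have := (Nat.factorization_le_iff_dvd Nat.card_pos.ne' (Nat.mul_pos Nat.card_pos Nat.card_pos).ne').2 hd p
        rwa [Nat.factorization_mul Nat.card_pos.ne' Nat.card_pos.ne', Finsupp.add_apply,
          Nat.factorization_eq_zero_of_not_dvd hNcop, add_zero] at this
      have hcomm : ∀ a ∈ T', ∀ b ∈ Q', a * b = b * a := by
        intro a ha b hb
        have hnil : Group.IsNilpotent (T' ⊔ Q' : Subgroup G) := by
          refine isNilpotent_of_dvd h ?_ ((hdvd T' hTp fun e => P'.ne_bot_of_dvd_card hpG (hTP ▸ e)).trans (card_dvd_of_le le_sup_left))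
          intro e
          -- otherwise `N = Q'` is nilpotent
          apply hn₀
          have hd : Nat.card G ∣ Nat.card T' * Nat.card Q' := by
            rw [← card_top (G := G), ← e]
            have hTQ : T' ≤ normalizer (Q' : Set G) := hTN
            obtain ⟨h1, h2⟩ : (T'.subgroupOf (normalizer (Q' : Set G)) ⊔ Q'.subgroupOf (normalizer (Q' : Set G))).map (normalizer (Q' : Set G)).subtype = T' ⊔ Q' ∧ True := by
              refine ⟨?_, trivial⟩
              rw [Subgroup.map_sup, map_subgroupOf_eq_of_le hTQ, map_subgroupOf_eq_of_le le_normalizer]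
            haveI : (Q'.subgroupOf (normalizer (Q' : Set G))).Normal := normal_subgroupOf_of_le_normalizer le_rfl
            rw [← h1, card_map_of_injective (normalizer (Q' : Set G)).subtype_injective,
              ← Nat.card_congr (subgroupOfEquivOfLe hTQ).toEquiv,
              ← Nat.card_congr (subgroupOfEquivOfLe (le_normalizer : Q' ≤ normalizer (Q' : Set G))).toEquiv]
            exact Cfsg.Agent.Lib.Cores.card_sup_dvd_mul _ _
          have hdN : Nat.card N ∣ Nat.card Q' := by
            refine Nat.Coprime.dvd_of_dvd_mul_left ?_ ((Subgroup.card_subgroup_dvd_card N).trans hd)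
            obtain ⟨k, hk⟩ := IsPGroup.iff_card.1 hTp
            rw [hk]
            exact Nat.Coprime.pow_right k (Nat.coprime_comm.1 (hp.out.coprime_iff_not_dvd.2 hNcop))
          have : Q' = N := eq_of_le_of_card_ge hQN (Nat.le_of_dvd Nat.card_pos hdN)
          rw [← hNeq, ← this]
          exact (Q.2.map N.subtype).isNilpotent
        obtain ⟨i, hi⟩ := IsPGroup.iff_orderOf.1 hTp ⟨a, ha⟩
        obtain ⟨j, hj⟩ := IsPGroup.iff_orderOf.1 (Q.2.map N.subtype) ⟨b, hb⟩
        rw [Subgroup.orderOf_mk] at hi hj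
        exact commute_of_nilpotent hnil (mem_sup_left ha) (mem_sup_right hb)
          (by rw [hi, hj]; exact Nat.Coprime.pow i j ((Nat.coprime_primes hp.out hq).2 (Ne.symm hqp)))
      obtain ⟨g, hg⟩ := MulAction.exists_smul_eq G P' P
      have hQg : Q'.map (MulAut.conj g).toMonoidHom ≤ N ⊓ centralizer ((P : Subgroup G) : Set G) := by
        rintro _ ⟨b, hb, rfl⟩
        refine ⟨hNn.conj_mem b (hQN hb) g, ?_⟩
        show g * b * g⁻¹ ∈ centralizer ((P : Subgroup G) : Set G)
        rw [mem_centralizer_iff]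
        intro a ha
        rw [SetLike.mem_coe, ← hg] at ha
        obtain ⟨c, hc, rfl⟩ := ha
        have hcT : c ∈ T' := hTP ▸ hc
        show g * c * g⁻¹ * (g * b * g⁻¹) = g * b * g⁻¹ * (g * c * g⁻¹)
        calc g * c * g⁻¹ * (g * b * g⁻¹) = g * (c * b) * g⁻¹ := by group
          _ = g * (b * c) * g⁻¹ := by rw [hcomm c hcT b hb]
          _ = g * b * g⁻¹ * (g * c * g⁻¹) := by group
      have h1 := card_dvd_of_le hQg
      rw [card_map_of_injective (MulAut.conj g).injective, hQc] at h1
      exact (hq.pow_dvd_iff_le_factorization Nat.card_pos.ne').1 h1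
    have h2 := eq_of_le_of_card_ge (inf_le_left : N ⊓ centralizer ((P : Subgroup G) : Set G) ≤ N)
      (Nat.le_of_dvd Nat.card_pos hkey)
    exact h2 ▸ inf_le_right
  -- so `P` is normal
  refine hno P ?_ hPne P.2
  rw [← normalizer_eq_top_iff, eq_top_iff, ← hNP.sup_eq_top]
  exact sup_le (hC.trans (centralizer_le_normalizer _)) le_normalizer

lemma structure_thm [hp : Fact p.Prime] (hpG : p ∣ Nat.card G)
    (h : ∀ M : Subgroup G, IsCoatom M → p ∣ Nat.card M → Group.IsNilpotent M) (hnG : ¬ Group.IsNilpotent G)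
    (hnm : ¬ Cfsg.IsMinimalNonNilpotent G) :
    ∃ Z K : Subgroup G, Z.Normal ∧ K.Normal ∧ Z ⊓ K = ⊥ ∧ Z ⊔ K = ⊤ ∧ Nat.card Z = p ∧
      Cfsg.IsMinimalNonNilpotent K ∧ ¬ p ∣ Nat.card K := by
  obtain ⟨M₀, hM₀, hn₀⟩ : ∃ M₀ : Subgroup G, IsCoatom M₀ ∧ ¬ Group.IsNilpotent M₀ := by
    by_contra hno
    simp only [not_exists, not_and, not_not] at hno
    refine hnm ⟨hnG, fun H hH => ?_⟩
    obtain ⟨M, hM, hHM⟩ := (eq_top_or_exists_le_coatom H).resolve_left hH
    exact Cfsg.Agent.Lib.Cores.isNilpotent_of_le hHM (hno M hM)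
  have hp₀ : ¬ p ∣ Nat.card M₀ := fun e => hn₀ (h M₀ hM₀ e)
  obtain ⟨U, hUn, hU1, hUp⟩ := exists_normal_pGroup hpG h hM₀ hp₀ hn₀
  have hdvd : ∀ V : Subgroup G, IsPGroup p V → V ≠ ⊥ → p ∣ Nat.card V := fun V hV hV1 =>
    hV.card_eq_or_dvd.resolve_left fun e => hV1 (card_eq_one.1 e)
  -- every nontrivial normal `p`-subgroup supplements `M₀`
  have hsup : ∀ V : Subgroup G, V.Normal → V ≠ ⊥ → IsPGroup p V → V ⊔ M₀ = ⊤ := fun V _ hV1 hVp => by
    refine (hM₀.le_iff.1 le_sup_right).resolve_right fun e => ?_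
    exact hp₀ ((hdvd V hVp hV1).trans (card_dvd_of_le (e ▸ le_sup_left)))
  -- proper subgroups of `M₀` are nilpotent and centralise `U`
  have hsub : ∀ L : Subgroup G, L < M₀ → Group.IsNilpotent L ∧ ∀ u ∈ U, ∀ l ∈ L, u * l = l * u := by
    intro L hL
    have hne : U ⊔ L ≠ ⊤ := by
      intro e
      haveI := hUn
      have hd : Nat.card G ∣ Nat.card L * Nat.card U := by
        rw [← card_top (G := G), ← e, sup_comm]; exact Cfsg.Agent.Lib.Cores.card_sup_dvd_mul L U
      have hdM : Nat.card M₀ ∣ Nat.card L := by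
        refine Nat.Coprime.dvd_of_dvd_mul_right ?_ ((Subgroup.card_subgroup_dvd_card M₀).trans hd)
        obtain ⟨k, hk⟩ := IsPGroup.iff_card.1 hUp
        rw [hk]
        exact Nat.Coprime.pow_right k (Nat.coprime_comm.1 (hp.out.coprime_iff_not_dvd.2 hp₀))
      exact hL.ne (eq_of_le_of_card_ge hL.le (Nat.le_of_dvd Nat.card_pos hdM))
    have hnil := isNilpotent_of_dvd h hne ((hdvd U hUp hU1).trans (card_dvd_of_le le_sup_left))
    refine ⟨Cfsg.Agent.Lib.Cores.isNilpotent_of_le le_sup_right hnil, fun u hu l hl => ?_⟩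
    obtain ⟨k, hk⟩ := IsPGroup.iff_orderOf.1 hUp ⟨u, hu⟩
    rw [Subgroup.orderOf_mk] at hk
    refine commute_of_nilpotent hnil (mem_sup_left hu) (mem_sup_right hl) ?_
    rw [hk]
    exact Nat.Coprime.pow_left k (hp.out.coprime_iff_not_dvd.2 fun e => hp₀ (e.trans (M₀.orderOf_dvd_natCard (hL.le hl))))
  have hcent : M₀ ≤ centralizer (U : Set G) := by
    intro m hm
    have hlt : zpowers m < M₀ := by
      refine lt_of_le_of_ne (zpowers_le.2 hm) fun e => hn₀ ?_
      rw [← e]
      letI : CommGroup (zpowers m) := IsCyclic.commGroup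
      infer_instance
    rw [mem_centralizer_iff]
    exact fun u hu => (hsub _ hlt).2 u hu m (mem_zpowers m)
  -- a subgroup of order `p` of `Z(U)` is central in `G`
  haveI : Nontrivial U := (nontrivial_iff_ne_bot U).2 hU1
  haveI := hUp.center_nontrivial
  obtain ⟨c, hc⟩ := exists_prime_orderOf_dvd_card' (G := center U) p
    ((hUp.to_subgroup _).card_eq_or_dvd.resolve_left Finite.one_lt_card.ne')
  set z : G := ((c : U) : G) with hzdef
  set Z := zpowers z
  have hzp : orderOf z = p := by rw [hzdef, Subgroup.orderOf_coe, Subgroup.orderOf_coe, hc]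
  have hzc : z ∈ center G := by
    rw [mem_center_iff]
    intro g
    have hg : g ∈ ((U ⊔ M₀ : Subgroup G) : Set G) := by simp [hsup U hUn hU1 hUp]
    rw [normal_mul] at hg
    obtain ⟨u, hu, m, hm, rfl⟩ := hg
    have h1 : Commute z u := congrArg Subtype.val ((mem_center_iff.1 c.2 ⟨u, hu⟩).symm)
    have h2 : Commute z m := mem_centralizer_iff.1 (hcent hm) z (c : U).2
    exact (h1.mul_right h2).symm.eq
  have hZn : Z.Normal := by
    constructor
    intro x hx g
    have hxc : x ∈ center G := zpowers_le.2 hzc hx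
    rwa [mem_center_iff.1 hxc g, mul_inv_cancel_right]
  have hZc : Nat.card Z = p := by rw [Nat.card_zpowers, hzp]
  have hZp : IsPGroup p Z := IsPGroup.of_card (n := 1) (by rw [hZc, pow_one])
  have hZ1 : Z ≠ ⊥ := fun e => hp.out.ne_one (by rw [← hZc, e, card_bot])
  have htop : Z ⊔ M₀ = ⊤ := hsup Z hZn hZ1 hZp
  have hMn : M₀.Normal := by
    rw [← normalizer_eq_top_iff, eq_top_iff, ← htop]
    refine sup_le (zpowers_le.2 ?_) le_normalizer
    rw [mem_normalizer_iff]
    intro x
    rw [← mem_center_iff.1 hzc x, mul_inv_cancel_right]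
  refine ⟨Z, M₀, hZn, hMn, ?_, htop, hZc, ⟨hn₀, fun H hH => ?_⟩, hp₀⟩
  · refine disjoint_iff.1 (disjoint_of_coprime_natCard ?_)
    rw [hZc]; exact hp.out.coprime_iff_not_dvd.2 hp₀
  · have hlt : H.map M₀.subtype < M₀ := by
      refine lt_of_le_of_ne (map_subtype_le _) fun e => hH ?_
      apply map_injective M₀.subtype_injective
      rw [e, ← MonoidHom.range_eq_map, range_subtype]
    haveI := (hsub _ hlt).1
    exact Group.nilpotent_of_mulEquiv (H.equivMapOfInjective M₀.subtype M₀.subtype_injective).symm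

/-- Let G be a finite group and p a prime dividing its order. Every maximal subgroup of G of order divisible by p is nilpotent if and only if G is nilpotent, or G is a minimal non-nilpotent group, or G is the internal direct product of a normal subgroup of order p and a normal minimal non-nilpotent subgroup of order prime to p. -/
theorem result {G : Type*} [Group G] [Finite G] (p : ℕ) (hp : p.Prime) (hpG : p ∣ Nat.card G) :
    (∀ M : Subgroup G, IsCoatom M → p ∣ Nat.card M → Group.IsNilpotent M) ↔
      (Group.IsNilpotent G ∨ Cfsg.IsMinimalNonNilpotent G ∨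
        ∃ Z K : Subgroup G, Z.Normal ∧ K.Normal ∧ Z ⊓ K = ⊥ ∧ Z ⊔ K = ⊤ ∧ Nat.card Z = p ∧
          Cfsg.IsMinimalNonNilpotent K ∧ ¬ p ∣ Nat.card K) := by
  haveI := Fact.mk hp
  constructor
  · intro h
    by_cases h1 : Group.IsNilpotent G
    · exact Or.inl h1
    by_cases h2 : Cfsg.IsMinimalNonNilpotent G
    · exact Or.inr (Or.inl h2)
    exact Or.inr (Or.inr (structure_thm hpG h h1 h2))
  · rintro (h | h | ⟨Z, K, hZn, hKn, hZK, htop, hZ, hK, hpK⟩) M hM hpM
    · haveI := h; infer_instance
    · exact h.2 M hM.1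
    · have hZp : IsPGroup p Z := IsPGroup.of_card (n := 1) (by rw [hZ, pow_one])
      obtain ⟨⟨x, hxM⟩, hx⟩ := exists_prime_orderOf_dvd_card' (G := M) p hpM
      rw [Subgroup.orderOf_mk] at hx
      -- the element of order `p` generates `Z`
      have hxZ : x ∈ Z := by
        have hm : x ∈ ((Z ⊔ K : Subgroup G) : Set G) := by simp [htop]
        rw [normal_mul] at hm
        obtain ⟨a, ha, b, hb, rfl⟩ := hm
        have hab : Commute a b := commute_of_normal_of_disjoint Z K hZn hKn (disjoint_iff.2 hZK) a b ha hb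
        have hap : a ^ p = 1 := by
          have := pow_card_eq_one' (G := Z) (x := ⟨a, ha⟩)
          rw [hZ] at this
          simpa using congrArg Subtype.val this
        have hbp : b ^ p = 1 := by
          have := pow_orderOf_eq_one (a * b)
          rwa [hx, hab.mul_pow, hap, one_mul] at this
        have hb1 : b = 1 := by
          rw [← orderOf_eq_one_iff]
          exact Nat.eq_one_of_dvd_coprimes (Fact.out (p := p.Prime) |>.coprime_iff_not_dvd.2 hpK)
            (orderOf_dvd_of_pow_eq_one hbp) (K.orderOf_dvd_natCard hb)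
        show a * b ∈ Z
        rw [hb1, mul_one]; exact ha
      have hZM : Z ≤ M := by
        have : zpowers x = Z := eq_of_le_of_card_ge (zpowers_le.2 hxZ) (by rw [Nat.card_zpowers, hx, hZ])
        exact this ▸ zpowers_le.2 hxM
      have hKM : (M.subgroupOf K) ≠ ⊤ := fun e =>
        hM.1 (top_le_iff.1 (htop ▸ sup_le hZM (subgroupOf_eq_top.1 e)))
      haveI := hK.2 _ hKM
      -- `M = Z × (M ∩ K)`
      haveI := hKn
      haveI := hZn
      let f : M →* (G ⧸ Z) := (QuotientGroup.mk' Z).comp M.subtype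
      have hker : f.ker ≤ center M := by
        intro a ha
        have haZ : (a : G) ∈ Z := (QuotientGroup.eq_one_iff _).1 (MonoidHom.mem_ker.1 ha)
        rw [mem_center_iff]
        intro b
        apply Subtype.ext
        have hb : (b : G) ∈ ((Z ⊔ K : Subgroup G) : Set G) := by simp [htop]
        rw [normal_mul] at hb
        obtain ⟨u, hu, w, hw, huw⟩ := hb
        have h1 : Commute (a : G) u := by
          haveI : IsCyclic Z := isCyclic_of_prime_card hZ
          exact congrArg Subtype.val (IsCyclic.commGroup.mul_comm (⟨(a : G), haZ⟩ : Z) ⟨u, hu⟩)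
        have h2 : Commute (a : G) w := commute_of_normal_of_disjoint Z K hZn hKn (disjoint_iff.2 hZK) _ w haZ hw
        have huw' : u * w = (b : G) := huw
        show (b : G) * a = a * b
        rw [← huw']
        exact (h1.mul_right h2).symm.eq
      let g : (M.subgroupOf K) →* f.range := ((QuotientGroup.mk' Z).comp (K.subtype.comp (M.subgroupOf K).subtype)).codRestrict f.range
        fun k => ⟨⟨((k : K) : G), k.2⟩, rfl⟩
      haveI : Group.IsNilpotent f.range := by
        refine Group.nilpotent_of_surjective g ?_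
        rintro ⟨_, m, rfl⟩
        have hm : (m : G) ∈ ((Z ⊔ K : Subgroup G) : Set G) := by simp [htop]
        rw [normal_mul] at hm
        obtain ⟨u, hu, w, hw, huw⟩ := hm
        have huw' : u * w = (m : G) := huw
        have hwM : w ∈ M := by
          have := M.mul_mem (M.inv_mem (hZM hu)) m.2
          rwa [← huw', inv_mul_cancel_left] at this
        refine ⟨⟨⟨w, hw⟩, hwM⟩, Subtype.ext ?_⟩
        show (QuotientGroup.mk' Z) w = (QuotientGroup.mk' Z) (m : G)
        rw [← huw', map_mul, show (QuotientGroup.mk' Z) u = 1 from (QuotientGroup.eq_one_iff u).2 hu, one_mul]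
      exact Subgroup.isNilpotent_of_ker_le_center f.rangeRestrict (by rwa [MonoidHom.ker_rangeRestrict])

end Cfsg.Agent.S4242
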