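import Cfsg.Statements.S4244
-- import your own Cfsg.Agent.* helpers here

set_option autoImplicit false
open Cfsg

namespace Cfsg.Agent.S4244

lemma relIndex_sup_of_normal {G : Type*} [Group G] [Finite G] (H K : Subgroup G) [H.Normal] :
    K.relIndex H = K.relIndex (H ⊔ K) := by
  have h1 := Subgroup.relIndex_mul_relIndex (H ⊓ K) H (H ⊔ K) inf_le_left le_sup_left
  have h2 := Subgroup.relIndex_mul_relIndex (H ⊓ K) K (H ⊔ K) inf_le_right le_sup_right
  rw [Subgroup.inf_relIndex_left, Subgroup.relIndex_sup_left (H := K) (K := H)] at h1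
  rw [Subgroup.inf_relIndex_right] at h2
  have h3 : H.relIndex K ≠ 0 := Subgroup.index_ne_zero_of_finite (H := H.subgroupOf K)
  apply Nat.eq_of_mul_eq_mul_right (Nat.pos_of_ne_zero h3)
  rw [h1, ← h2, mul_comm]

lemma relIndex_dvd_of_normal {G : Type*} [Group G] [Finite G] (H K : Subgroup G) [H.Normal] :
    (H ⊓ K).relIndex H ∣ K.index := by
  rw [Subgroup.inf_relIndex_left, relIndex_sup_of_normal]
  exact ⟨(H ⊔ K).index, (Subgroup.relIndex_mul_index le_sup_right).symm⟩

/-- Let H be a subnormal subgroup of a finite group G. Then for every subgroup K of G the index of H ∩ K in H divides the index of K in G. -/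
theorem result {G : Type*} [Group G] [Finite G] (H : Subgroup G) (hH : H.IsSubnormal) (K : Subgroup G) :
    (H ⊓ K).relIndex H ∣ K.index := by
  induction hH with
  | top => simp [Subgroup.relIndex_top_right]
  | step H L hle hL hN ih =>
    refine Nat.dvd_trans ?_ ih
    have h1 := relIndex_dvd_of_normal (H.subgroupOf L) ((L ⊓ K).subgroupOf L)
    rw [← Subgroup.relIndex, Subgroup.inf_subgroupOf_left] at h1
    rw [show H.subgroupOf L ⊓ K.subgroupOf L = (H ⊓ K).subgroupOf L from (Subgroup.comap_inf H K L.subtype).symm,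
      Subgroup.relIndex_subgroupOf hle] at h1
    exact (Subgroup.inf_relIndex_left H K) ▸ h1

end Cfsg.Agent.S4244
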