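import Cfsg.Statements.S4245
import Cfsg.Agent.Lib.Induced.Burnside
import Mathlib.GroupTheory.Transfer
-- import your own Cfsg.Agent.* helpers here

set_option autoImplicit false
open Cfsg

namespace Cfsg.Agent.S4245

open Subgroup

theorem exists_mem_ne_one_of_ne_bot_aux {X : Type*} [Group X] {H : Subgroup X} (h : H ≠ ⊥) :
    ∃ x ∈ H, x ≠ 1 := by
  by_contra hc
  push Not at hc
  exact h ((Subgroup.eq_bot_iff_forall H).2 hc)

theorem eq_of_orderOf_eq_two_aux {X : Type*} [Group X] [Finite X] [IsCyclic X] {u t : X}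
    (hu : orderOf u = 2) (ht : orderOf t = 2) : u = t := by
  classical
  have := Fintype.ofFinite X
  have hd : 2 ∣ Fintype.card X := by rw [← hu]; exact orderOf_dvd_card
  have h1 := IsCyclic.card_orderOf_eq_totient (α := X) hd
  rw [Nat.totient_two] at h1
  exact Finset.card_le_one.1 (le_of_eq h1) u (by simp [hu]) t (by simp [ht])

universe v

/-- `X` has a cyclic normal subgroup whose quotient is a cyclic `2`-group. -/
def CycByTwo (X : Type v) [Group X] : Prop :=
  ∃ B : Subgroup X, ∃ _ : B.Normal, IsCyclic B ∧ IsCyclic (X ⧸ B) ∧ IsPGroup 2 (X ⧸ B)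

theorem CycByTwo.of_injective {X Y : Type v} [Group X] [Group Y] (h : CycByTwo X) (f : Y →* X)
    (hf : Function.Injective f) : CycByTwo Y := by
  obtain ⟨B, hB, h1, h2, h3⟩ := h
  let g : Y ⧸ B.comap f →* X ⧸ B := QuotientGroup.map _ B f le_rfl
  have hg : Function.Injective g := by
    rw [injective_iff_map_eq_one]
    intro x
    induction x using QuotientGroup.induction_on with
    | _ y => simp [g, QuotientGroup.eq_one_iff]
  haveI := h1
  haveI := h2
  refine ⟨B.comap f, inferInstance, ?_, isCyclic_of_injective g hg, h3.of_injective g hg⟩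
  exact isCyclic_of_injective (f.subgroupComap B)
    fun a b hab => Subtype.ext (hf (congrArg Subtype.val hab))

theorem CycByTwo.of_surjective {X Y : Type v} [Group X] [Group Y] (h : CycByTwo X) (f : X →* Y)
    (hf : Function.Surjective f) : CycByTwo Y := by
  obtain ⟨B, hB, h1, h2, h3⟩ := h
  haveI : (B.map f).Normal := hB.map f hf
  let g : X ⧸ B →* Y ⧸ B.map f := QuotientGroup.map B _ f (le_comap_map f B)
  have hg : Function.Surjective g := by
    intro y
    obtain ⟨y, rfl⟩ := QuotientGroup.mk_surjective y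
    obtain ⟨x, rfl⟩ := hf y
    exact ⟨x, rfl⟩
  haveI := h1
  haveI := h2
  exact ⟨B.map f, inferInstance, isCyclic_of_surjective (f.subgroupMap B) (f.subgroupMap_surjective B),
    isCyclic_of_surjective g hg, h3.of_surjective g hg⟩

theorem isSolvable_of_index (n : ℕ) : ∀ {G : Type v} [Group G] [Finite G], Nat.card G = n →
    ∀ (A : Subgroup G) {p : ℕ}, p.Prime → (∃ s, A.index ∣ p ^ s) → CycByTwo A → Group.IsSolvable G := by
  induction n using Nat.strong_induction_on with
  | _ n ih =>
  intro G _ _ hn A p hp hs hA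
  rcases subsingleton_or_nontrivial G with h | h
  · exact Group.isSolvable_of_comm fun a b => Subsingleton.elim _ _
  obtain ⟨s, hs⟩ := hs
  by_cases hsimp : ∃ N : Subgroup G, N.Normal ∧ N ≠ ⊥ ∧ N ≠ ⊤
  · obtain ⟨N, hN, hNb, hNt⟩ := hsimp
    have hmul : Nat.card N * N.index = n := hn ▸ card_mul_index N
    haveI : Group.IsSolvable N := by
      refine ih (Nat.card N) ?_ rfl (A.subgroupOf N) hp ⟨s, dvd_trans ?_ hs⟩ ?_
      · rw [← hn]
        exact lt_of_le_of_ne (Subgroup.card_le_card_group N) fun h => hNt (eq_top_of_card_eq N h)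
      · have e1 : N.relIndex A * A.index = A.relIndex N * N.index := by
          rw [← inf_relIndex_left A N, relIndex_mul_index (inf_le_left : A ⊓ N ≤ A),
            ← inf_relIndex_right A N, relIndex_mul_index (inf_le_right : A ⊓ N ≤ N)]
        obtain ⟨e, he⟩ := relIndex_dvd_index_of_normal N A
        have hpos : N.relIndex A ≠ 0 := by
          intro h0
          rw [h0, zero_mul] at he
          exact index_ne_zero_of_finite he
        refine ⟨e, ?_⟩
        show A.index = A.relIndex N * e
        refine mul_left_cancel₀ hpos ?_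
        rw [e1, he]; ring
      · let f : A.subgroupOf N →* A := (N.subtype.comp (A.subgroupOf N).subtype).codRestrict A fun x => x.2
        refine hA.of_injective f fun a b hab => ?_
        exact Subtype.ext (Subtype.ext (congrArg (fun z : A => (z : G)) hab))
    haveI : Group.IsSolvable (G ⧸ N) := by
      refine ih (Nat.card (G ⧸ N)) ?_ rfl (A.map (QuotientGroup.mk' N)) hp
        ⟨s, dvd_trans (index_map_dvd A (QuotientGroup.mk'_surjective N)) hs⟩ ?_
      · rw [← hn]
        have h1 : 1 < Nat.card N := by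
          haveI : Nontrivial N := (Subgroup.nontrivial_iff_ne_bot N).2 hNb
          exact Finite.one_lt_card
        rw [← card_mul_index N]
        show N.index < _
        exact lt_mul_of_one_lt_left (Nat.pos_of_ne_zero index_ne_zero_of_finite) h1
      · exact hA.of_surjective ((QuotientGroup.mk' N).subgroupMap A) (MonoidHom.subgroupMap_surjective _ A)
    exact Group.isSolvable_of_ker_le_range N.subtype (QuotientGroup.mk' N) (by simp)
  haveI : IsSimpleGroup G := ⟨fun N hN => by
    by_contra hc
    push Not at hc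
    exact hsimp ⟨N, hN, hc.1, hc.2⟩⟩
  -- a class of prime power size finishes
  have hfin : ∀ g : G, g ≠ 1 → ∀ q k : ℕ, q.Prime → (centralizer ({g} : Set G)).index ∣ q ^ k →
      Group.IsSolvable G := by
    intro g hg q k hq hdvd
    obtain ⟨j, -, hj⟩ := (Nat.dvd_prime_pow hq).1 hdvd
    haveI := Fact.mk (Cfsg.Agent.Lib.Induced.Burnside.prime_card_of_class_primePow hq hg hj)
    haveI : IsCyclic G := isCyclic_of_prime_card (p := Nat.card G) rfl
    letI := IsCyclic.commGroup (α := G)
    exact Group.isSolvable_of_comm fun a b => mul_comm a b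
  -- so `A` has trivial centre
  have hcen : ∀ z ∈ A, (∀ x ∈ A, x * z = z * x) → z ≠ 1 → Group.IsSolvable G := by
    intro z _ hcomm hz1
    refine hfin z hz1 p s hp (dvd_trans (index_dvd_of_le ?_) hs)
    intro x hx
    rw [mem_centralizer_singleton_iff]
    exact hcomm x hx
  have hcyc : IsCyclic A → Group.IsSolvable G := by
    intro hc
    letI := IsCyclic.commGroup (α := A)
    by_cases hb : A = ⊥
    · haveI := Fact.mk hp
      obtain ⟨j, -, hj⟩ := (Nat.dvd_prime_pow hp).1 hs
      have hG : IsPGroup p G := IsPGroup.of_card (n := j) (by rw [← hj, hb, index_bot])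
      haveI := hG.isNilpotent
      infer_instance
    obtain ⟨z, hz, hz1⟩ := exists_mem_ne_one_of_ne_bot_aux hb
    exact hcen z hz (fun x hx => congrArg Subtype.val (mul_comm (⟨x, hx⟩ : A) ⟨z, hz⟩)) hz1
  obtain ⟨B, hB, hBc, hQc, hQ2⟩ := hA
  -- `B` has odd order
  by_cases hB2 : 2 ∣ Nat.card B
  · haveI := Fact.mk Nat.prime_two
    obtain ⟨t, ht⟩ := exists_prime_orderOf_dvd_card' 2 hB2
    have ht1 : ((t : A) : G) ≠ 1 := by
      intro h
      have : t = 1 := Subtype.ext (Subtype.ext h)
      simp [this] at ht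
    refine hcen _ (t : A).2 (fun x hx => ?_) ht1
    -- the conjugate of `t` is an involution of the cyclic group `B`
    have hmem : (⟨x, hx⟩ : A) * t * (⟨x, hx⟩ : A)⁻¹ ∈ B := hB.conj_mem _ t.2 _
    set u : B := ⟨_, hmem⟩ with hu
    have hou : orderOf u = 2 := by
      rw [hu, Subgroup.orderOf_mk, ← MulAut.conj_apply, MulEquiv.orderOf_eq, Subgroup.orderOf_coe, ht]
    have hut : u = t := eq_of_orderOf_eq_two_aux hou ht
    have h1 : x * ((t : A) : G) * x⁻¹ = ((t : A) : G) := congrArg (fun z : B => ((z : A) : G)) hut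
    calc x * ((t : A) : G) = x * ((t : A) : G) * x⁻¹ * x := by group
      _ = ((t : A) : G) * x := by rw [h1]
  by_cases hp2 : p = 2
  · -- every element of `B` has class of `2`-power size
    subst hp2
    by_cases hBb : B = ⊥
    · refine hcyc ?_
      haveI := hQc
      subst hBb
      exact isCyclic_of_injective (QuotientGroup.mk' (⊥ : Subgroup A))
        (by rw [← MonoidHom.ker_eq_bot_iff, QuotientGroup.ker_mk'])
    obtain ⟨b, hb, hb1⟩ := exists_mem_ne_one_of_ne_bot_aux hBb
    haveI := Fact.mk Nat.prime_two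
    obtain ⟨r, hr⟩ := IsPGroup.iff_card.1 hQ2
    refine hfin (b : G) (fun h => hb1 (Subtype.ext h)) 2 (r + s) Nat.prime_two (dvd_trans (index_dvd_of_le (H := B.map A.subtype) ?_) ?_)
    · rintro _ ⟨c, hc, rfl⟩
      rw [mem_centralizer_singleton_iff]
      letI := hBc.commGroup (α := B)
      exact congrArg (fun z : B => ((z : A) : G)) (mul_comm (⟨c, hc⟩ : B) ⟨b, hb⟩)
    · rw [index_map_subtype, pow_add, show B.index = 2 ^ r from hr]
      exact mul_dvd_mul_left _ hs
  -- `p` odd: the Sylow `2`-subgroup of `G` is cyclic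
  haveI := Fact.mk Nat.prime_two
  obtain ⟨T⟩ : Nonempty (Sylow 2 A) := inferInstance
  have hTB : (T : Subgroup A) ⊓ B = ⊥ := by
    rw [← Subgroup.card_eq_one]
    obtain ⟨j, hj⟩ := IsPGroup.iff_card.1 (T.2.to_le (inf_le_left : (T : Subgroup A) ⊓ B ≤ T))
    have hdvd : Nat.card ((T : Subgroup A) ⊓ B : Subgroup A) ∣ Nat.card B := card_dvd_of_le inf_le_right
    rcases j with - | j
    · simpa using hj
    · exact absurd (dvd_trans (dvd_pow_self 2 j.succ_ne_zero) (hj ▸ hdvd)) hB2
  haveI := hQc
  haveI : IsCyclic T := by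
    refine isCyclic_of_injective ((QuotientGroup.mk' B).comp (T : Subgroup A).subtype) ?_
    rw [injective_iff_map_eq_one]
    intro x hx
    have hxB : (x : A) ∈ B := (QuotientGroup.eq_one_iff _).1 hx
    exact Subtype.ext ((Subgroup.mem_bot).1 (hTB ▸ ⟨x.2, hxB⟩))
  have hTi : ¬ 2 ∣ ((T : Subgroup A).map A.subtype).index := by
    rw [index_map_subtype, Nat.Prime.dvd_mul Nat.prime_two]
    rintro (h | h)
    · exact T.not_dvd_index h
    · exact hp2 ((Nat.prime_dvd_prime_iff_eq Nat.prime_two hp).1 (Nat.prime_two.dvd_of_dvd_pow (dvd_trans h hs))).symm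
  let P : Sylow 2 G := (T.2.map A.subtype).toSylow hTi
  haveI hPc : IsCyclic P := by
    show IsCyclic ((T : Subgroup A).map A.subtype)
    exact isCyclic_of_surjective _ (A.subtype.subgroupMap_surjective (T : Subgroup A))
  by_cases h2 : 2 ∣ Nat.card G
  · have hmin : (Nat.card G).minFac = 2 := (Nat.minFac_eq_two_iff _).2 h2
    have hcomp := MonoidHom.ker_transferSylow_isComplement' P (IsCyclic.normalizer_le_centralizer hmin hPc)
    rcases (MonoidHom.transferSylow P (IsCyclic.normalizer_le_centralizer hmin hPc)).normal_ker.eq_bot_or_eq_top with hk | hk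
    · rw [hk, isComplement'_bot_left] at hcomp
      haveI : IsCyclic G := isCyclic_of_surjective (P : Subgroup G).subtype fun g => ⟨⟨g, hcomp ▸ mem_top g⟩, rfl⟩
      letI := IsCyclic.commGroup (α := G)
      exact Group.isSolvable_of_comm fun a b => mul_comm a b
    · rw [hk, isComplement'_top_left] at hcomp
      exact absurd h2 (by simpa [hcomp] using P.not_dvd_index)
  · refine hcyc ?_
    have hBt : B = ⊤ := by
      rw [← index_eq_one]
      obtain ⟨r, hr⟩ := IsPGroup.iff_card.1 hQ2
      rcases r with - | r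
      · simpa [Subgroup.index] using hr
      · refine absurd (dvd_trans (dvd_trans (dvd_pow_self 2 r.succ_ne_zero) (hr ▸ ?_)) A.card_subgroup_dvd_card) h2
        exact B.index_dvd_card
    haveI := hBc
    exact isCyclic_of_surjective B.subtype fun g => ⟨⟨g, hBt ▸ mem_top g⟩, rfl⟩


/-- Let G be a finite group with a subgroup A of prime-power index. Suppose A has a normal cyclic subgroup B such that A/B is cyclic of order a power of 2. Then G is solvable. -/
theorem result {G : Type*} [Group G] [Finite G] (A : Subgroup G) (p s : ℕ) (hp : p.Prime) (hA : A.index = p ^ s)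
    (B : Subgroup A) [B.Normal] (hB : IsCyclic B) (hAB : IsCyclic (A ⧸ B)) (r : ℕ) (hr : Nat.card (A ⧸ B) = 2 ^ r) :
    Group.IsSolvable G := by
  haveI := Fact.mk Nat.prime_two
  exact isSolvable_of_index _ rfl A hp ⟨s, dvd_of_eq hA⟩ ⟨B, inferInstance, hB, hAB, IsPGroup.of_card hr⟩

end Cfsg.Agent.S4245
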