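import Cfsg.Statements.S4250
import Cfsg.Agent.Lib.Fgs9.LocalFusion

set_option autoImplicit false
open Cfsg
open Cfsg.Agent.Lib.Fgs9.LocalFusion Cfsg.Agent.Lib.Fusion.Alperin
open scoped commutatorElement

namespace Cfsg.Agent.S4250

/-- Let P be a Sylow p-subgroup of a finite group G. Call an intersection H = P ∩ Q with a Sylow p-subgroup Q tame when N_P(H) and N_Q(H) are Sylow p-subgroups of N_G(H). Then P ∩ G′ is generated by [P, N_G(P)] together with the commutator subgroups [P ∩ Q, ⟨x⟩] for all tame intersections P ∩ Q and all p-elements x of N_G(P ∩ Q). -/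
theorem result {G : Type*} [Group G] [Finite G] (p : ℕ) [Fact p.Prime] (P : Sylow p G) :
    (P : Subgroup G) ⊓ commutator G =
      ⁅(P : Subgroup G), Subgroup.normalizer ((P : Subgroup G) : Set G)⁆ ⊔
        ⨆ (Q : Sylow p G) (_ : (¬ p ∣ ((P : Subgroup G) ⊓ Subgroup.normalizer (((P : Subgroup G) ⊓ (Q : Subgroup G) : Subgroup G) : Set G)).relIndex (Subgroup.normalizer (((P : Subgroup G) ⊓ (Q : Subgroup G) : Subgroup G) : Set G)) ∧ ¬ p ∣ ((Q : Subgroup G) ⊓ Subgroup.normalizer (((P : Subgroup G) ⊓ (Q : Subgroup G) : Subgroup G) : Set G)).relIndex (Subgroup.normalizer (((P : Subgroup G) ⊓ (Q : Subgroup G) : Subgroup G) : Set G))))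
          (x : G) (_ : x ∈ Subgroup.normalizer (((P : Subgroup G) ⊓ (Q : Subgroup G) : Subgroup G) : Set G) ∧ ∃ k : ℕ, orderOf x = p ^ k),
          ⁅(P : Subgroup G) ⊓ (Q : Subgroup G), Subgroup.zpowers x⁆ := by
  refine le_antisymm ?_ (sup_le ?_ ?_)
  · rw [inf_comm, Subgroup.commutator_inf_eq_focalSubgroup P, Subgroup.focalSubgroup_def, Subgroup.closure_le]
    rintro _ ⟨hmem, x, hx, u, rfl⟩
    set K := ⁅(P : Subgroup G), Subgroup.normalizer ((P : Subgroup G) : Set G)⁆ ⊔ _ with hKdef
    have hK : AbsorbsTame P K := by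
      intro T h1 h2 y hy hyk d hd
      refine Subgroup.mem_sup_right ?_
      refine Subgroup.mem_iSup_of_mem T (Subgroup.mem_iSup_of_mem ⟨h1, h2⟩
        (Subgroup.mem_iSup_of_mem y (Subgroup.mem_iSup_of_mem ⟨hy, hyk⟩ ?_)))
      have := Subgroup.commutator_mem_commutator hd (Subgroup.mem_zpowers y)
      simpa [commutatorElement_def, mul_assoc] using this
    have hux : u * x * u⁻¹ ∈ (P : Subgroup G) := by
      have := P.1.mul_mem (P.1.inv_mem hmem) hx
      simpa [commutatorElement_def, mul_assoc] using this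
    obtain ⟨h, hh, hfix⟩ := fuse P K hK (u⁻¹ • P)
    have hxQ : x ∈ ((u⁻¹ • P : Sylow p G) : Subgroup G) := by
      rw [conjS_sylow, mem_conjS]; simpa using hux
    have hz : h * x * h⁻¹ ∈ (P : Subgroup G) := hh ▸ conj_mem_conjS hxQ
    have hn : u * h⁻¹ ∈ Subgroup.normalizer ((P : Subgroup G) : Set G) := by
      apply mem_normalizer_of_conjS_eq
      conv_lhs => rw [← hh, conjS_sylow, ← conjS_mul, ← conjS_mul]
      simp [conjS_one]
    have h2 : (h * x * h⁻¹) * (u * x * u⁻¹)⁻¹ ∈ K := by
      refine Subgroup.mem_sup_left ?_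
      have := Subgroup.commutator_mem_commutator hz hn
      simpa [commutatorElement_def, mul_assoc] using this
    have := trans_mem (hfix x ⟨hx, hxQ⟩) h2
    simpa [commutatorElement_def, mul_assoc] using this
  · refine le_inf ?_ (Subgroup.commutator_mono le_top le_top)
    rw [Subgroup.commutator_le]
    intro a ha b hb
    have := P.1.mul_mem ha ((Subgroup.mem_normalizer_iff.1 hb a⁻¹).1 (P.1.inv_mem ha))
    simpa [commutatorElement_def, mul_assoc] using this
  · refine iSup_le fun Q => iSup_le fun _ => iSup_le fun x => iSup_le fun hx => ?_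
    refine le_inf ?_ (Subgroup.commutator_mono le_top le_top)
    rw [Subgroup.commutator_le]
    intro a ha b hb
    have hbn := (Subgroup.zpowers_le.2 hx.1) hb
    have := ((P : Subgroup G) ⊓ (Q : Subgroup G)).mul_mem ha
      ((Subgroup.mem_normalizer_iff.1 hbn a⁻¹).1 (Subgroup.inv_mem _ ha))
    exact (inf_le_left : ((P : Subgroup G) ⊓ Q : Subgroup G) ≤ P) (by simpa [commutatorElement_def, mul_assoc] using this)

end Cfsg.Agent.S4250
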