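import Cfsg.Statements.S4251
import Cfsg.Agent.Lib.Fusion.Alperin
import Cfsg.Agent.Lib.Transfer.Fusion

set_option autoImplicit false
open Cfsg
open scoped Pointwise

namespace Cfsg.Agent.S4251

universe u

variable {G : Type u} [Group G] [Finite G] {p : ℕ} [Fact p.Prime]

/-- If the automizer of `H` is a `p`-group and `S` contains a Sylow subgroup of the normalizer,
then the normalizer is the product of its part in `S` with the centralizer. -/
theorem exists_mul_centralizer {H S : Subgroup G} (hS : IsPGroup p S)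
    (hidx : ¬ p ∣ (S ⊓ Subgroup.normalizer (H : Set G)).relIndex (Subgroup.normalizer (H : Set G)))
    (hq : IsPGroup p (↥(Subgroup.normalizer (H : Set G)) ⧸
      (Subgroup.centralizer (H : Set G)).subgroupOf (Subgroup.normalizer (H : Set G))))
    {n : G} (hn : n ∈ Subgroup.normalizer (H : Set G)) :
    ∃ s ∈ S ⊓ Subgroup.normalizer (H : Set G), ∃ c ∈ Subgroup.centralizer (H : Set G),
      n = s * c := by
  set N := Subgroup.normalizer (H : Set G) with hN
  set C := (Subgroup.centralizer (H : Set G)).subgroupOf N with hC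
  set U := (S ⊓ N).subgroupOf N with hU
  obtain ⟨e, he⟩ := hq.exists_card_eq
  have htop : U ⊔ C = ⊤ := by
    rw [← Subgroup.index_eq_one]
    refine Nat.eq_one_of_dvd_coprimes ?_ (Subgroup.index_dvd_of_le (le_sup_left : U ≤ U ⊔ C))
      (Subgroup.index_dvd_of_le (le_sup_right : C ≤ U ⊔ C))
    rw [show C.index = p ^ e from he]
    exact Nat.Coprime.pow_right _ (((Fact.out : p.Prime).coprime_iff_not_dvd.mpr hidx).symm)
  have hm : (⟨n, hn⟩ : N) ∈ U ⊔ C := htop ▸ Subgroup.mem_top _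
  rw [Subgroup.mem_sup_of_normal_right] at hm
  obtain ⟨a, ha, b, hb, hab⟩ := hm
  exact ⟨a, ha, b, hb, (congrArg Subtype.val hab).symm⟩

/-- A `p`-subgroup properly contained in another grows in the normalizer. -/
theorem lt_inf_normalizer' {A S : Subgroup G} (hS : IsPGroup p S) (h : A < S) :
    A < S ⊓ Subgroup.normalizer (A : Set G) :=
  Lib.Fusion.Alperin.lt_inf_normalizer hS h

theorem inf_mem_conj {A : Subgroup G} {Q : Sylow p G} {c : G}
    (hc : c ∈ Subgroup.centralizer (A : Set G)) (hA : A ≤ (Q : Subgroup G)) :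
    A ≤ ((c • Q : Sylow p G) : Subgroup G) := by
  intro a ha
  rw [Sylow.coe_subgroup_smul, Subgroup.mem_pointwise_smul_iff_inv_smul_mem]
  simp only [MulAut.smul_def, MulAut.conj_inv_apply]
  have : c⁻¹ * a * c = a := by
    have := Subgroup.mem_centralizer_iff.mp hc a ha
    rw [mul_assoc, this, inv_mul_cancel_left]
  rw [this]
  exact hA ha

theorem conj_mem {Q : Sylow p G} {c a : G} (ha : a ∈ (Q : Subgroup G)) :
    c * a * c⁻¹ ∈ ((c • Q : Sylow p G) : Subgroup G) := by
  rw [Sylow.coe_subgroup_smul]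
  exact Subgroup.smul_mem_pointwise_smul a (MulAut.conj c) _ ha

theorem centralizer_mono {A B : Subgroup G} (h : A ≤ B) :
    Subgroup.centralizer (B : Set G) ≤ Subgroup.centralizer (A : Set G) :=
  Subgroup.centralizer_le h

/-- The tame-intersection form of Alperin's argument. -/
theorem exists_centralizer_conj (P : Sylow p G)
    (h : ∀ Q : Sylow p G, (P : Subgroup G) ⊓ (Q : Subgroup G) ≠ ⊥ →
      (¬ p ∣ ((P : Subgroup G) ⊓ Subgroup.normalizer (((P : Subgroup G) ⊓ (Q : Subgroup G) : Subgroup G) : Set G)).relIndex (Subgroup.normalizer (((P : Subgroup G) ⊓ (Q : Subgroup G) : Subgroup G) : Set G)) ∧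
       ¬ p ∣ ((Q : Subgroup G) ⊓ Subgroup.normalizer (((P : Subgroup G) ⊓ (Q : Subgroup G) : Subgroup G) : Set G)).relIndex (Subgroup.normalizer (((P : Subgroup G) ⊓ (Q : Subgroup G) : Subgroup G) : Set G))) →
      IsPGroup p (Subgroup.normalizer (((P : Subgroup G) ⊓ (Q : Subgroup G) : Subgroup G) : Set G) ⧸
        (Subgroup.centralizer (((P : Subgroup G) ⊓ (Q : Subgroup G) : Subgroup G) : Set G)).subgroupOf
          (Subgroup.normalizer (((P : Subgroup G) ⊓ (Q : Subgroup G) : Subgroup G) : Set G))))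
    (Q : Sylow p G) :
    ∃ c ∈ Subgroup.centralizer (((P : Subgroup G) ⊓ Q : Subgroup G) : Set G), c • Q = P := by
  suffices key : ∀ (d : ℕ) (Q : Sylow p G),
      Nat.card G ≤ Nat.card ((P : Subgroup G) ⊓ Q : Subgroup G) + d →
      ∃ c ∈ Subgroup.centralizer (((P : Subgroup G) ⊓ Q : Subgroup G) : Set G), c • Q = P from
    key _ Q (Nat.le_add_left _ _)
  intro d
  induction d using Nat.strong_induction_on with
  | _ d ih =>
  intro Q hd
  set H := (P : Subgroup G) ⊓ Q with hH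
  rcases eq_or_ne H ⊥ with hbot | hbot
  · obtain ⟨g, hg⟩ := MulAction.exists_smul_eq G Q P
    refine ⟨g, ?_, hg⟩
    rw [hbot, Subgroup.mem_centralizer_iff]
    intro a ha
    rw [Subgroup.mem_bot.mp ha, one_mul, mul_one]
  by_cases hPQ : (P : Subgroup G) ≤ Q
  · refine ⟨1, one_mem _, ?_⟩
    rw [one_smul]
    exact Sylow.ext (P.3 Q.2 hPQ)
  -- the induction hypothesis in usable form
  have step : ∀ R : Sylow p G, H < (P : Subgroup G) ⊓ R →
      ∃ c ∈ Subgroup.centralizer (H : Set G), c • R = P := by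
    intro R hR
    have hlt : Nat.card H < Nat.card ((P : Subgroup G) ⊓ R : Subgroup G) :=
      Set.ncard_lt_ncard hR (Set.toFinite _)
    have hle := Subgroup.card_le_card_group ((P : Subgroup G) ⊓ R)
    obtain ⟨c, hc, hcR⟩ := ih (Nat.card G - Nat.card ((P : Subgroup G) ⊓ R : Subgroup G))
      (by omega) R (by omega)
    exact ⟨c, centralizer_mono hR.le hc, hcR⟩
  have hHP : H < P := lt_of_le_of_ne inf_le_left (fun he => hPQ (he ▸ inf_le_right))
  have hgrowP := lt_inf_normalizer' P.2 hHP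
  set N := Subgroup.normalizer (H : Set G) with hN
  -- a Sylow subgroup of `G` through a Sylow subgroup of `N` containing `N_P(H)`
  obtain ⟨U, hU⟩ := (show IsPGroup p (((P : Subgroup G) ⊓ N).subgroupOf N) from
    (P.2.to_le (inf_le_left : (P : Subgroup G) ⊓ N ≤ P)).comap_of_injective N.subtype Subtype.val_injective).exists_le_sylow
  obtain ⟨S, hS⟩ := (U.2.map N.subtype).exists_le_sylow
  have hPS : (P : Subgroup G) ⊓ N ≤ (P : Subgroup G) ⊓ S := fun x hx =>
    ⟨hx.1, hS ⟨⟨x, hx.2⟩, hU hx, rfl⟩⟩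
  obtain ⟨h₀, hh₀, hh₀S⟩ := step S (hgrowP.trans_le hPS)
  have hh₀N : h₀ ∈ N := Subgroup.centralizer_le_normalizer _ hh₀
  -- so `N_P(H)` is a Sylow subgroup of `N`
  have hPidx : ¬ p ∣ ((P : Subgroup G) ⊓ N).relIndex N := by
    intro hdvd
    have hle : Nat.card U ≤ Nat.card (((P : Subgroup G) ⊓ N).subgroupOf N) := by
      refine Nat.card_le_card_of_injective
        (fun u => ⟨⟨h₀ * ((u : N) : G) * h₀⁻¹, N.mul_mem (N.mul_mem hh₀N (u : N).2) (N.inv_mem hh₀N)⟩,
          ⟨hh₀S ▸ conj_mem (hS ⟨u, u.2, rfl⟩), N.mul_mem (N.mul_mem hh₀N (u : N).2) (N.inv_mem hh₀N)⟩⟩) ?_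
      intro a b hab
      have := congrArg (fun z : (((P : Subgroup G) ⊓ N).subgroupOf N) => ((z : N) : G)) hab
      exact Subtype.ext (Subtype.ext (by simpa using this))
    have heq : (((P : Subgroup G) ⊓ N).subgroupOf N) = U := Subgroup.eq_of_le_of_card_ge hU hle
    apply U.not_dvd_index
    rw [← heq]
    exact hdvd
  set Q' := h₀ • Q with hQ'
  have hHQ' : H ≤ (Q' : Subgroup G) := inf_mem_conj hh₀ inf_le_right
  have hHPQ' : H ≤ (P : Subgroup G) ⊓ Q' := le_inf inf_le_left hHQ'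
  rcases hHPQ'.eq_or_lt with heq | hlt
  swap
  · obtain ⟨k, hk, hkQ⟩ := step Q' hlt
    exact ⟨k * h₀, mul_mem hk hh₀, by rw [mul_smul, ← hQ', hkQ]⟩
  have hHQ'lt : H < (Q' : Subgroup G) := by
    refine lt_of_le_of_ne hHQ' fun he => ?_
    have h1 := Subgroup.card_le_of_le (heq ▸ inf_le_left : H ≤ (P : Subgroup G))
    have h2 : Nat.card (Q' : Subgroup G) = Nat.card (P : Subgroup G) :=
      Nat.card_congr (Q'.equiv P).toEquiv
    exact hHP.ne (Subgroup.eq_of_le_of_card_ge inf_le_left (by rw [he, h2]))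
  have hgrowQ := lt_inf_normalizer' Q'.2 hHQ'lt
  obtain ⟨T, hT⟩ := (show IsPGroup p (((Q' : Subgroup G) ⊓ N).subgroupOf N) from
    (Q'.2.to_le (inf_le_left : (Q' : Subgroup G) ⊓ N ≤ Q')).comap_of_injective N.subtype Subtype.val_injective).exists_le_sylow
  obtain ⟨R, hR⟩ := (T.2.map N.subtype).exists_le_sylow
  have hQR : (Q' : Subgroup G) ⊓ N ≤ (Q' : Subgroup G) ⊓ R := fun x hx =>
    ⟨hx.1, hR ⟨⟨x, hx.2⟩, hT hx, rfl⟩⟩
  -- move `R` by a centralizing element so that it meets `P` in more than `H`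
  obtain ⟨c, hc, hcR⟩ : ∃ c ∈ Subgroup.centralizer (H : Set G),
      H < (P : Subgroup G) ⊓ ((c • R : Sylow p G) : Subgroup G) := by
    have hHR : H ≤ (R : Subgroup G) := (hgrowQ.le.trans hQR).trans inf_le_right
    rcases (le_inf (inf_le_left : H ≤ (P : Subgroup G)) hHR).eq_or_lt with he | hl
    swap
    · exact ⟨1, one_mem _, by rwa [one_smul]⟩
    have hRidx : ¬ p ∣ ((R : Subgroup G) ⊓ N).relIndex N := by
      intro hdvd
      apply T.not_dvd_index
      have heq : ((R : Subgroup G) ⊓ N).subgroupOf N = T :=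
        T.3 ((R.2.to_le (inf_le_left : (R : Subgroup G) ⊓ N ≤ R)).comap_of_injective N.subtype Subtype.val_injective)
          (fun x hx => ⟨hR ⟨x, hx, rfl⟩, x.2⟩)
      rw [← heq]
      exact hdvd
    have hne : (P : Subgroup G) ⊓ (R : Subgroup G) ≠ ⊥ := by rw [← he]; exact hbot
    have hh := h R hne
    rw [← he] at hh
    have hquot := hh ⟨hPidx, hRidx⟩
    obtain ⟨n, hn⟩ := MulAction.exists_smul_eq N T
      ((IsPGroup.toSylow (p := p) (P := ((P : Subgroup G) ⊓ N).subgroupOf N)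
        ((P.2.to_le (inf_le_left : (P : Subgroup G) ⊓ N ≤ P)).comap_of_injective N.subtype Subtype.val_injective) hPidx))
    obtain ⟨s, hs, c, hc, hnsc⟩ := exists_mul_centralizer P.2 hPidx hquot n.2
    refine ⟨c, hc, hgrowP.trans_le fun x hx => ⟨hx.1, ?_⟩⟩
    -- `s x s⁻¹ = n t n⁻¹` for some `t ∈ T`
    have hsx : s * x * s⁻¹ ∈ (P : Subgroup G) ⊓ N :=
      mul_mem (mul_mem hs hx) (inv_mem hs)
    have hmem : (⟨s * x * s⁻¹, hsx.2⟩ : N) ∈ ((n • T : Sylow p N) : Subgroup N) := by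
      rw [hn]
      exact hsx
    rw [Sylow.coe_subgroup_smul, Subgroup.mem_pointwise_smul_iff_inv_smul_mem] at hmem
    have hmemR := hR ⟨_, hmem, rfl⟩
    simp only [MulAut.smul_def, MulAut.conj_inv_apply, Subgroup.coe_subtype, Subgroup.coe_mul,
      Subgroup.coe_inv] at hmemR
    change x ∈ ((c • R : Sylow p G) : Subgroup G)
    rw [Sylow.coe_subgroup_smul, Subgroup.mem_pointwise_smul_iff_inv_smul_mem]
    simp only [MulAut.smul_def, MulAut.conj_inv_apply]
    have e : (n : G)⁻¹ * (s * x * s⁻¹) * n = c⁻¹ * x * c := by rw [hnsc]; group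
    rwa [e] at hmemR
  obtain ⟨k, hk, hkR⟩ := step _ hcR
  have hkc : k * c ∈ Subgroup.centralizer (H : Set G) := mul_mem hk hc
  obtain ⟨x, hx, hxH⟩ := SetLike.exists_of_lt (hgrowQ.trans_le hQR)
  have hlast : H < (P : Subgroup G) ⊓ (((k * c) • Q' : Sylow p G) : Subgroup G) := by
    refine lt_of_le_of_ne (le_inf inf_le_left (inf_mem_conj hkc hHQ')) fun he => hxH ?_
    have hm : (k * c) * x * (k * c)⁻¹ ∈ H := by
      rw [he]
      refine ⟨?_, conj_mem hx.1⟩
      have := conj_mem (c := k * c) hx.2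
      rwa [mul_smul, hkR] at this
    have hcm := Subgroup.mem_centralizer_iff.mp hkc _ hm
    have : (k * c) * x * (k * c)⁻¹ = x := by
      have := congrArg (fun t => (k * c)⁻¹ * t) hcm
      simp [mul_assoc] at this ⊢
      exact this.symm
    rwa [this] at hm
  obtain ⟨l, hl, hlQ⟩ := step _ hlast
  exact ⟨l * (k * c) * h₀, mul_mem (mul_mem hl hkc) hh₀, by rw [mul_smul, mul_smul, ← hQ', hlQ]⟩

/-- Let P be a Sylow p-subgroup of a finite group G. Call an intersection H = P ∩ Q with a Sylow p-subgroup Q tame when N_P(H) and N_Q(H) are Sylow p-subgroups of N_G(H). If N_G(H)/C_G(H) is a p-group for every nontrivial tame intersection H = P ∩ Q, then G has a normal p-complement. -/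
theorem result {G : Type*} [Group G] [Finite G] (p : ℕ) [Fact p.Prime] (P : Sylow p G)
    (h : ∀ Q : Sylow p G, (P : Subgroup G) ⊓ (Q : Subgroup G) ≠ ⊥ → (¬ p ∣ ((P : Subgroup G) ⊓ Subgroup.normalizer (((P : Subgroup G) ⊓ (Q : Subgroup G) : Subgroup G) : Set G)).relIndex (Subgroup.normalizer (((P : Subgroup G) ⊓ (Q : Subgroup G) : Subgroup G) : Set G)) ∧ ¬ p ∣ ((Q : Subgroup G) ⊓ Subgroup.normalizer (((P : Subgroup G) ⊓ (Q : Subgroup G) : Subgroup G) : Set G)).relIndex (Subgroup.normalizer (((P : Subgroup G) ⊓ (Q : Subgroup G) : Subgroup G) : Set G))) →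
      IsPGroup p (Subgroup.normalizer (((P : Subgroup G) ⊓ (Q : Subgroup G) : Subgroup G) : Set G) ⧸
        (Subgroup.centralizer (((P : Subgroup G) ⊓ (Q : Subgroup G) : Subgroup G) : Set G)).subgroupOf
          (Subgroup.normalizer (((P : Subgroup G) ⊓ (Q : Subgroup G) : Subgroup G) : Set G)))) :
    Cfsg.HasNormalPComplement p G := by
  refine Lib.Transfer.Fusion.hasNormalPComplement_of_controls P fun x hx g hgx => ?_
  rcases eq_or_ne x 1 with rfl | hx1
  · exact ⟨1, one_mem _, by simp⟩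
  obtain ⟨c, hc, hcP⟩ := exists_centralizer_conj P h (g⁻¹ • P)
  have hxQ : x ∈ ((g⁻¹ • P : Sylow p G) : Subgroup G) := by
    have := conj_mem (c := g⁻¹) hgx
    simpa [mul_assoc] using this
  have hcx : c * x * c⁻¹ = x := by
    rw [← Subgroup.mem_centralizer_iff.mp hc x ⟨hx, hxQ⟩, mul_inv_cancel_right]
  have hnP : c * g⁻¹ ∈ Subgroup.normalizer ((P : Subgroup G) : Set G) :=
    Sylow.smul_eq_iff_mem_normalizer.mp (by rw [mul_smul, hcP])
  have hne : (P : Subgroup G) ⊓ (P : Subgroup G) ≠ ⊥ := fun he => hx1 (by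
    have : x ∈ (P : Subgroup G) ⊓ (P : Subgroup G) := ⟨hx, hx⟩
    rwa [he, Subgroup.mem_bot] at this)
  have hh := h P hne
  rw [inf_idem] at hh
  have hidx : ¬ p ∣ ((P : Subgroup G) ⊓ Subgroup.normalizer ((P : Subgroup G) : Set G)).relIndex
      (Subgroup.normalizer ((P : Subgroup G) : Set G)) := by
    rw [inf_eq_left.mpr Subgroup.le_normalizer]
    exact fun hd => P.not_dvd_index (hd.trans (Subgroup.relIndex_dvd_index_of_le Subgroup.le_normalizer))
  obtain ⟨v, hv, d, hd, hvd⟩ := exists_mul_centralizer P.2 hidx (hh ⟨hidx, hidx⟩) (inv_mem hnP)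
  refine ⟨v, hv.1, ?_⟩
  have hdx : d * x * d⁻¹ = x := by
    rw [← Subgroup.mem_centralizer_iff.mp hd x hx, mul_inv_cancel_right]
  calc v * x * v⁻¹ = v * (d * x * d⁻¹) * v⁻¹ := by rw [hdx]
    _ = (c * g⁻¹)⁻¹ * x * (c * g⁻¹) := by
        have e : v * d = (c * g⁻¹)⁻¹ := hvd.symm
        calc v * (d * x * d⁻¹) * v⁻¹ = (v * d) * x * (v * d)⁻¹ := by group
          _ = _ := by rw [e, inv_inv]
    _ = g * (c⁻¹ * x * c) * g⁻¹ := by group
    _ = g * x * g⁻¹ := by
        rw [mul_assoc c⁻¹ x c, Subgroup.mem_centralizer_iff.mp hc x ⟨hx, hxQ⟩, inv_mul_cancel_left]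

end Cfsg.Agent.S4251
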