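import Cfsg.Statements.S4255
import Cfsg.Agent.Lib.ClassSizes.Split
import Cfsg.Agent.Lib.Frobenius.Basic

set_option autoImplicit false
open Cfsg

namespace Cfsg.Agent.S4255

universe u

open Cfsg.Agent.Lib.ClassSizes.Basic

/-- `p` divides some class size. -/
def Vertex (G : Type u) [Group G] (p : ℕ) : Prop :=
  p.Prime ∧ ∃ g : G, p ∣ (Subgroup.centralizer ({g} : Set G)).index

theorem mem_cen_pow {G : Type u} [Group G] {a g : G} (h : g ∈ Subgroup.centralizer ({a} : Set G))
    (k : ℕ) : g ∈ Subgroup.centralizer ({a ^ k} : Set G) :=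
  mem_cen.mpr ((show Commute a g from mem_cen.mp h).pow_left k)

/-- The structure when the vertices in `S` all split off. -/
theorem main_aux {G : Type u} [Group G] [Finite G] (S : Set ℕ) (hS : ∃ p ∈ S, Vertex G p)
    (hdisc : ∀ p q : ℕ, Vertex G p → Vertex G q → p ∈ S → q ∉ S →
      ∀ g : G, ¬ p * q ∣ (Subgroup.centralizer ({g} : Set G)).index)
    (hgood : ∀ p : ℕ, Vertex G p → p ∈ S → ∀ P : Sylow p G,
      Subgroup.normalizer ((P : Subgroup G) : Set G) ≤ Subgroup.centralizer ((P : Subgroup G) : Set G)) :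
    ∃ H : Subgroup (G ⧸ Subgroup.center G), Cfsg.IsFrobeniusComplement H ∧ IsMulCommutative H ∧
      ∀ x ∈ Cfsg.frobeniusKernel H, ∀ y ∈ Cfsg.frobeniusKernel H, x * y = y * x := by
  classical
  let T : Finset ℕ := (Nat.card G).primeFactors.filter fun p => p ∈ S ∧ Vertex G p
  have hT : ∀ p ∈ T, p ∈ S ∧ Vertex G p := fun p hp => (Finset.mem_filter.mp hp).2
  have hTmem : ∀ p, p ∈ S → Vertex G p → p ∈ T := fun p hp hv => by
    obtain ⟨g, hg⟩ := hv.2
    exact Finset.mem_filter.mpr ⟨Nat.mem_primeFactors.mpr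
      ⟨hv.1, hg.trans (Subgroup.index_dvd_card _), Nat.card_pos.ne'⟩, hp, hv⟩
  obtain ⟨K, H, hKn, hKH, hcop, hHc, hTP, hR, -⟩ := Lib.ClassSizes.Split.exists_split T
    (fun p hp => (hT p hp).2.1) (fun p hp P => hgood p (hT p hp).2 (hT p hp).1 P)
  obtain ⟨p₀, hp₀S, hp₀v⟩ := hS
  have hp₀ := Fact.mk hp₀v.1
  obtain ⟨hp₀K, P₀, hP₀⟩ := hTP p₀ (hTmem p₀ hp₀S hp₀v)
  have hH : ∀ a ∈ H, ∀ b ∈ H, a * b = b * a := fun a ha b hb =>
    congrArg Subtype.val (hHc.is_comm.comm ⟨a, ha⟩ ⟨b, hb⟩)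
  have hdec : ∀ g : G, ∃ h ∈ H, ∃ k ∈ K, g = h * k := fun g => by
    obtain ⟨⟨⟨h, hh⟩, ⟨k, hk⟩⟩, rfl⟩ := hKH.symm.2 g
    exact ⟨h, hh, k, hk, rfl⟩
  -- elements of classes with size involving a prime of `T` centralise `K`
  have hcaseA : ∀ x : G, ∀ p ∈ T, p ∣ (Subgroup.centralizer ({x} : Set G)).index →
      K ≤ Subgroup.centralizer ({x} : Set G) := by
    intro x p hp hpx
    refine Subgroup.subgroupOf_eq_top.mp (Subgroup.eq_top_of_le_card _ (Nat.le_of_dvd Nat.card_pos ?_))
    rw [Nat.dvd_iff_prime_pow_dvd_dvd]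
    intro r j hr hj
    have := Fact.mk hr
    rcases Nat.eq_zero_or_pos j with rfl | hj0
    · simp
    have hrT : r ∉ T := fun h => (hTP r h).1 ((dvd_pow_self r hj0.ne').trans hj)
    have hrd : ¬ r ∣ (Subgroup.centralizer ({x} : Set G)).index := by
      intro hrx
      have hv : Vertex G r := ⟨hr, x, hrx⟩
      have hrS : r ∉ S := fun h => hrT (hTmem r h hv)
      refine hdisc p r (hT p hp).2 hv (hT p hp).1 hrS x ?_
      exact ((Nat.coprime_primes (hT p hp).2.1 hr).mpr (fun h => hrT (h ▸ hp))).mul_dvd_of_dvd_of_dvd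
        hpx hrx
    obtain ⟨R, hRx⟩ := exists_sylow_le hrd
    refine dvd_trans ?_ (dvd_trans
      (dvd_of_eq (Nat.card_congr (Subgroup.subgroupOfEquivOfLe (hR r hr hrT R)).toEquiv).symm)
      (Subgroup.card_dvd_of_le (Subgroup.comap_mono hRx)))
    rw [R.card_eq_multiplicity]
    exact (Nat.pow_dvd_pow_iff_le_right hr.one_lt).mpr
      ((hr.pow_dvd_iff_le_factorization Nat.card_pos.ne').mp (hj.trans (Subgroup.card_subgroup_dvd_card K)))
  -- otherwise a conjugate of each Sylow subgroup of `H` is centralised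
  have hcaseB : ∀ (x : G), (∀ p ∈ T, ¬ p ∣ (Subgroup.centralizer ({x} : Set G)).index) →
      ∀ (p : ℕ) (_ : Fact p.Prime) (P : Sylow p G), (P : Subgroup G) ≤ H → p ∈ T →
        ∀ L : Subgroup G, (P : Subgroup G) ≤ L → Subgroup.centralizer ({x} : Set G) ≤ L → H ≤ L →
          ∃ l ∈ K ⊓ L, ∀ a ∈ (P : Subgroup G), a * (l * x * l⁻¹) = l * x * l⁻¹ * a := by
    intro x hx p _ P hPH hp L hPL hxL hHL
    obtain ⟨R, hRx⟩ := exists_sylow_le (hx p hp)
    obtain ⟨c, hc⟩ := MulAction.exists_smul_eq L (R.subtype (hRx.trans hxL)) (P.subtype hPL)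
    obtain ⟨h, hh, l, hl, hcl⟩ := hdec (c : G)
    have hlL : l ∈ L := by
      have : l = h⁻¹ * (c : G) := by rw [hcl]; group
      rw [this]
      exact L.mul_mem (L.inv_mem (hHL hh)) c.2
    refine ⟨l, ⟨hl, hlL⟩, fun a ha => ?_⟩
    have hmem : (⟨a, hPL ha⟩ : L) ∈ ((c • R.subtype (hRx.trans hxL) : Sylow p L) : Subgroup L) := by
      rw [hc]; exact ha
    rw [Sylow.coe_subgroup_smul, Subgroup.mem_pointwise_smul_iff_inv_smul_mem] at hmem
    have hm : (c : G)⁻¹ * a * c ∈ (R : Subgroup G) := by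
      have := Subgroup.mem_subgroupOf.mp hmem
      simpa using this
    have e : (c : G)⁻¹ * a * c = l⁻¹ * a * l := by
      rw [hcl]
      calc (h * l)⁻¹ * a * (h * l) = l⁻¹ * (h⁻¹ * (a * h)) * l := by group
        _ = l⁻¹ * (h⁻¹ * (h * a)) * l := by rw [hH a (hPH ha) h hh]
        _ = _ := by group
    rw [e] at hm
    have hcm := mem_cen.mp (hRx hm)
    calc a * (l * x * l⁻¹) = l * (l⁻¹ * a * l * x) * l⁻¹ := by group
      _ = l * (x * (l⁻¹ * a * l)) * l⁻¹ := by rw [hcm]
      _ = _ := by group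
  -- the fixed points of a noncentral element of `H`
  have hfix : ∀ u ∈ H, u ∉ Subgroup.center G → ∀ (p : ℕ) (_ : Fact p.Prime) (P : Sylow p G),
      (P : Subgroup G) ≤ H → p ∈ T →
        K ⊓ Subgroup.centralizer ({u} : Set G) ≤ Subgroup.centralizer ((P : Subgroup G) : Set G) := by
    intro u hu huc p _ P hPH hp
    have hHu : H ≤ Subgroup.centralizer ({u} : Set G) := fun h hh => mem_cen.mpr (hH u hu h hh)
    set L := K ⊓ Subgroup.centralizer ({u} : Set G) with hL
    suffices hsuff : (Subgroup.centralizer ((P : Subgroup G) : Set G)).subgroupOf L = ⊤ from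
      Subgroup.subgroupOf_eq_top.mp hsuff
    refine Lib.Elem70.eq_top_of_forall_conj _ fun k => ?_
    have hcu : Commute u (k : G) := mem_cen.mp k.2.2
    have hcop' : (orderOf u).Coprime (orderOf (k : G)) :=
      (hcop.symm.coprime_dvd_left (H.orderOf_dvd_natCard hu)).coprime_dvd_right
        (K.orderOf_dvd_natCard k.2.1)
    have hcen := cen_mul_eq hcu hcop'
    have hx : ∀ p' ∈ T, ¬ p' ∣ (Subgroup.centralizer ({u * (k : G)} : Set G)).index := by
      intro p' hp' hd
      have hKu : K ≤ Subgroup.centralizer ({u} : Set G) :=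
        ((hcaseA _ p' hp' hd).trans hcen.le).trans inf_le_left
      refine huc (Subgroup.mem_center_iff.mpr fun g => ?_)
      obtain ⟨h, hh, k', hk', rfl⟩ := hdec g
      exact (mem_cen.mp (Subgroup.mul_mem _ (hHu hh) (hKu hk'))).symm
    obtain ⟨l, hlL, hl⟩ := hcaseB (u * k) hx p ‹_› P hPH hp _ (hPH.trans hHu)
      (hcen.le.trans inf_le_left) hHu
    refine ⟨(⟨l, hlL⟩ : L)⁻¹, ?_⟩
    rw [Subgroup.mem_subgroupOf, Subgroup.mem_centralizer_iff]
    intro a ha
    have h1 := hl a ha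
    have hlu : l * u * l⁻¹ = u := by
      rw [← mem_cen.mp hlL.2, mul_inv_cancel_right]
    rw [show l * (u * (k : G)) * l⁻¹ = (l * u * l⁻¹) * (l * k * l⁻¹) by group, hlu] at h1
    have hua : a * u = u * a := hH a (hPH ha) u hu
    rw [← mul_assoc, hua, mul_assoc, mul_assoc u] at h1
    simpa using mul_left_cancel h1
  -- `K` is abelian
  set Z := Subgroup.centralizer (K : Set G) with hZ
  set C := K ⊓ Subgroup.centralizer ((P₀ : Subgroup G) : Set G) with hC
  have hp₀T := hTmem p₀ hp₀S hp₀v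
  have hP₀c : ¬ (P₀ : Subgroup G) ≤ Subgroup.center G := (exists_dvd_iff P₀).mp hp₀v.2
  have hKcases : ∀ k ∈ K, k ∈ Z ∨ ∃ l ∈ K, l * k * l⁻¹ ∈ C := by
    intro k hk
    by_cases hA : ∃ p ∈ T, p ∣ (Subgroup.centralizer ({k} : Set G)).index
    · obtain ⟨p, hp, hd⟩ := hA
      refine Or.inl (Subgroup.mem_centralizer_iff.mpr fun a ha => ?_)
      exact (mem_cen.mp (hcaseA k p hp hd ha)).symm
    · push Not at hA
      obtain ⟨l, hl, hl'⟩ := hcaseB k hA p₀ hp₀ P₀ hP₀ hp₀T ⊤ le_top le_top le_top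
      exact Or.inr ⟨l, hl.1, K.mul_mem (K.mul_mem hl.1 hk) (K.inv_mem hl.1),
        Subgroup.mem_centralizer_iff.mpr hl'⟩
  have hKab : K ≤ Z := by
    by_contra hnot
    have hsup : ((Z ⊓ K) ⊔ C).subgroupOf K = ⊤ := by
      refine Lib.Elem70.eq_top_of_forall_conj _ fun k => ?_
      rcases hKcases k k.2 with h | ⟨l, hl, h⟩
      · refine ⟨1, Subgroup.mem_subgroupOf.mpr (Subgroup.mem_sup_left ?_)⟩
        simp only [inv_one, one_mul, mul_one]
        exact ⟨h, k.2⟩
      · refine ⟨(⟨l, hl⟩ : K)⁻¹, Subgroup.mem_subgroupOf.mpr (Subgroup.mem_sup_right ?_)⟩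
        simpa using h
    have hKC : ∀ k ∈ K, k ∈ Z ∨ k ∈ C := by
      intro k hk
      rcases hKcases k hk with h | ⟨l, hl, h⟩
      · exact Or.inl h
      right
      -- conjugation by `Z * C` preserves `C`
      have hlm : l ∈ (Z ⊓ K) ⊔ C := Subgroup.subgroupOf_eq_top.mp hsup hl
      have hpres : (Z ⊓ K) ⊔ C ≤ Subgroup.normalizer (C : Set G) := by
        refine sup_le (le_trans ?_ (Subgroup.centralizer_le_normalizer _)) Subgroup.le_normalizer
        exact fun z hz => Subgroup.mem_centralizer_iff.mpr fun a ha =>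
          Subgroup.mem_centralizer_iff.mp hz.1 a ha.1
      exact (Subgroup.mem_normalizer_iff.mp (hpres hlm) k).mpr h
    have hKnC : ¬ K ≤ C := by
      intro h
      refine hP₀c fun a ha => Subgroup.mem_center_iff.mpr fun g => ?_
      obtain ⟨b, hb, k, hk, rfl⟩ := hdec g
      have h1 : a * k = k * a := Subgroup.mem_centralizer_iff.mp (h hk).2 a ha
      rw [mul_assoc, ← h1, ← mul_assoc, ← hH a (hP₀ ha) b hb, mul_assoc]
    obtain ⟨z, hzK, hz⟩ := SetLike.not_le_iff_exists.mp hnot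
    obtain ⟨c, hcK, hc⟩ := SetLike.not_le_iff_exists.mp hKnC
    rcases hKC (z * c) (K.mul_mem hzK hcK) with h | h
    · refine hz ?_
      have h' := Z.mul_mem h (Z.inv_mem ((hKC c hcK).resolve_right hc))
      simpa using h'
    · refine hc ?_
      have h' := C.mul_mem (C.inv_mem ((hKC z hzK).resolve_left hz)) h
      simpa using h'
  -- fixed points of `H` in `K` are central
  have hcentral : ∀ u ∈ H, u ∉ Subgroup.center G → ∀ k ∈ K,
      k ∈ Subgroup.centralizer ({u} : Set G) → k ∈ Subgroup.center G := by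
    intro u hu huc k hk hku
    have hHk : H ≤ Subgroup.centralizer ({k} : Set G) := by
      refine Subgroup.subgroupOf_eq_top.mp (Subgroup.eq_top_of_le_card _ (Nat.le_of_dvd Nat.card_pos ?_))
      rw [Nat.dvd_iff_prime_pow_dvd_dvd]
      intro r j hr hj
      have := Fact.mk hr
      rcases Nat.eq_zero_or_pos j with rfl | hj0
      · simp
      have hrT : r ∈ T := by
        by_contra hrT
        obtain ⟨R⟩ : Nonempty (Sylow r G) := inferInstance
        exact not_dvd_of_sylow_le R (hR r hr hrT R)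
          (hKH.symm.index_eq_card ▸ (dvd_pow_self r hj0.ne').trans hj)
      obtain ⟨-, P, hPH⟩ := hTP r hrT
      have hPk : (P : Subgroup G) ≤ Subgroup.centralizer ({k} : Set G) := fun a ha =>
        mem_cen.mpr (Subgroup.mem_centralizer_iff.mp (hfix u hu huc r ‹_› P hPH hrT ⟨hk, hku⟩) a ha).symm
      refine dvd_trans ?_ (dvd_trans
        (dvd_of_eq (Nat.card_congr (Subgroup.subgroupOfEquivOfLe hPH).toEquiv).symm)
        (Subgroup.card_dvd_of_le (Subgroup.comap_mono hPk)))
      rw [P.card_eq_multiplicity]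
      exact (Nat.pow_dvd_pow_iff_le_right hr.one_lt).mpr
        ((hr.pow_dvd_iff_le_factorization Nat.card_pos.ne').mp (hj.trans (Subgroup.card_subgroup_dvd_card H)))
    refine Subgroup.mem_center_iff.mpr fun g => ?_
    obtain ⟨h, hh, k', hk', rfl⟩ := hdec g
    have hKk : K ≤ Subgroup.centralizer ({k} : Set G) := fun a ha =>
      mem_cen.mpr (Subgroup.mem_centralizer_iff.mp (hKab ha) k hk)
    exact (mem_cen.mp (Subgroup.mul_mem _ (hHk hh) (hKk hk'))).symm
  -- pass to the quotient by the centre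
  set π := QuotientGroup.mk' (Subgroup.center G) with hπ
  set K' := K.map π with hK'
  set H' := H.map π with hH'
  have hK'n : K'.Normal := hKn.map π (QuotientGroup.mk'_surjective _)
  have hdisj : Disjoint K' H' := by
    rw [Subgroup.disjoint_def]
    rintro _ ⟨k, hk, rfl⟩ ⟨h, hh, he⟩
    refine (QuotientGroup.eq_one_iff k).mpr ?_
    have hz : h⁻¹ * k ∈ Subgroup.center G :=
      (QuotientGroup.eq (s := Subgroup.center G)).mp he
    refine Subgroup.mem_center_iff.mpr fun g => ?_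
    obtain ⟨b, hb, k', hk', rfl⟩ := hdec g
    have hkk : k' * k = k * k' := Subgroup.mem_centralizer_iff.mp (hKab hk) k' hk'
    have hbk : b * k = k * b := by
      have h1 := Subgroup.mem_center_iff.mp hz b
      rw [← mul_assoc, ← hH h⁻¹ (H.inv_mem hh) b hb, mul_assoc, mul_assoc] at h1
      exact mul_left_cancel h1
    rw [mul_assoc, hkk, ← mul_assoc, hbk, mul_assoc]
  have hcompl : Subgroup.IsComplement' K' H' := by
    refine Subgroup.isComplement'_of_disjoint_and_mul_eq_univ hdisj ?_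
    rw [Set.eq_univ_iff_forall]
    intro x
    obtain ⟨g, rfl⟩ := QuotientGroup.mk'_surjective _ x
    obtain ⟨⟨⟨k, hk⟩, ⟨h, hh⟩⟩, rfl⟩ := hKH.2 g
    exact ⟨π k, ⟨k, hk, rfl⟩, π h, ⟨h, hh, rfl⟩, (map_mul π k h).symm⟩
  have hH'1 : H' ≠ ⊥ := by
    intro h
    refine hP₀c fun a ha => ?_
    have : π a ∈ H' := ⟨a, hP₀ ha, rfl⟩
    rw [h, Subgroup.mem_bot] at this
    exact (QuotientGroup.eq_one_iff a).mp this
  have hK'1 : K' ≠ ⊥ := by
    intro h
    refine hP₀c fun a ha => Subgroup.mem_center_iff.mpr fun g => ?_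
    obtain ⟨b, hb, k, hk, rfl⟩ := hdec g
    have hkc : π k ∈ K' := ⟨k, hk, rfl⟩
    rw [h, Subgroup.mem_bot] at hkc
    have h1 := Subgroup.mem_center_iff.mp ((QuotientGroup.eq_one_iff k).mp hkc) a
    rw [mul_assoc, ← h1, ← mul_assoc, ← hH a (hP₀ ha) b hb, mul_assoc]
  have hFC : Cfsg.IsFrobeniusComplement H' := by
    refine (Lib.Frobenius.isFrobeniusComplement_iff_centralizer hcompl hK'1 hH'1).mpr ?_
    rintro _ ⟨u, hu, rfl⟩ hu1
    rw [Subgroup.eq_bot_iff_forall]
    rintro _ ⟨⟨k, hk, rfl⟩, hku⟩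
    refine (QuotientGroup.eq_one_iff k).mpr ?_
    have huc : u ∉ Subgroup.center G := fun h => hu1 ((QuotientGroup.eq_one_iff u).mpr h)
    refine hcentral u hu huc k hk ?_
    have he : π (u * k * u⁻¹ * k⁻¹) = 1 := by
      have h1 := mem_cen.mp hku
      simp only [map_mul, map_inv]
      rw [h1]; group
    have hc : u * k * u⁻¹ * k⁻¹ ∈ Subgroup.center G := (QuotientGroup.eq_one_iff _).mp he
    set c := u * k * u⁻¹ * k⁻¹ with hcdef
    have hcK : c ∈ K := K.mul_mem (hKn.conj_mem k hk u) (K.inv_mem hk)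
    have hpow : ∀ n : ℕ, u ^ n * k = c ^ n * k * u ^ n := by
      intro n
      induction n with
      | zero => simp
      | succ n ih =>
        have huk : u * k = c * k * u := by rw [hcdef]; group
        have hcn : u * c ^ n = c ^ n * u := Subgroup.mem_center_iff.mp (Subgroup.pow_mem _ hc n) u
        calc u ^ (n + 1) * k = u * (u ^ n * k) := by rw [pow_succ', mul_assoc]
          _ = (u * c ^ n) * k * u ^ n := by rw [ih]; simp only [mul_assoc]
          _ = c ^ n * (u * k) * u ^ n := by rw [hcn]; simp only [mul_assoc]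
          _ = c ^ (n + 1) * k * u ^ (n + 1) := by
              rw [huk, pow_succ, pow_succ']; simp only [mul_assoc]
    have hc1 : c = 1 := by
      have h1 := hpow (orderOf u)
      rw [pow_orderOf_eq_one, one_mul, mul_one] at h1
      refine orderOf_eq_one_iff.mp (Nat.eq_one_of_dvd_coprimes hcop (K.orderOf_dvd_natCard hcK)
        ((orderOf_dvd_of_pow_eq_one (right_eq_mul.mp (h1.trans ?_))).trans (H.orderOf_dvd_natCard hu)))
      rfl
    refine mem_cen.mpr (mul_inv_eq_iff_eq_mul.mp (mul_inv_eq_one.mp ?_))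
    exact hc1
  refine ⟨H', hFC, ⟨⟨?_⟩⟩, ?_⟩
  · rintro ⟨_, a, ha, rfl⟩ ⟨_, b, hb, rfl⟩
    exact Subtype.ext (by
      change π a * π b = π b * π a
      rw [← map_mul, hH a ha b hb, map_mul])
  · intro x hx y hy
    rw [← Lib.Frobenius.coe_eq_frobeniusKernel hFC hK'n hcompl] at hx hy
    obtain ⟨a, ha, rfl⟩ := hx
    obtain ⟨b, hb, rfl⟩ := hy
    rw [← map_mul, Subgroup.mem_centralizer_iff.mp (hKab hb) a ha, map_mul]

/-- Let G be a finite group. Call a prime a vertex if it divides some conjugacy class size of G, and two distinct vertices adjacent if their product divides some class size. Suppose this graph is disconnected: the vertices split into two nonempty parts with no vertex of one part adjacent to a vertex of the other. Then G/Z(G) is a Frobenius group with abelian Frobenius complement and with a Frobenius kernel all of whose elements commute. -/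
theorem result {G : Type*} [Group G] [Finite G] (S : Set ℕ) (hS : ∃ p ∈ S, (p.Prime ∧ ∃ g : G, p ∣ (Subgroup.centralizer ({g} : Set G)).index)) (hS' : ∃ q ∉ S, (q.Prime ∧ ∃ g : G, q ∣ (Subgroup.centralizer ({g} : Set G)).index))
    (hdisc : ∀ p q : ℕ, (p.Prime ∧ ∃ g : G, p ∣ (Subgroup.centralizer ({g} : Set G)).index) → (q.Prime ∧ ∃ g : G, q ∣ (Subgroup.centralizer ({g} : Set G)).index) → p ∈ S → q ∉ S → ¬ (∃ g : G, p * q ∣ (Subgroup.centralizer ({g} : Set G)).index)) :
    ∃ H : Subgroup (G ⧸ Subgroup.center G), Cfsg.IsFrobeniusComplement H ∧ IsMulCommutative H ∧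
      ∀ x ∈ Cfsg.frobeniusKernel H, ∀ y ∈ Cfsg.frobeniusKernel H, x * y = y * x := by
  classical
  have hd : ∀ p q : ℕ, Vertex G p → Vertex G q → p ∈ S → q ∉ S →
      ∀ g : G, ¬ p * q ∣ (Subgroup.centralizer ({g} : Set G)).index :=
    fun p q hp hq h1 h2 g hg => hdisc p q hp hq h1 h2 ⟨g, hg⟩
  by_cases hgood : ∀ p : ℕ, Vertex G p → p ∈ S → ∀ P : Sylow p G,
      Subgroup.normalizer ((P : Subgroup G) : Set G) ≤ Subgroup.centralizer ((P : Subgroup G) : Set G)
  · exact main_aux S hS hd hgood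
  · push Not at hgood
    obtain ⟨p, hp, hpS, P, hP⟩ := hgood
    refine main_aux Sᶜ ?_ (fun a b ha hb h1 h2 g hg =>
      hd b a hb ha (not_not.mp h2) h1 g (by rwa [mul_comm] at hg)) (fun q hq hqS Q => ?_)
    · obtain ⟨q, hq, hv⟩ := hS'
      exact ⟨q, hq, hv⟩
    · have := Fact.mk hp.1
      have := Fact.mk hq.1
      refine (normalizer_le_or P Q fun x => ?_).resolve_left hP
      by_contra hcon
      push Not at hcon
      exact hd p q hp hq hpS hqS x (((Nat.coprime_primes hp.1 hq.1).mpr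
        (fun h => hqS (h ▸ hpS))).mul_dvd_of_dvd_of_dvd hcon.1 hcon.2)

end Cfsg.Agent.S4255
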