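import Cfsg.Statements.S4257
import Cfsg.Agent.Lib.ClassSizes.NonAdjacent

set_option autoImplicit false
open Cfsg

namespace Cfsg.Agent.S4257

open Lib.ClassSizes.Basic Lib.ClassSizes.NonAdjacent in
/-- A good vertex without bad neighbours is adjacent to every other good vertex. -/
theorem adj_of_good {G : Type*} [Group G] [Finite G] {q t : ℕ} [hq : Fact q.Prime] [ht : Fact t.Prime]
    (hqt : q ≠ t) (hgq : Good G q) (hgt : Good G t)
    (hq' : ∃ x : G, q ∣ (Subgroup.centralizer ({x} : Set G)).index)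
    (ht' : ∃ x : G, t ∣ (Subgroup.centralizer ({x} : Set G)).index)
    (hno : ∀ r : ℕ, r.Prime → ¬ Good G r → ¬ Adj G q r) : Adj G q t := by
  classical
  let T : Finset ℕ := (Nat.card G).primeFactors.filter fun r => Good G r
  obtain ⟨K, H, hKn, hKH, hcop, hHc, hTP, hR, -⟩ := Lib.ClassSizes.Split.exists_split T
    (fun r hr => Nat.prime_of_mem_primeFactors (Finset.mem_filter.mp hr).1)
    (fun r hr => (Finset.mem_filter.mp hr).2)
  have hmem : ∀ r : ℕ, r.Prime → Good G r → r ∣ Nat.card G → r ∈ T := fun r hr hg hd =>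
    Finset.mem_filter.mpr ⟨Nat.mem_primeFactors.mpr ⟨hr, hd, Nat.card_pos.ne'⟩, hg⟩
  obtain ⟨-, Q, hQH⟩ := hTP q (hmem q hq.out hgq (hq'.elim fun x hx => hx.trans (Subgroup.index_dvd_card _)))
  obtain ⟨-, S, hSH⟩ := hTP t (hmem t ht.out hgt (ht'.elim fun x hx => hx.trans (Subgroup.index_dvd_card _)))
  have hcomm : ∀ a ∈ H, ∀ b ∈ H, a * b = b * a := fun a ha b hb =>
    congrArg Subtype.val (hHc.is_comm.comm (⟨a, ha⟩ : H) ⟨b, hb⟩)
  have hdec : ∀ g : G, ∃ k ∈ K, ∃ h ∈ H, g = k * h := fun g => by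
    obtain ⟨⟨k, h⟩, hkh⟩ := hKH.2 g
    exact ⟨k, k.2, h, h.2, hkh.symm⟩
  -- some element of `K` has class size divisible by `q`
  obtain ⟨k, hkK, hk⟩ : ∃ k ∈ K, q ∣ (Subgroup.centralizer ({k} : Set G)).index := by
    by_contra! hall
    set CQ := Subgroup.centralizer ((Q : Subgroup G) : Set G)
    have hHQ : H ≤ CQ := fun h hh => Subgroup.mem_centralizer_iff.mpr fun b hb => hcomm b (hQH hb) h hh
    have hKQ : K ≤ CQ := by
      refine Subgroup.subgroupOf_eq_top.mp (Lib.Elem70.eq_top_of_forall_conj _ fun k => ?_)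
      obtain ⟨g, hg⟩ := exists_conj_mem_centralizer Q (hall k.1 k.2)
      obtain ⟨k', hk', h, hh, rfl⟩ := hdec g
      refine ⟨⟨k', hk'⟩, ?_⟩
      show k'⁻¹ * (k : G) * k' ∈ CQ
      rw [show k'⁻¹ * (k : G) * k' = h * ((k' * h)⁻¹ * k * (k' * h)) * h⁻¹ by group]
      exact mul_mem (mul_mem (hHQ hh) hg) (inv_mem (hHQ hh))
    obtain ⟨x, hx⟩ := hq'
    refine not_dvd_of_sylow_le Q (fun b hb => ?_) hx
    obtain ⟨k, hk, h, hh, rfl⟩ := hdec x
    exact mem_cen.mpr (Subgroup.mem_centralizer_iff.mp (mul_mem (hKQ hk) (hHQ hh)) b hb).symm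
  refine adj_of_dvd hq.out ht.out hqt k hk ?_
  by_contra hnd
  obtain ⟨g, hg⟩ := exists_conj_mem_centralizer S hnd
  set k' := g⁻¹ * k * g with hk'
  have hk'K : k' ∈ K := by simpa [hk'] using hKn.conj_mem k hkK g⁻¹
  have hk'q : q ∣ (Subgroup.centralizer ({k'} : Set G)).index := by
    rw [hk']
    have e : Subgroup.centralizer ({g⁻¹ * k * g} : Set G) =
        (Subgroup.centralizer ({k} : Set G)).comap (MulAut.conj g).toMonoidHom := by
      ext y
      have h := mem_cen_conj (g := g⁻¹) (x := k) (y := y)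
      rw [inv_inv] at h
      rw [h, Subgroup.mem_comap]
      simp
    rwa [e, Subgroup.index_comap_of_surjective _ (MulAut.conj g).surjective]
  obtain ⟨x, hx⟩ := ht'
  refine not_dvd_of_sylow_le S (fun s hs => ?_) hx
  -- `s` is central
  suffices hs1 : Subgroup.centralizer ({s} : Set G) = ⊤ by
    exact mem_cen_comm.mp (hs1 ▸ Subgroup.mem_top x)
  refine Subgroup.index_eq_one.mp (Nat.eq_one_iff_not_exists_prime_dvd.mpr fun r hr hrd => ?_)
  have := Fact.mk hr
  have hc : Commute s k' := Subgroup.mem_centralizer_iff.mp hg s hs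
  have hord : (orderOf s).Coprime (orderOf k') :=
    (hcop.symm.coprime_dvd_left (H.orderOf_dvd_natCard (hSH hs))).coprime_dvd_right
      (K.orderOf_dvd_natCard hk'K)
  have hHs : H ≤ Subgroup.centralizer ({s} : Set G) := fun h hh => mem_cen.mpr (hcomm s (hSH hs) h hh)
  have hrT : r ∉ T := fun hr' => by
    obtain ⟨-, R, hRH⟩ := hTP r hr'
    exact not_dvd_of_sylow_le R (hRH.trans hHs) hrd
  have hbad : ¬ Good G r := fun hgr => hrT (hmem r hr hgr (hrd.trans (Subgroup.index_dvd_card _)))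
  have hsk : ∀ C : Subgroup G, Subgroup.centralizer ({s * k'} : Set G) ≤ C →
      C.index ∣ (Subgroup.centralizer ({s * k'} : Set G)).index := fun C => Subgroup.index_dvd_of_le
  rw [cen_mul_eq hc hord] at hsk
  refine hno r hr hbad (adj_of_dvd hq.out hr (fun h => hbad (h ▸ hgq)) (s * k') ?_ ?_)
  · rw [cen_mul_eq hc hord]
    exact hk'q.trans (hsk _ inf_le_right)
  · rw [cen_mul_eq hc hord]
    exact hrd.trans (hsk _ inf_le_left)

/-- Let G be a finite group. Call a prime a vertex if it divides some conjugacy class size of G, and two distinct vertices adjacent if their product divides some class size. If this graph is connected, then its diameter is at most 3: any two distinct vertices p and q are adjacent, or joined through one or two intermediate vertices. -/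
theorem result {G : Type*} [Group G] [Finite G]
    (hconn : ∀ S : Set ℕ, (∃ p ∈ S, (p.Prime ∧ ∃ g : G, p ∣ (Subgroup.centralizer ({g} : Set G)).index)) → (∃ q ∉ S, (q.Prime ∧ ∃ g : G, q ∣ (Subgroup.centralizer ({g} : Set G)).index)) →
      ∃ p q : ℕ, (p.Prime ∧ ∃ g : G, p ∣ (Subgroup.centralizer ({g} : Set G)).index) ∧ (q.Prime ∧ ∃ g : G, q ∣ (Subgroup.centralizer ({g} : Set G)).index) ∧ p ∈ S ∧ q ∉ S ∧ (∃ g : G, p * q ∣ (Subgroup.centralizer ({g} : Set G)).index))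
    (p q : ℕ) (hp : (p.Prime ∧ ∃ g : G, p ∣ (Subgroup.centralizer ({g} : Set G)).index)) (hq : (q.Prime ∧ ∃ g : G, q ∣ (Subgroup.centralizer ({g} : Set G)).index)) (hpq : p ≠ q) :
    (∃ g : G, p * q ∣ (Subgroup.centralizer ({g} : Set G)).index) ∨ (∃ r : ℕ, (r.Prime ∧ ∃ g : G, r ∣ (Subgroup.centralizer ({g} : Set G)).index) ∧ r ≠ p ∧ r ≠ q ∧ (∃ g : G, p * r ∣ (Subgroup.centralizer ({g} : Set G)).index) ∧ (∃ g : G, r * q ∣ (Subgroup.centralizer ({g} : Set G)).index)) ∨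
      (∃ r s : ℕ, (r.Prime ∧ ∃ g : G, r ∣ (Subgroup.centralizer ({g} : Set G)).index) ∧ (s.Prime ∧ ∃ g : G, s ∣ (Subgroup.centralizer ({g} : Set G)).index) ∧ r ≠ p ∧ s ≠ q ∧ r ≠ s ∧ r ≠ q ∧ s ≠ p ∧
        (∃ g : G, p * r ∣ (Subgroup.centralizer ({g} : Set G)).index) ∧ (∃ g : G, r * s ∣ (Subgroup.centralizer ({g} : Set G)).index) ∧ (∃ g : G, s * q ∣ (Subgroup.centralizer ({g} : Set G)).index)) := by
  have sym : ∀ {a b : ℕ}, Lib.ClassSizes.NonAdjacent.Adj G a b → Lib.ClassSizes.NonAdjacent.Adj G b a :=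
    fun h => h.imp fun x hx => Nat.mul_comm _ _ ▸ hx
  by_cases hadj : Lib.ClassSizes.NonAdjacent.Adj G p q
  · exact Or.inl hadj
  have vert : ∀ {a b : ℕ}, a.Prime → Lib.ClassSizes.NonAdjacent.Adj G a b →
      a.Prime ∧ ∃ g : G, a ∣ (Subgroup.centralizer ({g} : Set G)).index :=
    fun ha h => ⟨ha, h.imp fun x hx => (dvd_mul_right _ _).trans hx⟩
  -- a good vertex and a bad vertex
  have key : ∀ a b : ℕ, (a.Prime ∧ ∃ g : G, a ∣ (Subgroup.centralizer ({g} : Set G)).index) →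
      (b.Prime ∧ ∃ g : G, b ∣ (Subgroup.centralizer ({g} : Set G)).index) →
      ¬ Lib.ClassSizes.NonAdjacent.Good G a → Lib.ClassSizes.NonAdjacent.Good G b →
      ¬ Lib.ClassSizes.NonAdjacent.Adj G a b →
      (∃ r : ℕ, r.Prime ∧ r ≠ a ∧ r ≠ b ∧ Lib.ClassSizes.NonAdjacent.Adj G a r ∧
        Lib.ClassSizes.NonAdjacent.Adj G r b) ∨
      ∃ r s : ℕ, r.Prime ∧ s.Prime ∧ r ≠ a ∧ s ≠ b ∧ r ≠ s ∧ r ≠ b ∧ s ≠ a ∧
        Lib.ClassSizes.NonAdjacent.Adj G a r ∧ Lib.ClassSizes.NonAdjacent.Adj G r s ∧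
          Lib.ClassSizes.NonAdjacent.Adj G s b := by
    intro a b ha hb hba hgb hn
    have := Fact.mk ha.1
    have := Fact.mk hb.1
    by_cases hbn : ∃ r : ℕ, r.Prime ∧ ¬ Lib.ClassSizes.NonAdjacent.Good G r ∧
        Lib.ClassSizes.NonAdjacent.Adj G b r
    · obtain ⟨r, hr, hrb, hbr⟩ := hbn
      have := Fact.mk hr
      have hra : r ≠ a := fun h => hn (sym (h ▸ hbr))
      exact Or.inl ⟨r, hr, hra, fun h => hrb (h ▸ hgb),
        Lib.ClassSizes.NonAdjacent.adj_of_bad hra.symm hba hrb, sym hbr⟩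
    · push Not at hbn
      obtain ⟨t, r, ht, hr, htS, hrS, htr⟩ := hconn {t | Lib.ClassSizes.NonAdjacent.Good G t}
        ⟨b, hgb, hb⟩ ⟨a, hba, ha⟩
      have htr' : Lib.ClassSizes.NonAdjacent.Adj G t r := htr
      have := Fact.mk ht.1
      have := Fact.mk hr.1
      have htb : t ≠ b := fun h => hbn r hr.1 hrS (h ▸ htr')
      have hbt := adj_of_good htb.symm hgb htS hb.2 ht.2 hbn
      have hta : t ≠ a := fun h => hba (h ▸ htS)
      by_cases hra : r = a
      · exact Or.inl ⟨t, ht.1, hta, htb, hra ▸ sym htr', sym hbt⟩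
      · exact Or.inr ⟨r, t, hr.1, ht.1, hra, htb, fun h => hrS (h.symm ▸ htS),
          fun h => hrS (h.symm ▸ hgb), hta,
          Lib.ClassSizes.NonAdjacent.adj_of_bad (Ne.symm hra) hba hrS, sym htr', sym hbt⟩
  have := Fact.mk hp.1
  have := Fact.mk hq.1
  by_cases hgp : Lib.ClassSizes.NonAdjacent.Good G p
  · by_cases hgq : Lib.ClassSizes.NonAdjacent.Good G q
    · obtain ⟨r, hr, h1, h2, h3, h4⟩ :=
        Lib.ClassSizes.NonAdjacent.exists_common hpq hgp hgq hp.2 hq.2 hadj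
      exact Or.inr (Or.inl ⟨r, vert hr (sym h3), h1, h2, h3, h4⟩)
    · rcases key q p hq hp hgq hgp (fun h => hadj (sym h)) with
        ⟨r, hr, h1, h2, h3, h4⟩ | ⟨r, s, hr, hs, h1, h2, h3, h4, h5, h6, h7, h8⟩
      · exact Or.inr (Or.inl ⟨r, vert hr (sym h3), h2, h1, sym h4, sym h3⟩)
      · exact Or.inr (Or.inr ⟨s, r, vert hs h8, vert hr h7, h2, h1, h3.symm, h5, h4,
          sym h8, sym h7, sym h6⟩)
  · by_cases hgq : Lib.ClassSizes.NonAdjacent.Good G q
    · rcases key p q hp hq hgp hgq hadj with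
        ⟨r, hr, h1, h2, h3, h4⟩ | ⟨r, s, hr, hs, h1, h2, h3, h4, h5, h6, h7, h8⟩
      · exact Or.inr (Or.inl ⟨r, vert hr h4, h1, h2, h3, h4⟩)
      · exact Or.inr (Or.inr ⟨r, s, vert hr h7, vert hs h8, h1, h2, h3, h4, h5, h6, h7, h8⟩)
    · exact absurd (Lib.ClassSizes.NonAdjacent.adj_of_bad hpq hgp hgq) hadj

end Cfsg.Agent.S4257
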