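import Cfsg.Statements.S4258
import Cfsg.Agent.Lib.TwoLengthExp.Main
-- import your own Cfsg.Agent.* helpers here

set_option autoImplicit false
set_option linter.style.haveILetI false
open Cfsg

namespace Cfsg.Agent.S4258

open Cfsg.Agent.Lib

universe u

/-- The bound for a solvable group. -/
theorem main (e : ℕ) (he : 1 ≤ e) (G₀ : Type u) [Group G₀] [Finite G₀] [Group.IsSolvable G₀]
    (hexp₀ : ∀ x : G₀, (∃ a : ℕ, x ^ 2 ^ a = 1) → x ^ 2 ^ e = 1) : PLengthLE 2 e G₀ := by
  haveI : Fact (Nat.Prime 2) := ⟨Nat.prime_two⟩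
  refine PSolvable.pLengthLE_of_quotient_pPrime PSolvable.card_pPrimeCore_coprime
    (N := pPrimeCore 2 G₀) ?_
  set G := G₀ ⧸ pPrimeCore 2 G₀
  haveI : Group.IsSolvable G :=
    Group.isSolvable_of_surjective (f := QuotientGroup.mk' (pPrimeCore 2 G₀))
      (QuotientGroup.mk'_surjective _)
  have hexp : ∀ x : G, (∃ a : ℕ, x ^ 2 ^ a = 1) → x ^ 2 ^ e = 1 :=
    S3801.exponent_quotient _ hexp₀
  have hO : pPrimeCore 2 G = ⊥ := PSolvable.pPrimeCore_quotient_eq_bot _ rfl
  set T := pCore 2 G with hT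
  have hTp : IsPGroup 2 T := PSolvable.isPGroup_pCore
  have hCT := PSolvable.centralizer_pCore_le (p := 2)
    (PSolvable.isPSolvable_of_isSolvable (G := G)) hO
  rw [show e = (e - 1) + 1 by omega]
  refine PSolvable.pLengthLE_succ_of_quotient_pCore ?_
  -- the representation on the Frattini quotient
  haveI : IsMulCommutative (↥T ⧸ frattini ↥T) := by
    have h := (Cfsg.Agent.Lib.PGroups.frattiniQuotient_elemAb hTp).1
    exact ⟨⟨fun a b => congrArg Subtype.val
      (h.is_comm.comm ⟨a, Subgroup.mem_top a⟩ ⟨b, Subgroup.mem_top b⟩)⟩⟩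
  letI : CommGroup (↥T ⧸ frattini ↥T) :=
    { (inferInstance : Group (↥T ⧸ frattini ↥T)) with
      mul_comm := fun a b => mul_comm' a b }
  set V := Additive (↥T ⧸ frattini ↥T)
  have hV2 : ∀ v : V, 2 • v = 0 := fun v => by
    change Additive.ofMul (Additive.toMul v ^ 2) = Additive.ofMul 1
    rw [(Cfsg.Agent.Lib.PGroups.frattiniQuotient_elemAb hTp).2 _ (Subgroup.mem_top _)]
  obtain ⟨M, i1, i2, i3, L, hL⟩ := FpfHeight.ScalarExt.exists_rep 2 V hV2
  set k := AlgebraicClosure (ZMod 2)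
  haveI : CharP k 2 := charP_of_injective_algebraMap (algebraMap (ZMod 2) k).injective 2
  let r : G →* AddMonoid.End V := OddLocal.PStable.frattiniRep T
  have hr : ∀ (g : G) (w : T), r g (Additive.ofMul (w : ↥T ⧸ frattini ↥T)) =
      Additive.ofMul ((MulAut.conjNormal g w : ↥T) : ↥T ⧸ frattini ↥T) := fun g w => rfl
  have hrT : T ≤ r.ker := fun g hg => by
    refine MonoidHom.mem_ker.mpr (AddMonoidHom.ext fun v => ?_)
    obtain ⟨w, hw⟩ := QuotientGroup.mk_surjective (Additive.toMul v)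
    have hv : v = Additive.ofMul (w : ↥T ⧸ frattini ↥T) := by rw [hw]; rfl
    rw [hv]
    refine (hr g w).trans (congrArg Additive.ofMul ?_)
    rw [show MulAut.conjNormal g w = ⟨g, hg⟩ * w * (⟨g, hg⟩ : T)⁻¹ from Subtype.ext (by simp),
      QuotientGroup.mk_mul, QuotientGroup.mk_mul, QuotientGroup.mk_inv, mul_comm' ((⟨g, hg⟩ : T) : ↥T ⧸ frattini ↥T),
      mul_inv_cancel_right]
  have hker : r.ker ≤ T := by
    refine PSolvable.le_pCore inferInstance ?_
    rintro ⟨g, hg⟩
    obtain ⟨a, n, hn, han⟩ :=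
      Nat.exists_eq_pow_mul_and_not_dvd (orderOf_pos g).ne' 2 (by norm_num)
    refine ⟨a, Subtype.ext ?_⟩
    change g ^ 2 ^ a = 1
    set h := g ^ 2 ^ a with hh
    have hhn : h ^ n = 1 := by rw [hh, ← pow_mul, ← han, pow_orderOf_eq_one]
    have hnodd : Odd n := Nat.odd_iff.mpr (by omega)
    have hhker : h ∈ r.ker := Subgroup.pow_mem _ hg _
    have hcent : Subgroup.zpowers h ≤ Subgroup.centralizer (T : Set G) := by
      refine Coprime.le_centralizer_of_frattini ?_ ?_ fun b hb w hw => ?_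
      · rw [Subgroup.normalizer_eq_top_iff.mpr inferInstance]; exact le_top
      · rw [Nat.card_zpowers]
        obtain ⟨m, hm⟩ := IsPGroup.iff_card.mp (hTp.to_subgroup (frattini ↥T))
        rw [hm]
        refine Nat.Coprime.pow_right _ (Nat.coprime_two_right.mpr ?_)
        exact hnodd.of_dvd_nat (orderOf_dvd_of_pow_eq_one hhn)
      · have hbk : r b = 1 := (Subgroup.zpowers_le.mpr hhker : _) hb
        have h1 := congrArg Additive.toMul (DFunLike.congr_fun hbk
          (Additive.ofMul ((⟨w, hw⟩ : T) : ↥T ⧸ frattini ↥T)))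
        rw [hr] at h1
        change ((MulAut.conjNormal b (⟨w, hw⟩ : T) : T) : ↥T ⧸ frattini ↥T) =
          ((⟨w, hw⟩ : T) : ↥T ⧸ frattini ↥T) at h1
        rw [← mul_inv_eq_one, ← QuotientGroup.mk_inv, ← QuotientGroup.mk_mul,
          QuotientGroup.eq_one_iff] at h1
        exact ⟨_, h1, by simp⟩
    obtain ⟨b, hb⟩ := hTp ⟨h, hCT (hcent (Subgroup.mem_zpowers h))⟩
    exact FpfHeight.InvolutionConj.eq_one_of_two_pow (congrArg Subtype.val hb) hhn hnodd
  set H := G ⧸ T
  haveI : Group.IsSolvable H :=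
    Group.isSolvable_of_surjective (f := QuotientGroup.mk' T) (QuotientGroup.mk'_surjective _)
  let ρ : H →* Module.End k M :=
    QuotientGroup.lift T (L.toMonoidHom.comp r) (fun g hg => MonoidHom.mem_ker.mpr (by
      change L (r g) = 1
      rw [MonoidHom.mem_ker.mp (hrT hg), map_one]))
  have hρ : Function.Injective ρ := by
    refine (injective_iff_map_eq_one ρ).mpr fun c hc => ?_
    obtain ⟨g, rfl⟩ := QuotientGroup.mk_surjective c
    exact (QuotientGroup.eq_one_iff g).mpr
      (hker (MonoidHom.mem_ker.mpr (hL (hc.trans (map_one L).symm))))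
  have hexpH : ∀ y : H, (∃ a : ℕ, y ^ 2 ^ a = 1) →
      y ^ 2 ^ e = 1 ∧ ∑ i ∈ Finset.range (2 ^ e), ρ y ^ i = 0 := by
    intro y hy
    refine ⟨S3801.exponent_quotient _ hexp y hy, ?_⟩
    obtain ⟨a, ha⟩ := hy
    obtain ⟨x, ⟨b, hb⟩, rfl⟩ := S3801.exists_lift T ha
    have hsum : ∑ i ∈ Finset.range (2 ^ e), r (x ^ i) = 0 := by
      refine AddMonoidHom.ext fun v => ?_
      obtain ⟨w, hw⟩ := QuotientGroup.mk_surjective (Additive.toMul v)
      have hv : v = Additive.ofMul (w : ↥T ⧸ frattini ↥T) := by rw [hw]; rfl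
      have hm : ∀ n, ((w : G) * x) ^ n * (x ^ n)⁻¹ ∈ T := fun n => by
        rw [← QuotientGroup.eq_one_iff, QuotientGroup.mk_mul, QuotientGroup.mk_inv,
          QuotientGroup.mk_pow, QuotientGroup.mk_mul, (QuotientGroup.eq_one_iff (w : G)).mpr w.2,
          one_mul, ← QuotientGroup.mk_pow, mul_inv_cancel]
      have hprod : ∀ n, (∑ i ∈ Finset.range n, r (x ^ i)) v =
          Additive.ofMul (((⟨_, hm n⟩ : T)) : ↥T ⧸ frattini ↥T) := by
        intro n
        induction n with
        | zero =>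
          rw [Finset.sum_range_zero, show (⟨_, hm 0⟩ : T) = 1 from Subtype.ext (by simp)]
          rfl
        | succ n ihn =>
          rw [Finset.sum_range_succ]
          change (∑ i ∈ Finset.range n, r (x ^ i)) v + r (x ^ n) v = _
          rw [ihn, hv, hr, ← ofMul_mul,
            ← QuotientGroup.mk_mul]
          refine congrArg Additive.ofMul (congrArg _ (Subtype.ext ?_))
          rw [Subgroup.coe_mul, MulAut.conjNormal_apply]
          change ((w : G) * x) ^ n * (x ^ n)⁻¹ * (x ^ n * (w : G) * (x ^ n)⁻¹) =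
            ((w : G) * x) ^ (n + 1) * (x ^ (n + 1))⁻¹
          rw [pow_succ, pow_succ]
          group
      refine (hprod _).trans ?_
      have h1 : ((w : G) * x) ^ 2 ^ e = 1 := by
        obtain ⟨c, hc⟩ := hTp ⟨_, hm (2 ^ b)⟩
        have hc' := congrArg Subtype.val hc
        simp only [Subgroup.coe_pow, Subgroup.coe_one, hb, inv_one, mul_one, ← pow_mul, ← pow_add]
          at hc'
        exact hexp _ ⟨_, hc'⟩
      rw [show (⟨_, hm (2 ^ e)⟩ : T) = 1 from Subtype.ext (by simp [h1, hexp x ⟨b, hb⟩])]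
      rfl
    have h2 := congrArg L hsum
    rw [map_sum, map_zero] at h2
    rw [← h2]
    refine Finset.sum_congr rfl fun i _ => ?_
    rw [map_pow, map_pow]
    rfl
  exact TwoLengthExp.bound _ H rfl (PSolvable.pCore_quotient_eq_bot _ rfl) M ρ hρ e he hexpH

/-- Let G be a finite 2-soluble group whose Sylow 2-subgroups have exponent dividing 2^e. Then the 2-length of G is at most e. -/
theorem result {G : Type*} [Group G] [Finite G] (hG : Cfsg.IsPSolvable 2 G) (e : ℕ)
    (hexp : ∀ (P : Sylow 2 G), ∀ x ∈ (P : Subgroup G), x ^ 2 ^ e = 1) : Cfsg.PLengthLE 2 e G := by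
  haveI := TwoLengthExp.isSolvable_of_isPSolvable_two hG
  haveI : Fact (Nat.Prime 2) := ⟨Nat.prime_two⟩
  have hall : ∀ x : G, (∃ a : ℕ, x ^ 2 ^ a = 1) → x ^ 2 ^ e = 1 := fun x hx => by
    obtain ⟨a, ha⟩ := hx
    have hp : IsPGroup 2 (Subgroup.zpowers x) := by
      obtain ⟨i, -, hi⟩ := (Nat.dvd_prime_pow Nat.prime_two).mp (orderOf_dvd_of_pow_eq_one ha)
      exact IsPGroup.of_card (n := i) (by rw [Nat.card_zpowers, hi])
    obtain ⟨P, hP⟩ := hp.exists_le_sylow
    exact hexp P x (hP (Subgroup.mem_zpowers x))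
  rcases Nat.eq_zero_or_pos e with rfl | he
  · refine PSolvable.pLengthLE_zero_iff.mpr fun hd => ?_
    obtain ⟨y, hy⟩ := exists_prime_orderOf_dvd_card' 2 hd
    have h := hall y ⟨1, by have h := pow_orderOf_eq_one y; rw [hy] at h; simpa using h⟩
    rw [pow_zero, pow_one] at h
    rw [h, orderOf_one] at hy
    norm_num at hy
  exact main e he G hall

end Cfsg.Agent.S4258
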