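import Cfsg.Statements.S4259
import Cfsg.Agent.Lib.TwoLengthDer.Main
import Cfsg.Agent.Lib.TwoLengthExp.Main
-- import your own Cfsg.Agent.* helpers here

set_option autoImplicit false
set_option linter.style.haveILetI false
open Cfsg

namespace Cfsg.Agent.S4259

open Cfsg.Agent.Lib

universe u

/-- The bound for a solvable group. -/
theorem main (d : ℕ) (hd : 1 ≤ d) (G₀ : Type u) [Group G₀] [Finite G₀] [Group.IsSolvable G₀]
    (hder₀ : ∀ T : Subgroup G₀, IsPGroup 2 T → derivedSeries T d = ⊥) : PLengthLE 2 d G₀ := by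
  haveI : Fact (Nat.Prime 2) := ⟨Nat.prime_two⟩
  refine PSolvable.pLengthLE_of_quotient_pPrime PSolvable.card_pPrimeCore_coprime
    (N := pPrimeCore 2 G₀) ?_
  set G := G₀ ⧸ pPrimeCore 2 G₀
  haveI : Group.IsSolvable G :=
    Group.isSolvable_of_surjective (f := QuotientGroup.mk' (pPrimeCore 2 G₀))
      (QuotientGroup.mk'_surjective _)
  have hder : ∀ S : Subgroup G, IsPGroup 2 S → TwoLengthDer.derPart S d = ⊥ := by
    intro S hS
    obtain ⟨S₀, hS₀, rfl⟩ := TwoLengthDer.exists_twoGroup_lift (QuotientGroup.mk' _)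
      (QuotientGroup.mk'_surjective _) hS
    rw [TwoLengthDer.derPart_map, TwoLengthDer.derPart_eq_bot (hder₀ S₀ hS₀), Subgroup.map_bot]
  have hO : pPrimeCore 2 G = ⊥ := PSolvable.pPrimeCore_quotient_eq_bot _ rfl
  set T := pCore 2 G with hT
  have hTp : IsPGroup 2 T := PSolvable.isPGroup_pCore
  have hCT := PSolvable.centralizer_pCore_le (p := 2)
    (PSolvable.isPSolvable_of_isSolvable (G := G)) hO
  rw [show d = (d - 1) + 1 by omega]
  refine PSolvable.pLengthLE_succ_of_quotient_pCore ?_
  -- the representation on the Frattini quotient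
  haveI : IsMulCommutative (↥T ⧸ frattini ↥T) := by
    have h := (Cfsg.Agent.Lib.PGroups.frattiniQuotient_elemAb hTp).1
    exact ⟨⟨fun a b => congrArg Subtype.val
      (h.is_comm.comm ⟨a, Subgroup.mem_top a⟩ ⟨b, Subgroup.mem_top b⟩)⟩⟩
  letI : CommGroup (↥T ⧸ frattini ↥T) :=
    { (inferInstance : Group (↥T ⧸ frattini ↥T)) with
      mul_comm := fun a b => mul_comm' a b }
  set V := Additive (↥T ⧸ frattini ↥T)
  have hV2 : ∀ v : V, 2 • v = 0 := fun v => by
    change Additive.ofMul (Additive.toMul v ^ 2) = Additive.ofMul 1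
    rw [(Cfsg.Agent.Lib.PGroups.frattiniQuotient_elemAb hTp).2 _ (Subgroup.mem_top _)]
  obtain ⟨M, i1, i2, i3, L, hL⟩ := FpfHeight.ScalarExt.exists_rep 2 V hV2
  set k := AlgebraicClosure (ZMod 2)
  haveI : CharP k 2 := charP_of_injective_algebraMap (algebraMap (ZMod 2) k).injective 2
  let r : G →* AddMonoid.End V := OddLocal.PStable.frattiniRep T
  have hr : ∀ (g : G) (w : T), r g (Additive.ofMul (w : ↥T ⧸ frattini ↥T)) =
      Additive.ofMul ((MulAut.conjNormal g w : ↥T) : ↥T ⧸ frattini ↥T) := fun g w => rfl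
  have hrT : T ≤ r.ker := fun g hg => by
    refine MonoidHom.mem_ker.mpr (AddMonoidHom.ext fun v => ?_)
    obtain ⟨w, hw⟩ := QuotientGroup.mk_surjective (Additive.toMul v)
    have hv : v = Additive.ofMul (w : ↥T ⧸ frattini ↥T) := by rw [hw]; rfl
    rw [hv]
    refine (hr g w).trans (congrArg Additive.ofMul ?_)
    rw [show MulAut.conjNormal g w = ⟨g, hg⟩ * w * (⟨g, hg⟩ : T)⁻¹ from Subtype.ext (by simp),
      QuotientGroup.mk_mul, QuotientGroup.mk_mul, QuotientGroup.mk_inv, mul_comm' ((⟨g, hg⟩ : T) : ↥T ⧸ frattini ↥T),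
      mul_inv_cancel_right]
  have hker : r.ker ≤ T := by
    refine PSolvable.le_pCore inferInstance ?_
    rintro ⟨g, hg⟩
    obtain ⟨a, n, hn, han⟩ :=
      Nat.exists_eq_pow_mul_and_not_dvd (orderOf_pos g).ne' 2 (by norm_num)
    refine ⟨a, Subtype.ext ?_⟩
    change g ^ 2 ^ a = 1
    set h := g ^ 2 ^ a with hh
    have hhn : h ^ n = 1 := by rw [hh, ← pow_mul, ← han, pow_orderOf_eq_one]
    have hnodd : Odd n := Nat.odd_iff.mpr (by omega)
    have hhker : h ∈ r.ker := Subgroup.pow_mem _ hg _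
    have hcent : Subgroup.zpowers h ≤ Subgroup.centralizer (T : Set G) := by
      refine Coprime.le_centralizer_of_frattini ?_ ?_ fun b hb w hw => ?_
      · rw [Subgroup.normalizer_eq_top_iff.mpr inferInstance]; exact le_top
      · rw [Nat.card_zpowers]
        obtain ⟨m, hm⟩ := IsPGroup.iff_card.mp (hTp.to_subgroup (frattini ↥T))
        rw [hm]
        refine Nat.Coprime.pow_right _ (Nat.coprime_two_right.mpr ?_)
        exact hnodd.of_dvd_nat (orderOf_dvd_of_pow_eq_one hhn)
      · have hbk : r b = 1 := (Subgroup.zpowers_le.mpr hhker : _) hb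
        have h1 := congrArg Additive.toMul (DFunLike.congr_fun hbk
          (Additive.ofMul ((⟨w, hw⟩ : T) : ↥T ⧸ frattini ↥T)))
        rw [hr] at h1
        change ((MulAut.conjNormal b (⟨w, hw⟩ : T) : T) : ↥T ⧸ frattini ↥T) =
          ((⟨w, hw⟩ : T) : ↥T ⧸ frattini ↥T) at h1
        rw [← mul_inv_eq_one, ← QuotientGroup.mk_inv, ← QuotientGroup.mk_mul,
          QuotientGroup.eq_one_iff] at h1
        exact ⟨_, h1, by simp⟩
    obtain ⟨b, hb⟩ := hTp ⟨h, hCT (hcent (Subgroup.mem_zpowers h))⟩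
    exact FpfHeight.InvolutionConj.eq_one_of_two_pow (congrArg Subtype.val hb) hhn hnodd
  set H := G ⧸ T
  haveI : Group.IsSolvable H :=
    Group.isSolvable_of_surjective (f := QuotientGroup.mk' T) (QuotientGroup.mk'_surjective _)
  let ρ : H →* Module.End k M :=
    QuotientGroup.lift T (L.toMonoidHom.comp r) (fun g hg => MonoidHom.mem_ker.mpr (by
      change L (r g) = 1
      rw [MonoidHom.mem_ker.mp (hrT hg), map_one]))
  have hρ : Function.Injective ρ := by
    refine (injective_iff_map_eq_one ρ).mpr fun c hc => ?_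
    obtain ⟨g, rfl⟩ := QuotientGroup.mk_surjective c
    exact (QuotientGroup.eq_one_iff g).mpr
      (hker (MonoidHom.mem_ker.mpr (hL (hc.trans (map_one L).symm))))
  have hderH : TwoLengthDer.DerHyp ρ d := by
    intro S' hS'
    obtain ⟨S₀, hS₀, rfl⟩ := TwoLengthDer.exists_twoGroup_lift (QuotientGroup.mk' T)
      (QuotientGroup.mk'_surjective T) hS'
    set S := S₀ ⊔ T with hSdef
    have hS : IsPGroup 2 S := IsPGroup.to_sup_of_normal_right hS₀ hTp
    have hmap : S.map (QuotientGroup.mk' T) = S₀.map (QuotientGroup.mk' T) := by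
      rw [hSdef, Subgroup.map_sup]
      simp
    refine ⟨?_, ?_⟩
    · refine (Subgroup.map_eq_bot_iff_of_injective _ (Subgroup.subtype_injective _)).mp ?_
      change TwoLengthDer.derPart (S₀.map (QuotientGroup.mk' T)) d = ⊥
      rw [← hmap, TwoLengthDer.derPart_map, hder S hS, Subgroup.map_bot]
    refine TwoLengthDer.iterComm_eq_bot_of_chain _ fun p hp => ?_
    let r' : H →* AddMonoid.End V := QuotientGroup.lift T r hrT
    have hρr : ρ.comp (S₀.map (QuotientGroup.mk' T)).subtype =
        L.toMonoidHom.comp (r'.comp (S₀.map (QuotientGroup.mk' T)).subtype) := by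
      refine MonoidHom.ext fun c => ?_
      obtain ⟨g, hg⟩ := QuotientGroup.mk_surjective (c : H)
      change ρ (c : H) = L (r' (c : H))
      rw [← hg]
      rfl
    rw [hρr] at hp
    obtain ⟨b, hb, rfl⟩ := TwoLengthDer.chain_map _ L d hp
    suffices hb0 : b = 0 by rw [hb0, map_zero]
    have hchain : ∀ j, ∀ p ∈ TwoLengthDer.chain
        (r'.comp (S₀.map (QuotientGroup.mk' T)).subtype) j,
        ∀ w : T, ∃ c : T, (c : G) ∈ TwoLengthDer.derPart S j ∧
          p (Additive.ofMul (w : ↥T ⧸ frattini ↥T)) =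
            Additive.ofMul (c : ↥T ⧸ frattini ↥T) := by
      intro j
      induction j with
      | zero =>
        rintro p (rfl : p = 1) w
        refine ⟨w, ?_, rfl⟩
        rw [TwoLengthDer.derPart_zero]
        exact Subgroup.mem_sup_right w.2
      | succ j ihj =>
        rintro _ ⟨x, hx, p, hp, rfl⟩ w
        obtain ⟨c, hc, hpc⟩ := ihj p hp w
        have hx' : (x : H) ∈ TwoLengthDer.derPart (S.map (QuotientGroup.mk' T)) j := by
          rw [hmap]; exact ⟨x, hx, rfl⟩
        rw [TwoLengthDer.derPart_map] at hx'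
        obtain ⟨t, ht, htx⟩ := hx'
        refine ⟨MulAut.conjNormal t c * c⁻¹, ?_, ?_⟩
        · have h := TwoLengthDer.commutator_mem_derPart ht hc
          rw [Subgroup.coe_mul, MulAut.conjNormal_apply, Subgroup.coe_inv]
          exact h
        · have hrx : (r'.comp (S₀.map (QuotientGroup.mk' T)).subtype) x = r t := by
            rw [MonoidHom.comp_apply, Subgroup.coe_subtype, ← htx]
            rfl
          rw [hrx]
          change r t (p _) - p _ = _
          rw [hpc, hr, QuotientGroup.mk_mul, QuotientGroup.mk_inv, ← div_eq_mul_inv]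
          rfl
    refine AddMonoidHom.ext fun v => ?_
    obtain ⟨w, hw⟩ := QuotientGroup.mk_surjective (Additive.toMul v)
    have hv : v = Additive.ofMul (w : ↥T ⧸ frattini ↥T) := by rw [hw]; rfl
    obtain ⟨c, hc, hbc⟩ := hchain d b hb w
    rw [hder S hS, Subgroup.mem_bot] at hc
    rw [hv]
    refine hbc.trans ?_
    rw [show c = 1 from Subtype.ext hc]
    rfl
  exact TwoLengthDer.bound _ H rfl (PSolvable.pCore_quotient_eq_bot _ rfl) M ρ hρ d hd hderH

/-- Let G be a finite 2-soluble group whose Sylow 2-subgroups have derived length at most d. Then the 2-length of G is at most d. -/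
theorem result {G : Type*} [Group G] [Finite G] (hG : Cfsg.IsPSolvable 2 G) (d : ℕ)
    (hd : ∀ P : Sylow 2 G, derivedSeries (P : Subgroup G) d = ⊥) : Cfsg.PLengthLE 2 d G := by
  haveI := TwoLengthExp.isSolvable_of_isPSolvable_two hG
  haveI : Fact (Nat.Prime 2) := ⟨Nat.prime_two⟩
  have hall : ∀ T : Subgroup G, IsPGroup 2 T → derivedSeries T d = ⊥ := by
    intro T hT
    obtain ⟨P, hP⟩ := hT.exists_le_sylow
    refine (Subgroup.map_eq_bot_iff_of_injective _ T.subtype_injective).mp (le_bot_iff.mp ?_)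
    exact (TwoLengthDer.derPart_mono hP d).trans_eq (TwoLengthDer.derPart_eq_bot (hd P))
  rcases Nat.eq_zero_or_pos d with rfl | hd0
  · refine PSolvable.pLengthLE_zero_iff.mpr fun h2 => ?_
    obtain ⟨y, hy⟩ := exists_prime_orderOf_dvd_card' 2 h2
    have hp : IsPGroup 2 (Subgroup.zpowers y) :=
      IsPGroup.of_card (n := 1) (by rw [Nat.card_zpowers, hy, pow_one])
    have h := hall _ hp
    rw [derivedSeries_zero] at h
    have hy1 : (⟨y, Subgroup.mem_zpowers y⟩ : Subgroup.zpowers y) = 1 :=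
      Subgroup.mem_bot.mp (h ▸ Subgroup.mem_top _)
    rw [show y = 1 from congrArg Subtype.val hy1, orderOf_one] at hy
    norm_num at hy
  exact main d hd0 G hall

end Cfsg.Agent.S4259
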