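import Cfsg.Statements.S4261

set_option autoImplicit false
open Cfsg
open scoped commutatorElement

namespace Cfsg.Agent.S4261

/-- Let M be a maximal subgroup of a finite solvable group G such that x^[G : M] lies in M for every x in G. Then M is normal in G. -/
theorem result {G : Type*} [Group G] [Finite G] (hG : Group.IsSolvable G) (M : Subgroup G) (hM : IsCoatom M)
    (hexp : ∀ x : G, x ^ M.index ∈ M) : M.Normal := by
  classical
  -- a derived-series term not inside `M` whose derived subgroup is inside `M`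
  obtain ⟨k, hkM, hk'M⟩ : ∃ k, ¬ derivedSeries G k ≤ M ∧ derivedSeries G (k + 1) ≤ M := by
    obtain ⟨n, hn⟩ := hG.solvable
    by_contra hcon
    push Not at hcon
    have : ∀ k, ¬ derivedSeries G k ≤ M := fun k => by
      induction k with
      | zero => rw [derivedSeries_zero]; exact fun h => hM.1 (top_unique h)
      | succ k ih => exact hcon k ih
    exact this n (hn ▸ bot_le)
  set A := derivedSeries G k with hAdef
  have hAn : A.Normal := derivedSeries_normal G k
  have hAM : A ⊔ M = ⊤ := hM.2 _ (lt_of_le_of_ne le_sup_right (fun h => hkM (h.symm ▸ le_sup_left)))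
  have hcomm : ∀ a ∈ A, ∀ b ∈ A, ⁅a, b⁆ ∈ M := fun a ha b hb =>
    hk'M (by rw [derivedSeries_succ]; exact Subgroup.commutator_mem_commutator ha hb)
  -- the kernel of `A → G ⧸ M`
  set B := A ⊓ M with hBdef
  have hswap : ∀ x y : G, x ∈ A → y ∈ A → x * y ∈ B → y * x ∈ B := by
    intro x y hx hy h
    refine ⟨A.mul_mem hy hx, ?_⟩
    have := M.mul_mem (hcomm y hy x hx) h.2
    simpa [commutatorElement_def, mul_assoc] using this
  have hBn : B.Normal := by
    refine Subgroup.normalizer_eq_top_iff.mp (top_unique ?_)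
    rw [← hAM, sup_le_iff]
    refine ⟨fun a ha => ?_, fun m hm => ?_⟩
    · rw [Subgroup.mem_normalizer_iff]
      intro x
      constructor
      · intro hx
        refine hswap (a⁻¹) (a * x) (A.inv_mem ha) (A.mul_mem ha hx.1) ?_
        simpa using hx
      · intro hx
        have := hswap (a * x * a⁻¹ * a) a⁻¹ (A.mul_mem hx.1 ha) (A.inv_mem ha) (by simpa using hx)
        simpa [mul_assoc] using this
    · rw [Subgroup.mem_normalizer_iff]
      intro x
      constructor
      · exact fun hx => ⟨hAn.conj_mem x hx.1 m, M.mul_mem (M.mul_mem hm hx.2) (M.inv_mem hm)⟩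
      · intro hx
        refine ⟨?_, ?_⟩
        · simpa [mul_assoc] using hAn.conj_mem _ hx.1 m⁻¹
        · simpa [mul_assoc] using M.mul_mem (M.mul_mem (M.inv_mem hm) hx.2) hm
  have hidx : M.index = B.relIndex A := by
    have h1 := Subgroup.relIndex_mul_index (inf_le_left : B ≤ A)
    have h2 := Subgroup.relIndex_mul_index (inf_le_right : B ≤ M)
    have h3 : A.index = B.relIndex M := by
      rw [hBdef, Subgroup.inf_relIndex_right, ← Subgroup.relIndex_sup_left M A, hAM,
        Subgroup.relIndex_top_right]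
    rw [← h2, ← h3, mul_comm A.index] at h1
    exact (Nat.eq_of_mul_eq_mul_right (Nat.pos_of_ne_zero A.index_ne_zero_of_finite) h1).symm
  have hn1 : M.index ≠ 1 := fun h => hM.1 (Subgroup.index_eq_one.mp h)
  obtain ⟨p, hp, hpn⟩ := Nat.exists_prime_and_dvd hn1
  have := Fact.mk hp
  -- the elements of `A` with `p`th power in `B`
  let q := QuotientGroup.mk' B
  let V := A.map q
  have hVcomm : ∀ a ∈ A, ∀ b ∈ A, q a * q b = q b * q a := by
    intro a ha b hb
    rw [← commutatorElement_eq_one_iff_mul_comm, ← map_commutatorElement]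
    refine (QuotientGroup.eq_one_iff _).mpr ⟨?_, hcomm a ha b hb⟩
    exact A.mul_mem (A.mul_mem (A.mul_mem ha hb) (A.inv_mem ha)) (A.inv_mem hb)
  let X : Subgroup G :=
    { carrier := {a | a ∈ A ∧ a ^ p ∈ B}
      mul_mem' := fun {a b} ha hb => ⟨A.mul_mem ha.1 hb.1, by
        have e : q ((a * b) ^ p) = 1 := by
          rw [map_pow, map_mul, (show Commute (q a) (q b) from hVcomm a ha.1 b hb.1).mul_pow,
            ← map_pow, ← map_pow, show q (a ^ p) = 1 from (QuotientGroup.eq_one_iff _).mpr ha.2,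
            show q (b ^ p) = 1 from (QuotientGroup.eq_one_iff _).mpr hb.2, one_mul]
        exact (QuotientGroup.eq_one_iff _).mp e⟩
      one_mem' := ⟨A.one_mem, by simp⟩
      inv_mem' := fun {a} ha => ⟨A.inv_mem ha.1, by simpa [inv_pow] using ha.2⟩ }
  have hXn : X.Normal := ⟨fun a ha g => ⟨hAn.conj_mem a ha.1 g, by
    rw [conj_pow]; exact hBn.conj_mem _ ha.2 g⟩⟩
  have hXA : X = A := by
    obtain ⟨v, hv⟩ := exists_prime_orderOf_dvd_card' (G := ↥A ⧸ B.subgroupOf A) p
      (by rw [← Subgroup.index_eq_card]; rw [hidx] at hpn; exact hpn)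
    obtain ⟨a, rfl⟩ := QuotientGroup.mk_surjective v
    have hap : (a : G) ∈ X := ⟨a.2, by
      have h1 := pow_orderOf_eq_one ((QuotientGroup.mk a : ↥A ⧸ B.subgroupOf A))
      rw [hv, ← QuotientGroup.mk_pow, QuotientGroup.eq_one_iff, Subgroup.mem_subgroupOf] at h1
      simpa using h1⟩
    have hanB : (a : G) ∉ M := fun h => hp.ne_one (by
      rw [← hv, orderOf_eq_one_iff, QuotientGroup.eq_one_iff, Subgroup.mem_subgroupOf]
      exact ⟨a.2, h⟩)
    have hXM : X ⊔ M = ⊤ := hM.2 _ (lt_of_le_of_ne le_sup_right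
      (fun h => hanB (h.symm ▸ Subgroup.mem_sup_left hap)))
    refine le_antisymm (fun x hx => hx.1) (fun x hx => ?_)
    have hx' : x ∈ X ⊔ M := hXM ▸ Subgroup.mem_top x
    rw [Subgroup.mem_sup_of_normal_left] at hx'
    obtain ⟨y, hy, z, hz, rfl⟩ := hx'
    have hzA : z ∈ A := by simpa using A.mul_mem (A.inv_mem hy.1) hx
    exact X.mul_mem hy ⟨hzA, B.pow_mem ⟨hzA, hz⟩ p⟩
  have hV : IsPGroup p (↥A ⧸ B.subgroupOf A) := by
    intro v
    obtain ⟨a, rfl⟩ := QuotientGroup.mk_surjective v
    refine ⟨1, ?_⟩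
    rw [pow_one, ← QuotientGroup.mk_pow, QuotientGroup.eq_one_iff, Subgroup.mem_subgroupOf]
    have hax : (a : G) ∈ X := hXA.symm ▸ a.2
    simpa using hax.2
  obtain ⟨e, he⟩ := hV.exists_card_eq
  rw [← Subgroup.index_eq_card, show (B.subgroupOf A).index = M.index from hidx.symm] at he
  -- conjugates of elements of order prime to `p` stay in `M`
  have htrick : ∀ g : G, ∀ m ∈ M, ¬ p ∣ orderOf m → g * m * g⁻¹ ∈ M := by
    intro g m hm hpm
    have hc : (orderOf m).Coprime M.index := by
      rw [he]; exact Nat.Coprime.pow_right _ ((hp.coprime_iff_not_dvd.mpr hpm).symm)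
    obtain ⟨a, ha⟩ := exists_pow_eq_self_of_coprime hc.symm
    have := hexp (g * m ^ a * g⁻¹)
    rwa [conj_pow, ← pow_mul, mul_comm a, pow_mul, ha] at this
  -- a Sylow `p`-subgroup of `M` fixes a second coset
  obtain ⟨P⟩ : Nonempty (Sylow p M) := inferInstance
  let P' := (P : Subgroup M).map M.subtype
  have hP' : IsPGroup p P' := P.2.map _
  have h1 : ((1 : G) : G ⧸ M) ∈ MulAction.fixedPoints ↥P' (G ⧸ M) := by
    rintro ⟨x, hx⟩
    obtain ⟨y, -, rfl⟩ := hx
    change ((y : G) • ((1 : G) : G ⧸ M)) = _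
    rw [MulAction.Quotient.smul_coe, smul_eq_mul, mul_one]
    exact QuotientGroup.eq.mpr (by simp)
  obtain ⟨c, hc, hc1⟩ := hP'.exists_fixed_point_of_prime_dvd_card_of_fixed_point (G ⧸ M)
    (by rw [← Subgroup.index_eq_card]; exact hpn) h1
  obtain ⟨g, rfl⟩ := QuotientGroup.mk_surjective c
  -- `g⁻¹ M g ≤ M`
  have hKmem : ∀ m : M, g⁻¹ * (m : G) * g ∈ M → m ∈ (M.comap (MulAut.conj g⁻¹).toMonoidHom).subgroupOf M := by
    intro m hm
    simpa [Subgroup.mem_subgroupOf] using hm
  set L := (M.comap (MulAut.conj g⁻¹).toMonoidHom).subgroupOf M with hLdef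
  have hL : L = ⊤ := by
    have hP : (P : Subgroup M) ≤ L := by
      intro y hy
      apply hKmem
      have h2 := hc ⟨(y : G), Subgroup.mem_map_of_mem _ hy⟩
      change ((y : G) • (g : G ⧸ M)) = _ at h2
      rw [MulAction.Quotient.smul_coe, smul_eq_mul, QuotientGroup.eq] at h2
      simpa [mul_assoc] using M.inv_mem h2
    refine Subgroup.eq_top_of_le_card _ (Nat.le_of_dvd Nat.card_pos ?_)
    rw [Nat.dvd_iff_prime_pow_dvd_dvd]
    intro r j hr hj
    have := Fact.mk hr
    by_cases hrp : r = p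
    · subst hrp
      refine ((Nat.pow_dvd_pow_iff_le_right hr.one_lt).mpr ?_).trans
        ((dvd_of_eq P.card_eq_multiplicity.symm).trans (Subgroup.card_dvd_of_le hP))
      exact (hr.pow_dvd_iff_le_factorization Nat.card_pos.ne').mp hj
    · obtain ⟨R⟩ : Nonempty (Sylow r M) := inferInstance
      have hR : (R : Subgroup M) ≤ L := by
        intro y hy
        apply hKmem
        have hpy : ¬ p ∣ orderOf (y : G) := by
          obtain ⟨i, hi⟩ := R.2 ⟨y, hy⟩
          have hyi : orderOf (y : G) ∣ r ^ i := by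
            refine orderOf_dvd_of_pow_eq_one ?_
            have h3 := congrArg (fun z : (R : Subgroup M) => ((z : M) : G)) hi
            simpa using h3
          exact fun h => hrp ((Nat.prime_dvd_prime_iff_eq hp hr).mp
            (hp.dvd_of_dvd_pow (h.trans hyi))).symm
        simpa using htrick g⁻¹ (y : G) y.2 hpy
      refine ((Nat.pow_dvd_pow_iff_le_right hr.one_lt).mpr ?_).trans
        ((dvd_of_eq R.card_eq_multiplicity.symm).trans (Subgroup.card_dvd_of_le hR))
      exact (hr.pow_dvd_iff_le_factorization Nat.card_pos.ne').mp hj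
  have hgnorm : g⁻¹ ∈ Subgroup.normalizer (M : Set G) := by
    refine Subgroup.mem_normalizer_fintype (S := (M : Set G)) (fun m hm => ?_)
    have h3 : (⟨m, hm⟩ : M) ∈ L := hL ▸ Subgroup.mem_top _
    simpa [hLdef, Subgroup.mem_subgroupOf] using h3
  refine Subgroup.normalizer_eq_top_iff.mp ?_
  rcases hM.le_iff.mp (Subgroup.le_normalizer : M ≤ Subgroup.normalizer (M : Set G)) with h | h
  · exact h
  · exfalso
    rw [h] at hgnorm
    exact hc1 (QuotientGroup.eq.mpr (by simpa using M.inv_mem hgnorm)).symm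

end Cfsg.Agent.S4261
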