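import Cfsg.Statements.S4262

set_option autoImplicit false
open Cfsg
open scoped Pointwise

namespace Cfsg.Agent.S4262

universe u

variable {G : Type u} [Group G] [Finite G]

/-- The hypothesis. -/
def MaxCentralizers (G : Type u) [Group G] : Prop :=
  ∀ g : G, g ∉ Subgroup.center G → IsCoatom (Subgroup.centralizer ({g} : Set G))

theorem mem_cen {x y : G} : y ∈ Subgroup.centralizer ({x} : Set G) ↔ x * y = y * x := by
  rw [Subgroup.mem_centralizer_iff]
  simp

/-- A subgroup containing a Sylow subgroup for every prime is everything. -/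
theorem eq_top_of_forall_sylow_le {K : Type*} [Group K] [Finite K] (L : Subgroup K)
    (h : ∀ q : ℕ, q.Prime → ∃ Q : Sylow q K, (Q : Subgroup K) ≤ L) : L = ⊤ := by
  refine Subgroup.eq_top_of_le_card _ (Nat.le_of_dvd Nat.card_pos ?_)
  rw [Nat.dvd_iff_prime_pow_dvd_dvd]
  intro r j hr hj
  have := Fact.mk hr
  obtain ⟨R, hR⟩ := h r hr
  refine ((Nat.pow_dvd_pow_iff_le_right hr.one_lt).mpr ?_).trans
    ((dvd_of_eq R.card_eq_multiplicity.symm).trans (Subgroup.card_dvd_of_le hR))
  exact (hr.pow_dvd_iff_le_factorization Nat.card_pos.ne').mp hj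

theorem orderOf_of_mem_sylow {q : ℕ} [Fact q.Prime] (Q : Sylow q G) {y : G}
    (hy : y ∈ (Q : Subgroup G)) : ∃ i, orderOf y = q ^ i := by
  obtain ⟨i, -, hi⟩ := (Nat.dvd_prime_pow Fact.out).mp
    ((Q.card_eq_multiplicity ▸ (Q : Subgroup G).orderOf_dvd_natCard hy :
      orderOf y ∣ q ^ (Nat.card G).factorization q))
  exact ⟨i, hi⟩

/-- A noncentral element has a noncentral power of prime-power order. -/
theorem exists_primary {y : G} (hy : y ∉ Subgroup.center G) :
    ∃ (p i m : ℕ), p.Prime ∧ orderOf (y ^ m) = p ^ i ∧ y ^ m ∉ Subgroup.center G := by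
  let q := QuotientGroup.mk' (Subgroup.center G)
  have hq1 : orderOf (q y) ≠ 1 := fun h =>
    hy ((QuotientGroup.eq_one_iff y).mp (orderOf_eq_one_iff.mp h))
  obtain ⟨p, hp, hpd⟩ := Nat.exists_prime_and_dvd hq1
  obtain ⟨i, m, hpm, hn⟩ :=
    Nat.exists_eq_pow_mul_and_not_dvd (orderOf_pos y).ne' p hp.ne_one
  refine ⟨p, i, m, hp, ?_, fun hmem => hpm ?_⟩
  · rw [orderOf_pow' y (by rintro rfl; simp at hpm), hn, Nat.gcd_mul_left_left,
      Nat.mul_div_cancel]
    exact Nat.pos_of_ne_zero (by rintro rfl; simp at hpm)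
  · refine hpd.trans (orderOf_dvd_of_pow_eq_one ?_)
    rw [← map_pow]
    exact (QuotientGroup.eq_one_iff _).mpr hmem

theorem cen_pow {a : G} (ha : a ∉ Subgroup.center G) (h : MaxCentralizers G) {k : ℕ}
    (hk : a ^ k ∉ Subgroup.center G) :
    Subgroup.centralizer ({a} : Set G) = Subgroup.centralizer ({a ^ k} : Set G) := by
  have hle : Subgroup.centralizer ({a} : Set G) ≤ Subgroup.centralizer ({a ^ k} : Set G) :=
    fun g hg => mem_cen.mpr ((show Commute a g from mem_cen.mp hg).pow_left k)
  exact (hle.eq_or_lt).resolve_right fun hlt => (h _ hk).1 ((h a ha).2 _ hlt)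

/-- Commuting noncentral elements of coprime order have the same centralizer. -/
theorem cen_eq_of_coprime (h : MaxCentralizers G) {a b : G}
    (ha : a ∉ Subgroup.center G) (hb : b ∉ Subgroup.center G) (hc : Commute a b)
    (hcop : (orderOf a).Coprime (orderOf b)) :
    Subgroup.centralizer ({a} : Set G) = Subgroup.centralizer ({b} : Set G) := by
  obtain ⟨k, hk⟩ := exists_pow_eq_self_of_coprime hcop.symm
  obtain ⟨l, hl⟩ := exists_pow_eq_self_of_coprime hcop
  have h1 : (a * b) ^ (orderOf b * k) = a := by
    rw [hc.mul_pow, pow_mul b, pow_orderOf_eq_one, one_pow, mul_one, pow_mul, hk]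
  have h2 : (a * b) ^ (orderOf a * l) = b := by
    rw [hc.mul_pow, pow_mul a, pow_orderOf_eq_one, one_pow, one_mul, pow_mul, hl]
  have hab : a * b ∉ Subgroup.center G := fun hz => ha (h1 ▸ Subgroup.pow_mem _ hz _)
  have e1 := cen_pow hab h (k := orderOf b * k) (by rwa [h1])
  have e2 := cen_pow hab h (k := orderOf a * l) (by rwa [h2])
  rw [h1] at e1
  rw [h2] at e2
  exact e1.symm.trans e2

/-- A group with a solvable maximal normal subgroup is solvable. -/
theorem solvable_of_normal_coatom {M : Subgroup G} (hM : IsCoatom M) [hn : M.Normal]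
    (hs : Group.IsSolvable M) : Group.IsSolvable G := by
  obtain ⟨g, hg⟩ : ∃ g, g ∉ M := by
    by_contra hcon
    push Not at hcon
    exact hM.1 ((Subgroup.eq_top_iff' M).mpr hcon)
  let q := QuotientGroup.mk' M
  have hgen : ∀ x : G ⧸ M, x ∈ Subgroup.zpowers (q g) := by
    have htop : M ⊔ Subgroup.zpowers g = ⊤ := hM.2 _ (lt_of_le_of_ne le_sup_left
      (fun he => hg (he.symm ▸ Subgroup.mem_sup_right (Subgroup.mem_zpowers g))))
    intro x
    obtain ⟨y, rfl⟩ := QuotientGroup.mk'_surjective M x
    have hy : y ∈ M ⊔ Subgroup.zpowers g := htop ▸ Subgroup.mem_top y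
    rw [Subgroup.mem_sup_of_normal_left] at hy
    obtain ⟨m, hm, z, ⟨j, rfl⟩, rfl⟩ := hy
    refine ⟨j, ?_⟩
    change q g ^ j = q (m * g ^ j)
    rw [map_mul, map_zpow, show q m = 1 from (QuotientGroup.eq_one_iff m).mpr hm, one_mul]
  have : IsCyclic (G ⧸ M) := ⟨⟨q g, hgen⟩⟩
  have : Group.IsSolvable (G ⧸ M) := Group.isSolvable_of_comm mul_comm'
  exact Group.isSolvable_of_ker_le_range M.subtype q (by simp [q])

/-- Data attached to a noncentral element of prime-power order, in a nonsolvable group. -/
theorem local_data (h : MaxCentralizers G) (hns : ¬ Group.IsSolvable G) {p i : ℕ}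
    [Fact p.Prime] {x : G} (hx : orderOf x = p ^ i) (hxc : x ∉ Subgroup.center G) :
    (∃ S : Sylow p G,
      Subgroup.normalizer ((S : Subgroup G) : Set G) = Subgroup.centralizer ({x} : Set G)) ∧
    IsPGroup p (↥(Subgroup.centralizer ({x} : Set G)) ⧸
      Subgroup.center ↥(Subgroup.centralizer ({x} : Set G))) := by
  have hM := h x hxc
  set M := Subgroup.centralizer ({x} : Set G) with hMdef
  have hxM : x ∈ M := mem_cen.mpr rfl
  -- elements of order prime to `p` in `M` are central in `M`
  have hcent : ∀ b : M, ¬ p ∣ orderOf b →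
      (b : G) ∈ Subgroup.center G ∨ Subgroup.centralizer ({(b : G)} : Set G) = M := by
    intro b hb
    by_cases hbc : (b : G) ∈ Subgroup.center G
    · exact Or.inl hbc
    · right
      refine (cen_eq_of_coprime h hxc hbc (mem_cen.mp b.2) ?_).symm
      rw [hx, Subgroup.orderOf_coe]
      exact Nat.Coprime.pow_left _ ((Fact.out : p.Prime).coprime_iff_not_dvd.mpr hb)
  have hcentM : ∀ b : M, ¬ p ∣ orderOf b → b ∈ Subgroup.center M := by
    intro b hb
    rw [Subgroup.mem_center_iff]
    intro m
    rcases hcent b hb with h1 | h1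
    · exact Subtype.ext (Subgroup.mem_center_iff.mp h1 m)
    · have h2 : (m : G) ∈ Subgroup.centralizer ({(b : G)} : Set G) := h1.symm ▸ m.2
      exact Subtype.ext (mem_cen.mp h2).symm
  have hsyl : ∀ q : ℕ, q.Prime → q ≠ p → ∀ (Q : Sylow q M), ∀ y ∈ (Q : Subgroup M),
      ¬ p ∣ orderOf y := by
    intro q hq hqp Q y hy hd
    have := Fact.mk hq
    obtain ⟨j, hj⟩ := orderOf_of_mem_sylow Q hy
    exact hqp ((Nat.prime_dvd_prime_iff_eq Fact.out hq).mp
      ((Fact.out : p.Prime).dvd_of_dvd_pow (hj ▸ hd))).symm
  have hquot : IsPGroup p (↥M ⧸ Subgroup.center ↥M) := by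
    intro v
    obtain ⟨b, rfl⟩ := QuotientGroup.mk_surjective v
    obtain ⟨a, m, hpm, hn⟩ :=
      Nat.exists_eq_pow_mul_and_not_dvd (orderOf_pos b).ne' p (Fact.out : p.Prime).ne_one
    refine ⟨a, ?_⟩
    rw [← QuotientGroup.mk_pow, QuotientGroup.eq_one_iff]
    refine hcentM _ fun hd => hpm (hd.trans (orderOf_dvd_of_pow_eq_one ?_))
    rw [← pow_mul, ← hn, pow_orderOf_eq_one]
  refine ⟨?_, hquot⟩
  have hMsolv : Group.IsSolvable M := by
    have : Group.IsNilpotent (↥M ⧸ Subgroup.center ↥M) := hquot.isNilpotent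
    have : Group.IsNilpotent M := Group.of_quotient_center_nilpotent this
    infer_instance
  have hnotn : ¬ M.Normal := fun _ => hns (solvable_of_normal_coatom hM hMsolv)
  obtain ⟨P⟩ : Nonempty (Sylow p M) := inferInstance
  have hgenP : (P : Subgroup M) ⊔ Subgroup.center M = ⊤ := by
    refine eq_top_of_forall_sylow_le _ fun q hq => ?_
    by_cases hqp : q = p
    · subst hqp; exact ⟨P, le_sup_left⟩
    · obtain ⟨Q⟩ : Nonempty (Sylow q M) := inferInstance
      exact ⟨Q, fun y hy => Subgroup.mem_sup_right (hcentM y (hsyl q hq hqp Q y hy))⟩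
  have hPn : (P : Subgroup M).Normal := by
    refine Subgroup.normalizer_eq_top_iff.mp (top_unique ?_)
    rw [← hgenP, sup_le_iff]
    exact ⟨Subgroup.le_normalizer, (Subgroup.center_le_centralizer _).trans
      (Subgroup.centralizer_le_normalizer _)⟩
  set P' := (P : Subgroup M).map M.subtype with hP'
  have hxP : x ∈ P' := by
    obtain ⟨R, hR⟩ := (IsPGroup.of_card (G := ↥(Subgroup.zpowers (⟨x, hxM⟩ : M))) (p := p) (n := i)
      (by rw [Nat.card_zpowers, Subgroup.orderOf_mk, hx])).exists_le_sylow
    have : Unique (Sylow p M) := Sylow.unique_of_normal P hPn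
    rw [Subsingleton.elim R P] at hR
    exact ⟨_, hR (Subgroup.mem_zpowers _), rfl⟩
  have hP'nn : ¬ P'.Normal := by
    intro hnP
    by_cases hb : ∀ b : M, ¬ p ∣ orderOf b → (b : G) ∈ Subgroup.center G
    · have hL : (P' ⊔ Subgroup.center G).subgroupOf M = ⊤ := by
        refine eq_top_of_forall_sylow_le _ fun q hq => ?_
        by_cases hqp : q = p
        · subst hqp
          exact ⟨P, fun y hy => Subgroup.mem_sup_left ⟨y, hy, rfl⟩⟩
        · obtain ⟨Q⟩ : Nonempty (Sylow q M) := inferInstance
          exact ⟨Q, fun y hy => Subgroup.mem_sup_right (hb y (hsyl q hq hqp Q y hy))⟩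
      have hMeq : M = P' ⊔ Subgroup.center G :=
        le_antisymm (Subgroup.subgroupOf_eq_top.mp hL)
          (sup_le (Subgroup.map_subtype_le _) (Subgroup.center_le_centralizer _))
      exact hnotn (hMeq ▸ inferInstance)
    · push Not at hb
      obtain ⟨b, hbp, hbc⟩ := hb
      have hCb : Subgroup.centralizer ({(b : G)} : Set G) = M := (hcent b hbp).resolve_left hbc
      have hMle : M ≤ Subgroup.centralizer (P' : Set G) := by
        intro m hm
        rw [Subgroup.mem_centralizer_iff]
        rintro _ ⟨y, hy, rfl⟩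
        obtain ⟨j, hj⟩ := orderOf_of_mem_sylow P hy
        by_cases hyc : (y : G) ∈ Subgroup.center G
        · exact (Subgroup.mem_center_iff.mp hyc m).symm
        · have hby : Commute (b : G) (y : G) :=
            mem_cen.mp (show (y : G) ∈ Subgroup.centralizer ({(b : G)} : Set G) from hCb.symm ▸ y.2)
          have := cen_eq_of_coprime h hyc hbc hby.symm (by
            rw [Subgroup.orderOf_coe, Subgroup.orderOf_coe, hj]
            exact Nat.Coprime.pow_left _ ((Fact.out : p.Prime).coprime_iff_not_dvd.mpr hbp))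
          refine mem_cen.mp (show m ∈ Subgroup.centralizer ({(y : G)} : Set G) from ?_)
          rw [this, hCb]
          exact hm
      rcases hM.le_iff.mp hMle with h1 | h1
      · refine hxc (Subgroup.mem_center_iff.mpr fun g => ?_)
        have hg : g ∈ Subgroup.centralizer (P' : Set G) := h1 ▸ Subgroup.mem_top g
        exact (Subgroup.mem_centralizer_iff.mp hg x hxP).symm
      · exact hnotn (h1 ▸ inferInstance)
  have hNP : Subgroup.normalizer (P' : Set G) = M := by
    have hle : M ≤ Subgroup.normalizer (P' : Set G) := by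
      intro m hm
      rw [Subgroup.mem_normalizer_iff]
      intro y
      constructor
      · rintro ⟨z, hz, rfl⟩
        exact ⟨⟨m, hm⟩ * z * ⟨m, hm⟩⁻¹, hPn.conj_mem z hz _, rfl⟩
      · rintro ⟨z, hz, hzy⟩
        refine ⟨⟨m, hm⟩⁻¹ * z * ⟨m, hm⟩, ?_, ?_⟩
        · have h5 := hPn.conj_mem z hz (⟨m, hm⟩ : M)⁻¹
          rwa [inv_inv] at h5
        · change m⁻¹ * (z : G) * m = y
          rw [show (z : G) = m * y * m⁻¹ from hzy]
          group
    rcases hM.le_iff.mp hle with h1 | h1
    · exact absurd (Subgroup.normalizer_eq_top_iff.mp h1) hP'nn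
    · exact h1
  obtain ⟨S, hS⟩ := (P.2.map M.subtype).exists_le_sylow
  refine ⟨S, ?_⟩
  suffices hSP : (S : Subgroup G) = P' by rw [hSP, hNP]
  by_contra hne
  have hlt : P' < (S : Subgroup G) := lt_of_le_of_ne hS (Ne.symm hne)
  have : Group.IsNilpotent (S : Subgroup G) := S.2.isNilpotent
  have hlt' : P'.subgroupOf (S : Subgroup G) < ⊤ := lt_top_iff_ne_top.mpr
    (fun h1 => not_le_of_gt hlt (Subgroup.subgroupOf_eq_top.mp h1))
  have hgrow := Group.normalizerCondition_of_isNilpotent _ hlt'
  obtain ⟨s, hsN, hsP⟩ := SetLike.exists_of_lt hgrow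
  have hsM : (s : G) ∈ M := by
    rw [← hNP, Subgroup.mem_normalizer_iff]
    intro y
    rw [Subgroup.mem_normalizer_iff] at hsN
    constructor
    · intro hy
      exact (hsN ⟨y, hlt.le hy⟩).mp hy
    · intro hy
      have hyS : y ∈ (S : Subgroup G) := by
        have := Subgroup.mul_mem _ (Subgroup.mul_mem _ (Subgroup.inv_mem _ s.2) (hlt.le hy)) s.2
        simpa [mul_assoc] using this
      exact (hsN ⟨y, hyS⟩).mpr hy
  -- a `p`-element of `M` lies in `P`
  apply hsP
  obtain ⟨j, hj⟩ := orderOf_of_mem_sylow S s.2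
  obtain ⟨R, hR⟩ := (IsPGroup.of_card (G := ↥(Subgroup.zpowers (⟨(s : G), hsM⟩ : M))) (p := p) (n := j)
    (by rw [Nat.card_zpowers, Subgroup.orderOf_mk, hj])).exists_le_sylow
  have : Unique (Sylow p M) := Sylow.unique_of_normal P hPn
  rw [Subsingleton.elim R P] at hR
  exact Subgroup.mem_subgroupOf.mpr ⟨_, hR (Subgroup.mem_zpowers _), rfl⟩

theorem sum_inv_sq_lt (T : Finset ℕ) (hT : ∀ p ∈ T, 2 ≤ p) :
    ∑ p ∈ T, (1 : ℚ) / (p : ℚ) ^ 2 < 3 / 4 := by
  classical
  set N := T.sup id + 3 with hN
  have hsub : T ⊆ Finset.Ico 2 N := fun p hp => Finset.mem_Ico.mpr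
    ⟨hT p hp, by have := Finset.le_sup (f := id) hp; simp only [id_eq] at this; omega⟩
  refine lt_of_le_of_lt (Finset.sum_le_sum_of_subset_of_nonneg hsub (fun _ _ _ => by positivity)) ?_
  have key : ∀ k : ℕ, ∑ p ∈ Finset.Ico 2 (k + 3), (1 : ℚ) / (p : ℚ) ^ 2
      ≤ 3 / 4 - 1 / ((k : ℚ) + 2) := by
    intro k
    induction k with
    | zero => norm_num
    | succ k ih =>
      rw [Finset.sum_Ico_succ_top (by omega)]
      push_cast
      have hk : (0 : ℚ) ≤ k := Nat.cast_nonneg k
      have : (1 : ℚ) / ((k : ℚ) + 3) ^ 2 ≤ 1 / ((k : ℚ) + 2) - 1 / ((k : ℚ) + 1 + 2) := by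
        rw [div_sub_div _ _ (by positivity) (by positivity), div_le_div_iff₀ (by positivity)
          (by positivity)]
        nlinarith
      linarith
  calc ∑ p ∈ Finset.Ico 2 N, (1 : ℚ) / (p : ℚ) ^ 2 ≤ 3 / 4 - 1 / ((T.sup id : ℕ) + 2) := key _
    _ < 3 / 4 := by
      have : (0 : ℚ) < 1 / ((T.sup id : ℕ) + 2) := by positivity
      linarith

theorem not_cyclic_quot {K : Type*} [Group K] (hK : ¬ IsMulCommutative K) :
    ¬ IsCyclic (K ⧸ Subgroup.center K) := fun _ =>
  hK ((QuotientGroup.mk' (Subgroup.center K)).isMulCommutative_of_isCyclic_of_ker_le_center (by simp))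

/-- Let G be a finite group in which the centralizer of every non-central element is a maximal subgroup of G. Then G is solvable. -/
theorem result {G : Type*} [Group G] [Finite G]
    (h : ∀ g : G, g ∉ Subgroup.center G → IsCoatom (Subgroup.centralizer ({g} : Set G))) :
    Group.IsSolvable G := by
  classical
  by_contra hns
  have hH : MaxCentralizers G := h
  have hZ : Subgroup.center G ≠ ⊤ := fun hz => hns (Group.isSolvable_of_comm fun a b =>
    (Subgroup.mem_center_iff.mp (hz ▸ Subgroup.mem_top b) a))
  -- the normalizer of every noncentral Sylow subgroup is a centralizer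
  have hN : ∀ {p : ℕ} [Fact p.Prime] (S : Sylow p G), ¬ (S : Subgroup G) ≤ Subgroup.center G →
      ∃ (i : ℕ) (x : G), orderOf x = p ^ i ∧ x ∉ Subgroup.center G ∧
        Subgroup.normalizer ((S : Subgroup G) : Set G) = Subgroup.centralizer ({x} : Set G) := by
    intro p _ S hS
    obtain ⟨x, hxS, hxc⟩ := SetLike.not_le_iff_exists.mp hS
    obtain ⟨i, hi⟩ := orderOf_of_mem_sylow S hxS
    obtain ⟨⟨S', hS'⟩, -⟩ := local_data hH hns hi hxc
    obtain ⟨g, rfl⟩ := MulAction.exists_smul_eq G S' S
    refine ⟨i, g * x * g⁻¹, ?_, fun hc => hxc ?_, ?_⟩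
    · rw [← MulAut.conj_apply, MulEquiv.orderOf_eq, hi]
    · simpa [mul_assoc] using Subgroup.Normal.conj_mem inferInstance _ hc g⁻¹
    · ext y
      rw [mem_cen]
      refine Iff.trans (Sylow.smul_eq_iff_mem_normalizer (P := g • S')).symm ?_
      have e : y • g • S' = g • S' ↔ (g⁻¹ * y * g) • S' = S' := by
        rw [mul_smul, mul_smul, inv_smul_eq_iff]
      rw [e, Sylow.smul_eq_iff_mem_normalizer]
      refine Iff.trans (iff_of_eq (congrArg (fun K : Subgroup G => g⁻¹ * y * g ∈ K) hS')) ?_
      rw [mem_cen]
      constructor <;> intro hy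
      · calc g * x * g⁻¹ * y = g * (x * (g⁻¹ * y * g)) * g⁻¹ := by group
          _ = g * (g⁻¹ * y * g * x) * g⁻¹ := by rw [hy]
          _ = _ := by group
      · calc x * (g⁻¹ * y * g) = g⁻¹ * (g * x * g⁻¹ * y) * g := by group
          _ = g⁻¹ * (y * (g * x * g⁻¹)) * g := by rw [hy]
          _ = _ := by group
  by_cases hB : ∃ (p : ℕ) (_ : Fact p.Prime) (S : Sylow p G), ¬ (S : Subgroup G) ≤ Subgroup.center G ∧
      Subgroup.normalizer ((S : Subgroup G) : Set G) ≤ Subgroup.centralizer ((S : Subgroup G) : Set G)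
  · -- Burnside transfer and the Frattini argument
    obtain ⟨p, _, S, hS, hSC⟩ := hB
    set K := (MonoidHom.transferSylow S hSC).ker with hK
    have hcK : Subgroup.IsComplement' K S := MonoidHom.ker_transferSylow_isComplement' S hSC
    obtain ⟨i, x, hxi, hxc, hSN⟩ := hN S hS
    set M := Subgroup.centralizer ({x} : Set G) with hMdef
    refine (hH x hxc).1 (Subgroup.eq_top_of_le_card _ (Nat.le_of_dvd Nat.card_pos ?_))
    rw [Nat.dvd_iff_prime_pow_dvd_dvd]
    intro s j hs hj
    have := Fact.mk hs
    have hsj : s ^ j ∣ s ^ (Nat.card G).factorization s :=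
      (Nat.pow_dvd_pow_iff_le_right hs.one_lt).mpr
        ((hs.pow_dvd_iff_le_factorization Nat.card_pos.ne').mp hj)
    refine hsj.trans ?_
    by_cases hsp : s = p
    · subst hsp
      exact (dvd_of_eq S.card_eq_multiplicity.symm).trans
        (Subgroup.card_dvd_of_le (Subgroup.le_normalizer.trans hSN.le))
    · obtain ⟨T⟩ : Nonempty (Sylow s G) := inferInstance
      by_cases hT : (T : Subgroup G) ≤ Subgroup.center G
      · exact (dvd_of_eq T.card_eq_multiplicity.symm).trans
          (Subgroup.card_dvd_of_le (hT.trans (Subgroup.center_le_centralizer _)))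
      · obtain ⟨i', y, hyi, hyc, hTN⟩ := hN T hT
        -- `T` lies in the normal `p`-complement
        have hTK : (T : Subgroup G) ≤ K := by
          intro t ht
          obtain ⟨j', hj'⟩ := orderOf_of_mem_sylow T ht
          have hzero : ((QuotientGroup.mk' K) t) = 1 := by
            rw [← orderOf_eq_one_iff]
            refine Nat.eq_one_of_dvd_coprimes ?_ ((orderOf_map_dvd _ t).trans (dvd_of_eq hj'))
              ((orderOf_dvd_natCard _).trans (dvd_of_eq ?_ : _ ∣ p ^ (Nat.card G).factorization p))
            · exact Nat.coprime_pow_primes _ _ hs Fact.out hsp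
            · rw [← Subgroup.index_eq_card, hcK.symm.index_eq_card]
              exact S.card_eq_multiplicity
          exact (QuotientGroup.eq_one_iff t).mp hzero
        have hfr : Subgroup.normalizer ((T : Subgroup G) : Set G) ⊔ K = ⊤ :=
          Sylow.normalizer_sup_eq_top' T hTK
        have hMp : p ^ (Nat.card G).factorization p ∣
            Nat.card (Subgroup.centralizer ({y} : Set G)) := by
          have h1 : K.relIndex (Subgroup.centralizer ({y} : Set G)) = K.index := by
            rw [← Subgroup.relIndex_sup_left (Subgroup.centralizer ({y} : Set G)) K, sup_comm, ← hTN, hfr, Subgroup.relIndex_top_right]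
          rw [← S.card_eq_multiplicity, show Nat.card (S : Subgroup G) = K.index from
            hcK.symm.index_eq_card.symm, ← h1]
          exact Subgroup.relIndex_dvd_card _ _
        obtain ⟨R⟩ : Nonempty (Sylow p ↥(Subgroup.centralizer ({y} : Set G))) := inferInstance
        set R' := (R : Subgroup ↥(Subgroup.centralizer ({y} : Set G))).map (Subgroup.subtype _)
        have hR' : Nat.card R' = p ^ (Nat.card G).factorization p := by
          rw [Subgroup.card_map_of_injective Subtype.val_injective, R.card_eq_multiplicity]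
          refine congrArg _ (le_antisymm ?_ ?_)
          · exact ((Fact.out : p.Prime).pow_dvd_iff_le_factorization Nat.card_pos.ne').mp
              ((Nat.ordProj_dvd _ p).trans (Subgroup.card_subgroup_dvd_card _))
          · exact ((Fact.out : p.Prime).pow_dvd_iff_le_factorization Nat.card_pos.ne').mp hMp
        have hR'S : ∃ g : G, MulAut.conj g • (S : Subgroup G) = R' := by
          obtain ⟨g, hg⟩ := MulAction.exists_smul_eq G S (Sylow.ofCard R' hR')
          exact ⟨g, congrArg (fun Q : Sylow p G => (Q : Subgroup G)) hg⟩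
        obtain ⟨g, hg⟩ := hR'S
        -- `x ∈ S`, so its conjugate lies in `R' ≤ C(y)`
        have hxS : x ∈ (S : Subgroup G) := by
          have hxM : x ∈ Subgroup.normalizer ((S : Subgroup G) : Set G) := hSN ▸ mem_cen.mpr rfl
          have hle : Subgroup.zpowers x ≤ Subgroup.normalizer ((S : Subgroup G) : Set G) :=
            Subgroup.zpowers_le.mpr hxM
          have hp1 : IsPGroup p ↥(Subgroup.zpowers x ⊔ (S : Subgroup G)) :=
            (IsPGroup.of_card (n := i) (by rw [Nat.card_zpowers, hxi])).to_sup_of_normal_right' S.2 hle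
          exact (S.3 hp1 le_sup_right).le (Subgroup.mem_sup_left (Subgroup.mem_zpowers x))
        have hgx : g * x * g⁻¹ ∈ Subgroup.centralizer ({y} : Set G) := by
          have : MulAut.conj g • x ∈ R' := hg ▸ Subgroup.smul_mem_pointwise_smul x _ _ hxS
          exact Subgroup.map_subtype_le _ this
        have hgxc : g * x * g⁻¹ ∉ Subgroup.center G := fun hc => hxc (by
          simpa [mul_assoc] using Subgroup.Normal.conj_mem inferInstance _ hc g⁻¹)
        have heq := cen_eq_of_coprime hH hgxc hyc (show Commute _ _ from (mem_cen.mp hgx).symm) (by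
          rw [← MulAut.conj_apply, MulEquiv.orderOf_eq, hxi, hyi]
          exact Nat.coprime_pow_primes _ _ Fact.out hs (Ne.symm hsp))
        have hcard : Nat.card M = Nat.card (Subgroup.centralizer ({y} : Set G)) := by
          rw [← heq]
          refine Nat.card_congr ((Subgroup.equivSMul (MulAut.conj g) M).trans
            (MulEquiv.subgroupCongr ?_)).toEquiv
          ext z
          rw [Subgroup.mem_pointwise_smul_iff_inv_smul_mem, MulAut.smul_def, MulAut.conj_inv_apply,
            hMdef, mem_cen, mem_cen]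
          constructor <;> intro hz
          · calc g * x * g⁻¹ * z = g * (x * (g⁻¹ * z * g)) * g⁻¹ := by group
              _ = g * (g⁻¹ * z * g * x) * g⁻¹ := by rw [hz]
              _ = _ := by group
          · calc x * (g⁻¹ * z * g) = g⁻¹ * (g * x * g⁻¹ * z) * g := by group
              _ = g⁻¹ * (z * (g * x * g⁻¹)) * g := by rw [hz]
              _ = _ := by group
        rw [hcard]
        exact (dvd_of_eq T.card_eq_multiplicity.symm).trans
          (Subgroup.card_dvd_of_le (Subgroup.le_normalizer.trans hTN.le))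
  · -- counting
    push Not at hB
    have := Fintype.ofFinite G
    let cz : Subgroup G → Finset G := fun N =>
      Finset.univ.filter fun y => y ∈ N ∧ y ∈ Subgroup.centralizer (N : Set G)
    let T : ℕ → Finset G := fun p => Finset.univ.filter fun y => ∃ S : Sylow p G,
      ¬ (S : Subgroup G) ≤ Subgroup.center G ∧
      y ∈ cz (Subgroup.normalizer ((S : Subgroup G) : Set G))
    have hbound : ∀ p ∈ (Nat.card G).primeFactors,
        ((T p).card : ℚ) ≤ (Nat.card G : ℚ) * (1 / (p : ℚ) ^ 2) := by
      intro p hp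
      have := Fact.mk (Nat.prime_of_mem_primeFactors hp)
      have hsub : T p ⊆ (Finset.univ.filter fun S : Sylow p G =>
          ¬ (S : Subgroup G) ≤ Subgroup.center G).biUnion
            fun S => cz (Subgroup.normalizer ((S : Subgroup G) : Set G)) := by
        intro y hy
        obtain ⟨S, hS, hy'⟩ := (Finset.mem_filter.mp hy).2
        exact Finset.mem_biUnion.mpr ⟨S, Finset.mem_filter.mpr ⟨Finset.mem_univ _, hS⟩, hy'⟩
      have hone : ∀ S : Sylow p G, ¬ (S : Subgroup G) ≤ Subgroup.center G →
          (cz (Subgroup.normalizer ((S : Subgroup G) : Set G))).card * p ^ 2 * Nat.card (Sylow p G)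
            ≤ Nat.card G := by
        intro S hS
        obtain ⟨i, x, hxi, hxc, hSN⟩ := hN S hS
        obtain ⟨-, hq⟩ := local_data hH hns hxi hxc
        rw [← hSN] at hq
        set N := Subgroup.normalizer ((S : Subgroup G) : Set G)
        have hncomm : ¬ IsMulCommutative N := fun hc => hB p ‹_› S hS fun z hz => by
          rw [Subgroup.mem_centralizer_iff]
          intro w hw
          exact congrArg Subtype.val (hc.is_comm.comm (⟨w, Subgroup.le_normalizer hw⟩ : N) ⟨z, hz⟩)
        obtain ⟨k, hk⟩ := hq.exists_card_eq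
        have hk2 : 2 ≤ k := by
          by_contra hlt
          refine not_cyclic_quot hncomm ?_
          interval_cases k
          · rw [pow_zero] at hk
            have := (Nat.card_eq_one_iff_unique.mp hk).1
            exact isCyclic_of_subsingleton
          · exact isCyclic_of_prime_card (by rw [hk, pow_one])
        have hcz : (cz N).card = Nat.card (Subgroup.center N) := by
          rw [Nat.card_eq_fintype_card]
          refine (Eq.trans (Fintype.card_subtype _) (Finset.card_nbij (fun z : N => (z : G)) ?_ ?_ ?_)).symm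
          · intro z hz
            rw [Finset.mem_coe, Finset.mem_filter] at hz
            refine Finset.mem_filter.mpr ⟨Finset.mem_univ _, z.2, ?_⟩
            rw [Subgroup.mem_centralizer_iff]
            exact fun w hw => congrArg Subtype.val (Subgroup.mem_center_iff.mp hz.2 ⟨w, hw⟩)
          · exact Subtype.val_injective.injOn
          · intro z hz
            simp only [cz, Finset.coe_filter, Finset.mem_univ, true_and, Set.mem_ofPred_eq] at hz
            refine ⟨⟨z, hz.1⟩, ?_, rfl⟩
            simp only [Finset.coe_filter, Finset.mem_univ, true_and, Set.mem_ofPred_eq]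
            rw [Subgroup.mem_center_iff]
            exact fun w => Subtype.ext (Subgroup.mem_centralizer_iff.mp hz.2 _ w.2)
        calc (cz N).card * p ^ 2 * Nat.card (Sylow p G)
            ≤ (cz N).card * p ^ k * Nat.card (Sylow p G) := by
              gcongr
              exact (Fact.out : p.Prime).one_le
          _ = Nat.card N * N.index := by
              rw [hcz, ← hk, Sylow.card_eq_index_normalizer S,
                Subgroup.card_eq_card_quotient_mul_card_subgroup (Subgroup.center ↥N),
                show (Subgroup.normalizer (S : Set G)).index = N.index from rfl]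
              ring
          _ = Nat.card G := Subgroup.card_mul_index N
      have hp0 : (0 : ℚ) < (p : ℚ) ^ 2 := by
        have := (Fact.out : p.Prime).pos
        positivity
      have hn0 : (0 : ℚ) < (Nat.card (Sylow p G) : ℚ) := by exact_mod_cast Nat.card_pos
      calc ((T p).card : ℚ) ≤ ((∑ S ∈ Finset.univ.filter (fun S : Sylow p G =>
            ¬ (S : Subgroup G) ≤ Subgroup.center G),
            (cz (Subgroup.normalizer ((S : Subgroup G) : Set G))).card : ℕ) : ℚ) := by
            exact_mod_cast (Finset.card_le_card hsub).trans Finset.card_biUnion_le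
        _ = ∑ S ∈ Finset.univ.filter (fun S : Sylow p G => ¬ (S : Subgroup G) ≤ Subgroup.center G),
            ((cz (Subgroup.normalizer ((S : Subgroup G) : Set G))).card : ℚ) := Nat.cast_sum _ _
        _ ≤ ∑ _S ∈ Finset.univ.filter (fun S : Sylow p G => ¬ (S : Subgroup G) ≤ Subgroup.center G),
            (Nat.card G : ℚ) / ((p : ℚ) ^ 2 * Nat.card (Sylow p G)) := by
            refine Finset.sum_le_sum fun S hS => ?_
            rw [le_div_iff₀ (by positivity), ← mul_assoc]
            exact_mod_cast hone S (Finset.mem_filter.mp hS).2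
        _ ≤ (Nat.card (Sylow p G) : ℚ) * ((Nat.card G : ℚ) / ((p : ℚ) ^ 2 * Nat.card (Sylow p G))) := by
            rw [Finset.sum_const, nsmul_eq_mul]
            refine mul_le_mul_of_nonneg_right ?_ (by positivity)
            rw [Nat.card_eq_fintype_card]
            exact_mod_cast Finset.card_filter_le _ _
        _ = _ := by field_simp
    have hcover : (Finset.univ.filter fun y : G => y ∉ Subgroup.center G) ⊆
        (Nat.card G).primeFactors.biUnion T := by
      intro y hy
      have hyc := (Finset.mem_filter.mp hy).2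
      obtain ⟨p, i, m, hp, hord, hm⟩ := exists_primary hyc
      have := Fact.mk hp
      obtain ⟨⟨S, hS⟩, -⟩ := local_data hH hns hord hm
      have hcy := cen_pow hyc hH hm
      refine Finset.mem_biUnion.mpr ⟨p, ?_, Finset.mem_filter.mpr ⟨Finset.mem_univ _, S, ?_, ?_⟩⟩
      · refine Nat.mem_primeFactors.mpr ⟨hp, ?_, Nat.card_pos.ne'⟩
        refine dvd_trans ?_ (orderOf_dvd_natCard (y ^ m))
        rw [hord]
        refine dvd_pow_self p fun hi => hm ?_
        rw [hi, pow_zero, orderOf_eq_one_iff] at hord
        rw [hord]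
        exact Subgroup.one_mem _
      · intro hle
        have htop : Subgroup.normalizer ((S : Subgroup G) : Set G) = ⊤ := by
          refine top_unique (le_trans ?_ (Subgroup.centralizer_le_normalizer _))
          intro g _
          rw [Subgroup.mem_centralizer_iff]
          exact fun w hw => (Subgroup.mem_center_iff.mp (hle hw) g).symm
        exact (hH _ hm).1 (hS ▸ htop)
      · refine Finset.mem_filter.mpr ⟨Finset.mem_univ _, ?_, ?_⟩
        · rw [hS, ← hcy]; exact mem_cen.mpr rfl
        · rw [hS, ← hcy, Subgroup.mem_centralizer_iff]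
          exact fun w hw => (mem_cen.mp hw).symm
    have hz4 : 4 * Nat.card (Subgroup.center G) ≤ Nat.card G := by
      have h1 := Subgroup.card_mul_index (Subgroup.center G)
      suffices 4 ≤ (Subgroup.center G).index by
        rw [← h1, mul_comm]
        exact Nat.mul_le_mul_left _ this
      by_contra hlt
      have hc : IsCyclic (G ⧸ Subgroup.center G) := by
        have h2 : (Subgroup.center G).index ≠ 0 := Subgroup.index_ne_zero_of_finite
        have h3 : (Subgroup.center G).index ≠ 1 := fun h => hZ (Subgroup.index_eq_one.mp h)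
        have h4 : (Subgroup.center G).index = 2 ∨ (Subgroup.center G).index = 3 := by omega
        rcases h4 with h4 | h4
        · exact isCyclic_of_prime_card (p := 2) (hp := ⟨Nat.prime_two⟩) h4
        · exact isCyclic_of_prime_card (p := 3) (hp := ⟨Nat.prime_three⟩) h4
      exact not_cyclic_quot (fun hcomm => hns (Group.isSolvable_of_comm hcomm.is_comm.comm)) hc
    have hfilter : (Finset.univ.filter fun y : G => y ∉ Subgroup.center G).card
        + Nat.card (Subgroup.center G) = Nat.card G := by
      rw [Nat.card_eq_fintype_card, Nat.card_eq_fintype_card, Fintype.card_subtype, add_comm,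
        Finset.card_filter_add_card_filter_not, Finset.card_univ]
    have hchain : ((Finset.univ.filter fun y : G => y ∉ Subgroup.center G).card : ℚ) ≤
        (Nat.card G : ℚ) * ∑ p ∈ (Nat.card G).primeFactors, (1 : ℚ) / (p : ℚ) ^ 2 := by
      rw [Finset.mul_sum]
      calc ((Finset.univ.filter fun y : G => y ∉ Subgroup.center G).card : ℚ)
          ≤ ((∑ p ∈ (Nat.card G).primeFactors, (T p).card : ℕ) : ℚ) := by
            exact_mod_cast (Finset.card_le_card hcover).trans Finset.card_biUnion_le
        _ = ∑ p ∈ (Nat.card G).primeFactors, ((T p).card : ℚ) := Nat.cast_sum _ _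
        _ ≤ _ := Finset.sum_le_sum hbound
    have hlt := sum_inv_sq_lt (Nat.card G).primeFactors
      (fun p hp => (Nat.prime_of_mem_primeFactors hp).two_le)
    have hG0 : (0 : ℚ) < (Nat.card G : ℚ) := by exact_mod_cast Nat.card_pos
    have h5 : (4 : ℚ) * (Nat.card (Subgroup.center G) : ℚ) ≤ (Nat.card G : ℚ) := by exact_mod_cast hz4
    have h6 : ((Finset.univ.filter fun y : G => y ∉ Subgroup.center G).card : ℚ)
        + (Nat.card (Subgroup.center G) : ℚ) = (Nat.card G : ℚ) := by exact_mod_cast hfilter
    have h7 := mul_lt_mul_of_pos_left hlt hG0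
    linarith

end Cfsg.Agent.S4262
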