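import Cfsg.Statements.S4263
-- import your own Cfsg.Agent.* helpers here

set_option autoImplicit false
open Cfsg

namespace Cfsg.Agent.S4263
open scoped Pointwise

set_option linter.unusedSectionVars false
variable {G : Type*} [Group G] [Finite G]

/-- some normal p-subgroup containing all normal p-subgroups -/
noncomputable def cr (p : ℕ) (G : Type*) [Group G] : Subgroup G := ((default : Sylow p G) : Subgroup G).normalCore

instance crNormal (p : ℕ) : (cr p G).Normal := Subgroup.normalCore_normal _

lemma cr_pgroup (p : ℕ) : IsPGroup p (cr p G) :=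
  (default : Sylow p G).isPGroup'.to_le (Subgroup.normalCore_le _)

lemma cr_le_fitting {p : ℕ} (hp : p.Prime) : cr p G ≤ Cfsg.fittingSubgroup G := by
  have : Fact p.Prime := ⟨hp⟩
  exact le_sSup ⟨crNormal p, (cr_pgroup p).isNilpotent⟩

lemma le_cr {p : ℕ} (hp : p.Prime) (K : Subgroup G) [K.Normal] (hK : IsPGroup p K) : K ≤ cr p G := by
  have : Fact p.Prime := ⟨hp⟩
  exact Subgroup.normal_le_normalCore.mpr (hK.le_sylow_of_normal _)

lemma pow_index_mem_of_mem_cr {p : ℕ} (hp : p.Prime) (H : Subgroup G) {y : G} (hy : y ∈ cr p G) :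
    y ^ H.index ∈ H := by
  have : Fact p.Prime := ⟨hp⟩
  have hd : H.relIndex (cr p G) ∣ H.index := by
    rw [← Subgroup.relIndex_mul_index (le_sup_left : H ≤ H ⊔ cr p G)]
    refine Dvd.dvd.mul_right ?_ _
    have e : Nat.card H * H.relIndex (H ⊔ cr p G) = Nat.card (H ⊔ cr p G : Subgroup G) := by
      have := (H.subgroupOf (H ⊔ cr p G)).card_mul_index
      rwa [Nat.card_congr (Subgroup.subgroupOfEquivOfLe le_sup_left).toEquiv] at this
    have e2 : Nat.card (cr p G) * (cr p G).relIndex H = Nat.card (H ⊔ cr p G : Subgroup G) := by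
      rw [← Subgroup.relIndex_sup_right]
      have := ((cr p G).subgroupOf (H ⊔ cr p G)).card_mul_index
      rwa [Nat.card_congr (Subgroup.subgroupOfEquivOfLe le_sup_right).toEquiv] at this
    have e3 := (H.subgroupOf (cr p G)).card_mul_index
    have e4 := ((cr p G).subgroupOf H).card_mul_index
    have hcs : ∀ A B : Subgroup G, Nat.card (A.subgroupOf B) = Nat.card (A ⊓ B : Subgroup G) := by
      intro A B
      rw [← Subgroup.inf_subgroupOf_right,
        Nat.card_congr (Subgroup.subgroupOfEquivOfLe inf_le_right).toEquiv]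
    rw [hcs] at e3 e4
    rw [inf_comm] at e4
    have heq : H.relIndex (H ⊔ cr p G) = H.relIndex (cr p G) := by
      unfold Subgroup.relIndex at *
      have hc : 0 < Nat.card (H ⊓ cr p G : Subgroup G) := Nat.card_pos
      set a := Nat.card (H ⊓ cr p G : Subgroup G) with ha
      set b := (H.subgroupOf (cr p G)).index with hb
      set c := ((cr p G).subgroupOf H).index with hcc
      set d := (H.subgroupOf (H ⊔ cr p G)).index with hdd
      have hcpos : 0 < c := Nat.pos_of_ne_zero Subgroup.index_ne_zero_of_finite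
      have h5 : (a * c) * d = (a * b) * c := by rw [e4, e3, e, e2]
      have h6 : a * c * d = a * c * b := by rw [h5]; ring
      exact Nat.eq_of_mul_eq_mul_left (Nat.mul_pos hc hcpos) h6
    exact heq ▸ dvd_rfl
  set K := H.subgroupOf (cr p G)
  obtain ⟨a, ha⟩ := (cr_pgroup (G := G) p).index K
  obtain ⟨n, hn0, hn, hmem⟩ := K.exists_pow_mem_of_index_ne_zero
    Subgroup.index_ne_zero_of_finite ⟨y, hy⟩
  obtain ⟨c, hc⟩ := IsPGroup.iff_orderOf.mp (cr_pgroup (G := G) p) ⟨y, hy⟩
  have hg : (⟨y, hy⟩ : cr p G) ^ Nat.gcd n (p ^ c) ∈ K := by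
    rw [← hc, ← zpow_natCast, Nat.gcd_eq_gcd_ab, zpow_add, zpow_mul, zpow_mul, zpow_natCast,
      zpow_natCast, pow_orderOf_eq_one, one_zpow, mul_one]
    exact K.zpow_mem hmem _
  obtain ⟨b, -, hb⟩ := (Nat.dvd_prime_pow hp).mp (Nat.gcd_dvd_right n (p ^ c))
  rw [hb] at hg
  have hle : p ^ b ≤ p ^ a := by
    rw [← hb, ← ha]
    exact le_trans (Nat.le_of_dvd hn0 (Nat.gcd_dvd_left _ _)) hn
  have hba : p ^ b ∣ H.index :=
    (pow_dvd_pow p ((Nat.pow_le_pow_iff_right hp.one_lt).mp hle)).trans (ha ▸ hd)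
  obtain ⟨m, hm⟩ := hba
  rw [hm, pow_mul]
  exact H.pow_mem (by simpa [K, Subgroup.mem_subgroupOf] using hg) _

lemma pow_index_mem {x : G} (hx : x ∈ Cfsg.fittingSubgroup G) (H : Subgroup G) :
    x ^ H.index ∈ H := by
  classical
  let ι := (Nat.card G).primeFactors
  let R : ι → Subgroup G := fun p => cr p G
  have hpr : ∀ p : ι, (p : ℕ).Prime := fun p => Nat.prime_of_mem_primeFactors p.2
  have hcomm : Pairwise fun i j : ι => ∀ a b : G, a ∈ R i → b ∈ R j → Commute a b := by
    intro i j hij a b ha hb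
    have : Fact (i : ℕ).Prime := ⟨hpr i⟩
    have : Fact (j : ℕ).Prime := ⟨hpr j⟩
    have hdis : Disjoint (R i) (R j) :=
      IsPGroup.disjoint_of_ne _ _ (fun h => hij (Subtype.ext h)) _ _ (cr_pgroup _) (cr_pgroup _)
    exact Subgroup.commute_of_normal_of_disjoint _ _ (crNormal _) (crNormal _) hdis a b ha hb
  have hF : Cfsg.fittingSubgroup G ≤ ⨆ p : ι, R p := by
    refine sSup_le ?_
    rintro N ⟨hN, hnil⟩
    rw [← N.range_subtype, MonoidHom.range_eq_map]
    have htop : (⊤ : Subgroup N) ≤ (⨆ p : ι, R p).comap N.subtype := by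
      set M := (⨆ p : ι, R p).comap N.subtype
      have h1 : M.index = 1 := by
        by_contra h
        obtain ⟨q, hq, hqd⟩ := Nat.exists_prime_and_dvd h
        have : Fact q.Prime := ⟨hq⟩
        let Q : Sylow q N := default
        have hqG : q ∈ ι := Nat.mem_primeFactors.mpr ⟨hq,
          (hqd.trans M.index_dvd_card).trans N.card_subgroup_dvd_card, Nat.card_pos.ne'⟩
        have hQn : (Q : Subgroup N).Normal :=
          Q.normal_of_normalizerCondition Group.normalizerCondition_of_isNilpotent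
        have hQc : (Q : Subgroup N).Characteristic := Q.characteristic_of_normal hQn
        have : ((Q : Subgroup N).map N.subtype).Normal :=
          ConjAct.normal_of_characteristic_of_normal
        have hle : (Q : Subgroup N) ≤ M := by
          rw [← Subgroup.map_le_iff_le_comap]
          exact le_trans (le_cr hq _ (Q.isPGroup'.map _)) (le_iSup R ⟨q, hqG⟩)
        exact Q.not_dvd_index (hqd.trans (Subgroup.index_dvd_of_le hle))
      exact (Subgroup.index_eq_one.mp h1).ge
    exact Subgroup.map_le_iff_le_comap.mpr htop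
  have hx' : x ∈ (Subgroup.noncommPiCoprod hcomm).range := by
    rw [Subgroup.noncommPiCoprod_range]; exact hF hx
  obtain ⟨f, rfl⟩ := hx'
  rw [← map_pow]
  rw [Subgroup.noncommPiCoprod_apply]
  apply Subgroup.noncommProd_mem
  intro i _
  exact pow_index_mem_of_mem_cr (hpr i) H (f i).2

lemma mem_fitting_of_pow {x : G} (h : ∀ H : Subgroup G, x ^ H.index ∈ H) :
    x ∈ Cfsg.fittingSubgroup G := by
  set F := Cfsg.fittingSubgroup G
  let m := Function.minimalPeriod (x • ·) ((1 : G) : G ⧸ F)
  have key : ∀ n : ℕ, x ^ n ∈ F ↔ m ∣ n := by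
    intro n
    rw [← MulAction.pow_smul_eq_iff_minimalPeriod_dvd, MulAction.Quotient.smul_coe,
      smul_eq_mul, mul_one, eq_comm, QuotientGroup.eq, inv_one, one_mul]
  suffices m = 1 by simpa using (key 1).mpr this.dvd
  by_contra hne
  obtain ⟨q, hq, hqd⟩ := Nat.exists_prime_and_dvd hne
  have : Fact q.Prime := ⟨hq⟩
  let P : Sylow q G := default
  have hy : x ^ (P : Subgroup G).index ∈ cr q G := by
    intro g
    have h2 := h ((g⁻¹ • P : Sylow q G) : Subgroup G)
    have hi : ((g⁻¹ • P : Sylow q G) : Subgroup G).index = (P : Subgroup G).index := by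
      have a := (P : Subgroup G).card_mul_index
      have b := ((g⁻¹ • P : Sylow q G) : Subgroup G).card_mul_index
      rw [(g⁻¹ • P).card_eq_multiplicity] at b
      rw [P.card_eq_multiplicity] at a
      exact Nat.eq_of_mul_eq_mul_left (pow_pos hq.pos _) (b.trans a.symm)
    rw [hi] at h2
    rw [Sylow.coe_subgroup_smul, Subgroup.mem_smul_pointwise_iff_exists] at h2
    obtain ⟨z, hz, hzeq⟩ := h2
    have : g * (x ^ (P : Subgroup G).index) * g⁻¹ = z := by
      rw [← hzeq]; simp [mul_assoc]
    rw [this]; exact hz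
  exact P.not_dvd_index (hqd.trans ((key _).mp (cr_le_fitting hq hy)))

/-- Let G be a finite group. An element x lies in the Fitting subgroup F(G) if and only if, for every subgroup H of G, the power x^[G : H] lies in H. -/
theorem result {G : Type*} [Group G] [Finite G] (x : G) :
    x ∈ Cfsg.fittingSubgroup G ↔ ∀ H : Subgroup G, x ^ H.index ∈ H := by
  exact ⟨pow_index_mem, mem_fitting_of_pow⟩

end Cfsg.Agent.S4263
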