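import Cfsg.Statements.S4265
import Cfsg.Agent.Lib.SolvClass.Wrapper
import Cfsg.Agent.Lib.FirstPower.SmallReduction
import Cfsg.Agent.Lib.Induced.Integral
import Mathlib.FieldTheory.IntermediateField.Adjoin.Basic
import Mathlib.Algebra.Algebra.ZMod
import Mathlib.Data.Nat.Prime.Infinite

set_option autoImplicit false
open Cfsg

namespace Cfsg.Agent.S4265

open Cfsg.Agent.Lib

attribute [local instance] Ideal.Quotient.field

/-- A finite linear group over the complex numbers has a faithful representation of the same degree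
over a finite field of any large prime characteristic. -/
theorem exists_finite_field_rep {r : ℕ} (G : Subgroup (GL (Fin r) ℂ)) [Finite ↥G] (p : ℕ)
    [Fact p.Prime] (hp : ¬ p ∣ Nat.card G) :
    ∃ (L : Type) (_ : Field L) (_ : Finite L) (_ : CharP L p)
      (ρ : ↥G →* ((Fin r → L) ≃ₗ[L] (Fin r → L))), Function.Injective ρ := by
  classical
  obtain ⟨M, hM⟩ := Blocks.exists_isPModular p Fact.out
  haveI : M.IsMaximal := hM.2.1
  let σ : Representation ℂ ↥G (Fin r → ℂ) :=
    Matrix.toLinAlgEquiv'.toMulEquiv.toMonoidHom.comp ((Units.coeHom _).comp G.subtype)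
  obtain ⟨n, A, hn, hker⟩ := FirstPower.SmallReduction.exists_reduction (G := ↥G) hM
    (χ := σ.character) ⟨r, σ, rfl⟩
  have hnr : n = r := by
    have h1 : σ.character 1 = (r : ℂ) := by
      rw [Representation.char_one, Module.finrank_fin_fun]
    exact_mod_cast hn.symm.trans h1
  subst hnr
  have hA : Function.Injective A := by
    refine (injective_iff_map_eq_one A).2 fun g hg => ?_
    have hord : ¬ p ∣ orderOf g := fun h => hp (h.trans (orderOf_dvd_natCard g))
    have h1 : σ.character g = (Module.finrank ℂ (Fin n → ℂ) : ℂ) := by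
      rw [hker g hord hg, Representation.char_one]
    have h2 := Induced.Integral.eq_id_of_character_eq σ h1
    refine Subtype.ext (Units.ext (Matrix.toLinAlgEquiv'.injective ?_))
    exact h2.trans (map_one σ).symm
  haveI : CharP (Cfsg.AlgInt ⧸ M) p := Blocks.charP_residue hM
  letI : Algebra (ZMod p) (Cfsg.AlgInt ⧸ M) := ZMod.algebra _ p
  let A' : ↥G →* Matrix (Fin n) (Fin n) (Cfsg.AlgInt ⧸ M) :=
    Matrix.toLinAlgEquiv'.symm.toMulEquiv.toMonoidHom.comp A
  let E : Set (Cfsg.AlgInt ⧸ M) := Set.range fun x : ↥G × Fin n × Fin n => A' x.1 x.2.1 x.2.2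
  have hint : ∀ x ∈ E, IsIntegral (ZMod p) x := by
    intro x _
    obtain ⟨a, rfl⟩ := Ideal.Quotient.mk_surjective x
    have h0 : IsIntegral ℤ (a : ℂ) := a.2
    have h1 : IsIntegral ℤ a := (isIntegral_algHom_iff
      (AlgHom.mk' Cfsg.AlgInt.subtype (fun c x => by simp) : Cfsg.AlgInt →ₐ[ℤ] ℂ)
      Subtype.val_injective).1 h0
    haveI : IsScalarTower ℤ (ZMod p) (Cfsg.AlgInt ⧸ M) :=
      IsScalarTower.of_algebraMap_eq' (RingHom.ext_int _ _)
    exact (map_isIntegral_int (Ideal.Quotient.mk M) h1).tower_top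
  haveI : FiniteDimensional (ZMod p) (IntermediateField.adjoin (ZMod p) E) :=
    haveI : Finite E := Set.Finite.to_subtype (Set.finite_range _)
    IntermediateField.finiteDimensional_adjoin hint
  set L := IntermediateField.adjoin (ZMod p) E with hL
  haveI : Finite L := Module.finite_of_finite (ZMod p)
  haveI : CharP L p := charP_of_injective_algebraMap (algebraMap (ZMod p) L).injective p
  let B : ↥G → Matrix (Fin n) (Fin n) L := fun g => Matrix.of fun i j =>
    ⟨A' g i j, IntermediateField.subset_adjoin _ _ ⟨(g, i, j), rfl⟩⟩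
  have hBmap : ∀ g, (B g).map (L.val.toRingHom) = A' g := fun g => rfl
  have hinjmap : Function.Injective fun X : Matrix (Fin n) (Fin n) L => X.map (L.val.toRingHom) :=
    Matrix.map_injective Subtype.val_injective
  let Bh : ↥G →* Matrix (Fin n) (Fin n) L :=
    { toFun := B
      map_one' := hinjmap (show (B 1).map (L.val.toRingHom) = _ by
        rw [hBmap, map_one]; exact (Matrix.map_one _ (map_zero _) (map_one _)).symm)
      map_mul' := fun g h => hinjmap (show (B (g * h)).map (L.val.toRingHom) = _ by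
        rw [hBmap, map_mul, ← hBmap g, ← hBmap h]; exact (Matrix.map_mul).symm) }
  have hBh : Function.Injective Bh := fun g h hgh => by
    refine hA (Matrix.toLinAlgEquiv'.symm.injective ?_)
    exact (hBmap g).symm.trans ((congrArg (fun X => X.map (L.val.toRingHom)) hgh).trans (hBmap h))
  let lin : ↥G →* Module.End L (Fin n → L) :=
    Matrix.toLinAlgEquiv'.toMulEquiv.toMonoidHom.comp Bh
  refine ⟨L, inferInstance, inferInstance, inferInstance,
    (LinearMap.GeneralLinearGroup.generalLinearEquiv L (Fin n → L)).toMonoidHom.comp lin.toHomUnits,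
    fun g h hgh => hBh (Matrix.toLinAlgEquiv'.injective ?_)⟩
  exact LinearMap.ext fun v => LinearEquiv.congr_fun hgh v

/-- Let G be a finite solvable subgroup of GL_r(ℂ), r ≥ 1, with Fitting subgroup F(G) normal in G. Then for every subgroup H of G the quotient H/(H ∩ F(G)) has at most 3^{r−1} conjugacy classes. -/
theorem result (r : ℕ) (hr : 1 ≤ r) (G : Subgroup (GL (Fin r) ℂ)) [Finite ↥G] (hsolv : Group.IsSolvable ↥G) [hF : (Cfsg.fittingSubgroup ↥G).Normal] (H : Subgroup ↥G) : Nat.card (ConjClasses (↥H ⧸ (Cfsg.fittingSubgroup ↥G).subgroupOf H)) ≤ 3 ^ (r - 1) := by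
  classical
  haveI := hsolv
  obtain ⟨p, hpG, hp⟩ := Nat.exists_infinite_primes (Nat.card ↥G + 1)
  haveI := Fact.mk hp
  have hndvd : ¬ p ∣ Nat.card ↥G := fun h => by
    have := Nat.le_of_dvd Nat.card_pos h
    omega
  obtain ⟨L, _, _, _, ρ, hρ⟩ := exists_finite_field_rep G p hndvd
  have hdim : Module.finrank L (Fin r → L) = r := Module.finrank_fin_fun _
  have hcore : ∀ U : Subgroup ↥G, U.Normal → IsPGroup p U → U = ⊥ := fun U _ hU => by
    obtain ⟨i, hi⟩ := IsPGroup.iff_card.1 hU
    rcases Nat.eq_zero_or_pos i with rfl | hpos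
    · exact Subgroup.eq_bot_of_card_eq _ (by rw [hi, pow_zero])
    · exact absurd ((hi ▸ dvd_pow_self p hpos.ne').trans U.card_subgroup_dvd_card) hndvd
  have h := SolvClass.k_quot_fitting_le p ρ hρ hcore (by omega) H
  rw [hdim] at h
  refine le_of_eq_of_le ?_ h
  set F := Cfsg.fittingSubgroup ↥G
  let f : ↥H →* ↥G ⧸ F := (QuotientGroup.mk' F).comp H.subtype
  have hker : f.ker = F.subgroupOf H := by
    ext x
    simp [f, Subgroup.mem_subgroupOf]
  have hr : f.range = H.map (QuotientGroup.mk' F) := by
    rw [MonoidHom.range_comp, Subgroup.range_subtype]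
  exact SolvClass.k_congr (((QuotientGroup.quotientMulEquivOfEq hker.symm).trans
    (QuotientGroup.quotientKerEquivRange f)).trans (MulEquiv.subgroupCongr hr))

end Cfsg.Agent.S4265
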