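import Cfsg.Statements.S4266
import Cfsg.Agent.Lib.SolvClass.FortyNine
import Mathlib.Algebra.Group.TransferInstance
-- import your own Cfsg.Agent.* helpers here

set_option autoImplicit false
open Cfsg

namespace Cfsg.Agent.S4266

/-- Let p be a prime and G a finite solvable group whose order is divisible by p². Then G has at least 49p/60 conjugacy classes. -/
theorem result {G : Type*} [Group G] [Finite G] (hsolv : Group.IsSolvable G) (p : ℕ) [Fact p.Prime] (hp : p ^ 2 ∣ Nat.card G) : 49 * p ≤ 60 * Nat.card (ConjClasses G) := by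
  obtain ⟨n, ⟨e⟩⟩ := Finite.exists_equiv_fin G
  haveI : Small.{0} G := ⟨⟨Fin n, ⟨e⟩⟩⟩
  let f : Shrink.{0} G ≃* G := Shrink.mulEquiv
  haveI := hsolv
  haveI : Finite (Shrink.{0} G) := Finite.of_equiv _ f.toEquiv.symm
  haveI : Group.IsSolvable (Shrink.{0} G) :=
    Group.isSolvable_of_isSolvable_injective (f := f.toMonoidHom) f.injective
  have h := Cfsg.Agent.Lib.SolvClass.FortyNine.forty_nine p _ (Shrink.{0} G) rfl
    ((Nat.card_congr f.toEquiv).symm ▸ hp)
  rw [Cfsg.Agent.Lib.SolvClass.k_congr f] at h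
  exact h

end Cfsg.Agent.S4266
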