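import Cfsg.Statements.S4269
import Cfsg.Agent.Lib.Coprime.Conjugacy

set_option autoImplicit false
open Cfsg

namespace Cfsg.Agent.S4269

open scoped commutatorElement

/-- Let G be a finite group, V an abelian normal subgroup and H a subgroup with HV = G. Then H is pronormal in G (H and gHg⁻¹ are conjugate inside the subgroup they generate, for every g) if and only if every H-invariant subgroup U of V satisfies U = N_U(H)·[H, U], that is, U is the join of U ∩ N_G(H) and the commutator subgroup [H, U]. -/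
theorem result {G : Type*} [Group G] [Finite G]
    (V : Subgroup G) [V.Normal] (hV : IsMulCommutative ↥V) (H : Subgroup G) (hHV : H ⊔ V = ⊤) :
    Cfsg.IsPronormal H ↔
      ∀ U : Subgroup G, U ≤ V → (∀ h ∈ H, U.map (MulAut.conj h).toMonoidHom = U) →
        U = (U ⊓ Subgroup.normalizer (H : Set G)) ⊔ ⁅H, U⁆ := by
  classical
  have hVc : ∀ a ∈ V, ∀ b ∈ V, a * b = b * a := fun a ha b hb =>
    congrArg Subtype.val (hV.is_comm.comm ⟨a, ha⟩ ⟨b, hb⟩)
  have hVn : ∀ g : G, ∀ v ∈ V, g * v * g⁻¹ ∈ V := fun g v hv =>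
    (inferInstance : V.Normal).conj_mem v hv g
  have hfix : ∀ a ∈ Subgroup.normalizer (H : Set G), H.map (MulAut.conj a).toMonoidHom = H :=
    fun a ha => Subgroup.mem_normalizer_iff_map_conj_eq.1 ha
  constructor
  · intro hpro U hUV hU
    have hUn : H ≤ Subgroup.normalizer (U : Set G) := fun h hh =>
      Subgroup.mem_normalizer_iff_map_conj_eq.2 (hU h hh)
    have hHU : ⁅H, U⁆ ≤ U := Subgroup.commutator_le.2 fun h hh u hu => by
      rw [commutatorElement_def]
      exact mul_mem ((Subgroup.mem_normalizer_iff.1 (hUn hh) u).1 hu) (inv_mem hu)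
    refine le_antisymm (fun u hu => ?_) (sup_le inf_le_left hHU)
    obtain ⟨x, hx, hxe⟩ := hpro u
    have hcn : H ≤ Subgroup.normalizer ((⁅H, U⁆ : Subgroup G) : Set G) := fun h hh =>
      Subgroup.mem_normalizer_iff_map_conj_eq.2 (by
        rw [Subgroup.map_commutator, Subgroup.mem_normalizer_iff_map_conj_eq.1 (hUn hh),
          Subgroup.mem_normalizer_iff_map_conj_eq.1 (Subgroup.le_normalizer hh)])
    have hK : H ⊔ H.map (MulAut.conj u).toMonoidHom ≤ H ⊔ ⁅H, U⁆ := by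
      refine sup_le le_sup_left ?_
      rintro _ ⟨h, hh, rfl⟩
      show u * h * u⁻¹ ∈ _
      rw [show u * h * u⁻¹ = h * (h⁻¹ * u * h⁻¹⁻¹ * u⁻¹) by group]
      refine mul_mem (Subgroup.mem_sup_left hh) (Subgroup.mem_sup_right ?_)
      rw [← commutatorElement_def]
      exact Subgroup.commutator_mem_commutator (inv_mem hh) hu
    obtain ⟨a, ha, c, hc, hac⟩ := Cfsg.Agent.Lib.Coprime.exists_mul_of_mem_sup hcn (hK hx)
    have hc' : a * c * a⁻¹ ∈ ⁅H, U⁆ := (Subgroup.mem_normalizer_iff.1 (hcn ha) c).1 hc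
    have hn : (a * c * a⁻¹)⁻¹ * u ∈ Subgroup.normalizer (H : Set G) := by
      refine Subgroup.mem_normalizer_iff_map_conj_eq.2 ?_
      have hmul : ∀ g k : G, H.map (MulAut.conj (g * k)).toMonoidHom =
          (H.map (MulAut.conj k).toMonoidHom).map (MulAut.conj g).toMonoidHom := fun g k => by
        rw [Subgroup.map_map]; congr 1; ext z; simp [mul_assoc]
      have hax : H.map (MulAut.conj x).toMonoidHom = H.map (MulAut.conj (a * c * a⁻¹)).toMonoidHom := by
        conv_lhs => rw [show x = (a * c * a⁻¹) * a by rw [hac]; group]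
        rw [hmul, hfix a (Subgroup.le_normalizer ha)]
      show H.map (MulAut.conj ((a * c * a⁻¹)⁻¹ * u)).toMonoidHom = H
      rw [hmul, hxe, hax, ← hmul, inv_mul_cancel]
      ext z; simp
    rw [show u = ((a * c * a⁻¹)⁻¹ * u) * (a * c * a⁻¹) by
      rw [hVc _ (mul_mem (inv_mem (hUV (hHU hc'))) (hUV hu)) _ (hUV (hHU hc'))]; group]
    exact mul_mem (Subgroup.mem_sup_left ⟨mul_mem (U.inv_mem (hHU hc')) hu, hn⟩)
      (Subgroup.mem_sup_right hc')
  · intro hU g
    obtain ⟨k, hk, v, hv, rfl⟩ := Cfsg.Agent.Lib.Coprime.exists_mul_of_mem_sup (A := H) (K := V)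
      (by rw [Subgroup.normalizer_eq_top]; exact le_top) (show g ∈ H ⊔ V by rw [hHV]; trivial)
    have hmul : ∀ g k : G, H.map (MulAut.conj (g * k)).toMonoidHom =
        (H.map (MulAut.conj k).toMonoidHom).map (MulAut.conj g).toMonoidHom := fun g k => by
      rw [Subgroup.map_map]; congr 1; ext z; simp [mul_assoc]
    set w := k * v * k⁻¹ with hwdef
    have hw : w ∈ V := hVn k v hv
    have hgw : H.map (MulAut.conj (k * v)).toMonoidHom = H.map (MulAut.conj w).toMonoidHom := by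
      rw [show k * v = w * k by rw [hwdef]; group, hmul, hfix k (Subgroup.le_normalizer hk)]
    rw [hgw]
    set K := H ⊔ H.map (MulAut.conj w).toMonoidHom with hK
    have hadd : ∀ h u₁ u₂ : G, u₁ ∈ V → u₂ ∈ V → h * (u₁ * u₂) * h⁻¹ * (u₁ * u₂)⁻¹ =
        (h * u₁ * h⁻¹ * u₁⁻¹) * (h * u₂ * h⁻¹ * u₂⁻¹) := fun h u₁ u₂ h1 h2 => by
      have e := hVc u₁⁻¹ (inv_mem h1) _ (mul_mem (hVn h u₂ h2) (inv_mem h2))
      calc h * (u₁ * u₂) * h⁻¹ * (u₁ * u₂)⁻¹ = h * u₁ * h⁻¹ * ((h * u₂ * h⁻¹ * u₂⁻¹) * u₁⁻¹) := by group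
        _ = h * u₁ * h⁻¹ * (u₁⁻¹ * (h * u₂ * h⁻¹ * u₂⁻¹)) := by rw [e]
        _ = _ := by group
    let S : Subgroup G :=
      { carrier := {u | u ∈ V ∧ ∀ h ∈ H, h * u * h⁻¹ * u⁻¹ ∈ K}
        one_mem' := ⟨one_mem _, fun h _ => by simp⟩
        mul_mem' := fun {a b} ⟨ha, ha'⟩ ⟨hb, hb'⟩ => ⟨mul_mem ha hb, fun h hh => by
          rw [hadd h a b ha hb]; exact mul_mem (ha' h hh) (hb' h hh)⟩
        inv_mem' := fun {a} ⟨ha, ha'⟩ => ⟨inv_mem ha, fun h hh => by
          have e := hadd h a a⁻¹ ha (inv_mem ha)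
          rw [mul_inv_cancel, mul_one, inv_one, mul_one, mul_inv_cancel] at e
          rw [eq_inv_of_mul_eq_one_right e.symm]
          exact inv_mem (ha' h hh)⟩ }
    set U := Subgroup.closure {x : G | ∃ j ∈ H, x = j * w * j⁻¹} with hUdef
    have hwU : w ∈ U := Subgroup.subset_closure ⟨1, one_mem _, by group⟩
    have hUV : U ≤ V := (Subgroup.closure_le _).2 (by rintro _ ⟨j, -, rfl⟩; exact hVn j w hw)
    have hwS : ∀ h ∈ H, h * w * h⁻¹ * w⁻¹ ∈ K := fun h hh => by
      rw [show h * w * h⁻¹ * w⁻¹ = h * (w * h⁻¹ * w⁻¹) by group]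
      exact mul_mem (Subgroup.mem_sup_left hh) (Subgroup.mem_sup_right ⟨h⁻¹, inv_mem hh, rfl⟩)
    have hUS : U ≤ S := (Subgroup.closure_le _).2 (by
      rintro _ ⟨j, hj, rfl⟩
      refine ⟨hVn j w hw, fun h hh => ?_⟩
      rw [show h * (j * w * j⁻¹) * h⁻¹ * (j * w * j⁻¹)⁻¹ =
        j * ((j⁻¹ * h * j) * w * (j⁻¹ * h * j)⁻¹ * w⁻¹) * j⁻¹ by group]
      have hjK : j ∈ K := Subgroup.mem_sup_left hj
      exact mul_mem (mul_mem hjK (hwS _ (mul_mem (mul_mem (inv_mem hj) hh) hj))) (inv_mem hjK))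
    have hUinv : ∀ h ∈ H, ∀ u ∈ U, h * u * h⁻¹ ∈ U := fun h hh u hu => by
      have : U ≤ U.comap (MulAut.conj h).toMonoidHom := (Subgroup.closure_le _).2 (by
        rintro _ ⟨j, hj, rfl⟩
        exact Subgroup.subset_closure ⟨h * j, mul_mem hh hj, by simp [mul_assoc]⟩)
      exact this hu
    have hUn : H ≤ Subgroup.normalizer (U : Set G) := fun h hh => Subgroup.mem_normalizer_iff.2 fun u =>
      ⟨hUinv h hh u, fun hu => by simpa [mul_assoc] using hUinv h⁻¹ (inv_mem hh) _ hu⟩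
    have hdec := hU U hUV fun h hh => Subgroup.mem_normalizer_iff_map_conj_eq.1 (hUn hh)
    have hHUV : ⁅H, U⁆ ≤ V := Subgroup.commutator_le.2 fun h hh u hu => by
      rw [commutatorElement_def]; exact mul_mem (hVn h u (hUV hu)) (inv_mem (hUV hu))
    obtain ⟨n, hn, c, hc, hnc⟩ := Cfsg.Agent.Lib.Coprime.exists_mul_of_mem_sup
      (A := U ⊓ Subgroup.normalizer (H : Set G)) (K := ⁅H, U⁆) (fun a ha => Subgroup.mem_normalizer_iff.2
        fun z => by
          have key : ∀ a ∈ V, ∀ z ∈ ⁅H, U⁆, a * z * a⁻¹ ∈ ⁅H, U⁆ := fun a ha z hz => by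
            rw [hVc a ha z (hHUV hz), mul_inv_cancel_right]; exact hz
          exact ⟨key a (hUV ha.1) z, fun hz => by
            simpa [mul_assoc] using key a⁻¹ (inv_mem (hUV ha.1)) _ hz⟩)
      (hdec.le hwU)
    refine ⟨c, ?_, ?_⟩
    · exact (Subgroup.commutator_le.2 fun h hh u hu => by
        rw [commutatorElement_def]; exact (hUS hu).2 h hh) hc
    · rw [show w = c * n by rw [hnc]; exact hVc n (hUV hn.1) c (hHUV hc), hmul,
        hfix n hn.2]

end Cfsg.Agent.S4269
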