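import Cfsg.Statements.S4274
import Cfsg.Agent.Lib.Classif.Order175560

set_option autoImplicit false
open Cfsg

namespace Cfsg.Agent.S4274

universe u

/-- The property proved by induction: a normal subgroup of order `19`. -/
def HasN19 (H : Type u) [Group H] : Prop := ∃ M : Subgroup H, M.Normal ∧ Nat.card M = 19

theorem sylow_card {H : Type u} [Group H] [Finite H] (hd : Nat.card H ∣ 175560)
    (h19 : 19 ∣ Nat.card H) [Fact (Nat.Prime 19)] (P : Sylow 19 H) :
    Nat.card (P : Subgroup H) = 19 := by
  obtain ⟨k, hk⟩ := IsPGroup.iff_card.1 P.2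
  have hdk : 19 ^ k ∣ 175560 := hk ▸ (Subgroup.card_subgroup_dvd_card _).trans hd
  have hk2 : k < 2 := by
    by_contra hlt
    have := (pow_dvd_pow 19 (show 2 ≤ k by omega)).trans hdk
    norm_num at this
  interval_cases k
  · exfalso
    have hm := Subgroup.card_mul_index (P : Subgroup H)
    rw [hk, pow_zero, one_mul] at hm
    exact P.not_dvd_index (hm ▸ h19)
  · rw [hk, pow_one]

theorem all_sylow {H : Type u} [Group H] [Finite H] (hd : Nat.card H ∣ 175560)
    (h : HasN19 H) [Fact (Nat.Prime 19)] (P : Sylow 19 H) : (P : Subgroup H).Normal := by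
  obtain ⟨M, hMn, hM⟩ := h
  have hMp : IsPGroup 19 M := IsPGroup.of_card (n := 1) (by rw [hM, pow_one])
  have hle : M ≤ (P : Subgroup H) := by
    rw [← P.3 (IsPGroup.to_sup_of_normal_left hMp P.2) le_sup_right]
    exact le_sup_left
  have : M = (P : Subgroup H) := Subgroup.eq_of_le_of_card_ge hle (by
    rw [sylow_card hd (hM ▸ Subgroup.card_subgroup_dvd_card M) P, hM])
  exact this ▸ hMn

theorem step {H : Type u} [Group H] [Finite H] (hd : Nat.card H ∣ 175560)
    (h19 : 19 ∣ Nat.card H) (N : Subgroup H) [N.Normal] (hN1 : N ≠ ⊥) (hN2 : N ≠ ⊤)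
    (IH : ∀ (K : Type u) [Group K] [Finite K], Nat.card K < Nat.card H →
      Nat.card K ∣ Nat.card H → 19 ∣ Nat.card K → HasN19 K) : HasN19 H := by
  classical
  haveI : Fact (Nat.Prime 19) := ⟨by norm_num⟩
  have sub : ∀ L : Subgroup H, L.Normal → L ≠ ⊤ → 19 ∣ Nat.card L → HasN19 H := by
    intro L hLn hL hL19
    have hlt : Nat.card L < Nat.card H := lt_of_le_of_ne (Subgroup.card_le_card_group L)
      fun he => hL (Subgroup.eq_top_of_card_eq L he)
    have hLd := (Subgroup.card_subgroup_dvd_card L).trans hd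
    obtain ⟨M, hMn, hM⟩ := IH L hlt (Subgroup.card_subgroup_dvd_card L) hL19
    let P : Sylow 19 L := default
    have hPn := all_sylow hLd ⟨M, hMn, hM⟩ P
    haveI : (P : Subgroup L).Characteristic := P.characteristic_of_normal hPn
    exact ⟨(P : Subgroup L).map L.subtype, inferInstance, by
      rw [Nat.card_congr ((P : Subgroup L).equivMapOfInjective _
        (Subgroup.subtype_injective L)).toEquiv.symm, sylow_card hLd hL19 P]⟩
  by_cases hN19 : 19 ∣ Nat.card N
  · exact sub N inferInstance hN2 hN19
  have hmul := Subgroup.card_mul_index N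
  have hQc : Nat.card (H ⧸ N) = N.index := rfl
  have hQ19 : 19 ∣ Nat.card (H ⧸ N) := by
    rw [hQc]
    rw [← hmul] at h19
    exact ((by norm_num : Nat.Prime 19).dvd_mul.mp h19).resolve_left hN19
  have hQd : Nat.card (H ⧸ N) ∣ Nat.card H := hQc ▸ ⟨Nat.card N, by rw [mul_comm, hmul]⟩
  have hQlt : Nat.card (H ⧸ N) < Nat.card H := by
    have h1 : 1 < Nat.card N := (Subgroup.one_lt_card_iff_ne_bot N).mpr hN1
    have h2 : 0 < N.index := Nat.pos_of_ne_zero Subgroup.index_ne_zero_of_finite
    rw [hQc, ← hmul]
    exact lt_mul_of_one_lt_left h2 h1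
  obtain ⟨Mq, hMqn, hMq⟩ := IH (H ⧸ N) hQlt hQd hQ19
  haveI := hMqn
  set M := Mq.comap (QuotientGroup.mk' N) with hMdef
  have hidx : M.index = Mq.index :=
    Subgroup.index_comap_of_surjective _ (QuotientGroup.mk'_surjective N)
  have hM : Nat.card M = 19 * Nat.card N := by
    have h1 := Subgroup.card_mul_index M
    have h2 := Subgroup.card_mul_index Mq
    rw [hMq, hQc] at h2
    rw [hidx, ← hmul, ← h2] at h1
    have hpos : 0 < Mq.index := Nat.pos_of_ne_zero Subgroup.index_ne_zero_of_finite
    exact Nat.eq_of_mul_eq_mul_right hpos (by rw [h1]; ring)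
  by_cases hMtop : M = ⊤
  swap
  · exact sub M inferInstance hMtop (hM ▸ dvd_mul_right 19 _)
  rw [hMtop, Subgroup.card_top] at hM
  -- every prime power divisor centralises a fixed subgroup of order `19`
  let P : Sylow 19 H := default
  have hP := sylow_card hd h19 P
  set C := Subgroup.centralizer ((P : Subgroup H) : Set H) with hC
  have hdvd : Nat.card H ∣ Nat.card C := by
    rw [Nat.dvd_iff_prime_pow_dvd_dvd]
    intro q k hq hqk
    rcases Nat.eq_zero_or_pos k with rfl | hk
    · simp
    haveI := Fact.mk hq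
    by_cases hq19 : q = 19
    · subst hq19
      have hk1 : k < 2 := by
        by_contra hlt
        have := ((pow_dvd_pow 19 (show 2 ≤ k by omega)).trans hqk).trans hd
        norm_num at this
      interval_cases k
      rw [pow_one, ← hP]
      refine Subgroup.card_dvd_of_le ?_
      haveI := isCyclic_of_prime_card (α := ↥(P : Subgroup H)) (p := 19) hP
      letI := IsCyclic.commGroup (α := ↥(P : Subgroup H))
      intro x hx
      rw [hC, Subgroup.mem_centralizer_iff]
      intro y hy
      exact congrArg Subtype.val (mul_comm (⟨y, hy⟩ : ↥(P : Subgroup H)) ⟨x, hx⟩)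
    have hqN : q ^ k ∣ Nat.card N := by
      refine (Nat.Coprime.dvd_mul_left (Nat.Coprime.pow_left k
        ((Nat.coprime_primes hq (by norm_num)).mpr hq19))).mp ?_
      rw [← hM]; exact hqk
    let S : Sylow q N := default
    obtain ⟨v, hv⟩ := IsPGroup.iff_card.1 S.2
    have hkv : q ^ k ∣ q ^ v := by
      rw [← hv]
      refine (Nat.Coprime.dvd_mul_right (Nat.Coprime.pow_left k ?_)).mp
        (((Subgroup.card_mul_index (S : Subgroup N))).symm ▸ hqN)
      exact (Nat.Prime.coprime_iff_not_dvd hq).mpr S.not_dvd_index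
    -- the image of `S` in `H`
    set S' := (S : Subgroup N).map N.subtype with hS'
    have hS'c : Nat.card S' = q ^ v := by
      rw [hS', Nat.card_congr ((S : Subgroup N).equivMapOfInjective _
        (Subgroup.subtype_injective N)).toEquiv.symm, hv]
    have hsmall : q ^ v < 19 := by
      have hd' : q ^ v ∣ 9240 := by
        have h1 : q ^ v ∣ Nat.card N := hv ▸ Subgroup.card_subgroup_dvd_card _
        rw [hM, show (175560 : ℕ) = 19 * 9240 by norm_num] at hd
        exact h1.trans (Nat.dvd_of_mul_dvd_mul_left (by norm_num) hd)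
      have hv0 : v ≠ 0 := by
        rintro rfl
        rw [pow_zero, Nat.dvd_one] at hkv
        exact absurd hkv (Nat.one_lt_pow hk.ne' hq.one_lt).ne'
      have hq5 : q = 2 ∨ q = 3 ∨ q = 5 ∨ q = 7 ∨ q = 11 := by
        have h' : q ∣ 9240 := (dvd_pow_self q hv0).trans hd'
        rw [show (9240 : ℕ) = 2 * (2 * (2 * (3 * (5 * (7 * 11))))) by norm_num] at h'
        simp only [hq.dvd_mul, Nat.prime_dvd_prime_iff_eq hq Nat.prime_two,
          Nat.prime_dvd_prime_iff_eq hq Nat.prime_three,
          Nat.prime_dvd_prime_iff_eq hq (by norm_num : Nat.Prime 5),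
          Nat.prime_dvd_prime_iff_eq hq (by norm_num : Nat.Prime 7),
          Nat.prime_dvd_prime_iff_eq hq (by norm_num : Nat.Prime 11)] at h'
        tauto
      have hv4 : v < 4 := by
        by_contra hlt
        have h4 := (pow_dvd_pow q (show 4 ≤ v by omega)).trans hd'
        rcases hq5 with rfl | rfl | rfl | rfl | rfl <;> norm_num at h4
      rcases hq5 with rfl | rfl | rfl | rfl | rfl <;> interval_cases v <;>
        first
          | (norm_num; done)
          | (norm_num at hd'; done)
    -- the Frattini argument supplies an element of order `19` normalising it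
    have hF := Sylow.normalizer_sup_eq_top S
    have h19N : 19 ∣ Nat.card (Subgroup.normalizer ((S' : Subgroup H) : Set H)) := by
      set K := Subgroup.normalizer ((S' : Subgroup H) : Set H) with hK
      have h2 : N.relIndex (K ⊔ N) = N.relIndex K := Subgroup.relIndex_sup_right K N
      rw [show K ⊔ N = ⊤ from hF, Subgroup.relIndex_top_right] at h2
      exact hQ19.trans (hQc ▸ h2 ▸ Subgroup.relIndex_dvd_card N K)
    obtain ⟨⟨x, hxK⟩, hx⟩ := exists_prime_orderOf_dvd_card'
      (G := Subgroup.normalizer ((S' : Subgroup H) : Set H)) 19 h19N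
    rw [Subgroup.orderOf_mk] at hx
    -- it centralises it
    let conj : Subgroup.normalizer ((S' : Subgroup H) : Set H) →* Equiv.Perm ↥S' :=
      { toFun := fun g =>
          { toFun := fun s => ⟨(g : H) * s * (g : H)⁻¹,
              (Subgroup.mem_normalizer_iff.mp g.2 _).mp s.2⟩
            invFun := fun s => ⟨(g : H)⁻¹ * s * (g : H),
              (Subgroup.mem_normalizer_iff.mp g.2 _).mpr (by
                simp only [← mul_assoc, mul_inv_cancel, one_mul, mul_inv_cancel_right]
                exact s.2)⟩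
            left_inv := fun s => by ext; simp only; group
            right_inv := fun s => by ext; simp only; group }
        map_one' := by ext s; simp
        map_mul' := fun a b => by
          ext s
          simp only [Subgroup.coe_mul, Equiv.Perm.coe_mul, Function.comp_apply, Equiv.coe_fn_mk,
            mul_inv_rev]
          group }
    have hconj : conj ⟨x, hxK⟩ = 1 := by
      rw [← orderOf_eq_one_iff]
      refine Nat.eq_one_of_dvd_coprimes (a := 19) (b := (q ^ v).factorial) ?_ ?_ ?_
      · refine (Nat.Prime.coprime_iff_not_dvd (by norm_num)).mpr ?_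
        rw [Nat.Prime.dvd_factorial (by norm_num)]
        omega
      · exact (orderOf_map_dvd conj _).trans (by rw [Subgroup.orderOf_mk, hx])
      · rw [← hS'c, ← Nat.card_perm]
        exact orderOf_dvd_natCard _
    have hcom : ∀ s ∈ S', s * x = x * s := by
      intro s hs
      have h1 : x * s * x⁻¹ = s := congrArg Subtype.val (Equiv.ext_iff.mp hconj ⟨s, hs⟩)
      rw [mul_inv_eq_iff_eq_mul] at h1
      exact h1.symm
    let R : Sylow 19 H := (IsPGroup.of_card (n := 1)
      (show Nat.card (Subgroup.zpowers x) = 19 ^ 1 by rw [Nat.card_zpowers, hx, pow_one])).exists_le_sylow.choose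
    have hxR : x ∈ (R : Subgroup H) := (IsPGroup.of_card (n := 1)
      (show Nat.card (Subgroup.zpowers x) = 19 ^ 1 by rw [Nat.card_zpowers, hx, pow_one])).exists_le_sylow.choose_spec
        (Subgroup.mem_zpowers x)
    have hReq : Subgroup.zpowers x = (R : Subgroup H) := Subgroup.eq_of_le_of_card_ge
      (Subgroup.zpowers_le.mpr hxR) (by rw [Nat.card_zpowers, hx, sylow_card hd h19 R])
    obtain ⟨g, hg⟩ := MulAction.exists_smul_eq H R P
    have hmap : S'.map (MulAut.conj g).toMonoidHom ≤ C := by
      rintro _ ⟨s, hs, rfl⟩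
      rw [hC, Subgroup.mem_centralizer_iff]
      intro y hy
      have hy' : y ∈ ((g • R : Sylow 19 H) : Subgroup H) := by rw [hg]; exact hy
      rw [Sylow.coe_subgroup_smul, Subgroup.mem_pointwise_smul_iff_inv_smul_mem, ← hReq] at hy'
      obtain ⟨j, hj⟩ := Subgroup.mem_zpowers_iff.mp hy'
      have hc' : Commute s (x ^ j) := Commute.zpow_right (hcom s hs) j
      have hyj : y = g * x ^ j * g⁻¹ := by
        rw [hj]
        simp [MulAut.smul_def, mul_assoc]
      show y * (g * s * g⁻¹) = g * s * g⁻¹ * y
      rw [hyj]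
      calc g * x ^ j * g⁻¹ * (g * s * g⁻¹) = g * (x ^ j * s) * g⁻¹ := by group
        _ = g * (s * x ^ j) * g⁻¹ := by rw [hc'.eq]
        _ = g * s * g⁻¹ * (g * x ^ j * g⁻¹) := by group
    refine hkv.trans ?_
    rw [← hS'c, ← Subgroup.card_map_of_injective (f := (MulAut.conj g).toMonoidHom)
      (MulAut.conj g).injective]
    exact Subgroup.card_dvd_of_le hmap
  have hCtop : C = ⊤ := Subgroup.eq_top_of_card_eq C
    (Nat.dvd_antisymm (Subgroup.card_subgroup_dvd_card C) hdvd)
  refine ⟨P, ?_, hP⟩
  constructor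
  intro y hy g
  have hgC : g ∈ C := by rw [hCtop]; exact Subgroup.mem_top g
  rw [← Subgroup.mem_centralizer_iff.mp hgC y hy, mul_inv_cancel_right]
  exact hy

theorem proper (n : ℕ) : ∀ (H : Type u) [Group H] [Finite H], Nat.card H = n → n ∣ 175560 →
    19 ∣ n → n < 175560 → HasN19 H := by
  induction n using Nat.strong_induction_on with
  | _ n ih =>
    intro H _ _ hn hd h19 hlt
    subst hn
    haveI : Nontrivial H := Finite.one_lt_card_iff_nontrivial.mp
      (by have := Nat.le_of_dvd Nat.card_pos h19; omega)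
    by_cases hs : IsSimpleGroup H
    · haveI := hs
      haveI := Lib.Classif.Order175560.card_eq_nineteen hd h19 (by omega)
      haveI : Fact (Nat.Prime 19) := ⟨by norm_num⟩
      let P : Sylow 19 H := default
      refine ⟨P, ?_, sylow_card hd h19 P⟩
      constructor
      intro y hy g
      rw [IsMulCommutative.is_comm.comm g y, mul_inv_cancel_right]
      exact hy
    · obtain ⟨N, hNn, h1, h2⟩ : ∃ N : Subgroup H, N.Normal ∧ N ≠ ⊥ ∧ N ≠ ⊤ := by
        by_contra hne
        exact hs ⟨fun N hN => by
          by_contra hh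
          push_neg at hh
          exact hne ⟨N, hN, hh.1, hh.2⟩⟩
      haveI := hNn
      exact step hd h19 N h1 h2 fun K _ _ hK hKd hK19 =>
        ih _ hK K rfl (hKd.trans hd) hK19 (by omega)

/-- A finite group of order 175560 = 2³·3·5·7·11·19 is either simple or has a normal Sylow 19-subgroup. -/
theorem result {G : Type*} [Group G] [Finite G] (hG : Nat.card G = 175560) : IsSimpleGroup G ∨ ∀ P : Sylow 19 G, (P : Subgroup G).Normal := by
  by_cases hs : IsSimpleGroup G
  · exact Or.inl hs
  · right
    intro P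
    haveI : Fact (Nat.Prime 19) := ⟨by norm_num⟩
    haveI : Nontrivial G := Finite.one_lt_card_iff_nontrivial.mp (by omega)
    refine all_sylow (dvd_of_eq hG) ?_ P
    obtain ⟨N, hNn, h1, h2⟩ : ∃ N : Subgroup G, N.Normal ∧ N ≠ ⊥ ∧ N ≠ ⊤ := by
      by_contra hne
      exact hs ⟨fun N hN => by
        by_contra hh
        push_neg at hh
        exact hne ⟨N, hN, hh.1, hh.2⟩⟩
    haveI := hNn
    exact step (dvd_of_eq hG) (by rw [hG]; norm_num) N h1 h2 fun K _ _ hK hKd hK19 =>
      proper _ K rfl (hKd.trans (dvd_of_eq hG)) hK19 (by omega)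

end Cfsg.Agent.S4274
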