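import Cfsg.Statements.S4275

set_option autoImplicit false
open Cfsg

namespace Cfsg.Agent.S4275

/-- Let G be a transitive group of permutations of a finite set Ω, let o ∈ Ω, and let α be an automorphism of G. Then α is induced by conjugation by a permutation of Ω normalizing G if and only if the image under α of the stabilizer of o fixes some point of Ω. -/
theorem result {Ω : Type*} [Fintype Ω] (G : Subgroup (Equiv.Perm Ω)) (htr : MulAction.IsPretransitive G Ω) (o : Ω) (α : G ≃* G) : (∃ σ : Equiv.Perm Ω, σ ∈ Subgroup.normalizer (G : Set (Equiv.Perm Ω)) ∧ ∀ g : G, ((α g : G) : Equiv.Perm Ω) = σ * (g : Equiv.Perm Ω) * σ⁻¹) ↔ ∃ ω : Ω, ∀ g ∈ (MulAction.stabilizer G o).map α.toMonoidHom, g • ω = ω := by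
  constructor
  · rintro ⟨σ, -, hσ⟩
    refine ⟨σ o, fun g hg => ?_⟩
    obtain ⟨h, hh, rfl⟩ := hg
    change ((α h : G) : Equiv.Perm Ω) (σ o) = σ o
    rw [hσ h]
    simp only [Equiv.Perm.mul_apply, show σ⁻¹ (σ o) = o from σ.symm_apply_apply o]
    exact congrArg σ (MulAction.mem_stabilizer_iff.mp hh)
  · rintro ⟨ω, hω⟩
    have hstab : (MulAction.stabilizer G o).map α.toMonoidHom = MulAction.stabilizer G ω := by
      refine Subgroup.eq_of_le_of_card_ge (fun g hg => hω g hg) ?_
      obtain ⟨g, hg⟩ := MulAction.exists_smul_eq G o ω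
      rw [Subgroup.card_map_of_injective α.injective,
        Nat.card_congr (MulAction.stabilizerEquivStabilizer (g := g) hg.symm).toEquiv]
    choose r hr using fun x : Ω => MulAction.exists_smul_eq G o x
    have key : ∀ a b : G, α a • ω = α b • ω ↔ a • o = b • o := by
      have h1 : ∀ g : G, α g • ω = ω ↔ g • o = o := by
        intro g
        rw [← MulAction.mem_stabilizer_iff, ← hstab, ← MulAction.mem_stabilizer_iff]
        exact Subgroup.mem_map_iff_mem α.injective
      intro a b
      have h2 := h1 (b⁻¹ * a)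
      rw [map_mul, map_inv, mul_smul, mul_smul, inv_smul_eq_iff, inv_smul_eq_iff] at h2
      exact h2
    let f : Ω → Ω := fun x => α (r x) • ω
    have hf : Function.Injective f := fun x y h => by
      have := (key _ _).mp h
      rwa [hr, hr] at this
    let σ : Equiv.Perm Ω := Equiv.ofBijective f (Finite.injective_iff_bijective.mp hf)
    have hσ : ∀ g : G, ((α g : G) : Equiv.Perm Ω) = σ * (g : Equiv.Perm Ω) * σ⁻¹ := by
      intro g
      rw [eq_mul_inv_iff_mul_eq]
      refine Equiv.ext fun x => ?_
      change α g • (α (r x) • ω) = α (r (g • x)) • ω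
      rw [← mul_smul, ← map_mul, key, mul_smul, hr, hr]
    refine ⟨σ, ?_, hσ⟩
    refine Subgroup.mem_normalizer_fintype (S := (G : Set (Equiv.Perm Ω))) (fun g hg => ?_)
    rw [← hσ ⟨g, hg⟩]
    exact SetLike.coe_mem _

end Cfsg.Agent.S4275
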