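import Cfsg.Statements.S4276
import Cfsg.Agent.S4275

set_option autoImplicit false
open Cfsg

namespace Cfsg.Agent.S4276

section

open Matrix

variable {Ω : Type*} [Fintype Ω]

/-- The all-ones matrix. -/
def allOnes (Ω : Type*) : Matrix Ω Ω ℤ := fun _ _ => 1

theorem eq_smul_add (A : Matrix Ω Ω ℤ) [DecidableEq Ω] {a b : ℤ}
    (hd : ∀ x, A x x = a + b) (ho : ∀ x y, x ≠ y → A x y = b) :
    A = a • (1 : Matrix Ω Ω ℤ) + b • allOnes Ω := by
  ext x y
  simp only [Matrix.add_apply, Matrix.smul_apply, allOnes, smul_eq_mul, mul_one]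
  by_cases h : x = y
  · subst h; simp [hd]
  · simp [h, ho x y h]

theorem mul_allOnes (A : Matrix Ω Ω ℤ) {k : ℤ} (h : ∀ x, ∑ y, A x y = k) :
    A * allOnes Ω = k • allOnes Ω := by
  ext x y
  simp [Matrix.mul_apply, allOnes, h x]

theorem allOnes_mul (A : Matrix Ω Ω ℤ) {k : ℤ} (h : ∀ y, ∑ x, A x y = k) :
    allOnes Ω * A = k • allOnes Ω := by
  ext x y
  simp [Matrix.mul_apply, allOnes, h y]

theorem allOnes_sq : allOnes Ω * allOnes Ω = (Fintype.card Ω : ℤ) • allOnes Ω :=
  mul_allOnes _ (fun x => by simp [allOnes])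

/-- The arithmetic heart: an odd closed cycle of symmetric designs with `k` prime to `v`. -/
theorem arith {n k q a b : ℤ} {j : ℕ} (hn : 2 ≤ n) (hk1 : 1 ≤ k) (hkn : k < n)
    (hcop : IsCoprime k n) (hq : (k - q) + q * n = k ^ 2)
    (ha : a ^ 2 = (k - q) ^ (2 * j + 1)) (hab : k ^ (2 * j + 1) = a + b * n) :
    k = 1 ∨ k = n - 1 := by
  have hp : (k - q) * (n - 1) = k * (n - k) := by linear_combination (-1 : ℤ) * hq
  have hppos : 0 < k - q := by
    by_contra hle
    have h1 : k * (n - k) ≤ 0 := by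
      rw [← hp]; exact mul_nonpos_of_nonpos_of_nonneg (by omega) (by omega)
    have h2 : 0 < k * (n - k) := mul_pos (by omega) (by omega)
    omega
  have hpk : k - q ≤ k := by
    by_contra hlt
    have h1 : k * (n - 1) < (k - q) * (n - 1) :=
      mul_lt_mul_of_pos_right (by omega) (by omega)
    rw [hp] at h1
    nlinarith
  obtain ⟨s, hs⟩ : (k - q) ^ j ∣ a := by
    rw [← Int.pow_dvd_pow_iff (n := 2) two_ne_zero, ← pow_mul, ha]
    exact pow_dvd_pow _ (by omega)
  have hs2 : s ^ 2 = k - q := by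
    have h1 : ((k - q) ^ j) ^ 2 * s ^ 2 = ((k - q) ^ j) ^ 2 * (k - q) := by
      calc ((k - q) ^ j) ^ 2 * s ^ 2 = a ^ 2 := by rw [hs]; ring
        _ = _ := by rw [ha]; ring
    exact mul_left_cancel₀ (pow_ne_zero _ (pow_ne_zero _ hppos.ne')) h1
  have has : a = s ^ (2 * j + 1) := by rw [hs, ← hs2, ← pow_mul]; ring
  -- work modulo `n`
  have h1 : k ^ 2 ≡ s ^ 2 [ZMOD n] := by
    rw [Int.modEq_iff_dvd]
    exact ⟨-q, by linear_combination hs2 + hq⟩
  have h2 : k ^ (2 * j + 1) ≡ s ^ (2 * j + 1) [ZMOD n] := by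
    rw [Int.modEq_iff_dvd]
    exact ⟨-b, by rw [← has, hab]; ring⟩
  have h3 : k ^ (2 * j) * k ≡ k ^ (2 * j) * s [ZMOD n] := by
    rw [← pow_succ]
    refine h2.trans ?_
    rw [pow_succ, pow_mul, pow_mul]
    exact ((h1.pow j).symm).mul_right s
  have h4 : n ∣ k - s := by
    have h5 : n ∣ k ^ (2 * j) * (k - s) := by
      rw [mul_sub]
      exact Int.modEq_iff_dvd.mp h3.symm
    exact (hcop.symm.pow_right).dvd_of_dvd_mul_left h5
  obtain ⟨c, hc⟩ := h4
  rcases le_or_gt 0 s with hs0 | hs0
  · have hsk : s ≤ k := by nlinarith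
    have hc0 : c = 0 := by
      have l1 : 0 ≤ n * c := by omega
      have l2 : n * c < n * 1 := by omega
      have a1 : c < 1 := lt_of_mul_lt_mul_left l2 (by omega)
      have a2 : 0 ≤ c := nonneg_of_mul_nonneg_right l1 (by omega)
      omega
    have hsk' : s = k := by rw [hc0] at hc; omega
    left
    have h6 : k ^ 2 * (n - 1) = k * (n - k) := by rw [← hp, ← hs2, hsk']
    have h7 : k * (k - 1) * n = 0 := by linear_combination h6
    rcases mul_eq_zero.mp h7 with h | h
    · rcases mul_eq_zero.mp h with h | h <;> omega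
    · omega
  · have hsk : -s ≤ k := by nlinarith
    have hc1 : c = 1 := by
      have l1 : 0 < n * c := by omega
      have l2 : n * c < n * 2 := by omega
      have a1 : c < 2 := lt_of_mul_lt_mul_left l2 (by omega)
      have a2 : 0 < c := pos_of_mul_pos_right l1 (by omega)
      omega
    have hsk' : s = k - n := by rw [hc1] at hc; omega
    right
    have h6 : (k - n) ^ 2 * (n - 1) = k * (n - k) := by rw [← hp, ← hs2, hsk']
    have h7 : (n - k) * ((n - k) * (n - 1) - k) = 0 := by linear_combination h6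
    rcases mul_eq_zero.mp h7 with h | h
    · omega
    · by_contra hne
      have h8 : 2 * (n - 1) ≤ (n - k) * (n - 1) :=
        mul_le_mul_of_nonneg_right (by omega) (by omega)
      omega

/-- The suborbit of `α (stabilizer o)` has length `1` or `card Ω - 1`. -/
theorem orbit_card {G : Type*} [Group G] [MulAction G Ω]
    (htr : ∀ x y : Ω, ∃ g : G, g • x = y)
    (h2 : ∀ {a b c d : Ω}, a ≠ b → c ≠ d → ∃ g : G, g • a = c ∧ g • b = d)
    (o : Ω) (α : MulAut G) (hα : Odd (orderOf α)) (O : Finset Ω) (hne : O.Nonempty)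
    (hinv : ∀ h : G, h • o = o → ∀ y ∈ O, α h • y ∈ O) (hn : 2 ≤ Fintype.card Ω)
    (hcop : O.card.Coprime (Fintype.card Ω)) : O.card = 1 ∨ O.card = Fintype.card Ω - 1 := by
  classical
  obtain ⟨j, hj⟩ := hα
  choose r hr using fun x : Ω => htr o x
  let R : Matrix Ω Ω ℤ := fun x y => if (α (r x))⁻¹ • y ∈ O then 1 else 0
  have hR : ∀ g x y, R (g • x) (α g • y) = R x y := by
    intro g x y
    have hstab : ((r (g • x))⁻¹ * g * r x) • o = o := by
      rw [mul_smul, mul_smul, hr, inv_smul_eq_iff, hr]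
    have e : (α (r (g • x)))⁻¹ • α g • y =
        α ((r (g • x))⁻¹ * g * r x) • (α (r x))⁻¹ • y := by
      rw [map_mul, map_mul, map_inv, mul_smul, mul_smul, smul_inv_smul]
    simp only [R]
    refine if_congr ⟨fun h => ?_, fun h => ?_⟩ rfl rfl
    · rw [e] at h
      have h' := hinv ((r (g • x))⁻¹ * g * r x)⁻¹ (by rw [inv_smul_eq_iff, hstab]) _ h
      rwa [map_inv, inv_smul_smul] at h'
    · rw [e]
      exact hinv _ hstab _ h
  have hpow : ∀ (i : ℕ) g x y, (R ^ i) (g • x) ((α ^ i) g • y) = (R ^ i) x y := by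
    intro i
    induction i with
    | zero => intro g x y; simp [Matrix.one_apply]
    | succ i ih =>
      intro g x y
      rw [pow_succ, Matrix.mul_apply, Matrix.mul_apply]
      refine (Fintype.sum_equiv (MulAction.toPerm ((α ^ i) g)) _ _ (fun z => ?_)).symm
      rw [MulAction.toPerm_apply, ih, show (α ^ (i + 1)) g = α ((α ^ i) g) by rw [pow_succ']; rfl,
        hR]
  have hrow : ∀ x, ∑ y, R x y = (O.card : ℤ) := by
    intro x
    refine (Fintype.sum_equiv (MulAction.toPerm (α (r x))) (fun z => if z ∈ O then (1 : ℤ) else 0) _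
      (fun z => by simp [R])).symm.trans ?_
    simp
  have hcol : ∀ y, ∑ x, R x y = (O.card : ℤ) := by
    intro y
    have hconst : ∀ y', ∑ x, R x y' = ∑ x, R x y := by
      intro y'
      obtain ⟨g, rfl⟩ := htr y y'
      refine (Fintype.sum_equiv (MulAction.toPerm (α.symm g)) _ _ (fun x => ?_)).symm
      have := hR (α.symm g) x y
      rw [α.apply_symm_apply] at this
      exact this.symm
    have hsum : ∑ y', ∑ x, R x y' = ∑ x, ∑ y', R x y' := Finset.sum_comm
    rw [Finset.sum_congr rfl (fun y' _ => hconst y'), Finset.sum_congr rfl (fun x _ => hrow x),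
      Finset.sum_const, Finset.sum_const, nsmul_eq_mul, nsmul_eq_mul] at hsum
    exact mul_left_cancel₀ (by simp; omega) hsum
  obtain ⟨x0, y0, hxy0⟩ := Fintype.exists_pair_of_one_lt_card (α := Ω) (by omega)
  -- invariant matrices are combinations of `1` and the all-ones matrix
  have hinvM : ∀ M : Matrix Ω Ω ℤ, (∀ (g : G) x y, M (g • x) (g • y) = M x y) →
      M = (M x0 x0 - M x0 y0) • (1 : Matrix Ω Ω ℤ) + (M x0 y0) • allOnes Ω := by
    intro M hM
    refine eq_smul_add M (fun x => ?_) (fun x y hxy => ?_)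
    · obtain ⟨g, rfl⟩ := htr x0 x
      rw [hM, sub_add_cancel]
    · obtain ⟨g, rfl, rfl⟩ := h2 hxy0 hxy
      rw [hM]
  have hRT : ∀ (g : G) x y, (R * Rᵀ) (g • x) (g • y) = (R * Rᵀ) x y := by
    intro g x y
    simp only [Matrix.mul_apply, Matrix.transpose_apply]
    refine (Fintype.sum_equiv (MulAction.toPerm (α g)) _ _ (fun z => ?_)).symm
    rw [MulAction.toPerm_apply, hR, hR]
  have hA := hinvM _ hRT
  generalize hqdef : (R * Rᵀ) x0 y0 = q at hA
  have hdiag : (R * Rᵀ) x0 x0 = (O.card : ℤ) := by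
    rw [Matrix.mul_apply, ← hrow x0]
    refine Finset.sum_congr rfl (fun z _ => ?_)
    rw [Matrix.transpose_apply]
    simp only [R]
    split_ifs <;> simp
  rw [hdiag] at hA
  have hRJ : R * allOnes Ω = (O.card : ℤ) • allOnes Ω := mul_allOnes R hrow
  have hJR : allOnes Ω * Rᵀ = (O.card : ℤ) • allOnes Ω :=
    allOnes_mul _ (fun y => by simpa using hrow y)
  have hJR' : allOnes Ω * R = (O.card : ℤ) • allOnes Ω := allOnes_mul _ hcol
  have hq : ((O.card : ℤ) - q) + q * (Fintype.card Ω : ℤ) = (O.card : ℤ) ^ 2 := by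
    have hJT : Rᵀ * allOnes Ω = (O.card : ℤ) • allOnes Ω :=
      mul_allOnes _ (fun x => by simpa using hcol x)
    have h := congrArg (fun M => (M * allOnes Ω) x0 x0) hA
    simp only [Matrix.mul_assoc, hJT, Matrix.mul_smul, hRJ, Matrix.add_mul, Matrix.smul_mul,
      Matrix.one_mul, allOnes_sq, Matrix.smul_apply, Matrix.add_apply, allOnes, smul_eq_mul,
      mul_one] at h
    linear_combination -h
  have hpp : ∀ i : ℕ, ∃ c : ℤ, R ^ i * (R ^ i)ᵀ =
      ((O.card : ℤ) - q) ^ i • (1 : Matrix Ω Ω ℤ) + c • allOnes Ω := by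
    intro i
    induction i with
    | zero => exact ⟨0, by simp⟩
    | succ i ih =>
      obtain ⟨c, hc⟩ := ih
      refine ⟨((O.card : ℤ) - q) ^ i * q + c * (O.card : ℤ) ^ 2, ?_⟩
      calc R ^ (i + 1) * (R ^ (i + 1))ᵀ = R * (R ^ i * (R ^ i)ᵀ) * Rᵀ := by
            rw [pow_succ', Matrix.transpose_mul]; simp only [Matrix.mul_assoc]
        _ = ((O.card : ℤ) - q) ^ i • (R * Rᵀ) + c • (R * allOnes Ω * Rᵀ) := by
            rw [hc]
            simp only [Matrix.mul_add, Matrix.add_mul, Matrix.mul_smul, Matrix.smul_mul,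
              Matrix.mul_one]
        _ = _ := by
            rw [hA, hRJ, Matrix.smul_mul, hJR]
            ext x y
            simp only [Matrix.add_apply, Matrix.smul_apply, smul_eq_mul]
            ring
  have hm := hinvM (R ^ orderOf α) (fun g x y => by
    have := hpow (orderOf α) g x y
    rwa [pow_orderOf_eq_one] at this)
  generalize hadef : (R ^ orderOf α) x0 x0 - (R ^ orderOf α) x0 y0 = a at hm
  generalize hbdef : (R ^ orderOf α) x0 y0 = b at hm
  obtain ⟨c, hc⟩ := hpp (orderOf α)
  rw [hm] at hc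
  have hsq : (a • (1 : Matrix Ω Ω ℤ) + b • allOnes Ω) * (a • (1 : Matrix Ω Ω ℤ) + b • allOnes Ω)ᵀ
      = (a * a) • (1 : Matrix Ω Ω ℤ) + (2 * a * b + b * b * Fintype.card Ω) • allOnes Ω := by
    have hJT : (allOnes Ω)ᵀ = allOnes Ω := rfl
    simp only [Matrix.transpose_add, Matrix.transpose_smul, Matrix.transpose_one, hJT,
      Matrix.add_mul, Matrix.mul_add, Matrix.smul_mul, Matrix.mul_smul, Matrix.one_mul,
      Matrix.mul_one, allOnes_sq]
    ext x y
    simp only [Matrix.add_apply, Matrix.smul_apply, smul_eq_mul]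
    ring
  rw [hsq] at hc
  have e1 := congrArg (fun M => M x0 x0 - M x0 y0) hc
  simp only [Matrix.add_apply, Matrix.smul_apply, Matrix.one_apply_eq, Matrix.one_apply_ne hxy0,
    allOnes, smul_eq_mul] at e1
  have hpowJ : ∀ i : ℕ, R ^ i * allOnes Ω = (O.card : ℤ) ^ i • allOnes Ω := by
    intro i
    induction i with
    | zero => simp
    | succ i ih =>
      rw [pow_succ, Matrix.mul_assoc, hRJ, Matrix.mul_smul, ih, smul_smul, pow_succ']
  have e2 := congrArg (fun M => (M * allOnes Ω) x0 x0) hm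
  simp only [hpowJ, Matrix.add_mul, Matrix.smul_mul, Matrix.one_mul, allOnes_sq, Matrix.add_apply,
    Matrix.smul_apply, allOnes, smul_eq_mul] at e2
  have hlt : O.card < Fintype.card Ω := by
    rcases lt_or_eq_of_le (Finset.card_le_univ O) with h | h
    · exact h
    · rw [h, Nat.coprime_self] at hcop; omega
  have key := arith (n := (Fintype.card Ω : ℤ)) (k := (O.card : ℤ)) (q := q) (a := a) (b := b)
    (j := j) (by omega) (by exact_mod_cast hne.card_pos) (by exact_mod_cast hlt)
    (by exact_mod_cast (Nat.isCoprime_iff_coprime.mpr hcop)) hq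
    (by rw [← hj]; linear_combination e1) (by rw [← hj]; linear_combination e2)
  omega

end

/-- Let G be a doubly transitive group of permutations of a finite set Ω of size n, let o ∈ Ω, and let α be an automorphism of G of odd order. Suppose that the image under α of the stabilizer of o has an orbit on Ω whose length k is coprime to n. Then α is induced by conjugation by a permutation of Ω normalizing G, and k = 1 or k = n − 1. -/
theorem result {Ω : Type*} [Fintype Ω] (G : Subgroup (Equiv.Perm Ω)) (h2 : MulAction.IsMultiplyPretransitive G Ω 2) (o : Ω) (α : MulAut G) (hα : Odd (orderOf α)) (ω : Ω) (hk : (Nat.card (MulAction.orbit ((MulAction.stabilizer G o).map α.toMonoidHom) ω)).Coprime (Fintype.card Ω)) : (∃ σ : Equiv.Perm Ω, σ ∈ Subgroup.normalizer (G : Set (Equiv.Perm Ω)) ∧ ∀ g : G, ((α g : G) : Equiv.Perm Ω) = σ * (g : Equiv.Perm Ω) * σ⁻¹) ∧ (Nat.card (MulAction.orbit ((MulAction.stabilizer G o).map α.toMonoidHom) ω) = 1 ∨ Nat.card (MulAction.orbit ((MulAction.stabilizer G o).map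 α.toMonoidHom) ω) = Fintype.card Ω - 1) := by
  classical
  have htrans : MulAction.IsPretransitive G Ω :=
    MulAction.isPretransitive_of_is_two_pretransitive (h2 := h2)
  set O := MulAction.orbit ((MulAction.stabilizer G o).map α.toMonoidHom) ω with hO
  have hcard : Nat.card O = O.toFinset.card := Nat.card_eq_card_toFinset O
  have hk : Nat.card O = 1 ∨ Nat.card O = Fintype.card Ω - 1 := by
    rcases Nat.lt_or_ge (Fintype.card Ω) 2 with hn | hn
    · left
      have h1 : Nat.card O ≤ Fintype.card Ω := by rw [hcard]; exact Finset.card_le_univ _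
      have h2 : 0 < Nat.card O := by
        rw [hcard, Finset.card_pos]; exact ⟨ω, Set.mem_toFinset.mpr (MulAction.mem_orbit_self ω)⟩
      omega
    · rw [hcard]
      refine orbit_card (G := G) (fun x y => htrans.exists_smul_eq x y)
        (fun hab hcd => (MulAction.is_two_pretransitive_iff (G := G) (α := Ω)).mp h2 hab hcd) o α hα
        O.toFinset ⟨ω, Set.mem_toFinset.mpr (MulAction.mem_orbit_self ω)⟩ (fun h hh y hy => ?_) hn (by rwa [← hcard])
      rw [Set.mem_toFinset] at hy ⊢
      exact MulAction.mem_orbit_of_mem_orbit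
        (⟨α h, Subgroup.mem_map_of_mem α.toMonoidHom hh⟩ :
          (MulAction.stabilizer G o).map α.toMonoidHom) hy
  refine ⟨(S4275.result G htrans o α).mpr ?_, hk⟩
  rcases hk with h | h
  · refine ⟨ω, fun g hg => ?_⟩
    have hmem : (⟨g, hg⟩ : (MulAction.stabilizer G o).map α.toMonoidHom) • ω ∈ O :=
      MulAction.mem_orbit _ _
    have hsub : O.Subsingleton := by
      rw [Set.subsingleton_coe (s := O) |>.symm]
      exact (Nat.card_eq_one_iff_unique.mp h).1
    exact hsub hmem (MulAction.mem_orbit_self ω)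
  · rcases Nat.lt_or_ge (Fintype.card Ω) 2 with hn | hn
    · have : Subsingleton Ω := Fintype.card_le_one_iff_subsingleton.mp (by omega)
      exact ⟨ω, fun g _ => Subsingleton.elim _ _⟩
    · have hc : (O.toFinsetᶜ).card = 1 := by
        rw [Finset.card_compl, ← hcard, h]; omega
      obtain ⟨z, hz⟩ := Finset.card_eq_one.mp hc
      refine ⟨z, fun g hg => ?_⟩
      have hzO : z ∉ O := by
        have : z ∈ O.toFinsetᶜ := by rw [hz]; simp
        simpa using this
      have hgz : g • z ∉ O := fun hgz => hzO (by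
        have := MulAction.mem_orbit_of_mem_orbit
          (⟨g, hg⟩⁻¹ : (MulAction.stabilizer G o).map α.toMonoidHom) hgz
        change (g⁻¹ • g • z) ∈ O at this
        rwa [inv_smul_smul] at this)
      have : g • z ∈ O.toFinsetᶜ := by simpa using hgz
      rw [hz] at this
      simpa using this

end Cfsg.Agent.S4276
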