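import Cfsg.Statements.S4277
import Cfsg.Agent.S4290
import Cfsg.Agent.S0675

set_option autoImplicit false
open Cfsg
open scoped Pointwise

namespace Cfsg.Agent.S4277

/-- A case of the Schreier conjecture: if a finite simple group G has a subgroup of prime index, then the outer automorphism group of G is solvable. -/
theorem result {G : Type*} [Group G] [Finite G] [IsSimpleGroup G] (H : Subgroup G) (hH : H.index.Prime) : Group.IsSolvable (Cfsg.Out G) := by
  classical
  by_cases hcomm : IsMulCommutative G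
  · have hcyc : IsCyclic G := by
      letI : CommGroup G := { (inferInstance : Group G) with mul_comm := hcomm.is_comm.comm }
      infer_instance
    obtain ⟨x, hx⟩ := IsCyclic.exists_generator (α := G)
    have : Group.IsSolvable (MulAut G) := Group.isSolvable_of_comm fun f g => MulEquiv.ext fun y => by
      obtain ⟨i, hi⟩ := hx (f x)
      obtain ⟨j, hj⟩ := hx (g x)
      obtain ⟨k, rfl⟩ := hx y
      change f (g (x ^ k)) = g (f (x ^ k))
      have hi' : x ^ i = f x := hi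
      have hj' : x ^ j = g x := hj
      rw [map_zpow, map_zpow, ← hj', map_zpow f x k, map_zpow g, map_zpow f, ← hi', map_zpow g, ← hj']
      simp only [← zpow_mul]; congr 1; ring
    exact Group.isSolvable_of_surjective (f := QuotientGroup.mk' (Cfsg.Inn G))
      (QuotientGroup.mk'_surjective _)
  set p := H.index with hp
  have := Fact.mk hH
  have := Fintype.ofFinite (G ⧸ H)
  have hΩ : Fintype.card (G ⧸ H) = p := by rw [hp, Subgroup.index, Nat.card_eq_fintype_card]
  set φ := MulAction.toPermHom G (G ⧸ H) with hφ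
  have hinj : Function.Injective φ := by
    rw [← MonoidHom.ker_eq_bot_iff, ← Subgroup.normalCore_eq_ker]
    refine (IsSimpleGroup.eq_bot_or_eq_top_of_normal _ H.normalCore_normal).resolve_right fun h => ?_
    exact hH.ne_one (Subgroup.index_eq_one.mpr (top_unique (h ▸ H.normalCore_le)))
  set Gp := φ.range with hGp
  let e : G ≃* Gp := MonoidHom.ofInjective hinj
  have htr : MulAction.IsPretransitive Gp (G ⧸ H) := ⟨fun x y => by
    obtain ⟨g, hg⟩ := MulAction.exists_smul_eq G x y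
    exact ⟨e g, hg⟩⟩
  have hns : ¬ Group.IsSolvable Gp := fun h => hcomm ⟨⟨IsSimpleGroup.comm_iff_isSolvable.mpr
    (Group.isSolvable_of_isSolvable_injective (f := e.toMonoidHom) e.injective)⟩⟩
  have h2 : MulAction.IsMultiplyPretransitive Gp (G ⧸ H) 2 :=
    (S0675.result (hΩ.symm ▸ hH) Gp).resolve_left hns
  let o : G ⧸ H := ((1 : G) : G ⧸ H)
  have hidx : (MulAction.stabilizer Gp o).index = p := by
    rw [MulAction.index_stabilizer_of_transitive, Nat.card_eq_fintype_card, hΩ]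
  have hpp : ¬ p * p ∣ Nat.card Gp := by
    intro hd
    have h1 : Nat.card Gp ∣ Nat.card (Equiv.Perm (G ⧸ H)) := Subgroup.card_subgroup_dvd_card _
    rw [Nat.card_perm, Nat.card_eq_fintype_card (α := G ⧸ H), hΩ] at h1
    have h2 := hd.trans h1
    rw [← Nat.mul_factorial_pred hH.ne_zero] at h2
    have h3 := Nat.dvd_of_mul_dvd_mul_left hH.pos h2
    rw [hH.dvd_factorial] at h3
    have := hH.one_lt
    omega
  have hHall : (Nat.card (MulAction.stabilizer Gp o)).Coprime (MulAction.stabilizer Gp o).index := by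
    rw [hidx, Nat.coprime_comm, hH.coprime_iff_not_dvd]
    intro hd
    apply hpp
    rw [← Subgroup.index_mul_card (MulAction.stabilizer Gp o), hidx]
    exact Nat.mul_dvd_mul_left _ hd
  obtain ⟨lab, c, hcG, -, hcp, hce⟩ := Lib.Perm.PrimeDegree.exists_cycle_equiv (p := p) hΩ Gp o
  have hc1 : c ≠ 1 := by
    intro h
    have := hce 0
    rw [h, Equiv.Perm.one_apply, zero_add] at this
    exact zero_ne_one (lab.injective this)
  have hcord : orderOf c = p := orderOf_eq_prime hcp hc1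
  -- the centraliser of the cycle
  have hcen : ∀ σ : Equiv.Perm (G ⧸ H), σ * c = c * σ → σ ∈ Subgroup.zpowers c := by
    intro σ hσ
    obtain ⟨i, hi⟩ := lab.surjective (σ (lab 0))
    refine ⟨(i.val : ℤ), ?_⟩
    refine Equiv.ext fun x => ?_
    obtain ⟨j, rfl⟩ := lab.surjective x
    have h1 := Lib.Perm.PrimeDegree.cycle_pow_apply hce j.val 0
    rw [zero_add, ZMod.natCast_zmod_val] at h1
    have h2 : σ ((c ^ j.val) (lab 0)) = (c ^ j.val) (σ (lab 0)) :=
      congrArg (fun τ : Equiv.Perm (G ⧸ H) => τ (lab 0)) ((Commute.pow_right (show Commute σ c from hσ) _).eq)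
    rw [h1, ← hi, Lib.Perm.PrimeDegree.cycle_pow_apply hce, ZMod.natCast_zmod_val] at h2
    change (c ^ (i.val : ℤ)) (lab j) = σ (lab j)
    rw [h2, zpow_natCast, Lib.Perm.PrimeDegree.cycle_pow_apply hce, ZMod.natCast_zmod_val, add_comm]
  set N := Subgroup.normalizer (Gp : Set (Equiv.Perm (G ⧸ H))) with hN
  set M := Subgroup.normalizer (Subgroup.zpowers c : Set (Equiv.Perm (G ⧸ H))) ⊓ N with hM
  -- Frattini
  have hPc : IsPGroup p ((Subgroup.zpowers c).subgroupOf Gp) := by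
    refine (IsPGroup.of_card (n := 1) ?_).comap_of_injective Gp.subtype Subtype.val_injective
    rw [Nat.card_zpowers, hcord, pow_one]
  have hPidx : ¬ p ∣ ((Subgroup.zpowers c).subgroupOf Gp).index := by
    intro hd
    apply hpp
    rw [← Subgroup.index_mul_card ((Subgroup.zpowers c).subgroupOf Gp),
      Nat.card_congr (Subgroup.subgroupOfEquivOfLe (Subgroup.zpowers_le.mpr hcG)).toEquiv,
      Nat.card_zpowers, hcord]
    exact Nat.mul_dvd_mul_right hd _
  have hfrat : ∀ n ∈ N, ∃ g ∈ Gp, g * n ∈ M := by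
    intro n hn
    let P := hPc.toSylow hPidx
    let f : Gp ≃* Gp := Subgroup.normalizerMonoidHom Gp ⟨n, hn⟩
    obtain ⟨g, hg⟩ := MulAction.exists_smul_eq Gp (P.comapOfInjective f.toMonoidHom f.injective (by
      intro x _; exact ⟨f.symm x, f.apply_symm_apply x⟩)) P
    refine ⟨n * ((g : Equiv.Perm (G ⧸ H))⁻¹) * n⁻¹, ?_, ?_⟩
    · exact (Subgroup.mem_normalizer_iff.mp hn _).mp (Gp.inv_mem g.2)
    rw [show n * ((g : Equiv.Perm (G ⧸ H))⁻¹) * n⁻¹ * n = n * (g : Equiv.Perm (G ⧸ H))⁻¹ by group]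
    refine ⟨?_, N.mul_mem hn (Subgroup.le_normalizer (Gp.inv_mem g.2))⟩
    have key : ∀ y ∈ Subgroup.zpowers c,
        n * ((g : Equiv.Perm (G ⧸ H))⁻¹) * y * (n * (g : Equiv.Perm (G ⧸ H))⁻¹)⁻¹ ∈ Subgroup.zpowers c := by
      intro y hy
      have hyG : y ∈ Gp := Subgroup.zpowers_le.mpr hcG hy
      have hyP : (⟨y, hyG⟩ : Gp) ∈ (P : Subgroup Gp) := hy
      rw [← hg, Sylow.coe_subgroup_smul, Subgroup.mem_pointwise_smul_iff_inv_smul_mem] at hyP
      have h3 : ((f ((MulAut.conj g)⁻¹ • (⟨y, hyG⟩ : Gp)) : Gp) : Equiv.Perm (G ⧸ H)) ∈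
          Subgroup.zpowers c := hyP
      simp only [f, MulAut.smul_def, MulAut.conj_inv_apply] at h3
      rw [Subgroup.normalizerMonoidHom_apply_apply_coe] at h3
      simpa [mul_assoc] using h3
    exact Subgroup.mem_normalizer_fintype fun y hy => key y hy
  let ψ : N →* Cfsg.Out G :=
    (QuotientGroup.mk' (Cfsg.Inn G)).comp
      ((MulAut.congr e.symm).toMonoidHom.comp (Subgroup.normalizerMonoidHom Gp))
  have hψG : ∀ g (hg : g ∈ Gp), ψ ⟨g, Subgroup.le_normalizer hg⟩ = 1 := by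
    intro g hg
    refine (QuotientGroup.eq_one_iff _).mpr ⟨e.symm ⟨g, hg⟩, MulEquiv.ext fun x => ?_⟩
    apply e.injective
    simp only [MulAut.conj_apply, map_mul, map_inv, MulEquiv.apply_symm_apply]
    refine Subtype.ext ?_
    simp [MulAut.congr]
    exact (Subgroup.normalizerMonoidHom_apply_apply_coe Gp ⟨g, Subgroup.le_normalizer hg⟩ (e x)).symm
  set R := ψ.range with hR
  have hRcomm : ∀ a ∈ R, ∀ b ∈ R, a * b = b * a := by
    intro a ha b hb
    obtain ⟨⟨n₁, hn₁⟩, rfl⟩ := ha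
    obtain ⟨⟨n₂, hn₂⟩, rfl⟩ := hb
    obtain ⟨g₁, hg₁, hm₁⟩ := hfrat n₁ hn₁
    obtain ⟨g₂, hg₂, hm₂⟩ := hfrat n₂ hn₂
    have e1 : ψ ⟨n₁, hn₁⟩ = ψ ⟨g₁ * n₁, hm₁.2⟩ := by
      rw [show (⟨g₁ * n₁, hm₁.2⟩ : N) = ⟨g₁, Subgroup.le_normalizer hg₁⟩ * ⟨n₁, hn₁⟩ from rfl,
        map_mul, hψG g₁ hg₁, one_mul]
    have e2 : ψ ⟨n₂, hn₂⟩ = ψ ⟨g₂ * n₂, hm₂.2⟩ := by
      rw [show (⟨g₂ * n₂, hm₂.2⟩ : N) = ⟨g₂, Subgroup.le_normalizer hg₂⟩ * ⟨n₂, hn₂⟩ from rfl,
        map_mul, hψG g₂ hg₂, one_mul]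
    rw [e1, e2]
    generalize g₁ * n₁ = x at hm₁
    generalize g₂ * n₂ = y at hm₂
    have hpow : ∀ z ∈ M, ∃ i : ℤ, z * c * z⁻¹ = c ^ i := fun z hz => by
      obtain ⟨i, hi⟩ := (Subgroup.mem_normalizer_iff.mp hz.1 c).mp (Subgroup.mem_zpowers c)
      exact ⟨i, hi.symm⟩
    obtain ⟨i, hi⟩ := hpow x hm₁
    obtain ⟨j, hj⟩ := hpow y hm₂
    have hcom : (y * x)⁻¹ * (x * y) ∈ Subgroup.zpowers c := by
      refine hcen _ ?_
      have h1 : x * y * c * (x * y)⁻¹ = y * x * c * (y * x)⁻¹ := by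
        calc x * y * c * (x * y)⁻¹ = x * (y * c * y⁻¹) * x⁻¹ := by group
          _ = (x * c * x⁻¹) ^ j := by rw [hj, conj_zpow]
          _ = (y * c * y⁻¹) ^ i := by rw [hi, hj, ← zpow_mul, ← zpow_mul, mul_comm]
          _ = y * (x * c * x⁻¹) * y⁻¹ := by rw [hi, conj_zpow]
          _ = _ := by group
      calc (y * x)⁻¹ * (x * y) * c
          = (y * x)⁻¹ * (x * y * c * (x * y)⁻¹) * (x * y) := by group
        _ = (y * x)⁻¹ * (y * x * c * (y * x)⁻¹) * (x * y) := by rw [h1]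
        _ = _ := by group
    rw [← map_mul, ← map_mul, eq_comm, ← inv_mul_eq_one, ← map_inv, ← map_mul]
    exact hψG _ (Subgroup.zpowers_le.mpr hcG hcom)
  -- odd order automorphisms
  have hodd : ∀ α : MulAut G, Odd (orderOf α) → QuotientGroup.mk' (Cfsg.Inn G) α ∈ R := by
    intro α hα
    obtain ⟨σ, hσN, hσ⟩ := S4290.result Gp h2 o hHall ((MulAut.congr e) α)
      (by rwa [(MulAut.congr e).orderOf_eq])
    refine ⟨⟨σ, hσN⟩, ?_⟩
    have hα' : Subgroup.normalizerMonoidHom Gp ⟨σ, hσN⟩ = (MulAut.congr e) α := by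
      refine MulEquiv.ext fun g => Subtype.ext ?_
      rw [Subgroup.normalizerMonoidHom_apply_apply_coe, hσ g]
    change QuotientGroup.mk' (Cfsg.Inn G)
      ((MulAut.congr e.symm) (Subgroup.normalizerMonoidHom Gp ⟨σ, hσN⟩)) = _
    rw [hα']
    congr 1
    exact MulEquiv.ext fun x => by simp [MulAut.congr]
  let S : Subgroup (Cfsg.Out G) :=
    Subgroup.closure ((QuotientGroup.mk' (Cfsg.Inn G)) '' {α | Odd (orderOf α)})
  have hSR : S ≤ R := (Subgroup.closure_le _).mpr (by rintro _ ⟨α, hα, rfl⟩; exact hodd α hα)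
  have hSn : S.Normal := by
    refine Subgroup.normalizer_eq_top_iff.mp (top_unique fun x _ => ?_)
    refine Subgroup.mem_normalizer_fintype fun y hy => ?_
    induction hy using Subgroup.closure_induction with
    | mem y hy =>
      obtain ⟨α, hα, rfl⟩ := hy
      obtain ⟨β, rfl⟩ := QuotientGroup.mk'_surjective _ x
      refine Subgroup.subset_closure ⟨β * α * β⁻¹, ?_, by simp⟩
      change Odd (orderOf (β * α * β⁻¹))
      rwa [← MulAut.conj_apply, MulEquiv.orderOf_eq]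
    | one => simp
    | mul a b _ _ ha hb =>
      rw [show x * (a * b) * x⁻¹ = (x * a * x⁻¹) * (x * b * x⁻¹) by group]
      exact S.mul_mem ha hb
    | inv a _ ha =>
      rw [show x * a⁻¹ * x⁻¹ = (x * a * x⁻¹)⁻¹ by group]
      exact S.inv_mem ha
  have hS2 : IsPGroup 2 (Cfsg.Out G ⧸ S) := by
    intro y
    obtain ⟨x, rfl⟩ := QuotientGroup.mk_surjective y
    obtain ⟨α, rfl⟩ := QuotientGroup.mk'_surjective _ x
    obtain ⟨k, m, hm, hn⟩ :=
      Nat.exists_eq_pow_mul_and_not_dvd (orderOf_pos α).ne' 2 (by norm_num)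
    refine ⟨k, ?_⟩
    rw [← QuotientGroup.mk_pow, QuotientGroup.eq_one_iff, ← map_pow]
    refine Subgroup.subset_closure ⟨α ^ 2 ^ k, ?_, rfl⟩
    change Odd (orderOf (α ^ 2 ^ k))
    rw [orderOf_pow' α (by positivity), hn, Nat.gcd_mul_right_left, Nat.mul_div_cancel_left _ (by positivity)]
    exact Nat.odd_iff.mpr (Nat.two_dvd_ne_zero.mp hm)
  have : Group.IsSolvable S := Group.isSolvable_of_comm fun a b => Subtype.ext (hRcomm _ (hSR a.2) _ (hSR b.2))
  have : Group.IsNilpotent (Cfsg.Out G ⧸ S) := hS2.isNilpotent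
  exact Group.isSolvable_of_ker_le_range S.subtype (QuotientGroup.mk' S) (by simp)

end Cfsg.Agent.S4277
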