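import Cfsg.Statements.S4279
import Cfsg.Agent.Lib.OddInvolutions.G2
-- import your own Cfsg.Agent.* helpers here

set_option autoImplicit false
open Cfsg

namespace Cfsg.Agent.S4279

open Cfsg.Agent.Lib.OddInvolutions

/-- In the Chevalley group G of type G₂ over a finite field F of odd order q, the centralizer of an involution t has order q²(q² − 1)² and contains two elementwise commuting subgroups, each isomorphic to SL(2, F), which meet exactly in the subgroup generated by t and whose join has index 2 in the centralizer. -/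
theorem result {F : Type*} [Field F] [Fintype F] (hF : Odd (Fintype.card F)) (t : ↥(Cfsg.Lie.chevG2.group F)) (ht : orderOf t = 2) : Nat.card (Subgroup.centralizer ({t} : Set ↥(Cfsg.Lie.chevG2.group F))) = Fintype.card F ^ 2 * (Fintype.card F ^ 2 - 1) ^ 2 ∧ ∃ L₁ L₂ : Subgroup ↥(Cfsg.Lie.chevG2.group F), Nonempty (L₁ ≃* Matrix.SpecialLinearGroup (Fin 2) F) ∧ Nonempty (L₂ ≃* Matrix.SpecialLinearGroup (Fin 2) F) ∧ (∀ x ∈ L₁, ∀ y ∈ L₂, x * y = y * x) ∧ L₁ ⊓ L₂ = Subgroup.zpowers t ∧ L₁ ⊔ L₂ ≤ Subgroup.centralizer ({t} : Set ↥(Cfsg.Lie.chevG2.group F)) ∧ (L₁ ⊔ L₂).relIndex (Subgroup.centralizer ({t} : Set ↥(Cfsg.Lie.chevG2.group F))) = 2 := by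
  obtain ⟨g, hg⟩ := isConj_iff.1 (G2.isConj_rep hF t ht).symm
  have hcard : Nat.card (Subgroup.centralizer ({t} : Set ↥(Cfsg.Lie.chevG2.group F))) =
      Fintype.card F ^ 2 * (Fintype.card F ^ 2 - 1) ^ 2 := by
    rw [← hg, ← card_centralizer_conj g]
    exact G2.card_centralizer_rep hF
  refine ⟨hcard, ?_⟩
  obtain ⟨ψ₁, ψ₂, h1, h2, hc, e1, e2⟩ := G2.sl2_pair (F := F) hF
  exact pair_data hF ((MulAut.conj g).toMonoidHom.comp ψ₁) ((MulAut.conj g).toMonoidHom.comp ψ₂)
    ((MulAut.conj g).injective.comp h1) ((MulAut.conj g).injective.comp h2)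
    (fun a b => (hc a b).map (MulAut.conj g).toMonoidHom) (by simpa [e1] using hg) (by simpa [e2] using hg) hcard

end Cfsg.Agent.S4279
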