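import Cfsg.Statements.S4280
import Cfsg.Agent.Lib.OddInvolutions.Classes
import Cfsg.Agent.Lib.OddInvolutions.CertF4
import Cfsg.Agent.Lib.ChevStructure.CommAll
-- import your own Cfsg.Agent.* helpers here

set_option autoImplicit false
open Cfsg

namespace Cfsg.Agent.S4280

open Cfsg.Lie Cfsg.Agent.Lib.ChevStructure Cfsg.Agent.Lib.OddInvolutions

/-- In the Chevalley group of type F₄ over a finite field of odd order q there are exactly two conjugacy classes of involutions; the centralizer of an involution in one class has order q¹⁶(q² − 1)(q⁴ − 1)(q⁶ − 1)(q⁸ − 1), and in the other class q¹⁰(q² − 1)²(q⁴ − 1)(q⁶ − 1). -/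
theorem result {F : Type*} [Field F] [Fintype F] (hF : Odd (Fintype.card F)) : ∃ s t : ↥(Cfsg.Lie.chevF4.group F), orderOf s = 2 ∧ orderOf t = 2 ∧ ¬ IsConj s t ∧ (∀ u : ↥(Cfsg.Lie.chevF4.group F), orderOf u = 2 → IsConj u s ∨ IsConj u t) ∧ Nat.card (Subgroup.centralizer ({s} : Set ↥(Cfsg.Lie.chevF4.group F))) = Fintype.card F ^ 16 * (Fintype.card F ^ 2 - 1) * (Fintype.card F ^ 4 - 1) * (Fintype.card F ^ 6 - 1) * (Fintype.card F ^ 8 - 1) ∧ Nat.card (Subgroup.centralizer ({t} : Set ↥(Cfsg.Lie.chevF4.group F))) = Fintype.card F ^ 10 * (Fintype.card F ^ 2 - 1) ^ 2 * (Fintype.card F ^ 4 - 1) * (Fintype.card F ^ 6 - 1) := by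
  set H := Cfsg.Agent.Lib.ChevStructure.Cert.F4.certified with hH
  have hc : CommOK H.core := Cfsg.Agent.Lib.ChevStructure.Cert.F4.core.commOK_mild mildF4
  let lift : ℕ → ℕ := fun r => cond (Nat.beq r 1) 2 8
  have hlift : ∀ r ∈ [1, 4], Data.F4.fast.liftOK r (lift r) = true := by
    intro r hr
    simp only [List.mem_cons, List.not_mem_nil, or_false] at hr
    rcases hr with rfl | rfl
    exacts [CertF4.lift1, CertF4.lift4]
  have hdiag : ∀ degs : List ℕ, degs.length = chevF4.rank →
      Nat.card (chevF4.diagonalSubgroup F) = (Fintype.card F - 1) ^ degs.length := by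
    intro degs hl
    have h := Order.CertF4.card_diagonal (K := F) (q := Fintype.card F) rfl
    rw [Finset.prod_eq_one, one_mul] at h
    · rw [hl]; exact h
    · intro i _
      have : ∀ j < 4, Order.DataTorus.dF4.getD j 0 = 1 := by decide
      rw [this i.val i.isLt, Nat.gcd_one_right]
  have hmem : ∀ r ∈ [1, 4], r < 2 ^ Data.F4.fast.l := by decide
  have cA := card_centralizer_repElt H (K := F) hF hc CertF4.mask CertF4.lift1 Order.CertF4.levels
    CertF4.spreadV CertF4.spread (by decide) CertF4.data CertF4.dp1_B CertF4.dp1_1 CertF4.val1_B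
    CertF4.val1_1 CertF4.small1 CertF4.pos1 (hdiag [2, 4, 6, 8] rfl)
  have cB := card_centralizer_repElt H (K := F) hF hc CertF4.mask CertF4.lift4 Order.CertF4.levels
    CertF4.spreadV CertF4.spread (by decide) CertF4.data CertF4.dp4_B CertF4.dp4_1 CertF4.val4_B
    CertF4.val4_1 CertF4.small4 CertF4.pos4 (hdiag [2, 4, 6, 2] rfl)
  have hq : 2 ≤ Fintype.card F := Fintype.one_lt_card
  refine ⟨_, _, orderOf_repElt H hF 1 CertF4.lift1 (by decide) (by decide),
    orderOf_repElt H hF 4 CertF4.lift4 (by decide) (by decide), ?_, ?_,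
    cA.trans ?_, cB.trans ?_⟩
  · intro hconj
    obtain ⟨g, hg⟩ := isConj_iff.1 hconj
    have heq : Nat.card (Subgroup.centralizer ({repElt H (K := F) 1 CertF4.lift1} : Set ↥(chevF4.group F))) =
        Nat.card (Subgroup.centralizer ({repElt H (K := F) 4 CertF4.lift4} : Set ↥(chevF4.group F))) := by
      rw [← hg, ← Cfsg.Agent.Lib.OddInvolutions.card_centralizer_conj g]
    rw [cA, cB] at heq
    exact pow_mul_ne (by norm_num) hq (not_dvd_prod hq (by decide)) heq
  · intro u hu
    obtain ⟨r, hr, hconj⟩ := isConj_repElt H hF hc CertF4.rootB CertF4.mask CertF4.cov hmem hlift u hu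
    have hr2 := hr
    simp only [List.mem_cons, List.not_mem_nil, or_false] at hr2
    rcases hr2 with rfl | rfl
    exacts [Or.inl hconj, Or.inr hconj]
  · simp; ring
  · simp; ring

end Cfsg.Agent.S4280
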