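import Cfsg.Statements.S4282
import Mathlib
import Cfsg.Agent.Lib.HallHigmanB.Core
-- import your own Cfsg.Agent.* helpers here

set_option autoImplicit false
open Cfsg

namespace Cfsg.Agent.S4282

open Cfsg.Agent.Lib

/-- A critical case behind the Hall–Higman theorem. Let p ≠ q be primes and G a finite group generated by a normal q-subgroup Q and a cyclic p-subgroup generated by x, such that the centralizer of every non-identity element of that cyclic subgroup is its product with the centre of G. Let K be an algebraically closed field of characteristic p and ρ a faithful representation of G on a nonzero finite-dimensional K-space whose restriction to Q is irreducible. If s is the least exponent with (ρ(x) − 1)^s = 0, then |⟨x⟩| − 1 ≤ s ≤ |⟨x⟩|; and if s = |⟨x⟩| − 1 then |⟨x⟩| − 1 is a power of q and Q is non-abelian. -/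
theorem result {G : Type*} [Group G] [Finite G] (p q : ℕ) [Fact p.Prime] [Fact q.Prime] (hpq : p ≠ q) (Q : Subgroup G) [Q.Normal] (hQ : IsPGroup q Q) (x : G) (hx : IsPGroup p (Subgroup.zpowers x)) (hgen : Q ⊔ Subgroup.zpowers x = ⊤) (hC : ∀ y ∈ Subgroup.zpowers x, y ≠ 1 → Subgroup.centralizer ({y} : Set G) = Subgroup.zpowers x ⊔ Subgroup.center G) {K : Type*} [Field K] [IsAlgClosed K] [CharP K p] {V : Type*} [AddCommGroup V] [Module K V] [FiniteDimensional K V] [Nontrivial V] (ρ : Representation K G V) (hfaith : Function.Injective ρ) (hirr : ∀ W : Submodule K V, (∀ g ∈ Q, Submodule.map (ρ g) W ≤ W) → W = ⊥ ∨ W = ⊤) (s : ℕ) (hs : (ρ x - 1) ^ s = 0) (hmin : ∀ k < s, (ρ x - 1) ^ k ≠ 0) : Nat.card (Subgroup.zpowers x) - 1 ≤ s ∧ s ≤ Nat.card (Subgroup.zpowers x) ∧ (s = Nat.card (Subgroup.zpowers x) - 1 → (∃ b : ℕ, Nat.card (Subgroup.zpowers x) - 1 = q ^ b) ∧ ¬ IsMulCommutative Q) := by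
  classical
  obtain ⟨xN, hxN⟩ := IsPGroup.iff_card.mp hx
  rw [Nat.card_zpowers] at hxN ⊢
  have hX1 : (ρ x) ^ p ^ xN = 1 := by rw [← map_pow, ← hxN, pow_orderOf_eq_one, map_one]
  have hupper : s ≤ orderOf x := by
    by_contra hlt
    refine hmin (orderOf x) (not_le.mp hlt) ?_
    rw [hxN, HallHigmanB.sub_one_pow_char_pow, hX1, sub_self]
  have hs0 : s ≠ 0 := by
    rintro rfl
    rw [pow_zero] at hs
    exact one_ne_zero hs
  rcases Nat.eq_zero_or_pos xN with h0 | h0
  · rw [h0, pow_zero] at hxN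
    exact ⟨by omega, hupper, fun h => absurd h (by omega)⟩
  obtain ⟨n, rfl⟩ : ∃ n, xN = n + 1 := ⟨xN - 1, by omega⟩
  set ψ := MulAut.conjNormal (H := Q) x with hψdef
  have hψ : ∀ (i : ℕ) (u : Q), (((ψ ^ i) u : Q) : G) = x ^ i * u * (x ^ i)⁻¹ := fun i u => by
    rw [hψdef, ← map_pow]
    rfl
  have hψ1 : ψ ^ p ^ (n + 1) = 1 := MulEquiv.ext fun u => Subtype.ext (by
    rw [hψ, ← hxN, pow_orderOf_eq_one]; simp)
  set y := x ^ p ^ n with hy
  have hyne : y ≠ 1 := fun h => by
    have h2 := Nat.le_of_dvd (pow_pos (Fact.out : p.Prime).pos n) (orderOf_dvd_of_pow_eq_one h)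
    rw [hxN] at h2
    exact absurd h2 (not_le.mpr (Nat.pow_lt_pow_right (Fact.out : p.Prime).one_lt (Nat.lt_succ_self n)))
  have hfixed : ∀ u : Q, (ψ ^ p ^ n) u = u → ψ u = u := by
    intro u hu
    have h1 : (u : G) ∈ Subgroup.centralizer ({y} : Set G) := by
      rw [Subgroup.mem_centralizer_singleton_iff]
      have h := congrArg Subtype.val hu
      rw [hψ, mul_inv_eq_iff_eq_mul] at h
      exact h.symm
    rw [hC y (Subgroup.pow_mem _ (Subgroup.mem_zpowers x) _) hyne] at h1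
    have hle : Subgroup.zpowers x ⊔ Subgroup.center G ≤ Subgroup.centralizer ({x} : Set G) :=
      sup_le (Subgroup.zpowers_le.mpr (Subgroup.mem_centralizer_singleton_iff.mpr rfl))
        (fun z hz => Subgroup.mem_centralizer_singleton_iff.mpr
          (Subgroup.mem_center_iff.mp hz x).symm)
    refine Subtype.ext ?_
    have h3 := hψ 1 u
    rw [pow_one, pow_one] at h3
    rw [h3, ← Subgroup.mem_centralizer_singleton_iff.mp (hle h1), mul_inv_cancel_right]
  set ρQ : Q →* Module.End K V := (ρ : G →* Module.End K V).comp Q.subtype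
  have hρψ : ∀ u : Q, ρ x * ρQ u = ρQ (ψ u) * ρ x := fun u => by
    show ρ x * ρ (u : G) = ρ ((ψ u : Q) : G) * ρ x
    have h3 := hψ 1 u
    rw [pow_one, pow_one] at h3
    rw [← map_mul, ← map_mul, h3, inv_mul_cancel_right]
  have hirr' : FpfHeight.Extraspecial.IsIrred ρQ := fun W hW =>
    hirr W fun g hg => Submodule.map_le_iff_le_comap.mpr fun w hw => hW ⟨g, hg⟩ w hw
  have hmove : ψ ^ p ^ n ≠ 1 := by
    intro h
    refine hyne (hfaith ?_)
    rw [map_one]
    obtain ⟨c, hc⟩ := HallHigmanB.exists_scalar hirr' (f := ρ y) fun u => by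
      have h4 := FpfHeight.OddPower.pow_semiconj hρψ (p ^ n) u
      rw [h, MulAut.one_apply, ← map_pow] at h4
      exact h4
    have h5 : c ^ p = 1 := by
      have h6 : (ρ y) ^ p = 1 := by
        rw [← map_pow, hy, ← pow_mul, ← pow_succ, ← hxN, pow_orderOf_eq_one, map_one]
      rw [hc, smul_pow, one_pow] at h6
      obtain ⟨v, hv⟩ := exists_ne (0 : V)
      have h7 := LinearMap.congr_fun h6 v
      rw [LinearMap.smul_apply, Module.End.one_apply] at h7
      exact smul_left_injective K hv (h7.trans (one_smul K v).symm)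
    have h8 : c = 1 := by
      have h9 : (c - 1) ^ p = 0 := by rw [sub_pow_char, h5, one_pow, sub_self]
      exact sub_eq_zero.mp (eq_zero_of_pow_eq_zero h9)
    rw [hc, h8, one_smul]
  obtain ⟨Q', ⟨hQ'inv, hQ'move⟩, hQ'min⟩ := exists_minimal_of_wellFoundedLT
    (fun L : Subgroup Q => (∀ u ∈ L, ψ u ∈ L) ∧ ∃ u ∈ L, (ψ ^ p ^ n) u ≠ u)
    ⟨⊤, fun u _ => Subgroup.mem_top _, by
      by_contra hcon
      push Not at hcon
      exact hmove (MulEquiv.ext fun u => hcon u (Subgroup.mem_top u))⟩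
  set β := FpfHeight.OddPower.subAut ψ Q' hQ'inv
  have hβ : ∀ (i : ℕ) (u : Q'), (((β ^ i) u : Q') : Q) = (ψ ^ i) (u : Q) :=
    FpfHeight.OddPower.coe_subAut_pow ψ Q' hQ'inv
  have hres := HallHigmanB.core (p := p) (q := q) (M := V) hpq.symm (hQ.to_subgroup Q') β
    (MulEquiv.ext fun u => Subtype.ext (by rw [hβ, hψ1]; rfl))
    (fun h => by
      obtain ⟨u, hu, hu'⟩ := hQ'move
      exact hu' ((hβ _ ⟨u, hu⟩).symm.trans (by rw [h]; rfl)))
    (fun L hL hLinv u hu => by
      refine Subtype.ext ?_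
      rw [hβ]
      by_contra hne
      have hle : L.map Q'.subtype ≤ Q' := Subgroup.map_subtype_le L
      have h2 := hQ'min (y := L.map Q'.subtype) ⟨?_, ⟨u, ⟨u, hu, rfl⟩, hne⟩⟩ hle
      · refine hL (eq_top_iff.mpr fun w _ => ?_)
        obtain ⟨w', hw', hww⟩ := h2 w.2
        rwa [← Subtype.ext hww]
      · rintro _ ⟨w, hw, rfl⟩
        exact ⟨β w, hLinv w hw, by simpa using hβ 1 w⟩)
    (ρQ.comp Q'.subtype) ((hfaith.comp Q.subtype_injective).comp Q'.subtype_injective) (ρ x) hX1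
    (fun u => by
      show ρ x * ρQ (u : Q) = ρQ ((β u : Q') : Q) * ρ x
      rw [show ((β u : Q') : Q) = ψ (u : Q) by simpa using hβ 1 u]
      exact hρψ (u : Q))
  have hlow : ∀ j : ℕ, (ρ x - 1) ^ j ≠ 0 → j < s := fun j hj => by
    by_contra hle
    exact hj (pow_eq_zero_of_le (not_lt.mp hle) hs)
  rcases hres with h | ⟨⟨a, b, hab⟩, n₀, d, h1, h2, h3, h4, h5, h6⟩
  · have := hlow _ h
    rw [hxN]
    exact ⟨by omega, hxN ▸ hupper, fun he => absurd he (by omega)⟩
  · obtain rfl := h5 (fun u hu => Subtype.ext (by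
      have := hfixed (u : Q) (by rw [← hβ, hu])
      rw [show ((β u : Q') : Q) = ψ (u : Q) by simpa using hβ 1 u]
      exact this))
    rw [Nat.sub_self, pow_zero, one_mul] at h6
    have := hlow _ h6
    rw [hxN]
    refine ⟨by omega, hxN ▸ hupper, fun _ => ⟨⟨d, h4.symm⟩, fun hcomm => hab ?_⟩⟩
    exact Subtype.ext (hcomm.is_comm.comm (a : Q) (b : Q))

end Cfsg.Agent.S4282
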