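import Cfsg.Statements.S4283
import Cfsg.Agent.Lib.ClassSizes.Basic
import Cfsg.Agent.Lib.Frobenius.Basic

set_option autoImplicit false
open Cfsg

namespace Cfsg.Agent.S4283

/-- Let G be a finite group with centre Z and let K, H be abelian subgroups of G containing Z such that G/Z is a Frobenius group with complement H/Z and kernel K/Z. Then the conjugacy class sizes of G are exactly 1, [G : K] and [G : H], and these two indices are coprime. (This is the converse half of the characterization of finite groups whose conjugacy class sizes are exactly 1, m and n with m and n coprime.) -/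
theorem result {G : Type*} [Group G] [Finite G] (K H : Subgroup G) (hZK : Subgroup.center G ≤ K) (hZH : Subgroup.center G ≤ H) (hK : IsMulCommutative K) (hH : IsMulCommutative H) (hFrob : Cfsg.IsFrobeniusComplement (H.map (QuotientGroup.mk' (Subgroup.center G)))) (hker : Cfsg.frobeniusKernel (H.map (QuotientGroup.mk' (Subgroup.center G))) = (K.map (QuotientGroup.mk' (Subgroup.center G)) : Set (G ⧸ Subgroup.center G))) : Set.range (fun x : G => (Subgroup.centralizer ({x} : Set G)).index) = ({1, K.index, H.index} : Set ℕ) ∧ K.index.Coprime H.index := by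
  have hker' := hker
  clear hker
  set π := QuotientGroup.mk' (Subgroup.center G) with hπ
  set H' := H.map π with hH'
  set K' := K.map π with hK'
  have hker : π.ker = Subgroup.center G := QuotientGroup.ker_mk' _
  have hmemK : ∀ x, π x ∈ K' ↔ x ∈ K := fun x => by
    rw [hK', ← Subgroup.mem_comap, Subgroup.comap_map_eq_self (hker.le.trans hZK)]
  have hmemH : ∀ x, π x ∈ H' ↔ x ∈ H := fun x => by
    rw [hH', ← Subgroup.mem_comap, Subgroup.comap_map_eq_self (hker.le.trans hZH)]
  obtain ⟨hK'n, hc⟩ := Lib.Frobenius.normal_and_isComplement'_of_coe_eq hFrob hker'.symm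
  have hKmem : ∀ x, x ∈ K ↔ π x ∈ Cfsg.frobeniusKernel H' := fun x => by
    rw [hker', SetLike.mem_coe, hmemK]
  have hcommK : ∀ a ∈ K, ∀ b ∈ K, a * b = b * a := fun a ha b hb =>
    congrArg Subtype.val (hK.is_comm.comm ⟨a, ha⟩ ⟨b, hb⟩)
  have hcommH : ∀ a ∈ H, ∀ b ∈ H, a * b = b * a := fun a ha b hb =>
    congrArg Subtype.val (hH.is_comm.comm ⟨a, ha⟩ ⟨b, hb⟩)
  have hcK : ∀ x ∈ K, x ∉ Subgroup.center G → Subgroup.centralizer ({x} : Set G) = K := by
    intro x hx hxc
    refine le_antisymm (fun y hy => ?_) (fun y hy => Lib.ClassSizes.Basic.mem_cen.mpr (hcommK x hx y hy))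
    rw [hKmem, Lib.Frobenius.mem_frobeniusKernel]
    intro hy1 g hg
    have hx' := (hKmem x).mp hx
    refine Lib.Frobenius.mem_frobeniusKernel.mp hx'
      (fun h => hxc ((QuotientGroup.eq_one_iff x).mp h)) g ?_
    refine Lib.Frobenius.conj_mem_of_commute hFrob hg hy1 ?_
    rw [← map_mul, ← map_mul, Lib.ClassSizes.Basic.mem_cen.mp hy]
  have hcH : ∀ x ∈ H, x ∉ Subgroup.center G → Subgroup.centralizer ({x} : Set G) = H := by
    intro x hx hxc
    refine le_antisymm (fun y hy => ?_) (fun y hy => Lib.ClassSizes.Basic.mem_cen.mpr (hcommH x hx y hy))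
    rw [← hmemH]
    refine Lib.Frobenius.mem_of_commute hFrob ((hmemH x).mpr hx)
      (fun h => hxc ((QuotientGroup.eq_one_iff x).mp h)) ?_
    rw [← map_mul, ← map_mul, Lib.ClassSizes.Basic.mem_cen.mp hy]
  have hidxK : K.index = Nat.card H' := by
    rw [← hc.symm.index_eq_card, hK', Subgroup.index_map_eq K (QuotientGroup.mk'_surjective _)
      (hker.le.trans hZK)]
  have hidxH : H.index = H'.index := by
    rw [hH', Subgroup.index_map_eq H (QuotientGroup.mk'_surjective _) (hker.le.trans hZH)]
  refine ⟨Set.ext fun n => ⟨?_, ?_⟩, ?_⟩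
  · rintro ⟨x, rfl⟩
    simp only [Set.mem_insert_iff, Set.mem_singleton_iff]
    by_cases hxc : x ∈ Subgroup.center G
    · left
      rw [Subgroup.index_eq_one, Subgroup.eq_top_iff']
      intro y
      exact Lib.ClassSizes.Basic.mem_cen.mpr (Subgroup.mem_center_iff.mp hxc y).symm
    right
    by_cases hxK : x ∈ K
    · left; rw [hcK x hxK hxc]
    · right
      rw [hKmem, Lib.Frobenius.mem_frobeniusKernel] at hxK
      push Not at hxK
      obtain ⟨-, g, hg⟩ := hxK
      obtain ⟨g, rfl⟩ := QuotientGroup.mk'_surjective _ g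
      rw [← map_inv, ← map_mul, ← map_mul, hmemH] at hg
      have hgc : g⁻¹ * x * g ∉ Subgroup.center G := fun h => hxc (by
        have := Subgroup.Normal.conj_mem inferInstance _ h g
        simpa [mul_assoc] using this)
      have h1 := hcH _ hg hgc
      have h2 : Subgroup.centralizer ({x} : Set G) = H.map (MulAut.conj g).toMonoidHom := by
        ext y
        rw [← h1, Subgroup.mem_map_equiv, MulAut.conj_symm_apply,
          ← Lib.ClassSizes.Basic.mem_cen_conj (g := g)]
        simp [mul_assoc]
      rw [h2]; exact Subgroup.index_map_equiv H (MulAut.conj g)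
  · simp only [Set.mem_insert_iff, Set.mem_singleton_iff]
    rintro (rfl | rfl | rfl)
    · exact ⟨1, by simp⟩
    · obtain ⟨x, hx, hxc⟩ : ∃ x ∈ K, x ∉ Subgroup.center G := by
        by_contra hcon
        push Not at hcon
        have h1 : K' = ⊥ := by
          rw [hK', Subgroup.eq_bot_iff_forall]
          rintro _ ⟨x, hx, rfl⟩
          exact (QuotientGroup.eq_one_iff x).mpr (hcon x hx)
        refine hFrob.2.1 ?_
        rw [h1] at hc
        exact Subgroup.isComplement'_bot_left.mp hc
      exact ⟨x, by simp only; rw [hcK x hx hxc]⟩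
    · obtain ⟨x, hx, hxc⟩ : ∃ x ∈ H, x ∉ Subgroup.center G := by
        by_contra hcon
        push Not at hcon
        refine hFrob.1 ?_
        rw [Subgroup.eq_bot_iff_forall]
        rintro _ ⟨x, hx, rfl⟩
        exact (QuotientGroup.eq_one_iff x).mpr (hcon x hx)
      exact ⟨x, by simp only; rw [hcH x hx hxc]⟩
  · rw [hidxK, hidxH]
    exact Lib.Frobenius.coprime_card_index hFrob

end Cfsg.Agent.S4283
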