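import Cfsg.Statements.S4292
import Cfsg.Agent.Lib.FrobComplement.Build
import Cfsg.Agent.Lib.Spectrum.FPFRep
import Cfsg.Agent.Lib.Frobenius.Complement
import Cfsg.Agent.Lib.Induced.FrobeniusKernel

set_option autoImplicit false
open Cfsg

namespace Cfsg.Agent.S4292


open Cfsg.Agent.Lib.Frobenius

/-- all norms of elements of prime order annihilate `f` -/
def Sol {G R : Type*} [Group G] [AddCommGroup R] (f : G → R) : Prop :=
  ∀ z : G, (orderOf z).Prime → ∀ x : G, ∑ i ∈ Finset.range (orderOf z), f (z ^ i * x) = 0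

theorem exists_fpf {A : Type*} [Group A] [Finite A]
    (h : ∃ (L : Type) (_ : Group L) (_ : Finite L) (H : Subgroup L),
      Cfsg.IsFrobeniusComplement H ∧ Nonempty (A ≃* H)) :
    ∃ (V : Type) (_ : CommGroup V) (_ : Finite V) (_ : Nontrivial V) (ρ : A →* MulAut V),
      IsFPF ρ := by
  obtain ⟨L, _, _, H, hH, ⟨e⟩⟩ := h
  obtain ⟨K, hK, -, hc⟩ := Lib.Induced.FrobeniusKernel.exists_frobeniusKernel_subgroup hH
  obtain ⟨V, i1, i2, i3, ρ, hρ⟩ := exists_isFPF_complement hH hc
  exact ⟨V, i1, i2, i3, ρ.comp e.toMonoidHom,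
    fun g hg v hv => hρ (e g) (by simpa using hg) v hv⟩

theorem exists_int_solution {A : Type*} [Group A] [Finite A] {V : Type*} [CommGroup V] [Finite V]
    [Nontrivial V] (ρ : A →* MulAut V) (hρ : IsFPF ρ) :
    ∃ (f : A → ℤ) (a : A), f a ≠ 0 ∧ Sol f := by
  classical
  have := Fintype.ofFinite A
  obtain ⟨f, hf0, hf⟩ := Lib.Spectrum.FPFRep.exists_rat_solution ρ hρ
  obtain ⟨a, ha⟩ : ∃ a, f a ≠ 0 := Function.ne_iff.mp hf0
  set d : ℕ := ∏ x, (f x).den with hd
  have hint : ∀ x, ∃ n : ℤ, (n : ℚ) = (d : ℚ) * f x := by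
    intro x
    obtain ⟨e, he⟩ : (f x).den ∣ d := Finset.dvd_prod_of_mem _ (Finset.mem_univ x)
    refine ⟨e * (f x).num, ?_⟩
    rw [he]; push_cast
    rw [mul_comm ((f x).den : ℚ), mul_assoc, Rat.den_mul_eq_num]
  choose g hg using hint
  have hd0 : (d : ℚ) ≠ 0 := Nat.cast_ne_zero.2 (Finset.prod_ne_zero_iff.2 fun x _ => (f x).den_nz)
  refine ⟨g, a, fun h => ?_, fun z hz x => ?_⟩
  · have := hg a
    rw [h, Int.cast_zero] at this
    exact mul_ne_zero hd0 ha this.symm
  · apply Int.cast_injective (α := ℚ)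
    rw [Int.cast_sum, Int.cast_zero, Finset.sum_congr rfl fun i _ => hg _, ← Finset.mul_sum,
      hf z hz x, mul_zero]

theorem sol_cast {A : Type*} [Group A] {f : A → ℤ} (hf : Sol f) (r : ℕ) :
    Sol fun a => (f a : ZMod r) := fun z hz x => by
  rw [← Int.cast_sum, hf z hz x, Int.cast_zero]

theorem sol_translate {A R : Type*} [Group A] [AddCommGroup R] {f : A → R} (hf : Sol f) (g : A) :
    Sol fun x => f (x * g) := fun z hz x => by
  simpa only [mul_assoc] using hf z hz (x * g)

theorem complement_of_sol {G : Type*} [Group G] [Finite G] [Nontrivial G] (r : ℕ) [Fact r.Prime]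
    (hr : Nat.card G < r) {f : G → ZMod r} (hf : Sol f) (hf0 : f ≠ 0) :
    Lib.FrobComplement.Build.IsComplementType G := by
  let S : AddSubgroup (G → ZMod r) :=
    { carrier := {u | Sol u}
      add_mem' := fun {u v} hu hv z hz x => by
        simp only [Pi.add_apply, Finset.sum_add_distrib, hu z hz x, hv z hz x, add_zero]
      zero_mem' := fun z hz x => by simp
      neg_mem' := fun {u} hu z hz x => by
        simp only [Pi.neg_apply, Finset.sum_neg_distrib, hu z hz x, neg_zero] }
  have : Nontrivial S := ⟨⟨⟨f, hf⟩, 0, fun h => hf0 (congrArg Subtype.val h)⟩⟩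
  let : DistribMulAction G S :=
    { smul := fun g u => ⟨fun x => u.1 (x * g), sol_translate u.2 g⟩
      one_smul := fun u => Subtype.ext (funext fun x => congrArg u.1 (mul_one x))
      mul_smul := fun a b u => Subtype.ext (funext fun x => congrArg u.1 (mul_assoc x a b).symm)
      smul_zero := fun a => rfl
      smul_add := fun a u v => rfl }
  refine Lib.FrobComplement.Build.of_fixedPointFree (V := S) fun g hg u hfix => ?_
  obtain ⟨q, hq, hqd⟩ := Nat.exists_prime_and_dvd (n := orderOf g) (mt orderOf_eq_one_iff.1 hg)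
  set z := g ^ (orderOf g / q)
  have hz : orderOf z = q := orderOf_pow_orderOf_div (orderOf_pos g).ne' hqd
  have hi : ∀ (i : ℕ) (x : G), u.1 (x * g ^ i) = u.1 x := by
    intro i
    induction i with
    | zero => simp
    | succ i ih =>
      intro x
      rw [pow_succ, ← mul_assoc, ← ih x]
      exact congrFun (congrArg Subtype.val hfix) (x * g ^ i)
  refine Subtype.ext (funext fun x => ?_)
  have hzx : orderOf (x * z * x⁻¹) = q := by
    rw [← hz]; exact MulEquiv.orderOf_eq (MulAut.conj x) z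
  have h := u.2 (x * z * x⁻¹) (by rwa [hzx]) x
  rw [Finset.sum_congr rfl fun i _ => by
      rw [conj_pow, inv_mul_cancel_right, ← pow_mul, hi], Finset.sum_const, Finset.card_range,
    hzx, nsmul_eq_mul] at h
  refine (mul_eq_zero.1 h).resolve_left fun h2 => ?_
  rw [ZMod.natCast_eq_zero_iff] at h2
  have h3 : r ≤ q := Nat.le_of_dvd hq.pos h2
  have h4 : q ≤ Nat.card G := hz ▸ orderOf_le_card
  omega

theorem complement_of_fpf {G : Type*} [Group G] [Finite G] [Nontrivial G] {V : Type*} [CommGroup V]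
    [Finite V] [Nontrivial V] (ρ : G →* MulAut V) (hρ : IsFPF ρ) :
    Lib.FrobComplement.Build.IsComplementType G := by
  obtain ⟨f, a, ha, hf⟩ := exists_int_solution ρ hρ
  obtain ⟨r, hrb, hr⟩ := Nat.exists_infinite_primes (Nat.card G + (f a).natAbs + 1)
  have := Fact.mk hr
  refine complement_of_sol r (by omega) (sol_cast hf r) fun h => ?_
  have h' : ((f a : ℤ) : ZMod r) = 0 := congrFun h a
  rw [ZMod.intCast_zmod_eq_zero_iff_dvd, Int.natCast_dvd] at h'
  have := Nat.le_of_dvd (Int.natAbs_pos.2 ha) h'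
  omega

/-- Let A and B be nontrivial finite groups. Then the direct product A × B occurs as a Frobenius complement if and only if A and B both occur as Frobenius complements and the orders of A and B are coprime. -/
theorem result {A B : Type*} [Group A] [Finite A] [Nontrivial A] [Group B] [Finite B] [Nontrivial B] :
    (∃ (L : Type) (_ : Group L) (_ : Finite L) (H : Subgroup L), Cfsg.IsFrobeniusComplement H ∧ Nonempty ((A × B) ≃* H)) ↔
    ((∃ (L : Type) (_ : Group L) (_ : Finite L) (H : Subgroup L), Cfsg.IsFrobeniusComplement H ∧ Nonempty (A ≃* H)) ∧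
     (∃ (L : Type) (_ : Group L) (_ : Finite L) (H : Subgroup L), Cfsg.IsFrobeniusComplement H ∧ Nonempty (B ≃* H)) ∧
     (Nat.card A).Coprime (Nat.card B)) := by
  constructor
  · intro h
    obtain ⟨V, _, _, _, ρ, hρ⟩ := exists_fpf h
    refine ⟨?_, ?_, ?_⟩
    · exact complement_of_fpf (ρ.comp (MonoidHom.inl A B))
        fun g hg v hv => hρ (MonoidHom.inl A B g)
          (fun e => hg (congrArg Prod.fst e)) v hv
    · exact complement_of_fpf (ρ.comp (MonoidHom.inr A B))
        fun g hg v hv => hρ (MonoidHom.inr A B g)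
          (fun e => hg (congrArg Prod.snd e)) v hv
    · rw [Nat.coprime_iff_gcd_eq_one]
      by_contra hg
      obtain ⟨p, hp, hpd⟩ := Nat.exists_prime_and_dvd hg
      have := Fact.mk hp
      obtain ⟨a, ha⟩ := exists_prime_orderOf_dvd_card' (G := A) p (hpd.trans (Nat.gcd_dvd_left _ _))
      obtain ⟨b, hb⟩ := exists_prime_orderOf_dvd_card' (G := B) p (hpd.trans (Nat.gcd_dvd_right _ _))
      have hmem := hρ.mem_zpowers_of_commute hp (x := ((a, 1) : A × B)) (y := ((1, b) : A × B))
        (by simp [Prod.orderOf, ha])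
        (Prod.ext (one_pow _) (by rw [Prod.pow_snd]; exact hb ▸ pow_orderOf_eq_one b))
        (Prod.ext (by simp) (by simp))
      obtain ⟨k, hk⟩ := hmem
      have h2 : b = 1 := by simpa using (congrArg Prod.snd hk).symm
      rw [h2, orderOf_one] at hb
      exact hp.ne_one hb.symm
  · rintro ⟨hA, hB, hcop⟩
    obtain ⟨V, _, _, _, ρ, hρ⟩ := exists_fpf hA
    obtain ⟨W, _, _, _, σ, hσ⟩ := exists_fpf hB
    obtain ⟨f, a, ha, hf⟩ := exists_int_solution ρ hρ
    obtain ⟨g, b, hb, hg⟩ := exists_int_solution σ hσ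
    obtain ⟨r, hrb, hr⟩ := Nat.exists_infinite_primes
      (Nat.card (A × B) + (f a * g b).natAbs + 1)
    have := Fact.mk hr
    refine complement_of_sol r (by omega) (f := fun y : A × B => ((f y.1 * g y.2 : ℤ) : ZMod r))
      (sol_cast (f := fun y : A × B => f y.1 * g y.2) ?_ r) fun h => ?_
    · intro z hz x
      have hzd : orderOf z.1 = 1 ∨ orderOf z.2 = 1 := by
        have h1 : orderOf z.1 ∣ orderOf z := orderOf_map_dvd (MonoidHom.fst A B) z
        have h2 : orderOf z.2 ∣ orderOf z := orderOf_map_dvd (MonoidHom.snd A B) z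
        rcases (Nat.dvd_prime hz).1 h1 with h | h
        · exact Or.inl h
        · rcases (Nat.dvd_prime hz).1 h2 with h' | h'
          · exact Or.inr h'
          · exact absurd (Nat.eq_one_of_dvd_coprimes hcop (h ▸ orderOf_dvd_natCard z.1)
              (h' ▸ orderOf_dvd_natCard z.2)) hz.ne_one
      have hzo : orderOf z = Nat.lcm (orderOf z.1) (orderOf z.2) := Prod.orderOf z
      rcases hzd with h | h
      · rw [h, Nat.lcm_one_left] at hzo
        have h1 : z.1 = 1 := orderOf_eq_one_iff.1 h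
        simp only [Prod.fst_mul, Prod.snd_mul, Prod.pow_fst, Prod.pow_snd, h1, one_pow, one_mul,
          hzo, ← Finset.mul_sum]
        rw [hg z.2 (hzo ▸ hz) x.2, mul_zero]
      · rw [h, Nat.lcm_one_right] at hzo
        have h1 : z.2 = 1 := orderOf_eq_one_iff.1 h
        simp only [Prod.fst_mul, Prod.snd_mul, Prod.pow_fst, Prod.pow_snd, h1, one_pow, one_mul,
          hzo, ← Finset.sum_mul]
        rw [hf z.1 (hzo ▸ hz) x.1, zero_mul]
    · have h' : ((f a * g b : ℤ) : ZMod r) = 0 := congrFun h (a, b)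
      rw [ZMod.intCast_zmod_eq_zero_iff_dvd, Int.natCast_dvd] at h'
      have := Nat.le_of_dvd (Int.natAbs_pos.2 (mul_ne_zero ha hb)) h'
      omega

end Cfsg.Agent.S4292
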