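import Cfsg.Statements.S4293
import Cfsg.Agent.Lib.FrobComplement.Build

set_option autoImplicit false
open Cfsg

namespace Cfsg.Agent.S4293

universe u

/-- A finite nontrivial group of units of a division ring is a Frobenius complement. -/
theorem isComplementType_units {D : Type u} [DivisionRing D] (H : Subgroup Dˣ) [Finite H]
    [Nontrivial H] : Lib.FrobComplement.Build.IsComplementType H := by
  classical
  obtain ⟨p, hp⟩ := CharP.exists D
  let ι : H → D := fun h => ((h : Dˣ) : D)
  have hι1 : ∀ h : H, h ≠ 1 → ι h ≠ 1 := fun h hh he => hh (Subtype.ext (Units.ext he))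
  rcases CharP.char_is_prime_or_zero D p with hprime | hzero
  · have := Fact.mk hprime
    letI : Algebra (ZMod p) D := ZMod.algebra D p
    set V := Submodule.span (ZMod p) (Set.range ι) with hV
    have hinv : ∀ (h : H), ∀ v ∈ V, ι h * v ∈ V := by
      intro h v hv
      induction hv using Submodule.span_induction with
      | mem x hx =>
        obtain ⟨k, rfl⟩ := hx
        exact Submodule.subset_span ⟨h * k, rfl⟩
      | zero => simp
      | add x y _ _ hx hy => rw [mul_add]; exact V.add_mem hx hy
      | smul c x _ hx => rw [mul_smul_comm]; exact V.smul_mem c hx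
    have : Finite V := by
      have : Module.Finite (ZMod p) V := Module.Finite.span_of_finite _ (Set.finite_range ι)
      exact Module.finite_of_finite (ZMod p)
    have : Nontrivial V := ⟨⟨⟨ι 1, Submodule.subset_span ⟨1, rfl⟩⟩, 0, fun h => by
      simpa [ι] using congrArg Subtype.val h⟩⟩
    letI : DistribMulAction H V :=
      { smul := fun h v => ⟨ι h * v, hinv h v v.2⟩
        one_smul := fun v => Subtype.ext (by simp [ι, HSMul.hSMul, SMul.smul])
        mul_smul := fun a b v => Subtype.ext (by simp [ι, HSMul.hSMul, SMul.smul, mul_assoc])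
        smul_zero := fun a => Subtype.ext (by simp [ι, HSMul.hSMul, SMul.smul])
        smul_add := fun a v w => Subtype.ext (by simp [ι, HSMul.hSMul, SMul.smul, mul_add]) }
    refine Lib.FrobComplement.Build.of_fixedPointFree (V := V) fun h hh v hv => ?_
    have hv' : ι h * (v : D) = (v : D) := congrArg Subtype.val hv
    by_contra hv0
    exact hι1 h hh ((mul_eq_right₀ (fun h0 => hv0 (Subtype.ext h0))).mp hv')
  · subst hzero
    have : CharZero D := CharP.charP_to_charZero D
    set W := Submodule.span ℤ (Set.range ι) with hW
    have : Module.Finite ℤ W := Module.Finite.span_of_finite _ (Set.finite_range ι)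
    let b := Module.Free.chooseBasis ℤ W
    have hinv : ∀ (h : H), ∀ v ∈ W, ι h * v ∈ W := by
      intro h v hv
      induction hv using Submodule.span_induction with
      | mem x hx =>
        obtain ⟨k, rfl⟩ := hx
        exact Submodule.subset_span ⟨h * k, rfl⟩
      | zero => simp
      | add x y _ _ hx hy => rw [mul_add]; exact W.add_mem hx hy
      | smul c x _ hx => rw [mul_smul_comm]; exact W.smul_mem c hx
    let L : H →* Module.End ℤ W :=
      { toFun := fun h =>
          { toFun := fun v => ⟨ι h * v, hinv h v v.2⟩
            map_add' := fun v w => Subtype.ext (mul_add _ _ _)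
            map_smul' := fun c v => Subtype.ext (mul_smul_comm _ _ _) }
        map_one' := by ext v; simp [ι]
        map_mul' := fun x y => by ext v; simp [ι, mul_assoc] }
    have hsum : ∀ h : H, h ≠ 1 → ∑ i ∈ Finset.range (orderOf h), L h ^ i = 0 := by
      intro h hh
      refine LinearMap.ext fun v => Subtype.ext ?_
      have hgeom : (∑ i ∈ Finset.range (orderOf h), ι h ^ i) * (ι h - 1) = 0 := by
        rw [geom_sum_mul]
        have : ι h ^ orderOf h = 1 := by
          have e : ι (h ^ orderOf h) = ι h ^ orderOf h := by
            simp only [ι, SubgroupClass.coe_pow, Units.val_pow_eq_pow_val]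
          rw [← e, pow_orderOf_eq_one]
          rfl
        rw [this, sub_self]
      have hs0 := (mul_eq_zero.mp hgeom).resolve_right (sub_ne_zero.mpr (hι1 h hh))
      rw [LinearMap.zero_apply, ZeroMemClass.coe_zero, LinearMap.sum_apply, Submodule.coe_sum]
      have hterm : ∀ i ∈ Finset.range (orderOf h), (((L h ^ i) v : W) : D) = ι h ^ i * (v : D) := by
        intro i _
        rw [← map_pow]
        simp [L, ι]
      rw [Finset.sum_congr rfl hterm, ← Finset.sum_mul, hs0, zero_mul]
    obtain ⟨r, hrbig, hr⟩ := Nat.exists_infinite_primes (Nat.card H + 1)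
    have := Fact.mk hr
    let M : H →* Module.End (ZMod r) (Module.Free.ChooseBasisIndex ℤ W → ZMod r) :=
      ((Matrix.toLinAlgEquiv' (R := ZMod r) (n := Module.Free.ChooseBasisIndex ℤ W)).toMonoidHom.comp
        (((Int.castRingHom (ZMod r)).mapMatrix (m := Module.Free.ChooseBasisIndex ℤ W)).toMonoidHom.comp
          ((LinearMap.toMatrixAlgEquiv b).toMonoidHom.comp L)))
    have hM : ∀ h : H, h ≠ 1 → ∑ i ∈ Finset.range (orderOf h), M h ^ i = 0 := by
      intro h hh
      let F : Module.End ℤ W →+* Module.End (ZMod r) (Module.Free.ChooseBasisIndex ℤ W → ZMod r) :=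
        (Matrix.toLinAlgEquiv' (R := ZMod r) (n := Module.Free.ChooseBasisIndex ℤ W)).toRingHom.comp
          (((Int.castRingHom (ZMod r)).mapMatrix (m := Module.Free.ChooseBasisIndex ℤ W)).comp
            (LinearMap.toMatrixAlgEquiv b).toRingHom)
      have hMF : M h = F (L h) := rfl
      rw [hMF, ← map_zero F, ← hsum h hh, map_sum]
      simp only [map_pow]
    letI : DistribMulAction H (Module.Free.ChooseBasisIndex ℤ W → ZMod r) :=
      DistribMulAction.compHom _ M
    have : Nontrivial W := ⟨⟨⟨ι 1, Submodule.subset_span ⟨1, rfl⟩⟩, 0, fun h => by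
      simpa [ι] using congrArg Subtype.val h⟩⟩
    have : Nonempty (Module.Free.ChooseBasisIndex ℤ W) := b.index_nonempty
    refine Lib.FrobComplement.Build.of_fixedPointFree
      (V := Module.Free.ChooseBasisIndex ℤ W → ZMod r) fun h hh v hv => ?_
    have hv' : M h v = v := hv
    have hpow : ∀ i : ℕ, (M h ^ i) v = v := fun i => by
      induction i with
      | zero => simp
      | succ i ih => rw [pow_succ, Module.End.mul_apply, hv', ih]
    have h0 := congrArg (fun T : Module.End (ZMod r) _ => T v) (hM h hh)
    simp only [LinearMap.sum_apply, hpow, Finset.sum_const, Finset.card_range,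
      LinearMap.zero_apply] at h0
    funext i
    have h1 := congrFun h0 i
    simp only [Pi.smul_apply, Pi.zero_apply, nsmul_eq_mul] at h1
    refine (mul_eq_zero.mp h1).resolve_left fun h2 => ?_
    rw [ZMod.natCast_eq_zero_iff] at h2
    have := Nat.le_of_dvd (orderOf_pos h) h2
    have := orderOf_le_card (x := h)
    omega

/-- A nontrivial finite subgroup of the multiplicative group of a division ring occurs as a Frobenius complement of some finite Frobenius group. -/
theorem result {D : Type*} [DivisionRing D] (H : Subgroup Dˣ) [Finite H] (hH : H ≠ ⊥) :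
    ∃ (L : Type) (_ : Group L) (_ : Finite L) (C : Subgroup L), Cfsg.IsFrobeniusComplement C ∧ Nonempty (H ≃* C) := by
  have : Nontrivial H := (Subgroup.nontrivial_iff_ne_bot H).mpr hH
  exact isComplementType_units H

end Cfsg.Agent.S4293
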