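import Cfsg.Statements.S4296
import Cfsg.Agent.Lib.Frobenius.Complement
import Cfsg.Agent.Lib.Induced.FrobeniusKernel

set_option autoImplicit false
open Cfsg
open scoped Pointwise commutatorElement

namespace Cfsg.Agent.S4296

universe u

/-- Powers of a product of elements with central commutator. -/
theorem mul_pow_of_comm {P : Type*} [Group P] {a b c : P} (h : b * a = a * b * c)
    (hca : Commute c a) (hcb : Commute c b) (n : ℕ) :
    (a * b) ^ n = a ^ n * b ^ n * c ^ n.choose 2 := by
  have key : ∀ n : ℕ, b ^ n * a = a * b ^ n * c ^ n := by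
    intro n
    induction n with
    | zero => simp
    | succ n ih =>
      calc b ^ (n + 1) * a = b ^ n * (b * a) := by rw [pow_succ, mul_assoc]
        _ = b ^ n * a * (b * c) := by rw [h]; simp only [mul_assoc]
        _ = a * b ^ n * (c ^ n * b) * c := by rw [ih]; simp only [mul_assoc]
        _ = a * b ^ (n + 1) * c ^ (n + 1) := by
          rw [(hcb.pow_left n).eq, pow_succ, pow_succ]; simp only [mul_assoc]
  induction n with
  | zero => simp
  | succ n ih =>
    calc (a * b) ^ (n + 1) = a ^ n * b ^ n * (c ^ n.choose 2 * (a * b)) := by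
          rw [pow_succ, ih]; simp only [mul_assoc]
      _ = a ^ n * (b ^ n * a) * b * c ^ n.choose 2 := by
          rw [((hca.mul_right hcb).pow_left _).eq]; simp only [mul_assoc]
      _ = a ^ n * a * b ^ n * (c ^ n * b) * c ^ n.choose 2 := by
          rw [key]; simp only [mul_assoc]
      _ = a ^ (n + 1) * b ^ (n + 1) * c ^ (n + 1).choose 2 := by
          rw [(hcb.pow_left n).eq, Nat.choose_succ_succ', Nat.choose_one_right, pow_succ,
            pow_succ, pow_add]
          simp only [mul_assoc]

/-- A noncommutative `p`-group contains a commutator of order `p` central for both its entries. -/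
theorem exists_central_comm {p : ℕ} [Fact p.Prime] {P : Type*} [Group P] [Finite P]
    (hP : IsPGroup p P) (hnc : ¬ IsMulCommutative P) :
    ∃ x y c : P, y * x = x * y * c ∧ orderOf c = p ∧ c ∈ Subgroup.center P := by
  have hne : Nontrivial (P ⧸ Subgroup.center P) := by
    rw [QuotientGroup.nontrivial_iff]
    intro h
    exact hnc ⟨⟨fun a b => (Subgroup.mem_center_iff.mp (h ▸ Subgroup.mem_top b) a)⟩⟩
  have := (hP.to_quotient (Subgroup.center P)).center_nontrivial
  obtain ⟨v, hv⟩ := exists_ne (1 : Subgroup.center (P ⧸ Subgroup.center P))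
  obtain ⟨x, hx⟩ := QuotientGroup.mk_surjective (v : P ⧸ Subgroup.center P)
  have hxc : x ∉ Subgroup.center P := fun h => hv (Subtype.ext (hx.symm.trans
    ((QuotientGroup.eq_one_iff x).mpr h)))
  have hcz : ∀ y : P, (x * y)⁻¹ * (y * x) ∈ Subgroup.center P := by
    intro y
    rw [← QuotientGroup.eq_one_iff, QuotientGroup.mk_mul, QuotientGroup.mk_inv, QuotientGroup.mk_mul,
      QuotientGroup.mk_mul, hx, Subgroup.mem_center_iff.mp v.2, inv_mul_cancel]
  obtain ⟨y, hy⟩ : ∃ y, y * x ≠ x * y := by
    by_contra h
    push Not at h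
    exact hxc (Subgroup.mem_center_iff.mpr h)
  set c := (x * y)⁻¹ * (y * x) with hc
  have hyx : y * x = x * y * c := by rw [hc, mul_inv_cancel_left]
  have hc1 : c ≠ 1 := fun h => hy (by rw [hyx, h, mul_one])
  obtain ⟨k, hk⟩ := IsPGroup.iff_orderOf.mp hP c
  have hk0 : k ≠ 0 := fun h => hc1 (orderOf_eq_one_iff.mp (by rw [hk, h, pow_zero]))
  refine ⟨x ^ p ^ (k - 1), y, c ^ p ^ (k - 1), ?_, ?_, Subgroup.pow_mem _ (hcz y) _⟩
  · have hcomm : ∀ g, Commute c g := fun g => (Subgroup.mem_center_iff.mp (hcz y) g).symm
    have step : ∀ n : ℕ, y * x ^ n = x ^ n * y * c ^ n := by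
      intro n
      induction n with
      | zero => simp
      | succ n ih =>
        calc y * x ^ (n + 1) = x ^ n * y * (c ^ n * x) := by
              rw [pow_succ, ← mul_assoc, ih]; simp only [mul_assoc]
          _ = x ^ n * (y * x) * c ^ n := by rw [((hcomm x).pow_left n).eq]; simp only [mul_assoc]
          _ = x ^ (n + 1) * y * c ^ (n + 1) := by
              rw [hyx, pow_succ, pow_succ']; simp only [mul_assoc]
    exact step _
  · obtain ⟨l, rfl⟩ := Nat.exists_eq_succ_of_ne_zero hk0
    have : p ^ l = orderOf c / p := by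
      rw [hk, pow_succ, Nat.mul_div_cancel _ (Fact.out : p.Prime).pos]
    rw [show l.succ - 1 = l from rfl, this]
    exact orderOf_pow_orderOf_div (orderOf_pos c).ne' (hk ▸ dvd_pow_self p hk0)

/-- In a cyclic group an element of order dividing that of `a` is a power of `a`. -/
theorem mem_zpowers_of_cyclic {A : Type*} [Group A] [IsCyclic A] [Finite A] {a b : A}
    (h : orderOf b ∣ orderOf a) : b ∈ Subgroup.zpowers a := by
  classical
  have := Fintype.ofFinite A
  have h1 : (Subgroup.zpowers a : Set A).toFinset ⊆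
      Finset.univ.filter (fun z : A => z ^ orderOf a = 1) := by
    intro z hz
    rw [Set.mem_toFinset, SetLike.mem_coe] at hz
    obtain ⟨k, rfl⟩ := hz
    simp only [Finset.mem_filter, Finset.mem_univ, true_and]
    rw [← zpow_natCast, ← zpow_mul, mul_comm, zpow_mul, zpow_natCast, pow_orderOf_eq_one, one_zpow]
  have h3 : (Subgroup.zpowers a : Set A).toFinset.card = orderOf a := by
    rw [Set.toFinset_card, ← Nat.card_eq_fintype_card]
    exact Nat.card_zpowers a
  have h4 := Finset.eq_of_subset_of_card_le h1 (by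
    rw [h3]; exact IsCyclic.card_pow_eq_one_le (orderOf_pos a))
  have hb : b ∈ Finset.univ.filter (fun z : A => z ^ orderOf a = 1) :=
    Finset.mem_filter.mpr ⟨Finset.mem_univ _, orderOf_dvd_iff_pow_eq_one.mp h⟩
  rw [← h4, Set.mem_toFinset] at hb
  exact hb

/-- An odd `p`-group with one subgroup of order `p` and cyclic abelian subgroups is commutative. -/
theorem commutative_of_unique {p : ℕ} [Fact p.Prime] (hp2 : p ≠ 2) {P : Type*} [Group P] [Finite P]
    (hP : IsPGroup p P)
    (huniq : ∀ x y : P, orderOf x = p → orderOf y = p → Subgroup.zpowers x = Subgroup.zpowers y)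
    (hcyc : ∀ A : Subgroup P, IsMulCommutative A → IsCyclic A) : IsMulCommutative P := by
  by_contra hnc
  obtain ⟨x, y, c, hyx, hc, hcz⟩ := exists_central_comm hP hnc
  have hcomm : ∀ g, Commute c g := fun g => (Subgroup.mem_center_iff.mp hcz g).symm
  have hc1 : c ≠ 1 := fun h => (Fact.out : p.Prime).ne_one (by rw [← hc, h, orderOf_one])
  have hcp : c ^ p = 1 := hc ▸ pow_orderOf_eq_one c
  -- arrange that the order of `y` divides that of `x`
  have main : ∀ x y c : P, y * x = x * y * c → c ≠ 1 → c ^ p = 1 → (∀ g, Commute c g) →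
      orderOf y ∣ orderOf x → False := by
    intro x y c hyx hc1 hcp hcomm hdvd
    have hxy : ¬ Commute y x := fun h => hc1 (by
      have := hyx
      rw [h.eq] at this
      exact mul_left_cancel (a := x * y) (by rw [mul_one]; exact this.symm))
    have hxpy : ∀ n : ℕ, y ^ n * x = x * y ^ n * c ^ n := by
      intro n
      induction n with
      | zero => simp
      | succ n ih =>
        calc y ^ (n + 1) * x = y ^ n * x * (y * c) := by
              rw [pow_succ, mul_assoc, hyx]; simp only [mul_assoc]
          _ = x * y ^ n * (c ^ n * y) * c := by rw [ih]; simp only [mul_assoc]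
          _ = x * y ^ (n + 1) * c ^ (n + 1) := by
              rw [((hcomm y).pow_left n).eq, pow_succ, pow_succ]; simp only [mul_assoc]
    have hypx : Commute (y ^ p) x := by
      have := hxpy p
      rw [hcp, mul_one] at this
      exact this
    let A := Subgroup.closure ({x, y ^ p} : Set P)
    have hAc : IsMulCommutative A := by
      refine Subgroup.isMulCommutative_closure ?_
      intro a ha b hb
      rcases ha with rfl | rfl <;> rcases hb with rfl | rfl
      · rfl
      · exact hypx.eq.symm
      · exact hypx.eq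
      · rfl
    have hmem : y ^ p ∈ Subgroup.zpowers x := by
      have := hcyc A hAc
      have h := mem_zpowers_of_cyclic (A := A) (a := ⟨x, Subgroup.subset_closure (by simp)⟩)
        (b := ⟨y ^ p, Subgroup.subset_closure (by simp)⟩) (by
          rw [Subgroup.orderOf_mk, Subgroup.orderOf_mk]
          exact (orderOf_pow_dvd p).trans hdvd)
      obtain ⟨k, hk⟩ := h
      exact ⟨k, congrArg Subtype.val hk⟩
    obtain ⟨m, hm⟩ := (Submonoid.mem_powers_iff _ _).mp (mem_powers_iff_mem_zpowers.mpr hmem)
    obtain ⟨l, rfl⟩ : p ∣ m := by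
      by_contra hpm
      obtain ⟨i, hi⟩ := IsPGroup.iff_orderOf.mp hP x
      obtain ⟨j, hj⟩ := exists_pow_eq_self_of_coprime (x := x) (n := m) (by
        rw [hi]
        exact Nat.Coprime.pow_right _ (((Fact.out : p.Prime).coprime_iff_not_dvd.mpr hpm).symm))
      refine hxy ?_
      rw [← hj, hm, ← pow_mul]
      exact (Commute.refl y).pow_right _
    set b := (x ^ l)⁻¹ with hb
    have hstep : ∀ n : ℕ, y * x ^ n = x ^ n * y * c ^ n := by
      intro n
      induction n with
      | zero => simp
      | succ n ih =>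
        calc y * x ^ (n + 1) = x ^ n * y * (c ^ n * x) := by
              rw [pow_succ, ← mul_assoc, ih]; simp only [mul_assoc]
          _ = x ^ n * (y * x) * c ^ n := by rw [((hcomm x).pow_left n).eq]; simp only [mul_assoc]
          _ = x ^ (n + 1) * y * c ^ (n + 1) := by
              rw [hyx, pow_succ, pow_succ']; simp only [mul_assoc]
    have hba : b * y = y * b * c ^ l := by
      rw [hb, inv_mul_eq_iff_eq_mul]
      calc y = y * (x ^ l) * (x ^ l)⁻¹ := by group
        _ = x ^ l * y * (c ^ l * (x ^ l)⁻¹) := by rw [hstep]; simp only [mul_assoc]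
        _ = _ := by rw [((hcomm _).pow_left l).eq]; simp only [mul_assoc]
    have hpow : (y * b) ^ p = 1 := by
      rw [mul_pow_of_comm hba ((hcomm y).pow_left l) ((hcomm b).pow_left l), hb, inv_pow, ← pow_mul,
        mul_comm l p, hm, mul_inv_cancel, one_mul, ← pow_mul]
      have hd : p ∣ p.choose 2 := (Fact.out : p.Prime).dvd_choose_self two_ne_zero (by
        have := (Fact.out : p.Prime).two_le
        omega)
      obtain ⟨t, ht⟩ := hd
      rw [ht, mul_left_comm, pow_mul, hcp, one_pow]
    have hbc : y * b ∉ Subgroup.zpowers c := fun h => hxy (by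
      obtain ⟨i, hi⟩ := h
      have he : y = c ^ i * x ^ l := by
        have hi' : c ^ i = y * b := hi
        rw [hi', hb, inv_mul_cancel_right]
      rw [he]
      exact ((hcomm x).zpow_left i).mul_left ((Commute.refl x).pow_left l))
    have hy1 : orderOf (y * b) = p := orderOf_eq_prime hpow fun h => hbc (h ▸ one_mem _)
    exact hbc ((huniq _ _ hy1 (orderOf_eq_prime hcp hc1)) ▸ Subgroup.mem_zpowers _)
  obtain ⟨i, hi⟩ := IsPGroup.iff_orderOf.mp hP x
  obtain ⟨j, hj⟩ := IsPGroup.iff_orderOf.mp hP y
  rcases le_total j i with hle | hle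
  · exact main x y c hyx hc1 hcp hcomm (by rw [hi, hj]; exact pow_dvd_pow p hle)
  · refine main y x c⁻¹ ?_ (inv_ne_one.mpr hc1) (by rw [inv_pow, hcp, inv_one])
      (fun g => (hcomm g).inv_left) (by rw [hi, hj]; exact pow_dvd_pow p hle)
    rw [hyx, mul_inv_cancel_right]

/-- An elementary abelian group inverted by an element of the derived subgroup has even rank. -/
theorem even_dim {H : Type*} [Group H] {t : H} {r : ℕ} [Fact r.Prime] (hr2 : r ≠ 2)
    (htc : t ∈ commutator H) {V : Type*} [CommGroup V] [Finite V] (K : Subgroup V)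
    (hK : ∀ v ∈ K, v ^ r = 1) (act : H → V → V) (hinv : ∀ h, ∀ v ∈ K, act h v ∈ K)
    (h1 : ∀ v, act 1 v = v) (h2 : ∀ a b v, act (a * b) v = act a (act b v))
    (h3 : ∀ h v w, act h (v * w) = act h v * act h w) (ht : ∀ v, act t v = v⁻¹) :
    ∃ d : ℕ, Even d ∧ Nat.card K = r ^ d := by
  have iM : Module (ZMod r) (Additive K) := AddCommGroup.zmodModule fun x => by
    apply Additive.toMul.injective
    rw [toMul_nsmul, toMul_zero]
    exact Subtype.ext (hK _ (Additive.toMul x).2)
  let L0 : H → (Additive K →ₗ[ZMod r] Additive K) := fun h =>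
    (AddMonoidHom.mk' (fun x : Additive K =>
        Additive.ofMul (⟨act h (Additive.toMul x : K), hinv h _ (Additive.toMul x).2⟩ : K))
      (fun x y => by
        apply Additive.toMul.injective
        exact Subtype.ext (h3 h _ _))).toZModLinearMap r
  have hL0 : ∀ (h : H) (x : Additive K), (((Additive.toMul ((L0 h) x : Additive K)) : K) : V) = act h ((Additive.toMul x : K) : V) := by
    intro h x
    simp only [L0, AddMonoidHom.coe_toZModLinearMap, AddMonoidHom.mk'_apply, toMul_ofMul]
  let L : H →* Module.End (ZMod r) (Additive K) :=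
    { toFun := L0
      map_one' := by
        refine LinearMap.ext fun x => Additive.toMul.injective (Subtype.ext ?_)
        rw [hL0, Module.End.one_apply, h1]
      map_mul' := fun a b => by
        refine LinearMap.ext fun x => Additive.toMul.injective (Subtype.ext ?_)
        rw [Module.End.mul_apply, hL0, hL0, hL0, h2] }
  let d : H →* (ZMod r)ˣ := MonoidHom.toHomUnits (LinearMap.det.comp L)
  have hd : d t = 1 := MonoidHom.mem_ker.mp (Abelianization.commutator_subset_ker d htc)
  have hLt : L t = (-1 : ZMod r) • LinearMap.id := by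
    refine LinearMap.ext fun x => Additive.toMul.injective (Subtype.ext ?_)
    rw [LinearMap.smul_apply, LinearMap.id_apply, neg_one_smul]
    exact (hL0 t x).trans (ht _)
  refine ⟨Module.finrank (ZMod r) (Additive K), ?_, ?_⟩
  · have hdet : ((-1 : ZMod r)) ^ Module.finrank (ZMod r) (Additive K) = 1 := by
      have h := congrArg Units.val hd
      simp only [d, MonoidHom.coe_toHomUnits, MonoidHom.comp_apply, hLt, LinearMap.det_smul,
        LinearMap.det_id, mul_one, Units.val_one] at h
      exact h
    rcases Nat.even_or_odd (Module.finrank (ZMod r) (Additive K)) with he | ho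
    · exact he
    · rw [ho.neg_one_pow, neg_eq_iff_add_eq_zero, one_add_one_eq_two] at hdet
      have h3 : r ∣ 2 := (ZMod.natCast_eq_zero_iff 2 r).mp (by exact_mod_cast hdet)
      exact absurd ((Nat.prime_dvd_prime_iff_eq Fact.out Nat.prime_two).mp h3) hr2
  · rw [← Nat.card_congr (Additive.ofMul : K ≃ Additive K).symm,
      Module.natCard_eq_pow_finrank (K := ZMod r), Nat.card_zmod]

/-- If the involution lies in the derived subgroup, fixed-point-free modules have square order. -/
theorem isSquare_card {H : Type*} [Group H] [Finite H] {t : H} (htc : t ∈ commutator H)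
    (ht1 : t ≠ 1) (ht2 : t * t = 1) :
    ∀ (n : ℕ) (V : Type u) [CommGroup V] [Finite V] (ρ : H →* MulAut V),
      Lib.Frobenius.IsFPF ρ → Nat.card V ≤ n → Odd (Nat.card V) ∧ IsSquare (Nat.card V) := by
  intro n
  induction n with
  | zero => intro V _ _ _ _ h; have := Nat.card_pos (α := V); omega
  | succ n ih =>
  intro V _ _ ρ hρ hn
  rcases Nat.lt_or_ge (Nat.card V) 2 with h1 | h1
  · have := Nat.card_pos (α := V)
    rw [show Nat.card V = 1 by omega]
    exact ⟨odd_one, IsSquare.one⟩
  have htv : ∀ v : V, ρ t v = v⁻¹ := by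
    intro v
    have h := hρ t ht1 (ρ t v * v) (by
      rw [map_mul, ← MulAut.mul_apply, ← map_mul, ht2, map_one, MulAut.one_apply, mul_comm])
    exact eq_inv_of_mul_eq_one_left h
  obtain ⟨r, hr, hrd⟩ := Nat.exists_prime_and_dvd (show Nat.card V ≠ 1 by omega)
  have := Fact.mk hr
  have hr2 : r ≠ 2 := by
    rintro rfl
    obtain ⟨v, hv⟩ := exists_prime_orderOf_dvd_card' (G := V) 2 hrd
    have hv2 : v⁻¹ = v := inv_eq_of_mul_eq_one_right (by
      rw [← pow_two]; exact hv ▸ pow_orderOf_eq_one v)
    have := hρ t ht1 v ((htv v).trans hv2)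
    rw [this, orderOf_one] at hv
    omega
  let f : V →* V := powMonoidHom r
  have hinvK : ∀ (h : H), ∀ v ∈ f.ker, ρ h v ∈ f.ker := fun h v hv => by
    simp only [f, MonoidHom.mem_ker, powMonoidHom_apply] at hv ⊢
    rw [← map_pow, hv, map_one]
  have hinvR : ∀ (h : H), ∀ v ∈ f.range, ρ h v ∈ f.range := fun h v hv => by
    obtain ⟨w, rfl⟩ := hv
    exact ⟨ρ h w, by simp [f]⟩
  have hcard : Nat.card f.range * Nat.card f.ker = Nat.card V := by
    rw [← Nat.card_congr (QuotientGroup.quotientKerEquivRange f).toEquiv,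
      ← Subgroup.card_eq_card_quotient_mul_card_subgroup]
  have hker1 : 1 < Nat.card f.ker := by
    obtain ⟨v, hv⟩ := exists_prime_orderOf_dvd_card' (G := V) r hrd
    refine (Subgroup.one_lt_card_iff_ne_bot _).mpr fun hb => ?_
    have : v ∈ f.ker := by simp [f, MonoidHom.mem_ker, ← hv, pow_orderOf_eq_one]
    rw [hb, Subgroup.mem_bot] at this
    rw [this, orderOf_one] at hv
    exact hr.one_lt.ne hv
  let ρR : H →* MulAut f.range :=
    { toFun := fun h =>
        { toFun := fun v => ⟨ρ h v, hinvR h v v.2⟩
          invFun := fun v => ⟨ρ h⁻¹ v, hinvR h⁻¹ v v.2⟩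
          left_inv := fun v => Subtype.ext (by
            change ρ h⁻¹ (ρ h v) = v
            rw [← MulAut.mul_apply, ← map_mul, inv_mul_cancel, map_one, MulAut.one_apply])
          right_inv := fun v => Subtype.ext (by
            change ρ h (ρ h⁻¹ v) = v
            rw [← MulAut.mul_apply, ← map_mul, mul_inv_cancel, map_one, MulAut.one_apply])
          map_mul' := fun v w => Subtype.ext (map_mul (ρ h) _ _) }
      map_one' := by ext v; simp
      map_mul' := fun a b => by ext v; simp [map_mul] }
  have hR := ih f.range ρR (fun h hh v hv => Subtype.ext (hρ h hh v (congrArg Subtype.val hv)))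
    (by
      have h4 : Nat.card f.range * 2 ≤ Nat.card V := by
        rw [← hcard]; exact Nat.mul_le_mul_left _ hker1
      omega)
  -- the kernel is a vector space over `ZMod r` of even dimension
  have hkerE : ∀ v ∈ f.ker, v ^ r = 1 := fun v hv => hv
  obtain ⟨d, hdim, hK⟩ := even_dim (r := r) hr2 htc f.ker hkerE (fun h v => ρ h v) hinvK
    (fun v => by simp) (fun a b v => by simp [map_mul]) (fun h v w => map_mul (ρ h) v w) htv
  rw [← hcard, hK]
  refine ⟨hR.1.mul ((hr.odd_of_ne_two hr2).pow), hR.2.mul ?_⟩
  obtain ⟨e, he⟩ := hdim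
  exact ⟨r ^ e, by rw [he, pow_add]⟩

/-- Let H be a Frobenius complement in a finite group, and suppose some Sylow subgroup of H is not cyclic. Then the number of elements of the Frobenius kernel (the identity together with the elements lying in no conjugate of H) is an odd perfect square. -/
theorem result {L : Type*} [Group L] [Finite L] (H : Subgroup L) (hF : Cfsg.IsFrobeniusComplement H)
    (hZ : ∃ (p : ℕ) (_ : Fact p.Prime) (P : Sylow p H), ¬ IsCyclic P) :
    Odd (Nat.card (Cfsg.frobeniusKernel H)) ∧ IsSquare (Nat.card (Cfsg.frobeniusKernel H)) := by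
  classical
  obtain ⟨p, _, P, hP⟩ := hZ
  obtain ⟨N, hNn, -, hNc⟩ := Lib.Induced.FrobeniusKernel.exists_frobeniusKernel_subgroup hF
  have huniq := fun x y => Lib.Frobenius.zpowers_eq_of_isPGroup (p := p) hF hNc P.2 (x := x) (y := y)
  have hcyc : ∀ A : Subgroup (P : Subgroup H), IsMulCommutative A → IsCyclic A := by
    intro A hA
    let A' := A.map (P : Subgroup H).subtype
    have e : A ≃* A' := A.equivMapOfInjective _ Subtype.val_injective
    have : IsMulCommutative A' := ⟨⟨fun a b => e.symm.injective (by
      rw [map_mul, map_mul]; exact hA.is_comm.comm _ _)⟩⟩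
    have := Lib.Frobenius.isCyclic_of_commutative_complement hF hNc (A := A')
    exact e.isCyclic.mpr this
  have hnc : ¬ IsMulCommutative (P : Subgroup H) := fun h => hP (by
    have := Lib.Frobenius.isCyclic_of_commutative_complement hF hNc (A := (P : Subgroup H))
    exact this)
  have hp2 : p = 2 := by_contra fun hp2 => hnc (commutative_of_unique hp2 P.2 huniq hcyc)
  subst hp2
  obtain ⟨x, y, c, hyx, hc, -⟩ := exists_central_comm P.2 hnc
  set t : H := (c : H) with ht
  have htord : orderOf t = 2 := by rw [ht, Subgroup.orderOf_coe, hc]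
  have htc : t ∈ commutator H := by
    have h : c = ⁅y⁻¹, x⁻¹⁆ := by
      rw [commutatorElement_def, inv_inv, inv_inv, mul_assoc (y⁻¹ * x⁻¹), hyx]
      group
    rw [ht, h, ← Subgroup.coe_subtype, map_commutatorElement]
    exact Subgroup.commutator_mem_commutator (Subgroup.mem_top _) (Subgroup.mem_top _)
  have ht1 : t ≠ 1 := fun h => by simp [h] at htord
  have ht2 : t * t = 1 := by rw [← pow_two, ← htord, pow_orderOf_eq_one]
  obtain ⟨N', hN', hN'n, hN'c, -, hN'ab⟩ := Lib.Frobenius.exists_kernel_of_involution hF (t := (t : L))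
    t.2 (fun h => ht1 (Subtype.ext h)) (congrArg Subtype.val ht2)
  have hNH : H ≤ Subgroup.normalizer (N' : Set L) := by
    rw [Subgroup.normalizer_eq_top_iff.mpr hN'n]; exact le_top
  have hN'b : N' ≠ ⊥ := fun h => by
    have h2 := Lib.Frobenius.two_le_index hF
    rw [← Lib.Frobenius.card_frobeniusKernel hF, ← hN', h] at h2
    simp at h2
  have hfix := (Lib.Frobenius.isFrobeniusComplement_iff_centralizer hN'c hN'b hF.1).mp hF
  have hfpf := Lib.Frobenius.isFPF_conj hNH (fun a ha ha1 => hfix a ha ha1)
  letI : CommGroup N' := { (inferInstance : Group N') with mul_comm := hN'ab.is_comm.comm }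
  have hres := isSquare_card htc ht1 ht2 (Nat.card N') N' _ hfpf le_rfl
  rw [← hN']
  exact hres

end Cfsg.Agent.S4296
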