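import Cfsg.Statements.S4295
import Cfsg.Agent.Lib.FrobComplement.Build
import Cfsg.Agent.S4296

set_option autoImplicit false
open Cfsg

namespace Cfsg.Agent.S4295

/-- Powers of the quarter turn. -/
def rot {R : Type*} [CommRing R] (i : ZMod 4) (v : R × R) : R × R :=
  if i = 0 then v else if i = 1 then (-v.2, v.1) else if i = 2 then (-v.1, -v.2) else (v.2, -v.1)

/-- The second generator. -/
def refl {R : Type*} [CommRing R] (a b : R) (v : R × R) : R × R :=
  (a * v.1 + b * v.2, b * v.1 - a * v.2)

theorem zmod4_cases : ∀ i : ZMod 4, i = 0 ∨ i = 1 ∨ i = 2 ∨ i = 3 := by decide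

theorem rot_vals {R : Type*} [CommRing R] (v : R × R) :
    rot 0 v = v ∧ rot 1 v = (-v.2, v.1) ∧ rot 2 v = (-v.1, -v.2) ∧ rot 3 v = (v.2, -v.1) :=
  ⟨rfl, rfl, rfl, rfl⟩

theorem rot_add {R : Type*} [CommRing R] (i j : ZMod 4) (v : R × R) :
    rot (i + j) v = rot i (rot j v) := by
  rcases zmod4_cases i with rfl | rfl | rfl | rfl <;>
    rcases zmod4_cases j with rfl | rfl | rfl | rfl <;> simp [rot, (by decide : (2 : ZMod 4) ≠ 0),
      (by decide : (2 : ZMod 4) ≠ 1), (by decide : (3 : ZMod 4) ≠ 0), (by decide : (3 : ZMod 4) ≠ 1),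
      (by decide : (3 : ZMod 4) ≠ 2), (by decide : (1 : ZMod 4) ≠ 0), (by decide : (1 + 1 : ZMod 4) = 2),
      (by decide : (1 + 2 : ZMod 4) = 3), (by decide : (2 + 1 : ZMod 4) = 3),
      (by decide : (1 + 3 : ZMod 4) = 0), (by decide : (3 + 1 : ZMod 4) = 0),
      (by decide : (2 + 2 : ZMod 4) = 0), (by decide : (2 + 3 : ZMod 4) = 1),
      (by decide : (3 + 2 : ZMod 4) = 1), (by decide : (3 + 3 : ZMod 4) = 2)]

theorem rot_refl {R : Type*} [CommRing R] (a b : R) (i : ZMod 4) (v : R × R) :
    rot i (refl a b v) = refl a b (rot (-i) v) := by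
  obtain ⟨h0, h1, h2, h3⟩ := rot_vals (refl a b v)
  obtain ⟨g0, g1, g2, g3⟩ := rot_vals v
  rcases zmod4_cases i with rfl | rfl | rfl | rfl
  · rw [neg_zero, h0, g0]
  · rw [show -(1 : ZMod 4) = 3 by decide, h1, g3]
    simp only [refl, Prod.mk.injEq]; constructor <;> ring
  · rw [show -(2 : ZMod 4) = 2 by decide, h2, g2]
    simp only [refl, Prod.mk.injEq]; constructor <;> ring
  · rw [show -(3 : ZMod 4) = 1 by decide, h3, g1]
    simp only [refl, Prod.mk.injEq]; constructor <;> ring

theorem refl_refl {R : Type*} [CommRing R] {a b : R} (hab : a * a + b * b = -1) (v : R × R) :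
    refl a b (refl a b v) = rot 2 v := by
  rw [(rot_vals v).2.2.1]
  simp only [refl, Prod.mk.injEq]
  constructor
  · linear_combination v.1 * hab
  · linear_combination v.2 * hab

/-- The Frobenius group with complement the quaternion group and kernel of order `s * s`. -/
theorem exists_q8 (s : ℕ) (hs : Odd s) (hs1 : 1 < s) :
    ∃ (L : Type) (_ : Group L) (_ : Finite L) (C : Subgroup L),
      Cfsg.IsFrobeniusComplement C ∧ Nonempty (QuaternionGroup 2 ≃* C) ∧ C.index = s * s := by
  have : NeZero s := ⟨by omega⟩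
  -- a prime `≡ -1 (mod s)` and `≡ 1 (mod 4)` is a sum of two squares
  have hc4 : Nat.Coprime s 4 := (Nat.Coprime.pow_right 2 hs.coprime_two_right : Nat.Coprime s (2 ^ 2))
  obtain ⟨c, hc1, hc2⟩ := Nat.chineseRemainder hc4 (s - 1) 1
  have hcs : Nat.Coprime c s := by
    rw [Nat.Coprime, Nat.gcd_comm, Nat.gcd_rec, hc1, ← Nat.gcd_rec, Nat.gcd_comm]
    have : s = (s - 1) + 1 := by omega
    nth_rw 2 [this]
    simp
  have hc4' : Nat.Coprime c 4 := by
    rw [Nat.Coprime, Nat.gcd_comm, Nat.gcd_rec, hc2]
    rfl
  obtain ⟨P, -, hP, hPc⟩ := Nat.forall_exists_prime_gt_and_modEq 0 (q := s * 4) (a := c) (by omega)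
    (Nat.Coprime.mul_right hcs hc4')
  have := Fact.mk hP
  have hPs : P ≡ s - 1 [MOD s] := (hPc.of_mul_right 4).trans hc1
  have hP4 : P % 4 = 1 := (hPc.of_mul_left s).trans hc2
  obtain ⟨x, y, hxy⟩ := Nat.Prime.sq_add_sq (p := P) (by omega)
  have hab : ((x : ℕ) : ZMod s) * (x : ZMod s) + (y : ZMod s) * (y : ZMod s) = -1 := by
    have h1 : ((P : ℕ) : ZMod s) = ((s - 1 : ℕ) : ZMod s) :=
      (ZMod.natCast_eq_natCast_iff P (s - 1) s).mpr hPs
    rw [← hxy, Nat.cast_sub hs1.le, ZMod.natCast_self, zero_sub] at h1
    push_cast at h1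
    linear_combination h1
  set a : ZMod s := Nat.cast x with ha
  set b : ZMod s := Nat.cast y with hb
  let act : QuaternionGroup 2 → ZMod s × ZMod s → ZMod s × ZMod s
    | .a i, v => rot i v
    | .xa i, v => refl a b (rot i v)
  have hone : ∀ v, act (QuaternionGroup.a 0) v = v := fun v => (rot_vals v).1
  have hrotlin : ∀ (i : ZMod 4) (v w : ZMod s × ZMod s), rot i (v + w) = rot i v + rot i w := by
    intro i v w
    rcases zmod4_cases i with rfl | rfl | rfl | rfl
    · rw [(rot_vals _).1, (rot_vals _).1, (rot_vals _).1]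
    · rw [(rot_vals _).2.1, (rot_vals _).2.1, (rot_vals _).2.1]
      refine Prod.ext ?_ ?_ <;> simp [add_comm]
    · rw [(rot_vals _).2.2.1, (rot_vals _).2.2.1, (rot_vals _).2.2.1]
      refine Prod.ext ?_ ?_ <;> simp [add_comm]
    · rw [(rot_vals _).2.2.2, (rot_vals _).2.2.2, (rot_vals _).2.2.2]
      refine Prod.ext ?_ ?_ <;> simp [add_comm]
  letI : DistribMulAction (QuaternionGroup 2) (ZMod s × ZMod s) :=
    { smul := act
      one_smul := fun v => hone v
      mul_smul := fun g h v => by
        change act (g * h) v = act g (act h v)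
        rcases g with i | i <;> rcases h with j | j
        · exact rot_add i j v
        · rw [QuaternionGroup.a_mul_xa]
          change refl a b (rot (j - i) v) = rot i (refl a b (rot j v))
          rw [rot_refl, ← rot_add, neg_add_eq_sub]
        · rw [QuaternionGroup.xa_mul_a]
          change refl a b (rot (i + j) v) = refl a b (rot i (rot j v))
          rw [← rot_add]
        · rw [QuaternionGroup.xa_mul_xa]
          change rot ((2 : ℕ) + j - i) v = refl a b (rot i (refl a b (rot j v)))
          rw [rot_refl a b i, refl_refl hab, ← rot_add, ← rot_add]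
          congr 1
          push_cast
          abel
      smul_zero := fun g => by
        have hrot0 : ∀ i : ZMod 4, rot i (0 : ZMod s × ZMod s) = 0 := fun i => by
          have := hrotlin i 0 0
          simpa using this
        rcases g with i | i
        · exact hrot0 i
        · change refl a b (rot i 0) = 0
          rw [hrot0]
          simp [refl]
      smul_add := fun g v w => by
        change act g (v + w) = act g v + act g w
        rcases g with i | i
        · exact hrotlin i v w
        · change refl a b (rot i (v + w)) = refl a b (rot i v) + refl a b (rot i w)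
          rw [hrotlin]
          simp only [refl, Prod.fst_add, Prod.snd_add, Prod.mk_add_mk, Prod.mk.injEq]
          constructor <;> ring }
  have : Nontrivial (ZMod s × ZMod s) := by
    have : Fact (1 < s) := ⟨hs1⟩
    infer_instance
  -- the square of every element other than the central ones negates
  have hsq : ∀ h : QuaternionGroup 2, h ≠ 1 → h = QuaternionGroup.a 2 ∨ h * h = QuaternionGroup.a 2 := by
    decide
  obtain ⟨L, i1, i2, C, h1, h2, h3⟩ := Lib.FrobComplement.Build.of_fixedPointFree_index
    (H := QuaternionGroup 2) (V := ZMod s × ZMod s) fun h hh v hv => by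
      have h2v : (QuaternionGroup.a 2 : QuaternionGroup 2) • v = v := by
        rcases hsq h hh with h1 | h1
        · rw [← h1]; exact hv
        · rw [← h1, mul_smul, hv, hv]
      have h2v' : rot (2 : ZMod 4) v = v := h2v
      rw [(rot_vals v).2.2.1, Prod.ext_iff] at h2v'
      have hu : IsUnit ((2 : ℕ) : ZMod s) := (ZMod.isUnit_iff_coprime 2 s).mpr hs.coprime_two_left
      refine Prod.ext ?_ ?_
      · exact hu.mul_right_eq_zero.mp (by push_cast; linear_combination (-1 : ZMod s) * h2v'.1)
      · exact hu.mul_right_eq_zero.mp (by push_cast; linear_combination (-1 : ZMod s) * h2v'.2)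
  refine ⟨L, i1, i2, C, h1, h2, ?_⟩
  rw [h3, Nat.card_prod, Nat.card_zmod]

/-- For a natural number m the following are equivalent: (a) some finite group has a Frobenius complement isomorphic to the quaternion group of order 8 whose Frobenius kernel (the identity together with the elements lying in no conjugate of the complement) has exactly m elements; (b) m is an odd perfect square greater than 1. -/
theorem result (m : ℕ) :
    (∃ (L : Type) (_ : Group L) (_ : Finite L) (H : Subgroup L), Cfsg.IsFrobeniusComplement H ∧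
        Nonempty (H ≃* QuaternionGroup 2) ∧ Nat.card (Cfsg.frobeniusKernel H) = m) ↔
    (Odd m ∧ IsSquare m ∧ 1 < m) := by
  constructor
  · rintro ⟨L, _, _, H, hF, ⟨e⟩, rfl⟩
    have hnc : ¬ IsMulCommutative (QuaternionGroup 2) := fun h => by
      have := h.is_comm.comm (QuaternionGroup.a 1) (QuaternionGroup.xa 0)
      revert this
      decide
    have hZ : ∃ (p : ℕ) (_ : Fact p.Prime) (P : Sylow p H), ¬ IsCyclic P := by
      refine ⟨2, ⟨Nat.prime_two⟩, default, fun hcyc => hnc ?_⟩
      have := Fact.mk Nat.prime_two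
      have htop : ((default : Sylow 2 H) : Subgroup H) = ⊤ := by
        refine Subgroup.eq_top_of_le_card _ ?_
        rw [(default : Sylow 2 H).card_eq_multiplicity, Nat.card_congr e.toEquiv,
          Nat.card_eq_fintype_card, QuaternionGroup.card]
        have h8 : (8 : ℕ).factorization 2 = 3 := by
          rw [show (8 : ℕ) = 2 ^ 3 by norm_num, Nat.Prime.factorization_pow Nat.prime_two,
            Finsupp.single_eq_same]
        norm_num [h8]
      have : IsCyclic (⊤ : Subgroup H) := htop ▸ hcyc
      have : IsCyclic (QuaternionGroup 2) := (e.symm.trans Subgroup.topEquiv.symm).isCyclic.mpr this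
      exact IsCyclic.isMulCommutative
    obtain ⟨h1, h2⟩ := S4296.result H hF hZ
    exact ⟨h1, h2, (Lib.Frobenius.card_frobeniusKernel hF).symm ▸ Lib.Frobenius.two_le_index hF⟩
  · rintro ⟨hodd, ⟨s, rfl⟩, h1⟩
    have hs : Odd s := (Nat.odd_mul.mp hodd).1
    have hs1 : 1 < s := by
      by_contra h
      interval_cases s <;> omega
    obtain ⟨L, i1, i2, C, hC, ⟨e⟩, hidx⟩ := exists_q8 s hs hs1
    exact ⟨L, i1, i2, C, hC, ⟨e.symm⟩, (Lib.Frobenius.card_frobeniusKernel hC).trans hidx⟩

end Cfsg.Agent.S4295
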