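import Cfsg.Statements.S4297
import Cfsg.Agent.Lib.FrobComplement.Build

set_option autoImplicit false
open Cfsg

namespace Cfsg.Agent.S4297

/-- For every n ≥ 2 the dicyclic group of order 4n (generated by an element a of order 2n and an element x with x² = aⁿ and x a x⁻¹ = a⁻¹) occurs as a Frobenius complement of some finite Frobenius group. -/
theorem result (n : ℕ) (hn : 2 ≤ n) :
    ∃ (L : Type) (_ : Group L) (_ : Finite L) (H : Subgroup L), Cfsg.IsFrobeniusComplement H ∧ Nonempty (H ≃* QuaternionGroup n) := by
  classical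
  have : NeZero n := ⟨by omega⟩
  obtain ⟨r, hr, hrbig, hmod⟩ := Nat.exists_prime_gt_modEq_one (k := 2 * n) 2 (by omega)
  have := Fact.mk hr
  obtain ⟨g, hg⟩ := IsCyclic.exists_generator (α := (ZMod r)ˣ)
  have hgo : orderOf g = r - 1 := by
    rw [orderOf_eq_card_of_forall_mem_zpowers hg, Nat.card_eq_fintype_card, ZMod.card_units]
  have hdvd : 2 * n ∣ r - 1 := (Nat.modEq_iff_dvd' hr.one_le).mp hmod.symm
  have huo : orderOf (g ^ ((r - 1) / (2 * n))) = 2 * n := by
    rw [← hgo]; exact orderOf_pow_orderOf_div (orderOf_pos g).ne' (hgo ▸ hdvd)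
  set u := g ^ ((r - 1) / (2 * n)) with hu
  let e : ZMod (2 * n) → ZMod r := fun i => ((u ^ i.val : (ZMod r)ˣ) : ZMod r)
  have he_add : ∀ i j, e (i + j) = e i * e j := fun i j => by
    simp only [e, ← Units.val_mul, ← pow_add]
    congr 1
    rw [pow_eq_pow_iff_modEq, huo, ZMod.val_add]
    exact Nat.mod_modEq _ _
  have he0 : e 0 = 1 := by simp [e]
  have he_inj : ∀ i, e i = 1 → i = 0 := fun i hi => by
    have h1 : u ^ i.val = 1 := Units.ext hi
    have h2 := orderOf_dvd_of_pow_eq_one h1
    rw [huo] at h2
    exact (ZMod.val_eq_zero i).mp (Nat.eq_zero_of_dvd_of_lt h2 (ZMod.val_lt i))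
  have hen : e (n : ZMod (2 * n)) = -1 := by
    have h1 : e (n : ZMod (2 * n)) * e (n : ZMod (2 * n)) = 1 := by
      rw [← he_add, ← Nat.cast_add, ← two_mul, ZMod.natCast_self, he0]
    refine (mul_self_eq_one_iff.mp h1).resolve_left fun h2 => ?_
    have h3 := he_inj _ h2
    rw [ZMod.natCast_eq_zero_iff] at h3
    have := Nat.le_of_dvd (by omega) h3
    omega
  have hsub : ∀ i j, e i * e (j - i) = e j := fun i j => by rw [← he_add, add_sub_cancel]
  let act : QuaternionGroup n → ZMod r × ZMod r → ZMod r × ZMod r
    | .a i, v => (e i * v.1, e (-i) * v.2)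
    | .xa i, v => (-(e (-i) * v.2), e i * v.1)
  letI : DistribMulAction (QuaternionGroup n) (ZMod r × ZMod r) :=
    { smul := act
      one_smul := fun v => by
        change act (QuaternionGroup.a 0) v = v
        simp only [act, he0, neg_zero, one_mul]
      mul_smul := fun x y v => by
        change act (x * y) v = act x (act y v)
        rcases x with i | i <;> rcases y with j | j
        · rw [QuaternionGroup.a_mul_a]
          simp only [act, he_add, neg_add, mul_assoc]
        · rw [QuaternionGroup.a_mul_xa]
          simp only [act, sub_eq_add_neg, he_add, neg_add, neg_neg, Prod.mk.injEq]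
          constructor <;> ring
        · rw [QuaternionGroup.xa_mul_a]
          simp only [act, he_add, neg_add, Prod.mk.injEq]
          constructor <;> ring
        · rw [QuaternionGroup.xa_mul_xa]
          have hn' : (-(n : ZMod (2 * n))) = (n : ZMod (2 * n)) := by
            rw [neg_eq_iff_add_eq_zero, ← Nat.cast_add, ← two_mul, ZMod.natCast_self]
          simp only [act, sub_eq_add_neg, he_add, neg_add, neg_neg, hn', hen, Prod.mk.injEq]
          constructor <;> ring
      smul_zero := fun x => by
        change act x 0 = 0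
        cases x <;> simp [act]
      smul_add := fun x v w => by
        change act x (v + w) = act x v + act x w
        cases x <;> simp only [act, Prod.fst_add, Prod.snd_add, Prod.mk_add_mk, Prod.mk.injEq] <;>
          constructor <;> ring }
  obtain ⟨L, hL1, hL2, C, hC, ⟨f⟩⟩ := Lib.FrobComplement.Build.of_fixedPointFree
    (H := QuaternionGroup n) (V := ZMod r × ZMod r) fun h hh v hv => by
      have hv' : act h v = v := hv
      rcases h with i | i
      · have h1 : e i ≠ 1 := fun hc => hh (by rw [he_inj i hc]; rfl)
        have h2 : e (-i) ≠ 1 := fun hc => hh (by rw [neg_eq_zero.mp (he_inj _ hc)]; rfl)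
        simp only [act, Prod.ext_iff] at hv'
        refine Prod.ext ?_ ?_
        · by_contra h0; exact h1 ((mul_eq_right₀ h0).mp hv'.1)
        · by_contra h0; exact h2 ((mul_eq_right₀ h0).mp hv'.2)
      · simp only [act, Prod.ext_iff] at hv'
        have hee : e i * e (-i) = 1 := by rw [← he_add, add_neg_cancel, he0]
        have h20 : (2 : ZMod r) ≠ 0 := fun h2 => by
          have h3 : (r : ℕ) ∣ 2 := (ZMod.natCast_eq_zero_iff 2 r).mp (by exact_mod_cast h2)
          have := Nat.le_of_dvd (by norm_num) h3
          omega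
        have hy : v.2 = 0 := by
          have h4 : (2 : ZMod r) * v.2 = 0 := by
            linear_combination (-1 : ZMod r) * hv'.2 + e i * (-1) * hv'.1 + (-1 : ZMod r) * v.2 * hee
          exact (mul_eq_zero.mp h4).resolve_left h20
        refine Prod.ext ?_ hy
        rw [← hv'.1, hy]
        simp
  exact ⟨L, hL1, hL2, C, hC, ⟨f.symm⟩⟩

end Cfsg.Agent.S4297
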