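import Cfsg.Statements.S4298
import Cfsg.Agent.Lib.FrobComplement.Build

set_option autoImplicit false
open Cfsg

namespace Cfsg.Agent.S4298

/-- The table of an embedding of SL(2,3) into SL(2,5), entries in base 5. -/
def table : List ℕ := [0, 0, 0, 0, 0, 0, 0, 0, 0, 0, 0, 0, 0, 0, 0, 105, 369, 431, 0, 0, 0, 45, 349, 411, 0, 0, 0, 0, 126, 0, 0, 183, 0, 0, 471, 0, 0, 163, 0, 0, 0, 60, 557, 0, 0, 0, 491, 0, 537, 0, 0, 0, 0, 377, 0, 0, 504, 0, 0, 309, 0, 0, 597, 0, 0, 289, 0, 253, 0, 243, 0, 0, 0, 0, 617, 223, 0, 0, 0, 90, 0]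

/-- Quadruples as matrices `(a b; c d)`. -/
abbrev Quad (p : ℕ) := ZMod p × ZMod p × ZMod p × ZMod p

/-- Matrix product on quadruples. -/
def qmul {p : ℕ} (x y : Quad p) : Quad p :=
  (x.1 * y.1 + x.2.1 * y.2.2.1, x.1 * y.2.1 + x.2.1 * y.2.2.2,
    x.2.2.1 * y.1 + x.2.2.2 * y.2.2.1, x.2.2.1 * y.2.1 + x.2.2.2 * y.2.2.2)

/-- Determinant of a quadruple. -/
def qdet {p : ℕ} (x : Quad p) : ZMod p := x.1 * x.2.2.2 - x.2.1 * x.2.2.1

/-- The embedding. -/
def emb (x : Quad 3) : Quad 5 :=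
  let k := table.getD (x.1.val * 27 + x.2.1.val * 9 + x.2.2.1.val * 3 + x.2.2.2.val) 0
  ((k / 125 : ℕ), (k / 25 % 5 : ℕ), (k / 5 % 5 : ℕ), (k % 5 : ℕ))

/-- The action on column vectors. -/
def qact {p : ℕ} (x : Quad p) (v : ZMod p × ZMod p) : ZMod p × ZMod p :=
  (x.1 * v.1 + x.2.1 * v.2, x.2.2.1 * v.1 + x.2.2.2 * v.2)

theorem emb_hom : ∀ x y : Quad 3, qdet x = 1 → qdet y = 1 →
    emb (qmul x y) = qmul (emb x) (emb y) := by decide +kernel

theorem emb_one : emb (1, 0, 0, 1) = (1, 0, 0, 1) := by decide +kernel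

theorem emb_free : ∀ x : Quad 3, qdet x = 1 → x ≠ (1, 0, 0, 1) →
    ∀ v : ZMod 5 × ZMod 5, qact (emb x) v = v → v = 0 := by decide +kernel

theorem qact_qmul {p : ℕ} (x y : Quad p) (v : ZMod p × ZMod p) :
    qact (qmul x y) v = qact x (qact y v) := by
  simp only [qact, qmul, Prod.mk.injEq]; constructor <;> ring

/-- The quadruple of an element of SL(2,3). -/
def quad (h : Matrix.SpecialLinearGroup (Fin 2) (ZMod 3)) : Quad 3 := (h 0 0, h 0 1, h 1 0, h 1 1)

theorem qdet_quad (h : Matrix.SpecialLinearGroup (Fin 2) (ZMod 3)) : qdet (quad h) = 1 := by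
  have := h.det_coe
  rw [Matrix.det_fin_two] at this
  exact this

theorem quad_mul (g h : Matrix.SpecialLinearGroup (Fin 2) (ZMod 3)) :
    quad (g * h) = qmul (quad g) (quad h) := by
  simp [quad, qmul, Matrix.mul_apply, Fin.sum_univ_two]

/-- The group SL(2,3) of order 24 (the binary tetrahedral group) occurs as a Frobenius complement of some finite Frobenius group. -/
theorem result :
    ∃ (L : Type) (_ : Group L) (_ : Finite L) (H : Subgroup L), Cfsg.IsFrobeniusComplement H ∧ Nonempty (H ≃* Matrix.SpecialLinearGroup (Fin 2) (ZMod 3)) := by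
  have hone : quad 1 = (1, 0, 0, 1) := by simp [quad]
  letI : DistribMulAction (Matrix.SpecialLinearGroup (Fin 2) (ZMod 3)) (ZMod 5 × ZMod 5) :=
    { smul := fun h v => qact (emb (quad h)) v
      one_smul := fun v => by
        change qact (emb (quad 1)) v = v
        rw [hone, emb_one]; simp [qact]
      mul_smul := fun g h v => by
        change qact (emb (quad (g * h))) v = qact (emb (quad g)) (qact (emb (quad h)) v)
        rw [quad_mul, emb_hom _ _ (qdet_quad g) (qdet_quad h), qact_qmul]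
      smul_zero := fun g => by
        change qact (emb (quad g)) 0 = 0
        simp [qact]
      smul_add := fun g v w => by
        change qact (emb (quad g)) (v + w) = qact (emb (quad g)) v + qact (emb (quad g)) w
        simp only [qact, Prod.fst_add, Prod.snd_add, Prod.mk_add_mk, Prod.mk.injEq]
        constructor <;> ring }
  have : Fact (Nat.Prime 5) := ⟨by norm_num⟩
  have : Nontrivial (Matrix.SpecialLinearGroup (Fin 2) (ZMod 3)) :=
    ⟨⟨⟨!![1, 1; 0, 1], by simp [Matrix.det_fin_two]⟩, 1, fun h => by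
      have := congrArg (fun m : Matrix.SpecialLinearGroup (Fin 2) (ZMod 3) => m 0 1) h
      simp at this⟩⟩
  obtain ⟨L, hL1, hL2, C, hC, ⟨e⟩⟩ := Lib.FrobComplement.Build.of_fixedPointFree
    (H := Matrix.SpecialLinearGroup (Fin 2) (ZMod 3)) (V := ZMod 5 × ZMod 5) fun h hh v hv => by
      refine emb_free (quad h) (qdet_quad h) (fun he => hh ?_) v hv
      simp only [quad, Prod.mk.injEq] at he
      ext i j
      fin_cases i <;> fin_cases j <;> simp_all
  exact ⟨L, hL1, hL2, C, hC, ⟨e.symm⟩⟩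

end Cfsg.Agent.S4298
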