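import Cfsg.Statements.S4299
import Cfsg.Agent.Lib.FrobComplement.Build

set_option autoImplicit false
open Cfsg

namespace Cfsg.Agent.S4299

/-- Every nontrivial finite cyclic group occurs as a Frobenius complement of some finite Frobenius group. -/
theorem result {C : Type*} [Group C] [Finite C] [IsCyclic C] [Nontrivial C] :
    ∃ (L : Type) (_ : Group L) (_ : Finite L) (H : Subgroup L), Cfsg.IsFrobeniusComplement H ∧ Nonempty (C ≃* H) := by
  set n := Nat.card C with hn
  have hn1 : 1 < n := Finite.one_lt_card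
  obtain ⟨r, hr, -, hmod⟩ := Nat.exists_prime_gt_modEq_one n (show n ≠ 0 by omega)
  have := Fact.mk hr
  obtain ⟨g, hg⟩ := IsCyclic.exists_generator (α := (ZMod r)ˣ)
  have hgo : orderOf g = r - 1 := by
    rw [orderOf_eq_card_of_forall_mem_zpowers hg, Nat.card_eq_fintype_card, ZMod.card_units]
  have hdvd : n ∣ r - 1 := (Nat.modEq_iff_dvd' hr.one_le).mp hmod.symm
  set u := g ^ ((r - 1) / n) with hu
  have hcard : Nat.card C = Nat.card (Subgroup.zpowers u) := by
    have h2 : 2 ≤ r := hr.two_le
    rw [Nat.card_zpowers, hu, ← hgo, orderOf_pow_orderOf_div (orderOf_pos g).ne' (hgo ▸ hdvd)]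
  let f : C →* (ZMod r)ˣ :=
    (Subgroup.zpowers u).subtype.comp (mulEquivOfCyclicCardEq hcard).toMonoidHom
  have hf : Function.Injective f :=
    Subtype.val_injective.comp (mulEquivOfCyclicCardEq hcard).injective
  letI : DistribMulAction C (ZMod r) := DistribMulAction.compHom (ZMod r) f
  refine Lib.FrobComplement.Build.of_fixedPointFree (H := C) (V := ZMod r) fun h hh v hv => ?_
  change ((f h : (ZMod r)ˣ) : ZMod r) * v = v at hv
  by_contra hv0
  refine hh (hf (Units.ext ?_))
  rw [map_one, Units.val_one]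
  exact (mul_eq_right₀ hv0).mp hv

end Cfsg.Agent.S4299
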