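import Cfsg.Statements.S4300

set_option autoImplicit false
open Cfsg

namespace Cfsg.Agent.S4300

/-- Let G act faithfully and primitively on a set X, and suppose the stabilizer of some point is a simple group. Then either G is simple, or G has a normal subgroup, neither trivial nor the whole group, that acts regularly on X (transitively with trivial point stabilizers). -/
theorem result {G : Type*} [Group G] {X : Type*} [MulAction G X] [FaithfulSMul G X]
    (hprim : MulAction.IsPreprimitive G X) (x : X) (hsimple : IsSimpleGroup (MulAction.stabilizer G x)) :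
    IsSimpleGroup G ∨ ∃ N : Subgroup G, N.Normal ∧ N ≠ ⊥ ∧ N ≠ ⊤ ∧
      MulAction.IsPretransitive N X ∧ ∀ y : X, MulAction.stabilizer N y = ⊥ := by
  classical
  have hnt : Nontrivial G := by
    have := hsimple.toNontrivial
    exact Subtype.val_injective.nontrivial (α := MulAction.stabilizer G x)
  by_cases hS : IsSimpleGroup G
  · exact Or.inl hS
  right
  obtain ⟨N, hN, hNb, hNt⟩ : ∃ N : Subgroup G, N.Normal ∧ N ≠ ⊥ ∧ N ≠ ⊤ := by
    by_contra hcon
    push Not at hcon
    exact hS ⟨fun N hN => or_iff_not_imp_left.mpr fun hb => hcon N hN hb⟩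
  have hfix : MulAction.fixedPoints N X ≠ Set.univ := by
    intro h
    refine hNb ((Subgroup.eq_bot_iff_forall N).mpr fun n hn => ?_)
    refine eq_of_smul_eq_smul (α := X) fun y => ?_
    rw [one_smul]
    exact (h ▸ Set.mem_univ y : y ∈ MulAction.fixedPoints N X) ⟨n, hn⟩
  have htr : MulAction.IsPretransitive N X :=
    MulAction.IsQuasiPreprimitive.isPretransitive_of_normal hfix
  have hreg : ∀ n : N, n • x = x → n = 1 := by
    have hnorm : (N.subgroupOf (MulAction.stabilizer G x)).Normal := hN.subgroupOf _
    rcases hsimple.eq_bot_or_eq_top_of_normal _ hnorm with h | h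
    · intro n hn
      have h1 : (⟨(n : G), hn⟩ : MulAction.stabilizer G x) ∈
          N.subgroupOf (MulAction.stabilizer G x) := n.2
      rw [h, Subgroup.mem_bot] at h1
      have h2 := congrArg (fun z : MulAction.stabilizer G x => (z : G)) h1
      exact Subtype.ext h2
    · exfalso
      refine hNt ((Subgroup.eq_top_iff' N).mpr fun g => ?_)
      obtain ⟨n, hn⟩ := MulAction.exists_smul_eq N x (g • x)
      have h1 : (n : G)⁻¹ * g ∈ N := Subgroup.subgroupOf_eq_top.mp h
        (MulAction.mem_stabilizer_iff.mpr (by rw [mul_smul, inv_smul_eq_iff]; exact hn.symm))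
      simpa using N.mul_mem n.2 h1
  refine ⟨N, hN, hNb, hNt, htr, fun y => (Subgroup.eq_bot_iff_forall _).mpr fun n hn => ?_⟩
  obtain ⟨m, rfl⟩ := MulAction.exists_smul_eq N x y
  have h2 : (m⁻¹ * n * m) • x = x := by
    rw [mul_smul, mul_smul, MulAction.mem_stabilizer_iff.mp hn, inv_smul_smul]
  have h3 := hreg _ h2
  calc n = m * (m⁻¹ * n * m) * m⁻¹ := by group
    _ = 1 := by rw [h3]; group

end Cfsg.Agent.S4300
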