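import Cfsg.Statements.S4301
import Mathlib.Tactic
-- import your own Cfsg.Agent.* helpers here

set_option autoImplicit false
open Cfsg

namespace Cfsg.Agent.S4301

/-- One-point extension of a multiply transitive group. Let X be a set and G a group of permutations of Option X (the set X with one extra point ∗ = none) all of whose elements fix ∗, such that G is k-transitive on the points of X for some k ≥ 2, X having at least k points. Suppose a permutation h of Option X and an element g of G satisfy: h interchanges ∗ with a point x of X and fixes a point y of X; g interchanges x and y; (g h)³ and h² lie in G; and for every f in G fixing x, the product h f h lies in G and fixes x. Then an element of the group generated by G and h fixes ∗ exactly when it lies in G, and that group acts (k+1)-transitively on Option X. -/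
theorem result {X : Type*} (G : Subgroup (Equiv.Perm (Option X))) (hfix : ∀ f ∈ G, f none = none)
    (k : ℕ) (hk : 2 ≤ k) (hkX : Nonempty (Fin k ↪ X))
    (htrans : ∀ a b : Fin k ↪ X, ∃ f ∈ G, ∀ i, f (some (a i)) = some (b i))
    (h g : Equiv.Perm (Option X)) (hg : g ∈ G) (x y : X)
    (h1 : h none = some x) (h2 : h (some x) = none) (h3 : h (some y) = some y)
    (h4 : g (some x) = some y) (h5 : g (some y) = some x)
    (h6 : (g * h) ^ 3 ∈ G) (h7 : h ^ 2 ∈ G)
    (h8 : ∀ f ∈ G, f (some x) = some x → h * f * h ∈ G ∧ (h * f * h) (some x) = some x) :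
    (∀ f ∈ Subgroup.closure ((G : Set (Equiv.Perm (Option X))) ∪ {h}), f none = none ↔ f ∈ G) ∧
      MulAction.IsMultiplyPretransitive (Subgroup.closure ((G : Set (Equiv.Perm (Option X))) ∪ {h})) (Option X) (k + 1) := by
  classical
  obtain ⟨e0⟩ := hkX
  have hxy : x ≠ y := fun hh => by
    have h3' := h3; rw [← hh] at h3'; rw [h3'] at h2; exact Option.some_ne_none _ h2
  -- two-transitivity on `X`
  have two : ∀ a₁ a₂ b₁ b₂ : X, a₁ ≠ a₂ → b₁ ≠ b₂ →
      ∃ f ∈ G, f (some a₁) = some b₁ ∧ f (some a₂) = some b₂ := by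
    intro a₁ a₂ b₁ b₂ ha hb
    let i : Fin k := ⟨0, by omega⟩
    let j : Fin k := ⟨1, by omega⟩
    have mk : ∀ c₁ c₂ : X, c₁ ≠ c₂ → ∃ a : Fin k ↪ X, a i = c₁ ∧ a j = c₂ := by
      intro c₁ c₂ hc
      let s := Equiv.swap (e0 i) c₁
      refine ⟨e0.trans (s.trans (Equiv.swap (s (e0 j)) c₂)).toEmbedding, ?_, ?_⟩
      · show Equiv.swap (s (e0 j)) c₂ (s (e0 i)) = c₁
        rw [show s (e0 i) = c₁ from Equiv.swap_apply_left _ _]
        refine Equiv.swap_apply_of_ne_of_ne ?_ hc
        intro he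
        have : s (e0 i) = s (e0 j) := (Equiv.swap_apply_left _ _).trans he
        have := congrArg Fin.val (e0.injective (s.injective this))
        simp [i, j] at this
      · exact Equiv.swap_apply_left _ _
    obtain ⟨a, ha1, ha2⟩ := mk a₁ a₂ ha
    obtain ⟨b, hb1, hb2⟩ := mk b₁ b₂ hb
    obtain ⟨f, hf, hfe⟩ := htrans a b
    exact ⟨f, hf, by rw [← ha1, ← hb1]; exact hfe i, by rw [← ha2, ← hb2]; exact hfe j⟩
  have dec : ∀ f ∈ G, f (some x) ≠ some x → ∃ a ∈ G, a (some x) = some x ∧ ∃ b ∈ G,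
      b (some x) = some x ∧ f = a * g * b := by
    intro f hf hfx
    obtain ⟨z, hz⟩ : ∃ z, f (some x) = some z := by
      rcases hcase : f (some x) with _ | z
      · exact absurd (f.injective (hcase.trans (hfix f hf).symm)) (Option.some_ne_none x)
      · exact ⟨z, rfl⟩
    obtain ⟨a, ha, hax, hay⟩ := two x y x z hxy (fun hh => hfx (by rw [hz, hh]))
    refine ⟨a, ha, hax, (a * g)⁻¹ * f, mul_mem (inv_mem (mul_mem ha hg)) hf, ?_, by group⟩
    rw [Equiv.Perm.mul_apply, hz, Equiv.Perm.inv_eq_iff_eq, Equiv.Perm.mul_apply, h4, hay]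
  let S : Set (Equiv.Perm (Option X)) := {f | f ∈ G ∨ ∃ a ∈ G, ∃ b ∈ G, f = a * h * b}
  have hinv : h⁻¹ = (h ^ 2)⁻¹ * h := by group
  have hgh : ∃ a ∈ G, ∃ b ∈ G, h * g * h = a * h * b := by
    refine ⟨g⁻¹ * (g * h) ^ 3 * (h ^ 2)⁻¹, mul_mem (mul_mem (inv_mem hg) h6) (inv_mem h7),
      g⁻¹, inv_mem hg, ?_⟩
    simp only [pow_succ, pow_zero, one_mul]
    group
  have hhfh : ∀ f ∈ G, h * f * h ∈ S := by
    intro f hf
    by_cases hfx : f (some x) = some x
    · exact Or.inl (h8 f hf hfx).1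
    obtain ⟨a, ha, hax, b, hb, hbx, rfl⟩ := dec f hf hfx
    obtain ⟨u, hu, v, hv, huv⟩ := hgh
    refine Or.inr ⟨(h * a * h) * (h ^ 2)⁻¹ * u, mul_mem (mul_mem (h8 a ha hax).1 (inv_mem h7)) hu,
      v * (h ^ 2)⁻¹ * (h * b * h), mul_mem (mul_mem hv (inv_mem h7)) (h8 b hb hbx).1, ?_⟩
    calc h * (a * g * b) * h = (h * a * h) * (h ^ 2)⁻¹ * (h * g * h) * (h ^ 2)⁻¹ * (h * b * h) := by
          group
      _ = _ := by rw [huv]; simp only [mul_assoc]
  have hmulG : ∀ u ∈ G, ∀ s ∈ S, ∀ v ∈ G, u * s * v ∈ S := by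
    rintro u hu s (hs | ⟨a, ha, b, hb, rfl⟩) v hv
    · exact Or.inl (mul_mem (mul_mem hu hs) hv)
    · exact Or.inr ⟨u * a, mul_mem hu ha, b * v, mul_mem hb hv, by simp only [mul_assoc]⟩
  let C : Subgroup (Equiv.Perm (Option X)) :=
    { carrier := S
      one_mem' := Or.inl (one_mem G)
      mul_mem' := by
        rintro s t (hs | ⟨a, ha, b, hb, rfl⟩) ht
        · simpa using hmulG s hs t ht 1 (one_mem G)
        rcases ht with ht | ⟨c, hc, d, hd, rfl⟩
        · exact Or.inr ⟨a, ha, b * t, mul_mem hb ht, by simp only [mul_assoc]⟩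
        · rw [show a * h * b * (c * h * d) = a * (h * (b * c) * h) * d by simp only [mul_assoc]]
          exact hmulG a ha _ (hhfh _ (mul_mem hb hc)) d hd
      inv_mem' := by
        rintro s (hs | ⟨a, ha, b, hb, rfl⟩)
        · exact Or.inl (inv_mem hs)
        · exact Or.inr ⟨b⁻¹ * (h ^ 2)⁻¹, mul_mem (inv_mem hb) (inv_mem h7), a⁻¹, inv_mem ha,
            by simp only [mul_inv_rev, mul_assoc, hinv]⟩ }
  have hle : Subgroup.closure ((G : Set (Equiv.Perm (Option X))) ∪ {h}) ≤ C := by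
    rw [Subgroup.closure_le]
    rintro f (hf | rfl)
    · exact Or.inl hf
    · exact Or.inr ⟨1, one_mem _, 1, one_mem _, by simp⟩
  set Cl := Subgroup.closure ((G : Set (Equiv.Perm (Option X))) ∪ {h})
  have hGC : ∀ f ∈ G, f ∈ Cl := fun f hf => Subgroup.subset_closure (Or.inl hf)
  have hhC : h ∈ Cl := Subgroup.subset_closure (Or.inr rfl)
  refine ⟨fun f hf => ⟨fun hfn => ?_, hfix f⟩, ⟨fun a b => ?_⟩⟩
  · rcases hle hf with hfG | ⟨a, ha, b, hb, rfl⟩
    · exact hfG
    · rw [Equiv.Perm.mul_apply, Equiv.Perm.mul_apply, hfix b hb, h1] at hfn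
      exact absurd (a.injective (hfn.trans (hfix a ha).symm)) (Option.some_ne_none x)
  -- normalise the first point
  have norm : ∀ a : Fin (k + 1) ↪ Option X, ∃ σ ∈ Cl, ∃ a' : Fin k ↪ X,
      σ (a 0) = none ∧ ∀ i : Fin k, σ (a i.succ) = some (a' i) := by
    intro a
    obtain ⟨σ, hσ, hσ0⟩ : ∃ σ ∈ Cl, σ (a 0) = none := by
      rcases hc : a 0 with _ | z
      · exact ⟨1, one_mem _, rfl⟩
      · obtain ⟨w, hw⟩ : ∃ w : X, w ≠ z :=
          ⟨if z = x then y else x, by split_ifs with hzx <;> [exact hzx ▸ hxy.symm; exact Ne.symm hzx]⟩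
        obtain ⟨f, hf, hfz, -⟩ := two z w x y (Ne.symm hw) hxy
        exact ⟨h * f, mul_mem hhC (hGC f hf), by rw [Equiv.Perm.mul_apply, hfz, h2]⟩
    have hsome : ∀ i : Fin k, (σ (a i.succ)).isSome = true := by
      intro i
      rw [Option.isSome_iff_ne_none]
      intro hi
      exact Fin.succ_ne_zero i (a.injective (σ.injective (hi.trans hσ0.symm)))
    refine ⟨σ, hσ, ⟨fun i => (σ (a i.succ)).get (hsome i), fun i j hij => ?_⟩, hσ0,
      fun i => (Option.some_get _).symm⟩
    have := congrArg some hij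
    simp only [Option.some_get] at this
    exact Fin.succ_injective _ (a.injective (σ.injective this))
  obtain ⟨σ, hσ, a', hσ0, hσa⟩ := norm a
  obtain ⟨τ, hτ, b', hτ0, hτb⟩ := norm b
  obtain ⟨f, hf, hfe⟩ := htrans a' b'
  refine ⟨⟨τ⁻¹ * f * σ, mul_mem (mul_mem (inv_mem hτ) (hGC f hf)) hσ⟩, ?_⟩
  ext i : 1
  show (τ⁻¹ * f * σ) (a i) = b i
  rw [Equiv.Perm.mul_apply, Equiv.Perm.mul_apply, Equiv.Perm.inv_eq_iff_eq]
  cases i using Fin.cases with
  | zero => rw [hσ0, hfix f hf, hτ0]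
  | succ i => rw [hσa, hfe, hτb]

end Cfsg.Agent.S4301
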