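import Cfsg.Statements.S4302
import Cfsg.Agent.Lib.Fg6.CentralClosure
import Cfsg.Agent.Lib.Transfer.AbelianJ

set_option autoImplicit false
set_option linter.style.haveILetI false
open Cfsg

namespace Cfsg.Agent.S4302

open Subgroup
open scoped Pointwise
open Lib.Fg6

/-- The nonzero vectors of the plane over `F₂`. -/
def vec : Fin 3 → (Fin 2 → ZMod 2) := ![![1, 0], ![0, 1], ![1, 1]]

/-- The index of a nonzero vector. -/
def idx (v : Fin 2 → ZMod 2) : Fin 3 := if v 1 = 0 then 0 else if v 0 = 0 then 1 else 2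

theorem idx_vec : ∀ (M : Matrix.SpecialLinearGroup (Fin 2) (ZMod 2)) (i : Fin 3),
    idx ((M⁻¹ : Matrix.SpecialLinearGroup (Fin 2) (ZMod 2)).1.mulVec (vec (idx (M.1.mulVec (vec i))))) = i ∧
    idx (M.1.mulVec (vec (idx ((M⁻¹ : Matrix.SpecialLinearGroup (Fin 2) (ZMod 2)).1.mulVec (vec i))))) = i := by
  decide +kernel

theorem idx_mul : ∀ (M N : Matrix.SpecialLinearGroup (Fin 2) (ZMod 2)) (i : Fin 3),
    idx ((M * N).1.mulVec (vec i)) = idx (M.1.mulVec (vec (idx (N.1.mulVec (vec i))))) := by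
  decide +kernel

theorem idx_faithful : ∀ M : Matrix.SpecialLinearGroup (Fin 2) (ZMod 2),
    (∀ i : Fin 3, idx (M.1.mulVec (vec i)) = i) → M = 1 := by
  decide +kernel

/-- The action of `SL(2, 2)` on the three nonzero vectors. -/
def toPerm : Matrix.SpecialLinearGroup (Fin 2) (ZMod 2) →* Equiv.Perm (Fin 3) :=
  MonoidHom.mk' (fun M =>
    { toFun := fun i => idx (M.1.mulVec (vec i))
      invFun := fun i => idx ((M⁻¹ : Matrix.SpecialLinearGroup (Fin 2) (ZMod 2)).1.mulVec (vec i))
      left_inv := fun i => (idx_vec M i).1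
      right_inv := fun i => (idx_vec M i).2 })
    fun M N => Equiv.ext fun i => idx_mul M N i

theorem toPerm_bijective : Function.Bijective toPerm := by
  have hinj : Function.Injective toPerm := (injective_iff_map_eq_one _).2 fun M h =>
    idx_faithful M fun i => congrArg (fun e : Equiv.Perm (Fin 3) => e i) h
  refine hinj.bijective_of_nat_card_le ?_
  rw [Nat.card_perm, Nat.card_fin, Lib.PLocal.SLTwo.card_two]
  decide

variable {X : Type*} [Group X] [Finite X]

theorem conj_mem_maxAbIn (T : Sylow 2 X) (g : X) {A : Subgroup X}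
    (hA : A ∈ Lib.Transfer.AbelianJ.maxAbIn (T : Subgroup X)) :
    A.map (MulAut.conj g).toMonoidHom ∈
      Lib.Transfer.AbelianJ.maxAbIn ((g • T : Sylow 2 X) : Subgroup X) :=
  Lib.Transfer.AbelianJ.map_mem_maxAbIn _ (MulAut.conj g).injective hA

/-- Let `X` be a finite solvable group whose Fitting subgroup is a 2-group (equivalently `F(X) = O₂(X)`), `T` a Sylow 2-subgroup of `X`, `J(T)` the subgroup generated by the abelian subgroups of `T` of largest order, `C` the largest normal subgroup of `X` centralizing the centre `Z(T)`, and `Y` the normal closure of `J(T)` in `X`. Then `X = C · Y · N_X(J(T))`, and either `Y ≤ C`, or `CY/C` is isomorphic to a direct product of at least one copy of the symmetric group of degree 3. -/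
theorem result {X : Type*} [Group X] [Finite X]
    [Group.IsSolvable X] (hF : Cfsg.fittingSubgroup X = Cfsg.pCore 2 X) (T : Sylow 2 X) :
    ((Subgroup.centralizer (((T : Subgroup X) ⊓ Subgroup.centralizer ((T : Subgroup X) : Set X) : Subgroup X) : Set X)).normalCore
        ⊔ Subgroup.normalClosure (Cfsg.thompsonSubgroupAOf (T : Subgroup X) : Set X)
        ⊔ Subgroup.normalizer (Cfsg.thompsonSubgroupAOf (T : Subgroup X) : Set X) = ⊤) ∧
    (Subgroup.normalClosure (Cfsg.thompsonSubgroupAOf (T : Subgroup X) : Set X)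
        ≤ (Subgroup.centralizer (((T : Subgroup X) ⊓ Subgroup.centralizer ((T : Subgroup X) : Set X) : Subgroup X) : Set X)).normalCore
      ∨ ∃ n : ℕ, 1 ≤ n ∧
        Nonempty (↥(Subgroup.normalClosure (Cfsg.thompsonSubgroupAOf (T : Subgroup X) : Set X)) ⧸
            ((Subgroup.centralizer (((T : Subgroup X) ⊓ Subgroup.centralizer ((T : Subgroup X) : Set X) : Subgroup X) : Set X)).normalCore).subgroupOf
              (Subgroup.normalClosure (Cfsg.thompsonSubgroupAOf (T : Subgroup X) : Set X))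
          ≃* (Fin n → Equiv.Perm (Fin 3)))) := by
  haveI : Fact (Nat.Prime 2) := ⟨Nat.prime_two⟩
  set J := Cfsg.thompsonSubgroupAOf (T : Subgroup X) with hJ
  set Y := normalClosure (J : Set X) with hY
  haveI hYn : Y.Normal := normalClosure_normal
  refine ⟨?_, ?_⟩
  · -- Frattini
    have h1 := Lib.PLocal.normalizer_inf_sup_eq_top T Y
    have hJle : J ≤ (T : Subgroup X) ⊓ Y :=
      le_inf (Lib.ZJ.thompsonSubgroupAOf_le _) subset_normalClosure
    have hJeq : Cfsg.thompsonSubgroupAOf ((T : Subgroup X) ⊓ Y) = J :=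
      Lib.Transfer.AbelianJ.thompsonSubgroupAOf_eq_of_le inf_le_left hJle
    rw [eq_top_iff, ← h1]
    refine sup_le ?_ (le_sup_of_le_left le_sup_right)
    refine le_sup_of_le_right ?_
    rw [← hJeq]
    exact Lib.ZJ.normalizer_le_normalizer_thompsonA _
  by_cases hle : Y ≤ (centralizer (((T : Subgroup X) ⊓ centralizer ((T : Subgroup X) : Set X) : Subgroup X) : Set X)).normalCore
  · exact Or.inl hle
  right
  set V := CentralClosure.omega T hF with hVdef
  haveI hVn : V.Normal := CentralClosure.omega_normal T hF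
  have hC : (centralizer (((T : Subgroup X) ⊓ centralizer ((T : Subgroup X) : Set X) : Subgroup X) : Set X)).normalCore =
      centralizer (V : Set X) :=
    (CentralClosure.core_eq T).trans (CentralClosure.centralizer_omega T hF).symm
  rw [hC] at hle
  set π := Lib.PLocal.actHom V with hπ
  set V' := Lib.PLocal.actV V with hV'
  set L := Lib.PLocal.actH V with hL
  have hV'e : Cfsg.IsElementaryAbelian 2 V' := Lib.PLocal.actV_elemAb V (CentralClosure.omega_elemAb T hF)
  have hLN := Lib.PLocal.actH_le_normalizer V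
  have hLf := Lib.PLocal.actH_faithful V
  let e : (X ⧸ centralizer (V : Set X)) ≃* ↥L :=
    MonoidHom.ofInjective (f := (SemidirectProduct.inr : (X ⧸ centralizer (V : Set X)) →* Lib.PLocal.actGroup V))
      SemidirectProduct.inr_injective
  haveI : Group.IsSolvable ↥L :=
    solvable_of_surjective (f := e.toMonoidHom.comp (QuotientGroup.mk' _))
      (e.surjective.comp (QuotientGroup.mk'_surjective _))
  have hO : Cfsg.pCore 2 ↥L = ⊥ := by
    rw [← Lib.Cores.map_pCore_equiv e, CentralClosure.pCore_quotient T hF, Subgroup.map_bot]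
  have hker : π.ker = centralizer (V : Set X) := by
    ext g; rw [MonoidHom.mem_ker, hπ, Lib.PLocal.actHom_eq_one_iff]
  -- images of abelian subgroups of largest order
  have hoff : ∀ (S : Sylow 2 X) (A : Subgroup X), A ∈ Lib.Transfer.AbelianJ.maxAbIn (S : Subgroup X) →
      Cfsg.IsBestOffenderOn 2 V' (A.map π) := by
    intro S A hA
    refine AbelianOffender.isBestOffenderOn hV'e hLN hLf hO ?_
      (Lib.Transfer.AbelianJ.isMulCommutative_map π hA.2.1) ((S.isPGroup'.to_le hA.1).map π) ?_
    · rw [← Lib.PLocal.actHom_range, MonoidHom.range_eq_map]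
      exact map_mono le_top
    intro B hB
    set C := centralizer (V : Set X) with hCdef
    set B₀ := A ⊓ B.comap π with hB₀
    have hBmap : B₀.map π = B := by
      refine le_antisymm ?_ fun y hy => ?_
      · rintro _ ⟨x, hx, rfl⟩; exact hx.2
      · obtain ⟨a, ha, rfl⟩ := hB hy
        exact ⟨a, ⟨ha, hy⟩, rfl⟩
    have hinf : B₀ ⊓ C = A ⊓ C := by
      refine le_antisymm (inf_le_inf_right _ inf_le_left) fun x hx => ⟨⟨hx.1, ?_⟩, hx.2⟩
      show π x ∈ B
      rw [hπ, (Lib.PLocal.actHom_eq_one_iff V).mpr hx.2]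
      exact B.one_mem
    have h1 := CentralClosure.meas_max T hF S hA (inf_le_left : B₀ ≤ A)
    rw [← hBmap]
    simp only [Lib.PLocal.meas, hV', hπ] at h1 ⊢
    rw [Lib.PLocal.card_fixOn_act, Lib.PLocal.card_fixOn_act]
    rw [← Lib.PLocal.card_map_act_mul V B₀, ← Lib.PLocal.card_map_act_mul V A, hinf] at h1
    refine Nat.le_of_mul_le_mul_right ?_ (Nat.card_pos (α := (A ⊓ C : Subgroup X)))
    calc _ = Nat.card (B₀.map π) * Nat.card (A ⊓ C : Subgroup X) *
          Nat.card (Lib.PLocal.fixOn V B₀) := by ring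
      _ ≤ _ := h1
      _ = _ := by ring
  set H := Y.map π with hH
  have hHL : H ≤ L := by
    rw [hL, ← Lib.PLocal.actHom_range, MonoidHom.range_eq_map]
    exact map_mono le_top
  have hgen : H = ⨆ A : {A : Subgroup (Lib.PLocal.actGroup V) // A ≤ H ∧ Cfsg.IsBestOffenderOn 2 V' A},
      (A : Subgroup (Lib.PLocal.actGroup V)) := by
    refine le_antisymm ?_ (iSup_le fun A => A.2.1)
    rw [hH, map_le_iff_le_comap]
    refine (closure_le _).2 fun x hx => ?_
    obtain ⟨j, hj, hjx⟩ := Group.mem_conjugatesOfSet_iff.1 hx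
    obtain ⟨g, rfl⟩ := isConj_iff.1 hjx
    have hgJ : J.map (MulAut.conj g).toMonoidHom ≤
        (⨆ A : {A : Subgroup (Lib.PLocal.actGroup V) // A ≤ H ∧ Cfsg.IsBestOffenderOn 2 V' A},
          (A : Subgroup (Lib.PLocal.actGroup V))).comap π := by
      rw [map_le_iff_le_comap, hJ, Lib.Transfer.AbelianJ.thompsonSubgroupAOf_eq]
      refine sSup_le fun A hA => ?_
      rw [← map_le_iff_le_comap, ← map_le_iff_le_comap]
      refine le_iSup_of_le ⟨(A.map (MulAut.conj g).toMonoidHom).map π, map_mono ?_,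
        hoff _ _ (conj_mem_maxAbIn T g hA)⟩ le_rfl
      rintro _ ⟨a, ha, rfl⟩
      exact hYn.conj_mem a (subset_normalClosure (Lib.Transfer.AbelianJ.le_thompsonSubgroupAOf hA ha)) g
    exact hgJ ⟨j, hj, rfl⟩
  have hHne : H ≠ ⊥ := by
    rw [hH, Ne, Subgroup.map_eq_bot_iff, hker]
    exact hle
  haveI : (H.subgroupOf L).Normal := by
    refine normal_subgroupOf_of_le_normalizer ?_
    have : (π.range : Subgroup _) = L := Lib.PLocal.actHom_range V
    rw [← this, MonoidHom.range_eq_map]
    refine le_trans (map_mono ?_) (Subgroup.le_normalizer_map π)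
    rw [normalizer_eq_top_iff.2 hYn]
  let eH := subgroupOfEquivOfLe hHL
  have hO' : Cfsg.pCore 2 ↥H = ⊥ := by
    have h := Lib.Cores.map_subtype_pCore 2 (H.subgroupOf L)
    rw [hO, inf_bot_eq] at h
    rw [← Lib.Cores.map_pCore_equiv eH,
      (map_eq_bot_iff_of_injective _ (H.subgroupOf L).subtype_injective).1 h, Subgroup.map_bot]
  haveI : Group.IsSolvable ↥H := solvable_of_surjective (f := eH.toMonoidHom) eH.surjective
  have hS1 := Lib.PLocal.centralizer_pPrimeCore_le
    (Lib.PSolvable.isPSolvable_of_isSolvable (G := ↥H) (p := 2)) hO'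
  obtain ⟨-, hprop, hind, hsup, -⟩ := S0617.result V' H hV'e (hHL.trans hLN)
    (le_bot_iff.1 (hLf ▸ inf_le_inf_right _ hHL)) hS1 hgen hHne
  set ι := {E : Subgroup (Lib.PLocal.actGroup V) // ∃ A : Subgroup (Lib.PLocal.actGroup V), A ≤ H ∧
    Cfsg.IsBestOffenderOn 2 V' A ∧ ⁅V', A⁆ ≠ ⊥ ∧
    (∀ B : Subgroup (Lib.PLocal.actGroup V), B ≤ A → Cfsg.IsBestOffenderOn 2 V' B → ⁅V', B⁆ ≠ ⊥ → B = A) ∧
    E = ⁅((Cfsg.pPrimeCore 2 ↥H).map H.subtype), A⁆ ⊔ A}
  classical
  haveI : Fintype ι := Fintype.ofFinite ι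
  have hEH : ∀ E : ι, (E : Subgroup (Lib.PLocal.actGroup V)) ≤ H := fun E =>
    (le_iSup (fun E : ι => (E : Subgroup (Lib.PLocal.actGroup V))) E).trans hsup.le
  have hcomm : Pairwise fun i j : ι => ∀ x y : Lib.PLocal.actGroup V,
      x ∈ (i : Subgroup (Lib.PLocal.actGroup V)) → y ∈ (j : Subgroup (Lib.PLocal.actGroup V)) → Commute x y := by
    intro i j hij x y hx hy
    have h1 : x * y * x⁻¹ * y⁻¹ ∈ (i : Subgroup (Lib.PLocal.actGroup V)) ⊓ j := by
      refine mem_inf.2 ⟨?_, ?_⟩
      · rw [show x * y * x⁻¹ * y⁻¹ = x * (y * x⁻¹ * y⁻¹) by group]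
        exact mul_mem hx ((mem_normalizer_iff.1 ((hprop i).1 (hEH j hy)) _).1 (inv_mem hx))
      · exact mul_mem ((mem_normalizer_iff.1 ((hprop j).1 (hEH i hx)) _).1 hy) (inv_mem hy)
    rw [disjoint_iff.1 (hind.pairwiseDisjoint hij), mem_bot, mul_inv_eq_one,
      mul_inv_eq_iff_eq_mul] at h1
    exact h1
  let f := Subgroup.noncommPiCoprod hcomm
  have hfi : Function.Injective f := Subgroup.injective_noncommPiCoprod_of_iSupIndep hind
  have hfr : f.range = H := Subgroup.noncommPiCoprod_range.trans hsup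
  have hne : Nonempty ι := by
    by_contra hι
    rw [not_nonempty_iff] at hι
    exact hHne (le_bot_iff.1 (hsup.ge.trans (iSup_le fun E => (IsEmpty.false E).elim)))
  refine ⟨Fintype.card ι, Fintype.card_pos, ⟨?_⟩⟩
  let g : Y →* Lib.PLocal.actGroup V := π.comp Y.subtype
  have hgk : g.ker = ((centralizer (((T : Subgroup X) ⊓ centralizer ((T : Subgroup X) : Set X) : Subgroup X) : Set X)).normalCore).subgroupOf Y := by
    rw [hC]; ext y; rw [MonoidHom.mem_ker, mem_subgroupOf]; exact Lib.PLocal.actHom_eq_one_iff V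
  have hgr : g.range = H := by
    rw [MonoidHom.range_comp, Subgroup.range_subtype]
  let e1 := (QuotientGroup.quotientMulEquivOfEq hgk.symm).trans
    ((QuotientGroup.quotientKerEquivRange g).trans (MulEquiv.subgroupCongr (hgr.trans hfr.symm)))
  let e2 : ((i : ι) → (i : Subgroup (Lib.PLocal.actGroup V))) ≃* (ι → Equiv.Perm (Fin 3)) :=
    MulEquiv.piCongrRight fun i =>
      ((hprop i).2.1.some).trans (MulEquiv.ofBijective toPerm toPerm_bijective)
  let e3 : (ι → Equiv.Perm (Fin 3)) ≃* (Fin (Fintype.card ι) → Equiv.Perm (Fin 3)) :=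
    { toFun := fun v i => v ((Fintype.equivFin ι).symm i)
      invFun := fun v i => v (Fintype.equivFin ι i)
      left_inv := fun v => funext fun i => congrArg v ((Fintype.equivFin ι).symm_apply_apply i)
      right_inv := fun v => funext fun i => congrArg v ((Fintype.equivFin ι).apply_symm_apply i)
      map_mul' := fun _ _ => rfl }
  exact e1.trans ((MonoidHom.ofInjective hfi).symm.trans (e2.trans e3))

end Cfsg.Agent.S4302
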