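import Cfsg.Statements.S4303
import Cfsg.Agent.Lib.SylowNumbers.Formula
import Cfsg.Agent.Lib.Cores.InvariantSylow
-- import your own Cfsg.Agent.* helpers here

set_option autoImplicit false
universe u
open Cfsg

namespace Cfsg.Agent.S4303

open Subgroup
open Cfsg.Agent.Lib Cfsg.Agent.Lib.SylowNumbers.Basic Cfsg.Agent.Lib.SylowNumbers.Actions
  Cfsg.Agent.Lib.SylowNumbers.Quotient Cfsg.Agent.Lib.SylowNumbers.Formula

/-- The property of the statement, for a number. -/
def Good (p : ℕ) (n : ℕ) : Prop :=
  ∃ l : List ℕ, l.prod = n ∧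
    ∀ m ∈ l, (IsPrimePow m ∧ m % p = 1) ∨
      ∃ (S : Type u) (_ : Group S) (_ : Finite S), IsSimpleGroup S ∧ m = Nat.card (Sylow p S)

theorem good_one (p : ℕ) : Good.{u} p 1 := ⟨[], rfl, fun m hm => by simp at hm⟩

theorem good_mul {p a b : ℕ} (ha : Good.{u} p a) (hb : Good.{u} p b) : Good.{u} p (a * b) := by
  obtain ⟨l, rfl, hl⟩ := ha
  obtain ⟨l', rfl, hl'⟩ := hb
  exact ⟨l ++ l', List.prod_append, fun m hm => (List.mem_append.1 hm).elim (hl m) (hl' m)⟩

/-- The number of Sylow subgroups of a split coprime extension of `N` by a `p`-group. -/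
theorem good_coprime {G : Type u} [Group G] [Finite G] {p : ℕ} [Fact p.Prime] (P : Sylow p G)
    (N : Subgroup G) [N.Normal] (hN : (Nat.card N).Coprime p) :
    Good.{u} p ((normalizer ((P : Subgroup G) : Set G)).relIndex N) := by
  classical
  have hp : p.Prime := Fact.out
  obtain ⟨kP, hkP⟩ := IsPGroup.iff_card.1 P.isPGroup'
  have hcop : (Nat.card (P : Subgroup G)).Coprime (Nat.card N) := by
    rw [hkP]; exact (hN.symm).pow_left kP
  have hdisj : (P : Subgroup G) ⊓ N = ⊥ :=
    (Subgroup.disjoint_of_coprime_natCard hcop).eq_bot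
  set C := normalizer ((P : Subgroup G) : Set G) ⊓ N with hC
  have hCP : C ≤ Subgroup.centralizer ((P : Subgroup G) : Set G) := by
    intro c hc
    refine Subgroup.mem_centralizer_iff.2 fun x hx => ?_
    have h1 : c * x * c⁻¹ * x⁻¹ ∈ (P : Subgroup G) ⊓ N :=
      ⟨(P : Subgroup G).mul_mem ((Subgroup.mem_normalizer_iff.1 hc.1 x).1 hx)
        ((P : Subgroup G).inv_mem hx), by
        rw [show c * x * c⁻¹ * x⁻¹ = c * (x * c⁻¹ * x⁻¹) by group]
        exact mul_mem hc.2 ((inferInstance : N.Normal).conj_mem _ (inv_mem hc.2) x)⟩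
    rw [hdisj, Subgroup.mem_bot, mul_inv_eq_one, mul_inv_eq_iff_eq_mul] at h1
    exact h1.symm
  have hrel : (normalizer ((P : Subgroup G) : Set G)).relIndex N * Nat.card C = Nat.card N := by
    rw [← Subgroup.inf_relIndex_right, ← hC, mul_comm]
    have h := Subgroup.card_mul_index (C.subgroupOf N)
    rwa [Nat.card_congr (Subgroup.subgroupOfEquivOfLe (inf_le_right : C ≤ N)).toEquiv] at h
  set n := (normalizer ((P : Subgroup G) : Set G)).relIndex N with hn
  have hn0 : n ≠ 0 := fun h => by
    rw [h, zero_mul] at hrel; exact Nat.card_pos.ne' hrel.symm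
  have hNn := Nat.card_pos (α := N)
  refine ⟨n.primeFactors.toList.map fun q => q ^ n.factorization q, ?_, ?_⟩
  · rw [Finset.prod_map_toList]
    exact Nat.factorization_prod_pow_eq_self hn0
  intro m hm
  obtain ⟨q, hq, rfl⟩ := List.mem_map.1 hm
  rw [Finset.mem_toList, Nat.mem_primeFactors] at hq
  haveI : Fact q.Prime := ⟨hq.1⟩
  refine Or.inl ⟨⟨q, n.factorization q, hq.1.prime,
    hq.1.factorization_pos_of_dvd hn0 hq.2.1, rfl⟩, ?_⟩
  -- a Sylow `q`-subgroup of `C` and a `P`-invariant Sylow `q`-subgroup of `N` over it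
  obtain ⟨R0⟩ : Nonempty (Sylow q C) := inferInstance
  set T := (R0 : Subgroup C).map C.subtype with hT
  have hTC : T ≤ C := Subgroup.map_subtype_le _
  obtain ⟨W, ⟨hW, hWN, hWP, hTW⟩, hWm⟩ := Set.Finite.exists_maximal
    (s := {W : Subgroup G | IsPGroup q W ∧ W ≤ N ∧ (P : Subgroup G) ≤ normalizer (W : Set G) ∧ T ≤ W})
    (Set.toFinite _) ⟨T, R0.isPGroup'.map _, hTC.trans inf_le_right,
      ((Subgroup.le_centralizer_iff.1 (hTC.trans hCP))).trans (Subgroup.centralizer_le_normalizer _),
      le_rfl⟩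
  set M := N ⊓ normalizer (W : Set G) with hM
  have hPM : (P : Subgroup G) ≤ normalizer (M : Set G) := fun x hx => by
    refine Subgroup.mem_normalizer_iff.2 fun y => ?_
    have hxW := hWP hx
    refine and_congr ⟨fun h => (inferInstance : N.Normal).conj_mem _ h x, fun h => ?_⟩ ?_
    · have := (inferInstance : N.Normal).conj_mem _ h x⁻¹
      simpa [mul_assoc] using this
    · constructor
      · exact fun h => (normalizer (W : Set G)).mul_mem ((normalizer (W : Set G)).mul_mem hxW h)
          ((normalizer (W : Set G)).inv_mem hxW)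
      · intro h
        have := (normalizer (W : Set G)).mul_mem
          ((normalizer (W : Set G)).mul_mem ((normalizer (W : Set G)).inv_mem hxW) h) hxW
        simpa [mul_assoc] using this
  obtain ⟨R, hRM, hRq, hRi, hRP⟩ := Cores.InvariantSylow.exists_invariant (p := q) hPM
    (Nat.Coprime.coprime_dvd_right (Subgroup.card_dvd_of_le inf_le_left) hcop)
    (Or.inl (by haveI := P.isPGroup'.isNilpotent; infer_instance))
  haveI : (W.subgroupOf M).Normal :=
    Subgroup.normal_subgroupOf_of_le_normalizer inf_le_right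
  have hWR : W ≤ R := by
    let RS : Sylow q M := (hRq.comap_subtype (K := M)).toSylow (by
      rw [Subgroup.relIndex] at hRi; exact hRi)
    have h : W.subgroupOf M ≤ R.subgroupOf M :=
      SylowNumbers.Basic.le_sylow_of_normalizing (hW.comap_subtype (K := M)) RS
        (le_top.trans (Subgroup.normalizer_eq_top_iff.2 ‹(W.subgroupOf M).Normal›).ge)
    intro w hw
    exact h (show (⟨w, hWN hw, Subgroup.le_normalizer hw⟩ : M) ∈ W.subgroupOf M from hw)
  have hRW : R = W := le_antisymm (hWm ⟨hRq, hRM.trans inf_le_left, hRP, hTW.trans hWR⟩ hWR) hWR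
  -- `W` is a Sylow subgroup of `N`
  obtain ⟨S, hS⟩ := (hW.comap_subtype (K := N)).exists_le_sylow
  have hWS : W.subgroupOf N = S := by
    by_contra hne
    have hlt : (W.subgroupOf N).subgroupOf S < ⊤ := lt_top_iff_ne_top.2 fun h =>
      hne (le_antisymm hS (Subgroup.subgroupOf_eq_top.1 h))
    haveI := S.isPGroup'.isNilpotent
    obtain ⟨x, hx, hxW⟩ := SetLike.exists_of_lt
      (Group.normalizerCondition_of_isNilpotent ((W.subgroupOf N).subgroupOf S) hlt)
    have hxn : ((x : N) : G) ∈ normalizer (W : Set G) := by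
      refine Subgroup.mem_normalizer_iff.2 fun g => ⟨fun hg => ?_, fun hg => ?_⟩
      · exact (Subgroup.mem_normalizer_iff.1 hx ⟨⟨g, hWN hg⟩, hS hg⟩).1 hg
      · have hgN : g ∈ N := by
          have := (inferInstance : N.Normal).conj_mem _ (hWN hg) ((x : N) : G)⁻¹
          simpa [mul_assoc] using this
        have hgS : (⟨g, hgN⟩ : N) ∈ (S : Subgroup N) := by
          have h1 : (x : N) * ⟨g, hgN⟩ * (x : N)⁻¹ ∈ (S : Subgroup N) :=
            hS (show _ ∈ W.subgroupOf N from hg)
          have := mul_mem (mul_mem (inv_mem x.2) h1) x.2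
          simpa [mul_assoc] using this
        exact (Subgroup.mem_normalizer_iff.1 hx ⟨⟨g, hgN⟩, hgS⟩).2 hg
    have hxM : ((x : N) : G) ∈ M := ⟨(x : N).2, hxn⟩
    obtain ⟨k, hk⟩ := IsPGroup.iff_orderOf.1 S.isPGroup' x
    rw [hRW] at hRi
    -- an element of `q`-power order lies in the normal Sylow subgroup
    let WS : Sylow q M := (hW.comap_subtype (K := M)).toSylow (by
      rw [Subgroup.relIndex] at hRi; exact hRi)
    have hWS' : (⟨_, hxM⟩ : M) ∈ (WS : Subgroup M) := by
      haveI : (WS : Subgroup M).Normal := ‹(W.subgroupOf M).Normal›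
      exact SylowNumbers.Basic.mem_sylow_of_mem_normalizer
        (SylowNumbers.Basic.isPGroup_zpowers (k := k)
          (by rw [Subgroup.orderOf_mk, Subgroup.orderOf_coe, Subgroup.orderOf_coe]; exact hk)) WS
        (by rw [Subgroup.normalizer_eq_top]; trivial)
    exact hxW hWS'
  -- cardinalities
  have hWcard : Nat.card W = q ^ (Nat.card N).factorization q := by
    rw [← Nat.card_congr (Subgroup.subgroupOfEquivOfLe hWN).toEquiv, hWS]
    exact S.card_eq_multiplicity
  have hTcard : Nat.card ↥(C ⊓ W) = q ^ (Nat.card C).factorization q := by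
    have h1 : T = C ⊓ W := by
      refine le_antisymm (le_inf hTC hTW) ?_
      have hp' : IsPGroup q ↥((C ⊓ W).subgroupOf C) := (hW.to_le inf_le_right).comap_subtype
      have hle : (R0 : Subgroup C) ≤ (C ⊓ W).subgroupOf C := fun y hy =>
        ⟨y.2, hTW (Subgroup.mem_map_of_mem _ hy)⟩
      intro y hy
      exact ⟨⟨y, hy.1⟩, (R0.is_maximal' hp' hle).le hy, rfl⟩
    rw [← h1, hT, Subgroup.card_subtype]
    exact R0.card_eq_multiplicity
  have hfac : n.factorization q + (Nat.card C).factorization q = (Nat.card N).factorization q := by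
    rw [← hrel, Nat.factorization_mul hn0 Nat.card_pos.ne', Finsupp.add_apply]
  -- `P` fixes exactly `C ⊓ W` in `W`
  letI act : MulAction ↥(P : Subgroup G) ↥W :=
    { smul := fun x w => ⟨x * w * (x : G)⁻¹, (Subgroup.mem_normalizer_iff.1 (hWP x.2) _).1 w.2⟩
      one_smul := fun w => Subtype.ext (show (1 : G) * w * 1⁻¹ = w by group)
      mul_smul := fun x y w => Subtype.ext (show ((x : G) * y) * w * ((x : G) * y)⁻¹ =
        (x : G) * ((y : G) * w * (y : G)⁻¹) * (x : G)⁻¹ by group) }
  have hmod := P.isPGroup'.card_modEq_card_fixedPoints ↥W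
  have hfix : Nat.card (MulAction.fixedPoints ↥(P : Subgroup G) ↥W) = Nat.card ↥(C ⊓ W) :=
    Nat.card_congr
      { toFun := fun w => ⟨w.1.1, ⟨⟨Subgroup.centralizer_le_normalizer _
          (Subgroup.mem_centralizer_iff.2 fun x hx =>
            mul_inv_eq_iff_eq_mul.1 (congrArg Subtype.val (w.2 ⟨x, hx⟩) :)), hWN w.1.2⟩, w.1.2⟩⟩
        invFun := fun w => ⟨⟨w.1, w.2.2⟩, fun x => Subtype.ext (show (x : G) * w.1 * (x : G)⁻¹ = w.1 by
          rw [Subgroup.mem_centralizer_iff.1 (hCP w.2.1) _ x.2, mul_inv_cancel_right])⟩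
        left_inv := fun w => rfl
        right_inv := fun w => rfl }
  rw [hfix, hWcard, hTcard, ← hfac, pow_add] at hmod
  have hqp : Nat.gcd p (q ^ (Nat.card C).factorization q) = 1 := by
    have h := hN.symm
    have hdvd : q ^ (Nat.card C).factorization q ∣ Nat.card N :=
      (Nat.ordProj_dvd _ _).trans (Subgroup.card_dvd_of_le inf_le_right)
    exact h.coprime_dvd_right hdvd
  have h1 : q ^ n.factorization q ≡ 1 [MOD p] :=
    Nat.ModEq.cancel_right_of_coprime hqp (by rwa [one_mul])
  rwa [Nat.ModEq, Nat.one_mod_eq_one.2 hp.ne_one] at h1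

theorem good_all (p : ℕ) [Fact p.Prime] : ∀ (N : ℕ) (G : Type u) [Group G] [Finite G],
    Nat.card G = N → Good.{u} p (Nat.card (Sylow p G)) := by
  intro N
  induction N using Nat.strong_induction_on with
  | _ N ih =>
  intro G _ _ hG
  by_cases hsub : Subsingleton G
  · haveI := hsub
    haveI : Subsingleton (Sylow p G) := ⟨fun a b => Sylow.ext (Subsingleton.elim _ _)⟩
    rw [Nat.card_unique]
    exact good_one p
  haveI : Nontrivial G := not_subsingleton_iff_nontrivial.1 hsub
  by_cases hsimp : IsSimpleGroup G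
  · exact ⟨[Nat.card (Sylow p G)], by simp, fun m hm => Or.inr ⟨G, _, ‹_›, hsimp, by simpa using hm⟩⟩
  obtain ⟨K, hKn, hK1, hK2⟩ : ∃ K : Subgroup G, K.Normal ∧ K ≠ ⊥ ∧ K ≠ ⊤ := by
    by_contra h
    push Not at h
    exact hsimp ⟨fun K hK => or_iff_not_imp_left.2 (h K hK)⟩
  have hlt : ∀ H : Subgroup G, H ≠ ⊤ → Nat.card H < N := fun H hH =>
    hG ▸ lt_of_le_of_ne (Subgroup.card_le_card_group H) fun h => hH (Subgroup.eq_top_of_card_eq H h)
  have hquot : ∀ (L : Subgroup G) [L.Normal], L ≠ ⊥ → Nat.card (G ⧸ L) < N := by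
    intro L _ hL
    have h := Subgroup.card_eq_card_quotient_mul_card_subgroup L
    have h1 : 1 < Nat.card L := (Subgroup.one_lt_card_iff_ne_bot L).2 hL
    have h2 : 0 < Nat.card (G ⧸ L) := Nat.card_pos
    rw [← hG, h]
    exact lt_mul_of_one_lt_right h2 h1
  obtain ⟨S⟩ : Nonempty (Sylow p K) := inferInstance
  obtain ⟨P, hP⟩ := Sylow.exists_comap_subtype_eq S
  set Q := (P : Subgroup G) ⊓ K with hQ
  have hSQ : (S : Subgroup K).map K.subtype = Q := by
    rw [← hP, Subgroup.map_comap_eq, Subgroup.range_subtype, inf_comm]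
  by_cases hQn : Q.Normal
  · haveI := hQn
    by_cases hQ1 : Q = ⊥
    · -- `K` has order prime to `p`
      have hKp : (Nat.card K).Coprime p := by
        refine ((Fact.out : p.Prime).coprime_iff_not_dvd.2 fun hd => ?_).symm
        have := S.dvd_card_of_dvd_card hd
        rw [← Subgroup.card_subtype, hSQ, hQ1, Subgroup.card_bot] at this
        exact (Fact.out : p.Prime).ne_one (Nat.dvd_one.1 this)
      rw [card_sylow_mul K P]
      exact good_mul (ih _ (hquot K hK1) _ rfl) (good_coprime P K hKp)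
    · have hQR : ∀ R : Sylow p G, Q ≤ normalizer ((R : Subgroup G) : Set G) := fun R =>
        (SylowNumbers.Basic.le_sylow_of_normalizing (P.isPGroup'.to_le inf_le_left) R (by
          rw [Subgroup.normalizer_eq_top_iff.2 hQn]; exact le_top)).trans le_normalizer
      rw [← card_sylow_quotient Q hQR]
      exact ih _ (hquot Q hQ1) _ rfl
  · have hnQ : normalizer ((P : Subgroup G) : Set G) ≤ normalizer (Q : Set G) := fun x hx =>
      Subgroup.mem_normalizer_iff.2 fun y => and_congr (Subgroup.mem_normalizer_iff.1 hx y)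
        ⟨fun h => hKn.conj_mem _ h x, fun h => by
          have := hKn.conj_mem _ h x⁻¹
          simpa [mul_assoc] using this⟩
    have hfr : normalizer (Q : Set G) ⊔ K = ⊤ := by
      have := Sylow.normalizer_sup_eq_top S
      rwa [hSQ] at this
    have e1 : Nat.card (Sylow p G) =
        Nat.card (Sylow p K) * Nat.card (Sylow p ↥(normalizer (Q : Set G))) := by
      have hnS : normalizer ((S : Subgroup K) : Set K) = (normalizer (Q : Set G)).subgroupOf K := by
        rw [← hSQ]
        ext x
        rw [Subgroup.mem_subgroupOf, Subgroup.mem_normalizer_iff, Subgroup.mem_normalizer_iff]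
        constructor
        · intro h y
          constructor
          · rintro ⟨z, hz, rfl⟩
            exact ⟨x * z * x⁻¹, (h z).1 hz, rfl⟩
          · rintro ⟨z, hz, hzy⟩
            refine ⟨x⁻¹ * z * x, (h _).2 (show x * (x⁻¹ * z * x) * x⁻¹ ∈ (S : Subgroup K) by
              rw [show x * (x⁻¹ * z * x) * x⁻¹ = z by group]; exact hz), ?_⟩
            show (x : G)⁻¹ * z * x = y
            rw [show (z : G) = x * y * (x : G)⁻¹ from hzy]; group
        · intro h y
          have h' := h y
          rwa [← Subgroup.coe_mul, ← Subgroup.coe_inv, ← Subgroup.coe_mul,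
            ← Subgroup.coe_subtype, Subgroup.mem_map_iff_mem K.subtype_injective,
            Subgroup.mem_map_iff_mem K.subtype_injective] at h'
      rw [card_sylow_eq_index P, card_sylow_eq_index S, hnS,
        card_sylow_of_le P (Subgroup.le_normalizer.trans hnQ), ← Subgroup.relIndex_mul_index hnQ,
        mul_comm]
      congr 1
      show _ = (normalizer (Q : Set G)).relIndex K
      rw [← relIndex_sup_of_normal _ K, hfr, Subgroup.relIndex_top_right]
    rw [e1]
    exact good_mul (ih _ (hlt K hK2) _ rfl)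
      (ih _ (hlt _ fun h => hQn (Subgroup.normalizer_eq_top_iff.1 h)) _ rfl)


/-- For a finite group `G` and a prime `p`, the number of Sylow `p`-subgroups of `G` is a product of natural numbers each of which is either a prime power congruent to 1 modulo `p` or the number of Sylow `p`-subgroups of some finite simple group. -/
theorem result {G : Type u} [Group G] [Finite G]
    (p : ℕ) [Fact p.Prime] :
    ∃ l : List ℕ, l.prod = Nat.card (Sylow p G) ∧
      ∀ m ∈ l, (IsPrimePow m ∧ m % p = 1) ∨
        ∃ (S : Type u) (_ : Group S) (_ : Finite S), IsSimpleGroup S ∧ m = Nat.card (Sylow p S) := by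
  exact good_all p _ G rfl

end Cfsg.Agent.S4303
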