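import Cfsg.Statements.S4304
-- import your own Cfsg.Agent.* helpers here

set_option autoImplicit false
open Cfsg

namespace Cfsg.Agent.S4304

open scoped Pointwise

set_option linter.unusedSectionVars false

section reduction

variable {G : Type*} [Group G] [Finite G] [Fact (Nat.Prime 7)]

/-- kernel of the conjugation action on the Sylow subgroups -/
def ker0 (G : Type*) [Group G] : Subgroup G :=
  (MulAction.toPermHom G (Sylow 7 G)).ker

instance ker0Normal : (ker0 G).Normal := MonoidHom.normal_ker _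

lemma mem_ker0 {g : G} : g ∈ ker0 G ↔ ∀ P : Sylow 7 G, g • P = P := by
  simp [ker0, MonoidHom.mem_ker, Equiv.ext_iff, MulAction.toPermHom, MulAction.toPerm]

lemma ker0_map_injective :
    Function.Injective (fun P : Sylow 7 G =>
      P.mapSurjective (QuotientGroup.mk'_surjective (ker0 G))) := by
  intro P Q h
  have h' : (P : Subgroup G).map (QuotientGroup.mk' (ker0 G))
      = (Q : Subgroup G).map (QuotientGroup.mk' (ker0 G)) := congrArg Sylow.toSubgroup h
  have hK : ker0 G ≤ Subgroup.normalizer (P : Set G) := by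
    intro g hg
    exact Sylow.smul_eq_iff_mem_normalizer.mp (mem_ker0.mp hg P)
  have hQ : (Q : Subgroup G) ≤ Subgroup.normalizer (P : Set G) := by
    intro q hq
    have : QuotientGroup.mk' (ker0 G) q ∈ (P : Subgroup G).map (QuotientGroup.mk' (ker0 G)) :=
      h' ▸ Subgroup.mem_map_of_mem _ hq
    obtain ⟨u, hu, he⟩ := this
    have hk : u⁻¹ * q ∈ ker0 G := QuotientGroup.eq.mp he
    have hprod := (Subgroup.normalizer (P : Set G)).mul_mem
      ((Subgroup.le_normalizer : (P : Subgroup G) ≤ _) hu) (hK hk)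
    simpa using hprod
  have hle : (Q : Subgroup G) ≤ P := by
    have hi := Q.isPGroup'.inf_normalizer_sylow P
    rw [inf_of_le_left hQ] at hi
    exact hi ▸ inf_le_right
  exact Sylow.ext (Q.3 P.isPGroup' hle)

lemma ker0_card : Nat.card (Sylow 7 (G ⧸ ker0 G)) = Nat.card (Sylow 7 G) :=
  (Nat.card_eq_of_bijective _
    ⟨ker0_map_injective, Sylow.mapSurjective_surjective _ 7⟩).symm

lemma ker0_faithful (x : G ⧸ ker0 G) (hx : ∀ P : Sylow 7 (G ⧸ ker0 G), x • P = P) : x = 1 := by
  induction x using QuotientGroup.induction_on with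
  | H g =>
    rw [QuotientGroup.eq_one_iff, mem_ker0]
    intro P
    apply ker0_map_injective
    refine Eq.trans ?_ (hx (P.mapSurjective (QuotientGroup.mk'_surjective (ker0 G))))
    apply Sylow.ext
    change ((g • P : Sylow 7 G) : Subgroup G).map (QuotientGroup.mk' (ker0 G)) =
      MulAut.conj (g : G ⧸ ker0 G) • (P : Subgroup G).map (QuotientGroup.mk' (ker0 G))
    rw [Sylow.coe_subgroup_smul]
    ext z
    simp only [Subgroup.mem_map, Subgroup.mem_smul_pointwise_iff_exists]
    constructor
    · rintro ⟨_, ⟨u, hu, rfl⟩, rfl⟩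
      exact ⟨_, ⟨u, hu, rfl⟩, by simp⟩
    · rintro ⟨_, ⟨u, hu, rfl⟩, rfl⟩
      exact ⟨_, ⟨u, hu, rfl⟩, by simp⟩

end reduction

section main

variable {G : Type*} [Group G] [Finite G] [Fact (Nat.Prime 7)]

lemma stab_inf (P Q : Sylow 7 G) {u : G} (hu : u ∈ (P : Subgroup G)) :
    u • Q = Q ↔ u ∈ (Q : Subgroup G) := by
  rw [Sylow.smul_eq_iff_mem_normalizer]
  refine ⟨fun h => ?_, fun h => Subgroup.le_normalizer h⟩
  have hi : u ∈ (P : Subgroup G) ⊓ Subgroup.normalizer (Q : Set G) := ⟨hu, h⟩
  rw [P.isPGroup'.inf_normalizer_sylow Q] at hi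
  exact hi.2

lemma orbit_card (h15 : Nat.card (Sylow 7 G) = 15) (P Q : Sylow 7 G) (hne : Q ≠ P) :
    Nat.card (MulAction.orbit (P : Subgroup G) Q) = 7 ∧
      P ∉ MulAction.orbit (P : Subgroup G) Q := by
  have hnot : P ∉ MulAction.orbit (P : Subgroup G) Q := by
    rintro ⟨u, hu⟩
    apply hne
    have hP : (u : G) • P = P := (stab_inf P P u.2).mpr u.2
    have : (u : G) • Q = (u : G) • P := hu.trans hP.symm
    exact MulAction.injective _ this
  refine ⟨?_, hnot⟩
  obtain ⟨n, hn⟩ := P.isPGroup'.card_orbit Q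
  have hlt : Nat.card (MulAction.orbit (P : Subgroup G) Q) < 15 := by
    rw [← h15, Nat.card_coe_set_eq, ← Set.ncard_univ (Sylow 7 G)]
    exact Set.ncard_lt_ncard ⟨Set.subset_univ _, fun h => hnot (h trivial)⟩
  have hn1 : n ≤ 1 := by
    by_contra hc
    have : 7 ^ 2 ≤ 7 ^ n := Nat.pow_le_pow_right (by norm_num) (by omega)
    omega
  interval_cases n
  · exfalso
    apply hne
    have hsub : Subsingleton (MulAction.orbit (P : Subgroup G) Q) :=
      (Nat.card_eq_one_iff_unique.mp (by simpa using hn)).1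
    have hle : (P : Subgroup G) ≤ Q := by
      intro u hu
      apply (stab_inf P Q hu).mp
      exact congrArg Subtype.val (hsub.elim
        (⟨u • Q, ⟨⟨u, hu⟩, rfl⟩⟩ : MulAction.orbit (P : Subgroup G) Q)
        ⟨Q, MulAction.mem_orbit_self Q⟩)
    exact (Sylow.ext (P.3 Q.isPGroup' hle))
  · simpa using hn

lemma relIndex_eq (h15 : Nat.card (Sylow 7 G) = 15) (P Q : Sylow 7 G) (hne : Q ≠ P) :
    (Q : Subgroup G).relIndex P = 7 := by
  refine Eq.trans ?_ (orbit_card h15 P Q hne).1
  rw [Nat.card_congr (MulAction.orbitEquivQuotientStabilizer (P : Subgroup G) Q)]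
  have : MulAction.stabilizer (P : Subgroup G) Q = (Q : Subgroup G).subgroupOf P := by
    ext u
    exact (stab_inf P Q u.2).trans Iff.rfl
  rw [this]; rfl

lemma inf_const (h15 : Nat.card (Sylow 7 G) = 15) (P Q : Sylow 7 G) (hne : Q ≠ P)
    {R : Sylow 7 G} (hR : R ∈ MulAction.orbit (P : Subgroup G) Q) :
    (P : Subgroup G) ⊓ R = (P : Subgroup G) ⊓ Q := by
  have hidx : ((Q : Subgroup G).subgroupOf (P : Subgroup G)).index = 7 := relIndex_eq h15 P Q hne
  have hnorm : ((Q : Subgroup G).subgroupOf (P : Subgroup G)).Normal := by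
    apply Subgroup.normal_of_index_eq_minFac_card
    rw [hidx]
    obtain ⟨n, hn⟩ := P.isPGroup'.exists_card_eq
    rw [hn]
    rcases Nat.eq_zero_or_pos n with h | h
    · exfalso
      have := ((Q : Subgroup G).subgroupOf (P : Subgroup G)).index_dvd_card
      rw [hidx, hn, h] at this
      norm_num at this
    · rw [Nat.pow_minFac (by omega)]; norm_num
  obtain ⟨v, rfl⟩ := hR
  ext u
  simp only [Subgroup.mem_inf, and_congr_right_iff]
  intro hu
  change u ∈ ((v : G) • Q : Sylow 7 G).toSubgroup ↔ _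
  rw [← stab_inf P _ hu, ← stab_inf P Q hu]
  constructor
  · intro h
    have h1 : ((v⁻¹ * ⟨u, hu⟩ * v : (P : Subgroup G)) : G) • Q = Q := by
      simp only [Subgroup.coe_mul, InvMemClass.coe_inv, mul_smul]
      rw [h, ← mul_smul, inv_mul_cancel, one_smul]
    have h2 := (stab_inf P Q (Subtype.coe_prop _)).mp h1
    have h3 := hnorm.conj_mem _ (Subgroup.mem_subgroupOf.mpr h2) v
    simp only [mul_assoc, mul_inv_cancel, mul_one, mul_inv_cancel_left] at h3
    exact (stab_inf P Q hu).mpr h3
  · intro h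
    have h2 := (stab_inf P Q hu).mp h
    have h3 := hnorm.conj_mem (⟨u, hu⟩ : (P : Subgroup G)) h2 v⁻¹
    have h4 := (stab_inf P Q (Subtype.coe_prop _)).mpr (Subgroup.mem_subgroupOf.mp h3)
    simp only [Subgroup.coe_mul, InvMemClass.coe_inv, inv_inv, mul_smul] at h4
    rw [inv_smul_eq_iff] at h4
    exact h4

lemma exists_two (h15 : Nat.card (Sylow 7 G) = 15) (P : Sylow 7 G) :
    ∃ A B : Sylow 7 G, A ≠ P ∧ B ≠ P ∧
      B ∉ MulAction.orbit (P : Subgroup G) A ∧
      ∀ Q : Sylow 7 G, Q ≠ P →
        Q ∈ MulAction.orbit (P : Subgroup G) A ∨ Q ∈ MulAction.orbit (P : Subgroup G) B := by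
  classical
  obtain ⟨A, hA⟩ : ∃ A : Sylow 7 G, A ≠ P := by
    by_contra h
    push Not at h
    have : Subsingleton (Sylow 7 G) := ⟨fun a b => by rw [h a, h b]⟩
    rw [Nat.card_unique] at h15
    norm_num at h15
  obtain ⟨B, hB, hBA⟩ : ∃ B : Sylow 7 G, B ≠ P ∧ B ∉ MulAction.orbit (P : Subgroup G) A := by
    by_contra h
    push Not at h
    have hsub : (Set.univ : Set (Sylow 7 G)) ⊆ insert P (MulAction.orbit (P : Subgroup G) A) := by
      intro x _
      by_cases hx : x = P
      · exact Or.inl hx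
      · exact Or.inr (h x hx)
    have h1 := (Set.ncard_le_ncard hsub).trans (Set.ncard_insert_le _ _)
    rw [Set.ncard_univ, h15, ← Nat.card_coe_set_eq, (orbit_card h15 P A hA).1] at h1
    norm_num at h1
  refine ⟨A, B, hA, hB, hBA, fun Q hQ => ?_⟩
  by_contra h
  push Not at h
  have hd : Disjoint (MulAction.orbit (P : Subgroup G) A) (MulAction.orbit (P : Subgroup G) B) := by
    rw [Set.disjoint_left]
    intro x hx hx'
    exact hBA ((MulAction.orbit_eq_iff.mpr hx).symm ▸
      (MulAction.orbit_eq_iff.mpr hx') ▸ MulAction.mem_orbit_self B)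
  have h1 : 7 + 7 = (MulAction.orbit (P : Subgroup G) A ∪ MulAction.orbit (P : Subgroup G) B).ncard := by
    rw [Set.ncard_union_eq hd, ← Nat.card_coe_set_eq, ← Nat.card_coe_set_eq,
      (orbit_card h15 P A hA).1, (orbit_card h15 P B hB).1]
  have hsub : (MulAction.orbit (P : Subgroup G) A ∪ MulAction.orbit (P : Subgroup G) B) ⊆
      ({P, Q} : Set (Sylow 7 G))ᶜ := by
    intro x hx hx'
    rcases hx' with rfl | rfl
    · rcases hx with hx | hx
      · exact (orbit_card h15 x A hA).2 hx
      · exact (orbit_card h15 x B hB).2 hx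
    · exact hx.elim h.1 h.2
  have h2 := Set.ncard_le_ncard hsub
  rw [Set.ncard_compl, h15, Set.ncard_pair (Ne.symm hQ)] at h2
  omega

variable (h15 : Nat.card (Sylow 7 G) = 15)
  (hf : ∀ g : G, (∀ P : Sylow 7 G, g • P = P) → g = 1)
include h15 hf

lemma inf_ne (P A B : Sylow 7 G) (hA : A ≠ P) (hB : B ≠ P)
    (hcov : ∀ Q : Sylow 7 G, Q ≠ P →
        Q ∈ MulAction.orbit (P : Subgroup G) A ∨ Q ∈ MulAction.orbit (P : Subgroup G) B) :
    (P : Subgroup G) ⊓ A ⊓ B = ⊥ := by
  rw [eq_bot_iff]
  rintro u ⟨⟨huP, huA⟩, huB⟩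
  rw [Subgroup.mem_bot]
  apply hf
  intro Q
  by_cases hQ : Q = P
  · subst hQ; exact (stab_inf Q Q huP).mpr huP
  rw [stab_inf P Q huP]
  rcases hcov Q hQ with h | h
  · exact ((inf_const h15 P A hA h).ge ⟨huP, huA⟩).2
  · exact ((inf_const h15 P B hB h).ge ⟨huP, huB⟩).2

lemma sylow_card (P : Sylow 7 G) : Nat.card (P : Subgroup G) = 7 := by
  classical
  have := Fintype.ofFinite (Sylow 7 G)
  have := Fintype.ofFinite (Subgroup G)
  obtain ⟨A, B, hA, hB, -, hcov⟩ := exists_two h15 P
  have hcardinf : ∀ P Q : Sylow 7 G, Q ≠ P →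
      Nat.card ((P : Subgroup G) ⊓ Q : Subgroup G) * 7 = Nat.card (P : Subgroup G) := by
    intro P Q h
    have := Subgroup.relIndex_inf_mul_relIndex (⊥ : Subgroup G) (Q : Subgroup G) (P : Subgroup G)
    rw [bot_inf_eq, Subgroup.relIndex_bot_left, Subgroup.relIndex_bot_left, relIndex_eq h15 P Q h,
      inf_comm] at this
    exact this
  have e1 := hcardinf P A hA
  have e2 := hcardinf P B hB
  obtain ⟨n, hn⟩ := P.isPGroup'.exists_card_eq
  have hbound : Nat.card ((P : Subgroup G) ⊓ A : Subgroup G) ≤ 7 := by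
    have h := Subgroup.relIndex_inf_mul_relIndex (⊥ : Subgroup G) (B : Subgroup G)
      ((P : Subgroup G) ⊓ A)
    rw [bot_inf_eq, Subgroup.relIndex_bot_left, Subgroup.relIndex_bot_left] at h
    rw [inf_comm, inf_ne h15 hf P A B hA hB hcov] at h
    rw [← h, Subgroup.card_bot, one_mul]
    calc (B : Subgroup G).relIndex ((P : Subgroup G) ⊓ A)
        ≤ (B : Subgroup G).relIndex P :=
          Subgroup.relIndex_le_of_le_right inf_le_left (by rw [relIndex_eq h15 P B hB]; norm_num)
      _ = 7 := relIndex_eq h15 P B hB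
  have hn2 : n ≤ 2 := by
    by_contra hc
    have : 7 ^ 3 ≤ 7 ^ n := Nat.pow_le_pow_right (by norm_num) (by omega)
    omega
  interval_cases n
  · omega
  · simpa using hn
  exfalso
  -- every intersection of two distinct Sylow subgroups has order 7
  have hK : ∀ R Q : Sylow 7 G, Q ≠ R → Nat.card ((R : Subgroup G) ⊓ Q : Subgroup G) = 7 := by
    intro R Q h
    have := hcardinf R Q h
    rw [R.card_eq_multiplicity, ← P.card_eq_multiplicity, hn] at this
    omega
  let L : Finset (Subgroup G) :=
    ((Finset.univ : Finset (Sylow 7 G × Sylow 7 G)).filter (fun x => x.2 ≠ x.1)).image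
      (fun x => (x.1 : Subgroup G) ⊓ x.2)
  let fib : Sylow 7 G → Subgroup G → Finset (Sylow 7 G) := fun R K =>
    Finset.univ.filter (fun Q => Q ≠ R ∧ (R : Subgroup G) ⊓ Q = K)
  have hperP : ∀ R : Sylow 7 G, ∀ K ∈ L, K ≤ (R : Subgroup G) →
      ∃ Q, Q ≠ R ∧ (R : Subgroup G) ⊓ Q = K := by
    intro R K hK' hle
    obtain ⟨⟨Q₁, Q₂⟩, hQ, rfl⟩ := Finset.mem_image.mp hK'
    have hne : Q₂ ≠ Q₁ := (Finset.mem_filter.mp hQ).2
    obtain ⟨Q, hQne, hQle⟩ : ∃ Q, Q ≠ R ∧ (Q₁ : Subgroup G) ⊓ Q₂ ≤ Q := by
      by_cases h : Q₁ = R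
      · exact ⟨Q₂, h ▸ hne, inf_le_right⟩
      · exact ⟨Q₁, h, inf_le_left⟩
    refine ⟨Q, hQne, (Subgroup.eq_of_le_of_card_ge (le_inf hle hQle) ?_).symm⟩
    rw [hK R Q hQne]; exact (hK Q₁ Q₂ hne).ge
  have two : ∀ R : Sylow 7 G, (L.filter (fun K => K ≤ (R : Subgroup G))).card = 2 ∧
      ∀ K ∈ L, K ≤ (R : Subgroup G) → (fib R K).card = 7 := by
    intro R
    obtain ⟨A, B, hA, hB, -, hcov⟩ := exists_two h15 R
    have hne : (R : Subgroup G) ⊓ A ≠ (R : Subgroup G) ⊓ B := by
      intro he
      have h1 := inf_ne h15 hf R A B hA hB hcov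
      have h2 : (R : Subgroup G) ⊓ A ⊓ B = (R : Subgroup G) ⊓ A := by
        apply inf_of_le_left
        rw [he]; exact inf_le_right
      rw [h2] at h1
      have := hK R A hA
      rw [h1, Subgroup.card_bot] at this
      norm_num at this
    have hval : ∀ Q, Q ≠ R → (R : Subgroup G) ⊓ Q = (R : Subgroup G) ⊓ A ∨
        (R : Subgroup G) ⊓ Q = (R : Subgroup G) ⊓ B := fun Q h =>
      (hcov Q h).imp (fun h' => inf_const h15 R A hA h') (fun h' => inf_const h15 R B hB h')
    have hmem : ∀ Q, Q ≠ R → (R : Subgroup G) ⊓ Q ∈ L := fun Q h =>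
      Finset.mem_image.mpr ⟨(R, Q), Finset.mem_filter.mpr ⟨Finset.mem_univ _, h⟩, rfl⟩
    constructor
    · rw [Finset.card_eq_two]
      refine ⟨_, _, hne, ?_⟩
      ext K
      simp only [Finset.mem_filter, Finset.mem_insert, Finset.mem_singleton]
      constructor
      · rintro ⟨hKL, hle⟩
        obtain ⟨Q, hQ, rfl⟩ := hperP R K hKL hle
        exact hval Q hQ
      · rintro (rfl | rfl)
        · exact ⟨hmem A hA, inf_le_left⟩
        · exact ⟨hmem B hB, inf_le_left⟩
    · intro K hKL hle
      obtain ⟨Q, hQ, rfl⟩ := hperP R K hKL hle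
      have key : ∀ C D : Sylow 7 G, C ≠ R → D ≠ R →
          (∀ Q, Q ≠ R → Q ∈ MulAction.orbit (R : Subgroup G) C ∨
            Q ∈ MulAction.orbit (R : Subgroup G) D) →
          (R : Subgroup G) ⊓ C ≠ (R : Subgroup G) ⊓ D →
          (fib R ((R : Subgroup G) ⊓ C)).card = 7 := by
        intro C D hC hD hcov hne
        refine Eq.trans ?_ (orbit_card h15 R C hC).1
        rw [Nat.card_coe_set_eq, ← Set.ncard_coe_finset]
        congr 1
        ext T
        simp only [fib, Finset.coe_filter, Finset.mem_univ, true_and, Set.mem_setOf_eq]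
        constructor
        · rintro ⟨hT, he⟩
          rcases hcov T hT with h | h
          · exact h
          · exact absurd (he.symm.trans (inf_const h15 R D hD h)) hne
        · intro h
          exact ⟨fun e => (orbit_card h15 R C hC).2 (e ▸ h), inf_const h15 R C hC h⟩
      rcases hval Q hQ with h | h <;> rw [h]
      · exact key A B hA hB hcov hne
      · exact key B A hB hA (fun Q h => (hcov Q h).symm) hne.symm
  have line : ∀ K ∈ L, (Finset.univ.filter
      (fun R : Sylow 7 G => K ≤ (R : Subgroup G))).card = 8 := by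
    intro K hKL
    obtain ⟨⟨R, Q⟩, hQ, rfl⟩ := Finset.mem_image.mp hKL
    have hne : Q ≠ R := (Finset.mem_filter.mp hQ).2
    have := (two R).2 _ hKL inf_le_left
    have e : Finset.univ.filter (fun T : Sylow 7 G => (R : Subgroup G) ⊓ Q ≤ (T : Subgroup G)) =
        insert R (fib R ((R : Subgroup G) ⊓ Q)) := by
      ext T
      simp only [fib, Finset.mem_filter, Finset.mem_univ, true_and, Finset.mem_insert]
      constructor
      · intro h
        by_cases hT : T = R
        · exact Or.inl hT
        · refine Or.inr ⟨hT, (Subgroup.eq_of_le_of_card_ge (le_inf inf_le_left h) ?_).symm⟩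
          rw [hK R T hT]; exact (hK R Q hne).ge
      · rintro (rfl | ⟨-, h⟩)
        · exact inf_le_left
        · exact h ▸ inf_le_right
    rw [e, Finset.card_insert_of_notMem (by simp [fib]), this]
  have hsum := Finset.sum_card_bipartiteAbove_eq_sum_card_bipartiteBelow
    (fun (R : Sylow 7 G) (K : Subgroup G) => K ≤ (R : Subgroup G))
    (s := Finset.univ) (t := L)
  simp only [Finset.bipartiteAbove, Finset.bipartiteBelow] at hsum
  rw [Finset.sum_congr rfl (fun R _ => (two R).1), Finset.sum_congr rfl line,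
    Finset.sum_const, Finset.sum_const, Finset.card_univ, ← Nat.card_eq_fintype_card, h15] at hsum
  simp only [smul_eq_mul] at hsum
  omega

lemma cent_pow (P : Sylow 7 G) (c : G) (hc : c ∈ Subgroup.centralizer ((P : Subgroup G) : Set G))
    (heven : ∀ _ : Fintype (Sylow 7 G), ∀ _ : DecidableEq (Sylow 7 G),
      Equiv.Perm.sign (MulAction.toPermHom G (Sylow 7 G) c) = 1) :
    c ∈ (P : Subgroup G) := by
  classical
  have := Fintype.ofFinite (Sylow 7 G)
  obtain ⟨A, B, hA, hB, hBA, hcov⟩ := exists_two h15 P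
  have hP7 := sylow_card h15 hf P
  have hcP : c • P = P := Sylow.smul_eq_iff_mem_normalizer.mpr
    (Subgroup.centralizer_le_normalizer _ hc)
  have hcomm : ∀ (d : G), (∀ u ∈ (P : Subgroup G), u * d = d * u) →
      ∀ (u : (P : Subgroup G)) (Q : Sylow 7 G), d • (u • Q) = u • (d • Q) := by
    intro d hd u Q
    change d • ((u : G) • Q) = (u : G) • (d • Q)
    rw [← mul_smul, ← mul_smul, hd u u.2]
  have hpow7 : ∀ u : (P : Subgroup G), u ^ 7 = 1 := by
    intro u
    have := pow_card_eq_one' (x := u)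
    rwa [hP7] at this
  have hfree : ∀ (u : (P : Subgroup G)) (Q : Sylow 7 G), Q ≠ P → u • Q = Q → u = 1 := by
    intro u Q hQ hu
    have hm : (u : G) ∈ (P : Subgroup G) ⊓ Q := ⟨u.2, (stab_inf P Q u.2).mp hu⟩
    have hbot : (P : Subgroup G) ⊓ Q = ⊥ := by
      rw [← Subgroup.card_eq_one]
      have := Subgroup.relIndex_inf_mul_relIndex (⊥ : Subgroup G) (Q : Subgroup G) (P : Subgroup G)
      rw [bot_inf_eq, Subgroup.relIndex_bot_left, Subgroup.relIndex_bot_left,
        relIndex_eq h15 P Q hQ, hP7, inf_comm] at this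
      omega
    rw [hbot, Subgroup.mem_bot] at hm
    exact Subtype.ext hm
  have hcd : ∀ k : ℕ, ∀ u ∈ (P : Subgroup G), u * c ^ k = c ^ k * u := fun k u hu =>
    ((Commute.pow_right (show Commute u c from hc u hu) k)).eq
  have hfix : ∀ k : ℕ, ∀ Q : Sylow 7 G, Q ≠ P → c ^ k • Q ≠ P := by
    intro k Q hQ h
    apply hQ
    have hP' : c ^ k • P = P := by
      exact Sylow.smul_eq_iff_mem_normalizer.mpr
        (Subgroup.centralizer_le_normalizer _ (Subgroup.pow_mem _ hc _))
    exact MulAction.injective _ (h.trans hP'.symm)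
  -- c ^ 2 preserves every orbit
  have hsq : ∀ Q : Sylow 7 G, Q ≠ P → c ^ 2 • Q ∈ MulAction.orbit (P : Subgroup G) Q := by
    intro Q hQ
    have horb : ∀ X Y : Sylow 7 G, X ∈ MulAction.orbit (P : Subgroup G) Y →
        c • X ∈ MulAction.orbit (P : Subgroup G) (c • Y) := by
      rintro X Y ⟨u, rfl⟩
      exact ⟨u, (hcomm c (by simpa using hcd 1) u Y).symm⟩
    have hinj : ∀ X Y : Sylow 7 G, c • X ∈ MulAction.orbit (P : Subgroup G) (c • Y) →
        X ∈ MulAction.orbit (P : Subgroup G) Y := by
      rintro X Y ⟨u, hu⟩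
      refine ⟨u, MulAction.injective c ?_⟩
      change c • (u • Y) = c • X
      rw [hcomm c (by simpa using hcd 1) u Y]; exact hu
    rw [pow_two, mul_smul]
    by_cases h1 : c • Q ∈ MulAction.orbit (P : Subgroup G) Q
    · have := horb _ _ h1
      rw [MulAction.orbit_eq_iff.mpr h1] at this
      exact this
    by_contra h2
    -- three distinct orbits otherwise
    have hQ1 : c • Q ≠ P := by simpa using hfix 1 Q hQ
    have hQ2 : c • c • Q ≠ P := by simpa [pow_two, mul_smul] using hfix 2 Q hQ
    have h3 : c • c • Q ∉ MulAction.orbit (P : Subgroup G) (c • Q) := fun h => h1 (hinj _ _ h)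
    have e : ∀ {X Y Z : Sylow 7 G}, X ∈ MulAction.orbit (P : Subgroup G) Y →
        Z ∈ MulAction.orbit (P : Subgroup G) Y → Z ∈ MulAction.orbit (P : Subgroup G) X :=
      fun h h' => by rw [MulAction.orbit_eq_iff.mpr h]; exact h'
    rcases hcov Q hQ with a | a <;> rcases hcov _ hQ1 with b | b <;>
      rcases hcov _ hQ2 with d | d
    all_goals first
      | exact h1 (e a b)
      | exact h2 (e a d)
      | exact h3 (e b d)
  have h14 : ∀ Q : Sylow 7 G, c ^ 14 • Q = Q := by
    intro Q
    by_cases hQ : Q = P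
    · subst hQ
      exact Sylow.smul_eq_iff_mem_normalizer.mpr
        (Subgroup.centralizer_le_normalizer _ (Subgroup.pow_mem _ hc _))
    obtain ⟨u, hu⟩ := hsq Q hQ
    have : ∀ k : ℕ, (c ^ 2) ^ k • Q = u ^ k • Q := by
      intro k
      induction k with
      | zero => simp
      | succ m ih =>
        rw [pow_succ', mul_smul, ih, hcomm _ (hcd 2), ← hu, ← mul_smul, ← pow_succ]
    have := this 7
    rwa [hpow7, one_smul, ← pow_mul] at this
  -- the involution part is trivial
  set t := c ^ 7 with ht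
  have ht2 : ∀ Q : Sylow 7 G, t • t • Q = Q := fun Q => by
    rw [← mul_smul, ht, ← pow_add]; exact h14 Q
  have htone : t = 1 := by
    by_contra hne
    have hne' : ∀ Q : Sylow 7 G, Q ≠ P → t • Q ≠ Q := by
      intro X hX hXfix
      apply hne
      apply hf
      intro Q
      by_cases hQ : Q = P
      · subst hQ
        exact Sylow.smul_eq_iff_mem_normalizer.mpr
          (Subgroup.centralizer_le_normalizer _ (Subgroup.pow_mem _ hc _))
      have hX' : ∀ Z ∈ MulAction.orbit (P : Subgroup G) X, t • Z = Z := by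
        rintro _ ⟨u, rfl⟩
        change t • (u • X) = u • X
        rw [hcomm t (hcd 7), hXfix]
      by_cases hQX : Q ∈ MulAction.orbit (P : Subgroup G) X
      · exact hX' Q hQX
      have htQ : t • Q ∈ MulAction.orbit (P : Subgroup G) Q := by
        have hnotX : t • Q ∉ MulAction.orbit (P : Subgroup G) X := by
          intro h
          have := hX' _ h
          rw [ht2] at this
          exact hQX (this.symm ▸ h)
        have e : ∀ {X Y Z : Sylow 7 G}, X ∈ MulAction.orbit (P : Subgroup G) Y →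
            Z ∈ MulAction.orbit (P : Subgroup G) Y → Z ∈ MulAction.orbit (P : Subgroup G) X :=
          fun h h' => by rw [MulAction.orbit_eq_iff.mpr h]; exact h'
        rcases hcov Q hQ with a | a <;> rcases hcov X hX with b | b <;>
          rcases hcov _ (hfix 7 Q hQ) with d | d
        all_goals first
          | exact absurd (e b a) hQX
          | exact absurd (e b d) hnotX
          | exact e a d
      obtain ⟨u, hu⟩ := htQ
      have hu2 : u ^ 2 • Q = Q := by
        have : t • t • Q = u ^ 2 • Q := by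
          rw [← hu, hcomm t (hcd 7), ← hu, pow_two, mul_smul]
        rw [← this, ht2]
      have hu1 : u = 1 := by
        have h2 := hfree _ Q hQ hu2
        have h7 := hpow7 u
        calc u = u ^ 7 * ((u ^ 2)⁻¹) ^ 3 := by group
          _ = 1 := by rw [h7, h2]; simp
      rw [← hu, hu1]; exact one_smul _ _
    set σ := MulAction.toPermHom G (Sylow 7 G) t with hσ
    have hsupp : σ.support = Finset.univ.erase P := by
      ext Q
      simp only [Equiv.Perm.mem_support, Finset.mem_erase, Finset.mem_univ, and_true]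
      constructor
      · intro h hQ
        apply h
        subst hQ
        change t • Q = Q
        exact Sylow.smul_eq_iff_mem_normalizer.mpr
          (Subgroup.centralizer_le_normalizer _ (Subgroup.pow_mem _ hc _))
      · exact fun hQ => hne' Q hQ
    have hσ2 : σ ^ 2 = 1 := by
      ext1 Q
      rw [pow_two, Equiv.Perm.mul_apply]
      exact ht2 Q
    have hsign : Equiv.Perm.sign σ = 1 := by
      rw [hσ, ht, map_pow, map_pow, heven _ _, one_pow]
    have hty : ∀ x ∈ σ.cycleType, x = 2 := by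
      intro x hx
      have h2 := Equiv.Perm.two_le_of_mem_cycleType hx
      have := Equiv.Perm.dvd_of_mem_cycleType hx
      have := Nat.le_of_dvd (by norm_num) (this.trans (orderOf_dvd_of_pow_eq_one hσ2))
      omega
    have hcount : σ.cycleType.sum = 14 := by
      rw [Equiv.Perm.sum_cycleType, hsupp, Finset.card_erase_of_mem (Finset.mem_univ _),
        Finset.card_univ, ← Nat.card_eq_fintype_card, h15]
    rw [Multiset.eq_replicate_card.mpr hty, Multiset.sum_replicate, smul_eq_mul] at hcount
    rw [Equiv.Perm.sign_of_cycleType, Multiset.eq_replicate_card.mpr hty, Multiset.sum_replicate,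
      Multiset.card_replicate, smul_eq_mul, show Multiset.card σ.cycleType = 7 by omega] at hsign
    exact absurd hsign (by decide)
  have hz : IsPGroup 7 (Subgroup.zpowers c) := by
    refine IsPGroup.iff_card.mpr ?_
    obtain ⟨i, -, hi⟩ := (Nat.dvd_prime_pow (Fact.out : Nat.Prime 7)).mp
      (show orderOf c ∣ 7 ^ 1 by simpa using orderOf_dvd_of_pow_eq_one htone)
    exact ⟨i, by rw [Nat.card_zpowers, hi]⟩
  have := hz.inf_normalizer_sylow P
  have hmem : c ∈ Subgroup.zpowers c ⊓ Subgroup.normalizer (P : Set G) :=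
    ⟨Subgroup.mem_zpowers c, Subgroup.centralizer_le_normalizer _ hc⟩
  rw [this] at hmem
  exact hmem.2

omit h15 hf in
lemma all_sylow_map (L : Subgroup G) (hL : ∀ P : Sylow 7 G, (P : Subgroup G) ≤ L)
    (N : Subgroup L) [N.Normal] (hN : ¬ 7 ∣ N.index) :
    ∀ P : Sylow 7 G, (P : Subgroup G) ≤ N.map L.subtype := by
  intro P u hu
  have hcop : (N.index).Coprime (orderOf (⟨u, hL P hu⟩ : L)) := by
    obtain ⟨k, hk⟩ := IsPGroup.iff_orderOf.mp P.isPGroup' ⟨u, hu⟩
    rw [show orderOf (⟨u, hL P hu⟩ : L) = 7 ^ k by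
      rw [← hk, Subgroup.orderOf_mk, Subgroup.orderOf_mk]]
    exact Nat.Coprime.pow_right _ ((Nat.Prime.coprime_iff_not_dvd Fact.out).mpr hN).symm
  refine ⟨⟨u, hL P hu⟩, ?_, rfl⟩
  have h1 : (⟨u, hL P hu⟩ : L) ^ N.index ∈ N := N.pow_index_mem _
  rw [SetLike.mem_coe, ← zpow_one (⟨u, hL P hu⟩ : L),
    ← (by exact_mod_cast hcop : (Nat.gcd N.index (orderOf (⟨u, hL P hu⟩ : L)) : ℤ) = 1),
    Nat.gcd_eq_gcd_ab, zpow_add, zpow_mul, zpow_mul, zpow_natCast, zpow_natCast, pow_orderOf_eq_one,
    one_zpow, mul_one]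
  exact N.zpow_mem h1 _

omit hf in
lemma transitive_card (L : Subgroup G) (hL : ∀ P : Sylow 7 G, (P : Subgroup G) ≤ L)
    (P : Sylow 7 G) : 15 * Nat.card (MulAction.stabilizer L P) = Nat.card L := by
  have htop : MulAction.orbit L P = Set.univ := by
    refine Set.eq_univ_of_forall fun Q => ?_
    obtain ⟨g, hg⟩ := MulAction.exists_smul_eq L (P.subtype (hL P)) (Q.subtype (hL Q))
    refine ⟨g, Sylow.subtype_injective (hP := hL _) (hQ := hL _) ?_⟩
    rw [← Sylow.smul_subtype]
    exact hg
  rw [← (MulAction.stabilizer L P).index_mul_card, MulAction.index_stabilizer, htop,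
    Set.ncard_univ, h15]

lemma contra : False := by
  classical
  have := Fintype.ofFinite (Sylow 7 G)
  let φ : G →* ℤˣ := Equiv.Perm.sign.comp (MulAction.toPermHom G (Sylow 7 G))
  have : Fact (Nat.Prime 2) := ⟨Nat.prime_two⟩
  have : Fact (Nat.Prime 5) := ⟨by norm_num⟩
  have hidx0 : φ.ker.index ∣ 2 := by
    rw [Subgroup.index_ker]
    have h := Subgroup.card_subgroup_dvd_card φ.range
    rwa [Nat.card_eq_fintype_card (α := ℤˣ), Fintype.card_units_int] at h
  let L0 := φ.ker
  have hL0 : ∀ P : Sylow 7 G, (P : Subgroup G) ≤ L0 := by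
    intro P u hu
    have h7 : u ^ 7 = 1 := by
      have := pow_card_eq_one' (x := (⟨u, hu⟩ : (P : Subgroup G)))
      rw [sylow_card h15 hf P] at this
      exact congrArg Subtype.val this
    change φ u = 1
    have h1 : φ u ^ 7 = 1 := by rw [← map_pow, h7, map_one]
    rcases Int.units_eq_one_or (φ u) with h | h
    · exact h
    · rw [h] at h1; exact absurd h1 (by decide)
  obtain ⟨P⟩ : Nonempty (Sylow 7 G) := inferInstance
  set S := MulAction.stabilizer L0 P
  have hS : Nat.card S ∣ 42 := by
    let M : Subgroup G := S.map L0.subtype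
    have hMc : Nat.card M = Nat.card S :=
      (Nat.card_congr (S.equivMapOfInjective L0.subtype L0.subtype_injective).toEquiv).symm
    have hMn : M ≤ Subgroup.normalizer (P : Set G) := by
      rintro _ ⟨x, hx, rfl⟩
      exact Sylow.smul_eq_iff_mem_normalizer.mp hx
    let ψ : M →* MulAut (P : Subgroup G) :=
      (Subgroup.normalizerMonoidHom (P : Subgroup G)).comp (Subgroup.inclusion hMn)
    have hker : Nat.card ψ.ker ∣ 7 := by
      refine Dvd.dvd.trans ?_ (sylow_card h15 hf P).dvd
      refine Subgroup.card_dvd_of_injective ((ψ.ker.subtype.codRestrict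
        ((P : Subgroup G).comap M.subtype) ?_) |> fun f =>
          ((M.subtype.comp ((P : Subgroup G).comap M.subtype).subtype).codRestrict
            (P : Subgroup G) (fun x => x.2)).comp f) ?_
      · intro x
        have hk : Subgroup.inclusion hMn (x : M) ∈
            (Subgroup.normalizerMonoidHom (P : Subgroup G)).ker := x.2
        rw [Subgroup.normalizerMonoidHom_ker, Subgroup.mem_subgroupOf] at hk
        obtain ⟨y, -, hy⟩ := (x : M).2
        change ((x : M) : G) ∈ (P : Subgroup G)
        refine cent_pow h15 hf P _ hk ?_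
        intro i1 i2
        have hy0 := y.2
        rw [← hy]
        convert (MonoidHom.mem_ker.mp hy0 : φ y = 1)
        simp [φ]
        congr <;> exact Subsingleton.elim _ _
      · intro a b h
        exact Subtype.ext (Subtype.ext (congrArg Subtype.val h :))
    have hP7 := sylow_card h15 hf P
    have hcyc : IsCyclic (P : Subgroup G) := isCyclic_of_prime_card hP7
    have hrange : Nat.card ψ.range ∣ 6 := by
      have := Subgroup.card_subgroup_dvd_card ψ.range
      rwa [hcyc.card_mulAut, hP7, Nat.totient_prime (by norm_num)] at this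
    rw [← hMc, ← ψ.ker.card_mul_index, Subgroup.index_ker]
    exact Nat.mul_dvd_mul hker hrange
  have hL0c : Nat.card L0 ∣ 630 := by
    rw [← transitive_card h15 L0 hL0 P]
    exact Nat.mul_dvd_mul_left 15 hS
  have h1or : ∀ L : Subgroup G, (∀ P : Sylow 7 G, (P : Subgroup G) ≤ L) → Nat.card L ∣ 630 →
      ∃ L1 : Subgroup G, (∀ P : Sylow 7 G, (P : Subgroup G) ≤ L1) ∧ Nat.card L1 ∣ 315 := by
    intro L hL hc
    by_cases h2 : 2 ∣ Nat.card L
    · have hmin : (Nat.card L).minFac = 2 := (Nat.minFac_eq_two_iff _).mpr h2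
      let T : Sylow 2 L := default
      have hT : Nat.card T = 2 := by
        rw [T.card_eq_multiplicity]
        have h4 : ¬ 2 ^ 2 ∣ Nat.card L := fun h => by
          have := h.trans hc; norm_num at this
        have h5 := Nat.Prime.pow_dvd_iff_le_factorization Nat.prime_two
          (Nat.card_pos (α := L)).ne' (k := 2)
        have h6 := (Nat.Prime.pow_dvd_iff_le_factorization Nat.prime_two
          (Nat.card_pos (α := L)).ne' (k := 1)).mp (by simpa using h2)
        rw [h5, not_le] at h4
        rw [show (Nat.card L).factorization 2 = 1 by omega, pow_one]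
      have hcyc : IsCyclic T := isCyclic_of_prime_card hT
      have hcomp := IsCyclic.isComplement' (P := T) hmin hcyc
      set K := (MonoidHom.transferSylow T (hcyc.normalizer_le_centralizer hmin)).ker
      have hKi : K.index = 2 := by rw [hcomp.symm.index_eq_card, hT]
      refine ⟨K.map L.subtype, all_sylow_map L hL K (by rw [hKi]; norm_num), ?_⟩
      rw [← Nat.card_congr (K.equivMapOfInjective L.subtype L.subtype_injective).toEquiv]
      have := K.card_mul_index
      rw [hKi] at this
      rw [← this] at hc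
      exact Nat.dvd_of_mul_dvd_mul_right (by norm_num : 0 < 2) (by simpa using hc)
    · refine ⟨L, hL, ?_⟩
      exact (Nat.Coprime.dvd_mul_left
        ((Nat.Prime.coprime_iff_not_dvd Nat.prime_two).mpr h2).symm).mp
        (by simpa using hc : Nat.card L ∣ 2 * 315)
  obtain ⟨L1, hL1, hL1c⟩ := h1or L0 hL0 hL0c
  -- Burnside's transfer for the prime 5
  let T : Sylow 5 L1 := default
  have h15' : 15 ∣ Nat.card L1 := ⟨_, (transitive_card h15 L1 hL1 P).symm⟩
  have hT : Nat.card T = 5 := by
    rw [T.card_eq_multiplicity]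
    have h4 : ¬ 5 ^ 2 ∣ Nat.card L1 := fun h => by
      have := h.trans hL1c; norm_num at this
    have h5 := Nat.Prime.pow_dvd_iff_le_factorization (by norm_num : Nat.Prime 5)
      (Nat.card_pos (α := L1)).ne' (k := 2)
    have h6 := (Nat.Prime.pow_dvd_iff_le_factorization (by norm_num : Nat.Prime 5)
      (Nat.card_pos (α := L1)).ne' (k := 1)).mp ((by norm_num : 5 ^ 1 ∣ 15).trans h15')
    rw [h5, not_le] at h4
    rw [show (Nat.card L1).factorization 5 = 1 by omega, pow_one]
  have hcyc : IsCyclic T := isCyclic_of_prime_card hT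
  have hNC : Subgroup.normalizer (T : Set L1) ≤ Subgroup.centralizer (T : Set L1) := by
    intro x hx
    have hxo : orderOf (Subgroup.normalizerMonoidHom (T : Subgroup L1) ⟨x, hx⟩) = 1 := by
      apply Nat.eq_one_of_dvd_coprimes (show Nat.Coprime 4 315 by norm_num)
      · have := orderOf_dvd_natCard (Subgroup.normalizerMonoidHom (T : Subgroup L1) ⟨x, hx⟩)
        rwa [hcyc.card_mulAut, hT, Nat.totient_prime (by norm_num)] at this
      · exact ((orderOf_map_dvd _ _).trans ((Subgroup.orderOf_mk x hx).dvd.trans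
          (orderOf_dvd_natCard x))).trans hL1c
    rw [orderOf_eq_one_iff, ← MonoidHom.mem_ker, Subgroup.normalizerMonoidHom_ker] at hxo
    exact hxo
  have hcomp := MonoidHom.ker_transferSylow_isComplement' T hNC
  set K := (MonoidHom.transferSylow T hNC).ker
  have hKi : K.index = 5 := by rw [hcomp.symm.index_eq_card, hT]
  have hfinal := transitive_card h15 (K.map L1.subtype)
    (all_sylow_map L1 hL1 K (by rw [hKi]; norm_num)) P
  rw [← Nat.card_congr (K.equivMapOfInjective L1.subtype L1.subtype_injective).toEquiv] at hfinal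
  have := MonoidHom.not_dvd_card_ker_transferSylow T hNC
  exact this ⟨3 * Nat.card (MulAction.stabilizer (K.map L1.subtype) P), by
    rw [← mul_assoc]; exact hfinal.symm⟩

end main

/-- No finite group has exactly 15 Sylow 7-subgroups. -/
theorem result {G : Type*} [Group G] [Finite G] : Nat.card (Sylow 7 G) ≠ 15 := by
  intro h
  have : Fact (Nat.Prime 7) := ⟨by norm_num⟩
  exact contra (G := G ⧸ ker0 G) (ker0_card.trans h) ker0_faithful

end Cfsg.Agent.S4304
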