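import Cfsg.Statements.S4305

set_option autoImplicit false
open Cfsg

namespace Cfsg.Agent.S4305

open Finset
open scoped Pointwise commutatorElement

set_option linter.unusedSectionVars false
set_option linter.unusedSimpArgs false

attribute [local instance] Fintype.ofFinite

universe u

/-- the symmetric group on three letters -/
abbrev Γ := Equiv.Perm (Fin 3)

/-- the three-cycle -/
def cy : Γ := finRotate 3

/-- the transposition fixing a given point -/
def sw (i : Fin 3) : Γ := Equiv.swap (i + 1) (i + 2)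

section perm

lemma cases6 : ∀ γ : Γ, γ = 1 ∨ γ = cy ∨ γ = cy * cy ∨ γ = sw 0 ∨ γ = sw 1 ∨ γ = sw 2 := by
  decide

lemma cy3 : cy * (cy * cy) = 1 := by decide
lemma cy3' : (cy * cy) * cy = 1 := by decide
lemma cy4 : cy * cy * (cy * cy) = cy := by decide
lemma cy_pow : cy ^ 3 = 1 := by decide
lemma sw_sq : ∀ i, sw i * sw i = 1 := by decide
lemma sw_pow : ∀ i, sw i ^ 2 = 1 := by decide
lemma sw_cy : ∀ i, sw i * cy = cy * cy * sw i := by decide
lemma sw_cy2 : ∀ i, sw i * (cy * cy) = cy * sw i := by decide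
lemma sw_sw : ∀ i j, i ≠ j → sw i * sw j = cy ∨ sw i * sw j = cy * cy := by decide
lemma cy_sw : ∀ l, ∃ m, m ≠ l ∧ cy * sw l = sw m * cy := by decide
lemma sw_coset : ∀ i j, ∃ γ, (γ = 1 ∨ γ = cy ∨ γ = cy * cy) ∧ sw j = sw i * γ := by decide
lemma sw_conj : ∀ i, ∃ γ, sw 0 * γ = γ * sw i := by decide
lemma coset0 : ∀ γ, ∃ δ, (δ = 1 ∨ δ = cy ∨ δ = cy * cy) ∧ (γ = δ ∨ γ = δ * sw 0) := by decide
lemma sw_gen : sw 1 * sw 0 = cy ∨ sw 0 * sw 1 = cy := by decide

lemma sum6 {M : Type*} [AddCommMonoid M] (f : Γ → M) :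
    ∑ γ, f γ = f 1 + f cy + f (cy * cy) + ∑ i, f (sw i) := by
  have h : (Finset.univ : Finset Γ) = {1, cy, cy * cy, sw 0, sw 1, sw 2} := by decide
  rw [h, Fin.sum_univ_three, Finset.sum_insert (by decide), Finset.sum_insert (by decide),
    Finset.sum_insert (by decide), Finset.sum_insert (by decide), Finset.sum_insert (by decide),
    Finset.sum_singleton]
  simp only [add_assoc]

lemma comm_id {A : Type*} [CommGroup A] (k r s k' r' s' : A) :
    (k * k') ^ 3 = (k * r * s) * (k' * r' * s') *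
      ((k⁻¹ * r) * (k⁻¹ * s) * ((k'⁻¹ * r') * (k'⁻¹ * s')))⁻¹ := by
  apply Additive.ofMul.injective
  simp only [ofMul_mul, ofMul_inv, ofMul_pow]
  abel

end perm

section grp

variable {G : Type*} [Group G] [Finite G]

lemma mem_of_pow (S : Subgroup G) {n : ℕ} (hn : n.Coprime (Nat.card G)) {g : G}
    (h : g ^ n ∈ S) : g ∈ S := by
  obtain ⟨m, hm⟩ := exists_pow_eq_self_of_coprime
    (x := g) (hn.coprime_dvd_right (orderOf_dvd_natCard g))
  rw [← hm]
  exact S.pow_mem h m

lemma eq_one_of_pow {n : ℕ} (hn : n.Coprime (Nat.card G)) {g : G} (h : g ^ n = 1) : g = 1 :=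
  Subgroup.mem_bot.mp (mem_of_pow ⊥ hn (Subgroup.mem_bot.mpr h))

variable [MulDistribMulAction Γ G]

/-- centralised elements of a permutation -/
def fixG (γ : Γ) : Subgroup G where
  carrier := {g | γ • g = g}
  one_mem' := smul_one γ
  mul_mem' := fun {a b} ha hb => by
    simp only [Set.mem_ofPred_eq] at *
    rw [smul_mul', ha, hb]
  inv_mem' := fun {a} ha => by
    simp only [Set.mem_ofPred_eq] at *
    rw [smul_inv', ha]

lemma mem_fixG {γ : Γ} {g : G} : g ∈ fixG γ ↔ γ • g = g := Iff.rfl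

lemma fixed_rep {q : ℕ} [Fact q.Prime] (hq : ¬ q ∣ Nat.card G) {γ : Γ} (hγ : γ ^ q = 1)
    (N : Subgroup G) (hN : ∀ n ∈ N, γ • n ∈ N) {g : G} (hg : g⁻¹ * γ • g ∈ N) :
    ∃ n ∈ N, γ • (g * n) = g * n := by
  classical
  let f : N → N := fun n => ⟨g⁻¹ * γ • g * γ • (n : G), N.mul_mem hg (hN _ n.2)⟩
  have hinj : Function.Injective f := by
    intro a b h
    have h1 := congrArg Subtype.val h
    exact Subtype.ext (MulAction.injective γ (mul_left_cancel h1))
  let σ : Equiv.Perm N := Equiv.ofBijective f (Finite.injective_iff_bijective.mp hinj)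
  have hσn : ∀ (k : ℕ) (n : N), (((σ ^ k) n : N) : G) = g⁻¹ * (γ ^ k) • (g * (n : G)) := by
    intro k
    induction k with
    | zero => intro n; simp
    | succ k ih =>
      intro n
      rw [pow_succ', Equiv.Perm.mul_apply, pow_succ', mul_smul]
      change g⁻¹ * γ • g * γ • (((σ ^ k) n : N) : G) = _
      rw [ih n, smul_mul' γ g⁻¹, smul_inv']
      group
  have h3 : σ ^ q ^ 1 = 1 := by
    ext n
    rw [pow_one, hσn q n, hγ, one_smul]
    simp
  have hcard : ¬ q ∣ Fintype.card N := by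
    rw [← Nat.card_eq_fintype_card]
    exact fun h => hq (h.trans N.card_subgroup_dvd_card)
  obtain ⟨n, hn⟩ := Equiv.Perm.exists_fixed_point_of_prime hcard h3
  refine ⟨n, n.2, ?_⟩
  have h4 : g⁻¹ * γ • g * γ • (n : G) = n := congrArg Subtype.val hn
  calc γ • (g * n) = g * (g⁻¹ * γ • g * γ • (n : G)) := by rw [smul_mul']; group
    _ = g * n := by rw [h4]

variable (c6 : (Nat.card G).Coprime 6) (hfix : ∀ g : G, (∀ γ : Γ, γ • g = g) → g = 1)

include c6

lemma cop2 : Nat.Coprime 2 (Nat.card G) := (c6.coprime_dvd_right (by norm_num)).symm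

lemma cop3 : Nat.Coprime 3 (Nat.card G) := (c6.coprime_dvd_right (by norm_num)).symm

lemma rep3 (N : Subgroup G) (hN : ∀ n ∈ N, cy • n ∈ N) {g : G} (hg : g⁻¹ * cy • g ∈ N) :
    ∃ n ∈ N, cy • (g * n) = g * n := by
  have : Fact (Nat.Prime 3) := ⟨Nat.prime_three⟩
  exact fixed_rep (Nat.prime_three.coprime_iff_not_dvd.mp (cop3 c6)) cy_pow N hN hg

lemma rep2 (i : Fin 3) (N : Subgroup G) (hN : ∀ n ∈ N, sw i • n ∈ N) {g : G}
    (hg : g⁻¹ * sw i • g ∈ N) : ∃ n ∈ N, sw i • (g * n) = g * n := by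
  have : Fact (Nat.Prime 2) := ⟨Nat.prime_two⟩
  exact fixed_rep (Nat.prime_two.coprime_iff_not_dvd.mp (cop2 c6)) (sw_pow i) N hN hg

include hfix

omit c6 in
lemma fixed_both {i : Fin 3} {g : G} (h1 : cy • g = g) (h2 : sw i • g = g) : g = 1 := by
  apply hfix
  have hs : ∀ j, sw j • g = g := by
    intro j
    obtain ⟨γ, hγ, he⟩ := sw_coset i j
    rw [he, mul_smul]
    rcases hγ with rfl | rfl | rfl <;> simp [mul_smul, h1, h2]
  intro γ
  rcases cases6 γ with rfl | rfl | rfl | rfl | rfl | rfl <;> simp [mul_smul, h1, hs]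

lemma inv_of_cy {g : G} (h : cy • g = g) (i : Fin 3) : sw i • g = g⁻¹ := by
  let C : Subgroup G := fixG cy
  have hC : ∀ x ∈ C, sw i • x ∈ C := by
    intro x hx
    rw [mem_fixG] at hx ⊢
    rw [← mul_smul, ← sw_cy2, mul_smul, mul_smul, hx, hx]
  let φ : C →* C := ((MulDistribMulAction.toMonoidHom G (sw i)).comp C.subtype).codRestrict C
    (fun x => hC x x.2)
  have hφ : MonoidHom.FixedPointFree φ := fun x hx =>
    Subtype.ext (fixed_both hfix x.2 (congrArg Subtype.val hx))
  have h2 : Function.Involutive φ := fun x => Subtype.ext (by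
    change sw i • sw i • (x : G) = x
    rw [← mul_smul, sw_sq, one_smul])
  exact congrArg Subtype.val (congrFun (MonoidHom.FixedPointFree.coe_eq_inv_of_involutive hφ h2)
    ⟨g, h⟩)

lemma commute_cy {a b : G} (ha : cy • a = a) (hb : cy • b = b) : a * b = b * a := by
  have h := inv_of_cy c6 hfix (g := a * b) (by rw [smul_mul', ha, hb]) 0
  rw [smul_mul', inv_of_cy c6 hfix ha, inv_of_cy c6 hfix hb, mul_inv_rev] at h
  calc a * b = b * a * (a⁻¹ * b⁻¹) * (a * b) := by group
    _ = b * a := by rw [h]; group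

lemma quot_fix (N : Subgroup G) (hN : ∀ γ : Γ, ∀ n ∈ N, γ • n ∈ N) {g : G} [N.Normal]
    (hg : ∀ γ : Γ, g⁻¹ * γ • g ∈ N) : g ∈ N := by
  obtain ⟨n, hn, hr⟩ := rep3 c6 N (hN cy) (hg cy)
  have h1 := inv_of_cy c6 hfix hr 0
  have h2 : (g * n)⁻¹ * sw 0 • (g * n) ∈ N := by
    rw [smul_mul', mul_inv_rev]
    have h3 := N.mul_mem (N.mul_mem (N.inv_mem hn) (hg (sw 0))) (hN (sw 0) n hn)
    simpa [mul_assoc] using h3
  rw [h1] at h2
  have h4 : (g * n) ^ 2 ∈ N := by
    have h5 := N.inv_mem h2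
    simpa [pow_two, mul_assoc] using h5
  exact (N.mul_mem_cancel_right hn).mp (mem_of_pow N (cop2 c6) h4)

end grp

/-- the hypotheses on an operator group and its module -/
structure Ctx (H V : Type*) [Group H] [MulDistribMulAction Γ H] [AddCommGroup V]
    [DistribMulAction H V] [DistribMulAction Γ V] (p : ℕ) : Prop where
  comp : ∀ (γ : Γ) (h : H) (v : V), γ • h • v = (γ • h) • γ • v
  rel : ∀ v : V, v + cy • v + (cy * cy) • v + ∑ i : Fin 3, sw i • v = 0
  card6 : (Nat.card H).Coprime 6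
  fix : ∀ g : H, (∀ γ : Γ, γ • g = g) → g = 1
  pV : ∀ v : V, p • v = 0
  p6 : p.Coprime 6
  faith : ∀ g : H, (∀ v : V, g • v = v) → g = 1

/-- the hypotheses on an abelian invariant normal subgroup -/
structure Kc {H : Type*} [Group H] [MulDistribMulAction Γ H] (K : Subgroup H) (p : ℕ) : Prop where
  normal : K.Normal
  comm : ∀ a ∈ K, ∀ b ∈ K, a * b = b * a
  inv : ∀ γ : Γ, ∀ k ∈ K, γ • k ∈ K
  cop : (Nat.card K).Coprime p

section module

variable {H V : Type*} [Group H] [Finite H] [MulDistribMulAction Γ H] [AddCommGroup V]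
  [Finite V] [DistribMulAction H V] [DistribMulAction Γ V] {p : ℕ}
  (c : Ctx H V p) {K : Subgroup H} (hK : Kc K p)

/-- vectors fixed by all translated elements -/
def Fx (K : Subgroup H) (γ : Γ) (v : V) : Prop := ∀ k ∈ K, (k⁻¹ * γ • k) • v = v

/-- averaging operator -/
noncomputable def EE (K : Subgroup H) (γ : Γ) : V →+ V :=
  ∑ k : K, DistribSMul.toAddMonoidHom V ((k : H)⁻¹ * γ • (k : H))

/-- commuting with all elements of a subgroup -/
def Com (K : Subgroup H) (φ : V →+ V) : Prop := ∀ k ∈ K, ∀ x : V, φ (k • x) = k • φ x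

/-- conjugate operator -/
def cj (h : H) (φ : V →+ V) : V →+ V :=
  (DistribSMul.toAddMonoidHom V h⁻¹).comp (φ.comp (DistribSMul.toAddMonoidHom V h))

lemma cj_apply (h : H) (φ : V →+ V) (x : V) : cj h φ x = h⁻¹ • φ (h • x) := rfl

lemma EE_apply (γ : Γ) (v : V) :
    EE K γ v = ∑ k : K, ((k : H)⁻¹ * γ • (k : H)) • v := by
  simp [EE]

lemma cancel {n : ℕ} (hn : n.Coprime p) (hp : ∀ v : V, p • v = 0) {v : V} (h : n • v = 0) :
    v = 0 :=
  AddMonoid.addOrderOf_eq_one_iff.mp (Nat.eq_one_of_dvd_coprimes hn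
    (addOrderOf_dvd_iff_nsmul_eq_zero.mpr h) (addOrderOf_dvd_iff_nsmul_eq_zero.mpr (hp v)))

lemma Fx.mul {a b : Γ} {v : V} (hinv : ∀ k ∈ K, b • k ∈ K) (ha : Fx K a v) (hb : Fx K b v) :
    Fx K (a * b) v := by
  intro k hk
  have h : k⁻¹ * (a * b) • k = (k⁻¹ * b • k) * ((b • k)⁻¹ * a • (b • k)) := by
    rw [mul_smul]; group
  rw [h, mul_smul, ha _ (hinv k hk), hb k hk]

lemma Fx.add {a : Γ} {v w : V} (h1 : Fx K a v) (h2 : Fx K a w) : Fx K a (v + w) := fun k hk => by
  rw [smul_add, h1 k hk, h2 k hk]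

lemma Fx.sub {a : Γ} {v w : V} (h1 : Fx K a v) (h2 : Fx K a w) : Fx K a (v - w) := fun k hk => by
  rw [smul_sub, h1 k hk, h2 k hk]

lemma Fx.nsmul {a : Γ} {v : V} (n : ℕ) (h : Fx K a v) : Fx K a (n • v) := fun k hk => by
  rw [smul_comm, h k hk]

lemma Fx_zero {a : Γ} : Fx K a (0 : V) := fun _ _ => smul_zero _

lemma Fx.sum {ι : Type*} {a : Γ} {s : Finset ι} {f : ι → V} (h : ∀ i ∈ s, Fx K a (f i)) :
    Fx K a (∑ i ∈ s, f i) := fun k hk => by
  rw [Finset.smul_sum]; exact Finset.sum_congr rfl fun i hi => h i hi k hk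

include c in
lemma Fx.smul_perm (hinv : ∀ γ : Γ, ∀ k ∈ K, γ • k ∈ K) {γ γ' δ : Γ} (he : δ * γ = γ' * δ)
    {v : V} (h : Fx K γ v) : Fx K γ' (δ • v) := by
  intro k hk
  have h1 := congrArg (δ • ·) (h (δ⁻¹ • k) (hinv _ k hk))
  simp only [c.comp, smul_mul', smul_inv', smul_inv_smul, ← mul_smul δ γ, he] at h1
  rwa [mul_smul γ' δ, smul_inv_smul] at h1

section K

include hK

lemma inK (γ : Γ) {k : H} (hk : k ∈ K) : k⁻¹ * γ • k ∈ K :=
  K.mul_mem (K.inv_mem hk) (hK.inv γ k hk)

omit hK in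
lemma Com.fx {φ : V →+ V} (hK : Kc K p) (hφ : Com K φ) {γ : Γ} {x : V} (h : Fx K γ x) :
    Fx K γ (φ x) := fun k hk => by
  rw [← hφ _ (inK hK γ hk), h k hk]

omit hK in
lemma Com.EE {φ : V →+ V} (hK : Kc K p) (hφ : Com K φ) (γ : Γ) (x : V) :
    EE K γ (φ x) = φ (EE K γ x) := by
  rw [EE_apply, EE_apply, map_sum]
  exact Finset.sum_congr rfl fun k _ => (hφ _ (inK hK γ k.2) x).symm

lemma EE_com (γ : Γ) : Com K (EE K γ : V →+ V) := by
  intro k hk x
  rw [EE_apply, EE_apply, Finset.smul_sum]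
  refine Finset.sum_congr rfl fun a _ => ?_
  rw [← mul_smul, ← mul_smul, hK.comm _ (inK hK γ a.2) _ hk]

lemma Com.comp {φ ψ : V →+ V} (h1 : Com K φ) (h2 : Com K ψ) : Com K (φ.comp ψ) := by
  intro k hk x
  simp only [AddMonoidHom.comp_apply, h2 k hk, h1 k hk]

lemma Com.cj {φ : V →+ V} (h : H) (hφ : Com K φ) : Com K (cj h φ) := by
  intro k hk x
  have h1 : h * k * h⁻¹ ∈ K := hK.normal.conj_mem k hk h
  rw [cj_apply, cj_apply, show h • k • x = (h * k * h⁻¹) • h • x by simp [← mul_smul],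
    hφ _ h1, ← mul_smul, ← mul_smul]
  congr 1
  group

lemma EE_fx (γ : Γ) (v : V) : Fx K γ (EE K γ v) := by
  intro k hk
  rw [EE_apply, Finset.smul_sum]
  refine Fintype.sum_equiv (Equiv.mulLeft (⟨k, hk⟩ : K)) _ _ fun a => ?_
  rw [← mul_smul]
  congr 1
  simp only [Equiv.coe_mulLeft, Subgroup.coe_mul, smul_mul', mul_inv_rev]
  rw [show (a : H)⁻¹ * k⁻¹ * (γ • k * γ • (a : H))
      = (a : H)⁻¹ * (k⁻¹ * γ • k) * γ • (a : H) by group,
    hK.comm _ (K.inv_mem a.2) _ (inK hK γ hk)]
  simp only [mul_assoc]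

omit hK in
lemma EE_of_fx {γ : Γ} {v : V} (h : Fx K γ v) : EE K γ v = Nat.card K • v := by
  rw [EE_apply, Finset.sum_congr rfl (fun k _ => h _ k.2), Finset.sum_const, Finset.card_univ,
    Nat.card_eq_fintype_card]

variable {hK}

include c

lemma cancelK {v : V} (h : Nat.card K • v = 0) : v = 0 := cancel hK.cop c.pV h

lemma eq_zero {γ : Γ} {v : V} (h : Fx K γ v) (h0 : EE K γ v = 0) : v = 0 :=
  cancelK c (hK := hK) (by rw [← EE_of_fx h, h0])

lemma smul_EE (γ : Γ) (v : V) : γ • EE K γ v = EE K γ (γ • v) := by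
  rw [EE_apply, EE_apply, Finset.smul_sum]
  let e : K ≃ K :=
    { toFun := fun k => ⟨γ • (k : H), hK.inv γ k k.2⟩
      invFun := fun k => ⟨γ⁻¹ • (k : H), hK.inv γ⁻¹ k k.2⟩
      left_inv := fun k => Subtype.ext (inv_smul_smul γ _)
      right_inv := fun k => Subtype.ext (smul_inv_smul γ _) }
  refine Fintype.sum_equiv e _ _ fun a => ?_
  rw [c.comp, smul_mul', smul_inv']
  rfl

lemma averaged (v : V) : Nat.card K • v + cy • EE K cy v + (cy * cy) • EE K (cy * cy) v
    + ∑ i, sw i • EE K (sw i) v = 0 := by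
  rw [smul_EE c (hK := hK) cy, smul_EE c (hK := hK) (cy * cy),
    Finset.sum_congr rfl (fun i _ => smul_EE c (hK := hK) (sw i) v)]
  simp only [EE_apply]
  rw [Finset.sum_comm, Nat.card_eq_fintype_card, ← Finset.card_univ, ← Finset.sum_const,
    ← Finset.sum_add_distrib, ← Finset.sum_add_distrib, ← Finset.sum_add_distrib]
  refine Finset.sum_eq_zero fun k _ => ?_
  have h := congrArg ((k : H)⁻¹ • ·) (c.rel ((k : H) • v))
  simp only [smul_add, Finset.smul_sum, c.comp, smul_zero] at h
  simp only [← mul_smul ((k : H)⁻¹), inv_mul_cancel, one_smul] at h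
  exact h

lemma fx_two {v : V} (h : Fx K cy v) : Fx K (cy * cy) v := h.mul (hK.inv cy) h

lemma fx_of_two {v : V} (h : Fx K (cy * cy) v) : Fx K cy v := by
  have h1 := h.mul (hK.inv _) h
  rwa [cy4] at h1

lemma fx_cy_of_sw {i j : Fin 3} (hij : i ≠ j) {v : V} (h1 : Fx K (sw i) v) (h2 : Fx K (sw j) v) :
    Fx K cy v := by
  have h := h1.mul (hK.inv (sw j)) h2
  rcases sw_sw i j hij with he | he <;> rw [he] at h
  · exact h
  · exact fx_of_two c (hK := hK) h

lemma disj {i j : Fin 3} (hij : i ≠ j) {y : V} (hy : EE K cy y = 0) :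
    EE K (sw j) (EE K (sw i) y) = 0 := by
  refine eq_zero c (hK := hK) (γ := cy) (fx_cy_of_sw c (hK := hK) hij
    ((EE_com hK _).fx hK (EE_fx hK _ y)) (EE_fx hK _ _)) ?_
  rw [(EE_com hK (sw j)).EE hK cy, (EE_com hK (sw i)).EE hK cy, hy, map_zero, map_zero]

lemma two_zero {y : V} (hy : EE K cy y = 0) : EE K (cy * cy) y = 0 := by
  refine eq_zero c (hK := hK) (γ := cy) (fx_of_two c (hK := hK) (EE_fx hK _ y)) ?_
  rw [(EE_com hK _).EE hK, hy, map_zero]

lemma sep {y : V} (hy : EE K cy y = 0) (h : ∀ i, EE K (sw i) y = 0) : y = 0 := by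
  have h1 := averaged c (hK := hK) y
  simp only [hy, two_zero c (hK := hK) hy, h, smul_zero, add_zero, Finset.sum_const_zero] at h1
  exact cancelK c (hK := hK) h1

lemma neg_sw {i : Fin 3} {v : V} (h : Fx K (sw i) v) (hv : EE K cy v = 0) : sw i • v = -v := by
  have h1 := averaged c (hK := hK) v
  have h2 : ∀ j, j ≠ i → EE K (sw j) v = 0 := by
    intro j hj
    refine eq_zero c (hK := hK) (γ := cy) (fx_cy_of_sw c (hK := hK) hj
      (EE_fx hK _ v) ((EE_com hK _).fx hK h)) ?_
    rw [(EE_com hK _).EE hK, hv, map_zero]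
  rw [hv, two_zero c (hK := hK) hv, Finset.sum_eq_single i (fun j _ hj => by rw [h2 j hj, smul_zero])
    (fun hi => absurd (Finset.mem_univ i) hi), EE_of_fx h, smul_zero, smul_zero, add_zero,
    add_zero, smul_comm, ← nsmul_add] at h1
  exact eq_neg_of_add_eq_zero_right (cancelK c (hK := hK) h1)

lemma fx_of_nsmul {γ : Γ} {u : V} (h : Fx K γ (Nat.card K • u)) : Fx K γ u := fun k hk =>
  sub_eq_zero.mp (cancelK c (hK := hK) (by rw [nsmul_sub, ← smul_comm _ (Nat.card K), h k hk,
    sub_self]))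

end K

section stab

/-- stabilizer inside a subgroup -/
def St (K : Subgroup H) (x : V) : Subgroup H := K ⊓ MulAction.stabilizer H x

/-- preimage of a subgroup under a permutation -/
def mv (γ : Γ) (S : Subgroup H) : Subgroup H := S.comap (MulDistribMulAction.toMonoidHom H γ)

lemma mem_mv {γ : Γ} {S : Subgroup H} {k : H} : k ∈ mv γ S ↔ γ • k ∈ S := Iff.rfl

lemma mv_mul (γ δ : Γ) (S : Subgroup H) : mv δ (mv γ S) = mv (γ * δ) S := by
  ext k; rw [mem_mv, mem_mv, mem_mv, mul_smul]

lemma mem_St {x : V} {k : H} : k ∈ St K x ↔ k ∈ K ∧ k • x = x := Iff.rfl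

include hK

lemma St_conj {g k : H} {x : V} : k ∈ St K (g • x) ↔ g⁻¹ * k * g ∈ St K x := by
  simp only [mem_St, mul_smul, inv_smul_eq_iff]
  refine and_congr_left fun _ => ⟨fun h => ?_, fun h => ?_⟩
  · simpa using hK.normal.conj_mem k h g⁻¹
  · simpa [mul_assoc] using hK.normal.conj_mem _ h g

lemma St_congr (g : H) {y y' : V} (h : St K y = St K y') : St K (g • y) = St K (g • y') := by
  ext k; rw [St_conj hK, St_conj hK, h]

lemma St_sw {i : Fin 3} {x : V} (h : Fx K (sw i) x) : mv (sw i) (St K x) = St K x := by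
  have key : ∀ k ∈ St K x, sw i • k ∈ St K x := by
    intro k hk
    obtain ⟨h1, h2⟩ := mem_St.mp hk
    refine mem_St.mpr ⟨hK.inv _ k h1, ?_⟩
    rw [show sw i • k = k * (k⁻¹ * sw i • k) by group, mul_smul, h k h1, h2]
  ext k
  refine ⟨fun hk => ?_, fun hk => key k hk⟩
  simpa [← mul_smul, sw_sq] using key _ (mem_mv.mp hk)

lemma mv_St_smul {γ : Γ} (hγ : γ * γ = 1) {y : V} (h : mv γ (St K y) = St K y) (a : H) :
    mv γ (St K (a • y)) = St K ((γ • a) • y) := by
  ext k
  rw [mem_mv, St_conj hK, St_conj hK]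
  conv_lhs => rw [← h, mem_mv]
  simp only [smul_mul', smul_inv', ← mul_smul γ γ, hγ, one_smul]

include c

omit c in
lemma orbit_eq (x : V) :
    Set.range (fun g : H => St K (g • x)) = MulAction.orbit (ConjAct H) (St K x) := by
  have key : ∀ g : H, ConjAct.toConjAct g • St K x = St K (g • x) := by
    intro g
    ext k
    rw [Subgroup.mem_pointwise_smul_iff_inv_smul_mem, St_conj hK, ← ConjAct.toConjAct_inv,
      ConjAct.toConjAct_smul, inv_inv]
  ext S
  rw [MulAction.mem_orbit_iff]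
  constructor
  · rintro ⟨g, rfl⟩
    exact ⟨_, key g⟩
  · rintro ⟨a, rfl⟩
    exact ⟨ConjAct.ofConjAct a, (key (ConjAct.ofConjAct a)).symm⟩

lemma exists_cy_fixed (x : V)
    (h : ∀ g : H, ∃ g' : H, mv cy (St K (g • x)) = St K (g' • x)) :
    ∃ g : H, mv cy (St K (g • x)) = St K (g • x) := by
  let O := Set.range (fun g : H => St K (g • x))
  have hO : ∀ S ∈ O, mv cy S ∈ O := by
    rintro S ⟨g, rfl⟩
    obtain ⟨g', hg'⟩ := h g
    exact ⟨g', hg'.symm⟩
  let σ : Equiv.Perm O :=
    { toFun := fun S => ⟨mv cy S, hO _ S.2⟩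
      invFun := fun S => ⟨mv cy (mv cy S), hO _ (hO _ S.2)⟩
      left_inv := fun S => Subtype.ext (by
        dsimp only
        rw [mv_mul, mv_mul, cy3]; ext k; simp [mem_mv])
      right_inv := fun S => Subtype.ext (by
        dsimp only
        rw [mv_mul, mv_mul, cy3]; ext k; simp [mem_mv]) }
  have h3 : σ ^ 3 ^ 1 = 1 := by
    ext S : 2
    simp only [pow_one, pow_succ, pow_zero, one_mul, Equiv.Perm.mul_apply, Equiv.Perm.one_apply]
    exact congrArg Subtype.val (σ.right_inv S)
  have : Fact (Nat.Prime 3) := ⟨Nat.prime_three⟩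
  have hcard : ¬ 3 ∣ Fintype.card O := by
    rw [← Nat.card_eq_fintype_card]
    intro h3
    refine (Nat.prime_three.coprime_iff_not_dvd.mp (cop3 c.card6)) (h3.trans ?_)
    rw [Nat.card_coe_set_eq, show O = _ from orbit_eq hK x, ← MulAction.index_stabilizer]
    exact (Subgroup.index_dvd_card _).trans (Nat.card_congr (ConjAct.ofConjAct (G := H)).toEquiv).dvd
  obtain ⟨⟨S, g, rfl⟩, hS⟩ := Equiv.Perm.exists_fixed_point_of_prime hcard h3
  exact ⟨g, congrArg Subtype.val hS⟩

lemma move_cy {x y : V} {i j : Fin 3} {h : H} (hij : i ≠ j) (hy : y = h • x)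
    (hi : Fx K (sw i) x) (hj : Fx K (sw j) y) :
    ∀ g : H, ∃ g' : H, mv cy (St K (g • x)) = St K (g' • x) := by
  have hsi : ∀ g : H, ∃ g' : H, mv (sw i) (St K (g • x)) = St K (g' • x) := fun g =>
    ⟨_, mv_St_smul hK (sw_sq i) (St_sw hK hi) g⟩
  have hsj : ∀ g : H, ∃ g' : H, mv (sw j) (St K (g • x)) = St K (g' • x) := by
    intro g
    refine ⟨sw j • (g * h⁻¹) * h, ?_⟩
    rw [mul_smul _ h x, ← hy, ← mv_St_smul hK (sw_sq j) (St_sw hK hj) (g * h⁻¹), hy, mul_smul,
      inv_smul_smul]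
  have hcomp : ∀ γ δ : Γ, (∀ g : H, ∃ g' : H, mv γ (St K (g • x)) = St K (g' • x)) →
      (∀ g : H, ∃ g' : H, mv δ (St K (g • x)) = St K (g' • x)) →
      ∀ g : H, ∃ g' : H, mv (γ * δ) (St K (g • x)) = St K (g' • x) := by
    intro γ δ h1 h2 g
    obtain ⟨a, ha⟩ := h1 g
    rw [← mv_mul, ha]
    exact h2 a
  have h1 := hcomp _ _ hsi hsj
  rcases sw_sw i j hij with he | he <;> rw [he] at h1
  · exact h1
  · have h2 := hcomp _ _ h1 h1
    rwa [cy4] at h2

lemma ktk {x : V} (hx : Fx K cy x) (i : Fin 3) {k : H} (hk : k ∈ K) :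
    k * sw i • k ∈ St K x := by
  refine mem_of_pow _ (cop3 c.card6) ?_
  let : CommGroup K :=
    { (inferInstance : Group K) with mul_comm := fun a b => Subtype.ext (hK.comm a a.2 b b.2) }
  have hk' := hK.inv (sw i) k hk
  have e := comm_id (A := K) ⟨k, hk⟩ ⟨cy • k, hK.inv _ k hk⟩ ⟨(cy * cy) • k, hK.inv _ k hk⟩
    ⟨sw i • k, hk'⟩ ⟨cy • sw i • k, hK.inv _ _ hk'⟩ ⟨(cy * cy) • sw i • k, hK.inv _ _ hk'⟩
  have e2 : (k * sw i • k) ^ 3 = (k * cy • k * (cy * cy) • k) *
      (sw i • k * cy • sw i • k * (cy * cy) • sw i • k) *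
      ((k⁻¹ * cy • k) * (k⁻¹ * (cy * cy) • k) * (((sw i • k)⁻¹ * cy • sw i • k) *
        ((sw i • k)⁻¹ * (cy * cy) • sw i • k)))⁻¹ := congrArg Subtype.val e
  set n := k * cy • k * (cy * cy) • k with hn
  have hnc : cy • n = n := by
    rw [hn, smul_mul', smul_mul', ← mul_smul, ← mul_smul, cy3, one_smul,
      hK.comm _ (K.mul_mem (hK.inv _ k hk) (hK.inv _ k hk)) k hk, mul_assoc]
  have ht : sw i • n = sw i • k * cy • sw i • k * (cy * cy) • sw i • k := by
    rw [hn, smul_mul', smul_mul', ← mul_smul (sw i) cy k, sw_cy, ← mul_smul (sw i) (cy * cy) k,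
      sw_cy2, mul_smul (cy * cy) (sw i), mul_smul cy (sw i), mul_assoc,
      hK.comm _ (hK.inv _ _ hk') _ (hK.inv _ _ hk'), ← mul_assoc]
  rw [← ht, inv_of_cy c.card6 c.fix hnc i, mul_inv_cancel, one_mul] at e2
  rw [e2]
  have m : ∀ a ∈ K, a⁻¹ * cy • a ∈ St K x ∧ a⁻¹ * (cy * cy) • a ∈ St K x := fun a ha =>
    ⟨mem_St.mpr ⟨inK hK _ ha, hx a ha⟩, mem_St.mpr ⟨inK hK _ ha, fx_two c (hK := hK) hx a ha⟩⟩
  exact Subgroup.inv_mem _ (Subgroup.mul_mem _ (Subgroup.mul_mem _ (m k hk).1 (m k hk).2)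
    (Subgroup.mul_mem _ (m _ hk').1 (m _ hk').2))

lemma aux_zero {x : V} {j : Fin 3} {h : H} (hx : Fx K cy x) (h0 : EE K cy (h • x) = 0)
    (hj : Fx K (sw j) (h • x)) : x = 0 := by
  suffices hfx : Fx K cy (h • x) by
    have h1 := eq_zero c (hK := hK) hfx h0
    simpa using congrArg (h⁻¹ • ·) h1
  have hS : mv (sw j) (St K x) = St K x := by
    have key : ∀ k ∈ St K x, sw j • k ∈ St K x := by
      intro k hk
      have h1 := Subgroup.mul_mem _ (Subgroup.inv_mem _ hk) (ktk c hK hx j hk.1)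
      rwa [inv_mul_cancel_left] at h1
    ext k
    refine ⟨fun hk => ?_, fun hk => key k hk⟩
    simpa [← mul_smul, sw_sq] using key _ (mem_mv.mp hk)
  let Nm : Subgroup H :=
    { carrier := {n | St K (n • x) = St K x}
      one_mem' := by simp
      mul_mem' := fun {a b} ha hb => by
        simp only [Set.mem_ofPred_eq] at *
        rw [mul_smul, St_congr hK a hb, ha]
      inv_mem' := fun {a} ha => by
        simp only [Set.mem_ofPred_eq] at *
        have h1 := St_congr hK a⁻¹ ha
        rw [inv_smul_smul] at h1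
        exact h1.symm }
  have hNm : ∀ n ∈ Nm, sw j • n ∈ Nm := by
    intro n hn
    change St K ((sw j • n) • x) = St K x
    rw [← mv_St_smul hK (sw_sq j) hS n, show St K (n • x) = St K x from hn, hS]
  have hg : h⁻¹ * sw j • h ∈ Nm := by
    change St K ((h⁻¹ * sw j • h) • x) = St K x
    rw [mul_smul]
    have h1 : St K ((sw j • h) • x) = St K (h • x) := by
      rw [← mv_St_smul hK (sw_sq j) hS h, St_sw hK hj]
    rw [St_congr hK h⁻¹ h1, inv_smul_smul]
  obtain ⟨n, hn, hgfix⟩ := rep2 c.card6 j Nm hNm hg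
  have hSg : St K ((h * n) • x) = St K (h • x) := by
    rw [mul_smul]; exact St_congr hK h hn
  have hall : ∀ k ∈ K, k ∈ St K (h • x) := by
    intro k hk
    have hk0 : (h * n)⁻¹ * k * (h * n) ∈ K := by
      simpa using hK.normal.conj_mem k hk (h * n)⁻¹
    have h1 := ktk c hK hx j hk0
    rw [smul_mul', smul_mul', smul_inv', hgfix] at h1
    have h1' : (h * n)⁻¹ * (k * sw j • k) * (h * n) ∈ St K x := by
      simpa [mul_assoc] using h1
    have h2 : k * sw j • k ∈ St K (h • x) := by
      rw [← hSg, St_conj hK]; exact h1'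
    have h3 : k⁻¹ * sw j • k ∈ St K (h • x) := mem_St.mpr ⟨inK hK _ hk, hj k hk⟩
    have h4 : (sw j • k) ^ 2 ∈ St K (h • x) := by
      have h5 := Subgroup.mul_mem _ h2 h3
      rwa [hK.comm k hk _ (hK.inv _ k hk), mul_assoc, mul_inv_cancel_left, ← pow_two] at h5
    have h6 := (St_sw hK hj).symm ▸ mem_of_pow _ (cop2 c.card6) h4
    simpa [mem_mv, ← mul_smul, sw_sq] using h6
  intro k hk
  exact (hall _ (inK hK _ hk)).2

lemma W0_inv {v : V} (h : H) (hv : Fx K cy v) : Fx K cy (h • v) := by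
  set u := h • v with hu
  let ψ : V →+ V := Nat.card K • AddMonoidHom.id V - EE K cy
  have hψ : ∀ w, ψ w = Nat.card K • w - EE K cy w := fun w => rfl
  have hψc : Com K ψ := by
    intro k hk x
    rw [hψ, hψ, smul_sub, EE_com hK cy k hk, smul_comm k]
  have hy : EE K cy (ψ u) = 0 := by
    rw [hψ, map_sub, map_nsmul, EE_of_fx (EE_fx hK cy u), sub_self]
  have h1 : ∀ j, EE K (sw j) (ψ u) = 0 := by
    intro j
    let φ := cj h ((EE K (sw j)).comp ψ)
    have hφ : Com K φ := Com.cj hK h (Com.comp hK (EE_com hK _) hψc)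
    have he : h • φ v = EE K (sw j) (ψ u) := by
      simp only [φ, cj_apply, AddMonoidHom.comp_apply, smul_inv_smul, hu]
    have h2 : φ v = 0 := by
      refine aux_zero c hK (j := j) (h := h) (hφ.fx hK hv) ?_ ?_
      · rw [he, (EE_com hK _).EE hK, hy, map_zero]
      · rw [he]; exact EE_fx hK _ _
    rw [← he, h2, smul_zero]
  have h2 := sep c (hK := hK) hy h1
  rw [hψ, sub_eq_zero] at h2
  apply fx_of_nsmul c (hK := hK)
  rw [h2]
  exact EE_fx hK _ _

lemma Y_inv {v : V} (h : H) (hv : EE K cy v = 0) : EE K cy (h • v) = 0 := by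
  have h1 : Fx K cy (cj h (EE K cy) v) := W0_inv c hK h⁻¹ (EE_fx hK cy (h • v))
  have h2 := eq_zero c (hK := hK) h1 (by
    rw [(Com.cj hK h (EE_com hK cy)).EE hK, hv, map_zero])
  simpa [cj_apply] using congrArg (h • ·) h2

lemma cross_zero {i j : Fin 3} (hij : i ≠ j) {h : H} {x : V} (hi : Fx K (sw i) x)
    (h0 : EE K cy x = 0) (hj : Fx K (sw j) (h • x)) : x = 0 := by
  by_contra hx
  let X : Set V := {x | x ≠ 0 ∧ Fx K (sw i) x ∧ EE K cy x = 0 ∧ Fx K (sw j) (h • x)}
  obtain ⟨z, ⟨hz, hzi, hz0, hzj⟩, hmax⟩ := Set.exists_max_image X (fun x => Nat.card (St K x))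
    (Set.toFinite X) ⟨x, hx, hi, h0, hj⟩
  obtain ⟨g, hg⟩ := exists_cy_fixed c hK z (move_cy c hK hij rfl hzi hzj)
  have hgz : g • z ≠ 0 := fun e => hz (by simpa using congrArg (g⁻¹ • ·) e)
  obtain ⟨l, hl⟩ : ∃ l, EE K (sw l) (g • z) ≠ 0 := by
    by_contra! hno
    exact hgz (sep c (hK := hK) (Y_inv c hK g hz0) hno)
  set φ := cj g (EE K (sw l) : V →+ V) with hφdef
  have hφ : Com K φ := Com.cj hK g (EE_com hK _)
  have hgφ : g • φ z = EE K (sw l) (g • z) := by rw [hφdef, cj_apply, smul_inv_smul]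
  have hmem : φ z ∈ X := by
    refine ⟨fun e => hl (by rw [← hgφ, e, smul_zero]), hφ.fx hK hzi, ?_, ?_⟩
    · rw [hφ.EE hK, hz0, map_zero]
    · have h1 : h • φ z = cj h⁻¹ φ (h • z) := by
        rw [cj_apply h⁻¹ φ, inv_smul_smul, inv_inv]
      rw [h1]
      exact (Com.cj hK h⁻¹ hφ).fx hK hzj
  have hle : St K z ≤ St K (φ z) := fun k hk =>
    mem_St.mpr ⟨hk.1, by rw [← hφ k hk.1, (mem_St.mp hk).2]⟩
  have heq := Subgroup.eq_of_le_of_card_ge hle (hmax _ hmem)
  have hst := St_congr hK g heq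
  rw [hgφ] at hst
  rw [hst] at hg
  obtain ⟨m, hm, hc⟩ := cy_sw l
  have hfm : Fx K (sw m) (EE K (sw l) (g • z)) := by
    intro k hk
    have hk0 := hK.inv cy⁻¹ k hk
    have h1 : (cy⁻¹ • k)⁻¹ * sw l • (cy⁻¹ • k) ∈ St K (EE K (sw l) (g • z)) :=
      mem_St.mpr ⟨inK hK _ hk0, EE_fx hK _ _ _ hk0⟩
    have h2 : cy • ((cy⁻¹ • k)⁻¹ * sw l • (cy⁻¹ • k)) ∈ St K (EE K (sw l) (g • z)) := by
      rw [← hg] at h1
      exact h1
    rw [smul_mul', smul_inv', smul_inv_smul, ← mul_smul, hc, mul_smul, smul_inv_smul] at h2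
    exact h2.2
  refine hl (eq_zero c (hK := hK) (fx_cy_of_sw c (hK := hK) hm hfm (EE_fx hK _ _)) ?_)
  rw [(EE_com hK _).EE hK, Y_inv c hK g hz0, map_zero]

lemma Wi_inv {i : Fin 3} {v : V} (h : H) (hi : Fx K (sw i) v) (h0 : EE K cy v = 0) :
    Fx K (sw i) (h • v) := by
  set u := h • v with hu
  have hu0 : EE K cy u = 0 := Y_inv c hK h h0
  have h1 : ∀ j, j ≠ i → EE K (sw j) u = 0 := by
    intro j hj
    have hφ : Com K (cj h (EE K (sw j)) : V →+ V) := Com.cj hK h (EE_com hK _)
    have he : h • cj h (EE K (sw j)) v = EE K (sw j) u := by rw [cj_apply, smul_inv_smul]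
    have h2 := cross_zero c hK (Ne.symm hj) (h := h) (hφ.fx hK hi)
      (by rw [hφ.EE hK, h0, map_zero]) (by rw [he]; exact EE_fx hK _ _)
    rw [← he, h2, smul_zero]
  have h2 : Nat.card K • u - EE K (sw i) u = 0 := by
    apply sep c (hK := hK)
    · rw [map_sub, map_nsmul, (EE_com hK _).EE hK, hu0, smul_zero, map_zero, sub_zero]
    · intro j
      rw [map_sub, map_nsmul]
      rcases eq_or_ne j i with rfl | hj
      · rw [EE_of_fx (EE_fx hK _ u), sub_self]
      · rw [h1 j hj, smul_zero, disj c (hK := hK) (Ne.symm hj) hu0, sub_zero]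
  rw [sub_eq_zero] at h2
  apply fx_of_nsmul c (hK := hK)
  rw [h2]
  exact EE_fx hK _ _

lemma span_all {z : H} (h0 : ∀ v : V, Fx K cy v → z • v = v)
    (hi : ∀ i, ∀ v : V, Fx K (sw i) v → EE K cy v = 0 → z • v = v) (v : V) : z • v = v := by
  set y := Nat.card K • v - EE K cy v with hy
  have hy0 : EE K cy y = 0 := by
    rw [hy, map_sub, map_nsmul, EE_of_fx (EE_fx hK cy v), sub_self]
  have hys : Nat.card K • y = ∑ i, EE K (sw i) y := by
    rw [← sub_eq_zero]
    apply sep c (hK := hK)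
    · rw [map_sub, map_nsmul, hy0, smul_zero, map_sum, zero_sub, neg_eq_zero]
      refine Finset.sum_eq_zero fun i _ => ?_
      rw [(EE_com hK (sw i)).EE hK cy, hy0, map_zero]
    · intro j
      rw [map_sub, map_nsmul, map_sum, Finset.sum_eq_single j
        (fun i _ hij => disj c (hK := hK) hij hy0) (fun h => absurd (Finset.mem_univ j) h),
        EE_of_fx (EE_fx hK _ y), sub_self]
  have h1 : z • y = y := by
    rw [← sub_eq_zero]
    apply cancelK c (hK := hK)
    rw [nsmul_sub, ← smul_comm z, hys, Finset.smul_sum, sub_eq_zero]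
    refine Finset.sum_congr rfl fun i _ => hi i _ (EE_fx hK _ y) ?_
    rw [(EE_com hK _).EE hK, hy0, map_zero]
  rw [← sub_eq_zero]
  apply cancelK c (hK := hK)
  rw [nsmul_sub, ← smul_comm z, show Nat.card K • v = y + EE K cy v by rw [hy, sub_add_cancel],
    smul_add, h1, h0 _ (EE_fx hK cy v), sub_self]

end stab

section kernels

/-- pointwise kernel of an invariant set -/
def kr (W : V → Prop) : Subgroup H where
  carrier := {g | ∀ v, W v → g • v = v}
  one_mem' := fun v _ => one_smul H v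
  mul_mem' := fun {a b} ha hb v hv => by rw [mul_smul, hb v hv, ha v hv]
  inv_mem' := fun {a} ha v hv => by rw [inv_smul_eq_iff, ha v hv]

lemma kr_normal {W : V → Prop} (hW : ∀ (h : H) (v : V), W v → W (h • v)) : (kr (H := H) W).Normal :=
  ⟨fun g hg h v hv => by rw [mul_smul, mul_smul, hg _ (hW h⁻¹ v hv), smul_inv_smul]⟩

/-- kernel on the first component -/
def kr0 (K : Subgroup H) : Subgroup H := kr (fun v : V => Fx K cy v)

/-- kernel on the other components -/
noncomputable def kri (K : Subgroup H) (i : Fin 3) : Subgroup H :=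
  kr (fun v : V => Fx K (sw i) v ∧ EE K cy v = 0)

include c hK

lemma kr0_normal : (kr0 (V := V) K).Normal := kr_normal fun h _ hv => W0_inv c hK h hv

lemma kri_normal (i : Fin 3) : (kri (V := V) K i).Normal :=
  kr_normal fun h _ hv => ⟨Wi_inv c hK h hv.1 hv.2, Y_inv c hK h hv.2⟩

lemma fx_cy_smul {v : V} (hv : Fx K cy v) : Fx K cy (cy • v) :=
  hv.smul_perm c hK.inv rfl

lemma kr0_inv {g : H} (hg : g ∈ kr0 (V := V) K) : cy • g ∈ kr0 (V := V) K := by
  intro v hv
  have h1 : Fx K cy ((cy * cy) • v) := by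
    rw [mul_smul]; exact fx_cy_smul c hK (fx_cy_smul c hK hv)
  have h2 := congrArg (cy • ·) (hg _ h1)
  simp only [c.comp] at h2
  rwa [← mul_smul cy (cy * cy) v, cy3, one_smul] at h2

lemma sw_kri (i : Fin 3) (g : H) : g⁻¹ * sw i • g ∈ kri (V := V) K i := by
  intro v hv
  have h1 : sw i • (g • v) = -(g • v) :=
    neg_sw c (hK := hK) (Wi_inv c hK g hv.1 hv.2) (Y_inv c hK g hv.2)
  rw [c.comp, neg_sw c (hK := hK) hv.1 hv.2, smul_neg, neg_inj] at h1
  rw [mul_smul, h1, inv_smul_smul]

lemma kri_inv (i : Fin 3) {g : H} (hg : g ∈ kri (V := V) K i) : sw i • g ∈ kri (V := V) K i := by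
  have h := Subgroup.mul_mem _ hg (sw_kri c hK i g)
  rwa [mul_inv_cancel_left] at h

lemma cy_fixed_mem_kri (i : Fin 3) {r : H} (hr : cy • r = r) : r ∈ kri (V := V) K i := by
  have h := sw_kri c hK i r
  rw [inv_of_cy c.card6 c.fix hr i, ← mul_inv_rev, ← pow_two] at h
  refine mem_of_pow _ (cop2 c.card6) ?_
  simpa using Subgroup.inv_mem _ h

variable (hc : ∀ a b : H, ∀ k ∈ K, ⁅a, b⁆ * k = k * ⁅a, b⁆)
include hc

lemma comm_kr0 {h k : H} (hk : k ∈ K) : ⁅k, h⁆ ∈ kr0 (V := V) K := by
  have := kr0_normal c hK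
  set π := QuotientGroup.mk' (kr0 (V := V) K) with hπ
  have hkπ : ∀ k ∈ K, π (cy • k) = π k := fun k hk =>
    (QuotientGroup.eq.mpr (show k⁻¹ * cy • k ∈ kr0 (V := V) K from fun v hv => hv k hk)).symm
  have hρ : ∀ a b, π a = π b → π (cy • a) = π (cy • b) := by
    intro a b hab
    have h1 := kr0_inv c hK (QuotientGroup.eq.mp hab)
    rw [smul_mul', smul_inv'] at h1
    exact QuotientGroup.eq.mpr h1
  let N0 : Subgroup H := (Subgroup.centralizer (π '' K)).comap π
  have hN0 : ∀ g, g ∈ N0 ↔ ∀ k ∈ K, π k * π g = π g * π k := by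
    intro g
    rw [Subgroup.mem_comap, Subgroup.mem_centralizer_iff, Set.forall_mem_image]
    rfl
  have hN0i : ∀ n ∈ N0, cy • n ∈ N0 := by
    intro n hn
    rw [hN0] at hn ⊢
    intro k hk
    have h1 := hρ (k * n) (n * k) (by rw [map_mul, map_mul, hn k hk])
    rwa [smul_mul', smul_mul', map_mul, map_mul, hkπ k hk] at h1
  have hmem : h⁻¹ * cy • h ∈ N0 := by
    rw [hN0]
    intro k hk
    have h1 := hkπ _ (hK.normal.conj_mem k hk h)
    rw [smul_mul', smul_mul', smul_inv', map_mul, map_mul, map_inv, hkπ k hk, map_mul, map_mul,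
      map_inv] at h1
    rw [map_mul, map_inv]
    calc π k * ((π h)⁻¹ * π (cy • h)) = (π h)⁻¹ * (π h * π k * (π h)⁻¹) * π (cy • h) := by group
      _ = (π h)⁻¹ * (π (cy • h) * π k * (π (cy • h))⁻¹) * π (cy • h) := by rw [h1]
      _ = (π h)⁻¹ * π (cy • h) * π k := by group
  obtain ⟨n, hn, hnf⟩ := rep3 c.card6 N0 hN0i hmem
  obtain ⟨m, hm, hmf⟩ := rep3 c.card6 (kr0 (V := V) K ⊓ K)
    (fun m hm => ⟨kr0_inv c hK hm.1, hK.inv _ m hm.2⟩)
    (g := k) ⟨fun v hv => hv k hk, inK hK _ hk⟩
  have hcomm := congrArg π (commute_cy c.card6 c.fix hnf hmf)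
  have hm1 : π m = 1 := (QuotientGroup.eq_one_iff m).mpr hm.1
  have hn1 := (hN0 n).mp hn k hk
  simp only [map_mul, hm1, mul_one] at hcomm
  rw [mul_assoc (π h), ← hn1, ← mul_assoc, ← mul_assoc] at hcomm
  rw [← QuotientGroup.eq_one_iff, ← QuotientGroup.mk'_apply, ← hπ, map_commutatorElement,
    commutatorElement_eq_one_iff_mul_comm]
  exact (mul_right_cancel hcomm).symm

lemma comm_kri (i : Fin 3) {h k : H} (hk : k ∈ K) : ⁅k, h⁆ ∈ kri (V := V) K i := by
  have := kri_normal c hK i
  set π := QuotientGroup.mk' (kri (V := V) K i) with hπ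
  have ht : ∀ g, π (sw i • g) = π g := fun g => (QuotientGroup.eq.mpr (sw_kri c hK i g)).symm
  have hrπ : ∀ r : H, cy • r = r → π r = 1 := fun r hr =>
    (QuotientGroup.eq_one_iff r).mpr (cy_fixed_mem_kri c hK i hr)
  have h21 : ∀ g, sw i • g = g → π ((cy * cy) • g) = π (cy • g) := by
    intro g hg
    rw [← ht ((cy * cy) • g), ← mul_smul, sw_cy2, mul_smul, hg]
  let Cq : Subgroup (H ⧸ kri (V := V) K i) := Subgroup.centralizer ((K.map π : Subgroup _) : Set _)
  have hrep : ∀ g : H, ∃ g', sw i • g' = g' ∧ π g' = π g ∧ (g ∈ K → g' ∈ K) := by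
    intro g
    by_cases hgK : g ∈ K
    · obtain ⟨n, hn, hnf⟩ := rep2 c.card6 i (kri (V := V) K i ⊓ K)
        (fun m hm => ⟨kri_inv c hK i hm.1, hK.inv _ m hm.2⟩) (g := g)
        ⟨sw_kri c hK i g, inK hK _ hgK⟩
      exact ⟨g * n, hnf, by rw [map_mul, (show π n = 1 from (QuotientGroup.eq_one_iff n).mpr hn.1),
        mul_one], fun h => K.mul_mem h hn.2⟩
    · obtain ⟨n, hn, hnf⟩ := rep2 c.card6 i (kri (V := V) K i)
        (fun m hm => kri_inv c hK i hm) (g := g) (sw_kri c hK i g)
      exact ⟨g * n, hnf, by rw [map_mul, (show π n = 1 from (QuotientGroup.eq_one_iff n).mpr hn),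
        mul_one], fun h => absurd h hgK⟩
  have hprod : ∀ k ∈ K, sw i • k = k → π k * (π (cy • k) * π (cy • k)) = 1 := by
    intro k hk hkt
    have h1 : cy • (k * (cy • k * (cy * cy) • k)) = k * (cy • k * (cy * cy) • k) := by
      rw [smul_mul', smul_mul', ← mul_smul, ← mul_smul, cy3, one_smul,
        hK.comm k hk _ (K.mul_mem (hK.inv _ k hk) (hK.inv _ k hk)), mul_assoc]
    have h2 := hrπ _ h1
    rwa [map_mul, map_mul, h21 k hkt] at h2
  obtain ⟨h', hh't, hh'π, -⟩ := hrep h
  set b := π (cy • h') with hb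
  have hconj : ∀ k ∈ K, π h' * π k * (π h')⁻¹ = b * π k * b⁻¹ := by
    intro k hk
    obtain ⟨k', hk't, hk'π, hk'K⟩ := hrep k
    have hk' := hk'K hk
    rw [← hk'π]
    have e1 := hprod k' hk' hk't
    have e2 := hprod (h' * k' * h'⁻¹) (hK.normal.conj_mem k' hk' h')
      (by rw [smul_mul', smul_mul', smul_inv', hh't, hk't])
    rw [smul_mul', smul_mul', smul_inv', map_mul, map_mul, map_inv, map_mul, map_mul, map_inv,
      ← hb] at e2
    have e3 : π k' = (π (cy • k') * π (cy • k'))⁻¹ := eq_inv_of_mul_eq_one_left e1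
    calc π h' * π k' * (π h')⁻¹
        = (b * π (cy • k') * b⁻¹ * (b * π (cy • k') * b⁻¹))⁻¹ := eq_inv_of_mul_eq_one_left e2
      _ = b * π k' * b⁻¹ := by rw [e3]; group
  have hcq : b⁻¹ * π h' ∈ Cq := by
    rw [Subgroup.mem_centralizer_iff]
    rintro _ ⟨k, hk, rfl⟩
    calc π k * (b⁻¹ * π h') = b⁻¹ * (b * π k * b⁻¹) * π h' := by group
      _ = b⁻¹ * (π h' * π k * (π h')⁻¹) * π h' := by rw [hconj k hk]
      _ = b⁻¹ * π h' * π k := by group
  have hn : π h' * b * b ∈ Cq := by
    set n := h' * cy • h' * (cy * cy) • h' with hn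
    let C : Subgroup H := Subgroup.centralizer (K : Set H)
    have hCi : ∀ g ∈ C, cy • g ∈ C := by
      intro g hg k hk
      have h1 := congrArg (cy • ·) (hg (cy⁻¹ • k) (hK.inv _ k hk))
      simpa using h1
    have hnC : n⁻¹ * cy • n ∈ C := by
      intro k hk
      have h2 : cy • n = h'⁻¹ * n * h' := by
        rw [hn, smul_mul', smul_mul', ← mul_smul, ← mul_smul, cy3, one_smul]; group
      have h3 : n⁻¹ * cy • n = ⁅n⁻¹, h'⁻¹⁆ := by rw [h2, commutatorElement_def]; group
      rw [h3]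
      exact (hc _ _ k hk).symm
    obtain ⟨m, hm, hmf⟩ := rep3 c.card6 C hCi hnC
    have h4 := hrπ _ hmf
    rw [map_mul] at h4
    have h5 : π n ∈ Cq := by
      rw [eq_inv_of_mul_eq_one_left h4]
      refine Cq.inv_mem ?_
      rw [Subgroup.mem_centralizer_iff]
      rintro _ ⟨k, hk, rfl⟩
      rw [← map_mul, ← map_mul, hm k hk]
    rw [hn, map_mul, map_mul, h21 h' hh't, ← hb] at h5
    exact h5
  have : (K.map π).Normal := hK.normal.map π (QuotientGroup.mk'_surjective _)
  have hCn : Cq.Normal := inferInstanceAs (Subgroup.centralizer _).Normal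
  have hb3 : b ^ 3 ∈ Cq := by
    have h1 := hCn.conj_mem _ hn b⁻¹
    rw [show b⁻¹ * (π h' * b * b) * b⁻¹⁻¹ = b⁻¹ * π h' * b ^ 3 by
      simp [pow_succ, mul_assoc]] at h1
    exact (Cq.mul_mem_cancel_left hcq).mp h1
  have hbC : b ∈ Cq := by
    refine mem_of_pow _ (Nat.Coprime.coprime_dvd_right ?_ (cop3 c.card6)) hb3
    exact Subgroup.card_quotient_dvd_card _
  have haC : π h' ∈ Cq := by
    have := Cq.mul_mem hbC hcq
    rwa [mul_inv_cancel_left] at this
  rw [hh'π] at haC
  rw [← QuotientGroup.eq_one_iff, ← QuotientGroup.mk'_apply, ← hπ, map_commutatorElement,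
    commutatorElement_eq_one_iff_mul_comm]
  exact haC _ ⟨k, hk, rfl⟩

/-- an abelian invariant normal subgroup centralised by all commutators is central -/
theorem le_center : K ≤ Subgroup.center H := by
  intro k hk
  rw [Subgroup.mem_center_iff]
  intro h
  refine (commutatorElement_eq_one_iff_mul_comm.mp (c.faith ⁅k, h⁆ fun v => ?_)).symm
  refine span_all c hK (fun v hv => ?_) (fun i v h1 h2 => ?_) v
  · exact comm_kr0 c hK hc hk v hv
  · exact comm_kri c hK hc i hk v ⟨h1, h2⟩

end kernels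

end module

section class_two

lemma commR {H : Type*} [Group H] (a x y : H) :
    ⁅a, x * y⁆ = ⁅a, x⁆ * (x * ⁅a, y⁆ * x⁻¹) := by
  simp only [commutatorElement_def]; group

lemma commL {H : Type*} [Group H] (x y b : H) :
    ⁅x * y, b⁆ = x * ⁅y, b⁆ * x⁻¹ * ⁅x, b⁆ := by
  simp only [commutatorElement_def]; group

/-- commutation with a given element when commutators with it are central -/
def cmR {H : Type*} [Group H] (a : H) (ha : ∀ y, ⁅a, y⁆ ∈ Subgroup.center H) : H →* H :=
  MonoidHom.mk' (fun y => ⁅a, y⁆) fun x y => by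
    rw [commR, Subgroup.mem_center_iff.mp (ha y) x, mul_inv_cancel_right]

variable {H : Type*} [Group H] (hcl : ∀ a b : H, ⁅a, b⁆ ∈ Subgroup.center H)

/-- commutation on the left -/
def cmL (b : H) : H →* H :=
  MonoidHom.mk' (fun x => ⁅x, b⁆) fun x y => by
    rw [commL, Subgroup.mem_center_iff.mp (hcl y b) x, mul_inv_cancel_right,
      Subgroup.mem_center_iff.mp (hcl x b) ⁅y, b⁆]

include hcl

lemma cL_mul (x y b : H) : ⁅x * y, b⁆ = ⁅x, b⁆ * ⁅y, b⁆ := map_mul (cmL hcl b) x y
lemma cL_inv (x b : H) : ⁅x⁻¹, b⁆ = ⁅x, b⁆⁻¹ := map_inv (cmL hcl b) x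
lemma cL_pow (x b : H) (n : ℕ) : ⁅x ^ n, b⁆ = ⁅x, b⁆ ^ n := map_pow (cmL hcl b) x n
lemma cR_pow (x b : H) (n : ℕ) : ⁅b, x ^ n⁆ = ⁅b, x⁆ ^ n := map_pow (cmR b (hcl b)) x n

omit hcl in
lemma cL_central {z : H} (hz : z ∈ Subgroup.center H) (b : H) : ⁅z, b⁆ = 1 :=
  commutatorElement_eq_one_iff_mul_comm.mpr (Subgroup.mem_center_iff.mp hz b).symm

lemma mul_pow_two (a b : H) (n : ℕ) : (a * b) ^ n = a ^ n * b ^ n * ⁅b, a⁆ ^ n.choose 2 := by
  induction n with
  | zero => simp
  | succ n ih =>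
    have hz : ∀ k x, x * ⁅b, a⁆ ^ k = ⁅b, a⁆ ^ k * x := fun k x =>
      Subgroup.mem_center_iff.mp ((Subgroup.center H).pow_mem (hcl b a) k) x
    have h1 : b ^ n * a = ⁅b, a⁆ ^ n * (a * b ^ n) := by
      rw [← cL_pow hcl, commutatorElement_def]; group
    rw [pow_succ, ih, Nat.choose_succ_succ, Nat.choose_one_right]
    calc a ^ n * b ^ n * ⁅b, a⁆ ^ n.choose 2 * (a * b)
        = a ^ n * (b ^ n * a) * b * ⁅b, a⁆ ^ n.choose 2 := by
          rw [mul_assoc (a ^ n * b ^ n), ← hz]; simp [mul_assoc]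
      _ = a ^ n * a * (b ^ n * b) * (⁅b, a⁆ ^ n * ⁅b, a⁆ ^ n.choose 2) := by
          rw [h1, ← hz n]
          simp only [mul_assoc]
          congr 3
          rw [← mul_assoc (⁅b, a⁆ ^ n), ← hz n, mul_assoc]
      _ = _ := by rw [← pow_succ, ← pow_succ, ← pow_add]

end class_two

section smulsum

variable {H V : Type*} [Group H] [AddCommGroup V] [DistribMulAction H V]

lemma sum_fix {d : H} {q : ℕ} {v : V} (h : d ^ q • v = v) :
    d • (∑ i ∈ range q, d ^ i • v) = ∑ i ∈ range q, d ^ i • v := by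
  rw [Finset.smul_sum]
  simp only [← mul_smul, ← pow_succ']
  have h1 := Finset.sum_range_succ' (fun i => d ^ i • v) q
  rw [Finset.sum_range_succ, pow_zero, one_smul, h] at h1
  exact (add_right_cancel h1).symm

lemma pow_fix {d : H} {v : V} (h : d • v = v) : ∀ i : ℕ, d ^ i • v = v
  | 0 => by simp
  | i + 1 => by rw [pow_succ, mul_smul, h, pow_fix h i]

end smulsum

section nilp

variable {H V : Type*} [Group H] [Finite H] [MulDistribMulAction Γ H] [AddCommGroup V]
  [Finite V] [DistribMulAction H V] [DistribMulAction Γ V] {p : ℕ} (c : Ctx H V p)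
  (hcop : (Nat.card H).Coprime p)

omit [Finite H] in
lemma char_inv {S : Subgroup H} (hS : S.Characteristic) (γ : Γ) {x : H} (hx : x ∈ S) :
    γ • x ∈ S := by
  have h := hS.fixed (MulDistribMulAction.toMulEquiv H γ)
  rw [← h] at hx
  exact hx

include c hcop

section two

variable (hcl : ∀ a b : H, ⁅a, b⁆ ∈ Subgroup.center H)
include hcl

lemma orbit_central {x : H} (hx : ∀ γ : Γ, x * γ • x = γ • x * x) : x ∈ Subgroup.center H := by
  let A : Subgroup H := Subgroup.closure ((Subgroup.center H : Set H) ∪ Set.range fun γ : Γ => γ • x)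
  have hpair : ∀ a ∈ ((Subgroup.center H : Set H) ∪ Set.range fun γ : Γ => γ • x),
      ∀ b ∈ ((Subgroup.center H : Set H) ∪ Set.range fun γ : Γ => γ • x), a * b = b * a := by
    rintro a (ha | ⟨γ, rfl⟩) b (hb | ⟨δ, rfl⟩)
    · exact (Subgroup.mem_center_iff.mp ha b).symm
    · exact (Subgroup.mem_center_iff.mp ha _).symm
    · exact Subgroup.mem_center_iff.mp hb _
    · have h := congrArg (γ • ·) (hx (γ⁻¹ * δ))
      simpa [mul_smul] using h
  have hcomm : ∀ a ∈ A, ∀ b ∈ A, a * b = b * a := by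
    have h1 : A ≤ Subgroup.centralizer
        ((Subgroup.center H : Set H) ∪ Set.range fun γ : Γ => γ • x) := by
      rw [Subgroup.closure_le]
      exact fun a ha b hb => hpair b hb a ha
    have h2 : A ≤ Subgroup.centralizer (A : Set H) := by
      rw [Subgroup.closure_le]
      exact fun a ha b hb => (h1 hb a ha).symm
    exact fun a ha b hb => (h2 ha b hb).symm
  have hle : Subgroup.center H ≤ A := fun z hz => Subgroup.subset_closure (Or.inl hz)
  have hinv : ∀ γ : Γ, ∀ a ∈ A, γ • a ∈ A := by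
    intro γ
    have h : A ≤ A.comap (MulDistribMulAction.toMonoidHom H γ) := by
      rw [Subgroup.closure_le]
      rintro a (ha | ⟨δ, rfl⟩)
      · exact hle (char_inv inferInstance γ ha)
      · exact Subgroup.subset_closure (Or.inr ⟨γ * δ, mul_smul γ δ x⟩)
    exact fun a ha => h ha
  have hK : Kc A p :=
    { normal := ⟨fun a ha g => by
        rw [show g * a * g⁻¹ = ⁅g, a⁆ * a by simp [commutatorElement_def]]
        exact A.mul_mem (hle (hcl g a)) ha⟩
      comm := hcomm
      inv := hinv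
      cop := hcop.coprime_dvd_left A.card_subgroup_dvd_card }
  exact le_center c hK (fun a b k _ => (Subgroup.mem_center_iff.mp (hcl a b) k).symm)
    (Subgroup.subset_closure (Or.inr ⟨1, one_smul Γ x⟩))

lemma cy_fixed_central {r : H} (hr : cy • r = r) : r ∈ Subgroup.center H := by
  refine orbit_central c hcop hcl fun γ => ?_
  have h := fun i => inv_of_cy c.card6 c.fix hr i
  rcases cases6 γ with rfl | rfl | rfl | rfl | rfl | rfl <;> simp [mul_smul, hr, h]

lemma center_rep {g : H} (h : g⁻¹ * cy • g ∈ Subgroup.center H) : g ∈ Subgroup.center H := by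
  obtain ⟨n, hn, hf⟩ := rep3 c.card6 _ (fun n hn => char_inv inferInstance cy hn) h
  exact (Subgroup.mul_mem_cancel_right _ hn).mp (cy_fixed_central c hcop hcl hf)

lemma norm_central (x : H) : x * cy • x * (cy * cy) • x ∈ Subgroup.center H := by
  refine center_rep c hcop hcl ?_
  have h1 : cy • (x * cy • x * (cy * cy) • x) = x⁻¹ * (x * cy • x * (cy * cy) • x) * x := by
    rw [smul_mul', smul_mul', ← mul_smul, ← mul_smul, cy3, one_smul]; group
  rw [h1]
  set n := x * cy • x * (cy * cy) • x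
  rw [show n⁻¹ * (x⁻¹ * n * x) = ⁅n⁻¹, x⁻¹⁆ by rw [commutatorElement_def]; group]
  exact hcl _ _

lemma tfix_central {x : H} (hx : sw 0 • x = x) (h1 : x * cy • x = cy • x * x) :
    x ∈ Subgroup.center H := by
  refine orbit_central c hcop hcl fun γ => ?_
  have h2 : x * (cy * cy) • x = (cy * cy) • x * x := by
    have h := congrArg ((cy * cy) • ·) h1
    simp only [smul_mul', ← mul_smul, cy3', one_smul] at h
    exact h.symm
  obtain ⟨δ, hδ, he⟩ : ∃ δ, (δ = 1 ∨ δ = cy ∨ δ = cy * cy) ∧ γ • x = δ • x := by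
    obtain ⟨δ, hδ, he⟩ := coset0 γ
    rcases he with rfl | rfl
    · exact ⟨γ, hδ, rfl⟩
    · exact ⟨δ, hδ, by rw [mul_smul, hx]⟩
  rw [he]
  rcases hδ with rfl | rfl | rfl
  · simp
  · exact h1
  · exact h2

lemma e_fixed (x : H) : cy • ⁅x, cy • x⁆ = ⁅x, cy • x⁆ ∧ ⁅(cy * cy) • x, x⁆ = ⁅x, cy • x⁆ := by
  have h2 : (cy * cy) • x = (cy • x)⁻¹ * x⁻¹ * (x * cy • x * (cy * cy) • x) := by group
  have hsm : ∀ (γ : Γ) (a b : H), γ • ⁅a, b⁆ = ⁅γ • a, γ • b⁆ := fun γ a b => by
    simp [commutatorElement_def]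
  have h3 : ⁅(cy * cy) • x, x⁆ = ⁅x, cy • x⁆ := by
    rw [h2, cL_mul hcl, cL_mul hcl, cL_inv hcl, cL_inv hcl, commutatorElement_self,
      cL_central (norm_central c hcop hcl x), inv_one, mul_one, mul_one, commutatorElement_inv]
  refine ⟨?_, h3⟩
  conv_lhs => rw [← h3, hsm, ← mul_smul, cy3, one_smul]

lemma prime_e {x : H} (hx : sw 0 • x = x) {q : ℕ} (hq : q.Prime) (hqH : q ∣ Nat.card H)
    (hqe : ⁅x, cy • x⁆ ^ q = 1) : ⁅x, cy • x⁆ = 1 := by
  set e := ⁅x, cy • x⁆ with he
  set n := x * cy • x * (cy * cy) • x with hn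
  have hnc : n ∈ Subgroup.center H := norm_central c hcop hcl x
  obtain ⟨hee, he2⟩ := e_fixed c hcop hcl x
  rw [← he] at hee he2
  have hK : Kc (Subgroup.center H) p :=
    { normal := inferInstance
      comm := fun a ha b _ => (Subgroup.mem_center_iff.mp ha b).symm
      inv := fun γ k hk => char_inv inferInstance γ hk
      cop := hcop.coprime_dvd_left (Subgroup.center H).card_subgroup_dvd_card }
  have hec : ∀ g, g * e = e * g := fun g => Subgroup.mem_center_iff.mp (hcl x (cy • x)) g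
  have hq2 : q ≠ 2 := fun h => by
    subst h; exact Nat.prime_two.coprime_iff_not_dvd.mp (cop2 c.card6) hqH
  have hq3 : q ≠ 3 := fun h => by
    subst h; exact Nat.prime_three.coprime_iff_not_dvd.mp (cop3 c.card6) hqH
  have hqgt : 2 < q := lt_of_le_of_ne hq.two_le (Ne.symm hq2)
  have hqp : q.Coprime p := hcop.coprime_dvd_left hqH
  have hord : orderOf e ∣ q := orderOf_dvd_of_pow_eq_one hqe
  have efix : ∀ {m : ℕ}, m.Coprime q → ∀ {v : V}, e ^ m • v = v → e • v = v := by
    intro m hm v hv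
    obtain ⟨j, hj⟩ := exists_pow_eq_self_of_coprime (hm.coprime_dvd_right hord)
    rw [← hj]
    exact pow_fix hv j
  let U : V → Prop := fun v => Fx (Subgroup.center H) cy v ∧ ∑ i ∈ range q, e ^ i • v = 0
  have hUadd : ∀ {v w}, U v → U w → U (v + w) := fun {v w} hv hw =>
    ⟨hv.1.add hw.1, by simp only [smul_add, Finset.sum_add_distrib, hv.2, hw.2, add_zero]⟩
  have hUsum : ∀ {ι : Type} (s : Finset ι) (f : ι → V), (∀ i ∈ s, U (f i)) → U (∑ i ∈ s, f i) := by
    intro ι s f hf
    induction s using Finset.cons_induction with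
    | empty => exact ⟨Fx_zero, by simp⟩
    | cons a s ha ih =>
      rw [Finset.sum_cons]
      exact hUadd (hf a (Finset.mem_cons_self a s))
        (ih fun i hi => hf i (Finset.mem_cons_of_mem hi))
  have hUH : ∀ (g : H) {v}, U v → U (g • v) := by
    refine fun g v hv => ⟨W0_inv c hK g hv.1, ?_⟩
    have h : ∀ i, e ^ i • g • v = g • e ^ i • v := fun i => by
      rw [← mul_smul, ← mul_smul, ((show Commute g e from hec g).pow_right i).eq]
    simp only [h, ← Finset.smul_sum, hv.2, smul_zero]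
  have hUc : ∀ {v}, U v → U (cy • v) := by
    refine fun {v} hv => ⟨fx_cy_smul c hK hv.1, ?_⟩
    have h : ∀ i, e ^ i • cy • v = cy • e ^ i • v := fun i => by
      rw [c.comp, smul_pow', hee]
    simp only [h, ← Finset.smul_sum, hv.2, smul_zero]
  have hUfix : ∀ {v}, U v → e • v = v → v = 0 := fun {v} hv h => by
    have h1 := hv.2
    simp only [pow_fix h, Finset.sum_const, Finset.card_range] at h1
    exact cancel hqp c.pV h1
  have hte : sw 0 • e = e⁻¹ := inv_of_cy c.card6 c.fix hee 0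
  have hUrho : ∀ {v}, U v → cy • v = v → v = 0 := by
    intro v hv hvv
    have hneg : ∀ {w : V}, cy • w = w → sw 0 • w = -w := by
      intro w hw
      have h1 := c.rel w
      have h2 : ∀ i, sw i • w = sw 0 • w := fun i => by
        obtain ⟨γ, hγ, hi⟩ := sw_coset 0 i
        rw [hi, mul_smul]
        rcases hγ with rfl | rfl | rfl <;> simp [mul_smul, hw]
      simp only [mul_smul, hw, h2, Finset.sum_const, Finset.card_univ, Fintype.card_fin] at h1
      have h3 : (3 : ℕ) • (w + sw 0 • w) = 0 := by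
        rw [← h1]; simp only [succ_nsmul, zero_nsmul]; abel
      exact eq_neg_of_add_eq_zero_right
        (cancel (c.p6.coprime_dvd_right (by norm_num)).symm c.pV h3)
    have h1 := hneg (w := e • v) (by rw [c.comp, hee, hvv])
    rw [c.comp, hte, hneg hvv, smul_neg, neg_inj, inv_smul_eq_iff, ← mul_smul, ← pow_two] at h1
    exact hUfix hv (efix ((Nat.prime_two.coprime_iff_not_dvd.mpr fun h =>
      hq2 ((Nat.prime_dvd_prime_iff_eq Nat.prime_two hq).mp h).symm)) h1.symm)
  have hrel3 : ∀ {v}, U v → v + cy • v + cy • cy • v = 0 := fun {v} hv =>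
    hUrho (hUadd (hUadd hv (hUc hv)) (hUc (hUc hv))) (by
      simp only [smul_add, ← mul_smul, mul_assoc, cy3, one_smul]; abel)
  set u := x⁻¹ * cy • x with hu
  set w := x⁻¹ * (cy * cy) • x with hw
  have hrelU : ∀ {v}, U v → v + u • cy • v + w • cy • cy • v = 0 := by
    intro v hv
    have h := congrArg (x⁻¹ • ·) (hrel3 (hUH x hv))
    simpa [smul_add, c.comp, ← mul_smul, smul_mul', hu, hw, mul_assoc] using h
  have hzc : ⁅u, w⁆ = e ^ 3 := by
    have hw' : w = x⁻¹ * (cy • x)⁻¹ * x⁻¹ * n := by rw [hw, hn]; group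
    have h1 : ⁅w, x⁆ = e := by
      rw [hw', cL_mul hcl, cL_mul hcl, cL_mul hcl, cL_inv hcl, cL_inv hcl, commutatorElement_self,
        cL_central hnc, inv_one, mul_one, mul_one, one_mul, commutatorElement_inv, ← he]
    have h2 : ⁅w, cy • x⁆ = e⁻¹ * e⁻¹ := by
      rw [hw', cL_mul hcl, cL_mul hcl, cL_mul hcl, cL_inv hcl, cL_inv hcl, commutatorElement_self,
        cL_central hnc, inv_one, mul_one, mul_one, ← he]
    rw [hu, cL_mul hcl, cL_inv hcl, commutatorElement_inv, h1, ← commutatorElement_inv, h2,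
      mul_inv_rev, inv_inv, pow_succ', pow_two]
  have h3q : Nat.Coprime 3 q := (Nat.coprime_primes Nat.prime_three hq).mpr (Ne.symm hq3)
  have hwfree : ∀ {v}, U v → w • v = v → v = 0 := by
    intro v hv hwv
    have h1 : u • cy • v = cy • v := by
      have h := congrArg (cy • ·) hwv
      rw [c.comp, hw, smul_mul', smul_inv', ← mul_smul, cy3, one_smul] at h
      rw [show u = ((cy • x)⁻¹ * x)⁻¹ by simp [hu], inv_smul_eq_iff, h]
    have h2 : w • cy • cy • v = cy • cy • v := by
      have h := hrelU hv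
      rw [h1, ← hrel3 hv] at h
      exact add_left_cancel h
    have h3 : u • cy • cy • v = cy • cy • v := by
      have h := hrelU (hUc hv)
      rw [show cy • cy • cy • v = v by rw [← mul_smul, ← mul_smul, mul_assoc, cy3, one_smul],
        hwv] at h
      have h' := hrel3 hv
      rw [← h', add_comm v (cy • v), add_assoc, add_assoc, add_comm v] at h
      exact add_right_cancel (add_left_cancel h)
    have h4 : e ^ 3 • cy • cy • v = cy • cy • v := by
      have hu' : u ∈ MulAction.stabilizer H (cy • cy • v) := h3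
      have hw'' : w ∈ MulAction.stabilizer H (cy • cy • v) := h2
      have h := Subgroup.mul_mem _ (Subgroup.mul_mem _ (Subgroup.mul_mem _ hu' hw'')
        (Subgroup.inv_mem _ hu')) (Subgroup.inv_mem _ hw'')
      rw [← hzc]; exact h
    have h5 := hUfix (hUc (hUc hv)) (efix h3q h4)
    have h6 := congrArg (cy • ·) h5
    simpa [← mul_smul, mul_assoc, cy3] using h6
  have hxq : x ^ q ∈ Subgroup.center H := by
    refine tfix_central c hcop hcl (by rw [smul_pow', hx]) ?_
    rw [← commutatorElement_eq_one_iff_mul_comm, smul_pow', cL_pow hcl, cR_pow hcl, ← he, hqe,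
      one_pow]
  have hwq : ∀ {v : V}, Fx (Subgroup.center H) cy v → w ^ q • v = v := fun {v} hv => by
    have hba : ⁅(cy * cy) • x, x⁻¹⁆ ^ q.choose 2 = 1 := by
      obtain ⟨r, hr⟩ := hq.dvd_choose_self two_ne_zero hqgt
      have h : ⁅(cy * cy) • x, x⁻¹⁆ = ⁅(cy * cy) • x, x⁆⁻¹ := map_inv (cmR _ (hcl _)) x
      rw [h, he2, hr, pow_mul, inv_pow, hqe, inv_one, one_pow]
    rw [hw, mul_pow_two hcl, hba, mul_one, inv_pow, ← smul_pow']
    exact fx_two c (hK := hK) hv _ hxq
  have hd : ∀ i, 0 < i → i < q → ∀ {v}, U v → ∑ j ∈ range q, ((e ^ 3) ^ i) ^ j • v = 0 := by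
    intro i h0 hi v hv
    have hdq : ((e ^ 3) ^ i) ^ q • v = v := by
      rw [← pow_mul, ← pow_mul, show 3 * (i * q) = q * (3 * i) by ring, pow_mul, hqe, one_pow,
        one_smul]
    have hco : (3 * i).Coprime q := Nat.Coprime.mul_left h3q
      ((hq.coprime_iff_not_dvd.mpr fun h => absurd (Nat.le_of_dvd h0 h) (not_le.mpr hi)).symm)
    exact hUfix (hUsum _ _ fun j _ => hUH _ hv) (efix hco (by rw [pow_mul]; exact sum_fix hdq))
  have hU0 : ∀ {v}, U v → v = 0 := by
    intro v hv
    have hy : ∀ j : ℕ, ∑ i ∈ range q, (w * (e ^ 3) ^ j) ^ i • v = 0 := by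
      intro j
      set d := w * (e ^ 3) ^ j with hddef
      have hcom : Commute w ((e ^ 3) ^ j) := ((show Commute w e from hec w).pow_right 3).pow_right j
      have hdq : d ^ q • v = v := by
        rw [hddef, hcom.mul_pow, ← pow_mul, ← pow_mul, show 3 * (j * q) = q * (3 * j) by ring,
          pow_mul e, hqe, one_pow, mul_one]
        exact hwq hv.1
      have hfix := sum_fix hdq
      have hd' : u ^ j * w * (u ^ j)⁻¹ = d := by
        rw [hddef, hcom.eq, show (e ^ 3) ^ j = ⁅u ^ j, w⁆ by rw [cL_pow hcl, hzc],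
          commutatorElement_def]
        group
      set y := ∑ i ∈ range q, d ^ i • v with hy
      have h1 : w • (u ^ j)⁻¹ • y = (u ^ j)⁻¹ • y := by
        rw [← hd'] at hfix
        conv_rhs => rw [← hfix]
        rw [← mul_smul, ← mul_smul]
        congr 1
        group
      have h2 := hwfree (hUH _ (hUsum _ _ fun i _ => hUH _ hv)) h1
      simpa using congrArg (u ^ j • ·) h2
    have h1 : q • v = 0 := by
      calc q • v = ∑ i ∈ range q, w ^ i • ∑ j ∈ range q, ((e ^ 3) ^ i) ^ j • v := by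
            rw [Finset.sum_eq_single 0
              (fun i hi h0 => by
                rw [hd i (Nat.pos_of_ne_zero h0) (Finset.mem_range.mp hi) hv, smul_zero])
              (fun h => absurd (Finset.mem_range.mpr hq.pos) h)]
            simp
        _ = ∑ j ∈ range q, ∑ i ∈ range q, (w * (e ^ 3) ^ j) ^ i • v := by
            rw [Finset.sum_comm]
            refine Finset.sum_congr rfl fun i _ => ?_
            rw [Finset.smul_sum]
            refine Finset.sum_congr rfl fun j _ => ?_
            rw [← mul_smul, (((show Commute w e from hec w).pow_right 3).pow_right j).mul_pow,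
              ← pow_mul (e ^ 3), ← pow_mul (e ^ 3), mul_comm j i]
        _ = 0 := Finset.sum_eq_zero fun j _ => hy j
    exact cancel hqp c.pV h1
  refine c.faith e fun v => span_all c hK (fun v hv => ?_) (fun i v h1 h2 => ?_) v
  · set S := ∑ i ∈ range q, e ^ i • v with hS
    have heS : e • S = S := sum_fix (by rw [hqe, one_smul])
    have hU' : U (q • v - S) := by
      refine ⟨(hv.nsmul q).sub (Fx.sum fun i _ => W0_inv c hK _ hv), ?_⟩
      simp only [smul_sub, Finset.sum_sub_distrib, pow_fix heS, smul_comm _ q, ← Finset.smul_sum,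
        Finset.sum_const, Finset.card_range, ← hS, sub_self]
    have h1 := sub_eq_zero.mp (hU0 hU')
    refine sub_eq_zero.mp (cancel hqp c.pV ?_)
    rw [nsmul_sub, ← smul_comm e, h1, heS, sub_self]
  · exact cy_fixed_mem_kri c hK i hee v ⟨h1, h2⟩

lemma tfix_e_one {x : H} (hx : sw 0 • x = x) : ⁅x, cy • x⁆ = 1 := by
  set e := ⁅x, cy • x⁆ with he
  by_contra hne
  obtain ⟨q, hq, hqm⟩ := Nat.exists_prime_and_dvd (show orderOf e ≠ 1 by
    simpa [orderOf_eq_one_iff] using hne)
  obtain ⟨a, ha⟩ := hqm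
  have hqH : q ∣ Nat.card H := (Dvd.intro a ha.symm).trans (orderOf_dvd_natCard e)
  have hpe : ⁅x ^ a, cy • x ^ a⁆ = e ^ (a * a) := by
    rw [smul_pow', cL_pow hcl, cR_pow hcl, ← he, ← pow_mul]
  have h1 := prime_e c hcop hcl (x := x ^ a) (by rw [smul_pow', hx]) hq hqH (by
    rw [hpe, ← pow_mul]
    exact orderOf_dvd_iff_pow_eq_one.mp ⟨a, by rw [ha]; ring⟩)
  have h2 := tfix_central c hcop hcl (x := x ^ a) (by rw [smul_pow', hx])
    (commutatorElement_eq_one_iff_mul_comm.mp h1)
  have h3 : e ^ a = 1 := by rw [he, ← cL_pow hcl, cL_central h2]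
  have h4 := orderOf_dvd_of_pow_eq_one h3
  have ha0 : 0 < a := Nat.pos_of_ne_zero fun h => (orderOf_pos e).ne' (by rw [ha, h, mul_zero])
  have h5 := Nat.le_of_dvd ha0 h4
  rw [ha] at h5
  have h6 := hq.two_le
  nlinarith

lemma class_two_comm (x : H) : x ∈ Subgroup.center H := by
  have hfixc : ∀ i y, sw i • y = y → y ∈ Subgroup.center H := by
    intro i y hy
    obtain ⟨γ, hγ⟩ := sw_conj i
    have h1 : sw 0 • (γ • y) = γ • y := by rw [← mul_smul, hγ, mul_smul, hy]
    have h2 := tfix_central c hcop hcl h1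
      (commutatorElement_eq_one_iff_mul_comm.mp (tfix_e_one c hcop hcl h1))
    simpa using char_inv inferInstance γ⁻¹ h2
  have hsw : ∀ i y, y * sw i • y ∈ Subgroup.center H := by
    intro i y
    have h : (y * sw i • y)⁻¹ * sw i • (y * sw i • y) = ⁅(sw i • y)⁻¹, y⁻¹⁆ := by
      rw [smul_mul', ← mul_smul, sw_sq, one_smul, commutatorElement_def]; group
    obtain ⟨n, hn, hf⟩ := rep2 c.card6 i _ (fun n hn => char_inv inferInstance (sw i) hn)
      (g := y * sw i • y) (h ▸ hcl _ _)
    exact (Subgroup.mul_mem_cancel_right _ hn).mp (hfixc i _ hf)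
  have hab : ∀ a b, x⁻¹ * (sw a * sw b) • x ∈ Subgroup.center H := by
    intro a b
    have h1 := hsw a (sw b • x)
    have h2 := hsw b x
    rw [← mul_smul] at h1
    have h3 := Subgroup.mul_mem _ (Subgroup.inv_mem _ h2) h1
    have h7 : x⁻¹ * (sw a * sw b) • x = (x * sw b • x)⁻¹ * (sw b • x * (sw a * sw b) • x) := by
      set T := (sw a * sw b) • x
      set S := sw b • x
      have hc2 := Subgroup.mem_center_iff.mp h2 S⁻¹
      calc x⁻¹ * T = S * (S⁻¹ * x⁻¹) * T := by group
        _ = S * (x * S)⁻¹ * T := by group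
        _ = (x * S)⁻¹ * S * T := by
          rw [Subgroup.mem_center_iff.mp (Subgroup.inv_mem _ h2) S]
        _ = _ := by rw [mul_assoc]
    rw [h7]
    exact h3
  refine center_rep c hcop hcl ?_
  rcases sw_gen with h | h <;> rw [← h] <;> exact hab _ _

end two

include c hcop in
theorem nilp_comm [Group.IsNilpotent H] (x : H) : x ∈ Subgroup.center H := by
  set Z2 := Subgroup.upperCentralSeries H 2 with hZ2
  have hZ2c : ∀ a ∈ Z2, ∀ y : H, ⁅a, y⁆ ∈ Subgroup.center H := by
    intro a ha y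
    have := Subgroup.mem_upperCentralSeries_succ_iff.mp ha y
    rw [Subgroup.upperCentralSeries_one] at this
    rwa [commutatorElement_def]
  have hcent : ∀ a ∈ Z2, ∀ b ∈ commutator H, a * b = b * a := by
    intro a ha b hb
    have hle : commutator H ≤ (cmR a (hZ2c a ha)).ker := by
      rw [commutator_def, Subgroup.commutator_le]
      intro g _ g' _
      rw [MonoidHom.mem_ker, map_commutatorElement]
      exact cL_central (hZ2c a ha g) _
    exact commutatorElement_eq_one_iff_mul_comm.mp (hle hb)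
  let A := Z2 ⊓ commutator H
  have hAn : A.Normal := inferInstanceAs (Z2 ⊓ commutator H).Normal
  have hA : Kc A p :=
    { normal := hAn
      comm := fun a ha b hb => hcent a ha.1 b hb.2
      inv := fun γ a ha => ⟨char_inv inferInstance γ ha.1, char_inv inferInstance γ ha.2⟩
      cop := hcop.coprime_dvd_left A.card_subgroup_dvd_card }
  have hle := le_center c hA fun a b k hk => (hcent k hk.1 _ (Subgroup.commutator_mem_commutator
    (Subgroup.mem_top a) (Subgroup.mem_top b))).symm
  have htop : ∀ n, ∀ y ∈ Subgroup.upperCentralSeries H n, y ∈ commutator H →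
      y ∈ Subgroup.center H := by
    intro n
    induction n with
    | zero => intro y hy _; simp [Subgroup.mem_bot.mp (by simpa using hy)]
    | succ k ih =>
      intro y hy hyc
      refine hle ⟨?_, hyc⟩
      change y ∈ Subgroup.upperCentralSeries H 2
      rw [Subgroup.mem_upperCentralSeries_succ_iff, Subgroup.upperCentralSeries_one]
      intro g
      refine ih _ (Subgroup.mem_upperCentralSeries_succ_iff.mp hy g) ?_
      exact Subgroup.commutator_mem_commutator (Subgroup.mem_top y) (Subgroup.mem_top g)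
  obtain ⟨n, hn⟩ := Group.IsNilpotent.nilpotent (G := H)
  exact class_two_comm c hcop (fun a b => htop n _ (hn ▸ Subgroup.mem_top _)
    (Subgroup.commutator_mem_commutator (Subgroup.mem_top a) (Subgroup.mem_top b))) x

end nilp
section faithful

/-- induced action on an invariant subgroup -/
@[instance_reducible] def subAct {H : Type*} [Group H] [MulDistribMulAction Γ H] (K : Subgroup H)
    (hK : ∀ γ : Γ, ∀ k ∈ K, γ • k ∈ K) : MulDistribMulAction Γ K where
  smul γ k := ⟨γ • (k : H), hK γ k k.2⟩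
  one_smul k := Subtype.ext (one_smul Γ (k : H))
  mul_smul a b k := Subtype.ext (mul_smul a b (k : H))
  smul_one γ := Subtype.ext (smul_one γ)
  smul_mul γ a b := Subtype.ext (smul_mul' γ (a : H) (b : H))

variable {H V : Type*} [Group H] [Finite H] [MulDistribMulAction Γ H] [AddCommGroup V]
  [Finite V] [DistribMulAction H V] [DistribMulAction Γ V] {p : ℕ}

theorem faithful_abelian (c : Ctx H V p) (hp : p.Prime)
    (hOp : ∀ K : Subgroup H, K.Normal → IsPGroup p K → K = ⊥)
    (hnil : Group.IsNilpotent (commutator H)) (a b : H) : a * b = b * a := by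
  have : Fact p.Prime := ⟨hp⟩
  have hcK : ∀ K : Subgroup H, K.Normal → Group.IsNilpotent K → (Nat.card K).Coprime p := by
    intro K hKn hKnil
    rw [Nat.coprime_comm, hp.coprime_iff_not_dvd]
    intro hdvd
    let P : Sylow p K := default
    have hPn : (P : Subgroup K).Normal :=
      P.normal_of_normalizerCondition (Group.normalizerCondition_of_isNilpotent (h := hKnil))
    have hPc : (P : Subgroup K).Characteristic := P.characteristic_of_normal hPn
    have := hOp ((P : Subgroup K).map K.subtype) ConjAct.normal_of_characteristic_of_normal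
      (P.isPGroup'.map _)
    rw [Subgroup.map_eq_bot_iff_of_injective _ K.subtype_injective] at this
    exact P.ne_bot_of_dvd_card hdvd this
  let D := commutator H
  have hDi : ∀ γ : Γ, ∀ d ∈ D, γ • d ∈ D := fun γ d hd => char_inv inferInstance γ hd
  let : MulDistribMulAction Γ D := subAct D hDi
  have cD : Ctx D V p :=
    { comp := fun γ h v => c.comp γ (h : H) v
      rel := c.rel
      card6 := c.card6.coprime_dvd_left D.card_subgroup_dvd_card
      fix := fun g hg => Subtype.ext (c.fix g fun γ => congrArg Subtype.val (hg γ))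
      pV := c.pV
      p6 := c.p6
      faith := fun g hg => Subtype.ext (c.faith g hg) }
  have hDc : ∀ x ∈ D, ∀ y ∈ D, x * y = y * x := fun x hx y hy =>
    congrArg Subtype.val ((Subgroup.mem_center_iff.mp
      (nilp_comm cD (hcK D inferInstance hnil) ⟨y, hy⟩)) ⟨x, hx⟩)
  have hKD : Kc D p := ⟨inferInstance, hDc, hDi, hcK D inferInstance hnil⟩
  have hcen : commutator H ≤ Subgroup.center H := le_center c hKD fun x y k hk =>
    hDc _ (Subgroup.commutator_mem_commutator (Subgroup.mem_top x) (Subgroup.mem_top y)) k hk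
  have hHnil : Group.IsNilpotent H := by
    refine Subgroup.isNilpotent_of_ker_le_center (Abelianization.of (G := H)) ?_
    rw [Abelianization.ker_of]; exact hcen
  have hcop : (Nat.card H).Coprime p := by
    have h := hcK ⊤ inferInstance inferInstance
    rwa [Subgroup.card_top] at h
  exact Subgroup.mem_center_iff.mp (nilp_comm c hcop b) a

end faithful

section main

lemma quot_map_mk {G : Type*} [Group G] [MulDistribMulAction Γ G] (N : Subgroup G) [N.Normal]
    (hN : ∀ γ : Γ, ∀ x ∈ N, γ • x ∈ N) (γ : Γ) (g : G) :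
    QuotientGroup.map N N (MulDistribMulAction.toMonoidHom G γ) (fun x hx => hN γ x hx)
      (g : G ⧸ N) = ((γ • g : G) : G ⧸ N) := rfl

/-- induced action on a quotient -/
@[instance_reducible] def quotAct {G : Type*} [Group G] [MulDistribMulAction Γ G] (N : Subgroup G)
    [N.Normal] (hN : ∀ γ : Γ, ∀ x ∈ N, γ • x ∈ N) : MulDistribMulAction Γ (G ⧸ N) where
  smul γ x := QuotientGroup.map N N (MulDistribMulAction.toMonoidHom G γ) (fun x hx => hN γ x hx) x
  one_smul x := by
    induction x using QuotientGroup.induction_on with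
    | H g => exact (quot_map_mk N hN 1 g).trans (by rw [one_smul])
  mul_smul a b x := by
    induction x using QuotientGroup.induction_on with
    | H g => exact (quot_map_mk N hN (a * b) g).trans (by rw [mul_smul]; rfl)
  smul_one _ := map_one _
  smul_mul _ x y := map_mul _ x y

lemma main : ∀ (n : ℕ) (G : Type u) [Group G] [Finite G] [MulDistribMulAction Γ G],
    Nat.card G ≤ n → Group.IsSolvable G → (Nat.card G).Coprime 6 →
    (∀ g : G, (∀ γ : Γ, γ • g = g) → g = 1) → Group.IsNilpotent (commutator G) := by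
  intro n
  induction n with
  | zero => intro G _ _ _ h; exact absurd (Nat.card_pos (α := G)) (by omega)
  | succ n ih =>
    intro G _ _ _ hcard hsol c6 hf
    classical
    by_cases hsub : commutator G = ⊥
    · rw [hsub]; infer_instance
    let S : Set (Subgroup G) := {W | W.Normal ∧ W ≠ ⊥ ∧ (∀ γ : Γ, ∀ x ∈ W, γ • x ∈ W) ∧
      (∀ a ∈ W, ∀ b ∈ W, a * b = b * a) ∧ ∃ p, p.Prime ∧ ∀ x ∈ W, x ^ p = 1}
    have hS : S.Nonempty := by
      obtain ⟨m, hm⟩ := hsol.solvable
      have hex : ∃ i, derivedSeries G i = ⊥ := ⟨m, hm⟩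
      have hi0 : 0 < Nat.find hex := by
        rw [Nat.pos_iff_ne_zero]
        intro h
        have := Nat.find_spec hex
        rw [h, derivedSeries_zero] at this
        exact hsub (eq_bot_mono le_top this)
      set D := derivedSeries G (Nat.find hex - 1) with hD
      have hDne : D ≠ ⊥ := Nat.find_min hex (by omega)
      have hDab : ∀ a ∈ D, ∀ b ∈ D, a * b = b * a := by
        intro a ha b hb
        have h2 : ⁅D, D⁆ = ⊥ := by
          rw [hD, ← derivedSeries_succ, Nat.sub_add_cancel hi0]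
          exact Nat.find_spec hex
        exact Subgroup.commutator_eq_bot_iff_le_centralizer.mp h2 hb a ha
      have hD2 : 2 ≤ Nat.card D := by
        have : Nontrivial D := (Subgroup.nontrivial_iff_ne_bot D).mpr hDne
        exact Finite.one_lt_card
      obtain ⟨p, hp, hpd⟩ := Nat.exists_prime_and_dvd (show Nat.card D ≠ 1 by omega)
      have : Fact p.Prime := ⟨hp⟩
      let W : Subgroup G :=
        { carrier := {x | x ∈ D ∧ x ^ p = 1}
          one_mem' := ⟨D.one_mem, one_pow p⟩
          mul_mem' := fun {a b} ha hb => ⟨D.mul_mem ha.1 hb.1, by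
            rw [(show Commute a b from hDab a ha.1 b hb.1).mul_pow, ha.2, hb.2, one_mul]⟩
          inv_mem' := fun {a} ha => ⟨D.inv_mem ha.1, by rw [inv_pow, ha.2, inv_one]⟩ }
      refine ⟨W, ⟨fun x hx g => ⟨(derivedSeries_normal G _).conj_mem x hx.1 g, ?_⟩⟩, ?_, ?_, ?_,
        p, hp, fun x hx => hx.2⟩
      · rw [conj_pow, hx.2]; simp
      · obtain ⟨d, hd⟩ := exists_prime_orderOf_dvd_card' p hpd
        intro h
        have hd1 : (d : G) ∈ W := ⟨d.2, by
          rw [← hd, ← Subgroup.orderOf_coe]; exact pow_orderOf_eq_one _⟩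
        rw [h, Subgroup.mem_bot] at hd1
        rw [show d = 1 from Subtype.ext hd1, orderOf_one] at hd
        exact hp.ne_one hd.symm
      · exact fun γ x hx => ⟨map_derivedSeries_le_derivedSeries
          (MulDistribMulAction.toMonoidHom G γ) _ ⟨x, hx.1, rfl⟩, by
          rw [← smul_pow', hx.2, smul_one]⟩
      · exact fun a ha b hb => hDab a ha.1 b hb.1
    obtain ⟨V, hVS, hVmin⟩ := (Set.toFinite S).exists_minimal hS
    obtain ⟨hVn, hVne, hVi, hVc, p, hp, hVp⟩ := hVS
    have : Fact p.Prime := ⟨hp⟩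
    have hpdvd : p ∣ Nat.card G := by
      obtain ⟨⟨v, hvV⟩, hv'⟩ := V.ne_bot_iff_exists_ne_one.mp hVne
      have hv : v ≠ 1 := fun h => hv' (Subtype.ext h)
      rw [← orderOf_eq_prime (hVp v hvV) hv]
      exact orderOf_dvd_natCard v
    have hp6 : p.Coprime 6 := c6.coprime_dvd_left hpdvd
    have hqc : ∀ (N : Subgroup G) [N.Normal], (Nat.card (G ⧸ N)).Coprime 6 := fun N _ =>
      c6.coprime_dvd_left N.card_quotient_dvd_card
    have hqf : ∀ (N : Subgroup G) [N.Normal] (hN : ∀ γ : Γ, ∀ x ∈ N, γ • x ∈ N),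
        ∀ x : G ⧸ N, (∀ γ : Γ, (quotAct N hN).smul γ x = x) → x = 1 := by
      intro N _ hN x
      induction x using QuotientGroup.induction_on with
      | H g =>
        intro hg
        rw [QuotientGroup.eq_one_iff]
        exact quot_fix c6 hf N hN fun γ => QuotientGroup.eq.mp (hg γ).symm
    have hlt : Nat.card (G ⧸ V) ≤ n := by
      have h1 := V.card_mul_index
      rw [Subgroup.index_eq_card] at h1
      have : Nontrivial V := (Subgroup.nontrivial_iff_ne_bot V).mpr hVne
      have h2 : 2 ≤ Nat.card V := Finite.one_lt_card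
      have h3 : 0 < Nat.card (G ⧸ V) := Nat.card_pos
      nlinarith
    let : MulDistribMulAction Γ (G ⧸ V) := quotAct V hVi
    have hIH : Group.IsNilpotent (commutator (G ⧸ V)) :=
      ih (G ⧸ V) hlt inferInstance (hqc V) (hqf V hVi)
    let : CommGroup V := { (inferInstance : Group V) with
      mul_comm := fun a b => Subtype.ext (hVc a a.2 b b.2) }
    let ρ : G →* MulAut V := MulAut.conjNormal
    have hρ : ∀ g (v : V), (ρ g v : G) = g * v * g⁻¹ := fun g v => MulAut.conjNormal_apply g v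
    set N := ρ.ker with hNdef
    have hmemN : ∀ g, g ∈ N ↔ ∀ v ∈ V, g * v * g⁻¹ = v := by
      intro g
      rw [hNdef, MonoidHom.mem_ker]
      constructor
      · intro h v hv
        rw [← hρ g ⟨v, hv⟩, h]; rfl
      · intro h
        ext v
        rw [hρ]; exact h v v.2
    have hNi : ∀ γ : Γ, ∀ x ∈ N, γ • x ∈ N := by
      intro γ x hx
      rw [hmemN] at hx ⊢
      intro v hv
      have h1 := congrArg (γ • ·) (hx (γ⁻¹ • v) (hVi _ v hv))
      simpa using h1
    let : MulDistribMulAction Γ (G ⧸ N) := quotAct N hNi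
    have hmk : ∀ (γ : Γ) (g : G), γ • (g : G ⧸ N) = ((γ • g : G) : G ⧸ N) := fun γ g => rfl
    have hVN : V ≤ N := fun x hx => by
      rw [hmemN]; intro v hv; rw [hVc x hx v hv, mul_inv_cancel_right]
    have hnilN : Group.IsNilpotent (commutator (G ⧸ N)) := by
      let π : G ⧸ V →* G ⧸ N := QuotientGroup.map V N (MonoidHom.id G) hVN
      have hsurj : Function.Surjective π := fun x => by
        induction x using QuotientGroup.induction_on with
        | H g => exact ⟨g, rfl⟩
      have hmap : (commutator (G ⧸ V)).map π = commutator (G ⧸ N) := by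
        rw [commutator_def, Subgroup.map_commutator, Subgroup.map_top_of_surjective π hsurj,
          ← commutator_def]
      rw [← hmap]
      exact Group.nilpotent_of_surjective (h := hIH) _ (π.subgroupMap_surjective (commutator (G ⧸ V)))
    have hOp : ∀ K : Subgroup (G ⧸ N), K.Normal → IsPGroup p K → K = ⊥ := by
      let R : Subgroup (G ⧸ N) := sSup {K | K.Normal ∧ IsPGroup p K}
      suffices hR : R = ⊥ from fun K hK hKp => eq_bot_mono (le_sSup (show K ∈ {K : Subgroup (G ⧸ N) | K.Normal ∧ IsPGroup p K} from ⟨hK, hKp⟩)) hR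
      have hRp : IsPGroup p R := Sylow.sSup_of_normal _ (fun H hH => hH.2) (fun H hH => hH.1)
      have hRn : R.Normal := Subgroup.sSup_normal _ (fun H hH => hH.1)
      have hRi : ∀ γ : Γ, ∀ x ∈ R, γ • x ∈ R := by
        intro γ
        let f := MulDistribMulAction.toMonoidHom (G ⧸ N) γ
        have hsurj : Function.Surjective f := fun x => ⟨γ⁻¹ • x, smul_inv_smul γ x⟩
        have : R.map f ≤ R := le_sSup (show R.map f ∈ {K : Subgroup (G ⧸ N) | K.Normal ∧ IsPGroup p K} from ⟨hRn.map f hsurj, hRp.map f⟩)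
        exact fun x hx => this ⟨x, hx, rfl⟩
      set M := R.comap (QuotientGroup.mk' N) with hM
      have hMn : M.Normal := hRn.comap _
      have hMi : ∀ γ : Γ, ∀ x ∈ M, γ • x ∈ M := fun γ x hx => hRi γ _ hx
      let F : Subgroup G := V ⊓ Subgroup.centralizer (M : Set G)
      let act : MulAction R V :=
        MulAction.compHom V ((QuotientGroup.kerLift ρ).comp R.subtype)
      have hfix1 : (1 : V) ∈ MulAction.fixedPoints R V := fun x => map_one (QuotientGroup.kerLift ρ (x : G ⧸ N))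
      have hdvd : p ∣ Nat.card V := by
        have : Nontrivial V := (Subgroup.nontrivial_iff_ne_bot V).mpr hVne
        obtain ⟨v, hv⟩ := exists_ne (1 : V)
        rw [← orderOf_eq_prime (Subtype.ext (hVp v v.2) : v ^ p = 1) hv]
        exact orderOf_dvd_natCard v
      obtain ⟨v, hvfix, hv1⟩ := hRp.exists_fixed_point_of_prime_dvd_card_of_fixed_point V hdvd hfix1
      have hvF : (v : G) ∈ F := by
        refine ⟨v.2, fun m hm => ?_⟩
        have h1 : ρ m v = v := hvfix ⟨_, hm⟩
        have h2 : m * (v : G) * m⁻¹ = v := by rw [← hρ, h1]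
        calc m * (v : G) = m * (v : G) * m⁻¹ * m := by group
          _ = v * m := by rw [h2]
      have hFV : V ≤ F := by
        refine hVmin (y := F) ⟨?_, ?_, ?_, ?_, p, hp, fun x hx => hVp x hx.1⟩ inf_le_left
        · have : (Subgroup.centralizer (M : Set G)).Normal := inferInstance
          exact inferInstanceAs (V ⊓ Subgroup.centralizer (M : Set G)).Normal
        · intro h
          rw [h, Subgroup.mem_bot] at hvF
          exact hv1 (Subtype.ext hvF.symm)
        · rintro γ x ⟨hxV, hxC⟩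
          refine ⟨hVi γ x hxV, fun m hm => ?_⟩
          have h1 := congrArg (γ • ·) (hxC (γ⁻¹ • m) (hMi _ _ hm))
          simpa using h1
        · exact fun a ha b hb => hVc a ha.1 b hb.1
      rw [eq_bot_iff]
      intro x hx
      induction x using QuotientGroup.induction_on with
      | H g =>
        rw [Subgroup.mem_bot, QuotientGroup.eq_one_iff, hmemN]
        intro w hw
        rw [(hFV hw).2 g hx, mul_inv_cancel_right]
    let k := QuotientGroup.kerLift ρ
    let : DistribMulAction (G ⧸ N) (Additive V) :=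
      { smul := fun x v => Additive.ofMul (k x v.toMul)
        one_smul := fun v => by
          show Additive.ofMul (k 1 v.toMul) = v
          rw [map_one]; rfl
        mul_smul := fun x y v => by
          show Additive.ofMul (k (x * y) v.toMul) = Additive.ofMul (k x (k y v.toMul))
          rw [map_mul]; rfl
        smul_zero := fun x => by
          show Additive.ofMul (k x 1) = 0
          rw [map_one]; rfl
        smul_add := fun x v w => by
          show Additive.ofMul (k x (v.toMul * w.toMul)) = _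
          rw [map_mul]; rfl }
    let : DistribMulAction Γ (Additive V) :=
      { smul := fun γ v => Additive.ofMul (⟨γ • (v.toMul : G), hVi γ _ v.toMul.2⟩ : V)
        one_smul := fun v => congrArg Additive.ofMul (Subtype.ext (one_smul Γ (v.toMul : G)))
        mul_smul := fun a b v => congrArg Additive.ofMul (Subtype.ext (mul_smul a b (v.toMul : G)))
        smul_zero := fun γ => congrArg Additive.ofMul (Subtype.ext (smul_one γ))
        smul_add := fun γ v w => congrArg Additive.ofMul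
          (Subtype.ext (smul_mul' γ (v.toMul : G) (w.toMul : G))) }
    have hVfix : ∀ v : Additive V, (∀ γ : Γ, γ • v = v) → v = 0 := fun v hv =>
      congrArg Additive.ofMul (Subtype.ext (hf (v.toMul : G) fun γ =>
        congrArg (fun w : Additive V => (w.toMul : G)) (hv γ)))
    have hctx : Ctx (G ⧸ N) (Additive V) p :=
      { comp := fun γ h v => by
          induction h using QuotientGroup.induction_on with
          | H g =>
            apply Additive.toMul.injective
            apply Subtype.ext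
            change γ • (ρ g v.toMul : G) = (ρ (γ • g) ⟨γ • (v.toMul : G), _⟩ : G)
            rw [hρ, hρ, smul_mul', smul_mul', smul_inv']
        rel := fun v => by
          have h1 := sum6 (fun γ => γ • v)
          simp only [one_smul] at h1
          rw [← h1]
          refine hVfix _ fun δ => ?_
          rw [Finset.smul_sum]
          exact Fintype.sum_equiv (Equiv.mulLeft δ) _ _ fun γ => (mul_smul δ γ v).symm
        card6 := hqc N
        fix := hqf N hNi
        pV := fun v => congrArg Additive.ofMul (Subtype.ext (hVp _ v.toMul.2) : v.toMul ^ p = 1)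
        p6 := hp6
        faith := fun g hg => by
          apply QuotientGroup.kerLift_injective ρ
          rw [map_one]
          ext v
          exact congrArg (fun w : Additive V => (w.toMul : G)) (hg (Additive.ofMul v)) }
    have hab := faithful_abelian hctx hp hOp hnilN
    have hGN : commutator G ≤ N := by
      rw [commutator_def, Subgroup.commutator_le]
      intro a _ b _
      rw [← QuotientGroup.eq_one_iff, commutatorElement_def]
      simp only [QuotientGroup.mk_mul, QuotientGroup.mk_inv]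
      rw [hab (a : G ⧸ N) b, mul_inv_cancel_right, mul_inv_cancel]
    let f : commutator G →* commutator (G ⧸ V) :=
      ((QuotientGroup.mk' V).comp (commutator G).subtype).codRestrict _ (fun x => by
        have : (commutator G).map (QuotientGroup.mk' V) ≤ commutator (G ⧸ V) := by
          rw [commutator_def, Subgroup.map_commutator]
          exact Subgroup.commutator_mono le_top le_top
        exact this ⟨x, x.2, rfl⟩)
    refine @Subgroup.isNilpotent_of_ker_le_center _ _ _ _ f ?_ hIH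
    intro x hx
    rw [Subgroup.mem_center_iff]
    intro y
    apply Subtype.ext
    have hxV : (x : G) ∈ V := (QuotientGroup.eq_one_iff _).mp (congrArg Subtype.val hx)
    have h1 := (hmemN y).mp (hGN y.2) x hxV
    calc (y : G) * x = y * x * (y : G)⁻¹ * y := by group
      _ = x * y := by rw [h1]

end main

/-- Let the symmetric group of degree 3 act by automorphisms on a finite solvable group `G` of order prime to 6, so that only the identity of `G` is fixed by all of it. Then the derived subgroup of `G` is nilpotent. -/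
theorem result {G : Type*} [Group G] [Finite G] [Group.IsSolvable G]
    [MulDistribMulAction (Equiv.Perm (Fin 3)) G] (hcop : (Nat.card G).Coprime 6)
    (hfpf : ∀ g : G, (∀ a : Equiv.Perm (Fin 3), a • g = g) → g = 1) :
    Group.IsNilpotent ↥(commutator G) :=
  main (Nat.card G) G le_rfl inferInstance hcop hfpf

end Cfsg.Agent.S4305
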