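import Cfsg.Statements.S4306
import Cfsg.Agent.Lib.FpfHeight.PQFitting

set_option autoImplicit false
open Cfsg

namespace Cfsg.Agent.S4306

/-- The case where the normal subgroup has the larger order. -/
theorem of_lt {A : Type*} [Group A] [Finite A] {p q : ℕ} (hp : p.Prime) (hq : q.Prime) (hlt : p < q)
    (hA : Nat.card A = p * q) (hAna : ¬ IsMulCommutative A) {G : Type*} [Group G] [Finite G]
    (hG : Group.IsSolvable G) (α : A →* MulAut G) (hcop : (Nat.card G).Coprime (p * q))
    (hfpf : ∀ g, (∀ a, α a g = g) → g = 1) :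
    Group.IsNilpotent (G ⧸ fittingSubgroup G) := by
  haveI := Fact.mk hq
  obtain ⟨P⟩ : Nonempty (Sylow q A) := inferInstance
  have hPc : Nat.card (P : Subgroup A) = q := by
    rw [P.card_eq_multiplicity, hA, Nat.factorization_mul hp.ne_zero hq.ne_zero,
      Finsupp.add_apply, hp.factorization, hq.factorization, Finsupp.single_eq_same,
      Finsupp.single_eq_of_ne hlt.ne', zero_add, pow_one]
  have hone : Nat.card (Sylow q A) = 1 := by
    have h1 : Nat.card (Sylow q A) ∣ p := by
      have h2 := P.card_dvd_index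
      have h3 := (P : Subgroup A).index_mul_card
      rw [hPc, hA] at h3
      rwa [Nat.eq_of_mul_eq_mul_right hq.pos h3] at h2
    rcases (Nat.dvd_prime hp).mp h1 with h | h
    · exact h
    · exfalso
      have hmod := card_sylow_modEq_one q A
      rw [h, Nat.ModEq, Nat.mod_eq_of_lt hlt, Nat.mod_eq_of_lt hq.one_lt] at hmod
      exact hp.one_lt.ne' hmod
  haveI : Subsingleton (Sylow q A) := (Nat.card_eq_one_iff_unique.mp hone).1
  have hn : (P : Subgroup A).Normal := Sylow.normal_of_subsingleton P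
  refine Cfsg.Agent.Lib.FpfHeight.PQFitting.isNilpotent_quotient_fitting hp hq hlt.ne hPc hA hn
    (fun a ha f hf hc => ?_) G hG α hcop hfpf
  by_contra hf1
  refine hAna ⟨⟨fun x y => ?_⟩⟩
  have hzp : (P : Subgroup A) ≤ Subgroup.zpowers f := by
    intro g hg
    obtain ⟨i, hi⟩ := Subgroup.mem_zpowers_iff.mp (mem_zpowers_of_prime_card hPc
      (g := (⟨f, hf⟩ : (P : Subgroup A))) (g' := ⟨g, hg⟩) fun h => hf1 (congrArg Subtype.val h))
    exact Subgroup.mem_zpowers_iff.mpr ⟨i, congrArg Subtype.val hi⟩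
  have hac : Subgroup.centralizer ({a} : Set A) = ⊤ :=
    Cfsg.Agent.Lib.FpfHeight.PQFitting.eq_top_of_mem hp hq hPc hA ha
      (Subgroup.mem_centralizer_singleton_iff.mpr rfl)
      (hzp.trans (Subgroup.zpowers_le.mpr (Subgroup.mem_centralizer_singleton_iff.mpr hc.eq.symm)))
  have hfc : Subgroup.centralizer ({f} : Set A) = ⊤ := by
    refine Cfsg.Agent.Lib.FpfHeight.PQFitting.eq_top_of_mem hp hq hPc hA ha
      (Subgroup.mem_centralizer_singleton_iff.mpr hc.eq) (hzp.trans (Subgroup.zpowers_le.mpr ?_))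
    exact Subgroup.mem_centralizer_singleton_iff.mpr rfl
  have hac' : ∀ z : A, z * a = a * z := fun z =>
    Subgroup.mem_centralizer_singleton_iff.mp (hac ▸ Subgroup.mem_top z)
  have hfc' : ∀ z : A, z * f = f * z := fun z =>
    Subgroup.mem_centralizer_singleton_iff.mp (hfc ▸ Subgroup.mem_top z)
  have hxc : Subgroup.centralizer ({y} : Set A) = ⊤ :=
    Cfsg.Agent.Lib.FpfHeight.PQFitting.eq_top_of_mem hp hq hPc hA ha
      (Subgroup.mem_centralizer_singleton_iff.mpr (hac' y).symm)
      (hzp.trans (Subgroup.zpowers_le.mpr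
        (Subgroup.mem_centralizer_singleton_iff.mpr (hfc' y).symm)))
  exact Subgroup.mem_centralizer_singleton_iff.mp (hxc ▸ Subgroup.mem_top x)

/-- Let `A` be a non-abelian group of order `pq` with `p, q` distinct primes, acting by automorphisms on a finite solvable group `G` of order prime to `pq`, so that only the identity of `G` is fixed by all of `A`. Then `G` has Fitting height at most 2: there is a normal nilpotent subgroup `F` of `G` with `G/F` nilpotent. -/
theorem result {G A : Type*} [Group G] [Finite G]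
    [Group.IsSolvable G] [Group A] [Finite A] [MulDistribMulAction A G] (p q : ℕ) (hp : p.Prime) (hq : q.Prime) (hpq : p ≠ q)
    (hA : Nat.card A = p * q) (hAna : ¬ IsMulCommutative A) (hcop : (Nat.card G).Coprime (p * q))
    (hfpf : ∀ g : G, (∀ a : A, a • g = g) → g = 1) :
    ∃ F : Subgroup G, ∃ hF : F.Normal, Group.IsNilpotent ↥F ∧ Group.IsNilpotent (G ⧸ F) := by
  refine ⟨fittingSubgroup G, inferInstance, Cfsg.Agent.Lib.Cores.fittingSubgroup_isNilpotent, ?_⟩
  rcases lt_or_gt_of_ne hpq with h | h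
  · exact of_lt hp hq h hA hAna ‹_› (MulDistribMulAction.toMulAut A G) hcop hfpf
  · exact of_lt hq hp h (hA.trans (mul_comm p q)) hAna ‹_› (MulDistribMulAction.toMulAut A G)
      (mul_comm p q ▸ hcop) hfpf

end Cfsg.Agent.S4306
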