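import Cfsg.Statements.S4314
import Mathlib.GroupTheory.Index
import Mathlib.GroupTheory.SpecificGroups.Cyclic
import Mathlib.GroupTheory.Sylow
import Mathlib.GroupTheory.Nilpotent
import Mathlib.GroupTheory.Subgroup.Centralizer

set_option autoImplicit false
set_option linter.style.haveILetI false
open Cfsg

namespace Cfsg.Agent.S4314

open Subgroup

/-- Let `G` be a finite group every conjugacy class of which has size 1 or a prime. Then either `G` is nilpotent of class at most 2, or `G/Z(G)` is a non-abelian group of order `pq` for distinct primes `p, q` (a Frobenius group of order `pq`). -/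
theorem result {G : Type*} [Group G] [Finite G]
    (h : ∀ x : G, (Subgroup.centralizer ({x} : Set G)).index = 1 ∨ ((Subgroup.centralizer ({x} : Set G)).index).Prime) :
    Subgroup.upperCentralSeries G 2 = ⊤ ∨
      ∃ p q : ℕ, p.Prime ∧ q.Prime ∧ p ≠ q ∧ Nat.card (G ⧸ Subgroup.center G) = p * q ∧ ¬ IsMulCommutative (G ⧸ Subgroup.center G) := by
  classical
  have hmem : ∀ t k : G, k ∈ centralizer ({t} : Set G) ↔ k * t = t * k := fun t k =>
    mem_centralizer_singleton_iff
  by_cases hall : ∀ t : G, (centralizer ({t} : Set G)).Normal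
  · left
    rw [eq_top_iff]
    intro x _
    rw [Subgroup.mem_upperCentralSeries_succ_iff]
    intro y
    rw [commutatorElement_def]
    rw [Subgroup.upperCentralSeries_one, mem_center_iff]
    intro t
    haveI := hall t
    have hcomm : (x : G ⧸ centralizer ({t} : Set G)) * y = y * x := by
      rcases h t with h1 | h1
      · haveI : Subsingleton (G ⧸ centralizer ({t} : Set G)) := by
          rw [index_eq_one] at h1; rw [h1]; exact QuotientGroup.subsingleton_quotient_top
        exact Subsingleton.elim _ _
      · rw [index_eq_card] at h1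
        haveI := Fact.mk h1
        haveI : IsCyclic (G ⧸ centralizer ({t} : Set G)) := isCyclic_of_prime_card (p := _) rfl
        exact IsCyclic.commGroup.mul_comm _ _
    have hin : x * y * x⁻¹ * y⁻¹ ∈ centralizer ({t} : Set G) := by
      rw [← QuotientGroup.eq_one_iff, QuotientGroup.mk_mul, QuotientGroup.mk_mul,
        QuotientGroup.mk_mul, hcomm, QuotientGroup.mk_inv, QuotientGroup.mk_inv,
        mul_inv_cancel_right, mul_inv_cancel]
    exact ((hmem t _).mp hin).symm
  right
  push Not at hall
  obtain ⟨x, hx⟩ := hall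
  set C := centralizer ({x} : Set G) with hC
  set K := C.normalCore with hK
  have hp : C.index.Prime := by
    rcases h x with h1 | h1
    · exact absurd (show C.Normal by rw [hC, index_eq_one.mp h1]; infer_instance) hx
    · exact h1
  set p := C.index with hpdef
  haveI : Fact p.Prime := ⟨hp⟩
  have hKC : K ≤ C := normalCore_le C
  have hKidx : K.index = p * K.relIndex C := by
    rw [← relIndex_mul_index hKC, mul_comm]
  set n := K.relIndex C with hn
  have hdvd : K.index ∣ p.factorial := by
    rw [hK, normalCore_eq_ker, index_ker]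
    refine (card_subgroup_dvd_card _).trans ?_
    rw [Nat.card_perm]
    exact dvd_rfl
  have hpn : ¬ p ∣ n := by
    intro hd
    have h1 : p * p ∣ p.factorial := (hKidx ▸ mul_dvd_mul_left p hd).trans hdvd
    rw [← Nat.mul_factorial_pred hp.ne_zero] at h1
    have h2 := Nat.dvd_of_mul_dvd_mul_left hp.pos h1
    exact absurd (hp.dvd_factorial.mp h2) (by have := hp.two_le; omega)
  have hn1 : n ≠ 1 := fun h1 => hx (by
    have : K = C := le_antisymm hKC (relIndex_eq_one.mp h1)
    rw [← this]; exact normalCore_normal C)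
  have hw : ∀ w ∈ C, w ∉ K → K ≤ centralizer ({w} : Set G) := by
    intro w hw hwK
    set D := centralizer ({w} : Set G) with hD
    have hq : D.index.Prime := by
      refine (h w).resolve_left fun h1 => hwK fun g => ?_
      have hg : g ∈ D := by rw [hD, index_eq_one.mp h1]; exact Subgroup.mem_top g
      rw [(hmem w g).mp hg, mul_inv_cancel_right]
      exact hw
    have hd : (D ⊔ K).index ∣ D.index := index_dvd_of_le le_sup_left
    rcases (Nat.dvd_prime hq).mp hd with h1 | h1
    · exfalso
      refine hwK fun g => ?_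
      have hg : g ∈ ((D ⊔ K : Subgroup G) : Set G) := (index_eq_one.mp h1) ▸ Subgroup.mem_top g
      rw [mul_normal, Set.mem_mul] at hg
      obtain ⟨c, hc, k, hk, rfl⟩ := hg
      have hmk : k * w * k⁻¹ * w⁻¹ ∈ K := by
        have := mul_mem hk ((inferInstance : K.Normal).conj_mem k⁻¹ (inv_mem hk) w)
        simpa [mul_assoc] using this
      have : c * (k * w * k⁻¹ * w⁻¹) * c⁻¹ * w ∈ C :=
        mul_mem (hKC ((inferInstance : K.Normal).conj_mem _ hmk c)) hw
      convert this using 1
      have hcw : c⁻¹ * w = w * c⁻¹ := (show Commute c w from (hmem w c).mp hc).inv_left.eq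
      rw [mul_assoc _ c⁻¹ w, hcw]
      group
    · have h2 := relIndex_mul_index (le_sup_left : D ≤ D ⊔ K)
      rw [h1] at h2
      have : D ⊔ K ≤ D := relIndex_eq_one.mp
        (Nat.eq_of_mul_eq_mul_right hq.pos (h2.trans (one_mul _).symm))
      exact le_sup_right.trans this
  have hKZ : K = center G := by
    refine le_antisymm ?_ ?_
    · intro k hk
      obtain ⟨w, hwC, hwK⟩ : ∃ w ∈ C, w ∉ K := by
        by_contra h1
        push Not at h1
        exact hn1 (relIndex_eq_one.mpr h1)
      have hCk : C ≤ centralizer ({k} : Set G) := by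
        intro c hc
        rw [hmem]
        have hkw : ∀ v ∈ C, v ∉ K → Commute v k := fun v hv hvK =>
          ((hmem v k).mp (hw v hv hvK hk)).symm
        by_cases hcK : c ∈ K
        · have h1 := hkw (c * w) (mul_mem hc hwC) (fun e => hwK ((mul_mem_cancel_left hcK).mp e))
          have := h1.mul_left (hkw w hwC hwK).inv_left
          rwa [mul_inv_cancel_right] at this
        · exact hkw c hc hcK
      rcases h k with h1 | h1
      · exact mem_center_iff.mpr fun g => (hmem k g).mp ((index_eq_one.mp h1) ▸ Subgroup.mem_top g)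
      exfalso
      have hd := index_dvd_of_le hCk
      have heq : (centralizer ({k} : Set G)).index = p :=
        ((Nat.dvd_prime hp).mp hd).resolve_left h1.ne_one
      have h2 := relIndex_mul_index hCk
      rw [heq] at h2
      have hCeq : centralizer ({k} : Set G) = C := le_antisymm
        (relIndex_eq_one.mp (Nat.eq_of_mul_eq_mul_right hp.pos (h2.trans (one_mul _).symm))) hCk
      refine hx ⟨fun c hc g => ?_⟩
      have hgk : g⁻¹ * k * g ∈ K := by
        simpa using (inferInstance : K.Normal).conj_mem k hk g⁻¹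
      have hc' : c ∈ centralizer ({g⁻¹ * k * g} : Set G) := by
        by_cases hk' : g⁻¹ * k * g = 1
        · rw [hmem, hk']; simp
        · have hkw : ∀ v ∈ C, v ∉ K → Commute v (g⁻¹ * k * g) := fun v hv hvK =>
            ((hmem v _).mp (hw v hv hvK hgk)).symm
          rw [hmem]
          by_cases hcK : c ∈ K
          · have h1 := hkw (c * w) (mul_mem hc hwC) (fun e => hwK ((mul_mem_cancel_left hcK).mp e))
            have := h1.mul_left (hkw w hwC hwK).inv_left
            rwa [mul_inv_cancel_right] at this
          · exact hkw c hc hcK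
      rw [← hCeq, hmem]
      have e := (hmem _ c).mp hc'
      calc g * c * g⁻¹ * k = g * (c * (g⁻¹ * k * g)) * g⁻¹ := by group
        _ = g * ((g⁻¹ * k * g) * c) * g⁻¹ := by rw [e]
        _ = k * (g * c * g⁻¹) := by group
    · intro z hz g
      rw [mem_center_iff.mp hz g, mul_inv_cancel_right, hC, hmem]
      exact (mem_center_iff.mp hz x).symm
  obtain ⟨gq, hgq⟩ := exists_prime_orderOf_dvd_card' (G := G ⧸ K) p
    (show p ∣ Nat.card (G ⧸ K) by rw [← index_eq_card, hKidx]; exact dvd_mul_right p n)
  obtain ⟨g, rfl⟩ := QuotientGroup.mk'_surjective K gq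
  have hgpow : ∀ i : ℕ, g ^ i ∈ C → p ∣ i := by
    intro i hi
    rw [← hgq, orderOf_dvd_iff_pow_eq_one, ← map_pow, QuotientGroup.mk'_apply, QuotientGroup.eq_one_iff]
    by_contra hne
    have h1 : (QuotientGroup.mk' K (g ^ i)) ∈ C.map (QuotientGroup.mk' K) := mem_map_of_mem _ hi
    have h2 : orderOf (QuotientGroup.mk' K (g ^ i)) ∣ n := by
      refine (Subgroup.orderOf_dvd_natCard _ h1).trans ?_
      rw [← relIndex_ker, QuotientGroup.ker_mk']
    have h3 : orderOf (QuotientGroup.mk' K (g ^ i)) = p := by
      refine orderOf_eq_prime ?_ (fun e => hne ((QuotientGroup.eq_one_iff _).mp e))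
      rw [map_pow, ← pow_mul, mul_comm, pow_mul, ← hgq, pow_orderOf_eq_one, one_pow]
    exact hpn (h3 ▸ h2)
  have hcoset : ∀ v : G, ∃ i : ℕ, ∃ c ∈ C, v = g ^ i * c := by
    intro v
    let f : Fin p → G ⧸ C := fun i => ((g ^ (i : ℕ) : G) : G ⧸ C)
    have hinj : Function.Injective f := by
      have key : ∀ i j : Fin p, (i : ℕ) ≤ j → f i = f j → i = j := by
        intro i j hle e
        have e' := QuotientGroup.eq.mp e
        have hs : (g ^ (i : ℕ))⁻¹ * g ^ (j : ℕ) = g ^ ((j : ℕ) - i) := by
          rw [inv_mul_eq_iff_eq_mul, ← pow_add, Nat.add_sub_cancel' hle]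
        rw [hs] at e'
        have h0 := hgpow _ e'
        have := j.isLt
        have : (j : ℕ) - i = 0 := Nat.eq_zero_of_dvd_of_lt h0 (by omega)
        exact Fin.ext (by omega)
      intro i j e
      rcases le_total (i : ℕ) j with hle | hle
      · exact key i j hle e
      · exact (key j i hle e.symm).symm
    have hbij : Function.Bijective f :=
      (Nat.bijective_iff_injective_and_card f).mpr ⟨hinj, by rw [Nat.card_fin, ← index_eq_card]⟩
    obtain ⟨i, hi⟩ := hbij.2 (v : G ⧸ C)
    exact ⟨i, _, QuotientGroup.eq.mp hi, (mul_inv_cancel_left _ _).symm⟩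
  set D := centralizer ({g} : Set G) with hD
  have hgZ : g ∉ center G := fun e => hp.ne_one (by
    rw [← hgq, orderOf_eq_one_iff, QuotientGroup.mk'_apply, QuotientGroup.eq_one_iff, hKZ]
    exact e)
  have hq : D.index.Prime := (h g).resolve_left fun h1 => hgZ <|
    mem_center_iff.mpr fun v => (hmem g v).mp ((index_eq_one.mp h1) ▸ Subgroup.mem_top v)
  have hKD : K ≤ D := fun k hk => (hmem g k).mpr ((mem_center_iff.mp (hKZ ▸ hk) g).symm)
  have hCD : C ⊓ D ≤ K := by
    rintro w ⟨hw1, hw2⟩ v
    obtain ⟨i, c, hc, hv⟩ := hcoset v⁻¹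
    have hcomm : Commute w (g ^ i) := (show Commute w g from (hmem g w).mp hw2).pow_right i
    have hv' : v = c⁻¹ * (g ^ i)⁻¹ := by rw [← inv_inv v, hv, mul_inv_rev]
    have he : v * w * v⁻¹ = c⁻¹ * w * c := by
      rw [hv, hv', mul_assoc (c⁻¹) _ w, ← hcomm.inv_right.eq]; group
    rw [he]
    exact mul_mem (mul_mem (inv_mem hc) hw1) hc
  have hrel : K.relIndex D ≤ p := by
    have h1 : C.relIndex D ≤ p := relIndex_le_of_le_right le_top (by
      rw [relIndex_top_right]; exact hp.ne_zero) |>.trans (relIndex_top_right C).le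
    refine le_trans (le_of_eq ?_) h1
    rw [← inf_relIndex_right C D]
    exact congrArg (fun S => Subgroup.relIndex S D) (le_antisymm (le_inf hKC hKD) hCD)
  have hge : p ∣ K.relIndex D := by
    have h1 : QuotientGroup.mk' K g ∈ D.map (QuotientGroup.mk' K) :=
      mem_map_of_mem _ ((hmem g g).mpr rfl)
    have h2 := Subgroup.orderOf_dvd_natCard _ h1
    rwa [hgq, ← relIndex_ker, QuotientGroup.ker_mk'] at h2
  have hpD : K.relIndex D = p := le_antisymm hrel (Nat.le_of_dvd
    (Nat.pos_of_ne_zero Subgroup.index_ne_zero_of_finite) hge)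
  have hnq : n = D.index := by
    have h1 := relIndex_mul_index hKD
    rw [hpD, hKidx] at h1
    exact (Nat.eq_of_mul_eq_mul_left hp.pos h1).symm
  refine ⟨p, n, hp, hnq ▸ hq, fun e => hpn (e ▸ dvd_rfl), ?_, ?_⟩
  · rw [← index_eq_card, ← hKZ, hKidx]
  · intro hab
    refine hx ⟨fun c hc v => ?_⟩
    have h1 : v * c * v⁻¹ * c⁻¹ ∈ K := by
      rw [hKZ, ← QuotientGroup.eq_one_iff, QuotientGroup.mk_mul, QuotientGroup.mk_mul,
        QuotientGroup.mk_mul, mul_comm' (v : G ⧸ center G) c, QuotientGroup.mk_inv,
        QuotientGroup.mk_inv, mul_inv_cancel_right, mul_inv_cancel]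
    simpa using mul_mem (hKC h1) hc

end Cfsg.Agent.S4314
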