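import Cfsg.Statements.S4321
import Cfsg.Agent.Lib.ClassSizes.PSingular

set_option autoImplicit false
open Cfsg

namespace Cfsg.Agent.S4321

/-- Let `G` be a finite group and `p` a prime not dividing the order of the centre of `G`. Consider the primes dividing the size of some conjugacy class of a `p`-singular element (an element of order divisible by `p`), two of them adjacent when their product divides such a class size. Then any two distinct such primes are joined by a path with at most 3 edges (the graph is connected of diameter at most 3). -/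
theorem result {G : Type*} [Group G] [Finite G] (p : ℕ) [Fact p.Prime]
    (hZ : ¬ p ∣ Nat.card ↥(Subgroup.center G)) (r s : ℕ) (hr : (r.Prime ∧ ∃ x : G, p ∣ orderOf x ∧ r ∣ (Subgroup.centralizer ({x} : Set G)).index)) (hs : (s.Prime ∧ ∃ x : G, p ∣ orderOf x ∧ s ∣ (Subgroup.centralizer ({x} : Set G)).index)) (hrs : r ≠ s) :
    (∃ x : G, p ∣ orderOf x ∧ r * s ∣ (Subgroup.centralizer ({x} : Set G)).index) ∨ (∃ t : ℕ, (t.Prime ∧ ∃ x : G, p ∣ orderOf x ∧ t ∣ (Subgroup.centralizer ({x} : Set G)).index) ∧ t ≠ r ∧ t ≠ s ∧ (∃ x : G, p ∣ orderOf x ∧ r * t ∣ (Subgroup.centralizer ({x} : Set G)).index) ∧ (∃ x : G, p ∣ orderOf x ∧ t * s ∣ (Subgroup.centralizer ({x} : Set G)).index)) ∨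
      (∃ t u : ℕ, (t.Prime ∧ ∃ x : G, p ∣ orderOf x ∧ t ∣ (Subgroup.centralizer ({x} : Set G)).index) ∧ (u.Prime ∧ ∃ x : G, p ∣ orderOf x ∧ u ∣ (Subgroup.centralizer ({x} : Set G)).index) ∧ t ≠ r ∧ u ≠ s ∧ t ≠ u ∧ (∃ x : G, p ∣ orderOf x ∧ r * t ∣ (Subgroup.centralizer ({x} : Set G)).index) ∧ (∃ x : G, p ∣ orderOf x ∧ t * u ∣ (Subgroup.centralizer ({x} : Set G)).index) ∧ (∃ x : G, p ∣ orderOf x ∧ u * s ∣ (Subgroup.centralizer ({x} : Set G)).index)) := by
  obtain ⟨hrp, xr, hr1, hr2⟩ := hr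
  obtain ⟨hsp, xs, hs1, hs2⟩ := hs
  obtain ⟨t, u, ht, hu, ⟨a, ha, har, hat⟩, ⟨b, hb, hbu, hbs⟩, hnear⟩ :=
    Lib.ClassSizes.PSingular.exists_walk hZ (r := r) (s := s) hr1 hr2 hs1 hs2
  have adj : ∀ {i j : ℕ} (x : G), i.Prime → j.Prime → i ≠ j → p ∣ orderOf x →
      i ∣ (Subgroup.centralizer ({x} : Set G)).index →
      j ∣ (Subgroup.centralizer ({x} : Set G)).index →
      ∃ x : G, p ∣ orderOf x ∧ i * j ∣ (Subgroup.centralizer ({x} : Set G)).index :=
    fun x hi hj hne hx h1 h2 =>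
      ⟨x, hx, ((Nat.coprime_primes hi hj).mpr hne).mul_dvd_of_dvd_of_dvd h1 h2⟩
  by_cases htr : t = r
  · subst htr
    rcases hnear with e | ⟨x, hx, hxt, hxu⟩
    · subst e; exact Or.inl (adj b hrp hsp hrs hb hbu hbs)
    · by_cases hus : u = s
      · subst hus; exact Or.inl (adj x hrp hsp hrs hx hxt hxu)
      · by_cases hur : u = t
        · subst hur; exact Or.inl (adj b hrp hsp hrs hb hbu hbs)
        · exact Or.inr (Or.inl ⟨u, ⟨hu, x, hx, hxu⟩, hur, hus,
            adj x hrp hu (Ne.symm hur) hx hxt hxu, adj b hu hsp hus hb hbu hbs⟩)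
  · by_cases htu : t = u
    · subst htu
      by_cases hts : t = s
      · subst hts; exact Or.inl (adj a hrp hsp hrs ha har hat)
      · exact Or.inr (Or.inl ⟨t, ⟨ht, a, ha, hat⟩, htr, hts,
          adj a hrp ht (Ne.symm htr) ha har hat, adj b ht hsp hts hb hbu hbs⟩)
    · obtain ⟨x, hx, hxt, hxu⟩ := hnear.resolve_left htu
      by_cases hus : u = s
      · subst hus
        exact Or.inr (Or.inl ⟨t, ⟨ht, a, ha, hat⟩, htr, htu,
          adj a hrp ht (Ne.symm htr) ha har hat, adj x ht hsp htu hx hxt hxu⟩)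
      · exact Or.inr (Or.inr ⟨t, u, ⟨ht, a, ha, hat⟩, ⟨hu, b, hb, hbu⟩, htr, hus, htu,
          adj a hrp ht (Ne.symm htr) ha har hat, adj x ht hu htu hx hxt hxu,
          adj b hu hsp hus hb hbu hbs⟩)

end Cfsg.Agent.S4321
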