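import Cfsg.Statements.S4323
import Cfsg.Agent.Lib.Coprime.Action
import Cfsg.Agent.Lib.LAEven57.AbelianCent.Reduction

set_option autoImplicit false
set_option linter.style.haveILetI false
open Cfsg

namespace Cfsg.Agent.S4323

open Cfsg.Agent.Lib Cfsg.Agent.Lib.Coprime.Action

/-- Let `q` be a prime and `A` a non-cyclic group of order `q²` acting by automorphisms on a finite group `G` of order prime to `q`, such that the fixed-point subgroup `C_G(a)` is abelian for every non-identity `a ∈ A`. Then `G` is solvable. -/
theorem result {A G : Type*} [Group A] [Finite A]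
    [Group G] [Finite G] [MulDistribMulAction A G] (q : ℕ) (hq : q.Prime) (hA : Nat.card A = q ^ 2) (hnc : ¬ IsCyclic A)
    (hcop : ¬ q ∣ Nat.card G) (h : ∀ a : A, a ≠ 1 → IsMulCommutative ↥(FixedPoints.subgroup (Subgroup.zpowers a) G)) :
    Group.IsSolvable G := by
  haveI := Fact.mk hq
  haveI : IsMulCommutative A := IsPGroup.isMulCommutative_of_card_eq_prime_sq (p := q) hA
  have hexp : ∀ a : A, a ^ q = 1 := by
    intro a
    obtain ⟨i, hi, he⟩ := (Nat.dvd_prime_pow hq).mp (hA ▸ orderOf_dvd_natCard a)
    interval_cases i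
    · rw [pow_zero, orderOf_eq_one_iff] at he
      rw [he, one_pow]
    · rw [pow_one] at he
      rw [← he, pow_orderOf_eq_one]
    · exact absurd (isCyclic_of_orderOf_eq_card a (he.trans hA.symm)) hnc
  haveI := finite_semi (A := A) (G := G)
  have hfix : ∀ (a : A) (g : G), embG A G g ∈ Subgroup.centralizer {(SemidirectProduct.inr a : Semi A G)} →
      g ∈ FixedPoints.subgroup (Subgroup.zpowers a) G := by
    intro a g hg
    have h1 : a • g = g := by
      apply SemidirectProduct.inl_injective (φ := MulDistribMulAction.toMulAut A G)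
      show embG A G (a • g) = embG A G g
      rw [inl_smul, ← Subgroup.mem_centralizer_singleton_iff.mp hg, mul_inv_cancel_right]
    rintro ⟨b, hb⟩
    exact MulAction.mem_stabilizer_iff.mp
      (Subgroup.zpowers_le.mpr (MulAction.mem_stabilizer_iff.mpr h1) hb : b ∈ MulAction.stabilizer A g)
  have hs : LAEven57.AbelianCent.Setup q (grpG A G) (actA A G) :=
    { hq := hq
      hA := card_actA.trans hA
      hAc := by
        rintro _ ⟨a, rfl⟩ _ ⟨b, rfl⟩
        rw [← map_mul, ← map_mul, mul_comm' a b]
      hAq := by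
        rintro _ ⟨a, rfl⟩
        rw [← map_pow, hexp, map_one]
      hAG := actA_le_normalizer_grpG
      hqG := by rw [card_grpG]; exact hq.coprime_iff_not_dvd.mpr hcop
      top := by
        rw [eq_top_iff]
        intro x _
        rw [← SemidirectProduct.inl_left_mul_inr_right x]
        exact mul_mem (Subgroup.mem_sup_left ⟨_, rfl⟩) (Subgroup.mem_sup_right ⟨_, rfl⟩)
      comm := by
        rintro _ ⟨a, rfl⟩ ha _ ⟨⟨g, rfl⟩, hg⟩ _ ⟨⟨k, rfl⟩, hk⟩
        haveI := h a fun e => ha (by rw [e, map_one])
        rw [← map_mul, ← map_mul]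
        exact congrArg _ (congrArg Subtype.val
          (mul_comm' (⟨g, hfix a g hg⟩ : FixedPoints.subgroup (Subgroup.zpowers a) G) ⟨k, hfix a k hk⟩)) }
  haveI := hs.solvable
  exact Group.isSolvable_of_isSolvable_injective
    (f := (SemidirectProduct.inl : G →* Semi A G).rangeRestrict)
    (MonoidHom.rangeRestrict_injective_iff.mpr SemidirectProduct.inl_injective)

end Cfsg.Agent.S4323
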