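import Cfsg.Statements.S4325
import Cfsg.Agent.Lib.SylowNumbers.SimpleAux
import Cfsg.Agent.Lib.SylowNumbers.SwapPartition
import Cfsg.Agent.Lib.Cores.Pi
import Mathlib.GroupTheory.GroupAction.Blocks

set_option autoImplicit false
set_option linter.style.haveILetI false
open Cfsg

namespace Cfsg.Agent.S4325

open Subgroup MulAction
open scoped Pointwise


/-- Let r be a prime and m a natural number with m + 1 < r, and let π be a set of primes containing every prime below r but not r itself. Then in the symmetric group of degree r any m transpositions generate a π-subgroup, while O_π of the symmetric group is trivial. (So no bound on the number of conjugates that works for all π exists in the π-radical analogue of the Baer–Suzuki Theorem.) -/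
theorem result (r m : ℕ) (hr : r.Prime)
    (hm : m + 1 < r) (π : Set ℕ) (hπ : ∀ q : ℕ, q.Prime → q < r → q ∈ π) (hrπ : r ∉ π)
    (t : Fin m → Equiv.Perm (Fin r)) (ht : ∀ i, (t i).IsSwap) :
    Cfsg.IsPiSubgroup π (Subgroup.closure (Set.range t)) ∧ Cfsg.piCore π (Equiv.Perm (Fin r)) = ⊥ := by
  haveI : Fact r.Prime := ⟨hr⟩
  have hmem : ∀ q : ℕ, q.Prime → q ∣ r.factorial → q ≠ r → q ∈ π := by
    intro q hq hd hne
    exact hπ q hq (lt_of_le_of_ne ((Nat.Prime.dvd_factorial hq).mp hd) hne)
  have hcardP : Nat.card (Equiv.Perm (Fin r)) = r.factorial := by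
    rw [Nat.card_perm, Nat.card_fin]
  constructor
  · intro q hq hd
    refine hmem q hq (hcardP ▸ hd.trans (card_subgroup_dvd_card _)) ?_
    rintro rfl
    obtain ⟨f, hf, hcard⟩ := Cfsg.Agent.Lib.SylowNumbers.SwapPartition.exists_partition (List.ofFn t)
      (fun s hs => by obtain ⟨i, rfl⟩ := List.mem_ofFn.mp hs; exact ht i)
    have hinv := Cfsg.Agent.Lib.SylowNumbers.SwapPartition.invariant_closure (Set.range t) f
      (fun s hs => hf s (List.mem_ofFn.mpr hs))
    obtain ⟨⟨y, hyG⟩, hy⟩ := exists_prime_orderOf_dvd_card' q hd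
    rw [Subgroup.orderOf_mk] at hy
    obtain ⟨a, ha⟩ : ∃ a, y a ≠ a := by
      by_contra h
      push Not at h
      have : y = 1 := Equiv.ext h
      rw [this, orderOf_one] at hy
      exact hr.ne_one hy.symm
    have horb := Cfsg.Agent.Lib.SylowNumbers.SimpleAux.orbit_eq_univ_of_card (α := Fin q) hy
      (Nat.card_fin q) ha
    have himg : Finset.univ.image f ⊆ {f a} := by
      intro b hb
      obtain ⟨c, -, rfl⟩ := Finset.mem_image.mp hb
      obtain ⟨⟨w, hw⟩, hwc⟩ : c ∈ orbit (zpowers y) a := horb ▸ Set.mem_univ c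
      rw [Finset.mem_singleton, ← hwc]
      exact hinv w (zpowers_le.mpr hyG hw) a
    have := Finset.card_le_card himg
    rw [Finset.card_singleton, List.length_ofFn, Fintype.card_fin] at *
    omega
  · set N := Cfsg.piCore π (Equiv.Perm (Fin r)) with hN
    have hdvd : ∀ a : Fin r, (orbit N a).ncard ∣ r := by
      intro a
      have := (IsBlock.orbit_of_normal (G := Equiv.Perm (Fin r)) (N := N) a).ncard_dvd_card
        (nonempty_orbit a)
      rwa [Nat.card_fin] at this
    refine (Subgroup.eq_bot_iff_forall _).mpr fun u hu => Equiv.ext fun a => ?_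
    rcases (Nat.dvd_prime hr).mp (hdvd a) with h | h
    · obtain ⟨b, hb⟩ := Set.ncard_eq_one.mp h
      have h1 : a ∈ orbit N a := mem_orbit_self a
      have h2 : u a ∈ orbit N a := ⟨⟨u, hu⟩, rfl⟩
      rw [hb, Set.mem_singleton_iff] at h1 h2
      exact h2.trans h1.symm
    · exfalso
      refine hrπ (Cfsg.Agent.Lib.Cores.piCore_isPiGroup (G := Equiv.Perm (Fin r)) π r hr ?_)
      have h1 := (MulAction.index_stabilizer N a).trans h
      have h2 := index_dvd_card (stabilizer N a)
      rw [h1] at h2
      exact h2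

end Cfsg.Agent.S4325
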