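import Cfsg.Statements.S4326
import Cfsg.Agent.Lib.SylowNumbers.Actions

set_option autoImplicit false
set_option linter.style.haveILetI false
open Pointwise
open Cfsg

namespace Cfsg.Agent.S4326

open Subgroup MulAction
open scoped Pointwise


/-- Let G be a finite group, p a prime, x an automorphism of G of p-power order and M the subgroup of fixed points of x. Suppose that p divides the index of M and that either M is self-normalizing or M has trivial center. Then some conjugate of M is mapped onto itself by x but is not fixed elementwise by x. -/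
theorem result {G : Type*} [Group G] [Finite G]
    (p : ℕ) [Fact p.Prime] (x : MulAut G) (hx : ∃ k : ℕ, orderOf x = p ^ k) (M : Subgroup G)
    (hM : ∀ g : G, g ∈ M ↔ x g = g) (hp : p ∣ M.index)
    (hself : Subgroup.normalizer (M : Set G) = M ∨ Subgroup.center M = ⊥) :
    ∃ g : G, (∀ y ∈ MulAut.conj g • M, x y ∈ MulAut.conj g • M) ∧ ∃ y ∈ MulAut.conj g • M, x y ≠ y := by
  classical
  have hfix : ∀ (u : zpowers x) (m : G), m ∈ M → (u : MulAut G) m = m := by
    rintro ⟨u, hu⟩ m hm
    have : zpowers x ≤ stabilizer (MulAut G) m := zpowers_le.mpr ((hM m).mp hm)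
    exact this hu
  letI act : MulAction (zpowers x) (G ⧸ M) :=
    { smul := fun u => Quotient.map' (fun g => (u : MulAut G) g) (fun a b h => by
        rw [QuotientGroup.leftRel_apply] at h ⊢
        rw [← map_inv, ← map_mul, hfix u _ h]
        exact h)
      one_smul := fun q => Quotient.inductionOn' q fun g => rfl
      mul_smul := fun u v q => Quotient.inductionOn' q fun g => rfl }
  have hpg : IsPGroup p (zpowers x) := by
    obtain ⟨k, hk⟩ := hx
    exact Cfsg.Agent.Lib.SylowNumbers.Basic.isPGroup_zpowers hk
  have h1 : (QuotientGroup.mk (1 : G) : G ⧸ M) ∈ fixedPoints (zpowers x) (G ⧸ M) := by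
    intro u
    change (QuotientGroup.mk ((u : MulAut G) 1) : G ⧸ M) = _
    rw [map_one]
  obtain ⟨q, hq, hne⟩ := hpg.exists_fixed_point_of_prime_dvd_card_of_fixed_point (G ⧸ M) hp h1
  obtain ⟨g, rfl⟩ := QuotientGroup.mk_surjective q
  have hm : g⁻¹ * x g ∈ M := by
    have h2 : (QuotientGroup.mk (x g) : G ⧸ M) = QuotientGroup.mk g := hq ⟨x, mem_zpowers x⟩
    exact (QuotientGroup.eq).mp h2.symm
  have hmem : ∀ y, y ∈ MulAut.conj g • M ↔ g⁻¹ * y * g ∈ M := by
    intro y
    rw [Subgroup.mem_pointwise_smul_iff_inv_smul_mem, ← map_inv, MulAut.smul_def, MulAut.conj_apply,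
      inv_inv]
  have hxg : ∀ y ∈ MulAut.conj g • M,
      g⁻¹ * x y * g = (g⁻¹ * x g) * (g⁻¹ * y * g) * (g⁻¹ * x g)⁻¹ := by
    intro y hy
    have : g⁻¹ * x y * g = g⁻¹ * x (g * (g⁻¹ * y * g) * g⁻¹) * g := by
      rw [show g * (g⁻¹ * y * g) * g⁻¹ = y by group]
    rw [this, map_mul, map_mul, map_inv, (hM _).mp ((hmem y).mp hy)]
    group
  refine ⟨g, fun y hy => (hmem _).mpr ?_, ?_⟩
  · rw [hxg y hy]
    exact mul_mem (mul_mem hm ((hmem y).mp hy)) (inv_mem hm)
  · by_contra hall
    push Not at hall
    have hle : MulAut.conj g • M ≤ M := fun y hy => (hM y).mpr (hall y hy)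
    have heq : MulAut.conj g • M = M := Subgroup.eq_of_le_of_card_ge hle
      (le_of_eq (Nat.card_congr (Subgroup.equivSMul (MulAut.conj g) M).toEquiv))
    have hgM : g ∈ M := by
      rcases hself with h | h
      · rw [← h, mem_normalizer_iff'']
        intro y
        conv_lhs => rw [← heq]
        exact hmem y
      · have hc : g⁻¹ * x g = 1 := by
          have hz : (⟨g⁻¹ * x g, hm⟩ : M) ∈ Subgroup.center M := by
            rw [Subgroup.mem_center_iff]
            rintro ⟨y, hy⟩
            have h3 : g * y * g⁻¹ ∈ MulAut.conj g • M := (hmem _).mpr (by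
              rwa [show g⁻¹ * (g * y * g⁻¹) * g = y by group])
            have h4 := hxg _ h3
            rw [hall _ h3, show g⁻¹ * (g * y * g⁻¹) * g = y by group] at h4
            refine Subtype.ext ?_
            change y * (g⁻¹ * x g) = (g⁻¹ * x g) * y
            conv_lhs => rw [h4]
            group
          rw [h, Subgroup.mem_bot] at hz
          exact congrArg Subtype.val hz
        exact (hM g).mpr (inv_mul_eq_one.mp hc).symm
    exact hne (QuotientGroup.eq.mpr (by simpa using hgM))

end Cfsg.Agent.S4326
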