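import Cfsg.Statements.S4331
import Cfsg.Agent.Lib.SylowNumbers.AGammaL9
import Cfsg.Agent.Lib.SubnormSet.Basic
import Cfsg.Agent.Lib.Cores.Basic
import Cfsg.Agent.Lib.Induced.Burnside

set_option autoImplicit false
open Cfsg

namespace Cfsg.Agent.S4331

open Cfsg.Agent.Lib.SylowNumbers.AGammaL9

/-- There is a finite solvable group G with a subgroup A of order 2 such that every conjugacy class of G contains an element g for which A is subnormal in the subgroup generated by A and g, and yet A is not contained in O_2(G). (So the corresponding criteria for odd primes fail at the prime 2, even for solvable groups.) -/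
theorem result :
    ∃ (G : Type) (_ : Group G) (_ : Finite G) (A : Subgroup G), Group.IsSolvable G ∧ Nat.card A = 2 ∧
      (∀ c : G, ∃ g : G, IsConj c g ∧ (A.subgroupOf (A ⊔ Subgroup.zpowers g)).IsSubnormal) ∧
      ¬ A ≤ Cfsg.pCore 2 G := by
  refine ⟨El, inferInstance, inferInstance, Subgroup.zpowers phi, ?_, ?_, ?_, ?_⟩
  · exact Lib.Induced.Burnside.isSolvable_of_card_eq 2 3 4 2 Nat.prime_two Nat.prime_three card_el
  · have hphi : orderOf phi = 2 := orderOf_eq_prime (by decide) (by decide)
    rw [Nat.card_zpowers, hphi]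
  · intro c
    rcases exists_witness c.k c.s c.v with ⟨w, hw⟩ | ⟨w, j, hv, hk⟩
    · -- `c` fixes a point, so it is conjugate into the stabilizer of zero, a 2-group
      let t : El := ⟨w, 0, false⟩
      refine ⟨t⁻¹ * c * t, isConj_iff.mpr ⟨t⁻¹, by group⟩, ?_⟩
      set L := Subgroup.zpowers phi ⊔ Subgroup.zpowers (t⁻¹ * c * t)
      have hmem : t⁻¹ * c * t ∈ stab := by
        show (t⁻¹ * c * t).v = 0
        rw [mul_assoc, mul_def, inv_def, mul_def]
        simp [t, tw, act_one, hw]
      have hL : L ≤ stab := sup_le (Subgroup.zpowers_le.mpr rfl) (Subgroup.zpowers_le.mpr hmem)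
      haveI : Group.IsNilpotent L := (isPGroup_stab.to_le hL).isNilpotent
      exact Lib.SubnormSet.isSubnormal_of_isNilpotent _
    · -- `c` is conjugate to an element commuting with `phi`
      let t : El := ⟨0, j, false⟩ * ⟨w, 0, false⟩
      let d : El := ⟨act j false (w + c.v - act c.k c.s w), j + c.k - tw c.s j, c.s⟩
      refine ⟨d, isConj_iff.mpr ⟨t, ?_⟩, ?_⟩
      · rw [mul_inv_eq_iff_eq_mul]
        exact conj_eq c w j
      have hd : Commute phi d := by
        show phi * d = d * phi
        rw [mul_def, mul_def]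
        ext1
        · show 0 + act 0 true d.v = d.v + act d.k d.s 0
          rw [act_zero, add_zero, zero_add]
          conv_rhs => rw [show d.v = frob true d.v from hv]
          exact (act_one _)
        · show 0 + tw true d.k = d.k + tw d.s 0
          rw [zero_add, ← show d.k = tw true d.k from hk]
          cases d.s <;> simp [tw]
        · exact Bool.xor_comm _ _
      refine (Subgroup.Normal.isSubnormal ?_)
      rw [Subgroup.normal_subgroupOf_iff_le_normalizer le_sup_left]
      refine sup_le Subgroup.le_normalizer (Subgroup.zpowers_le.mpr ?_)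
      refine Subgroup.centralizer_le_normalizer _ ?_
      rw [Subgroup.mem_centralizer_iff]
      intro a ha
      obtain ⟨i, rfl⟩ := Subgroup.mem_zpowers_iff.mp ha
      exact (hd.zpow_left i).eq
  · intro hle
    set O := Cfsg.pCore 2 El
    have hphi : phi ∈ O := hle (Subgroup.mem_zpowers phi)
    let b : El := ⟨((0, 1) : V), 0, false⟩
    have hb : b * phi * b⁻¹ * phi⁻¹ ∈ O :=
      mul_mem ((inferInstance : O.Normal).conj_mem phi hphi b) (inv_mem hphi)
    obtain ⟨k, hk⟩ := IsPGroup.iff_orderOf.mp (Lib.Cores.pCore_isPGroup 2) ⟨_, hb⟩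
    rw [Subgroup.orderOf_mk] at hk
    haveI : Fact (Nat.Prime 3) := ⟨Nat.prime_three⟩
    have h3 : orderOf (b * phi * b⁻¹ * phi⁻¹) = 3 := orderOf_eq_prime (by decide) (by decide)
    rw [h3] at hk
    rcases k with _ | k
    · simp at hk
    · exact absurd (hk ▸ dvd_pow_self 2 (Nat.succ_ne_zero k)) (by decide)

end Cfsg.Agent.S4331
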