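import Cfsg.Statements.S4332
import Cfsg.Agent.Lib.SylowNumbers.Actions
import Cfsg.Agent.Lib.Cores.Basic
import Mathlib.GroupTheory.Perm.Finite
import Mathlib.GroupTheory.Perm.Cycle.Type

set_option autoImplicit false
set_option linter.style.haveILetI false
open Pointwise
open Cfsg

namespace Cfsg.Agent.S4332

open Subgroup MulAction
open scoped Pointwise

/-- Every permutation of eight points maps some triple onto itself or off itself. -/
theorem exists_triple (c : Equiv.Perm (Fin 8)) :
    ∃ T : Finset (Fin 8), T.card = 3 ∧ ((∀ x ∈ T, c x ∈ T) ∨ ∀ x ∈ T, c x ∉ T) := by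
  classical
  by_cases hcyc : ∃ x, c x ≠ x ∧ c (c (c x)) = x
  · obtain ⟨x, h1, h3⟩ := hcyc
    have h2 : c (c x) ≠ x := fun h => h1 (by rw [h] at h3; exact h3)
    have h12 : c (c x) ≠ c x := fun h => h1 (c.injective h)
    refine ⟨{x, c x, c (c x)}, Finset.card_eq_three.mpr ⟨x, c x, c (c x), h1.symm, h2.symm, h12.symm, rfl⟩,
      Or.inl fun y hy => ?_⟩
    simp only [Finset.mem_insert, Finset.mem_singleton] at hy ⊢
    rcases hy with rfl | rfl | rfl
    · exact Or.inr (Or.inl rfl)
    · exact Or.inr (Or.inr rfl)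
    · exact Or.inl h3
  push Not at hcyc
  by_cases hfix : 3 ≤ (Finset.univ.filter fun x => c x = x).card
  · obtain ⟨T, hT, hTc⟩ := Finset.exists_subset_card_eq hfix
    refine ⟨T, hTc, Or.inl fun x hx => ?_⟩
    rw [(Finset.mem_filter.mp (hT hx)).2]
    exact hx
  set Mv := Finset.univ.filter fun x => ¬ c x = x with hMv
  have hMvc : 6 ≤ Mv.card := by
    have := Finset.card_filter_add_card_filter_not (s := (Finset.univ : Finset (Fin 8))) (fun x => c x = x)
    rw [Finset.card_univ, Fintype.card_fin] at this
    rw [hMv]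
    omega
  obtain ⟨x, hx⟩ : Mv.Nonempty := Finset.card_pos.mp (by omega)
  let N : Fin 8 → Finset (Fin 8) := fun y => {y, c y, c.symm y}
  have hN : ∀ y, (N y).card ≤ 3 := fun y => Finset.card_le_three
  have hxne : c x ≠ x := (Finset.mem_filter.mp hx).2
  set R := Mv \ N x with hR
  have hRc : 3 ≤ R.card := by
    have := Finset.le_card_sdiff (N x) Mv
    have := hN x
    rw [hR]
    omega
  by_cases hz : ∃ y ∈ R, ∃ z ∈ R, z ∉ N y
  · obtain ⟨y, hy, z, hz, hzy⟩ := hz
    obtain ⟨hyM, hyN⟩ := Finset.mem_sdiff.mp hy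
    obtain ⟨hzM, hzN⟩ := Finset.mem_sdiff.mp hz
    simp only [N, Finset.mem_insert, Finset.mem_singleton, not_or, Equiv.eq_symm_apply] at hyN hzN hzy
    have hy2 := (Finset.mem_filter.mp hyM).2
    have hz2 := (Finset.mem_filter.mp hzM).2
    refine ⟨{x, y, z}, Finset.card_eq_three.mpr ⟨x, y, z, Ne.symm hyN.1, Ne.symm hzN.1, Ne.symm hzy.1, rfl⟩,
      Or.inr fun w hw => ?_⟩
    simp only [Finset.mem_insert, Finset.mem_singleton, not_or] at hw ⊢
    rcases hw with rfl | rfl | rfl
    · exact ⟨hxne, Ne.symm hyN.2.1, Ne.symm hzN.2.1⟩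
    · exact ⟨hyN.2.2, hy2, Ne.symm hzy.2.1⟩
    · exact ⟨hzN.2.2, hzy.2.2, hz2⟩
  · push Not at hz
    -- every point of `R` sees all of `R`
    obtain ⟨y, hy⟩ : R.Nonempty := Finset.card_pos.mp (by omega)
    have hsub : R ⊆ N y := fun z hz' => hz y hy z hz'
    have heq : R = N y := Finset.eq_of_subset_of_card_le hsub ((hN y).trans hRc)
    refine ⟨R, le_antisymm (heq ▸ hN y) hRc, Or.inl fun w hw => ?_⟩
    have hsubw : R ⊆ N w := fun z hz' => hz w hw z hz'
    rw [Finset.eq_of_subset_of_card_le hsubw ((hN w).trans hRc)]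
    simp [N]

/-- A 3-cycle-like element moving only points of the support of a 3-cycle is a power of it. -/
theorem mem_zpowers_of_support (σ τ : Equiv.Perm (Fin 8)) (hσ : σ.IsThreeCycle)
    (hτ : τ ^ 3 = 1) (hs : ∀ x, σ x = x → τ x = x) (hm : ∀ x, σ x ≠ x → τ x ≠ x) :
    τ ∈ zpowers σ := by
  have hσ3 : σ ^ 3 = 1 := by rw [← hσ.orderOf]; exact pow_orderOf_eq_one σ
  obtain ⟨a, b, ha, hb⟩ : ∃ a b, σ a ≠ a ∧ σ a = b := by
    obtain ⟨a, ha⟩ := hσ.isCycle.nonempty_support
    exact ⟨a, σ a, Equiv.Perm.mem_support.mp ha, rfl⟩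
  set c := σ b with hc
  have hca : σ c = a := by
    have := Equiv.congr_fun hσ3 a
    rw [pow_succ, pow_two] at this
    simpa [Equiv.Perm.mul_apply, hb, ← hc] using this
  have hab : a ≠ b := fun h => ha (hb.trans h.symm)
  have hbc : b ≠ c := fun h => hab (σ.injective (by rw [hb, ← hc]; exact h))
  have hac : a ≠ c := fun h => hab (by rw [← h, hb] at hca; exact hca.symm)
  have hall : ∀ x, σ x ≠ x → x = a ∨ x = b ∨ x = c := by
    intro x hx
    obtain ⟨i, hi⟩ := hσ.isCycle.sameCycle ha hx
    have h3 : (3 : ℤ) = orderOf σ := by rw [hσ.orderOf]; rfl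
    rw [← zpow_mod_orderOf, ← h3] at hi
    have h1 : i % 3 = 0 ∨ i % 3 = 1 ∨ i % 3 = 2 := by omega
    rcases h1 with h | h | h <;> rw [h] at hi
    · left; simpa using hi.symm
    · right; left; rw [zpow_one, hb] at hi; exact hi.symm
    · right; right
      rw [show (2 : ℤ) = ((2 : ℕ) : ℤ) from rfl, zpow_natCast, pow_two, Equiv.Perm.mul_apply, hb, ← hc] at hi
      exact hi.symm
  have hτmem : ∀ x, σ x ≠ x → σ (τ x) ≠ τ x := fun x hx h => hm x hx (τ.injective (hs _ h))
  have hbm : σ b ≠ b := fun h => hbc h.symm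
  have hcm : σ c ≠ c := by rw [hca]; exact hac
  have hta : τ a = b ∨ τ a = c := (hall _ (hτmem a ha)).resolve_left (hm a ha)
  have ht3 : τ (τ (τ a)) = a := by
    have := Equiv.congr_fun hτ a
    rw [pow_succ, pow_two] at this
    simpa [Equiv.Perm.mul_apply] using this
  rcases hta with h1 | h1
  · have h2 : τ b = c := by
      rcases hall _ (hτmem b hbm) with h | h | h
      · rw [h1, h, h1] at ht3; exact absurd ht3.symm hab
      · exact absurd h (hm b hbm)
      · exact h
    have h3 : τ c = a := by rw [h1, h2] at ht3; exact ht3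
    have : τ = σ := Equiv.ext fun x => by
      by_cases hx : σ x = x
      · rw [hx, hs x hx]
      · rcases hall x hx with rfl | rfl | rfl
        · rw [h1, hb]
        · rw [h2, hc]
        · rw [h3, hca]
    rw [this]; exact mem_zpowers σ
  · have h2 : τ c = b := by
      rcases hall _ (hτmem c hcm) with h | h | h
      · rw [h1, h, h1] at ht3; exact absurd ht3.symm hac
      · exact h
      · exact absurd h (hm c hcm)
    have h3 : τ b = a := by rw [h1, h2] at ht3; exact ht3
    have : τ = σ⁻¹ := by
      refine Equiv.ext fun x => ?_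
      rw [Equiv.Perm.eq_inv_iff_eq]
      by_cases hx : σ x = x
      · rw [hs x hx, hx]
      · rcases hall x hx with rfl | rfl | rfl
        · rw [h1, hca]
        · rw [h3, hb]
        · rw [h2, hc]
    rw [this]; exact inv_mem (mem_zpowers σ)


/-- In the symmetric group of degree 8, let A be the subgroup generated by a 3-cycle. Then every conjugacy class contains an element g for which A is subnormal in the subgroup generated by A and its conjugate by g, although O_3 of the symmetric group of degree 8 is trivial. -/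
theorem result
    (σ : Equiv.Perm (Fin 8)) (hσ : σ.IsThreeCycle) :
    (∀ c : Equiv.Perm (Fin 8), ∃ g : Equiv.Perm (Fin 8), IsConj c g ∧
      ((Subgroup.zpowers σ).subgroupOf (Subgroup.zpowers σ ⊔ MulAut.conj g • Subgroup.zpowers σ)).IsSubnormal) ∧
    Cfsg.pCore 3 (Equiv.Perm (Fin 8)) = ⊥ := by
  classical
  haveI : Fact (Nat.Prime 3) := ⟨Nat.prime_three⟩
  refine ⟨fun c => ?_, ?_⟩
  · obtain ⟨T, hT, hTc⟩ := exists_triple c
    have hs3 : σ.support.card = 3 := hσ.card_support
    have hcard : Fintype.card {x // x ∈ T} = Fintype.card {x // x ∈ σ.support} := by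
      rw [Fintype.card_coe, Fintype.card_coe, hT, hs3]
    let e := Fintype.equivOfCardEq hcard
    set h := e.extendSubtype with hh
    have hmem : ∀ x, h x ∈ σ.support ↔ x ∈ T := by
      intro x
      by_cases hx : x ∈ T
      · exact iff_of_true (e.extendSubtype_mem x hx) hx
      · exact iff_of_false (e.extendSubtype_not_mem x hx) hx
    have hmem' : ∀ y, y ∈ σ.support ↔ h.symm y ∈ T := by
      intro y; rw [← hmem, Equiv.apply_symm_apply]
    set g := h * c * h⁻¹ with hg
    refine ⟨g, isConj_iff.mpr ⟨h, rfl⟩, ?_⟩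
    set τ := MulAut.conj g σ with hτ
    have hzc : MulAut.conj g • zpowers σ = zpowers τ := MonoidHom.map_zpowers _ σ
    rw [hzc]
    rcases hTc with hinv | hdis
    · have hgs : ∀ x, g x ∈ σ.support → x ∈ σ.support := by
        have h1 : ∀ x ∈ σ.support, g x ∈ σ.support := by
          intro x hx
          change h (c (h.symm x)) ∈ σ.support
          rw [hmem]; exact hinv _ ((hmem' x).mp hx)
        have himg : σ.support.image g = σ.support :=
          Finset.eq_of_subset_of_card_le (fun y hy => by
              obtain ⟨x, hx, rfl⟩ := Finset.mem_image.mp hy; exact h1 x hx)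
            (by rw [Finset.card_image_of_injective _ g.injective])
        intro x hx
        rw [← himg] at hx
        obtain ⟨y, hy, hxy⟩ := Finset.mem_image.mp hx
        exact g.injective hxy ▸ hy
      have hgs' : ∀ x, σ x ≠ x → σ (g x) ≠ g x := by
        intro x hx
        rw [← Equiv.Perm.mem_support] at hx ⊢
        change h (c (h.symm x)) ∈ σ.support
        rw [hmem]; exact hinv _ ((hmem' x).mp hx)
      have hτeq : ∀ x, τ x = g (σ (g.symm x)) := fun x => rfl
      have hle : zpowers τ ≤ zpowers σ := by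
        rw [zpowers_le]
        refine mem_zpowers_of_support σ τ hσ ?_ ?_ ?_
        · rw [hτ, ← map_pow, ← hσ.orderOf, pow_orderOf_eq_one, map_one]
        · intro x hx
          have h1 : σ (g.symm x) = g.symm x := by
            by_contra h1
            have := hgs' _ h1
            rw [Equiv.apply_symm_apply] at this
            exact this hx
          rw [hτeq, h1, Equiv.apply_symm_apply]
        · intro x hx h1
          rw [hτeq] at h1
          have h2 : g.symm x ∈ σ.support := hgs _ (by rw [Equiv.apply_symm_apply]; exact Equiv.Perm.mem_support.mpr hx)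
          refine Equiv.Perm.mem_support.mp h2 (g.injective ?_)
          rw [h1, Equiv.apply_symm_apply]
      have e1 : (zpowers σ).subgroupOf (zpowers σ ⊔ zpowers τ) = ⊤ := by
        rw [subgroupOf_eq_top]; exact sup_le le_rfl hle
      rw [e1]
      exact Subgroup.IsSubnormal.top
    · have hcomm : Commute σ τ := by
        refine Equiv.Perm.Disjoint.commute fun x => ?_
        by_contra hx
        rw [not_or] at hx
        obtain ⟨h1, h2⟩ := hx
        have h3 : g.symm x ∈ σ.support := by
          rw [Equiv.Perm.mem_support]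
          intro h3
          exact h2 (by change g (σ (g.symm x)) = x; rw [h3, Equiv.apply_symm_apply])
        refine hdis _ ((hmem' _).mp h3) ?_
        have e : h (c (h.symm (g.symm x))) = g (g.symm x) := rfl
        rw [Equiv.apply_symm_apply] at e
        rw [← hmem, e]
        exact Equiv.Perm.mem_support.mpr h1
      refine Subgroup.Normal.isSubnormal ?_
      rw [normal_subgroupOf_iff_le_normalizer le_sup_left]
      refine sup_le le_normalizer (le_trans ?_ (centralizer_le_normalizer _))
      rw [zpowers_le, mem_centralizer_iff]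
      intro a ha
      obtain ⟨i, rfl⟩ := mem_zpowers_iff.mp ha
      exact (hcomm.zpow_left i).eq
  · have hp := Cfsg.Agent.Lib.Cores.pCore_isPGroup (G := Equiv.Perm (Fin 8)) 3
    obtain ⟨a, ha⟩ := hp.nonempty_fixed_point_of_prime_not_dvd_card (Fin 8) (by rw [Nat.card_fin]; norm_num)
    refine (Subgroup.eq_bot_iff_forall _).mpr fun u hu => Equiv.ext fun b => ?_
    set w : Equiv.Perm (Fin 8) := Equiv.swap a b with hw
    have hn : (Cfsg.pCore 3 (Equiv.Perm (Fin 8))).Normal :=
      Subgroup.sSup_normal _ (fun _ h => h.1)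
    have h1 := ha ⟨_, hn.conj_mem u hu w⟩
    change w (u (w⁻¹ a)) = a at h1
    rw [hw, Equiv.swap_inv, Equiv.swap_apply_left] at h1
    change u b = b
    refine (Equiv.swap a b).injective ?_
    rw [h1, Equiv.swap_apply_right]

end Cfsg.Agent.S4332
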