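import Cfsg.Statements.S4333
import Cfsg.Agent.Lib.Cores.Subnormal

set_option autoImplicit false
open Pointwise
open Cfsg

namespace Cfsg.Agent.S4333

open Cfsg.Agent.Lib.Cores.Subnormal
open scoped Pointwise

universe u

theorem aux (n : ℕ) : ∀ (G : Type u) [Group G] [Finite G] (A : Subgroup G), Nat.card G = n →
    (∀ a ∈ A, ∀ g : G, (A.subgroupOf (A ⊔ MulAut.conj (g⁻¹ * a * g) • A)).IsSubnormal) →
    A.IsSubnormal := by
  induction n using Nat.strong_induction_on with
  | _ n ih =>
  intro G _ _ A hn h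
  by_contra hnot
  have hprop : ∀ H : Subgroup G, H ≠ ⊤ → A ≤ H → (A.subgroupOf H).IsSubnormal := by
    intro H hH hle
    refine ih _ (hn ▸ card_lt_of_ne_top hH) H (A.subgroupOf H) rfl fun a ha g => ?_
    set T : Subgroup H := A.subgroupOf H ⊔ MulAut.conj (g⁻¹ * a * g) • A.subgroupOf H with hT
    have hmap : ∀ x ∈ T, (x : G) ∈ A ⊔ MulAut.conj ((g : G)⁻¹ * a * g) • A := by
      intro x hx
      have h1 : T ≤ (A ⊔ MulAut.conj ((g : G)⁻¹ * a * g) • A).subgroupOf H := by
        refine sup_le (fun y hy => Subgroup.mem_sup_left hy) fun y hy => Subgroup.mem_sup_right ?_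
        obtain ⟨z, hz, rfl⟩ := hy
        exact Subgroup.smul_mem_pointwise_smul (z : G) _ _ hz
      exact h1 hx
    let φ : T →* (A ⊔ MulAut.conj ((g : G)⁻¹ * a * g) • A : Subgroup G) :=
      (H.subtype.comp T.subtype).codRestrict _ fun x => hmap x x.2
    exact (h a ha g).comap φ
  obtain ⟨M, hM, hAM, huniq⟩ := zipper hprop hnot
  have hmax : ∀ a ∈ A, ∀ g : G, g⁻¹ * a * g ∈ Subgroup.normalizer (M : Set G) := by
    intro a ha g
    set x := g⁻¹ * a * g with hx
    have h1 : MulAut.conj x • A ≤ M := by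
      by_cases ht : A ⊔ MulAut.conj x • A = ⊤
      · exact absurd (Subgroup.IsSubnormal.trans le_sup_left (h a ha g) (ht ▸ Subgroup.IsSubnormal.top)) hnot
      · obtain ⟨K, hK, hle⟩ := (eq_top_or_exists_le_coatom _).resolve_left ht
        rw [← huniq K hK (le_sup_left.trans hle)]
        exact le_sup_right.trans hle
    have h2 : A ≤ (MulAut.conj x)⁻¹ • M := Subgroup.pointwise_smul_subset_iff.mp h1
    rw [← inv_mem_iff, Subgroup.mem_normalizer_iff_map_conj_eq]
    show MulAut.conj x⁻¹ • M = M
    rw [map_inv]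
    refine huniq _ ?_ h2
    exact ((MulAut.conj x)⁻¹.mapSubgroup.isCoatom_iff M).mpr hM
  have hNle : Subgroup.normalClosure (A : Set G) ≤ Subgroup.normalizer (M : Set G) := by
    refine (Subgroup.closure_le _).2 fun x hx => ?_
    obtain ⟨a, ha, hc⟩ := Group.mem_conjugatesOfSet_iff.1 hx
    obtain ⟨g, rfl⟩ := isConj_iff.1 hc
    simpa using hmax a ha g⁻¹
  by_cases htop : Subgroup.normalClosure (A : Set G) = ⊤
  · have hn : M.Normal := Subgroup.normalizer_eq_top_iff.mp (top_le_iff.mp (htop ▸ hNle))
    exact hM.1 (top_le_iff.mp (htop ▸ Subgroup.normalClosure_le_normal hAM))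
  · exact hnot (Subgroup.IsSubnormal.trans Subgroup.le_normalClosure
      (hprop _ htop Subgroup.le_normalClosure) Subgroup.normalClosure_normal.isSubnormal)

/-- Let A be a subgroup of a finite group G. If A is subnormal in the subgroup generated by A and its conjugate by g⁻¹ a g, for every a ∈ A and every g ∈ G, then A is subnormal in G. (A sharpening of Wielandt's subnormality criterion: only conjugates of A by conjugates of elements of A are needed.) -/
theorem result {G : Type*} [Group G] [Finite G]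
    (A : Subgroup G)
    (h : ∀ a ∈ A, ∀ g : G, (A.subgroupOf (A ⊔ MulAut.conj (g⁻¹ * a * g) • A)).IsSubnormal) :
    A.IsSubnormal := by
  exact aux _ G A rfl h

end Cfsg.Agent.S4333
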