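import Cfsg.Statements.S4334
import Cfsg.Agent.S0581
import Cfsg.Agent.Lib.Hall.Basic

set_option autoImplicit false
set_option linter.style.haveILetI false
open Cfsg

namespace Cfsg.Agent.S4334

open scoped Pointwise
open Cfsg.Agent.Lib.Transfer.PResidual Cfsg.Agent.Lib.Transfer.Frobenius

/-- An element of a product of two commuting subgroups of coprime orders, of order prime to the
order of the second factor, lies in the first. -/
theorem mem_left_of_coprime {G : Type*} [Group G] {A B : Subgroup G}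
    (hcomm : ∀ a ∈ A, ∀ b ∈ B, a * b = b * a)
    (hco : (Nat.card A).Coprime (Nat.card B)) {g : G} (hg : g ∈ A ⊔ B)
    (ho : (orderOf g).Coprime (Nat.card B)) : g ∈ A := by
  let P : Subgroup G :=
    { carrier := {x | ∃ a ∈ A, ∃ b ∈ B, x = a * b}
      one_mem' := ⟨1, one_mem A, 1, one_mem B, (one_mul 1).symm⟩
      mul_mem' := by
        rintro _ _ ⟨a, ha, b, hb, rfl⟩ ⟨c, hc, d, hd, rfl⟩
        refine ⟨a * c, mul_mem ha hc, b * d, mul_mem hb hd, ?_⟩
        rw [mul_assoc a b, ← mul_assoc b c, ← hcomm c hc b hb]; group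
      inv_mem' := by
        rintro _ ⟨a, ha, b, hb, rfl⟩
        refine ⟨a⁻¹, inv_mem ha, b⁻¹, inv_mem hb, ?_⟩
        rw [mul_inv_rev, hcomm _ (inv_mem ha) _ (inv_mem hb)] }
  have hle : A ⊔ B ≤ P := sup_le (fun a ha => ⟨a, ha, 1, one_mem B, (mul_one a).symm⟩)
    (fun b hb => ⟨1, one_mem A, b, hb, (one_mul b).symm⟩)
  obtain ⟨a, ha, b, hb, rfl⟩ := hle hg
  have h1 : a ^ orderOf (a * b) * b ^ orderOf (a * b) = 1 := by
    rw [← (show Commute a b from hcomm a ha b hb).mul_pow, pow_orderOf_eq_one]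
  have h2 : b ^ orderOf (a * b) ∈ A ⊓ B := ⟨by
    rw [eq_inv_of_mul_eq_one_right h1]; exact A.inv_mem (A.pow_mem ha _), B.pow_mem hb _⟩
  rw [Lib.Hall.inf_eq_bot_of_coprime hco, Subgroup.mem_bot, ← orderOf_dvd_iff_pow_eq_one] at h2
  have : orderOf b = 1 :=
    Nat.eq_one_of_dvd_coprimes ho h2 (Subgroup.orderOf_dvd_natCard _ hb)
  rw [orderOf_eq_one_iff.mp this, mul_one]
  exact ha

/-- An element normalizing `R` whose order is prime to the index of a subgroup centralizing `R`
centralizes `R`. -/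
theorem mem_centralizer_of_coprime {G : Type*} [Group G] [Finite G] {R X : Subgroup G}
    (hX : X ≤ Subgroup.centralizer (R : Set G)) {g : G} (hg : g ∈ Subgroup.normalizer (R : Set G))
    (hco : X.index.Coprime (orderOf g)) : g ∈ Subgroup.centralizer (R : Set G) := by
  set N := Subgroup.normalizer (R : Set G)
  set C := (Subgroup.centralizer (R : Set G)).subgroupOf N with hC
  have hd : C.index ∣ X.index :=
    (Dvd.intro _ (Subgroup.relIndex_mul_index (Subgroup.centralizer_le_normalizer _))).trans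
      (Subgroup.index_dvd_of_le hX)
  have h1 : (QuotientGroup.mk (⟨g, hg⟩ : N) : N ⧸ C) = 1 := by
    refine orderOf_eq_one_iff.mp (Nat.eq_one_of_dvd_coprimes hco ?_ ?_)
    · refine dvd_trans ?_ hd
      rw [Subgroup.index_eq_card]; exact orderOf_dvd_natCard _
    · refine (orderOf_map_dvd (QuotientGroup.mk' C) _).trans ?_
      rw [Subgroup.orderOf_mk]
  exact (QuotientGroup.eq_one_iff (N := C) _).mp h1

/-- Let σ and τ be disjoint sets of primes with union π. Suppose a finite group G has a Hall π-subgroup H which is the direct product of a nilpotent σ-subgroup and a τ-subgroup (two elementwise-commuting subgroups generating H), and that the maximal τ-subgroups of G are pairwise conjugate. Then the maximal π-subgroups of G are pairwise conjugate. -/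
theorem result {G : Type*} [Group G] [Finite G]
    (σ τ π : Set ℕ) (hπ : π = σ ∪ τ) (hd : Disjoint σ τ) (H Hs Ht : Subgroup G) (hH : Cfsg.IsPiHall π H)
    (hs : Cfsg.IsPiSubgroup σ Hs) (ht : Cfsg.IsPiSubgroup τ Ht) (hsn : Group.IsNilpotent Hs)
    (hjoin : Hs ⊔ Ht = H) (hcomm : ∀ a ∈ Hs, ∀ b ∈ Ht, a * b = b * a) (hD : Cfsg.IsDPiGroup τ G) :
    Cfsg.IsDPiGroup π G := by
  classical
  haveI := hsn
  have hdisj : ∀ r : ℕ, r ∈ σ → r ∉ τ := fun r h1 h2 => Set.disjoint_left.mp hd h1 h2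
  have hco : (Nat.card Hs).Coprime (Nat.card Ht) := Nat.coprime_of_dvd fun r hr h1 h2 =>
    hdisj r (hs r hr h1) (ht r hr h2)
  have hHsH : Hs ≤ H := hjoin ▸ le_sup_left
  have hHtH : Ht ≤ H := hjoin ▸ le_sup_right
  have hcardH : Nat.card H ∣ Nat.card Hs * Nat.card Ht := by
    let Hs' := Hs.subgroupOf H
    let Ht' := Ht.subgroupOf H
    haveI : Ht'.Normal := by
      refine Subgroup.normal_subgroupOf_iff_le_normalizer hHtH |>.mpr ?_
      rw [← hjoin]
      refine sup_le (fun a ha => Subgroup.mem_normalizer_iff.mpr fun b => ?_) Subgroup.le_normalizer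
      constructor
      · intro hb
        rw [hcomm a ha b hb, mul_inv_cancel_right]; exact hb
      · intro hb
        have := hcomm a⁻¹ (inv_mem ha) _ hb
        have e : b = a⁻¹ * (a * b * a⁻¹) * a := by group
        rw [e, this, inv_mul_cancel_right]; exact hb
    have h := Lib.Hall.card_sup_dvd Hs' Ht'
    have htop : Hs' ⊔ Ht' = ⊤ := by
      rw [← Subgroup.subgroupOf_sup hHsH hHtH, hjoin, Subgroup.subgroupOf_self]
    rwa [htop, Subgroup.card_top, Nat.card_congr (Subgroup.subgroupOfEquivOfLe hHsH).toEquiv,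
      Nat.card_congr (Subgroup.subgroupOfEquivOfLe hHtH).toEquiv] at h
  have hidxs : ∀ r : ℕ, r.Prime → r ∈ σ → ¬ r ∣ Hs.index := by
    intro r hr hrσ hdvd
    have h1 : Hs.index ∣ Nat.card Ht * H.index := by
      obtain ⟨c, hc⟩ := hcardH
      refine ⟨c, Nat.eq_of_mul_eq_mul_left (Nat.card_pos (α := Hs)) ?_⟩
      rw [← mul_assoc, ← mul_assoc, Subgroup.card_mul_index, hc, mul_comm (Nat.card H) c,
        mul_assoc, Subgroup.card_mul_index, mul_comm]
    rcases hr.dvd_mul.mp (hdvd.trans h1) with h2 | h2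
    · exact hdisj r hrσ (ht r hr h2)
    · exact hH.2 r hr (hπ ▸ Or.inl hrσ) h2
  have hHtHall : IsPiHall τ Ht := by
    refine ⟨ht, fun r hr hrτ hdvd => ?_⟩
    have h1 : Ht.index ∣ Nat.card Hs * H.index := by
      obtain ⟨c, hc⟩ := hcardH
      refine ⟨c, Nat.eq_of_mul_eq_mul_left (Nat.card_pos (α := Ht)) ?_⟩
      rw [← mul_assoc, ← mul_assoc, mul_comm (Nat.card Ht) (Nat.card Hs), hc, Subgroup.card_mul_index,
        mul_comm (Nat.card H) c, mul_assoc, Subgroup.card_mul_index, mul_comm]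
    rcases hr.dvd_mul.mp (hdvd.trans h1) with h2 | h2
    · exact hdisj r (hs r hr h2) hrτ
    · exact hH.2 r hr (hπ ▸ Or.inr hrτ) h2
  have hmemHs : ∀ g ∈ H, (∀ r : ℕ, r.Prime → r ∣ orderOf g → r ∈ σ) → g ∈ Hs := fun g hg ho =>
    mem_left_of_coprime hcomm hco (hjoin.symm ▸ hg)
      (Nat.coprime_of_dvd fun r hr h1 h2 => hdisj r (ho r hr h1) (ht r hr h2))
  have hmemHt : ∀ g ∈ H, (∀ r : ℕ, r.Prime → r ∣ orderOf g → r ∈ τ) → g ∈ Ht := fun g hg ho =>
    mem_left_of_coprime (fun a ha b hb => (hcomm b hb a ha).symm) hco.symm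
      (by rw [sup_comm, hjoin]; exact hg)
      (Nat.coprime_of_dvd fun r hr h1 h2 => hdisj r (hs r hr h2) (ho r hr h1))
  have hτconj : ∀ R : Subgroup G, IsPiSubgroup τ R → ∃ y : G, ∀ a ∈ R, y * a * y⁻¹ ∈ Ht := by
    intro R hR
    obtain ⟨M, hRM, hM⟩ := Finite.exists_le_maximal (p := IsPiSubgroup τ) hR
    obtain ⟨y, hy⟩ := hD M Ht hM ⟨ht, fun M' hM' hle => (Lib.Hall.isPiHall_eq_of_le hHtHall hM' hle).ge⟩
    exact ⟨y, fun a ha => hy ▸ ⟨a, hRM ha, rfl⟩⟩
  have hmain : ∀ K : Subgroup G, IsPiSubgroup π K → ∃ x : G, ∀ k ∈ K, x * k * x⁻¹ ∈ H := by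
    intro K hK
    have hKc : ∀ q : ℕ, q.Prime → q ∈ σ → HasNormalPComplement q K := by
      intro q hq hqσ
      haveI := Fact.mk hq
      refine hasNormalPComplement_of_forall_centralizes fun R hR _ g hg hgq => ?_
      obtain ⟨T, hT⟩ := S0581.exists_sylow_le (q := q) H (hH.2 q hq (hπ ▸ Or.inl hqσ))
      obtain ⟨T', hT'⟩ := (hR.map K.subtype).exists_le_sylow
      obtain ⟨y, hy⟩ := MulAction.exists_smul_eq G T' T
      set R' := (R.map K.subtype).map (MulAut.conj y).toMonoidHom with hR'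
      have hR'H : ∀ b ∈ R', b ∈ H := by
        rintro _ ⟨b, hb, rfl⟩
        refine hT ?_
        rw [← hy, Sylow.coe_subgroup_smul]
        exact Subgroup.smul_mem_pointwise_smul b (MulAut.conj y) _ (hT' hb)
      set g' := y * (g : G) * y⁻¹ with hg'
      have hg'N : g' ∈ Subgroup.normalizer (R' : Set G) := by
        have h1 : (g : G) ∈ Subgroup.normalizer ((R.map K.subtype : Subgroup G) : Set G) :=
          Subgroup.le_normalizer_map _ ⟨g, hg, rfl⟩
        exact Subgroup.le_normalizer_map (MulAut.conj y).toMonoidHom ⟨(g : G), h1, rfl⟩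
      have hg'C : g' ∈ Subgroup.centralizer (R' : Set G) := by
        refine mem_centralizer_of_coprime (X := Subgroup.centralizer (R' : Set G)) le_rfl hg'N ?_
        refine Nat.coprime_of_dvd fun d hd hd1 hd2 => ?_
        have ho : orderOf g' = orderOf g := by
          rw [hg', show y * (g : G) * y⁻¹ = MulAut.conj y g from rfl, MulEquiv.orderOf_eq,
            Subgroup.orderOf_coe]
        rw [ho] at hd2
        have hdq : d ≠ q := fun he =>
          hq.not_dvd_one (hgq.gcd_eq_one ▸ Nat.dvd_gcd (he ▸ hd2) dvd_rfl)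
        have hdπ : d ∈ π := hK d hd (hd2.trans (orderOf_dvd_natCard g))
        haveI := Fact.mk hd
        obtain ⟨U, hU⟩ := S0581.exists_sylow_le (q := d) H (hH.2 d hd hdπ)
        refine U.not_dvd_index (hd1.trans (Subgroup.index_dvd_of_le fun a ha => ?_))
        rw [Subgroup.mem_centralizer_iff]
        intro b hb
        obtain ⟨i, hi⟩ := IsPGroup.iff_orderOf.mp U.isPGroup' ⟨a, ha⟩
        rw [Subgroup.orderOf_mk] at hi
        obtain ⟨j, hj⟩ := IsPGroup.iff_orderOf.mp ((hR.map K.subtype).map (MulAut.conj y).toMonoidHom) ⟨b, hb⟩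
        rw [Subgroup.orderOf_mk] at hj
        have hbs : b ∈ Hs := hmemHs b (hR'H b hb) fun r hr h1 => by
          rw [(Nat.prime_dvd_prime_iff_eq hr hq).mp (hr.dvd_of_dvd_pow (hj ▸ h1))]; exact hqσ
        have hdπ' : d ∈ σ ∪ τ := hπ ▸ hdπ
        rcases hdπ' with hdσ | hdτ
        · have has : a ∈ Hs := hmemHs a (hU ha) fun r hr h1 => by
            rw [(Nat.prime_dvd_prime_iff_eq hr hd).mp (hr.dvd_of_dvd_pow (hi ▸ h1))]; exact hdσ
          refine congrArg Subtype.val
            (commute_of_coprime_of_isNilpotent (a := (⟨b, hbs⟩ : Hs)) (b := ⟨a, has⟩) ?_)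
          rw [Subgroup.orderOf_mk, Subgroup.orderOf_mk, hi, hj]
          exact Nat.coprime_pow_primes _ _ hq hd hdq.symm
        · refine hcomm b hbs a (hmemHt a (hU ha) fun r hr h1 => ?_)
          rw [(Nat.prime_dvd_prime_iff_eq hr hd).mp (hr.dvd_of_dvd_pow (hi ▸ h1))]; exact hdτ
      rw [Subgroup.mem_centralizer_iff]
      intro r hr
      have h2 := Subgroup.mem_centralizer_iff.mp hg'C (MulAut.conj y (r : G))
        ⟨r, ⟨r, hr, rfl⟩, rfl⟩
      rw [show g' = MulAut.conj y (g : G) from rfl, ← map_mul, ← map_mul] at h2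
      exact Subtype.ext ((MulAut.conj y).injective h2)
    -- the normal Hall `τ`-subgroup
    set N : Subgroup K := ⨅ q : {q : ℕ // q.Prime ∧ q ∈ σ}, pResidual (q : ℕ) K with hN
    haveI hNn : N.Normal := Subgroup.normal_iInf_normal fun q => inferInstance
    have hNσ : ∀ r : ℕ, r.Prime → r ∈ σ → ¬ r ∣ Nat.card N := by
      intro r hr hrσ hdvd
      haveI := Fact.mk hr
      exact hasNormalPComplement_iff_not_dvd.mp (hKc r hr hrσ) (hdvd.trans (Subgroup.card_dvd_of_le
        (iInf_le (fun q : {q : ℕ // q.Prime ∧ q ∈ σ} => pResidual (q : ℕ) K) ⟨r, hr, hrσ⟩)))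
    have hNi : ∀ r : ℕ, r.Prime → r ∣ N.index → r ∈ σ := by
      intro r hr hdvd
      by_contra hrσ
      haveI := Fact.mk hr
      obtain ⟨U⟩ := (inferInstance : Nonempty (Sylow r K))
      refine U.not_dvd_index (hdvd.trans (Subgroup.index_dvd_of_le (le_iInf fun q a ha => ?_)))
      haveI := Fact.mk q.2.1
      obtain ⟨i, hi⟩ := IsPGroup.iff_orderOf.mp U.isPGroup' ⟨a, ha⟩
      rw [Subgroup.orderOf_mk] at hi
      refine mem_pResidual ?_
      rw [hi]
      exact ((Nat.coprime_primes hr q.2.1).mpr (fun e => hrσ (e ▸ q.2.2))).pow_left i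
    have hNτ : IsPiSubgroup τ (N.map K.subtype) := by
      intro r hr hdvd
      rw [Subgroup.card_map_of_injective K.subtype_injective] at hdvd
      have : r ∈ σ ∪ τ := hπ ▸ hK r hr (hdvd.trans (Subgroup.card_subgroup_dvd_card _))
      exact this.resolve_left fun h => hNσ r hr h hdvd
    obtain ⟨S, hS⟩ := Subgroup.exists_right_complement'_of_coprime
      (Nat.coprime_of_dvd fun r hr h1 h2 => hNσ r hr (hNi r hr h2) h1 : (Nat.card N).Coprime N.index)
    have hScard : Nat.card S = N.index := hS.symm.index_eq_card.symm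
    obtain ⟨y, hy⟩ := hτconj _ hNτ
    set R := (N.map K.subtype).map (MulAut.conj y).toMonoidHom with hR
    set C := Subgroup.centralizer (R : Set G) with hC
    have hHsC : Hs ≤ C := by
      intro a ha
      rw [hC, Subgroup.mem_centralizer_iff]
      rintro _ ⟨b, hb, rfl⟩
      exact (hcomm a ha _ (hy b hb)).symm
    set Q := (S.map K.subtype).map (MulAut.conj y).toMonoidHom with hQ
    have hQC : Q ≤ C := by
      rintro _ ⟨_, ⟨s, hs', rfl⟩, rfl⟩
      have hnorm : (s : G) ∈ Subgroup.normalizer ((N.map K.subtype : Subgroup G) : Set G) := by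
        refine Subgroup.le_normalizer_map _ ⟨s, ?_, rfl⟩
        rw [Subgroup.normalizer_eq_top_iff.mpr hNn]; exact Subgroup.mem_top _
      refine mem_centralizer_of_coprime hHsC
        (Subgroup.le_normalizer_map (MulAut.conj y).toMonoidHom ⟨(s : G), hnorm, rfl⟩) ?_
      refine Nat.coprime_of_dvd fun d hd hd1 hd2 => hidxs d hd (hNi d hd ?_) hd1
      rw [show (MulAut.conj y).toMonoidHom (K.subtype s) = MulAut.conj y (s : G) from rfl,
        MulEquiv.orderOf_eq, Subgroup.orderOf_coe] at hd2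
      exact hScard ▸ hd2.trans (Subgroup.orderOf_dvd_natCard _ hs')
    have hDcard : Nat.card (Hs.subgroupOf C) = Nat.card Hs :=
      Nat.card_congr (Subgroup.subgroupOfEquivOfLe hHsC).toEquiv
    have hDnil : Group.IsNilpotent (Hs.subgroupOf C) :=
      Group.nilpotent_of_mulEquiv (Subgroup.subgroupOfEquivOfLe hHsC).symm
    obtain ⟨⟨c, hc⟩, hQc⟩ := S0581.wielandt _ (Hs.subgroupOf C) rfl hDnil
      (by
        refine Nat.Coprime.coprime_dvd_right (Subgroup.relIndex_dvd_index_of_le hHsC) ?_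
        rw [hDcard]
        exact Nat.coprime_of_dvd fun r hr h1 h2 => hidxs r hr (hs r hr h1) h2)
      (Q.subgroupOf C) (fun r hr hdvd => by
        rw [Nat.card_congr (Subgroup.subgroupOfEquivOfLe hQC).toEquiv, hQ,
          Subgroup.card_map_of_injective (MulEquiv.injective _),
          Subgroup.card_map_of_injective K.subtype_injective] at hdvd
        rw [hDcard]
        have hrG : r ∣ Nat.card Hs * Hs.index := by
          rw [Subgroup.card_mul_index]
          exact hdvd.trans ((Subgroup.card_subgroup_dvd_card _).trans (Subgroup.card_subgroup_dvd_card _))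
        exact (hr.dvd_mul.mp hrG).resolve_right (hidxs r hr (hNi r hr (hScard ▸ hdvd))))
    refine ⟨c⁻¹ * y, fun k hk => ?_⟩
    obtain ⟨⟨⟨a, ha⟩, ⟨b, hb⟩⟩, he⟩ := hS.surjective (⟨k, hk⟩ : K)
    rw [show k = (a : G) * b from (congrArg Subtype.val he).symm,
      show c⁻¹ * y * ((a : G) * b) * (c⁻¹ * y)⁻¹ =
        (c⁻¹ * (y * a * y⁻¹) * c) * (c⁻¹ * (y * b * y⁻¹) * c) by group]
    refine mul_mem (hHtH ?_) (hHsH ?_)
    · have haR : y * (a : G) * y⁻¹ ∈ R := ⟨a, ⟨a, ha, rfl⟩, rfl⟩
      rw [mul_assoc c⁻¹, Subgroup.mem_centralizer_iff.mp hc _ haR, inv_mul_cancel_left]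
      exact hy _ ⟨a, ha, rfl⟩
    · have hbQ : y * (b : G) * y⁻¹ ∈ Q := ⟨b, ⟨b, hb, rfl⟩, rfl⟩
      have h1 := hQc (show (⟨y * (b : G) * y⁻¹, hQC hbQ⟩ : C) ∈ Q.subgroupOf C from hbQ)
      rw [Subgroup.mem_pointwise_smul_iff_inv_smul_mem] at h1
      simpa [Subgroup.mem_subgroupOf, mul_assoc] using h1
  have hconj : ∀ M : Subgroup G, Maximal (IsPiSubgroup π) M →
      ∃ x : G, M = H.map (MulAut.conj x).toMonoidHom := by
    intro M hM
    obtain ⟨x, hx⟩ := hmain M hM.prop
    refine ⟨x⁻¹, hM.eq_of_le ?_ fun k hk => ⟨x * k * x⁻¹, hx k hk, ?_⟩⟩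
    · intro r hr hdvd
      rw [Subgroup.card_map_of_injective (MulEquiv.injective _)] at hdvd
      exact hH.1 r hr hdvd
    · simp [mul_assoc]
  intro M L hM hL
  obtain ⟨x, rfl⟩ := hconj M hM
  obtain ⟨z, rfl⟩ := hconj L hL
  refine ⟨z * x⁻¹, ?_⟩
  rw [Subgroup.map_map]
  congr 1
  ext a
  simp [mul_assoc]

end Cfsg.Agent.S4334
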