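import Cfsg.Statements.S4337
import Cfsg.Agent.Lib.SylowNumbers.SwapPartition
import Cfsg.Agent.Lib.Induced.Burnside
import Mathlib.GroupTheory.Perm.Cycle.Type

set_option autoImplicit false
open Cfsg

namespace Cfsg.Agent.S4337

/-- In a finite symmetric group, any three transpositions generate a solvable subgroup. -/
theorem result (n : ℕ) (a b c : Equiv.Perm (Fin n))
    (ha : a.IsSwap) (hb : b.IsSwap) (hc : c.IsSwap) :
    Group.IsSolvable (Subgroup.closure ({a, b, c} : Set (Equiv.Perm (Fin n)))) := by
  classical
  obtain ⟨f, hf, hcard⟩ := Cfsg.Agent.Lib.SylowNumbers.SwapPartition.exists_partition [a, b, c]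
    (by simp [ha, hb, hc])
  set K := Subgroup.closure ({a, b, c} : Set (Equiv.Perm (Fin n))) with hK
  have hinv := Cfsg.Agent.Lib.SylowNumbers.SwapPartition.invariant_closure
    ({a, b, c} : Set (Equiv.Perm (Fin n))) f (fun t ht => hf t (by simpa using ht))
  let φ : K →* ((d : Fin n) → Equiv.Perm {x : Fin n // f x = d}) :=
    { toFun := fun g d => (g : Equiv.Perm (Fin n)).subtypePerm (fun x => by rw [hinv _ g.2 x])
      map_one' := rfl
      map_mul' := fun g h => rfl }
  have hinj : Function.Injective φ := by
    intro g h e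
    refine Subtype.ext (Equiv.ext fun x => ?_)
    exact congrArg Subtype.val (Equiv.congr_fun (congrFun e (f x)) ⟨x, rfl⟩)
  have hd : Nat.card K ∣ 2 ^ (3 * n) * 3 ^ n := by
    refine (Subgroup.card_dvd_of_injective φ hinj).trans ?_
    rw [Nat.card_pi]
    refine (Finset.prod_dvd_prod_of_dvd _ (fun _ => 24) fun d _ => ?_).trans ?_
    · rw [Nat.card_perm, Nat.card_eq_fintype_card, Fintype.card_subtype]
      have h4 : (Finset.univ.filter fun x => f x = d).card ≤ 4 := by
        have h1 : ((Finset.univ.image f).erase d).card ≤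
            (Finset.univ.filter fun x => ¬ f x = d).card := by
          refine le_trans (Finset.card_le_card ?_) (Finset.card_image_le (f := f))
          intro y hy
          obtain ⟨h1, h2⟩ := Finset.mem_erase.mp hy
          obtain ⟨x, -, rfl⟩ := Finset.mem_image.mp h2
          exact Finset.mem_image_of_mem f (Finset.mem_filter.mpr ⟨Finset.mem_univ x, h1⟩)
        have h2 := Finset.card_filter_add_card_filter_not (s := (Finset.univ : Finset (Fin n))) (fun x => f x = d)
        have h3 := Finset.pred_card_le_card_erase (a := d) (s := Finset.univ.image f)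
        rw [Finset.card_univ, Fintype.card_fin] at h2
        rw [Fintype.card_fin, List.length_cons, List.length_cons, List.length_cons, List.length_nil] at hcard
        omega
      exact Nat.factorial_dvd_factorial (n := 4) h4
    · rw [Finset.prod_const, Finset.card_univ, Fintype.card_fin, show (24 : ℕ) = 2 ^ 3 * 3 by norm_num,
        mul_pow, ← pow_mul]
  obtain ⟨u, v, hu, hv, huv⟩ := exists_dvd_and_dvd_of_dvd_mul hd
  obtain ⟨i, -, rfl⟩ := (Nat.dvd_prime_pow Nat.prime_two).mp hu
  obtain ⟨j, -, rfl⟩ := (Nat.dvd_prime_pow Nat.prime_three).mp hv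
  exact Cfsg.Agent.Lib.Induced.Burnside.isSolvable_of_card_eq 2 3 i j Nat.prime_two Nat.prime_three huv

end Cfsg.Agent.S4337
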