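import Cfsg.Statements.S4341
import Cfsg.Agent.Lib.SylowNumbers.Formula

set_option autoImplicit false
open Cfsg

namespace Cfsg.Agent.S4341

open Subgroup
open Cfsg.Agent.Lib.SylowNumbers

/-- Let K be a normal subgroup of a finite group G, p a prime and P a Sylow p-subgroup of G; let N be the normalizer of P ∩ K inside the subgroup PK. Then the number of Sylow p-subgroups of G equals the product of the numbers of Sylow p-subgroups of G/K, of K, and of N/(P ∩ K). (The normality of P ∩ K in N, which always holds, is assumed as a hypothesis so that the quotient can be formed.) -/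
theorem result {G : Type*} [Group G] [Finite G]
    (p : ℕ) [Fact p.Prime] (K : Subgroup G) [K.Normal] (P : Sylow p G) (N : Subgroup G)
    (hN : N = ((P : Subgroup G) ⊔ K) ⊓ Subgroup.normalizer (((P : Subgroup G) ⊓ K : Subgroup G) : Set G))
    [hn : (((P : Subgroup G) ⊓ K).subgroupOf N).Normal] :
    Nat.card (Sylow p G) =
      Nat.card (Sylow p (G ⧸ K)) * Nat.card (Sylow p K) * Nat.card (Sylow p (N ⧸ ((P : Subgroup G) ⊓ K).subgroupOf N)) := by
  have hPN : (P : Subgroup G) ≤ N := by
    rw [hN]
    refine le_inf le_sup_left ?_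
    intro x hx
    rw [mem_normalizer_iff]
    intro y
    rw [mem_inf, mem_inf, ← mem_normalizer_iff.mp (le_normalizer hx) y]
    refine and_congr_right fun _ => ⟨fun h => (inferInstance : K.Normal).conj_mem y h x, fun h => ?_⟩
    have := (inferInstance : K.Normal).conj_mem _ h x⁻¹
    simpa [mul_assoc] using this
  have hq : Nat.card (Sylow p (N ⧸ ((P : Subgroup G) ⊓ K).subgroupOf N)) = Nat.card (Sylow p N) := by
    refine Quotient.card_sylow_quotient _ fun R => le_trans ?_ le_normalizer
    refine Basic.le_sylow_of_normalizing ?_ R (by rw [normalizer_eq_top]; exact le_top)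
    exact (P.isPGroup'.to_le inf_le_left).comap_of_injective N.subtype N.subtype_injective
  have hK : Nat.card (Sylow p K) =
      (normalizer (((P : Subgroup G) ⊓ K : Subgroup G) : Set G)).relIndex K := by
    rw [Formula.card_sylow_eq_index (Basic.sylowInf P K), Basic.coe_sylowInf,
      ← inf_subgroupOf_right, ← subgroupOf_normalizer_eq inf_le_right]
    rfl
  rw [hq, Actions.card_sylow_of_le P hPN, hK, Formula.card_sylow_mul K P,
    ← Formula.card_sylow_sup K P, Actions.card_sylow_of_le P le_sup_left, mul_assoc]
  congr 1
  set M : Subgroup G := (P : Subgroup G) ⊔ K with hM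
  set A := normalizer ((P : Subgroup G) : Set G) with hA
  set B := normalizer (((P : Subgroup G) ⊓ K : Subgroup G) : Set G) with hB
  have hAN : A ⊓ M ≤ N := by
    rw [hN]
    refine le_inf inf_le_right ?_
    intro x hx
    rw [mem_normalizer_iff]
    intro y
    rw [mem_inf, mem_inf, ← mem_normalizer_iff.mp hx.1 y]
    refine and_congr_right fun _ => ⟨fun h => (inferInstance : K.Normal).conj_mem y h x, fun h => ?_⟩
    have := (inferInstance : K.Normal).conj_mem _ h x⁻¹
    simpa [mul_assoc] using this
  have hNM : N ≤ M := hN ▸ inf_le_left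
  have h1 := relIndex_mul_relIndex (A ⊓ M) N M hAN hNM
  rw [inf_relIndex_right] at h1
  have h2 : (A ⊓ M).relIndex N = A.relIndex N := by
    rw [← inf_relIndex_right, inf_assoc, inf_eq_right.mpr hNM, inf_relIndex_right]
  have h3 : N.relIndex M = B.relIndex K := by
    have e : N ⊔ K = M := le_antisymm (sup_le hNM le_sup_right) (sup_le_sup_right hPN K)
    rw [← e, Basic.relIndex_sup_of_normal, ← inf_relIndex_right, hN, inf_assoc, inf_comm B,
      ← inf_assoc, inf_eq_right.mpr (le_sup_right : K ≤ M), inf_comm, inf_relIndex_right]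
  rw [← h1, h2, h3, mul_comm]

end Cfsg.Agent.S4341
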