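import Cfsg.Statements.S4344
import Cfsg.Agent.Lib.SylowNumbers.Actions

set_option autoImplicit false
set_option linter.style.haveILetI false
open Cfsg

namespace Cfsg.Agent.S4344

open Subgroup MulAction
open scoped Pointwise


/-- Let S be a finite non-abelian simple group, M a maximal subgroup of S and C a cyclic normal subgroup of M. If a Sylow p-subgroup P of S (for a prime p dividing the order of S) is contained in C, then the number of Sylow p-subgroups of S equals the index of M. -/
theorem result {S : Type*} [Group S] [Finite S]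
    [IsSimpleGroup S] (hS : ¬ IsMulCommutative S) (p : ℕ) [Fact p.Prime] (hp : p ∣ Nat.card S)
    (M : Subgroup S) (hM : IsCoatom M) (C : Subgroup S) (hCM : C ≤ M) (hCn : (C.subgroupOf M).Normal)
    (hC : IsCyclic C) (P : Sylow p S) (hP : (P : Subgroup S) ≤ C) :
    Nat.card (Sylow p S) = M.index := by
  have hPM : M ≤ normalizer ((P : Subgroup S) : Set S) := by
    intro m hm
    have hle : ((m • P : Sylow p S) : Subgroup S) ≤ C := by
      rw [Sylow.coe_subgroup_smul]
      rintro a ⟨b, hb, rfl⟩
      exact (hCn.conj_mem ⟨b, hCM (hP hb)⟩ (hP hb) ⟨m, hm⟩ :)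
    obtain ⟨c, hc⟩ := exists_smul_eq C (P.subtype hP) ((m • P).subtype hle)
    rw [Sylow.smul_subtype] at hc
    have h1 := Sylow.subtype_injective hc
    have hcn : (c : C) • P = P := by
      refine Sylow.smul_eq_iff_mem_normalizer.mpr (centralizer_le_normalizer _ ?_)
      rw [mem_centralizer_iff]
      intro a ha
      letI := hC.commGroup
      exact congrArg Subtype.val (mul_comm (⟨a, hP ha⟩ : C) c)
    exact Sylow.smul_eq_iff_mem_normalizer.mp (h1.symm.trans hcn)
  rw [P.card_eq_index_normalizer]
  rcases eq_or_lt_of_le hPM with h | h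
  · rw [h]; rfl
  · exfalso
    have hnorm : (P : Subgroup S).Normal := normalizer_eq_top_iff.mp (hM.2 _ h)
    rcases hnorm.eq_bot_or_eq_top with e | e
    · exact P.ne_bot_of_dvd_card hp e
    · refine hS ⟨⟨fun a b => ?_⟩⟩
      letI := hC.commGroup
      exact congrArg Subtype.val (mul_comm (⟨a, hP (e ▸ mem_top a)⟩ : C) ⟨b, hP (e ▸ mem_top b)⟩)

end Cfsg.Agent.S4344
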