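import Cfsg.Statements.S4345
import Cfsg.Agent.Lib.SylowNumbers.Formula
import Cfsg.Agent.Lib.Cores.MinNormal

set_option autoImplicit false
open Cfsg

namespace Cfsg.Agent.S4345

open Subgroup
open Cfsg.Agent.Lib.SylowNumbers
open Cfsg.Agent.Lib.Cores

theorem aux (p ℓ : ℕ) [Fact p.Prime] (hℓ : ℓ.Prime) :
    ∀ n : ℕ, ∀ (G : Type*) [Group G] [Finite G], Group.IsSolvable G → Nat.card G = n →
      ℓ ^ (Nat.card (Sylow p G)).factorization ℓ ≡ 1 [MOD p] := by
  intro n
  induction n using Nat.strong_induction_on with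
  | _ n ih =>
    intro G _ _ hG hn
    rcases subsingleton_or_nontrivial G with hs | hs
    · have h1 : Subsingleton (Sylow p G) :=
        ⟨fun a b => Sylow.ext (Subsingleton.elim _ _)⟩
      rw [Nat.card_unique]
      simp [Nat.ModEq.refl]
    obtain ⟨K, hKn, hKne, hmin⟩ := MinNormal.exists_minimal (G := G)
    obtain ⟨-, q, hq, hqK⟩ := MinNormal.elementary_of_solvable hKne hmin
    obtain ⟨P⟩ : Nonempty (Sylow p G) := inferInstance
    haveI : Fact q.Prime := ⟨hq⟩
    obtain ⟨m, hm⟩ := IsPGroup.iff_card.mp (MinNormal.isPGroup_of_pow_eq_one hqK)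
    obtain ⟨j, -, hj⟩ := (Nat.dvd_prime_pow hq).mp
      (hm ▸ relIndex_dvd_card (normalizer ((P : Subgroup G) : Set G)) K)
    have hmod : q ^ j ≡ 1 [MOD p] := by
      rw [← hj, ← Formula.card_sylow_sup K P]
      exact card_sylow_modEq_one p _
    have hlt : Nat.card (G ⧸ K) < n := by
      rw [← hn, card_eq_card_quotient_mul_card_subgroup K]
      exact (Nat.lt_mul_iff_one_lt_right Nat.card_pos).mpr (K.one_lt_card_iff_ne_bot.mpr hKne)
    have hq' := ih _ hlt (G ⧸ K) inferInstance rfl
    rw [Formula.card_sylow_mul K P, hj, Nat.factorization_mul (Nat.card_pos.ne') (pow_ne_zero _ hq.ne_zero),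
      Finsupp.add_apply, pow_add]
    refine (Nat.ModEq.mul hq' ?_).trans (by rw [one_mul])
    rw [hq.factorization_pow]
    by_cases e : q = ℓ
    · subst e
      rwa [Finsupp.single_eq_same]
    · rw [Finsupp.single_eq_of_ne (Ne.symm e), pow_zero]

/-- Let G be a finite solvable group and p, ℓ primes. Then the largest power of ℓ dividing the number of Sylow p-subgroups of G is congruent to 1 modulo p. -/
theorem result {G : Type*} [Group G] [Finite G]
    (hG : Group.IsSolvable G) (p ℓ : ℕ) [Fact p.Prime] (hℓ : ℓ.Prime) :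
    ℓ ^ (Nat.card (Sylow p G)).factorization ℓ ≡ 1 [MOD p] := by
  exact aux p ℓ hℓ _ G hG rfl

end Cfsg.Agent.S4345
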