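import Cfsg.Statements.S4346
import Cfsg.Agent.Lib.SylowNumbers.N22Small

set_option autoImplicit false
set_option linter.style.haveILetI false
open Cfsg

namespace Cfsg.Agent.S4346

open Subgroup MulAction
open Cfsg.Agent.Lib.SylowNumbers
open Cfsg.Agent.Lib.SylowNumbers.Basic
open Cfsg.Agent.Lib.SylowNumbers.Actions
open scoped Pointwise

/-- A finite group with 22 Sylow 3-subgroups would give a simple one. -/
theorem ne_twentytwo_aux : ∀ (n : ℕ) {G : Type*} [Group G] [Finite G], Nat.card G = n →
    Nat.card (Sylow 3 G) ≠ 22 := by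
  intro n
  induction n using Nat.strong_induction_on with
  | _ n ih =>
  intro G _ _ hG hn
  haveI : Fact (Nat.Prime 3) := ⟨Nat.prime_three⟩
  classical
  obtain ⟨P⟩ : Nonempty (Sylow 3 G) := inferInstance
  set H := normalizer ((P : Subgroup G) : Set G) with hH
  have hHi : H.index = 22 := N22.index_normalizer hn P
  have hcore : ∀ K : Subgroup G, K.Normal → (∀ R : Sylow 3 G, K ≤ normalizer ((R : Subgroup G) : Set G)) →
      K = ⊥ := by
    intro K hK hKle
    by_contra hne
    let f := QuotientGroup.mk' K
    have hinj : Function.Injective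
        (fun R : Sylow 3 G => R.mapSurjective (QuotientGroup.mk'_surjective K)) := by
      intro R R' h
      have h' : (R : Subgroup G).map f = (R' : Subgroup G).map f := congrArg (fun S => S.toSubgroup) h
      refine (eq_of_le_normalizer (fun a ha => ?_)).symm
      obtain ⟨b, hb, hba⟩ : f a ∈ (R : Subgroup G).map f := h'.symm ▸ Subgroup.mem_map_of_mem f ha
      have hk : b⁻¹ * a ∈ K := by
        rw [← QuotientGroup.ker_mk' K, MonoidHom.mem_ker, map_mul, map_inv, hba, inv_mul_cancel]
      have := mul_mem (le_normalizer hb) (hKle R hk)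
      rwa [mul_inv_cancel_left] at this
    have hcard := Nat.card_congr (Equiv.ofBijective _
      ⟨hinj, Sylow.mapSurjective_surjective (QuotientGroup.mk'_surjective K) 3⟩)
    have hlt : Nat.card (G ⧸ K) < n := by
      have h1 := K.card_eq_card_quotient_mul_card_subgroup
      have h2 : 1 < Nat.card K := (Subgroup.one_lt_card_iff_ne_bot K).mpr hne
      have h3 : 0 < Nat.card (G ⧸ K) := Nat.card_pos
      rw [hG] at h1
      nlinarith
    exact ih _ hlt rfl (hcard.symm.trans hn)
  haveI hsimple : IsSimpleGroup G := by
    haveI : Nontrivial G := by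
      by_contra h
      rw [not_nontrivial_iff_subsingleton] at h
      have : H = ⊤ := Subsingleton.elim _ _
      rw [this, index_top] at hHi
      omega
    refine { eq_bot_or_eq_top_of_normal := ?_ }
    intro N hN
    by_contra hcon
    rw [not_or] at hcon
    obtain ⟨hbot, htop⟩ := hcon
    have hNH : ¬ N ≤ H := by
      intro h
      refine hbot (hcore N hN fun R x hx => ?_)
      obtain ⟨g, rfl⟩ := exists_smul_eq G P R
      refine Sylow.smul_eq_iff_mem_normalizer.mp ?_
      have h1 : g⁻¹ * x * g ∈ H := h (hN.conj_mem' x hx g)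
      have h2 := Sylow.smul_eq_iff_mem_normalizer.mpr h1
      rw [mul_smul, mul_smul, inv_smul_eq_iff] at h2
      exact h2
    have hHN : H ⊔ N = ⊤ :=
      ((N22.eq_normalizer_or_top hn P _ le_sup_left).resolve_left fun h => hNH (le_sup_right.trans h.le))
    have hHrN : H.relIndex N = 22 := by
      rw [← relIndex_sup_of_normal, hHN, relIndex_top_right, hHi]
    have hPN : (P : Subgroup G) ⊔ N = ⊤ := by
      by_contra hne
      set M := (P : Subgroup G) ⊔ N with hM
      have hlt : Nat.card M < n := by
        rw [← hG]
        exact lt_of_le_of_ne (Subgroup.card_le_card_group _) fun h => hne (Subgroup.eq_top_of_card_eq _ h)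
      refine ih _ hlt rfl ?_
      rw [card_sylow_of_le P le_sup_left]
      refine le_antisymm ?_ ?_
      · have := relIndex_le_of_le_right (H := H) (le_top : M ≤ ⊤) Subgroup.index_ne_zero_of_finite
        rwa [relIndex_top_right, hHi] at this
      · have := relIndex_le_of_le_right (H := H) (le_sup_right : N ≤ M) Subgroup.index_ne_zero_of_finite
        rwa [hHrN] at this
    set R := (P : Subgroup G) ⊓ N with hR
    have hRsyl : ((sylowInf P N : Sylow 3 N) : Subgroup N).map N.subtype = R := by
      rw [coe_sylowInf, subgroupOf_map_subtype]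
    have hNlt : Nat.card N < n := by
      rw [← hG]
      exact lt_of_le_of_ne (Subgroup.card_le_card_group _) fun h => htop (Subgroup.eq_top_of_card_eq _ h)
    have hRbot : R = ⊥ := by
      by_contra hR0
      have hle : H ≤ normalizer (R : Set G) := by
        intro h hh
        rw [mem_normalizer_iff]
        intro a
        simp only [hR, Subgroup.mem_inf]
        constructor
        · rintro ⟨h1, h2⟩
          exact ⟨(mem_normalizer_iff.mp hh a).mp h1, hN.conj_mem a h2 h⟩
        · rintro ⟨h1, h2⟩
          refine ⟨(mem_normalizer_iff.mp hh a).mpr h1, ?_⟩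
          have := hN.conj_mem' _ h2 h
          rwa [show h⁻¹ * (h * a * h⁻¹) * h = a by group] at this
      rcases N22.eq_normalizer_or_top hn P _ hle with h | h
      · refine ih _ hNlt rfl ?_
        rw [(sylowInf P N).card_eq_index_normalizer, ← Sylow.coe_coe, coe_sylowInf]
        have e : normalizer (((P : Subgroup G).subgroupOf N : Subgroup N) : Set N) = H.subgroupOf N := by
          have e1 : (P : Subgroup G).subgroupOf N = R.subgroupOf N := (inf_subgroupOf_right _ _).symm
          rw [e1, ← subgroupOf_normalizer_eq (inf_le_right : R ≤ N), h]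
        rw [e]
        exact hHrN
      · have hRn : R.Normal := normalizer_eq_top_iff.mp h
        exact hR0 (hcore R hRn fun S =>
          (le_sylow_of_normalizing (P.isPGroup'.to_le inf_le_left) S (h ▸ le_top)).trans le_normalizer)
    -- N is a 3'-group with G = P N: look at the prime 11
    haveI : Fact (Nat.Prime 11) := ⟨by norm_num⟩
    have hN3 : ¬ 3 ∣ Nat.card N := by
      intro h
      have h1 := (sylowInf P N).card_eq_multiplicity
      rw [← Subgroup.card_map_of_injective N.subtype_injective, hRsyl, hRbot, Subgroup.card_bot] at h1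
      rw [eq_comm, Nat.pow_eq_one] at h1
      rcases h1 with h1 | h1
      · omega
      · rw [Nat.factorization_eq_zero_iff] at h1
        rcases h1 with h1 | h1 | h1
        · exact h1 Nat.prime_three
        · exact h1 h
        · exact Nat.card_pos.ne' h1
    obtain ⟨T⟩ : Nonempty (Sylow 11 N) := inferInstance
    set T' : Subgroup G := (T : Subgroup N).map N.subtype with hT'
    have hfr : normalizer (T' : Set G) ⊔ N = ⊤ := T.normalizer_sup_eq_top
    have hidx : ¬ 3 ∣ (normalizer (T' : Set G)).index := by
      intro h
      rw [← relIndex_top_right, ← hfr, relIndex_sup_of_normal] at h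
      exact hN3 (h.trans (relIndex_dvd_card ..))
    obtain ⟨Q, hQ⟩ := exists_sylow_le _ hidx
    have hTN : T' ≤ N := Subgroup.map_subtype_le _
    obtain ⟨g, hg⟩ := exists_smul_eq G Q P
    set W : Subgroup G := MulAut.conj g • T' with hW
    have hWN : W ≤ N := by
      rintro a ⟨t, ht, rfl⟩
      exact hN.conj_mem t (hTN ht) g
    have hPW : (P : Subgroup G) ≤ normalizer (W : Set G) := by
      rw [← hg, Sylow.coe_subgroup_smul]
      rintro a ⟨q, hq, rfl⟩
      rw [mem_normalizer_iff]
      intro t
      rw [hW, Subgroup.mem_pointwise_smul_iff_inv_smul_mem, Subgroup.mem_pointwise_smul_iff_inv_smul_mem,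
        ← map_inv, MulAut.smul_def, MulAut.smul_def, MulAut.conj_apply, MulAut.conj_apply, inv_inv]
      rw [mem_normalizer_iff.mp (hQ hq)]
      simp [mul_assoc]
    have hWcard : Nat.card W = Nat.card T' :=
      Nat.card_congr (Subgroup.equivSMul (MulAut.conj g) T').toEquiv.symm
    have hWidx : ¬ 11 ∣ W.relIndex N := by
      intro h
      refine T.not_dvd_index ?_
      have h1 := relIndex_mul_relIndex ⊥ W N bot_le hWN
      have h2 := relIndex_mul_relIndex ⊥ T' N bot_le hTN
      rw [relIndex_bot_left, relIndex_bot_left, hWcard] at h1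
      rw [relIndex_bot_left, relIndex_bot_left, ← h1] at h2
      rw [← Nat.eq_of_mul_eq_mul_left Nat.card_pos h2] at h
      have e : T'.relIndex N = (T : Subgroup N).index := by
        rw [hT', relIndex, Subgroup.subgroupOf, comap_map_eq_self_of_injective N.subtype_injective]
      rwa [e] at h
    -- the orbit of P under W
    set M := (P : Subgroup G) ⊔ W with hMdef
    have ha3 := relIndex_normalizer_modEq_one P (le_sup_left : (P : Subgroup G) ≤ M)
    have hset : (M : Set G) = (W : Set G) * (P : Subgroup G) := by
      rw [hMdef, sup_comm, coe_mul_of_right_le_normalizer_left W (P : Subgroup G) hPW]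
    have horb : H.relIndex M = H.relIndex W := by
      rw [← card_orbit_sylow, ← card_orbit_sylow]
      refine congrArg (fun s : Set (Sylow 3 G) => Nat.card s) (Set.ext fun S => ⟨?_, ?_⟩)
      · rintro ⟨⟨m, hm⟩, rfl⟩
        obtain ⟨w, hw, u, hu, rfl⟩ : m ∈ (W : Set G) * (P : Subgroup G) := hset ▸ hm
        refine ⟨⟨w, hw⟩, ?_⟩
        change w • P = (w * u) • P
        rw [mul_smul, Sylow.smul_eq_iff_mem_normalizer.mpr (le_normalizer hu)]
      · rintro ⟨⟨w, hw⟩, rfl⟩
        exact ⟨⟨w, mem_sup_right hw⟩, rfl⟩
    rw [horb] at ha3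
    have hWp : IsPGroup 11 W := (T.isPGroup'.map _).map _
    obtain ⟨v, hv⟩ := IsPGroup.iff_card.mp hWp
    obtain ⟨i, -, hi⟩ := (Nat.dvd_prime_pow (by norm_num)).mp (hv ▸ relIndex_dvd_card H W)
    have hle22 : H.relIndex W ≤ 22 := by
      have := relIndex_le_of_le_right (H := H) (le_top : W ≤ ⊤) Subgroup.index_ne_zero_of_finite
      rwa [relIndex_top_right, hHi] at this
    rcases i with _ | _ | i
    · -- W ≤ H
      rw [pow_zero, relIndex_eq_one] at hi
      refine hWidx (dvd_trans ⟨2, ?_⟩ (relIndex_dvd_of_le_left N hi))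
      norm_num [hHrN]
    · rw [hi] at ha3; norm_num at ha3
    · rw [hi] at hle22
      have := Nat.pow_le_pow_right (show 11 > 0 by norm_num) (show 2 ≤ i + 1 + 1 by omega)
      omega
  exact N22Small.false_of_card_three hn fun Q => N22.card_sylow_eq_three hn Q


/-- No finite group has exactly 22 Sylow 3-subgroups. -/
theorem result {G : Type*} [Group G] [Finite G] : Nat.card (Sylow 3 G) ≠ 22 :=
  ne_twentytwo_aux _ rfl

end Cfsg.Agent.S4346
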