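import Cfsg.Statements.S4347
import Cfsg.Agent.Lib.SylowNumbers.Actions

set_option autoImplicit false
open Cfsg

namespace Cfsg.Agent.S4347

open Subgroup MulAction
open scoped Pointwise


/-- Let G be a finite group and p a prime. Say a Sylow p-subgroup Q is redundant when every element of p-power order lies in some Sylow p-subgroup other than Q. Then G has no redundant Sylow p-subgroup if and only if some element of p-power order lies in exactly one Sylow p-subgroup. -/
theorem result {G : Type*} [Group G] [Finite G]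
    (p : ℕ) [Fact p.Prime] :
    (¬ ∃ Q : Sylow p G, ∀ x : G, (∃ k : ℕ, orderOf x = p ^ k) → ∃ P : Sylow p G, P ≠ Q ∧ x ∈ P) ↔
      ∃ x : G, (∃ k : ℕ, orderOf x = p ^ k) ∧ ∃! P : Sylow p G, x ∈ P := by
  constructor
  · intro h
    push Not at h
    obtain ⟨P⟩ : Nonempty (Sylow p G) := inferInstance
    obtain ⟨x, hx, huniq⟩ := h P
    obtain ⟨k, hk⟩ := hx
    obtain ⟨R, hR⟩ := (Cfsg.Agent.Lib.SylowNumbers.Basic.isPGroup_zpowers hk).exists_le_sylow
    exact ⟨x, ⟨k, hk⟩, R, hR (mem_zpowers x), fun S hS => by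
      have h1 : ∀ T : Sylow p G, x ∈ T → T = P := fun T hT => by
        by_contra hne
        exact huniq T hne hT
      rw [h1 S hS, h1 R (hR (mem_zpowers x))]⟩
  · rintro ⟨x, ⟨k, hk⟩, P, hxP, huniq⟩ ⟨Q, hQ⟩
    obtain ⟨g, rfl⟩ := exists_smul_eq G P Q
    obtain ⟨R, hne, hR⟩ := hQ (MulAut.conj g x) ⟨k, by rw [MulEquiv.orderOf_eq, hk]⟩
    refine hne ?_
    rw [← smul_inv_smul g R]
    refine congrArg (g • ·) (huniq _ ?_)
    change x ∈ ((g⁻¹ • R : Sylow p G) : Subgroup G)
    rw [Sylow.coe_subgroup_smul, Subgroup.mem_pointwise_smul_iff_inv_smul_mem, ← map_inv, inv_inv]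
    exact hR

end Cfsg.Agent.S4347
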