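import Cfsg.Statements.S4348
import Cfsg.Agent.Lib.SylowNumbers.Actions
import Cfsg.Agent.Lib.Cores.Basic

set_option autoImplicit false
open Cfsg

namespace Cfsg.Agent.S4348

open Subgroup MulAction
open scoped Pointwise


/-- Let G be a finite group, p a prime and P a Sylow p-subgroup of G, and let O_p(G) be the largest normal p-subgroup of G. If P/O_p(G) is cyclic, then some element of p-power order of G lies in exactly one Sylow p-subgroup. -/
theorem result {G : Type*} [Group G] [Finite G]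
    (p : ℕ) [Fact p.Prime] (P : Sylow p G)
    [hn : ((Cfsg.pCore p G).subgroupOf (P : Subgroup G)).Normal]
    (hc : IsCyclic ((P : Subgroup G) ⧸ (Cfsg.pCore p G).subgroupOf (P : Subgroup G))) :
    ∃ x : G, (∃ k : ℕ, orderOf x = p ^ k) ∧ ∃! Q : Sylow p G, x ∈ Q := by
  obtain ⟨q, hq⟩ := hc.exists_generator
  obtain ⟨x, rfl⟩ := QuotientGroup.mk_surjective q
  obtain ⟨k, hk⟩ := IsPGroup.iff_orderOf.mp P.isPGroup' x
  refine ⟨x, ⟨k, by rw [Subgroup.orderOf_coe, hk]⟩, P, x.2, fun Q hQ => ?_⟩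
  have hcore : Cfsg.pCore p G ≤ (Q : Subgroup G) := Cfsg.Agent.Lib.Cores.pCore_le_sylow Q
  have hle : (P : Subgroup G) ≤ (Q : Subgroup G) := by
    intro a ha
    obtain ⟨i, hi⟩ := mem_zpowers_iff.mp (hq (QuotientGroup.mk ⟨a, ha⟩))
    rw [← QuotientGroup.mk_zpow, QuotientGroup.eq, mem_subgroupOf] at hi
    have h1 := mul_mem (zpow_mem hQ i) (hcore hi)
    simp only [coe_mul, InvMemClass.coe_inv, coe_zpow, mul_inv_cancel_left] at h1
    exact h1
  exact Sylow.ext (P.is_maximal' Q.isPGroup' hle)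

end Cfsg.Agent.S4348
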