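import Cfsg.Statements.S4351
import Cfsg.Agent.Lib.CNReduce32.Main
-- import your own Cfsg.Agent.* helpers here

set_option autoImplicit false
open Cfsg

namespace Cfsg.Agent.S4351

/-- Let G be a finite non-solvable group in which the centralizer of every non-identity element is nilpotent. Then G is a non-abelian simple group; or G has a normal subgroup of index 2 isomorphic to PSL(2, 9); or G has a nontrivial normal elementary abelian 2-subgroup N such that G/N is isomorphic to PSL(2, q) for some q = 2ⁿ ≥ 4 or is a simple group of Suzuki type (simple, of the order of a Suzuki group). -/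
theorem result {G : Type*} [Group G] [Finite G] (hG : ¬ Group.IsSolvable G)
    (hCN : ∀ x : G, x ≠ 1 → Group.IsNilpotent (Subgroup.centralizer ({x} : Set G))) :
    (IsSimpleGroup G ∧ ¬ IsMulCommutative G) ∨
    (∃ (N : Subgroup G), N.Normal ∧ N.index = 2 ∧ ∃ (F : Type) (_ : Field F) (_ : Fintype F), Fintype.card F = 9 ∧
        Nonempty (N ≃* Matrix.ProjectiveSpecialLinearGroup (Fin 2) F)) ∨
    (∃ (N : Subgroup G) (_ : N.Normal), N ≠ ⊥ ∧ IsPGroup 2 N ∧ IsMulCommutative N ∧ (∀ x ∈ N, x * x = 1) ∧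
        ((∃ (F : Type) (_ : Field F) (_ : Fintype F), CharP F 2 ∧ 4 ≤ Fintype.card F ∧
            Nonempty (G ⧸ N ≃* Matrix.ProjectiveSpecialLinearGroup (Fin 2) F)) ∨ Cfsg.IsSuzuki (G ⧸ N))) := by
  classical
  haveI : Fact (Nat.Prime 2) := ⟨Nat.prime_two⟩
  have transfer : ∀ {Q : Subgroup G} [Q.Normal], Q = ⊥ → Nonempty (G ⧸ Q ≃* G) := fun {Q} _ hQ => by
    subst hQ; exact ⟨QuotientGroup.quotientBot⟩
  rcases Cfsg.Agent.Lib.CNReduce32.structure_of_nonsolvable hCN hG with
    ⟨hQ, S, hSn, hsim, hna, hS⟩ | ⟨hab, hexp, hcase⟩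
  · obtain ⟨q⟩ := transfer hQ
    haveI := hsim
    rcases hS with rfl | ⟨hi, F, iF, iT, h9, ⟨e⟩⟩
    · refine Or.inl ⟨(Subgroup.topEquiv.trans q).symm.isSimpleGroup, fun hc => hna ?_⟩
      haveI := hc
      exact ⟨⟨fun a b => (Subgroup.topEquiv.trans q).injective (by rw [map_mul, map_mul, mul_comm'])⟩⟩
    · exact Or.inr (Or.inl ⟨S.map q.toMonoidHom, Subgroup.Normal.map hSn _ q.surjective,
        (Subgroup.index_map_of_bijective q.bijective S).trans hi, F, iF, iT, h9,
        ⟨(S.equivMapOfInjective q.toMonoidHom q.injective).symm.trans e⟩⟩)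
  · by_cases hQ : Cfsg.pCore 2 G = ⊥
    · obtain ⟨q⟩ := transfer hQ
      have hsimG : IsSimpleGroup G := by
        rcases hcase with ⟨F, iF, iT, hc, h4, ⟨e⟩⟩ | hsz
        · haveI := Cfsg.Agent.Lib.Linear.isSimpleGroup_PSL (F := F) (n := 2) le_rfl
            fun _ => by rwa [Nat.card_eq_fintype_card]
          exact (q.symm.trans e).isSimpleGroup
        · haveI := hsz.1
          exact q.symm.isSimpleGroup
      refine Or.inl ⟨hsimG, fun hc => hG ?_⟩
      haveI := hc
      exact Group.isSolvable_of_comm fun a b => mul_comm' a b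
    · exact Or.inr (Or.inr ⟨Cfsg.pCore 2 G, inferInstance, hQ,
        Cfsg.Agent.Lib.Cores.pCore_isPGroup 2, hab, hexp, hcase⟩)

end Cfsg.Agent.S4351
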