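import Cfsg.Statements.S4354
import Cfsg.Agent.Lib.SylowNumbers.Basic

set_option autoImplicit false
set_option linter.unusedSectionVars false
set_option linter.style.haveILetI false
open Cfsg

namespace Cfsg.Agent.S4354

open Subgroup MulAction
open Cfsg.Agent.Lib.SylowNumbers.Basic
open scoped Pointwise

variable {G : Type*} [Group G] [Finite G] {p : ℕ} [Fact p.Prime]

/-- Every element of p-power order has class size prime to p. -/
def CentralPElements (p : ℕ) (G : Type*) [Group G] : Prop :=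
  ∀ x : G, (∃ k : ℕ, orderOf x = p ^ k) → ¬ p ∣ (Subgroup.centralizer ({x} : Set G)).index

theorem central_normal (h : CentralPElements p G) (N : Subgroup G) [N.Normal] :
    CentralPElements p N := by
  rintro x ⟨k, hk⟩ hd
  refine h (x : G) ⟨k, by rw [Subgroup.orderOf_coe, hk]⟩ ?_
  have e : (centralizer ({(x : G)} : Set G)).subgroupOf N = centralizer ({x} : Set N) := by
    ext y
    simp only [mem_subgroupOf, mem_centralizer_singleton_iff, Subtype.ext_iff, coe_mul]
  rw [← e] at hd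
  exact hd.trans (relIndex_dvd_index_of_normal_right _ N)

theorem exists_pElement_lift {Q : Type*} [Group Q] (f : G →* Q) (hf : Function.Surjective f)
    (y : Q) (k : ℕ) (hk : orderOf y = p ^ k) :
    ∃ x : G, f x = y ∧ ∃ a : ℕ, orderOf x = p ^ a := by
  obtain ⟨x, rfl⟩ := hf y
  obtain ⟨a, m, hm, hx⟩ := Nat.exists_eq_pow_mul_and_not_dvd
    (orderOf_pos x).ne' p (Fact.out : p.Prime).ne_one
  have hcop : Nat.Coprime m (p ^ k) :=
    ((Nat.Prime.coprime_iff_not_dvd Fact.out).mpr hm).symm.pow_right k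
  obtain ⟨j, hj⟩ := exists_pow_eq_self_of_coprime (x := f x) (n := m) (by rw [hk]; exact hcop)
  refine ⟨x ^ (m * j), by rw [map_pow, pow_mul, hj], ?_⟩
  have : (x ^ (m * j)) ^ p ^ a = 1 := by
    rw [← pow_mul, show m * j * p ^ a = orderOf x * j by rw [hx]; ring, pow_mul,
      pow_orderOf_eq_one, one_pow]
  obtain ⟨b, -, hb⟩ := (Nat.dvd_prime_pow Fact.out).mp (orderOf_dvd_of_pow_eq_one this)
  exact ⟨b, hb⟩

theorem central_quotient (h : CentralPElements p G) (N : Subgroup G) [N.Normal] :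
    CentralPElements p (G ⧸ N) := by
  rintro y ⟨k, hk⟩ hd
  obtain ⟨x, hxy, hx⟩ := exists_pElement_lift (QuotientGroup.mk' N) (QuotientGroup.mk'_surjective N) y k hk
  refine h x hx (hd.trans ?_)
  refine dvd_trans (index_dvd_of_le ?_) (index_map_dvd (H := centralizer ({x} : Set G))
    (f := QuotientGroup.mk' N) (QuotientGroup.mk'_surjective N))
  rintro z ⟨c, hc, rfl⟩
  rw [SetLike.mem_coe, mem_centralizer_singleton_iff] at hc
  rw [mem_centralizer_singleton_iff, ← hxy, ← map_mul, ← map_mul, hc]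

theorem isMulCommutative_of_smul (P : Sylow p G) (g : G) [IsMulCommutative (g • P : Sylow p G)] :
    IsMulCommutative P :=
  ⟨⟨fun a b => (Sylow.equivSMul P g).injective (by rw [map_mul, map_mul, mul_comm'])⟩⟩

theorem false_of_minimal (P₀ : Sylow p G) (hP₀ : ¬ IsMulCommutative P₀) (h : CentralPElements p G)
    (hmin : ∀ (N : Subgroup G) [N.Normal], N ≠ ⊥ → N ≠ ⊤ →
      (∀ S : Sylow p N, IsMulCommutative S) ∧ (∀ S : Sylow p (G ⧸ N), IsMulCommutative S))
    (N : Subgroup G) [hN : N.Normal] (hbot : N ≠ ⊥) (htop : N ≠ ⊤) : False := by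
  have hgen : ∀ L : Subgroup G, L.Normal → L ≠ ⊥ → (∀ x : G, (∃ k : ℕ, orderOf x = p ^ k) → x ∈ L) →
      L = ⊤ := by
    intro L hL hL0 hLx
    by_contra hL1
    have hle : (P₀ : Subgroup G) ≤ L := by
      intro x hx
      obtain ⟨k, hk⟩ := IsPGroup.iff_orderOf.mp P₀.isPGroup' ⟨x, hx⟩
      exact hLx x ⟨k, by rw [← hk, Subgroup.orderOf_mk]⟩
    have := (hmin L hL0 hL1).1 (P₀.subtype hle)
    apply hP₀
    refine ⟨⟨fun a b => ?_⟩⟩
    have := mul_comm' (M := (P₀.subtype hle : Subgroup L)) ⟨⟨a, hle a.2⟩, a.2⟩ ⟨⟨b, hle b.2⟩, b.2⟩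
    exact Subtype.ext (congrArg (fun z : (P₀.subtype hle : Subgroup L) => ((z : L) : G)) this)
  set R : Subgroup G := (P₀ : Subgroup G) ⊓ N with hR
  have hRc : IsMulCommutative R := by
    refine ⟨⟨fun a b => ?_⟩⟩
    haveI := (hmin N hbot htop).1 (sylowInf P₀ N)
    have hm : ∀ c : R, (⟨(c : G), c.2.2⟩ : N) ∈ (sylowInf P₀ N : Subgroup N) := by
      intro c; rw [coe_sylowInf]; exact c.2.1
    have := mul_comm' (M := (sylowInf P₀ N : Subgroup N)) ⟨_, hm a⟩ ⟨_, hm b⟩
    exact Subtype.ext (congrArg (fun z : (sylowInf P₀ N : Subgroup N) => ((z : N) : G)) this)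
  have hfr : normalizer (R : Set G) ⊔ N = ⊤ := by
    have := Sylow.normalizer_sup_eq_top (sylowInf P₀ N)
    rwa [coe_sylowInf, subgroupOf_map_subtype, ← hR] at this
  set C : Subgroup G := centralizer (R : Set G) with hC
  have hdec : ∀ g : G, ∃ a ∈ normalizer (R : Set G), ∃ n ∈ N, a * n = g := by
    intro g
    have : g ∈ normalizer (R : Set G) ⊔ N := by rw [hfr]; trivial
    rwa [← SetLike.mem_coe, mul_normal, Set.mem_mul] at this
  have hTmem : ∀ g : G, g ∈ C ⊔ N → ∃ c ∈ C, ∃ n ∈ N, c * n = g := by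
    intro g hg
    rwa [← SetLike.mem_coe, mul_normal, Set.mem_mul] at hg
  have hconjT : ∀ g : G, ∀ y ∈ C ⊔ N, g * y * g⁻¹ ∈ C ⊔ N := by
    intro g y hy
    obtain ⟨a, ha, n, hn, rfl⟩ := hdec g
    obtain ⟨c, hc, n', hn', he⟩ := hTmem _ (mul_mem (mul_mem (mem_sup_right hn) hy) (mem_sup_right (inv_mem hn)) : n * y * n⁻¹ ∈ C ⊔ N)
    have hac : a * c * a⁻¹ ∈ C := by
      rw [hC, mem_centralizer_iff]
      intro r hr
      have hr' : a⁻¹ * r * a ∈ (R : Set G) := (mem_normalizer_iff''.mp ha r).mp hr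
      have := mem_centralizer_iff.mp hc _ hr'
      calc r * (a * c * a⁻¹) = a * ((a⁻¹ * r * a) * c) * a⁻¹ := by group
        _ = a * (c * (a⁻¹ * r * a)) * a⁻¹ := by rw [this]
        _ = (a * c * a⁻¹) * r := by group
    have : a * n * y * (a * n)⁻¹ = (a * c * a⁻¹) * (a * n' * a⁻¹) := by
      calc a * n * y * (a * n)⁻¹ = a * (n * y * n⁻¹) * a⁻¹ := by group
        _ = a * (c * n') * a⁻¹ := by rw [he]
        _ = _ := by group
    rw [this]
    exact mul_mem (mem_sup_left hac) (mem_sup_right (hN.conj_mem _ hn' _))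
  have hT : C ⊔ N = ⊤ := by
    refine hgen _ ⟨fun y hy g => hconjT g y hy⟩ (fun e => hbot (le_bot_iff.mp (e ▸ le_sup_right))) ?_
    intro x hx
    obtain ⟨Q, hQ⟩ := exists_sylow_le _ (h x hx)
    obtain ⟨g, rfl⟩ := exists_smul_eq G P₀ Q
    have hy : g⁻¹ * x * g ∈ C := by
      rw [hC, mem_centralizer_iff]
      intro r hr
      have hmem : g * r * g⁻¹ ∈ ((g • P₀ : Sylow p G) : Subgroup G) := by
        rw [Sylow.coe_subgroup_smul]
        exact Subgroup.smul_mem_pointwise_smul _ (MulAut.conj g) _ hr.1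
      have hh := mem_centralizer_singleton_iff.mp (hQ hmem)
      calc r * (g⁻¹ * x * g) = g⁻¹ * ((g * r * g⁻¹) * x) * g := by group
        _ = g⁻¹ * (x * (g * r * g⁻¹)) * g := by rw [hh]
        _ = _ := by group
    have := hconjT g _ (mem_sup_left hy)
    rwa [show g * (g⁻¹ * x * g) * g⁻¹ = x by group] at this
  have hCidx : ¬ p ∣ C.index := by
    intro hd
    refine (sylowInf P₀ N).not_dvd_index ?_
    rw [← relIndex_top_right, ← hT, relIndex_sup_of_normal] at hd
    refine hd.trans (index_dvd_of_le ?_)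
    rw [coe_sylowInf]
    intro y hy
    rw [mem_subgroupOf, hC, mem_centralizer_iff]
    intro r hr
    exact congrArg Subtype.val (mul_comm' (M := R) ⟨r, hr⟩ ⟨y, hy, y.2⟩)
  obtain ⟨P, hP⟩ := exists_sylow_le C hCidx
  have hRP : R ≤ (P : Subgroup G) := by
    refine le_sylow_of_normalizing (P₀.isPGroup'.to_le inf_le_left) P (hP.trans ?_)
    exact centralizer_le_normalizer (R : Set G)
  have hRN : ((P : Subgroup G) ⊓ N) = R := by
    apply le_antisymm _ (le_inf hRP inf_le_right)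
    have h2 : (sylowInf P₀ N : Subgroup N) ≤ (sylowInf P N : Subgroup N) := by
      intro y hy
      rw [coe_sylowInf, mem_subgroupOf] at hy ⊢
      exact hRP ⟨hy, y.2⟩
    have h3 := (sylowInf P₀ N).is_maximal' (sylowInf P N).isPGroup' h2
    intro x hx
    have : (⟨x, hx.2⟩ : N) ∈ (sylowInf P N : Subgroup N) := by rw [coe_sylowInf]; exact hx.1
    rw [h3, coe_sylowInf, mem_subgroupOf] at this
    exact ⟨this, hx.2⟩
  have hPnc : ¬ IsMulCommutative P := by
    intro hc
    obtain ⟨g, rfl⟩ := exists_smul_eq G P₀ P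
    haveI := hc
    exact hP₀ (isMulCommutative_of_smul P₀ g)
  set f := QuotientGroup.mk' N with hf
  set Pb : Sylow p (G ⧸ N) := P.mapSurjective (QuotientGroup.mk'_surjective N) with hPb
  haveI hPbc : IsMulCommutative Pb := (hmin N hbot htop).2 Pb
  have hPbmem : ∀ x ∈ (P : Subgroup G), f x ∈ Pb := fun x hx => Subgroup.mem_map_of_mem f hx
  apply hPnc
  suffices hz : ∀ x ∈ (P : Subgroup G), ∀ w ∈ (P : Subgroup G), w * x = x * w from
    ⟨⟨fun a b => Subtype.ext (hz b b.2 a a.2)⟩⟩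
  intro x hx
  obtain ⟨k, hk⟩ := IsPGroup.iff_orderOf.mp P.isPGroup' ⟨x, hx⟩
  rw [Subgroup.orderOf_mk] at hk
  obtain ⟨Q, hQ⟩ := exists_sylow_le _ (h x ⟨k, hk⟩)
  obtain ⟨g, rfl⟩ := exists_smul_eq G P Q
  set y := g⁻¹ * x * g with hy
  have hyP : y ∈ (P : Subgroup G) := by
    have hxQ : x ∈ ((g • P : Sylow p G) : Subgroup G) := by
      refine mem_sylow_of_mem_normalizer (isPGroup_zpowers hk) _ ?_
      rw [mem_normalizer_iff]
      intro z
      constructor
      · intro hz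
        rw [← mem_centralizer_singleton_iff.mp (hQ hz), mul_inv_cancel_right]
        exact hz
      · intro hz
        have := mem_centralizer_singleton_iff.mp (hQ hz)
        rw [show x * (x * z * x⁻¹) = x * (x * z * x⁻¹) from rfl] at this
        have e : x * z * x⁻¹ = z := by
          have e2 : x * z = x * (x * z * x⁻¹) := by rw [← this]; group
          exact (mul_left_cancel e2).symm
        rwa [e] at hz
    rw [Sylow.coe_subgroup_smul, Subgroup.mem_pointwise_smul_iff_inv_smul_mem, ← map_inv,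
      MulAut.smul_def, MulAut.conj_apply, inv_inv] at hxQ
    exact hxQ
  have hyz : ∀ w ∈ (P : Subgroup G), w * y = y * w := by
    intro w hw
    have hmem : g * w * g⁻¹ ∈ ((g • P : Sylow p G) : Subgroup G) := by
      rw [Sylow.coe_subgroup_smul]
      exact Subgroup.smul_mem_pointwise_smul _ (MulAut.conj g) _ hw
    have hh := mem_centralizer_singleton_iff.mp (hQ hmem)
    calc w * y = g⁻¹ * ((g * w * g⁻¹) * x) * g := by rw [hy]; group
      _ = g⁻¹ * (x * (g * w * g⁻¹)) * g := by rw [hh]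
      _ = _ := by rw [hy]; group
  obtain ⟨nb, hnb, hnb2⟩ := Pb.conj_eq_normalizer_conj_of_mem (f x) (f g) (hPbmem x hx)
    (by rw [← map_inv, ← map_mul, ← map_mul]; exact hPbmem y hyP)
  obtain ⟨n, rfl⟩ := QuotientGroup.mk'_surjective N nb
  set K := ((Pb : Subgroup (G ⧸ N))).comap f with hKdef
  have hPK : (P : Subgroup G) ≤ K := fun z hz => hPbmem z hz
  have hnK : MulAut.conj n • K = K := by
    ext z
    rw [Subgroup.mem_pointwise_smul_iff_inv_smul_mem, ← map_inv, MulAut.smul_def,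
      MulAut.conj_apply, inv_inv, hKdef, mem_comap, mem_comap, map_mul, map_mul, map_inv]
    exact (mem_normalizer_iff''.mp hnb (f z)).symm
  obtain ⟨c, hc, hm⟩ := exists_normalizer_mul P K hPK n hnK
  set m := c⁻¹ * n with hmdef
  have hz : m * y * m⁻¹ ∈ (P : Subgroup G) := (mem_normalizer_iff.mp hm y).mp hyP
  have hzc : ∀ w ∈ (P : Subgroup G), w * (m * y * m⁻¹) = (m * y * m⁻¹) * w := by
    intro w hw
    have := hyz (m⁻¹ * w * m) ((mem_normalizer_iff''.mp hm w).mp hw)
    calc w * (m * y * m⁻¹) = m * ((m⁻¹ * w * m) * y) * m⁻¹ := by group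
      _ = m * (y * (m⁻¹ * w * m)) * m⁻¹ := by rw [this]
      _ = _ := by group
  have hxc : f c * f x = f x * f c :=
    congrArg Subtype.val (mul_comm' (M := (Pb : Subgroup (G ⧸ N))) ⟨f c, hc⟩ ⟨f x, hPbmem x hx⟩)
  have hfy : f (m * y * m⁻¹) = f x := by
    have e : f y = (f n)⁻¹ * f x * f n := by
      rw [hy, map_mul, map_mul, map_inv]; exact hnb2
    rw [map_mul, map_mul, map_inv, e, hmdef, map_mul, map_inv]
    calc (f c)⁻¹ * f n * ((f n)⁻¹ * f x * f n) * ((f c)⁻¹ * f n)⁻¹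
        = (f c)⁻¹ * (f x * f c) := by group
      _ = f x := by rw [← hxc]; group
  have hr : (m * y * m⁻¹)⁻¹ * x ∈ R := by
    rw [← hRN]
    refine Subgroup.mem_inf.mpr ⟨mul_mem (inv_mem hz) hx, ?_⟩
    rw [← QuotientGroup.ker_mk' N, MonoidHom.mem_ker, map_mul, map_inv, hfy,
      inv_mul_cancel]
  intro w hw
  have hwr := mem_centralizer_iff.mp (hP hw) _ hr
  calc w * x = (w * (m * y * m⁻¹)) * ((m * y * m⁻¹)⁻¹ * x) := by group
    _ = (m * y * m⁻¹) * (w * ((m * y * m⁻¹)⁻¹ * x)) := by rw [hzc w hw, mul_assoc]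
    _ = (m * y * m⁻¹) * (((m * y * m⁻¹)⁻¹ * x) * w) := by rw [← hwr]
    _ = x * w := by group


/-- Let G be a finite group and p a prime such that the Sylow p-subgroups of G are non-abelian while every element of p-power order has conjugacy class size prime to p, and suppose no nontrivial proper normal subgroup N of G has this property and no quotient G/N by such an N has it. Then G is simple. -/
theorem result {G : Type*} [Group G] [Finite G]
    (p : ℕ) [Fact p.Prime] (h : ((∃ P : Sylow p G, ¬ IsMulCommutative P) ∧ ∀ x : G, (∃ k : ℕ, orderOf x = p ^ k) → ¬ p ∣ (Subgroup.centralizer ({x} : Set G)).index))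
    (hmin : ∀ (N : Subgroup G) [N.Normal], N ≠ ⊥ → N ≠ ⊤ →
      ¬ ((∃ P : Sylow p N, ¬ IsMulCommutative P) ∧ ∀ x : N, (∃ k : ℕ, orderOf x = p ^ k) → ¬ p ∣ (Subgroup.centralizer ({x} : Set N)).index) ∧
      ¬ ((∃ P : Sylow p (G ⧸ N), ¬ IsMulCommutative P) ∧ ∀ x : (G ⧸ N), (∃ k : ℕ, orderOf x = p ^ k) → ¬ p ∣ (Subgroup.centralizer ({x} : Set (G ⧸ N))).index)) :
    IsSimpleGroup G := by
  obtain ⟨⟨P₀, hP₀⟩, hc⟩ := h
  have hne : Nontrivial G := by
    by_contra hn
    rw [not_nontrivial_iff_subsingleton] at hn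
    exact hP₀ ⟨⟨fun a b => Subtype.ext (Subsingleton.elim _ _)⟩⟩
  refine { toNontrivial := hne, eq_bot_or_eq_top_of_normal := ?_ }
  intro N hN
  by_contra hne
  rw [not_or] at hne
  refine false_of_minimal P₀ hP₀ hc (fun M hM h0 h1 => ?_) N hne.1 hne.2
  refine ⟨fun S => ?_, fun S => ?_⟩
  · by_contra hS
    exact (hmin M h0 h1).1 ⟨⟨S, hS⟩, central_normal hc M⟩
  · by_contra hS
    exact (hmin M h0 h1).2 ⟨⟨S, hS⟩, central_quotient hc M⟩

end Cfsg.Agent.S4354
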