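import Cfsg.Statements.S4363
import Cfsg.Agent.Lib.PrimeFitting.Final

set_option autoImplicit false
open Cfsg

namespace Cfsg.Agent.S4363

open Cfsg.Agent.Lib.PrimeFitting

universe u

/-- The statement transferred to the semidirect product with the automorphism. -/
theorem aux {G : Type u} [Group G] [Finite G]
    (hG : Group.IsSolvable G) (σ : MulAut G) (r : ℕ) (hr : r.Prime) (hσ : orderOf σ = r)
    (hcop : ¬ r ∣ Nat.card G) (C : Subgroup G) (hC : ∀ g : G, g ∈ C ↔ σ g = g) (n : ℕ)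
    (hn : (∃ F : Fin (n + 1) → Subgroup ↥C, F 0 = ⊥ ∧ F (Fin.last n) = ⊤ ∧ Monotone F ∧
      (∀ i, (F i).Normal) ∧ ∀ i : Fin n, ∃ k : ℕ, (F i.succ).lowerCentralSeries k ≤ F i.castSucc)) :
    (∃ F : Fin ((n + 2) + 1) → Subgroup G, F 0 = ⊥ ∧ F (Fin.last (n + 2)) = ⊤ ∧ Monotone F ∧
      (∀ i, (F i).Normal) ∧
      ∀ i : Fin (n + 2), ∃ k : ℕ, (F i.succ).lowerCentralSeries k ≤ F i.castSucc) := by
  obtain ⟨F, hF0, hFn, hFmono, hFnor, hFlcs⟩ := hn
  haveI : Finite (MulAut G) := Finite.of_injective (fun e : MulAut G => (e : G → G)) fun a b h =>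
    MulEquiv.ext (congrFun h)
  let φ : Subgroup.zpowers σ →* MulAut G := (Subgroup.zpowers σ).subtype
  haveI : Finite (G ⋊[φ] Subgroup.zpowers σ) :=
    Finite.of_equiv _ SemidirectProduct.equivProd.symm
  let ι : G →* G ⋊[φ] Subgroup.zpowers σ := SemidirectProduct.inl
  have hι : Function.Injective ι := SemidirectProduct.inl_injective
  let g₀ : Subgroup.zpowers σ := ⟨σ, Subgroup.mem_zpowers σ⟩
  let s : G ⋊[φ] Subgroup.zpowers σ := SemidirectProduct.inr g₀
  haveI : ι.range.Normal := by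
    show (SemidirectProduct.inl : G →* G ⋊[φ] Subgroup.zpowers σ).range.Normal
    rw [SemidirectProduct.range_inl_eq_ker_rightHom]; infer_instance
  have hs : s ^ r = 1 := by
    rw [← map_pow, show g₀ ^ r = 1 from Subtype.ext (by
      rw [SubmonoidClass.coe_pow]; exact hσ ▸ pow_orderOf_eq_one σ), map_one]
  have hcard : Nat.card ι.range = Nat.card G :=
    (Nat.card_congr (MonoidHom.ofInjective hι).toEquiv).symm
  haveI := hG
  have hsol : Group.IsSolvable ι.range :=
    Group.isSolvable_of_surjective (f := ι.rangeRestrict) ι.rangeRestrict_surjective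
  -- the fixed points
  let f : C →* G ⋊[φ] Subgroup.zpowers σ := ι.comp C.subtype
  have hfix : ι.range ⊓ Subgroup.centralizer {s} = f.range := by
    have key : ∀ g : G, s * ι g = ι g * s ↔ g ∈ C := fun g => by
      rw [hC, show σ g = φ g₀ g from rfl, ← hι.eq_iff, show ι (φ g₀ g) = s * ι g * s⁻¹ from
        (SemidirectProduct.inl_aut g₀ g).trans (by rw [map_inv]), mul_inv_eq_iff_eq_mul]
    ext x
    constructor
    · rintro ⟨⟨g, rfl⟩, hx⟩
      exact ⟨⟨g, (key g).mp (Subgroup.mem_centralizer_iff.mp hx s rfl)⟩, rfl⟩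
    · rintro ⟨⟨g, hg⟩, rfl⟩
      exact ⟨⟨g, rfl⟩, Subgroup.mem_centralizer_iff.mpr fun z hz => by
        rw [Set.mem_singleton_iff.mp hz]; exact (key g).mpr hg⟩
  let F' : ℕ → Subgroup (G ⋊[φ] Subgroup.zpowers σ) := fun i =>
    if h : i < n + 1 then (F ⟨i, h⟩).map f else ⊥
  have hF' : ∀ (i : ℕ) (h : i < n + 1), F' i = (F ⟨i, h⟩).map f := fun i h => dif_pos h
  have hnor : ∀ (i : ℕ) (h : i < n + 1),
      f.range ≤ Subgroup.normalizer (((F ⟨i, h⟩).map f : Subgroup _) : Set _) := by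
    rintro i h _ ⟨c, rfl⟩
    refine Tower.mem_normalizer_of_finite ?_
    rintro _ ⟨y, hy, rfl⟩
    exact ⟨c * y * c⁻¹, (hFnor ⟨i, h⟩).conj_mem y hy c, by simp⟩
  have hser : Tower.Series (ι.range ⊓ Subgroup.centralizer {s}) F' n := by
    rw [hfix]
    refine ⟨?_, ?_, fun i hi => ?_, fun i hi x hx y hy hxy => ?_, fun i hi => ?_⟩
    · rw [hF' 0 (Nat.succ_pos n), show (⟨0, Nat.succ_pos n⟩ : Fin (n + 1)) = 0 from rfl, hF0,
        Subgroup.map_bot]
    · rw [hF' n (Nat.lt_succ_self n),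
        show (⟨n, Nat.lt_succ_self n⟩ : Fin (n + 1)) = Fin.last n from rfl, hFn,
        MonoidHom.range_eq_map]
    · rw [hF' i (by omega)]; exact hnor i (by omega)
    · rw [hF' i (by omega)]
      rw [hF' (i + 1) (by omega)] at hx hy
      obtain ⟨k, hk⟩ := hFlcs ⟨i, hi⟩
      refine Tower.comm_of_lcs ((Subgroup.map_le_range f _).trans (hnor i (by omega))) (k := k) ?_
        hx hy hxy
      rw [← Subgroup.map_lowerCentralSeries]
      exact Subgroup.map_mono hk
    · rw [hF' i (by omega), hF' (i + 1) (by omega)]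
      exact Subgroup.map_mono (hFmono (Nat.le_succ i))
  obtain ⟨E, hE0, hEn, hEmono, hEnorm, hElcs⟩ :=
    Levels.fitting_bound ι.range hsol s hr hs (hcard.symm ▸ hcop) hser
  refine ⟨fun i => (E i).comap ι, ?_, ?_, Fin.monotone_iff_le_succ.mpr fun i => ?_, fun i => ?_,
    fun i => ?_⟩
  · show (E 0).comap ι = ⊥
    rw [hE0, MonoidHom.comap_bot, (MonoidHom.ker_eq_bot_iff ι).mpr hι]
  · show (E (n + 2)).comap ι = ⊤
    rw [hEn]
    exact eq_top_iff.mpr fun g _ => ⟨g, rfl⟩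
  · exact Subgroup.comap_mono (hEmono i i.isLt)
  · exact ⟨fun x hx g => by
      rw [Subgroup.mem_comap] at hx ⊢
      rw [map_mul, map_mul, map_inv]
      exact Tower.conj_mem (hEnorm i (Nat.le_of_lt_succ i.isLt) ⟨g, rfl⟩) hx⟩
  · obtain ⟨k, hk⟩ := hElcs i i.isLt
    refine ⟨k, Subgroup.map_le_iff_le_comap.mp ?_⟩
    rw [Subgroup.map_lowerCentralSeries]
    exact (Subgroup.lowerCentralSeries_mono k (Subgroup.map_comap_le ι _)).trans hk

/-- Let G be a finite solvable group and σ an automorphism of G of prime order r not dividing the order of G, with fixed-point subgroup C. Then the Fitting height of G exceeds that of C by at most 2: if C has a chain of normal subgroups 1 = C₀ ≤ ⋯ ≤ Cₙ = C with nilpotent factors, then G has such a chain of length n + 2. -/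
theorem result {G : Type*} [Group G] [Finite G]
    (hG : Group.IsSolvable G) (σ : MulAut G) (r : ℕ) (hr : r.Prime) (hσ : orderOf σ = r) (hcop : ¬ r ∣ Nat.card G)
    (C : Subgroup G) (hC : ∀ g : G, g ∈ C ↔ σ g = g) (n : ℕ) (hn : (∃ F : Fin (n + 1) → Subgroup ↥C, F 0 = ⊥ ∧ F (Fin.last n) = ⊤ ∧ Monotone F ∧ (∀ i, (F i).Normal) ∧ ∀ i : Fin n, ∃ k : ℕ, (F i.succ).lowerCentralSeries k ≤ F i.castSucc)) :
    (∃ F : Fin ((n + 2) + 1) → Subgroup G, F 0 = ⊥ ∧ F (Fin.last (n + 2)) = ⊤ ∧ Monotone F ∧ (∀ i, (F i).Normal) ∧ ∀ i : Fin (n + 2), ∃ k : ℕ, (F i.succ).lowerCentralSeries k ≤ F i.castSucc) := by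
  exact aux hG σ r hr hσ hcop C hC n hn

end Cfsg.Agent.S4363
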