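import Cfsg.Statements.S4365
import Mathlib.GroupTheory.Sylow
import Mathlib.GroupTheory.Subgroup.Centralizer
import Mathlib.Data.ZMod.Basic

set_option autoImplicit false
open Cfsg

namespace Cfsg.Agent.S4365

open Subgroup

theorem prod_val {M : Type*} [CommMonoid M] (p : ℕ) [NeZero p] (h : ℕ → M) :
    ∏ i : ZMod p, h i.val = ∏ i ∈ Finset.range p, h i := by
  refine Finset.prod_nbij' (fun i => i.val) (fun n => (n : ZMod p)) ?_ ?_ ?_ ?_ ?_
  · exact fun i _ => Finset.mem_range.mpr (ZMod.val_lt i)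
  · exact fun n _ => Finset.mem_univ _
  · exact fun i _ => ZMod.natCast_zmod_val i
  · exact fun n hn => ZMod.val_natCast_of_lt (Finset.mem_range.mp hn)
  · exact fun i _ => rfl

theorem prod_grid {M : Type*} [CommMonoid M] {p : ℕ} [Fact p.Prime] (g : ZMod p → ZMod p → M) :
    (∏ j : ZMod p, ∏ i : ZMod p, g (j * i) i) * ∏ k : ZMod p, g k 0
      = g 0 0 ^ p * ∏ i : ZMod p, ∏ k : ZMod p, g k i := by
  classical
  rw [Finset.prod_comm, ← Finset.mul_prod_erase Finset.univ _ (Finset.mem_univ (0 : ZMod p)),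
    ← Finset.mul_prod_erase Finset.univ (fun i => ∏ k : ZMod p, g k i) (Finset.mem_univ (0 : ZMod p))]
  have h1 : ∏ j : ZMod p, g (j * 0) 0 = g 0 0 ^ p := by simp
  have h2 : ∀ i ∈ (Finset.univ : Finset (ZMod p)).erase 0,
      ∏ j : ZMod p, g (j * i) i = ∏ k : ZMod p, g k i := fun i hi =>
    Fintype.prod_equiv (Equiv.mulRight₀ i (Finset.ne_of_mem_erase hi)) _ _ fun j => rfl
  rw [h1, Finset.prod_congr rfl h2, mul_comm (∏ k : ZMod p, g k 0), mul_assoc]

theorem conj_pow_comm {P : Type*} [Group P] {z y c : P} (hc : y * z * y⁻¹ = c * z)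
    (hyc : Commute y c) (n : ℕ) : y ^ n * z * (y ^ n)⁻¹ = c ^ n * z := by
  induction n with
  | zero => simp
  | succ n ihn =>
    have e : y ^ (n + 1) * z * (y ^ (n + 1))⁻¹ = y * (y ^ n * z * (y ^ n)⁻¹) * y⁻¹ := by
      rw [pow_succ']; group
    rw [e, ihn]
    have : y * (c ^ n * z) * y⁻¹ = c ^ n * (y * z * y⁻¹) := by
      rw [← mul_assoc y, (hyc.pow_right n).eq]; group
    rw [this, hc, ← mul_assoc, ← pow_succ]



/-- Let P be a finite p-group whose conjugacy class sizes are exactly 1 and pᵃ for some a ≥ 1. Then every element of P has its p-th power in the center of P (P/Z(P) has exponent p). -/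
theorem result {P : Type*} [Group P] [Finite P] (p : ℕ) [Fact p.Prime]
    (hP : IsPGroup p P) (a : ℕ) (ha : 1 ≤ a)
    (hcs : {k : ℕ | ∃ x : P, (Subgroup.centralizer ({x} : Set P)).index = k} = {1, p ^ a}) (x : P) :
    x ^ p ∈ Subgroup.center P := by
  classical
  have hprime : p.Prime := Fact.out
  by_contra hxp
  set Z := center P with hZ
  set C : P → Subgroup P := fun t => centralizer ({t} : Set P) with hCdef
  have hmemC : ∀ t k : P, k ∈ C t ↔ k * t = t * k := fun t k => mem_centralizer_singleton_iff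
  have hcen : ∀ {c : P}, c ∈ Z → ∀ k : P, Commute k c := fun h k => mem_center_iff.mp h k
  have hself : ∀ t : P, t ∈ C t := fun t => (hmemC t t).mpr rfl
  have hZC : ∀ t : P, Z ≤ C t := fun t k hk => (hmemC t k).mpr (hcen hk t).eq.symm
  have hidx : ∀ t : P, t ∉ Z → (C t).index = p ^ a := by
    intro t ht
    have h : (C t).index ∈ ({1, p ^ a} : Set ℕ) := hcs ▸ ⟨t, rfl⟩
    refine h.resolve_left fun h1 => ht (mem_center_iff.mpr fun k => ?_)
    exact (hmemC t k).mp ((index_eq_one.mp h1) ▸ Subgroup.mem_top k)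
  have hF1 : ∀ u v : P, u ∉ Z → v ∉ Z → C u ≤ C v → C u = C v := by
    intro u v hu hv hle
    have h := relIndex_mul_index hle
    rw [hidx u hu, hidx v hv] at h
    refine le_antisymm hle (relIndex_eq_one.mp ?_)
    exact Nat.eq_of_mul_eq_mul_right (Nat.pow_pos hprime.pos) (h.trans (one_mul _).symm)
  have hpow : ∀ u : P, ∀ m : ℕ, C u ≤ C (u ^ m) := fun u m k hk =>
    (hmemC _ k).mpr ((show Commute k u from (hmemC u k).mp hk).pow_right m)
  have hxZ : x ∉ Z := fun h => hxp (pow_mem h p)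
  have hCx : C x = C (x ^ p) := hF1 _ _ hxZ hxp (hpow x p)
  -- every noncentral element commuting with x has the same centralizer
  have hL : ∀ y : P, Commute x y → y ∉ Z → C y = C x := by
    have base : ∀ y : P, Commute x y → y ∉ Z → y ^ p ∈ Z → C y = C x := by
      intro y hc hy hyp
      have h1 : (x * y) ^ p ∉ Z := by
        rw [hc.mul_pow]
        exact fun h => hxp ((mul_mem_cancel_right hyp).mp h)
      have h2 : C (x * y) = C ((x * y) ^ p) := hF1 _ _ (fun h => h1 (pow_mem h p)) h1 (hpow _ p)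
      have h3 : C (x * y) = C x := by
        rw [h2, hCx]
        ext k
        rw [hmemC, hmemC, hc.mul_pow]
        constructor
        · intro h
          have := (show Commute k (x ^ p * y ^ p) from h).mul_right (hcen hyp k).inv_right
          rwa [mul_inv_cancel_right] at this
        · intro h
          exact (show Commute k (x ^ p) from h).mul_right (hcen hyp k)
      refine (hF1 x y hxZ hy fun k hk => ?_).symm
      have hk' : k ∈ C (x * y) := h3 ▸ hk
      have := (show Commute k x from (hmemC x k).mp hk).inv_right.mul_right (show Commute k (x * y) from (hmemC _ k).mp hk')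
      rw [inv_mul_cancel_left] at this
      exact (hmemC y k).mpr this
    intro y hc hy
    obtain ⟨k, hk⟩ := hP y
    induction k generalizing y with
    | zero => exact absurd (by rw [pow_zero, pow_one] at hk; rw [hk]; exact one_mem Z) hy
    | succ k ih =>
      by_cases hyp : y ^ p ∈ Z
      · exact base y hc hy hyp
      · rw [hF1 y (y ^ p) hy hyp (hpow y p)]
        exact ih (y ^ p) (hc.pow_right p) hyp (by rw [← pow_mul, ← pow_succ', hk])
  -- an element of the second centre
  obtain ⟨z, hzZ, hz⟩ : ∃ z : P, z ∉ Z ∧ ∀ y : P, y * z * y⁻¹ * z⁻¹ ∈ Z := by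
    haveI : Nontrivial (P ⧸ Z) :=
      ⟨⟨(x : P ⧸ Z), 1, fun h => hxZ ((QuotientGroup.eq_one_iff x).mp h)⟩⟩
    haveI := (hP.to_quotient Z).center_nontrivial
    obtain ⟨⟨zq, hzq⟩, hne⟩ := exists_ne (1 : center (P ⧸ Z))
    obtain ⟨z, rfl⟩ := QuotientGroup.mk'_surjective Z zq
    refine ⟨z, fun h => hne (Subtype.ext ((QuotientGroup.eq_one_iff z).mpr h)), fun y => ?_⟩
    rw [← QuotientGroup.ker_mk' Z, MonoidHom.mem_ker, map_mul, map_mul, map_mul, map_inv, map_inv,
      (mem_center_iff.mp hzq) (QuotientGroup.mk' Z y), mul_inv_cancel_right, mul_inv_cancel]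
  have hconj : ∀ y : P, ∃ c ∈ Z, y * z * y⁻¹ = c * z := fun y =>
    ⟨_, hz y, by rw [inv_mul_cancel_right]⟩
  have hzp : z ^ p ∈ Z := by
    by_contra h
    have hC : C z = C (z ^ p) := hF1 _ _ hzZ h (hpow z p)
    have key : ∀ k : ℕ, ∀ y c : P, c ∈ Z → y * z * y⁻¹ = c * z → c ^ p ^ k = 1 → c = 1 := by
      intro k
      induction k with
      | zero => intro y c _ _ hk; simpa using hk
      | succ k ih =>
        intro y c hcZ hc hk
        have h1 : c ^ p = 1 := ih _ _ (pow_mem hcZ p) (conj_pow_comm hc (hcen hcZ y) p)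
          (by rw [← pow_mul, ← pow_succ', hk])
        have h2 : y * z ^ p * y⁻¹ = z ^ p := by
          rw [← conj_pow, hc, (hcen hcZ z).symm.mul_pow, h1, one_mul]
        have h3 : y ∈ C z := hC ▸ (hmemC _ y).mpr (mul_inv_eq_iff_eq_mul.mp h2)
        have h4 : y * z * y⁻¹ = z := mul_inv_eq_iff_eq_mul.mpr ((hmemC z y).mp h3)
        rw [h4] at hc
        exact mul_eq_right.mp hc.symm
    refine h (mem_center_iff.mpr fun y => ?_)
    obtain ⟨c, hcZ, hc⟩ := hconj y
    obtain ⟨k, hk⟩ := hP c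
    rw [key k y c hcZ hc hk, one_mul, mul_inv_eq_iff_eq_mul] at hc
    exact ((show Commute y z from hc).pow_right p).eq
  have hzy : ∀ y : P, Commute (y ^ p) z := by
    intro y
    obtain ⟨c, hcZ, hc⟩ := hconj y
    have h2 : y * z ^ p * y⁻¹ = z ^ p := by
      rw [(hcen hzp y).eq, mul_inv_cancel_right]
    rw [← conj_pow, hc, (hcen hcZ z).symm.mul_pow] at h2
    have := conj_pow_comm hc (hcen hcZ y) p
    rw [mul_eq_right.mp h2, one_mul] at this
    exact mul_inv_eq_iff_eq_mul.mp this
  have hzx : Commute x z := by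
    have hzC : z ∈ C x := hCx ▸ (hmemC (x ^ p) z).mpr (hzy x).eq.symm
    exact ((hmemC x z).mp hzC).symm
  set A := C x with hA
  have hzA : C z = A := hL z hzx hzZ
  have hAab : ∀ u ∈ A, ∀ v ∈ A, u * v = v * u := by
    intro u hu v hv
    by_cases hvZ : v ∈ Z
    · exact (hcen hvZ u).eq
    · have : u ∈ C v := by rw [hL v ((hmemC x v).mp hv).symm hvZ]; exact hu
      exact (hmemC v u).mp this
  have hAn : A.Normal := by
    refine ⟨fun k hk g => ?_⟩
    rw [← hzA, hmemC] at hk ⊢
    obtain ⟨c, hcZ, hc⟩ := hconj g⁻¹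
    rw [inv_inv] at hc
    calc g * k * g⁻¹ * z = g * k * (g⁻¹ * z * g) * g⁻¹ := by group
      _ = g * k * (c * z) * g⁻¹ := by rw [hc]
      _ = g * c * (k * z) * g⁻¹ := by
        rw [mul_assoc g k, ← mul_assoc k c, (hcen hcZ k).eq]; group
      _ = g * c * (z * k) * g⁻¹ := by rw [hk]
      _ = g * (g⁻¹ * z * g) * k * g⁻¹ := by rw [hc]; group
      _ = z * (g * k * g⁻¹) := by group
  have hpA : ∀ y : P, y ^ p ∈ A := fun y => hzA ▸ (hmemC z _).mpr (hzy y)
  have hout : ∀ y : P, y ∉ A → y ^ p ∈ Z := by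
    intro y hy
    by_contra h
    refine hy ?_
    rw [← hL (y ^ p) ((hmemC x _).mp (hpA y)).symm h, hmemC]
    exact ((Commute.refl y).pow_right p).eq
  have hAmeet : ∀ y : P, y ∉ A → ∀ k ∈ A, Commute y k → k ∈ Z := by
    intro y hy k hk hc
    by_contra h
    refine hy ?_
    rw [← hL k ((hmemC x k).mp hk).symm h, hmemC]
    exact hc
  -- two independent commuting elements outside A
  obtain ⟨y, hy⟩ : ∃ y : P, y ∉ A := by
    by_contra h
    push Not at h
    exact hxZ (mem_center_iff.mpr fun k => (hmemC x k).mp (h k))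
  have hyZ : y ∉ Z := fun h => hy (hZC x h)
  set π := QuotientGroup.mk' Z with hπ
  obtain ⟨w, hwy, hw⟩ : ∃ w ∈ C y, π w ∉ zpowers (π y) := by
    by_contra h
    push Not at h
    have hle : (C y).map π ≤ zpowers (π y) := map_le_iff_le_comap.mpr h
    have h1 : Nat.card ((C y).map π) ≤ p := by
      refine le_trans (Nat.le_of_dvd Nat.card_pos (card_dvd_of_le hle)) ?_
      rw [Nat.card_zpowers]
      refine Nat.le_of_dvd hprime.pos (orderOf_dvd_of_pow_eq_one ?_)
      rw [← map_pow]; exact (QuotientGroup.eq_one_iff _).mpr (hout y hy)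
    have h2 : Nat.card ((C y).map π) = Nat.card (A.map π) := by
      rw [← relIndex_ker, ← relIndex_ker, hπ, QuotientGroup.ker_mk']
      have e1 := card_mul_index (C y)
      have e2 := card_mul_index A
      rw [hidx y hyZ] at e1
      rw [hA, hidx x hxZ] at e2
      have e3 : Nat.card (C y) = Nat.card A :=
        Nat.eq_of_mul_eq_mul_right (Nat.pow_pos hprime.pos) (e1.trans e2.symm)
      have e4 : Z.relIndex (C y) * Nat.card Z = Z.relIndex A * Nat.card Z := by
        have a1 := relIndex_mul_relIndex ⊥ Z (C y) bot_le (hZC y)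
        have a2 := relIndex_mul_relIndex ⊥ Z A bot_le (hZC x)
        simp only [relIndex_bot_left] at a1 a2
        rw [mul_comm, a1, mul_comm, a2, e3]
      exact Nat.eq_of_mul_eq_mul_right Nat.card_pos e4
    have h3 : orderOf (π x) ≤ Nat.card (A.map π) := by
      rw [← Nat.card_zpowers]
      exact Nat.le_of_dvd Nat.card_pos (card_dvd_of_le (zpowers_le.mpr (mem_map_of_mem π (hself x))))
    obtain ⟨k, hk⟩ := (IsPGroup.iff_orderOf.mp (hP.to_quotient Z)) (π x)
    rw [hk] at h3
    rcases Nat.lt_or_ge k 2 with hk2 | hk2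
    · refine hxp ?_
      rw [← QuotientGroup.eq_one_iff, ← QuotientGroup.mk'_apply, map_pow, ← orderOf_dvd_iff_pow_eq_one]
      rw [← hπ, hk]
      exact (Nat.pow_dvd_pow p (by omega : k ≤ 1)).trans (pow_one p).dvd
    · have := Nat.pow_le_pow_right hprime.pos hk2
      have hsq : p < p ^ 2 := by
        rw [pow_two]; exact lt_mul_of_one_lt_left hprime.pos hprime.one_lt
      omega
  replace hwy : Commute w y := (hmemC y w).mp hwy
  have huA : ∀ j : ℕ, y ^ j * w ∉ A := by
    intro j h
    refine hw ?_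
    have h1 : π (y ^ j * w) = 1 := (QuotientGroup.eq_one_iff _).mpr
      (hAmeet y hy _ h (((Commute.refl y).pow_right j).mul_right hwy.symm))
    rw [map_mul, map_pow, mul_eq_one_iff_eq_inv] at h1
    exact inv_mem_iff.mp (h1 ▸ pow_mem (mem_zpowers (π y)) j)
  -- the norm identity
  letI : CommGroup A := { (inferInstance : Group A) with mul_comm := fun u v => Subtype.ext (hAab u u.2 v v.2) }
  let f : P → A := fun u => ⟨u * x * u⁻¹, hAn.conj_mem x (hself x) u⟩
  have hfZ : ∀ u k : P, k ∈ Z → f (u * k) = f u := by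
    intro u k hk
    refine Subtype.ext ?_
    show u * k * x * (u * k)⁻¹ = u * x * u⁻¹
    rw [mul_assoc u k x, ← (hcen hk x).eq]; group
  let ZA : Subgroup A := Z.subgroupOf A
  have hnorm : ∀ u : P, u ∉ A → ∏ i : ZMod p, f (u ^ i.val) ∈ ZA := by
    intro u hu
    rw [prod_val p (fun i => f (u ^ i))]
    have key : ∀ n : ℕ, (x * u) ^ n = ((∏ i ∈ Finset.range n, f (u ^ i) : A) : P) * u ^ n := by
      intro n
      induction n with
      | zero => simp
      | succ n ih =>
        rw [pow_succ, ih, Finset.prod_range_succ, Subgroup.coe_mul]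
        show _ = _ * (u ^ n * x * (u ^ n)⁻¹) * u ^ (n + 1)
        rw [pow_succ]; group
    have hxu : x * u ∉ A := fun h => hu (by simpa using mul_mem (inv_mem (hself x)) h)
    have h1 := key p
    rw [mem_subgroupOf]
    have h2 : ((∏ i ∈ Finset.range p, f (u ^ i) : A) : P) = (x * u) ^ p * (u ^ p)⁻¹ := by
      rw [h1]; group
    rw [h2]
    exact mul_mem (hout _ hxu) (inv_mem (hout u hu))
  let g : ZMod p → ZMod p → A := fun k i => f (w ^ i.val * y ^ k.val)
  have hgrid := prod_grid g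
  have e1 : ∀ j i : ZMod p, g (j * i) i = f ((y ^ j.val * w) ^ i.val) := by
    intro j i
    show f (w ^ i.val * y ^ (j * i).val) = _
    rw [(hwy.symm.pow_left j.val).mul_pow, ← pow_mul, (hwy.symm.pow_pow _ _).eq,
      ZMod.val_mul]
    conv_rhs => rw [← Nat.mod_add_div (j.val * i.val) p, pow_add, pow_mul, ← mul_assoc]
    exact (hfZ _ _ (pow_mem (hout y hy) _)).symm
  have hg0 : ∀ k : ZMod p, g k 0 = f (y ^ k.val) := fun k => by
    show f (w ^ (0 : ZMod p).val * y ^ k.val) = _
    rw [ZMod.val_zero, pow_zero, one_mul]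
  have hN0 : ∏ k : ZMod p, g k 0 ∈ ZA := by
    rw [Finset.prod_congr rfl (fun k _ => hg0 k)]
    exact hnorm y hy
  have e2 : ∀ i : ZMod p, ∏ k : ZMod p, g k i = ∏ k : ZMod p, g k 0 := by
    intro i
    let φ : A →* A :=
      { toFun := fun u => ⟨w ^ i.val * u * (w ^ i.val)⁻¹, hAn.conj_mem _ u.2 _⟩
        map_one' := Subtype.ext (by simp)
        map_mul' := fun u v => Subtype.ext (by
          simp only [Subgroup.coe_mul]; group) }
    have hφ : ∀ k : ZMod p, g k i = φ (g k 0) := fun k => by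
      rw [hg0 k]
      refine Subtype.ext ?_
      show w ^ i.val * y ^ k.val * x * (w ^ i.val * y ^ k.val)⁻¹ =
        w ^ i.val * (y ^ k.val * x * (y ^ k.val)⁻¹) * (w ^ i.val)⁻¹
      group
    rw [Finset.prod_congr rfl (fun k _ => hφ k), ← map_prod]
    refine Subtype.ext ?_
    show w ^ i.val * _ * (w ^ i.val)⁻¹ = _
    rw [(hcen (mem_subgroupOf.mp hN0) (w ^ i.val)).eq, mul_inv_cancel_right]
  have hlhs : (∏ j : ZMod p, ∏ i : ZMod p, g (j * i) i) * ∏ k : ZMod p, g k 0 ∈ ZA := by
    refine mul_mem (prod_mem fun j _ => ?_) hN0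
    rw [Finset.prod_congr rfl (fun i _ => e1 j i)]
    exact hnorm _ (huA j.val)
  rw [hgrid] at hlhs
  have hall : ∏ i : ZMod p, ∏ k : ZMod p, g k i ∈ ZA := prod_mem fun i _ => e2 i ▸ hN0
  have hfin : g 0 0 ^ p ∈ ZA := (mul_mem_cancel_right hall).mp hlhs
  refine hxp ?_
  have h00 : ((g 0 0 : A) : P) = x := by
    rw [hg0 0]
    show y ^ (0 : ZMod p).val * x * (y ^ (0 : ZMod p).val)⁻¹ = x
    simp
  have := mem_subgroupOf.mp hfin
  rwa [Subgroup.coe_pow, h00] at this

end Cfsg.Agent.S4365
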