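import Cfsg.Statements.S4370
import Cfsg.Agent.Lib.PGroups.UniqueInvolution
import Cfsg.Agent.Lib.Transfer.Frobenius

set_option autoImplicit false
open Cfsg

namespace Cfsg.Agent.S4370

open Subgroup

theorem zmod_double {n : ℕ} [NeZero n] {j : ZMod (2 * n)} (h : j + j = 0) :
    j = 0 ∨ j = (n : ZMod (2 * n)) := by
  have hv := ZMod.natCast_zmod_val j
  have hlt := ZMod.val_lt j
  rw [← hv, ← Nat.cast_add, ZMod.natCast_eq_zero_iff] at h
  obtain ⟨c, hc⟩ := h
  have hn := NeZero.pos n
  rcases c with _ | _ | c
  · left; rw [← hv, show j.val = 0 by omega]; simp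
  · right; rw [← hv, show j.val = n by omega]
  · nlinarith

theorem centralizer_cyclic {n : ℕ} [NeZero n] (q : QuaternionGroup n)
    (hq : q ∉ center (QuaternionGroup n)) :
    IsCyclic ↥(centralizer ({q} : Set (QuaternionGroup n))) := by
  suffices ∃ g, centralizer ({q} : Set (QuaternionGroup n)) ≤ zpowers g by
    obtain ⟨g, hg⟩ := this
    exact isCyclic_of_injective (Subgroup.inclusion hg) (Subgroup.inclusion_injective hg)
  rcases q with i | i
  · refine ⟨QuaternionGroup.a 1, fun c hc => ?_⟩
    rw [mem_centralizer_singleton_iff] at hc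
    rcases c with j | j
    · rw [← ZMod.natCast_zmod_val j, ← QuaternionGroup.a_one_pow]
      exact pow_mem (mem_zpowers _) _
    · exfalso
      apply hq
      rw [QuaternionGroup.a_mul_xa, QuaternionGroup.xa_mul_a, QuaternionGroup.xa.injEq] at hc
      have hii : -i = i := by linear_combination -hc
      rw [mem_center_iff]
      rintro (k | k)
      · rw [QuaternionGroup.a_mul_a, QuaternionGroup.a_mul_a, add_comm]
      · rw [QuaternionGroup.xa_mul_a, QuaternionGroup.a_mul_xa, sub_eq_add_neg, hii]
  · refine ⟨QuaternionGroup.xa i, fun c hc => ?_⟩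
    rw [mem_centralizer_singleton_iff] at hc
    have h2 : (QuaternionGroup.xa i) ^ 2 = QuaternionGroup.a (n : ZMod (2 * n)) :=
      QuaternionGroup.xa_sq i
    rcases c with j | j
    · rw [QuaternionGroup.a_mul_xa, QuaternionGroup.xa_mul_a, QuaternionGroup.xa.injEq] at hc
      have h : j + j = 0 := by linear_combination -hc
      rcases zmod_double h with rfl | rfl
      · rw [QuaternionGroup.a_zero]; exact one_mem _
      · rw [← h2]; exact pow_mem (mem_zpowers _) _
    · rw [QuaternionGroup.xa_mul_xa, QuaternionGroup.xa_mul_xa, QuaternionGroup.a.injEq] at hc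
      have h : (j - i) + (j - i) = 0 := by linear_combination -hc
      rcases zmod_double h with h | h
      · rw [sub_eq_zero] at h; subst h; exact mem_zpowers _
      · have : QuaternionGroup.xa j = QuaternionGroup.xa i * (QuaternionGroup.xa i) ^ 2 := by
          rw [h2, QuaternionGroup.xa_mul_a, ← h, add_sub_cancel]
        rw [this]
        exact mul_mem (mem_zpowers _) (pow_mem (mem_zpowers _) _)

theorem mem_zpowers_of_orderOf_eq {K : Type*} [Group K] [Finite K] [IsCyclic K] {x y : K} {p : ℕ}
    (hp : 0 < p) (hx : orderOf x = p) (hy : orderOf y = p) : y ∈ zpowers x := by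
  classical
  have := Fintype.ofFinite K
  have hcard := IsCyclic.card_pow_eq_one_le (α := K) hp
  have hsub : (zpowers x : Set K).toFinset ⊆ Finset.univ.filter (fun u : K => u ^ p = 1) := by
    intro u hu
    rw [Set.mem_toFinset, SetLike.mem_coe] at hu
    obtain ⟨k, rfl⟩ := mem_zpowers_iff.1 hu
    rw [Finset.mem_filter, ← zpow_natCast, ← zpow_mul, mul_comm, zpow_mul, zpow_natCast, ← hx,
      pow_orderOf_eq_one, one_zpow]
    exact ⟨Finset.mem_univ _, rfl⟩
  have hc2 : (zpowers x : Set K).toFinset.card = p := by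
    rw [← Set.ncard_eq_toFinset_card', ← Nat.card_coe_set_eq]
    exact (Nat.card_zpowers x).trans hx
  have he := Finset.eq_of_subset_of_card_le hsub (by rw [hc2]; exact hcard)
  have hy' : y ∈ Finset.univ.filter (fun u : K => u ^ p = 1) := by
    simp [← hy, pow_orderOf_eq_one]
  rw [← he, Set.mem_toFinset] at hy'
  exact hy'

theorem forward {G : Type*} [Group G] [Finite G] (hG : Group.IsNilpotent G)
    (hna : ¬ IsMulCommutative G)
    (h : ∀ x : G, x ∉ Subgroup.center G → IsCyclic (Subgroup.centralizer ({x} : Set G))) :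
    ∃ (k m : ℕ), 1 ≤ k ∧ Odd m ∧
      Nonempty (G ≃* QuaternionGroup (2 ^ k) × Multiplicative (ZMod m)) := by
  have := Fact.mk Nat.prime_two
  obtain ⟨g, hg⟩ : ∃ g : G, g ∉ center G := by
    by_contra! h'
    exact hna ⟨⟨fun a b => (mem_center_iff.1 (h' b)) a⟩⟩
  have hZc : IsCyclic ↥(center G) := by
    have hle : center G ≤ centralizer {g} := fun c hc =>
      mem_centralizer_singleton_iff.2 (mem_center_iff.1 hc g).symm
    have := h g hg
    exact isCyclic_of_injective (Subgroup.inclusion hle) (Subgroup.inclusion_injective hle)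
  have hcen : ∀ p : ℕ, p.Prime → ∀ x : G, orderOf x = p → x ∈ center G := by
    intro p hp x hx
    have := Fact.mk hp
    by_contra hxc
    obtain ⟨P⟩ : Nonempty (Sylow p G) := inferInstance
    obtain ⟨P', hP'⟩ := (IsPGroup.of_card (p := p) (n := 1)
      (by rw [Nat.card_zpowers, hx, pow_one]) : IsPGroup p (zpowers x)).exists_le_sylow
    have hne : (P' : Subgroup G) ≠ ⊥ := fun h0 => by
      have hx1 : x = 1 := mem_bot.1 (h0 ▸ hP' (mem_zpowers x))
      rw [hx1, orderOf_one] at hx
      exact hp.one_lt.ne hx
    have : Nontrivial ↥(P' : Subgroup G) := (Subgroup.nontrivial_iff_ne_bot _).2 hne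
    obtain ⟨z, hz⟩ := exists_prime_orderOf_dvd_card' (G := center ↥(P' : Subgroup G)) p (by
      have := P'.2.center_nontrivial
      obtain ⟨k, hk, hcard⟩ := (P'.2.to_subgroup (center ↥(P' : Subgroup G))).nontrivial_iff_card.1 inferInstance
      rw [hcard]; exact dvd_pow_self p hk.ne')
    have hzG : ((z : ↥(P' : Subgroup G)) : G) ∈ center G := by
      rw [mem_center_iff]
      intro u
      -- decompose `u` along `P'` and its centralizer
      have hC : ∀ y : G, (orderOf y).Coprime p → y * (z : ↥(P' : Subgroup G)) = (z : ↥(P' : Subgroup G)) * y :=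
        fun y hy => Lib.Transfer.Frobenius.commute_of_coprime_of_isNilpotent (by
          rw [show orderOf ((z : ↥(P' : Subgroup G)) : G) = p by
            rw [Subgroup.orderOf_coe, Subgroup.orderOf_coe, hz]]
          exact hy)
      obtain ⟨a, b, rfl, ha, hb⟩ : ∃ a b : G, u = a * b ∧ a ∈ (P' : Subgroup G) ∧
          (orderOf b).Coprime p := by
        obtain ⟨v, hv⟩ : ∃ v, v = (Nat.card P') := ⟨_, rfl⟩
        have hco : (Nat.card P').Coprime (P' : Subgroup G).index := by
          rw [P'.card_eq_multiplicity]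
          exact Nat.Coprime.pow_left _ (hp.coprime_iff_not_dvd.2 P'.not_dvd_index)
        obtain ⟨s, t, hst⟩ := (Nat.isCoprime_iff_coprime.2 hco)
        refine ⟨u ^ (t * (P' : Subgroup G).index), u ^ (s * Nat.card P'), ?_, ?_, ?_⟩
        · rw [← zpow_add, add_comm, hst, zpow_one]
        · rw [mul_comm, zpow_mul, zpow_natCast]
          exact zpow_mem ((P' : Subgroup G).pow_index_mem u) _
        · have hd : orderOf (u ^ (s * (Nat.card P' : ℤ))) ∣ (P' : Subgroup G).index := by
            apply orderOf_dvd_of_pow_eq_one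
            rw [← zpow_natCast, ← zpow_mul, mul_assoc, ← Nat.cast_mul,
              (P' : Subgroup G).card_mul_index, mul_comm, zpow_mul, zpow_natCast,
              pow_card_eq_one', one_zpow]
          exact Nat.Coprime.coprime_dvd_left hd
            ((hp.coprime_iff_not_dvd.2 P'.not_dvd_index).symm)
      have h1 : a * (z : ↥(P' : Subgroup G)) = (z : ↥(P' : Subgroup G)) * a :=
        congrArg Subtype.val (mem_center_iff.1 z.2 ⟨a, ha⟩)
      rw [mul_assoc, hC b hb, ← mul_assoc, h1, mul_assoc]
    have hxz : x ∈ zpowers ((z : ↥(P' : Subgroup G)) : G) := by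
      have := h x hxc
      have hzx : ((z : ↥(P' : Subgroup G)) : G) ∈ centralizer {x} :=
        mem_centralizer_singleton_iff.2 (mem_center_iff.1 hzG x).symm
      have hxx : x ∈ centralizer {x} := mem_centralizer_singleton_iff.2 rfl
      obtain ⟨k, hk⟩ := mem_zpowers_of_orderOf_eq hp.pos
        (x := (⟨_, hzx⟩ : ↥(centralizer {x}))) (y := ⟨x, hxx⟩)
        (by rw [Subgroup.orderOf_mk, Subgroup.orderOf_coe, Subgroup.orderOf_coe, hz])
        (by rw [← Subgroup.orderOf_coe]; exact hx)
      exact ⟨k, by simpa using congrArg Subtype.val hk⟩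
    exact hxc ((zpowers_le.2 hzG) hxz)
  have huniq : ∀ p : ℕ, p.Prime → ∀ x y : G, orderOf x = p → orderOf y = p → y ∈ zpowers x := by
    intro p hp x y hx hy
    obtain ⟨k, hk⟩ := mem_zpowers_of_orderOf_eq hp.pos
      (x := (⟨x, hcen p hp x hx⟩ : ↥(center G))) (y := ⟨y, hcen p hp y hy⟩)
      (by rw [← Subgroup.orderOf_coe]; exact hx) (by rw [← Subgroup.orderOf_coe]; exact hy)
    exact ⟨k, by simpa using congrArg Subtype.val hk⟩
  have hsyl : ∀ p : ℕ, ∀ [Fact p.Prime], ∀ P : Sylow p G, IsCyclic P ∨
      (p = 2 ∧ ∃ n : ℕ, 1 ≤ n ∧ Nonempty (P ≃* QuaternionGroup (2 ^ n))) := by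
    intro p hp P
    refine Lib.PGroups.isCyclic_or_quaternion P.2 fun x y hx hy => ?_
    obtain ⟨k, hk⟩ := huniq p hp.out (x : G) (y : G) (by rw [Subgroup.orderOf_coe, hx])
      (by rw [Subgroup.orderOf_coe, hy])
    exact ⟨k, Subtype.ext (by simpa using hk)⟩
  obtain ⟨P⟩ : Nonempty (Sylow 2 G) := inferInstance
  rcases hsyl 2 P with hcyc | ⟨-, n, hn, ⟨e⟩⟩
  · exfalso
    have : IsZGroup G := ⟨fun p hp Q => by
      have := Fact.mk hp
      rcases hsyl p Q with hQ | ⟨rfl, -⟩
      · exact hQ
      · have := Sylow.unique_of_normal P inferInstance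
        rwa [Subsingleton.elim Q P]⟩
    exact hna (IsCyclic.isMulCommutative (α := G))
  · have hco : (Nat.card (P : Subgroup G)).Coprime (P : Subgroup G).index := by
      rw [P.card_eq_multiplicity]
      exact Nat.Coprime.pow_left _ ((Nat.prime_two.coprime_iff_not_dvd).2 P.not_dvd_index)
    obtain ⟨K, hK⟩ := Subgroup.exists_right_complement'_of_coprime hco
    have hKc : Nat.card K = (P : Subgroup G).index := (hK.symm.index_eq_card).symm
    have hKodd : Odd (Nat.card K) := by
      rw [hKc, Nat.odd_iff]
      have := P.not_dvd_index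
      omega
    have hcomm : ∀ (a : ↥(P : Subgroup G)) (b : K), Commute (a : G) (b : G) := fun a b =>
      Lib.Transfer.Frobenius.commute_of_coprime_of_isNilpotent (by
        rw [Subgroup.orderOf_coe, Subgroup.orderOf_coe]
        exact (hco.coprime_dvd_left (orderOf_dvd_natCard a)).coprime_dvd_right
          (hKc ▸ orderOf_dvd_natCard b))
    have hKz : IsZGroup K := ⟨fun p hp Q => by
      have := Fact.mk hp
      have hp2 : p = 2 → IsCyclic Q := by
        rintro rfl
        have : Nat.card Q = 1 := by
          rw [Q.card_eq_multiplicity, Nat.factorization_eq_zero_of_not_dvd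
            (fun h => by
              have := hKodd.of_dvd_nat h
              exact absurd this (by decide)), pow_zero]
        have := (Nat.card_eq_one_iff_unique.1 this).1
        exact inferInstance
      obtain ⟨R, hR⟩ := ((Q.2.map K.subtype).exists_le_sylow)
      rcases hsyl p R with hc | ⟨h2, -⟩
      · let f : Q →* R :=
          (Subgroup.inclusion hR).comp ((Q : Subgroup K).equivMapOfInjective _ K.subtype_injective).toMonoidHom
        exact isCyclic_of_injective f
          ((Subgroup.inclusion_injective hR).comp (MulEquiv.injective _))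
      · exact hp2 h2⟩
    have hKcyc : IsCyclic K := inferInstance
    refine ⟨n, Nat.card K, hn, hKodd, ⟨MulEquiv.trans ?_ (MulEquiv.prodCongr e (zmodCyclicMulEquiv hKcyc).symm)⟩⟩
    exact (MulEquiv.ofBijective
      (MonoidHom.noncommCoprod (P : Subgroup G).subtype K.subtype hcomm) hK).symm

theorem backward {G : Type*} [Group G] {k m : ℕ} [NeZero m] (hm : Odd m)
    (e : G ≃* QuaternionGroup (2 ^ k) × Multiplicative (ZMod m)) (x : G) (hx : x ∉ center G) :
    IsCyclic (centralizer ({x} : Set G)) := by
  have : NeZero (2 ^ k) := ⟨(pow_pos two_pos _).ne'⟩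
  have hq : (e x).1 ∉ center (QuaternionGroup (2 ^ k)) := fun h => hx (by
    rw [mem_center_iff] at h ⊢
    intro y
    apply e.injective
    rw [map_mul, map_mul]
    exact Prod.ext (h (e y).1) (mul_comm _ _))
  have := centralizer_cyclic _ hq
  have hprod : IsCyclic (↥(centralizer ({(e x).1} : Set (QuaternionGroup (2 ^ k)))) ×
      Multiplicative (ZMod m)) := by
    rw [Group.isCyclic_prod_iff]
    refine ⟨inferInstance, inferInstance, ?_⟩
    refine Nat.Coprime.coprime_dvd_left (Subgroup.card_subgroup_dvd_card _) ?_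
    rw [Nat.card_eq_fintype_card, QuaternionGroup.card, Nat.card_congr Multiplicative.toAdd,
      Nat.card_zmod, show 4 * 2 ^ k = 2 ^ (k + 2) by ring]
    exact Nat.Coprime.pow_left _ hm.coprime_two_left
  let f : ↥(centralizer ({x} : Set G)) →*
      ↥(centralizer ({(e x).1} : Set (QuaternionGroup (2 ^ k)))) × Multiplicative (ZMod m) :=
    { toFun := fun c => (⟨(e (c : G)).1, by
          have := congrArg (fun u => (e u).1) (mem_centralizer_singleton_iff.1 c.2)
          exact mem_centralizer_singleton_iff.2 (by simpa using this)⟩, (e (c : G)).2)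
      map_one' := by ext <;> simp
      map_mul' := fun a b => by ext <;> simp }
  refine isCyclic_of_injective f fun a b h => Subtype.ext (e.injective (Prod.ext ?_ ?_))
  · exact congrArg Subtype.val (congrArg Prod.fst h)
  · have h2 := congrArg Prod.snd h
    simpa [f] using h2

/-- Let G be a finite non-abelian nilpotent group. Then the centralizer of every non-central element of G is cyclic if and only if G is isomorphic to the direct product of a generalized quaternion group and a cyclic group of odd order. -/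
theorem result {G : Type*} [Group G] [Finite G] (hG : Group.IsNilpotent G)
    (hna : ¬ IsMulCommutative G) :
    (∀ x : G, x ∉ Subgroup.center G → IsCyclic (Subgroup.centralizer ({x} : Set G))) ↔
      ∃ (k m : ℕ), 1 ≤ k ∧ Odd m ∧ Nonempty (G ≃* QuaternionGroup (2 ^ k) × Multiplicative (ZMod m)) := by
  refine ⟨forward hG hna, ?_⟩
  rintro ⟨k, m, -, hm, ⟨e⟩⟩ x hx
  have : NeZero m := ⟨hm.pos.ne'⟩
  exact backward hm e x hx

end Cfsg.Agent.S4370
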