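import Cfsg.Statements.S4371
import Cfsg.Agent.Lib.ThreeOrders.CITCase
-- import your own Cfsg.Agent.* helpers here

set_option autoImplicit false
open Cfsg

namespace Cfsg.Agent.S4371

/-- Let G be a finite non-solvable group in which no prime divides three pairwise distinct element orders. Then one of the following holds, where 'a product of at most two primes' always counts primes with multiplicity: the quotient of G by its largest normal 2-subgroup is isomorphic to PSL(2, q) with q = 2ᶠ ≥ 4 and each of q + 1, q - 1 a product of at most two primes; G is isomorphic to PSL(2, q) with q > 5, q ≡ 3 or 5 (mod 8) and each of (q + 1)/2, (q - 1)/2 a product of at most two primes; G is isomorphic to PSL(2, 7), PSL(2, 9) or PSL(3, 4); or G is simple of order q²(q² + 1)(q - 1), the order of the Suzuki group Sz(q), where q = 2²ⁿ⁺¹ ≥ 8, and each of q - 1, q - r + 1, q + r + 1 (r = 2ⁿ⁺¹) is a product of at most two primes.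 -/
theorem result {G : Type*} [Group G] [Finite G]
    (hG : ¬ Group.IsSolvable G) (h3 : (∀ p : ℕ, p.Prime → ∀ a b c : G, orderOf a ≠ orderOf b → orderOf b ≠ orderOf c → orderOf a ≠ orderOf c → ¬ (p ∣ orderOf a ∧ p ∣ orderOf b ∧ p ∣ orderOf c))) :
    (∃ (F : Type) (_ : Field F) (_ : Fintype F), CharP F 2 ∧ 4 ≤ Fintype.card F ∧
        (Fintype.card F + 1).primeFactorsList.length ≤ 2 ∧ (Fintype.card F - 1).primeFactorsList.length ≤ 2 ∧
        Nonempty (G ⧸ Cfsg.pCore 2 G ≃* Matrix.ProjectiveSpecialLinearGroup (Fin 2) F)) ∨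
    (∃ (F : Type) (_ : Field F) (_ : Fintype F), 5 < Fintype.card F ∧ (Fintype.card F % 8 = 3 ∨ Fintype.card F % 8 = 5) ∧
        ((Fintype.card F + 1) / 2).primeFactorsList.length ≤ 2 ∧ ((Fintype.card F - 1) / 2).primeFactorsList.length ≤ 2 ∧
        Nonempty (G ≃* Matrix.ProjectiveSpecialLinearGroup (Fin 2) F)) ∨
    (∃ (F : Type) (_ : Field F) (_ : Fintype F), (Fintype.card F = 7 ∨ Fintype.card F = 9) ∧
        Nonempty (G ≃* Matrix.ProjectiveSpecialLinearGroup (Fin 2) F)) ∨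
    (∃ (F : Type) (_ : Field F) (_ : Fintype F), Fintype.card F = 4 ∧ Nonempty (G ≃* Matrix.ProjectiveSpecialLinearGroup (Fin 3) F)) ∨
    (∃ n : ℕ, 1 ≤ n ∧ IsSimpleGroup G ∧ Nat.card G = (2 ^ (2 * n + 1)) ^ 2 * ((2 ^ (2 * n + 1)) ^ 2 + 1) * (2 ^ (2 * n + 1) - 1) ∧
        (2 ^ (2 * n + 1) - 1).primeFactorsList.length ≤ 2 ∧ (2 ^ (2 * n + 1) - 2 ^ (n + 1) + 1).primeFactorsList.length ≤ 2 ∧
        (2 ^ (2 * n + 1) + 2 ^ (n + 1) + 1).primeFactorsList.length ≤ 2) := by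
  have h : Cfsg.Agent.Lib.ThreeOrders.H3 G := h3
  have even : (∃ (F : Type) (_ : Field F) (_ : Fintype F), (∃ n : ℕ, 2 ≤ n ∧ Fintype.card F = 2 ^ n) ∧
      Nonempty (G ⧸ Cfsg.pCore 2 G ≃* Matrix.ProjectiveSpecialLinearGroup (Fin 2) F)) →
      ∃ (F : Type) (_ : Field F) (_ : Fintype F), CharP F 2 ∧ 4 ≤ Fintype.card F ∧
        (Fintype.card F + 1).primeFactorsList.length ≤ 2 ∧ (Fintype.card F - 1).primeFactorsList.length ≤ 2 ∧
        Nonempty (G ⧸ Cfsg.pCore 2 G ≃* Matrix.ProjectiveSpecialLinearGroup (Fin 2) F) := by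
    rintro ⟨F, iF, iT, ⟨n, hn2, hn⟩, ⟨e⟩⟩
    haveI : Fact (Nat.Prime 2) := ⟨Nat.prime_two⟩
    have hev : Even (Fintype.card F) := hn ▸ Nat.even_pow.2 ⟨even_two, by omega⟩
    obtain ⟨⟨x, hx⟩, ⟨y, hy⟩⟩ := Lib.CITSuzuki.Orders.psl_two_even (F := F) hev
    refine ⟨F, iF, iT, charP_of_card_eq_prime_pow hn, ?_, ?_, ?_, ⟨e⟩⟩
    · rw [hn]
      exact (show 4 = 2 ^ 2 by norm_num) ▸ Nat.pow_le_pow_right (by norm_num) hn2
    · exact (h.quotient _).length_of_dvd (g := e.symm y) (dvd_of_eq (by rw [MulEquiv.orderOf_eq, hy]))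
    · exact (h.quotient _).length_of_dvd (g := e.symm x) (dvd_of_eq (by rw [MulEquiv.orderOf_eq, hx]))
  rcases h.cit_or_noFour with hcit | h4
  · rcases Lib.ThreeOrders.cit_main hcit h hG with r | r | r | ⟨F, iF, iT, m, hm, hF, hsimp, ⟨e⟩⟩
    · exact Or.inl (even r)
    · exact Or.inr (Or.inr (Or.inl r))
    · exact Or.inr (Or.inr (Or.inr (Or.inl r)))
    · have hk : Lib.LieTwisted.Suzuki.IsSzField F m := ⟨hF⟩
      have tor : ∀ k : ℕ, k ∈ ({2 ^ (2 * m + 1) + 2 ^ (m + 1) + 1, 2 ^ (2 * m + 1) - 2 ^ (m + 1) + 1} : Set ℕ) →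
          k.primeFactorsList.length ≤ 2 := fun k hk' => by
        obtain ⟨g, hg⟩ := Lib.CITSuzuki.Lists.exists_of_sz hk hm e (Lib.CITSuzuki.Orders.sz_torus_order hk hm hk')
        exact h.length_of_dvd (g := g) (dvd_of_eq hg.symm)
      obtain ⟨g, hg⟩ := Lib.CITSuzuki.Lists.exists_of_sz hk hm e (Lib.CITSuzuki.Orders.sz_split_order hk hm)
      refine Or.inr (Or.inr (Or.inr (Or.inr ⟨m, hm, hsimp, ?_, ?_, tor _ (Or.inr rfl), tor _ (Or.inl rfl)⟩)))
      · rw [Nat.card_congr (e.trans (Lib.LieTwisted.Suzuki.szEquiv hk hm).symm).toEquiv, hk.card_group hm, hF]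
      · exact h.length_of_dvd (g := g) (dvd_of_eq (by rw [hg, hF]))
  · obtain ⟨hbot, r⟩ := Lib.ThreeOrders.noFour_main h h4 hG
    rcases r with ⟨F, iF, iT, hn, ⟨e⟩⟩ | ⟨F, iF, iT, h5, h8, ⟨e⟩⟩
    · exact Or.inl (even ⟨F, iF, iT, hn,
        ⟨((QuotientGroup.quotientMulEquivOfEq hbot).trans QuotientGroup.quotientBot).trans e⟩⟩)
    · have hodd : Odd (Fintype.card F) := Nat.odd_iff.2 (by omega)
      obtain ⟨⟨x, hx, -⟩, ⟨y, hy, -⟩⟩ := Lib.CITSuzuki.Orders.psl_two_odd (F := F) hodd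
      exact Or.inr (Or.inl ⟨F, iF, iT, h5, h8,
        h.length_of_dvd (g := e.symm y) (by rwa [MulEquiv.orderOf_eq]),
        h.length_of_dvd (g := e.symm x) (by rwa [MulEquiv.orderOf_eq]), ⟨e⟩⟩)

end Cfsg.Agent.S4371
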