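import Cfsg.Statements.S4377
-- import your own Cfsg.Agent.* helpers here

set_option autoImplicit false
open Cfsg

namespace Cfsg.Agent.S4377

open Finset in
theorem card_pow_eq_one {G : Type*} [Group G] [Finite G] {n : ℕ} (hn : n ≠ 0) :
    Nat.card {g : G // g ^ n = 1} = ∑ d ∈ n.divisors, Nat.card {g : G // orderOf g = d} := by
  classical
  have := Fintype.ofFinite G
  simp only [Nat.card_eq_fintype_card, Fintype.card_subtype]
  rw [Finset.card_eq_sum_card_fiberwise (f := orderOf) (t := n.divisors)
    (fun g hg => by simpa [hn, orderOf_dvd_iff_pow_eq_one] using hg)]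
  refine Finset.sum_congr rfl fun d hd => ?_
  congr 1
  ext g
  simp only [Finset.mem_filter, Finset.mem_univ, true_and, and_iff_right_iff_imp]
  rintro rfl
  exact orderOf_dvd_iff_pow_eq_one.1 (Nat.dvd_of_mem_divisors hd)

theorem card_orderOf_zero {G : Type*} [Group G] [Finite G] :
    Nat.card {g : G // orderOf g = 0} = 0 := by
  have : IsEmpty {g : G // orderOf g = 0} :=
    ⟨fun g => (orderOf_pos g.1).ne' g.2⟩
  exact Nat.card_of_isEmpty


/-- Two finite groups have the same number of elements of each order if and only if, for every n, they have the same number of elements g with gⁿ = 1. -/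
theorem result {G H : Type*} [Group G] [Finite G] [Group H] [Finite H] :
    (∀ n : ℕ, Nat.card {g : G // orderOf g = n} = Nat.card {h : H // orderOf h = n}) ↔
      ∀ n : ℕ, Nat.card {g : G // g ^ n = 1} = Nat.card {h : H // h ^ n = 1} := by
  constructor
  · intro h n
    let e : G ≃ H := ((Equiv.sigmaFiberEquiv (orderOf : G → ℕ)).symm.trans
      (Equiv.sigmaCongrRight fun d => (Finite.card_eq.1 (h d)).some)).trans
      (Equiv.sigmaFiberEquiv (orderOf : H → ℕ))
    have he : ∀ g, orderOf (e g) = orderOf g := fun g => by
      simp only [e, Equiv.trans_apply, Equiv.sigmaFiberEquiv, Equiv.coe_fn_symm_mk,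
        Equiv.sigmaCongrRight_apply, Equiv.coe_fn_mk]
      exact ((Finite.card_eq.1 (h (orderOf g))).some ⟨g, rfl⟩).2
    refine Nat.card_congr (e.subtypeEquiv fun g => ?_)
    rw [← orderOf_dvd_iff_pow_eq_one, ← orderOf_dvd_iff_pow_eq_one, he]
  · intro h n
    induction n using Nat.strong_induction_on with
    | _ n ih =>
      rcases eq_or_ne n 0 with rfl | hn
      · rw [card_orderOf_zero, card_orderOf_zero]
      · have := h n
        rw [card_pow_eq_one hn, card_pow_eq_one hn, ← Nat.insert_self_properDivisors hn,
          Finset.sum_insert Nat.self_notMem_properDivisors,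
          Finset.sum_insert Nat.self_notMem_properDivisors,
          Finset.sum_congr rfl fun d hd => ih d (Nat.mem_properDivisors.1 hd).2] at this
        omega

end Cfsg.Agent.S4377
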