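import Cfsg.Statements.S4381
import Cfsg.Agent.Lib.Coprime.Action
import Cfsg.Agent.Lib.PGroups.Frattini

set_option autoImplicit false
open Pointwise
open Cfsg

namespace Cfsg.Agent.S4381

open Subgroup

/-- Averaging: an invariant subgroup of an abelian group of exponent `p` has an invariant complement. -/
theorem invariant_complement {A V : Type*} [Group A] [Finite A] [CommGroup V] [Finite V]
    (ρ : A →* MulAut V) {p : ℕ} (hp : p.Prime) (hexp : ∀ v : V, v ^ p = 1)
    (hcop : ¬ p ∣ Nat.card A) (W : Subgroup V) (hW : ∀ a, ∀ w ∈ W, ρ a w ∈ W) :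
    ∃ L : Subgroup V, (∀ a, ∀ v ∈ L, ρ a v ∈ L) ∧ L ⊓ W = ⊥ ∧ L ⊔ W = ⊤ := by
  classical
  have := Fintype.ofFinite A
  have := Fact.mk hp
  -- some complement
  have hwf : ∃ U : Subgroup V, U ⊓ W = ⊥ ∧ ∀ U' : Subgroup V, U ≤ U' → U' ⊓ W = ⊥ → U' ≤ U := by
    obtain ⟨U, hU, hmax⟩ := wellFounded_gt.has_min {U : Subgroup V | U ⊓ W = ⊥} ⟨⊥, bot_inf_eq W⟩
    exact ⟨U, hU, fun U' h1 h2 => (eq_of_le_of_not_lt h1 (hmax U' h2)).symm.le⟩
  obtain ⟨U, hU, hUmax⟩ := hwf
  have hUtop : ∀ v : V, v ∈ U ⊔ W := by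
    intro v
    by_contra hv
    refine hv (mem_sup_left (hUmax (U ⊔ zpowers v) le_sup_left ?_ (mem_sup_right (mem_zpowers v))))
    rw [eq_bot_iff]
    rintro x ⟨hx1, hx2⟩
    obtain ⟨u, hu, c, hc, rfl⟩ := mem_sup.1 hx1
    obtain ⟨k, rfl⟩ := mem_zpowers_iff.1 hc
    by_cases hk : (p : ℤ) ∣ k
    · obtain ⟨m, rfl⟩ := hk
      rw [zpow_mul, zpow_natCast, hexp, one_zpow, mul_one] at hx2 ⊢
      exact hU ▸ ⟨hu, hx2⟩
    · exfalso
      obtain ⟨r, t, hrt⟩ := (Prime.coprime_iff_not_dvd (Nat.prime_iff_prime_int.1 hp)).2 hk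
      apply hv
      have h1 : v ^ k ∈ U ⊔ W := by
        have := mul_mem (mem_sup_left (inv_mem hu) : u⁻¹ ∈ U ⊔ W) (mem_sup_right hx2)
        simpa using this
      have h2 : v = (v ^ k) ^ t := by
        rw [← zpow_mul]
        conv_lhs => rw [← zpow_one v, ← hrt, zpow_add, mul_comm r, zpow_mul, zpow_natCast, hexp,
          one_zpow, one_mul, mul_comm t]
      rw [h2]
      exact zpow_mem h1 t
  let μ : U × W →* V := U.subtype.coprod W.subtype
  have hμ : Function.Bijective μ := by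
    constructor
    · intro x y h
      exact mul_injective_of_disjoint (disjoint_iff.2 hU) h
    · intro v
      obtain ⟨u, hu, w, hw, rfl⟩ := mem_sup.1 (hUtop v)
      exact ⟨(⟨u, hu⟩, ⟨w, hw⟩), rfl⟩
  let π : V →* V := W.subtype.comp ((MonoidHom.snd U W).comp (MulEquiv.ofBijective μ hμ).symm.toMonoidHom)
  have hπW : ∀ w ∈ W, π w = w := by
    intro w hw
    have h : (MulEquiv.ofBijective μ hμ).symm w = (1, ⟨w, hw⟩) := by
      rw [MulEquiv.symm_apply_eq]; simp [μ]
    simp [π, h]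
  have hπ : ∀ v, π v ∈ W := fun v => SetLike.coe_mem _
  let ψ : V →* V := MonoidHom.mk' (fun v => ∏ a : A, ρ a (π (ρ a⁻¹ v)))
    (fun x y => by simp [Finset.prod_mul_distrib])
  have hψW : ∀ v, ψ v ∈ W := fun v => Subgroup.prod_mem W fun a _ => hW a _ (hπ _)
  have hψw : ∀ w ∈ W, ψ w = w ^ Nat.card A := by
    intro w hw
    show ∏ a : A, ρ a (π (ρ a⁻¹ w)) = _
    rw [Nat.card_eq_fintype_card, ← Finset.card_univ, ← Finset.prod_const]
    refine Finset.prod_congr rfl fun a _ => ?_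
    rw [hπW _ (hW _ _ hw), ← MulAut.mul_apply, ← map_mul, mul_inv_cancel, map_one, MulAut.one_apply]
  have heq : ∀ b v, ψ (ρ b v) = ρ b (ψ v) := by
    intro b v
    show ∏ a : A, ρ a (π (ρ a⁻¹ (ρ b v))) = ρ b (∏ a : A, ρ a (π (ρ a⁻¹ v)))
    rw [map_prod]
    refine Fintype.prod_equiv (Equiv.mulLeft b⁻¹) _ _ fun a => ?_
    simp only [Equiv.coe_mulLeft, map_mul, map_inv, mul_inv_rev, inv_inv, MulAut.mul_apply,
      MulAut.apply_inv_self]
  have hcp : Nat.Coprime (Nat.card A) p := ((hp.coprime_iff_not_dvd).2 hcop).symm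
  refine ⟨ψ.ker, fun a v hv => by rw [MonoidHom.mem_ker] at hv ⊢; rw [heq, hv, map_one], ?_, ?_⟩
  · rw [eq_bot_iff]
    rintro w ⟨hw1, hw2⟩
    have h1 : w ^ Nat.card A = 1 := (hψw w hw2).symm.trans (MonoidHom.mem_ker.1 hw1)
    exact mem_bot.2 (orderOf_eq_one_iff.1 (Nat.eq_one_of_dvd_coprimes hcp
      (orderOf_dvd_of_pow_eq_one h1) (orderOf_dvd_of_pow_eq_one (hexp w))))
  · rw [eq_top_iff]
    intro v _
    obtain ⟨r, t, hrt⟩ := Nat.isCoprime_iff_coprime.2 hcp
    have hw : (ψ v) ^ r ∈ W := zpow_mem (hψW v) r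
    have h : ψ (v * ((ψ v) ^ r)⁻¹) = 1 := by
      rw [map_mul, map_inv, hψw _ hw, ← zpow_natCast ((ψ v) ^ r), ← zpow_mul, mul_inv_eq_one]
      conv_lhs => rw [← zpow_one (ψ v), ← hrt, zpow_add, mul_comm t, zpow_mul (ψ v) (p : ℤ),
        zpow_natCast, hexp, one_zpow, mul_one]
    rw [show v = v * ((ψ v) ^ r)⁻¹ * (ψ v) ^ r by rw [inv_mul_cancel_right]]
    exact mul_mem (mem_sup_left (MonoidHom.mem_ker.2 h)) (mem_sup_right hw)

section

variable (A : Type*) {G : Type*} [Group A] [Group G] [MulDistribMulAction A G]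

def IsInv (M : Subgroup G) : Prop := ∀ a : A, ∀ x ∈ M, a • x ∈ M

def IsMaxInv (M : Subgroup G) : Prop :=
  M ≠ ⊤ ∧ (∀ a : A, ∀ x ∈ M, a • x ∈ M) ∧
    ∀ L : Subgroup G, M < L → (∀ a : A, ∀ x ∈ L, a • x ∈ L) → L = ⊤

theorem isInv_char (K : Subgroup G) [hK : K.Characteristic] : IsInv A K := fun a x hx => by
  have h := hK.fixed (MulDistribMulAction.toMulEquiv G a)
  rw [← h, mem_comap] at hx
  exact hx

variable {A}

theorem isInv_sup {M N : Subgroup G} (hM : IsInv A M) (hN : IsInv A N) : IsInv A (M ⊔ N) := by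
  intro a x hx
  have h : M ⊔ N ≤ (M ⊔ N).comap (MulDistribMulAction.toMonoidHom G a) :=
    sup_le (fun y hy => mem_sup_left (hM a y hy)) (fun y hy => mem_sup_right (hN a y hy))
  exact h hx

theorem exists_le_maxInv [Finite G] {H : Subgroup G} (hH : IsInv A H) (hne : H ≠ ⊤) :
    ∃ M, IsMaxInv A M ∧ H ≤ M := by
  obtain ⟨M, ⟨hHM, hMi, hM⟩, hmax⟩ := wellFounded_gt.has_min
    {M : Subgroup G | H ≤ M ∧ IsInv A M ∧ M ≠ ⊤} ⟨H, le_rfl, hH, hne⟩
  exact ⟨M, ⟨hM, hMi, fun L hL hLi => by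
    by_contra hLt; exact hmax L ⟨hHM.trans hL.le, hLi, hLt⟩ hL⟩, hHM⟩

theorem unique_max [Finite G] {p : ℕ} (hp : p.Prime) (hG : IsPGroup p G)
    (hirr : ∀ L : Subgroup G, frattini G < L → (∀ a : A, ∀ x ∈ L, a • x ∈ L) → L = ⊤)
    (M : Subgroup G) : IsMaxInv A M ↔ (M = frattini G ∧ M ≠ ⊤) := by
  constructor
  · rintro ⟨hM, hMi, hmax⟩
    have hΦ : frattini G ≤ M := by
      by_contra h
      have h' := hmax (M ⊔ frattini G) (left_lt_sup.2 h) (isInv_sup hMi (isInv_char A _))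
      exact hM (frattini_nongenerating h')
    rcases hΦ.eq_or_lt with h | h
    · exact ⟨h.symm, hM⟩
    · exact absurd (hirr M h hMi) hM
  · rintro ⟨rfl, h⟩
    exact ⟨h, isInv_char A _, hirr⟩

theorem forward [Finite A] [Finite G] (hcop : (Nat.card A).Coprime (Nat.card G))
    (hsol : Group.IsSolvable A ∨ Group.IsSolvable G)
    (h : ∀ M N : Subgroup G, IsMaxInv A M → IsMaxInv A N →
      ∃ c : G, (∀ a : A, a • c = c) ∧ N = MulAut.conj c • M) :
    (∃ p : ℕ, p.Prime ∧ IsPGroup p G) ∧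
      ∀ L : Subgroup G, frattini G < L → (∀ a : A, ∀ x ∈ L, a • x ∈ L) → L = ⊤ := by
  rcases eq_or_ne (Nat.card G) 1 with h1 | h1
  · have := (Nat.card_eq_one_iff_unique.1 h1).1
    exact ⟨⟨2, Nat.prime_two, fun x => ⟨0, Subsingleton.elim _ _⟩⟩, fun L _ _ => Subsingleton.elim _ _⟩
  obtain ⟨p, hp, hpd⟩ := Nat.exists_prime_and_dvd h1
  have := Fact.mk hp
  have hG : IsPGroup p G := by
    rw [IsPGroup.iff_card]
    by_contra hnp
    push Not at hnp
    have hprop : ∀ q : ℕ, q.Prime → ∀ Q : Subgroup G, Nat.card Q = q ^ (Nat.card G).factorization q →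
        Q ≠ ⊤ := by
      intro q hq Q hQ htop
      rw [htop, card_top] at hQ
      rcases eq_or_ne q p with rfl | hqp
      · exact hnp _ hQ
      · rw [hQ] at hpd
        exact hqp ((Nat.prime_dvd_prime_iff_eq hp hq).1 (hp.dvd_of_dvd_pow hpd)).symm
    obtain ⟨P, hP⟩ := Lib.Coprime.Action.exists_invariant_sylow hcop hsol p
    obtain ⟨M, hM, -⟩ := exists_le_maxInv hP (hprop p hp _ P.card_eq_multiplicity)
    apply hM.1
    apply eq_top_of_card_eq
    refine Nat.dvd_antisymm (card_subgroup_dvd_card M) ?_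
    rw [Nat.dvd_iff_prime_pow_dvd_dvd]
    intro q k hq hk
    have := Fact.mk hq
    obtain ⟨Q, hQ⟩ := Lib.Coprime.Action.exists_invariant_sylow hcop hsol q
    obtain ⟨N, hN, hQN⟩ := exists_le_maxInv hQ (hprop q hq _ Q.card_eq_multiplicity)
    obtain ⟨c, -, rfl⟩ := h M N hM hN
    have h2 := card_dvd_of_le hQN
    rw [Q.card_eq_multiplicity, Lib.Coprime.card_conj_smul] at h2
    refine dvd_trans (pow_dvd_pow q ?_) h2
    exact (Nat.Prime.pow_dvd_iff_le_factorization hq Nat.card_pos.ne').1 hk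
  refine ⟨⟨p, hp, hG⟩, fun L hL hLi => ?_⟩
  by_contra hLt
  obtain ⟨M, hM, hLM⟩ := exists_le_maxInv hLi hLt
  have hMn : M.Normal := by
    have hlt := hG.isNilpotent
    have hN : normalizer (M : Set G) = ⊤ := by
      refine hM.2.2 _ (normalizerCondition_of_isNilpotent M (lt_top_iff_ne_top.2 hM.1)) fun a x hx => ?_
      rw [mem_normalizer_iff] at hx ⊢
      intro y
      constructor
      · intro hy
        have h2 := hM.2.1 a _ ((hx (a⁻¹ • y)).1 (hM.2.1 _ _ hy))
        simpa [smul_mul', smul_inv', smul_inv_smul] using h2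
      · intro hy
        have h2 := hM.2.1 a⁻¹ _ hy
        simp only [smul_mul', smul_inv', inv_smul_smul] at h2
        simpa using hM.2.1 a _ ((hx (a⁻¹ • y)).2 h2)
    exact normalizer_eq_top_iff.1 hN
  have huniq : ∀ N, IsMaxInv A N → N = M := fun N hN => by
    obtain ⟨c, -, rfl⟩ := h M N hM hN
    exact Lib.Coprime.conj_smul_eq_self_of_mem_normalizer (by rw [normalizer_eq_top_iff.2 hMn]; trivial)
  -- complement of `M` modulo the Frattini subgroup
  have hΦn : (frattini G).Normal := inferInstance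
  let ρ : A →* MulAut (G ⧸ frattini G) :=
    { toFun := fun a => QuotientGroup.congr _ _ (MulDistribMulAction.toMulEquiv G a)
        ((Subgroup.characteristic_iff_map_eq.1 inferInstance) _)
      map_one' := by
        ext x; obtain ⟨g, rfl⟩ := QuotientGroup.mk_surjective x
        show QuotientGroup.mk ((1 : A) • g) = _
        simp
      map_mul' := fun a b => by
        ext x; obtain ⟨g, rfl⟩ := QuotientGroup.mk_surjective x
        show QuotientGroup.mk ((a * b) • g) = _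
        rw [mul_smul]; rfl }
  let π := QuotientGroup.mk' (frattini G)
  have hρ : ∀ a g, ρ a (π g) = π (a • g) := fun a g => rfl
  letI : CommGroup (G ⧸ frattini G) :=
    { (inferInstance : Group (G ⧸ frattini G)) with
      mul_comm := fun x y => by
        obtain ⟨a, rfl⟩ := QuotientGroup.mk_surjective x
        obtain ⟨b, rfl⟩ := QuotientGroup.mk_surjective y
        rw [← commutatorElement_eq_one_iff_mul_comm, ← QuotientGroup.mk'_apply,
          ← QuotientGroup.mk'_apply, ← map_commutatorElement, QuotientGroup.mk'_apply,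
          QuotientGroup.eq_one_iff]
        exact Lib.PGroups.commutatorElement_mem_frattini hG a b }
  have hexp : ∀ v : G ⧸ frattini G, v ^ p = 1 := fun v => by
    obtain ⟨g, rfl⟩ := QuotientGroup.mk_surjective v
    rw [← QuotientGroup.mk_pow, QuotientGroup.eq_one_iff]
    exact Lib.PGroups.pow_mem_frattini hG g
  have hpA : ¬ p ∣ Nat.card A := fun hd =>
    hp.one_lt.ne' (Nat.eq_one_of_dvd_coprimes hcop hd hpd)
  obtain ⟨W, hWi, hWM, hWtop⟩ := invariant_complement ρ hp hexp hpA (M.map π) (by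
    rintro a _ ⟨m, hm, rfl⟩; exact ⟨a • m, hM.2.1 a m hm, (hρ a m).symm⟩)
  have hW' : IsInv A (W.comap π) := fun a g hg => by
    have := hWi a _ (mem_comap.1 hg)
    rwa [hρ] at this
  have hmono : ∀ {X : Subgroup G}, X ≤ M → X.map π ≤ M.map π := fun h => map_mono h
  have hπs : Function.Surjective π := QuotientGroup.mk'_surjective _
  rcases eq_or_ne (W.comap π) ⊤ with hW1 | hW1
  · have hW2 : W = ⊤ := by rw [← map_comap_eq_self_of_surjective hπs W, hW1, map_top_of_surjective _ hπs]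
    rw [hW2, top_inf_eq, Subgroup.map_eq_bot_iff, QuotientGroup.ker_mk'] at hWM
    exact absurd (hLM.trans hWM) (not_le_of_gt hL)
  · obtain ⟨N, hN, hWN⟩ := exists_le_maxInv hW' hW1
    rw [huniq N hN] at hWN
    have h2 : W ≤ M.map π := by
      rw [← map_comap_eq_self_of_surjective hπs W]; exact map_mono hWN
    rw [sup_eq_right.2 h2] at hWtop
    apply hM.1
    rw [eq_top_iff]
    intro g _
    obtain ⟨m, hm, hmg⟩ := (hWtop ▸ mem_top (π g) : π g ∈ M.map π)
    have h3 : m⁻¹ * g ∈ frattini G := QuotientGroup.eq.1 hmg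
    simpa using mul_mem hm (hLM (hL.le h3))

end

/-- Let the finite group A act by automorphisms on the finite group G with the orders of A and G coprime, and assume that A or G is solvable. Call a proper A-invariant subgroup of G maximal A-invariant when no A-invariant subgroup lies strictly between it and G. Then all maximal A-invariant subgroups of G are conjugate under elements of the fixed-point subgroup C_G(A) if and only if G is a p-group for some prime p and A leaves invariant no subgroup strictly between the Frattini subgroup of G and G. In that case, if G is nontrivial, the Frattini subgroup is the only maximal A-invariant subgroup (a trivial G has none). -/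
theorem result {A G : Type*} [Group A] [Finite A]
    [Group G] [Finite G] [MulDistribMulAction A G] (hcop : (Nat.card A).Coprime (Nat.card G)) (hsol : Group.IsSolvable A ∨ Group.IsSolvable G) :
    ((∀ M N : Subgroup G, (M ≠ ⊤ ∧ (∀ a : A, ∀ x ∈ M, a • x ∈ M) ∧ ∀ L : Subgroup G, M < L → (∀ a : A, ∀ x ∈ L, a • x ∈ L) → L = ⊤) → (N ≠ ⊤ ∧ (∀ a : A, ∀ x ∈ N, a • x ∈ N) ∧ ∀ L : Subgroup G, N < L → (∀ a : A, ∀ x ∈ L, a • x ∈ L) → L = ⊤) →
        ∃ c : G, (∀ a : A, a • c = c) ∧ N = MulAut.conj c • M) ↔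
      ((∃ p : ℕ, p.Prime ∧ IsPGroup p G) ∧ ∀ L : Subgroup G, frattini G < L → (∀ a : A, ∀ x ∈ L, a • x ∈ L) → L = ⊤)) ∧
    (((∃ p : ℕ, p.Prime ∧ IsPGroup p G) ∧ ∀ L : Subgroup G, frattini G < L → (∀ a : A, ∀ x ∈ L, a • x ∈ L) → L = ⊤) →
      ∀ M : Subgroup G, (M ≠ ⊤ ∧ (∀ a : A, ∀ x ∈ M, a • x ∈ M) ∧ ∀ L : Subgroup G, M < L → (∀ a : A, ∀ x ∈ L, a • x ∈ L) → L = ⊤) ↔ (M = frattini G ∧ M ≠ ⊤)) := by
  refine ⟨⟨fun h => forward hcop hsol h, ?_⟩, ?_⟩
  · rintro ⟨⟨p, hp, hG⟩, hirr⟩ M N hM hN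
    refine ⟨1, fun a => smul_one a, ?_⟩
    rw [((unique_max hp hG hirr M).1 hM).1, ((unique_max hp hG hirr N).1 hN).1, map_one, one_smul]
  · rintro ⟨⟨p, hp, hG⟩, hirr⟩ M
    exact unique_max hp hG hirr M

end Cfsg.Agent.S4381
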