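import Cfsg.Statements.S4385
import Cfsg.Agent.Lib.DihedralChain68.Cases

set_option autoImplicit false
open Pointwise
open Cfsg

namespace Cfsg.Agent.S4385

open Cfsg.Agent.Lib

/-- The sign of a dihedral group. -/
def dSign {n : ℕ} : DihedralGroup n →* Multiplicative (ZMod 2) where
  toFun
    | DihedralGroup.r _ => 1
    | DihedralGroup.sr _ => Multiplicative.ofAdd 1
  map_one' := rfl
  map_mul' := by
    rintro (a | a) (b | b) <;> first | rfl | exact (by decide : (1 : Multiplicative (ZMod 2)) = Multiplicative.ofAdd 1 * Multiplicative.ofAdd 1)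

theorem dihedral_odd {n : ℕ} (hn : 2 ≤ n)
    (h : ∀ N : Subgroup (DihedralGroup n), N.Normal → IsPGroup 2 N → N = ⊥) : Odd n := by
  by_contra hodd
  obtain ⟨m, hm⟩ := Nat.not_odd_iff_even.1 hodd
  haveI : NeZero n := ⟨by omega⟩
  set a : ZMod n := (m : ZMod n) with ha
  have ha2 : a + a = 0 := by rw [ha, ← Nat.cast_add, ← hm, ZMod.natCast_self]
  set z : DihedralGroup n := DihedralGroup.r a with hz
  have hz2 : z * z = 1 := by rw [hz, DihedralGroup.r_mul_r, ha2]; rfl
  have hzc : ∀ g : DihedralGroup n, Commute z g := by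
    have hneg : -a = a := neg_eq_of_add_eq_zero_left ha2
    rintro (b | b)
    · show z * _ = _ * z; rw [hz, DihedralGroup.r_mul_r, DihedralGroup.r_mul_r, add_comm]
    · show z * _ = _ * z; rw [hz, DihedralGroup.r_mul_sr, DihedralGroup.sr_mul_r, sub_eq_add_neg, hneg]
  have hnorm : (Subgroup.zpowers z).Normal := ⟨fun g hg w => by
    obtain ⟨j, rfl⟩ := Subgroup.mem_zpowers_iff.1 hg
    rw [← ((hzc w).zpow_left j).eq, mul_inv_cancel_right]; exact hg⟩
  have hP : IsPGroup 2 (Subgroup.zpowers z) := by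
    rintro ⟨g, hg⟩
    refine ⟨1, Subtype.ext ?_⟩
    obtain ⟨j, rfl⟩ := Subgroup.mem_zpowers_iff.1 hg
    show (z ^ j) ^ 2 ^ 1 = 1
    rw [pow_one, pow_two, ← (Commute.refl z).mul_zpow, hz2, one_zpow]
  have hb := Subgroup.zpowers_eq_bot.1 (h _ hnorm hP)
  rw [hz, DihedralGroup.one_def] at hb
  have h0 : (m : ZMod n) = 0 := DihedralGroup.r.inj hb
  rw [ZMod.natCast_eq_zero_iff] at h0
  have := Nat.le_of_dvd (by omega) h0
  omega

theorem closure_two_reflections {n : ℕ} (hn : Odd n) (i : ZMod n) :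
    Subgroup.closure ({DihedralGroup.sr i, DihedralGroup.sr (i - 2)} : Set (DihedralGroup n)) = ⊤ := by
  set K := Subgroup.closure ({DihedralGroup.sr i, DihedralGroup.sr (i - 2)} : Set (DihedralGroup n))
  have h1 : DihedralGroup.sr i ∈ K := Subgroup.subset_closure (Or.inl rfl)
  have h2 : DihedralGroup.sr (i - 2) ∈ K := Subgroup.subset_closure (Or.inr rfl)
  have h3 : DihedralGroup.r (2 : ZMod n) ∈ K := by
    have := K.mul_mem h2 h1
    rwa [DihedralGroup.sr_mul_sr, sub_sub_cancel] at this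
  obtain ⟨m, hm⟩ := hn
  have h4 : DihedralGroup.r (1 : ZMod n) ∈ K := by
    have := K.pow_mem h3 (m + 1)
    rw [DihedralGroup.r_pow] at this
    have e : (2 : ZMod n) * ((m + 1 : ℕ) : ZMod n) = 1 := by
      have h0 : ((2 * m + 1 : ℕ) : ZMod n) = 0 := by rw [← hm, ZMod.natCast_self]
      push_cast at h0 ⊢
      linear_combination h0
    rwa [e] at this
  refine eq_top_iff.2 fun g _ => ?_
  have hr : ∀ b : ZMod n, DihedralGroup.r b ∈ K := fun b => by
    haveI : NeZero n := ⟨by omega⟩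
    have := K.pow_mem h4 b.val
    rwa [DihedralGroup.r_pow, ZMod.natCast_val, ZMod.cast_id', id, one_mul] at this
  rcases g with b | b
  · exact hr b
  · have := K.mul_mem h1 (hr (b - i))
    rwa [DihedralGroup.sr_mul_r, add_sub_cancel] at this

theorem ofAdd_one_ne : Multiplicative.ofAdd (1 : ZMod 2) ≠ 1 := by decide

theorem mem_normalizer_iff_smul {G : Type*} [Group G] (y : G) (X : Subgroup G) :
    MulAut.conj y • X = X ↔ y ∈ Subgroup.normalizer (X : Set G) := by
  rw [Subgroup.mem_normalizer_iff_map_conj_eq]; rfl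


/-- Let H be a subgroup of a finite group G whose largest normal 2-subgroup O_2(H) is nontrivial and such that H/O_2(H) is a dihedral group of order at least 4. Let P be a Sylow 2-subgroup of H and S a Sylow 2-subgroup of G containing P. Suppose y ∈ S lies outside P, normalizes P, has y² in the product of P with the centralizer of P in G, and normalizes no non-identity normal subgroup of H contained in P. Then P has order 4, 8 or 16, and H modulo its largest normal subgroup of odd order is isomorphic to the four-group, to the symmetric group of degree 4, or to the direct product of the symmetric group of degree 4 with a group of order 2. -/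
theorem result {G : Type*} [Group G] [Finite G]
    (H : Subgroup G) (hO : Cfsg.pCore 2 ↥H ≠ ⊥) (n : ℕ) (hn : 2 ≤ n) (hdih : Nonempty (↥H ⧸ Cfsg.pCore 2 ↥H ≃* DihedralGroup n))
    (P : Subgroup G) (hPH : P ≤ H) (hP : IsPGroup 2 P) (hPsyl : ¬ 2 ∣ P.relIndex H)
    (S : Sylow 2 G) (hPS : P ≤ (S : Subgroup G)) (y : G) (hyS : y ∈ (S : Subgroup G)) (hyP : y ∉ P)
    (hy2 : y ^ 2 ∈ P ⊔ Subgroup.centralizer (P : Set G)) (hyN : MulAut.conj y • P = P)
    (hyQ : ∀ Q : Subgroup G, Q ≤ P → (Q.subgroupOf H).Normal → MulAut.conj y • Q = Q → Q = ⊥) :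
    (Nat.card P = 4 ∨ Nat.card P = 8 ∨ Nat.card P = 16) ∧
    (Nonempty (↥H ⧸ Cfsg.oddCore ↥H ≃* Multiplicative (ZMod 2) × Multiplicative (ZMod 2)) ∨
     Nonempty (↥H ⧸ Cfsg.oddCore ↥H ≃* Equiv.Perm (Fin 4)) ∨
     Nonempty (↥H ⧸ Cfsg.oddCore ↥H ≃* Equiv.Perm (Fin 4) × Multiplicative (ZMod 2))) := by
  classical
  haveI := Fact.mk Nat.prime_two
  obtain ⟨e⟩ := hdih
  set Q₀ := Cfsg.pCore 2 ↥H with hQ₀
  have hQp : IsPGroup 2 Q₀ := Lib.PSolvable.isPGroup_pCore
  have hnodd : Odd n := by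
    refine dihedral_odd hn fun N hN hNp => ?_
    haveI := hN
    have h1 : N.map e.symm.toMonoidHom ≤ Cfsg.pCore 2 (↥H ⧸ Q₀) :=
      le_sSup ⟨hN.map _ e.symm.surjective, hNp.map _⟩
    rw [Cores.pCore_quotient_pCore, le_bot_iff] at h1
    exact (Subgroup.map_eq_bot_iff_of_injective _ e.symm.injective).1 h1
  haveI : NeZero n := ⟨by omega⟩
  let π : ↥H →* DihedralGroup n := e.toMonoidHom.comp (QuotientGroup.mk' Q₀)
  have hπ : Function.Surjective π := e.surjective.comp (QuotientGroup.mk'_surjective _)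
  have hπker : π.ker = Q₀ := by
    ext g
    rw [MonoidHom.mem_ker]
    show e (QuotientGroup.mk' Q₀ g) = 1 ↔ _
    rw [e.map_eq_one_iff, ← MonoidHom.mem_ker, QuotientGroup.ker_mk']
  have hHcard : Nat.card ↥H = 2 * n * Nat.card Q₀ := by
    rw [← Subgroup.card_mul_index Q₀, Subgroup.index, Nat.card_congr e.toEquiv, DihedralGroup.nat_card, mul_comm]
  set P' := P.subgroupOf H with hP'
  have hP'p : IsPGroup 2 P' := hP.of_equiv (Subgroup.subgroupOfEquivOfLe hPH).symm
  have hP'idx : Odd P'.index := by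
    rw [hP', ← Subgroup.relIndex, Nat.odd_iff]; omega
  have hQP : Q₀ ≤ P' := by
    have hsup : IsPGroup 2 (Q₀ ⊔ P' : Subgroup H) := hQp.to_sup_of_normal_left hP'p
    obtain ⟨a, ha⟩ := IsPGroup.iff_card.1 hsup
    have h1 := Subgroup.relIndex_mul_relIndex (⊥ : Subgroup H) P' (Q₀ ⊔ P') bot_le le_sup_right
    rw [Subgroup.relIndex_bot_left, Subgroup.relIndex_bot_left, ha] at h1
    have h2 : P'.relIndex (Q₀ ⊔ P') ∣ P'.index :=
      ⟨_, (Subgroup.relIndex_mul_index le_sup_right).symm⟩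
    have h3 : P'.relIndex (Q₀ ⊔ P') = 1 := Nat.eq_one_of_dvd_coprimes
      ((Nat.coprime_two_left.2 hP'idx).pow_left a) ⟨_, by rw [mul_comm]; exact h1.symm⟩ h2
    exact le_sup_left.trans (Subgroup.relIndex_eq_one.1 h3)
  have hPcard : Nat.card P' = 2 * Nat.card Q₀ := by
    obtain ⟨a, ha⟩ := IsPGroup.iff_card.1 hP'p
    obtain ⟨b, hb⟩ := IsPGroup.iff_card.1 hQp
    have h1 := Subgroup.card_mul_index P'
    rw [hHcard, ha, hb] at h1
    rw [ha, hb]
    have c1 : 2 ^ a ∣ 2 * 2 ^ b := by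
      refine ((Nat.coprime_two_left.2 hnodd).pow_left a).dvd_of_dvd_mul_left ?_
      exact ⟨P'.index, by rw [h1]; ring⟩
    have c2 : 2 * 2 ^ b ∣ 2 ^ a := by
      refine ((Nat.coprime_two_left.2 hP'idx).pow_left (b + 1)).dvd_of_dvd_mul_right ?_ |> fun h => by
        rwa [pow_succ'] at h
      exact ⟨n, by rw [h1]; ring⟩
    exact Nat.dvd_antisymm c1 c2
  -- the image of `P`
  have hmap2 : Nat.card (P'.map π) = 2 := by
    have h1 : (π.comp P'.subtype).ker.index = Nat.card (P'.map π) := by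
      rw [Subgroup.index_ker, MonoidHom.range_comp, Subgroup.range_subtype]
    have h2 : (π.comp P'.subtype).ker = Q₀.subgroupOf P' := by
      rw [← MonoidHom.comap_ker, hπker]; rfl
    have h3 := Subgroup.card_mul_index (Q₀.subgroupOf P')
    rw [Nat.card_congr (Subgroup.subgroupOfEquivOfLe hQP).toEquiv, hPcard, mul_comm 2] at h3
    rw [← h1, h2]
    exact Nat.eq_of_mul_eq_mul_left Nat.card_pos h3
  obtain ⟨i, hi⟩ : ∃ i : ZMod n, DihedralGroup.sr i ∈ P'.map π := by
    obtain ⟨⟨z, hz⟩, hz1, -⟩ := (Nat.card_eq_two_iff' (1 : P'.map π)).1 hmap2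
    rcases z with a | a
    · exfalso
      have h2 : (⟨DihedralGroup.r a, hz⟩ : P'.map π) ^ 2 = 1 := hmap2 ▸ pow_card_eq_one'
      have h3 : DihedralGroup.r a ^ 2 = 1 := congrArg Subtype.val h2
      rw [DihedralGroup.r_pow, DihedralGroup.one_def] at h3
      have h4 : a * 2 = 0 := DihedralGroup.r.inj h3
      obtain ⟨m, hm⟩ := hnodd
      refine hz1 (Subtype.ext ?_)
      show DihedralGroup.r a = 1
      rw [DihedralGroup.one_def]
      congr 1
      have h0 : ((2 * m + 1 : ℕ) : ZMod n) = 0 := by rw [← hm, ZMod.natCast_self]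
      push_cast at h0
      linear_combination a * h0 - (m : ZMod n) * h4
    · exact ⟨a, hz⟩
  obtain ⟨p₀, hp₀, hp₀i⟩ := hi
  obtain ⟨h, hh⟩ := hπ (DihedralGroup.r 1)
  set P₁' := P'.map (MulAut.conj h).toMonoidHom with hP₁'
  have hQP1 : Q₀ ≤ P₁' := fun q hq => ⟨h⁻¹ * q * h, hQP (by
    have := (inferInstance : Q₀.Normal).conj_mem q hq h⁻¹
    rwa [inv_inv] at this), by show h * (h⁻¹ * q * h) * h⁻¹ = q; group⟩
  have hi2 : DihedralGroup.sr (i - 2) ∈ P₁'.map π := by
    refine ⟨h * p₀ * h⁻¹, ⟨p₀, hp₀, rfl⟩, ?_⟩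
    rw [map_mul, map_mul, map_inv, hh, hp₀i, DihedralGroup.r_mul_sr]
    rw [show (DihedralGroup.r (1 : ZMod n))⁻¹ = DihedralGroup.r (-1) from rfl, DihedralGroup.sr_mul_r]
    congr 1; ring
  have hjoin : P' ⊔ P₁' = ⊤ := by
    have h1 : (P' ⊔ P₁').map π = ⊤ := by
      rw [eq_top_iff, ← closure_two_reflections hnodd i, Subgroup.closure_le]
      rintro g (rfl | rfl)
      · exact Subgroup.map_mono le_sup_left ⟨p₀, hp₀, hp₀i⟩
      · exact Subgroup.map_mono le_sup_right hi2
    rw [← Subgroup.comap_map_eq_self (f := π) (H := P' ⊔ P₁') (hπker ▸ hQP.trans le_sup_left), h1,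
      Subgroup.comap_top]
  have hne : ¬ P' ≤ P₁' := by
    intro hle
    have h1 : P' = P₁' := Subgroup.eq_of_le_of_card_ge hle (Subgroup.card_map_of_injective (MulAut.conj h).injective).le
    rw [← h1, sup_idem] at hjoin
    rw [hjoin] at hmap2
    rw [Subgroup.map_top_of_surjective π hπ, Subgroup.card_top, DihedralGroup.nat_card] at hmap2
    omega
  have hinf : P' ⊓ P₁' = Q₀ := by
    refine (Subgroup.eq_of_le_of_card_ge (le_inf hQP hQP1) ?_).symm
    obtain ⟨m, hm⟩ := Subgroup.card_dvd_of_le (inf_le_left : P' ⊓ P₁' ≤ P')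
    have hm1 : m ≠ 1 := fun e1 => hne ((Subgroup.eq_of_le_of_card_ge (inf_le_left : P' ⊓ P₁' ≤ P')
      (by rw [hm, e1, mul_one])).ge.trans inf_le_right)
    have hm0 : m ≠ 0 := fun e0 => Nat.card_pos.ne' (hm.trans (by rw [e0, mul_zero]))
    have : Nat.card (P' ⊓ P₁' : Subgroup H) * 2 ≤ Nat.card P' := by
      rw [hm]; exact Nat.mul_le_mul_left _ (by omega)
    omega
  -- transfer to `G`
  have hmapP : P'.map H.subtype = P := Subgroup.map_subgroupOf_eq_of_le hPH
  have hmapP1 : P₁'.map H.subtype = P.map (MulAut.conj (h : G)).toMonoidHom := by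
    rw [hP₁', Subgroup.map_map]
    conv_rhs => rw [← hmapP, Subgroup.map_map]
    rfl
  have hsupG : P ⊔ P.map (MulAut.conj (h : G)).toMonoidHom = H := by
    rw [← hmapP1]
    conv_lhs => rw [← hmapP]
    rw [← Subgroup.map_sup, hjoin, ← MonoidHom.range_eq_map, Subgroup.range_subtype]
  have hinfG : P ⊓ P.map (MulAut.conj (h : G)).toMonoidHom = Q₀.map H.subtype := by
    rw [← hmapP1]
    conv_lhs => rw [← hmapP]
    rw [← Subgroup.map_inf _ _ _ H.subtype_injective, hinf]
  have hidxG : (P ⊓ P.map (MulAut.conj (h : G)).toMonoidHom).relIndex P = 2 := by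
    have := Subgroup.relIndex_mul_relIndex (⊥ : Subgroup G) (P ⊓ P.map (MulAut.conj (h : G)).toMonoidHom) P
      bot_le inf_le_left
    rw [Subgroup.relIndex_bot_left, Subgroup.relIndex_bot_left, hinfG,
      Subgroup.card_map_of_injective H.subtype_injective,
      ← Nat.card_congr (Subgroup.subgroupOfEquivOfLe hPH).toEquiv, hPcard, mul_comm 2] at this
    rw [hinfG]
    exact Nat.eq_of_mul_eq_mul_left Nat.card_pos this
  have hyN' : y ∈ Subgroup.normalizer (P : Set G) := (mem_normalizer_iff_smul y P).1 hyN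
  have hno : ∀ X : Subgroup G, X ≤ P → H ≤ Subgroup.normalizer (X : Set G) →
      y ∈ Subgroup.normalizer (X : Set G) → X = ⊥ := fun X hX hXn hyX => hyQ X hX
    ((Subgroup.normal_subgroupOf_iff_le_normalizer (hX.trans hPH)).2 hXn) ((mem_normalizer_iff_smul y X).2 hyX)
  have hnot : ¬ IsPGroup 2 H := by
    intro hp
    obtain ⟨a, ha⟩ := IsPGroup.iff_card.1 hp
    have h1 : n ∣ 2 ^ a := ⟨2 * Nat.card Q₀, by rw [← ha, hHcard]; ring⟩
    have := Nat.eq_one_of_dvd_coprimes ((Nat.coprime_two_left.2 hnodd).pow_left a) h1 dvd_rfl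
    omega
  obtain ⟨C, hCP, hCu, hCH⟩ := DihedralChain68.exists_chain (H := H) (P := P) (y := y) (h := (h : G)) h.2 hsupG hidxG
    hyN' (by rw [← pow_two]; exact hy2) hno hnot
  have hW12 : C.W 1 2 = P.map (MulAut.conj (h : G)).toMonoidHom := by
    show SimsThree.win C.P C.u 1 (2 - 1) = _
    rw [show (2 : ℤ) - 1 = 1 by norm_num, DihedralChain68.win_self_one, hCP, hCu, DihedralChain68.map_conj_mul,
      DihedralChain68.map_conj_eq_self hyN']
  have hW02 : C.W 0 2 = Q₀.map H.subtype := by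
    rw [← hinfG, ← hW12, ← hCP, ← C.W01]
    exact le_antisymm (le_inf (C.W_mono le_rfl (by norm_num)) (C.W_mono (by norm_num) le_rfl))
      fun g hg => C.W_glue hg.1 hg.2 fun t h1 h2 => by omega
  have hQsub : (C.W 0 2).subgroupOf H = Q₀ := by
    rw [hW02, Subgroup.subgroupOf, Subgroup.comap_map_eq_self_of_injective H.subtype_injective]
  have hQn : ((C.W 0 2).subgroupOf H).Normal := by rw [hQsub]; infer_instance
  have hX : Nat.card ↥H = 2 * n * Nat.card (C.W 0 2) := by
    rw [hW02, Subgroup.card_map_of_injective H.subtype_injective, hHcard]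
  have hidxC : Odd (C.P.subgroupOf H).index := by rw [hCP]; exact hP'idx
  have hk2 : 2 ≤ C.k := by
    by_contra hk
    refine hO ?_
    have h1 : Nat.card P' = 2 ^ C.k := by
      rw [hP', Nat.card_congr (Subgroup.subgroupOfEquivOfLe hPH).toEquiv, ← hCP, C.card_P]
    have := C.k_pos
    rw [hPcard, show C.k = 1 by omega] at h1
    rw [← Subgroup.card_eq_one]
    omega
  have hk4 := C.k_le_four
  have hcardP : Nat.card P = 2 ^ C.k := hCP ▸ C.card_P
  rcases (show C.k = 2 ∨ C.k = 3 ∨ C.k = 4 by omega) with hk | hk | hk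
  · refine ⟨Or.inl (by rw [hcardP, hk]; rfl), Or.inl ?_⟩
    refine C.iso_two hCH hk hnodd hX hidxC (dSign.comp π) (fun g hg => ?_) (fun g hg hgQ => ?_)
    · have : g ∈ Q₀ := hQsub ▸ hg
      rw [← hπker] at this
      show dSign (π g) = 1
      rw [MonoidHom.mem_ker.1 this, map_one]
    · have hgQ' : g ∉ π.ker := fun h' => hgQ (by rw [hπker, ← hQsub] at h'; exact h')
      have hg' : π g ∈ P'.map π := ⟨g, (by rw [hCP] at hg; exact hg : (g : G) ∈ P), rfl⟩
      obtain ⟨z, -, hz⟩ := (Nat.card_eq_two_iff' (1 : P'.map π)).1 hmap2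
      have e1 := hz ⟨π g, hg'⟩ fun e1 => hgQ' (congrArg Subtype.val e1)
      have e2 := hz ⟨π p₀, ⟨p₀, hp₀, rfl⟩⟩ fun e1 => by
        have h' : π p₀ = 1 := congrArg Subtype.val e1
        rw [hp₀i, DihedralGroup.one_def] at h'
        cases h'
      show dSign (π g) ≠ 1
      rw [show π g = π p₀ from congrArg Subtype.val (e1.trans e2.symm), hp₀i]
      exact ofAdd_one_ne
  · exact ⟨Or.inr (Or.inl (by rw [hcardP, hk]; rfl)), Or.inr (Or.inl (C.iso_three hCH hk hnodd hX hQn))⟩
  · exact ⟨Or.inr (Or.inr (by rw [hcardP, hk]; rfl)), Or.inr (Or.inr (C.iso_four hCH hk hnodd hX hQn hidxC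
      h.2 (by rw [hCP, hW12]) (by rw [hCP]; exact hyN') (by rw [hCP]; exact hno)))⟩

end Cfsg.Agent.S4385
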