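import Cfsg.Statements.S4387
-- import your own Cfsg.Agent.* helpers here

set_option autoImplicit false
open Pointwise
open Cfsg

namespace Cfsg.Agent.S4387



/-- Let G be a non-trivial finite group in which any two maximal subgroups are conjugate. Then G is cyclic of prime-power order. -/
theorem result {G : Type*} [Group G] [Finite G] [Nontrivial G]
    (h : ∀ M N : Subgroup G, IsCoatom M → IsCoatom N → ∃ g : G, N = MulAut.conj g • M) :
    IsCyclic G ∧ IsPrimePow (Nat.card G) := by
  obtain ⟨M, hM, -⟩ := (eq_top_or_exists_le_coatom (⊥ : Subgroup G)).resolve_left bot_ne_top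
  have hcard : ∀ N : Subgroup G, IsCoatom N → Nat.card N = Nat.card M := fun N hN => by
    obtain ⟨g, rfl⟩ := h M N hM hN
    exact (Nat.card_congr (Subgroup.equivSMul (MulAut.conj g) M).toEquiv).symm
  have hMlt : Nat.card M < Nat.card G := by
    refine lt_of_le_of_ne (Subgroup.card_le_card_group M) fun he => ?_
    exact hM.1 (Subgroup.eq_top_of_card_eq M he)
  have hp : ∃ p : ℕ, p.Prime ∧ IsPGroup p G := by
    by_contra hno
    push Not at hno
    have hdvd : Nat.card G ∣ Nat.card M := by
      rw [← Nat.factorization_prime_le_iff_dvd Nat.card_pos.ne' Nat.card_pos.ne']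
      intro p hp
      have := Fact.mk hp
      obtain ⟨P⟩ : Nonempty (Sylow p G) := inferInstance
      have hne : (P : Subgroup G) ≠ ⊤ := fun he => by
        have hP := P.2
        rw [he] at hP
        exact hno p hp (hP.of_equiv Subgroup.topEquiv)
      obtain ⟨N, hN, hPN⟩ := (eq_top_or_exists_le_coatom (P : Subgroup G)).resolve_left hne
      rw [← hp.pow_dvd_iff_le_factorization Nat.card_pos.ne', ← hcard N hN,
        ← P.card_eq_multiplicity]
      exact Subgroup.card_dvd_of_le hPN
    have := Nat.le_of_dvd Nat.card_pos hdvd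
    omega
  obtain ⟨p, hp, hG⟩ := hp
  have := Fact.mk hp
  have hnil : Group.IsNilpotent G := hG.isNilpotent
  have hMn : M.Normal := by
    exact Subgroup.NormalizerCondition.normal_of_coatom M Group.normalizerCondition_of_isNilpotent hM
  have huniq : ∀ N : Subgroup G, IsCoatom N → N = M := fun N hN => by
    obtain ⟨g, rfl⟩ := h M N hM hN
    ext x
    rw [Subgroup.mem_pointwise_smul_iff_inv_smul_mem, MulAut.smul_def, ← map_inv,
      MulAut.conj_apply, inv_inv]
    exact hMn.mem_comm_iff.trans (by simp)
  obtain ⟨x, hx⟩ : ∃ x : G, x ∉ M := by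
    by_contra hall
    push Not at hall
    exact hM.1 (eq_top_iff.2 fun x _ => hall x)
  refine ⟨isCyclic_iff_exists_zpowers_eq_top.2 ⟨x, ?_⟩, ?_⟩
  · by_contra hne
    obtain ⟨N, hN, hxN⟩ := (eq_top_or_exists_le_coatom (Subgroup.zpowers x)).resolve_left hne
    exact hx (huniq N hN ▸ hxN (Subgroup.mem_zpowers x))
  · obtain ⟨n, hn⟩ := IsPGroup.iff_card.1 hG
    rw [hn]
    refine (Nat.Prime.isPrimePow hp).pow (fun h0 => ?_)
    rw [h0, pow_zero] at hn
    have := Finite.one_lt_card (α := G)
    omega

end Cfsg.Agent.S4387
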