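import Cfsg.Statements.S4394
import Cfsg.Agent.Lib.Fg6.SpecialSylowLength

set_option autoImplicit false
open Cfsg

namespace Cfsg.Agent.S4394

/-- Let X be a finite minimal non-nilpotent group (not nilpotent, every proper subgroup nilpotent) with a nontrivial normal Sylow p-subgroup P. If G is a finite p-solvable group whose Sylow p-subgroups are isomorphic to P, then G has p-length at most 1. -/
theorem result {G X : Type*} [Group G] [Finite G] [Group X] [Finite X] (p : ℕ) [Fact p.Prime]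
    (hX : Cfsg.IsMinimalNonNilpotent X) (P : Sylow p X) (hPn : (P : Subgroup X).Normal) (hP1 : (P : Subgroup X) ≠ ⊥)
    (hG : Cfsg.IsPSolvable p G) (Q : Sylow p G) (hQ : Nonempty (↥(Q : Subgroup G) ≃* ↥(P : Subgroup X))) : Cfsg.PLengthLE p 1 G := by
  obtain ⟨Φ, hΦ⟩ := Lib.Fg6.SchmidtSylow.exists_isSchmidtType hX.1 hX.2 P hPn hP1
  obtain ⟨e⟩ := hQ
  have hQt := hΦ.map e.symm
  -- pass to `G / O_{p'}(G)`
  set N := Cfsg.pPrimeCore p G with hN
  have hNc : (Nat.card N).Coprime p := Lib.PSolvable.card_pPrimeCore_coprime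
  refine Lib.PSolvable.pLengthLE_of_quotient_pPrime hNc ?_
  set π := QuotientGroup.mk' N with hπ
  have hinj : Function.Injective (π.subgroupMap (Q : Subgroup G)) := by
    intro x y hxy
    have h1 : ((x⁻¹ * y : ↥(Q : Subgroup G)) : G) ∈ N := by
      have h2 : π (x : G) = π (y : G) := congrArg Subtype.val hxy
      simpa using QuotientGroup.eq.1 h2
    obtain ⟨i, hi⟩ := Q.isPGroup' (x⁻¹ * y)
    have h3 := Nat.eq_one_of_dvd_coprimes (hNc.pow_right i) (N.orderOf_dvd_natCard h1)
      (by rw [Subgroup.orderOf_coe]; exact orderOf_dvd_of_pow_eq_one hi)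
    rw [orderOf_eq_one_iff, OneMemClass.coe_eq_one] at h3
    exact inv_mul_eq_one.1 h3
  let Q' : Sylow p (G ⧸ N) := Q.mapSurjective (QuotientGroup.mk'_surjective N)
  have hQ' := hQt.map (MulEquiv.ofBijective (π.subgroupMap (Q : Subgroup G))
    ⟨hinj, π.subgroupMap_surjective _⟩)
  have hle := Lib.Fg6.SpecialSylowLength.sylow_le_pCore (Lib.PSolvable.isPSolvable_quotient hG N)
    (Lib.PSolvable.pPrimeCore_quotient_eq_bot N rfl) Q' hQ'
  refine Lib.PSolvable.pLengthLE_succ_of_quotient_pCore (k := 0) (Lib.PSolvable.pLengthLE_zero_iff.2 ?_)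
  intro hdvd
  rw [← Subgroup.index_eq_card] at hdvd
  exact Q'.not_dvd_index (hdvd.trans (Subgroup.index_dvd_of_le hle))

end Cfsg.Agent.S4394
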