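import Cfsg.Statements.S4395
import Cfsg.Agent.Lib.SchmidtUniversal.Model
import Cfsg.Agent.Lib.SchmidtUniversal.Extract
-- import your own Cfsg.Agent.* helpers here

set_option autoImplicit false
universe u
open Cfsg

namespace Cfsg.Agent.S4395

/-- Let p ≠ q be primes, r ≥ 1, a the multiplicative order of p modulo q, and a₀ = a when a is odd, a₀ = 3a/2 when a is even. Call a finite group minimal non-p-nilpotent when it has no normal p-complement but every proper subgroup has one. Then there is a minimal non-p-nilpotent group G₀ of order p^a₀ · q^r such that every minimal non-p-nilpotent group of order p^t · q^r (any t) is a quotient of G₀ by a central subgroup. -/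
theorem result (p q r : ℕ) [Fact p.Prime] [Fact q.Prime] (hpq : p ≠ q) (hr : 1 ≤ r) (a a₀ : ℕ)
    (ha : a = orderOf (p : ZMod q)) (ha₀ : a₀ = if a % 2 = 1 then a else 3 * a / 2) :
    ∃ (G₀ : Type u) (_ : Group G₀) (_ : Finite G₀),
      (¬ Cfsg.HasNormalPComplement p G₀ ∧ ∀ K : Subgroup G₀, K ≠ ⊤ → Cfsg.HasNormalPComplement p ↥K) ∧ Nat.card G₀ = p ^ a₀ * q ^ r ∧
      ∀ (X : Type u) [Group X] [Finite X], (¬ Cfsg.HasNormalPComplement p X ∧ ∀ K : Subgroup X, K ≠ ⊤ → Cfsg.HasNormalPComplement p ↥K) →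
        (∃ t : ℕ, Nat.card X = p ^ t * q ^ r) → ∃ φ : G₀ →* X, Function.Surjective φ ∧ φ.ker ≤ Subgroup.center G₀ := by
  classical
  haveI : NeZero (q ^ r) := ⟨pow_ne_zero r (Fact.out : q.Prime).ne_zero⟩
  have hpne : (p : ZMod q) ≠ 0 := fun h0 => by
    rw [ZMod.natCast_eq_zero_iff] at h0
    exact hpq ((Nat.prime_dvd_prime_iff_eq (Fact.out : q.Prime) (Fact.out : p.Prime)).1 h0).symm
  have hunit : IsUnit (p : ZMod q) := isUnit_iff_ne_zero.2 hpne
  have ha0 : 0 < a := by rw [ha]; exact orderOf_pos_iff.2 (IsUnit.isOfFinOrder hunit)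
  haveI : Fintype (GaloisField p a) := Fintype.ofFinite _
  have hcardK : Nat.card (ULift.{u} (GaloisField p a)) = p ^ a := by
    rw [Nat.card_congr Equiv.ulift, GaloisField.card p a ha0.ne']
  obtain ⟨z, hz⟩ := exists_prime_orderOf_dvd_card' (G := (ULift.{u} (GaloisField p a))ˣ) q (by
    rw [Nat.card_units, hcardK]
    exact (Cfsg.Agent.Lib.SchmidtUniversal.dvd_pow_sub_one_iff a).2 (by rw [ha]))
  have h : Cfsg.Agent.Lib.SchmidtUniversal.Gen p q a (z : ULift.{u} (GaloisField p a)) :=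
    ⟨hpq, ha, hcardK, by rw [orderOf_units, hz]⟩
  obtain ⟨G, hG, hGf, d, hmin, hcard, hP⟩ :=
    Cfsg.Agent.Lib.SchmidtUniversal.exists_model.{u} h hr
  rw [Cfsg.Agent.Lib.SchmidtUniversal.sub_exponent a] at ha₀
  refine ⟨G, hG, hGf, hmin, by rw [ha₀]; exact hcard, fun X _ _ hX hXc => ?_⟩
  obtain ⟨t, ht⟩ := hXc
  obtain ⟨dX⟩ := Cfsg.Agent.Lib.SchmidtUniversal.exists_datum h hX.1 hX.2 ht
  exact Cfsg.Agent.Lib.SchmidtUniversal.exists_hom h
    (Nat.Coprime.pow_left r ((Nat.coprime_primes Fact.out Fact.out).2 (Ne.symm hpq))) d dX hP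

end Cfsg.Agent.S4395
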