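import Cfsg.Statements.S4396
import Cfsg.Agent.Lib.FreeAction.Basic
-- import your own Cfsg.Agent.* helpers here

set_option autoImplicit false
open Cfsg

namespace Cfsg.Agent.S4396

/-- Let the finite group A act faithfully and linearly on a finite-dimensional vector space V over a field k, and suppose A is a Frobenius group with nilpotent kernel F (every Frobenius kernel is nilpotent) and complement H such that F fixes no nonzero vector. Then V is free as a module for H: there is a subspace W with V the direct sum of the translates hW, h ∈ H. (No assumption on the characteristic of k.) -/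
theorem result {k V A : Type*} [Field k] [AddCommGroup V] [Module k V] [FiniteDimensional k V] [Group A] [Finite A] [DecidableEq A]
    (ρ : Representation k A V) (hρ : Function.Injective ρ)
    (Fk Hc : Subgroup A) [Fk.Normal] (hHc : Cfsg.IsFrobeniusComplement Hc) (hker : Cfsg.frobeniusKernel Hc = (Fk : Set A)) (hnil : Group.IsNilpotent ↥Fk)
    (hCF : ∀ v : V, (∀ f ∈ Fk, ρ f v = v) → v = 0) :
    ∃ W : Submodule k V, DirectSum.IsInternal (fun h : ↥Hc => W.map (ρ (h : A))) := by
  classical
  haveI : Fintype Hc := Fintype.ofFinite Hc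
  have hdisj : ∀ f ∈ Fk, f ∈ Hc → f = 1 := by
    intro f hf hfH
    have hf' : f ∈ Cfsg.frobeniusKernel Hc := by rw [hker]; exact hf
    rcases hf' with h | h
    · exact h
    · exact absurd (by simpa using hfH) (h 1)
  let α : Hc →* MulAut Fk := (MulAut.conjNormal : A →* MulAut Fk).comp Hc.subtype
  have hα : ∀ (h : Hc) (f : Fk), ((α h f : Fk) : A) = h * f * (h : A)⁻¹ := fun h f => rfl
  have hfpf : ∀ h : Hc, h ≠ 1 → ∀ f, α h f = f → f = 1 := by
    intro h hh f hf
    by_contra hf1
    have hfA : (f : A) ≠ 1 := fun h' => hf1 (Subtype.ext h')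
    have hcomm : (h : A) * f * (h : A)⁻¹ = f := (hα h f).symm.trans (congrArg Subtype.val hf)
    have hnot : (f : A) ∉ Hc := fun h' => hfA (hdisj _ f.2 h')
    have hbot := hHc.2.2 (f : A) hnot
    refine hh (Subtype.ext (Subgroup.mem_bot.mp (hbot ▸ Subgroup.mem_inf.mpr ⟨h.2, ?_⟩)))
    rw [Subgroup.mem_pointwise_smul_iff_inv_smul_mem]
    show (MulAut.conj (f : A))⁻¹ (h : A) ∈ Hc
    rw [← map_inv, MulAut.conj_apply, inv_inv, mul_assoc,
      (mul_inv_eq_iff_eq_mul.mp hcomm), inv_mul_cancel_left]
    exact h.2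
  obtain ⟨W, hspan, hind⟩ := Lib.FreeAction.isFree_of_fpf (k := k) hnil α hfpf _ V
    (ρ.comp Fk.subtype) (ρ.comp Hc.subtype) rfl
    (fun h f => by
      show ρ (h : A) * ρ (f : A) = ρ ((α h f : Fk) : A) * ρ (h : A)
      rw [← map_mul, ← map_mul, hα, inv_mul_cancel_right])
    (fun v hv => hCF v fun f hf => hv ⟨f, hf⟩)
  refine ⟨W, ?_, fun v => ?_⟩
  · intro a b hab
    have key : ∀ c : DirectSum Hc (fun h => W.map (ρ (h : A))),
        DirectSum.coeAddMonoidHom (fun h : Hc => W.map (ρ (h : A))) c = ∑ h : Hc, ((c h : W.map (ρ (h : A))) : V) := by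
      intro c
      conv_lhs => rw [← DirectSum.sum_univ_of c]
      simp [DirectSum.coeAddMonoidHom_of]
    rw [key, key] at hab
    choose xa hxa hea using fun h => Submodule.mem_map.mp (a h).2
    choose xb hxb heb using fun h => Submodule.mem_map.mp (b h).2
    have hz := hind (fun h => xa h - xb h) (fun h => W.sub_mem (hxa h) (hxb h)) (by
      show ∑ h : Hc, ρ (h : A) (xa h - xb h) = 0
      simp only [map_sub, hea, heb, Finset.sum_sub_distrib, hab, sub_self])
    refine DFinsupp.ext fun h => Subtype.ext ?_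
    rw [← hea, ← heb, sub_eq_zero.mp (hz h)]
  · obtain ⟨x, hx, rfl⟩ := hspan v
    refine ⟨∑ h, DirectSum.of _ h ⟨_, Submodule.mem_map_of_mem (hx h)⟩, ?_⟩
    rw [map_sum]
    simp only [DirectSum.coeAddMonoidHom_of]
    rfl

end Cfsg.Agent.S4396
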