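import Cfsg.Statements.S4398
import Cfsg.Agent.Lib.MetacyclicTwoRank76
import Cfsg.Agent.Lib.TwoGroups.MetacyclicTwo
-- import your own Cfsg.Agent.* helpers here

set_option autoImplicit false
open Cfsg

namespace Cfsg.Agent.S4398

/-- Let S be a finite 2-group of sectional 2-rank at most 2 that contains a subgroup isomorphic to the dihedral group of order 8 or to the quaternion group of order 8. Then S is dihedral of order at least 8, semidihedral of order at least 16 (order 2^(k+4) with an element a of order 2^(k+3) and an involution b with b a b⁻¹ = a^(2^(k+2)−1)), or generalized quaternion of order at least 8. -/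
theorem result {S : Type*} [Group S] [Finite S] (h2 : IsPGroup 2 S) (hr : Cfsg.SectionalPRankLE 2 2 S)
    (hsub : ∃ H : Subgroup S, Nonempty (↥H ≃* DihedralGroup 4) ∨ Nonempty (↥H ≃* QuaternionGroup 2)) :
    ((∃ k : ℕ, Nonempty (S ≃* DihedralGroup (2 ^ (k + 2)))) ∨
      (∃ k : ℕ, Nat.card S = 2 ^ (k + 4) ∧ ∃ a b : S, orderOf a = 2 ^ (k + 3) ∧ orderOf b = 2 ∧ b * a * b⁻¹ = a ^ (2 ^ (k + 2) - 1)) ∨
      (∃ k : ℕ, Nonempty (S ≃* QuaternionGroup (2 ^ (k + 1))))) := by
  haveI : Fact (Nat.Prime 2) := ⟨Nat.prime_two⟩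
  have hm := Cfsg.Agent.Lib.MetacyclicTwoRank76.main _ S rfl h2 hr
  obtain ⟨N, hN⟩ := IsPGroup.iff_card.1 h2
  obtain ⟨H, hH⟩ := hsub
  have hdata : Nat.card H = 8 ∧ ∃ x y : H, x * y ≠ y * x := by
    rcases hH with ⟨⟨e⟩⟩ | ⟨⟨e⟩⟩
    · refine ⟨by rw [Nat.card_congr e.toEquiv, DihedralGroup.nat_card], e.symm (.r 1), e.symm (.sr 0),
        fun h => ?_⟩
      have := e.symm.injective (by rwa [map_mul, map_mul] : e.symm (.r 1 * .sr 0) = e.symm (.sr 0 * .r 1))
      revert this; decide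
    · refine ⟨by rw [Nat.card_congr e.toEquiv, Cfsg.Agent.Lib.TwoGroups.Recognition.natCard_quaternion],
        e.symm (.a 1), e.symm (.xa 0), fun h => ?_⟩
      have := e.symm.injective (by rwa [map_mul, map_mul] : e.symm (.a 1 * .xa 0) = e.symm (.xa 0 * .a 1))
      revert this; decide
  obtain ⟨hH8, x, y, hxy⟩ := hdata
  have hxy' : (x : S) * y ≠ y * x := fun h => hxy (Subtype.ext h)
  have hS8 : 8 ∣ Nat.card S := hH8 ▸ Subgroup.card_subgroup_dvd_card H
  rcases Cfsg.Agent.Lib.TwoGroups.MetacyclicTwo.eight_cases h2 hm hH8 x.2 y.2 hxy' with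
    ⟨m, ⟨e⟩⟩ | ⟨m, ⟨e⟩⟩ | h
  · left
    have hc : Nat.card S = 2 * m := by rw [Nat.card_congr e.toEquiv, DihedralGroup.nat_card]
    obtain ⟨K, rfl⟩ : ∃ K, N = K + 3 := by
      refine ⟨N - 3, ?_⟩
      have : 2 ^ 3 ∣ 2 ^ N := hN ▸ hS8
      rw [Nat.pow_dvd_pow_iff_le_right one_lt_two] at this
      omega
    rw [hN, pow_succ'] at hc
    obtain rfl : m = 2 ^ (K + 2) := by omega
    exact ⟨K, ⟨e⟩⟩
  · right; right
    have : NeZero m := ⟨by
      rintro rfl
      haveI : Finite (QuaternionGroup 0) := Finite.of_equiv S e.toEquiv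
      haveI : Infinite (ZMod 0) := inferInstanceAs (Infinite ℤ)
      haveI : Infinite (QuaternionGroup 0) := Infinite.of_injective (fun i : ZMod (2 * 0) => QuaternionGroup.a i)
        (fun i j h => by injection h)
      exact not_finite (QuaternionGroup 0)⟩
    have hc : Nat.card S = 4 * m := by
      rw [Nat.card_congr e.toEquiv, Cfsg.Agent.Lib.TwoGroups.Recognition.natCard_quaternion]
    obtain ⟨K, rfl⟩ : ∃ K, N = K + 3 := by
      refine ⟨N - 3, ?_⟩
      have : 2 ^ 3 ∣ 2 ^ N := hN ▸ hS8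
      rw [Nat.pow_dvd_pow_iff_le_right one_lt_two] at this
      omega
    rw [hN, pow_succ', pow_succ'] at hc
    obtain rfl : m = 2 ^ (K + 1) := by omega
    exact ⟨K, ⟨e⟩⟩
  · right; left
    obtain ⟨n, hn, hc, a, b, ha, hb, hab⟩ := h
    obtain ⟨k, rfl⟩ : ∃ k, n = k + 3 := ⟨n - 3, by omega⟩
    exact ⟨k, hc, a, b, ha, hb, by simpa using hab⟩

end Cfsg.Agent.S4398
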