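import Cfsg.Statements.S4401
import Cfsg.Agent.Lib.SectionalRank.Basic
-- import your own Cfsg.Agent.* helpers here

set_option autoImplicit false
open Cfsg

namespace Cfsg.Agent.S4401

open Subgroup Cfsg.Agent.Lib.SectionalRank

theorem main {S : Type*} [Group S] [Finite S] (h2 : IsPGroup 2 S)
    (hr : Cfsg.SectionalPRankLE 2 4 S) (P : Subgroup S) (hP : ¬ IsMulCommutative ↥P)
    (hZP : Nat.card ↥(center ↥P) = 2) (T : Subgroup S)
    (hT : T = centralizer (((center ↥P).map P.subtype : Subgroup S) : Set S))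
    (hPn : ∀ s ∈ T, ∀ x ∈ P, s * x * s⁻¹ ∈ P) (htop : T ≠ ⊤) :
    Cfsg.SectionalPRankLE 2 2 ↥P ∧ T.index = 2 := by
  have := Fact.mk Nat.prime_two
  obtain ⟨z, hz1, -, hzP, hzc, hzu⟩ := exists_center_eq_pair hZP
  have hTz : ∀ x : S, x ∈ T ↔ x * z = z * x := fun x => by
    rw [hT, mem_centralizer_iff]
    constructor
    · intro h
      exact (h z (mem_map_center_iff.2 ⟨hzP, hzc⟩)).symm
    · intro h y hy
      obtain ⟨hyP, hyc⟩ := mem_map_center_iff.1 hy
      rcases hzu y hyP hyc with rfl | rfl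
      · simp
      · exact h.symm
  have hPT : P ≤ T := fun x hx => (hTz x).2 (hzc x hx).symm
  have hnc := @Group.normalizerCondition_of_isNilpotent S _ h2.isNilpotent
  obtain ⟨n, hnN, hnT⟩ := SetLike.exists_of_lt (hnc T (lt_top_iff_ne_top.2 htop))
  have hNn : ∀ {m x : S}, m ∈ normalizer (T : Set S) → (x ∈ T ↔ m * x * m⁻¹ ∈ T) :=
    fun hm => mem_normalizer_iff.1 hm _
  -- conjugates of `P` under the normalizer of `T`
  have hconj : ∀ m ∈ normalizer (T : Set S), m * z * m⁻¹ ≠ z →
      ∀ x ∈ P, ∀ y ∈ P, x * (m * y * m⁻¹) = (m * y * m⁻¹) * x ∧ (m * y * m⁻¹ ∈ P → y = 1) := by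
    intro m hm hmz
    let Q : Subgroup S := P.map (MulAut.conj m).toMonoidHom
    have hQT : Q ≤ T := by
      rintro _ ⟨y, hy, rfl⟩
      exact (hNn hm).1 (hPT hy)
    have hPn' : (P.subgroupOf T).Normal := ⟨fun x hx g => hPn g g.2 x hx⟩
    have hQn' : (Q.subgroupOf T).Normal := ⟨fun x hx g => by
      obtain ⟨y, hy, hyx⟩ := hx
      refine ⟨(m⁻¹ * g * m) * y * (m⁻¹ * g * m)⁻¹, hPn _ ?_ y hy, ?_⟩
      · simpa using (hNn (inv_mem hm)).1 g.2
      · simp only [Subgroup.coe_subtype, MulEquiv.coe_toMonoidHom, MulAut.conj_apply,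
          Subgroup.coe_mul, Subgroup.coe_inv] at hyx ⊢
        rw [← hyx]
        group⟩
    have eQ : ↥P ≃* ↥Q := P.equivMapOfInjective _ (MulAut.conj m).injective
    have hcP : Nat.card (center ↥(P.subgroupOf T)) = 2 := by
      rw [← hZP]
      exact Nat.card_congr (Subgroup.centerCongr (subgroupOfEquivOfLe hPT)).toEquiv
    have hcQ : Nat.card (center ↥(Q.subgroupOf T)) = 2 := by
      rw [← hZP]
      exact Nat.card_congr
        (Subgroup.centerCongr ((subgroupOfEquivOfLe hQT).trans eQ.symm)).toEquiv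
    have hzT : z ∈ T := hPT hzP
    obtain ⟨hinf, hcomm⟩ := disjoint_commute (h2.to_subgroup T) (P.subgroupOf T) (Q.subgroupOf T)
      hcP hcQ (fun he => by
        have h1 : (⟨z, hzT⟩ : T) ∈ (center ↥(P.subgroupOf T)).map (P.subgroupOf T).subtype :=
          mem_map_center_iff.2 ⟨hzP, fun y hy => Subtype.ext (hzc y hy)⟩
        rw [he, mem_map_center_iff] at h1
        obtain ⟨⟨y, hy, hyz⟩, hcz⟩ := h1
        simp only [MulEquiv.coe_toMonoidHom, MulAut.conj_apply, Subgroup.coe_subtype] at hyz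
        apply hmz
        rcases hzu y hy (fun u hu => by
          have := Subtype.ext_iff.1 (hcz ⟨m * u * m⁻¹, hQT ⟨u, hu, rfl⟩⟩ ⟨u, hu, rfl⟩)
          simp only [Subgroup.coe_mul, ← hyz] at this
          simpa using congrArg (fun t => m⁻¹ * t * m) this) with rfl | rfl
        · exact absurd (by simpa using hyz.symm) hz1
        · exact hyz)
    refine fun x hx y hy => ⟨?_, fun hmy => ?_⟩
    · exact Subtype.ext_iff.1 (hcomm ⟨x, hPT hx⟩ hx ⟨_, (hNn hm).1 (hPT hy)⟩ ⟨y, hy, rfl⟩)
    · have h1 : (⟨_, (hNn hm).1 (hPT hy)⟩ : T) ∈ P.subgroupOf T ⊓ Q.subgroupOf T :=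
        ⟨hmy, ⟨y, hy, rfl⟩⟩
      rw [hinf, mem_bot] at h1
      simpa using congrArg Subtype.val h1
  have hnz : n * z * n⁻¹ ≠ z := fun h => hnT ((hTz n).2 (mul_inv_eq_iff_eq_mul.1 h))
  let z' : S := n * z * n⁻¹
  let w : S := z * z'
  have hPP' := hconj n hnN hnz
  have hz'T : z' ∈ T := (hNn hnN).1 (hPT hzP)
  -- an element of `T` centralizing both copies
  have hfour : ∀ g ∈ T, (∀ x ∈ P, g * x = x * g) →
      (∀ x ∈ P, g * (n * x * n⁻¹) = (n * x * n⁻¹) * g) →
      g = 1 ∨ g = z ∨ g = z' ∨ g = w := by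
    intro g hg hgP hgP'
    let Q : Subgroup S := P.map (MulAut.conj n).toMonoidHom
    have hQT : Q ≤ T := by
      rintro _ ⟨y, hy, rfl⟩
      exact (hNn hnN).1 (hPT hy)
    have hPn' : (P.subgroupOf T).Normal := ⟨fun x hx g => hPn g g.2 x hx⟩
    have hQn' : (Q.subgroupOf T).Normal := ⟨fun x hx g => by
      obtain ⟨y, hy, hyx⟩ := hx
      refine ⟨(n⁻¹ * g * n) * y * (n⁻¹ * g * n)⁻¹, hPn _ ?_ y hy, ?_⟩
      · simpa using (hNn (inv_mem hnN)).1 g.2
      · simp only [Subgroup.coe_subtype, MulEquiv.coe_toMonoidHom, MulAut.conj_apply,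
          Subgroup.coe_mul, Subgroup.coe_inv] at hyx ⊢
        rw [← hyx]
        group⟩
    have eQ : ↥P ≃* ↥Q := P.equivMapOfInjective _ (MulAut.conj n).injective
    have hcP : Nat.card (center ↥(P.subgroupOf T)) = 2 := by
      rw [← hZP]
      exact Nat.card_congr (Subgroup.centerCongr (subgroupOfEquivOfLe hPT)).toEquiv
    have hcQ : Nat.card (center ↥(Q.subgroupOf T)) = 2 := by
      rw [← hZP]
      exact Nat.card_congr
        (Subgroup.centerCongr ((subgroupOfEquivOfLe hQT).trans eQ.symm)).toEquiv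
    have hnaP : ¬ IsMulCommutative ↥(P.subgroupOf T) := fun hc => hP ⟨⟨fun a b => Subtype.ext
      (congrArg (fun u : ↥(P.subgroupOf T) => ((u : T) : S))
        (hc.1.comm ⟨⟨a, hPT a.2⟩, a.2⟩ ⟨⟨b, hPT b.2⟩, b.2⟩))⟩⟩
    have hnaQ : ¬ IsMulCommutative ↥(Q.subgroupOf T) := fun hc => hP ⟨⟨fun a b => eQ.injective
      (Subtype.ext (by
        rw [map_mul, map_mul]
        exact congrArg (fun u : ↥(Q.subgroupOf T) => ((u : T) : S))
          (hc.1.comm ⟨⟨eQ a, hQT (eQ a).2⟩, (eQ a).2⟩ ⟨⟨eQ b, hQT (eQ b).2⟩, (eQ b).2⟩)))⟩⟩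
    have hinf : P.subgroupOf T ⊓ Q.subgroupOf T = ⊥ := by
      rw [eq_bot_iff]
      rintro x ⟨hxP, y, hy, hyx⟩
      rw [mem_bot]
      simp only [MulEquiv.coe_toMonoidHom, MulAut.conj_apply, Subgroup.coe_subtype] at hyx
      have hy1 : y = 1 := (hPP' z hzP y hy).2 (by rw [hyx]; exact hxP)
      subst hy1
      exact Subtype.ext (by simpa using hyx.symm)
    have hcomm : ∀ x ∈ P.subgroupOf T, ∀ y ∈ Q.subgroupOf T, x * y = y * x := by
      rintro x hx y ⟨u, hu, huy⟩
      simp only [MulEquiv.coe_toMonoidHom, MulAut.conj_apply, Subgroup.coe_subtype] at huy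
      exact Subtype.ext (by rw [Subgroup.coe_mul, Subgroup.coe_mul, ← huy]; exact (hPP' x hx u hu).1)
    have hsup := centralizer_le_sup (h2.to_subgroup T) (subgroup hr T) _ _ hnaP hnaQ hcP hcQ
      hinf hcomm
    have hgC : (⟨g, hg⟩ : T) ∈ centralizer ((P.subgroupOf T ⊔ Q.subgroupOf T : Subgroup T) : Set T) := by
      rw [mem_centralizer_iff]
      intro u hu
      obtain ⟨a, ha, b, ⟨v, hv, hvb⟩, rfl⟩ := mem_sup_of_normal_left.1 hu
      simp only [MulEquiv.coe_toMonoidHom, MulAut.conj_apply, Subgroup.coe_subtype] at hvb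
      refine Subtype.ext ?_
      simp only [Subgroup.coe_mul]
      rw [← hvb, mul_assoc, ← hgP' v hv, ← mul_assoc, ← hgP a ha, mul_assoc]
    obtain ⟨a, ha, b, ⟨v, hv, hvb⟩, hab⟩ := mem_sup_of_normal_left.1 (hsup hgC)
    simp only [MulEquiv.coe_toMonoidHom, MulAut.conj_apply, Subgroup.coe_subtype] at hvb
    have hg' : (a : S) * (n * v * n⁻¹) = g := by rw [hvb]; exact congrArg Subtype.val hab
    have ea : (a : S) = 1 ∨ (a : S) = z := hzu a ha fun x hx => by
      have h1 := hgP x hx
      have h4 := (hPP' x hx v hv).1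
      rw [← hg'] at h1
      generalize n * v * n⁻¹ = u at h1 h4
      rw [mul_assoc, ← h4, ← mul_assoc, ← mul_assoc] at h1
      exact mul_right_cancel h1
    have ev : v = 1 ∨ v = z := hzu v hv fun x hx => by
      have h1 := hgP' x hx
      rw [← hg', ← mul_assoc (n * x * n⁻¹), ← (hPP' a ha x hx).1, mul_assoc (a : S),
        mul_assoc (a : S)] at h1
      have h3 := mul_left_cancel h1
      simpa using congrArg (fun t => n⁻¹ * t * n) h3
    rcases ea with ea | ea <;> rcases ev with ev | ev <;> rw [← hg', ea, ev]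
    · exact Or.inl (by simp)
    · exact Or.inr (Or.inr (Or.inl (by simp [z'])))
    · exact Or.inr (Or.inl (by simp))
    · exact Or.inr (Or.inr (Or.inr (by simp [w, z'])))
  -- the orbit of `z` under the normalizer
  have horb : ∀ m ∈ normalizer (T : Set S), m * z * m⁻¹ = z ∨ m * z * m⁻¹ = z' := by
    intro m hm
    by_contra hno
    push Not at hno
    have hmn : n⁻¹ * m * z * (n⁻¹ * m)⁻¹ ≠ z := fun h => hno.2 (by
      have h' := congrArg (fun t => n * t * n⁻¹) h
      simpa [z', mul_assoc] using h')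
    have hQ := hconj m hm hno.1
    have hQ' := hconj (n⁻¹ * m) (mul_mem (inv_mem hnN) hm) hmn
    apply hP
    refine ⟨⟨fun a b => Subtype.ext ?_⟩⟩
    have hf : ∀ x ∈ P, m * x * m⁻¹ = 1 ∨ m * x * m⁻¹ = z ∨ m * x * m⁻¹ = z' ∨ m * x * m⁻¹ = w := by
      intro x hx
      refine hfour _ ((hNn hm).1 (hPT hx)) (fun y hy => ((hQ y hy x hx).1).symm) fun y hy => ?_
      have h' := congrArg (fun t => n * t * n⁻¹) (hQ' y hy x hx).1
      simpa [mul_assoc] using h'.symm
    have hzz' : z * z' = z' * z := (hPP' z hzP z hzP).1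
    have hw : ∀ x ∈ P, ∀ y ∈ P,
        (m * x * m⁻¹) * (m * y * m⁻¹) = (m * y * m⁻¹) * (m * x * m⁻¹) := by
      intro x hx y hy
      have k1 : Commute z z' := hzz'
      have k2 : Commute z w := (Commute.refl z).mul_right k1
      have k3 : Commute z' w := k1.symm.mul_right (Commute.refl z')
      rcases hf x hx with e | e | e | e <;> rcases hf y hy with f | f | f | f <;> rw [e, f] <;>
        simp [k1.eq, k2.eq, k3.eq]
    have h' := congrArg (fun t => m⁻¹ * t * m) (hw a a.2 b b.2)
    simpa [mul_assoc] using h'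
  -- rank of `P`
  refine ⟨?_, ?_⟩
  · let μ : ↥P × ↥P →* S := MonoidHom.noncommCoprod P.subtype
      ((MulAut.conj n).toMonoidHom.comp P.subtype) fun a b => (hPP' a a.2 b b.2).1
    have hμ : Function.Injective μ := by
      rw [injective_iff_map_eq_one]
      rintro ⟨a, b⟩ hab
      have hab' : (a : S) * (n * b * n⁻¹) = 1 := hab
      have hb : (b : S) = 1 := (hPP' z hzP b b.2).2 (by
        rw [eq_inv_of_mul_eq_one_right hab']; exact inv_mem a.2)
      rw [hb, mul_one, mul_inv_cancel, mul_one] at hab'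
      exact Prod.ext (Subtype.ext hab') (Subtype.ext hb)
    exact left_of_prod (k := 4) (of_injective hr μ hμ) (h2.to_subgroup P)
      (not_isCyclic_of_not_comm hP)
  · have hN2 : T.relIndex (normalizer (T : Set S)) = 2 := by
      rw [relIndex, index_eq_two_iff]
      refine ⟨⟨n, hnN⟩⁻¹, fun m => ?_⟩
      simp only [mem_subgroupOf, Subgroup.coe_mul, Subgroup.coe_inv]
      rcases horb m m.2 with h | h
      · have hmT : (m : S) ∈ T := (hTz m).2 (mul_inv_eq_iff_eq_mul.1 h)
        exact Or.inr ⟨hmT, fun h' => hnT (inv_mem_iff.1 ((T.mul_mem_cancel_left hmT).1 h'))⟩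
      · refine Or.inl ⟨?_, fun hmT => hnz ?_⟩
        · rw [hNn (inv_mem hnN), hTz]
          have h' := congrArg (fun t => n⁻¹ * t * n) h
          simp only [z'] at h'
          have h'' : n⁻¹ * (m : S) * z = z * (n⁻¹ * m) := by
            have e : n⁻¹ * ((m : S) * z * (m : S)⁻¹) * n = z := by
              rw [h']; group
            calc n⁻¹ * (m : S) * z = (n⁻¹ * ((m : S) * z * (m : S)⁻¹) * n) * (n⁻¹ * m) := by group
              _ = _ := by rw [e]
          simpa [mul_assoc] using h''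
        · change z' = z
          rw [← h]
          exact mul_inv_eq_iff_eq_mul.2 ((hTz m).1 hmT)
    by_cases hNtop : normalizer (T : Set S) = ⊤
    · rwa [hNtop, relIndex_top_right] at hN2
    exfalso
    obtain ⟨t, htNN, htN⟩ := SetLike.exists_of_lt
      (hnc (normalizer (T : Set S)) (lt_top_iff_ne_top.2 hNtop))
    set N := normalizer (T : Set S) with hN
    have htN' : ∀ x, x ∈ N ↔ t * x * t⁻¹ ∈ N := fun x => mem_normalizer_iff.1 htNN x
    have hTN : T ≤ N := le_normalizer
    have hwN : ∀ m ∈ N, m * w * m⁻¹ = w := by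
      intro m hm
      have hk : Commute z z' := (hPP' z hzP z hzP).1
      have e : m * w * m⁻¹ = (m * z * m⁻¹) * (m * z' * m⁻¹) := by simp [w, mul_assoc]
      have hne' : m * z' * m⁻¹ ≠ m * z * m⁻¹ := by simpa using hnz
      have h3' : m * z' * m⁻¹ = z ∨ m * z' * m⁻¹ = z' := by
        rw [show m * z' * m⁻¹ = (m * n) * z * (m * n)⁻¹ by simp only [z']; group]
        exact horb _ (mul_mem hm hnN)
      rw [e]
      rcases horb m hm with h1 | h1 <;> rcases h3' with h3 | h3 <;> rw [h1, h3] at hne' ⊢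
      · exact absurd rfl hne'
      · exact hk.eq.symm
      · exact absurd rfl hne'
    -- `t` fixes `w`
    have hZN : ∀ g ∈ N, (∀ m ∈ N, m * g = g * m) → g = 1 ∨ g = w := by
      intro g hg hgc
      have hgT : g ∈ T := (hTz g).2 (hgc z (hTN (hPT hzP))).symm
      have hgn : n * g * n⁻¹ = g := mul_inv_eq_iff_eq_mul.2 (hgc n hnN)
      rcases hfour g hgT (fun x hx => (hgc x (hTN (hPT hx))).symm)
        (fun x hx => (hgc _ (hTN ((hNn hnN).1 (hPT hx)))).symm) with h1 | h1 | h1 | h1
      · exact Or.inl h1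
      · exact absurd (h1 ▸ hgn : n * z * n⁻¹ = z) hnz
      · rw [h1] at hgn
        exact absurd (by simpa [z'] using hgn) hnz
      · exact Or.inr h1
    have hw1 : w ≠ 1 := fun h1 => by
      have hk : z' = z⁻¹ := eq_inv_of_mul_eq_one_right h1
      exact hz1 ((hPP' z hzP z hzP).2 (show z' ∈ P by rw [hk]; exact inv_mem hzP))
    have htw : t * w * t⁻¹ = w := by
      have hwN' : w ∈ N := hTN (mul_mem (hPT hzP) hz'T)
      refine (hZN _ ((htN' w).1 hwN') fun m hm => ?_).resolve_left fun h1 => hw1 ?_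
      · have hm' : t⁻¹ * m * t ∈ N := (htN' _).2 (by simpa [mul_assoc] using hm)
        have h' := congrArg (fun u => t * u * t⁻¹) (mul_inv_eq_iff_eq_mul.1 (hwN _ hm'))
        simpa [mul_assoc] using h'
      · exact conj_eq_one_iff.1 h1
    let y : S := t * z * t⁻¹
    let y' : S := t * z' * t⁻¹
    have hyy' : y * y' = w := by
      rw [← htw]
      simp [y, y', w, mul_assoc]
    have hyN : y ∈ N := (htN' z).1 (hTN (hPT hzP))
    have hcy : ∀ m ∈ N, m * y * m⁻¹ = y ∨ m * y * m⁻¹ = y' := fun m hm => by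
      have hm' : t⁻¹ * m * t ∈ N := (htN' _).2 (by simpa [mul_assoc] using hm)
      rcases horb _ hm' with h1 | h1
      · exact Or.inl (by simpa [y, mul_assoc] using congrArg (fun u => t * u * t⁻¹) h1)
      · exact Or.inr (by simpa [y, y', mul_assoc] using congrArg (fun u => t * u * t⁻¹) h1)
    -- `C(y) = t T t⁻¹`
    have hCy : ∀ x, x * y = y * x ↔ t⁻¹ * x * t ∈ T := fun x => by
      rw [hTz]
      constructor <;> intro h1
      · simpa [y, mul_assoc] using congrArg (fun u => t⁻¹ * u * t) h1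
      · simpa [y, mul_assoc] using congrArg (fun u => t * u * t⁻¹) h1
    have hz2 : z * z = 1 := by
      obtain ⟨z₀, hz₀1, hz₀2, hz₀P, hz₀c, -⟩ := exists_center_eq_pair hZP
      rcases hzu z₀ hz₀P hz₀c with h1 | h1
      · exact absurd h1 hz₀1
      · rwa [← h1]
    have hzinv : z⁻¹ = z := inv_eq_of_mul_eq_one_right hz2
    have hy2 : y * y = 1 := by
      rw [show y * y = t * (z * z) * t⁻¹ by simp [y, mul_assoc], hz2, mul_one, mul_inv_cancel]
    have hy' : y' = y * w := by
      rw [← hyy', ← mul_assoc, hy2, one_mul]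
    have hwP : w ∉ P := fun h1 => by
      have : z' ∈ P := by
        simpa [w] using P.mul_mem (P.inv_mem hzP) h1
      exact hz1 ((hPP' z hzP z hzP).2 this)
    by_cases hyT : y ∈ T
    · -- `y` centralizes `P` and its conjugate
      have hcP : ∀ x ∈ P, y * x = x * y := fun x hx => by
        rcases hcy x (hTN (hPT hx)) with h1 | h1
        · exact (mul_inv_eq_iff_eq_mul.1 h1).symm
        · exfalso
          have h3 : x * y * x⁻¹ * y⁻¹ ∈ P := by
            rw [show x * y * x⁻¹ * y⁻¹ = x * (y * x⁻¹ * y⁻¹) by group]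
            exact mul_mem hx (hPn y hyT _ (inv_mem hx))
          rw [h1, hy'] at h3
          have hwy : y * w * y⁻¹ = w := hwN y hyN
          exact hwP (hwy ▸ h3)
      have hcP' : ∀ x ∈ P, y * (n * x * n⁻¹) = (n * x * n⁻¹) * y := fun x hx => by
        rcases hcy _ (hTN ((hNn hnN).1 (hPT hx))) with h1 | h1
        · exact (mul_inv_eq_iff_eq_mul.1 h1).symm
        · exfalso
          have hy'T : n⁻¹ * y * n ∈ T := by simpa using (hNn (inv_mem hnN)).1 hyT
          have h3 : n⁻¹ * (n * x * n⁻¹ * y * (n * x * n⁻¹)⁻¹ * y⁻¹) * n ∈ P := by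
            have := mul_mem hx (hPn _ hy'T _ (inv_mem hx))
            simpa [mul_assoc] using this
          rw [h1, hy'] at h3
          have hwy : y * w * y⁻¹ = w := hwN y hyN
          have hwn : n⁻¹ * w * n = w := by simpa using hwN _ (inv_mem hnN)
          rw [hwy, hwn] at h3
          exact hwP h3
      rcases hfour y hyT hcP hcP' with h1 | h1 | h1 | h1
      · exact hz1 (conj_eq_one_iff.1 h1)
      · refine htN (mem_normalizer_iff.2 fun x => ?_)
        change x ∈ T ↔ _
        rw [hTz (t * x * t⁻¹)]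
        constructor
        · intro hx
          have := (hCy (t * x * t⁻¹)).2 (by simpa [mul_assoc] using hx)
          rwa [h1] at this
        · intro hx
          have := (hCy (t * x * t⁻¹)).1 (by rw [h1]; exact hx)
          simpa [mul_assoc] using this
      · refine htN (mem_normalizer_iff.2 fun x => ?_)
        change x ∈ T ↔ _
        have hz'C : ∀ u, u * z' = z' * u ↔ u ∈ T := fun u => by
          rw [hNn (inv_mem hnN), hTz]
          constructor <;> intro h3
          · simpa [z', mul_assoc] using congrArg (fun v => n⁻¹ * v * n) h3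
          · simpa [z', mul_assoc] using congrArg (fun v => n * v * n⁻¹) h3
        rw [← hz'C (t * x * t⁻¹), ← h1, hCy]
        simp [mul_assoc]
      · have h3 : t * z * t⁻¹ = t * w * t⁻¹ := by rw [htw]; exact h1
        exact hwP ((show z = w by simpa using h3) ▸ hzP)
    · -- `y` interchanges `P` and its conjugate
      have hyn : n⁻¹ * y ∈ T := by
        rw [hTz]
        rcases horb y hyN with h1 | h1
        · exact absurd ((hTz y).2 (mul_inv_eq_iff_eq_mul.1 h1)) hyT
        · simpa [z', mul_assoc] using congrArg (fun u => n⁻¹ * u * y) h1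
      apply hP
      suffices hall : ∀ x ∈ P, x = 1 ∨ x = z by
        refine ⟨⟨fun a b => Subtype.ext ?_⟩⟩
        rcases hall a a.2 with e | e <;> rcases hall b b.2 with f | f <;> simp [e, f]
      intro x hx
      have hyx : ∃ v ∈ P, y * x * y⁻¹ = n * v * n⁻¹ :=
        ⟨n⁻¹ * y * x * (n⁻¹ * y)⁻¹, hPn _ hyn x hx, by group⟩
      obtain ⟨v, hv, hyv⟩ := hyx
      rcases hcy x (hTN (hPT hx)) with h1 | h1
      · have h3 : y * x * y⁻¹ = x :=
          mul_inv_eq_iff_eq_mul.2 (mul_inv_eq_iff_eq_mul.1 h1).symm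
        have h4 := (hPP' z hzP v hv).2 (by rw [← hyv, h3]; exact hx)
        rw [h3, h4, mul_one, mul_inv_cancel] at hyv
        exact Or.inl hyv
      · rw [hy'] at h1
        have h3 : y * x * y⁻¹ = w⁻¹ * x := by
          have hwy : Commute y w := (mul_inv_eq_iff_eq_mul.1 (hwN y hyN) : y * w = w * y)
          have h4 : x * y = w * y * x := by
            rw [← hwy.eq]; exact mul_inv_eq_iff_eq_mul.1 h1
          rw [eq_inv_mul_iff_mul_eq, ← mul_assoc, ← mul_assoc, ← h4, mul_assoc,
            mul_inv_cancel, mul_one]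
        rw [hyv] at h3
        have e : z⁻¹ * x = (n * z * n⁻¹) * (n * v * n⁻¹) := by
          rw [h3]
          have hk : Commute z z' := (hPP' z hzP z hzP).1
          simp [w, z', mul_assoc]
        have h4 : z⁻¹ * x ∈ P := mul_mem (inv_mem hzP) hx
        have h5 : n * (z * v) * n⁻¹ ∈ P := by
          rw [show n * (z * v) * n⁻¹ = (n * z * n⁻¹) * (n * v * n⁻¹) by group, ← e]
          exact h4
        have h6 := (hPP' z hzP (z * v) (mul_mem hzP hv)).2 h5
        right
        rw [show (n * z * n⁻¹) * (n * v * n⁻¹) = n * (z * v) * n⁻¹ by group, h6, mul_one,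
          mul_inv_cancel, inv_mul_eq_one] at e
        exact e.symm


/-- Let S be a finite 2-group of sectional 2-rank at most 4 and P a proper non-abelian subgroup whose centre has order 2. Let S₀ be the centralizer in S of Z(P) and suppose P is normal in S₀. Then either S₀ = S, or P has sectional 2-rank at most 2 and S₀ has index 2 in S. -/
theorem result {S : Type*} [Group S] [Finite S] (h2 : IsPGroup 2 S) (hr : Cfsg.SectionalPRankLE 2 4 S)
    (P : Subgroup S) (hPlt : P ≠ ⊤) (hP : ¬ IsMulCommutative ↥P) (hZP : Nat.card ↥(Subgroup.center ↥P) = 2)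
    (S₀ : Subgroup S) (hS₀ : S₀ = Subgroup.centralizer (((Subgroup.center ↥P).map P.subtype : Subgroup S) : Set S))
    (hPn : ∀ s ∈ S₀, ∀ x ∈ P, s * x * s⁻¹ ∈ P) :
    S₀ = ⊤ ∨ (Cfsg.SectionalPRankLE 2 2 ↥P ∧ S₀.index = 2) := by
  subst hS₀
  rcases eq_or_ne (Subgroup.centralizer (((Subgroup.center ↥P).map P.subtype : Subgroup S) : Set S))
    ⊤ with h | h
  · exact Or.inl h
  · exact Or.inr (main h2 hr P hP hZP _ rfl hPn h)

end Cfsg.Agent.S4401
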