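import Cfsg.Statements.S4402
import Cfsg.Agent.Lib.WrD8.Quotient

set_option autoImplicit false
open Cfsg

namespace Cfsg.Agent.S4402

open Subgroup Cfsg.Agent.Lib.WrD8

theorem exists_perm_hom : ∃ f : Wr →* Equiv.Perm (Fin 8), Function.Injective f := by
  obtain ⟨f, h1, h2, h3⟩ := exists_hom
    (Equiv.swap 0 1 * Equiv.swap 1 2 * Equiv.swap 2 3 : Equiv.Perm (Fin 8))
    (Equiv.swap 1 3) (Equiv.swap 0 4 * Equiv.swap 1 5 * Equiv.swap 2 6 * Equiv.swap 3 7)
    (by decide) (by decide) (by decide) (by decide)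
    (by unfold Commute SemiconjBy; decide) (by unfold Commute SemiconjBy; decide)
    (by unfold Commute SemiconjBy; decide)
  refine ⟨f, (MonoidHom.ker_eq_bot_iff f).1 ?_⟩
  by_contra hne
  -- a non-trivial normal subgroup of a 2-group meets the centre
  have := Fact.mk Nat.prime_two
  have hW : IsPGroup 2 Wr := IsPGroup.of_card (n := 7) (by rw [Wr.card]; norm_num)
  have h := Cfsg.Agent.Lib.PGroups.normal_inf_center_ne_bot hW f.ker hne
  obtain ⟨x, ⟨hxk, hxc⟩, hx1⟩ := ((f.ker ⊓ center Wr).bot_or_exists_ne_one).resolve_left h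
  obtain rfl : x = Wr.Z := (Wr.eq_one_or_Z_of_commute x (mem_center_iff.1 hxc _).symm
    (mem_center_iff.1 hxc _).symm (mem_center_iff.1 hxc _).symm).resolve_left hx1
  have hz : Wr.Z = Wr.R1 * Wr.R1 * (Wr.W * (Wr.R1 * Wr.R1) * Wr.W) := by decide
  have hk : f Wr.Z = 1 := hxk
  rw [hz] at hk; simp only [map_mul, h1, h3] at hk
  revert hk
  decide

theorem nonempty_sylow_equiv (T : Sylow 2 (Equiv.Perm (Fin 8))) :
    Nonempty (Wr ≃* ↥(T : Subgroup (Equiv.Perm (Fin 8)))) := by
  have := Fact.mk Nat.prime_two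
  obtain ⟨f, hf⟩ := exists_perm_hom
  have hc : Nat.card f.range = 128 := by
    rw [← Nat.card_congr (MonoidHom.ofInjective hf).toEquiv, Wr.card]
  have hp : IsPGroup 2 f.range := IsPGroup.of_card (n := 7) (by rw [hc]; norm_num)
  obtain ⟨Q, hQ⟩ := hp.exists_le_sylow
  have hQc : Nat.card Q = 128 := by
    rw [Q.card_eq_multiplicity, Nat.card_perm, Nat.card_eq_fintype_card, Fintype.card_fin,
      show Nat.factorial 8 = 2 ^ 7 * 315 from rfl, Nat.factorization_mul (by norm_num) (by norm_num),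
      Nat.Prime.factorization_pow Nat.prime_two]
    simp [Nat.factorization_eq_zero_of_not_dvd (show ¬ 2 ∣ 315 by norm_num)]
  have he : f.range = (Q : Subgroup (Equiv.Perm (Fin 8))) :=
    eq_of_le_of_card_ge hQ (by rw [hc]; exact hQc.le)
  exact ⟨((MonoidHom.ofInjective hf).trans (MulEquiv.subgroupCongr he)).trans (Sylow.equiv Q T)⟩


/-- Let S be a finite 2-group of sectional 2-rank at most 4 and P a proper subgroup isomorphic to the wreath product of the dihedral group of order 8 by a group of order 2 (equivalently, to a Sylow 2-subgroup of the symmetric group of degree 8; order 128). Then Z(S) = Z(P) has order 2, P has index 2 in its normalizer N_S(P), N_S(P)/Z(S) is again isomorphic to that wreath product, and every elementary abelian subgroup V of order 16 that is normal in P satisfies N_S(V) = P. -/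
theorem result {S : Type*} [Group S] [Finite S] (h2 : IsPGroup 2 S) (hr : Cfsg.SectionalPRankLE 2 4 S)
    (P : Subgroup S) (hPlt : P ≠ ⊤) (hP : ∃ T : Sylow 2 (Equiv.Perm (Fin 8)), Nonempty (↥P ≃* ↥(T : Subgroup (Equiv.Perm (Fin 8))))) :
    Subgroup.center S = (Subgroup.center ↥P).map P.subtype ∧ Nat.card ↥(Subgroup.center S) = 2 ∧
    P.relIndex (Subgroup.normalizer (P : Set S)) = 2 ∧
    (∃ (_ : ((Subgroup.center S).subgroupOf (Subgroup.normalizer (P : Set S))).Normal) (T : Sylow 2 (Equiv.Perm (Fin 8))),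
      Nonempty (↥(Subgroup.normalizer (P : Set S)) ⧸ (Subgroup.center S).subgroupOf (Subgroup.normalizer (P : Set S)) ≃*
        ↥(T : Subgroup (Equiv.Perm (Fin 8))))) ∧
    ∀ V : Subgroup S, V ≤ P → (∀ g ∈ P, ∀ v ∈ V, g * v * g⁻¹ ∈ V) → Cfsg.IsElementaryAbelian 2 V → Nat.card ↥V = 16 →
      Subgroup.normalizer (V : Set S) = P := by
  have := Fact.mk Nat.prime_two
  obtain ⟨T, ⟨eT⟩⟩ := hP
  obtain ⟨eW⟩ := nonempty_sylow_equiv T
  let e : ↥P ≃* Wr := eT.trans eW.symm
  let φ : Wr →* S := P.subtype.comp e.symm.toMonoidHom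
  have hφ : Function.Injective φ := P.subtype_injective.comp e.symm.injective
  have hφP : ∀ x, φ x ∈ P := fun x => (e.symm x).2
  have hφsurj : ∀ s ∈ P, ∃ x, φ x = s := fun s hs => ⟨e ⟨s, hs⟩, by simp [φ]⟩
  set N := normalizer (P : Set S) with hN
  have hPN : P ≤ N := le_normalizer
  let ψ : Wr →* N := φ.codRestrict N fun x => hPN (hφP x)
  have hψ : Function.Injective ψ := fun a b h => hφ (congrArg Subtype.val h :)
  have hψr : ψ.range = P.subgroupOf N := by
    ext ⟨s, hs⟩
    constructor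
    · rintro ⟨x, hx⟩
      rw [← hx]; exact hφP x
    · intro h
      obtain ⟨x, hx⟩ := hφsurj s h
      exact ⟨x, Subtype.ext hx⟩
  have hψn : ψ.range.Normal := by rw [hψr]; exact normal_in_normalizer
  have hnc := @Group.normalizerCondition_of_isNilpotent S _ h2.isNilpotent
  have hne : ψ.range ≠ ⊤ := by
    rw [hψr, Ne, subgroupOf_eq_top]
    exact not_le_of_gt (hnc P (lt_top_iff_ne_top.2 hPlt))
  have hNp : IsPGroup 2 N := h2.to_subgroup _
  have hNr := Cfsg.Agent.Lib.SectionalRank.subgroup hr N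
  obtain ⟨hidx, -⟩ := structure_normalizer ψ hψ hNp hNr hne
  -- the centre
  have hcent : ∀ s : S, (∀ x ∈ P, x * s = s * x) → ∃ w : Wr, (w = 1 ∨ w = Wr.Z) ∧ φ w = s := by
    intro s hs
    have hsN : s ∈ N := mem_normalizer_iff.2 fun x => by
      constructor
      · intro hx; rwa [← hs x hx, mul_inv_cancel_right]
      · intro hx
        have h := hs _ hx
        have h' : s * x * s⁻¹ = x := by
          have := congrArg (fun z => s⁻¹ * z) h.symm
          simp only [mul_assoc, inv_mul_cancel_left, inv_mul_cancel, mul_one] at this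
          rw [mul_assoc]; exact this
        rwa [h'] at hx
    obtain ⟨w, hw⟩ := centralizer_range_le ψ hψ hNp hNr (x := ⟨s, hsN⟩)
      (mem_centralizer_iff.2 (by rintro _ ⟨x, rfl⟩; exact Subtype.ext (hs _ (hφP x))))
    have hw' : φ w = s := congrArg Subtype.val hw
    have hc : ∀ x, w * x = x * w := fun x => hφ (by
      rw [map_mul, map_mul, hw']; exact (hs _ (hφP x)).symm)
    exact ⟨w, Wr.eq_one_or_Z_of_commute w (hc _) (hc _) (hc _), hw'⟩
  have hnt : Nontrivial S := ⟨φ Wr.Z, 1, fun h => Wr.Z_ne_one (hφ (h.trans (map_one φ).symm))⟩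
  have hZmem : φ Wr.Z ∈ center S := by
    have := h2.center_nontrivial
    obtain ⟨s, hs, hs1⟩ := ((center S).bot_or_exists_ne_one).resolve_left
      ((center S).nontrivial_iff_ne_bot.1 this)
    obtain ⟨w, rfl | rfl, rfl⟩ := hcent s fun x _ => mem_center_iff.1 hs x
    · exact absurd (map_one φ) hs1
    · exact hs
  have hZS : ∀ s, s ∈ center S ↔ s = 1 ∨ s = φ Wr.Z := fun s => by
    constructor
    · intro hs
      obtain ⟨w, rfl | rfl, rfl⟩ := hcent s fun x _ => mem_center_iff.1 hs x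
      · exact Or.inl (map_one φ)
      · exact Or.inr rfl
    · rintro (rfl | rfl)
      · exact one_mem _
      · exact hZmem
  have hZne : φ Wr.Z ≠ 1 := fun h => Wr.Z_ne_one (hφ (h.trans (map_one φ).symm))
  refine ⟨?_, ?_, ?_, ⟨inferInstance, T, ?_⟩, ?_⟩
  · ext s
    rw [Cfsg.Agent.Lib.SectionalRank.mem_map_center_iff, hZS]
    constructor
    · rintro (rfl | rfl)
      · exact ⟨one_mem P, fun y _ => by simp⟩
      · exact ⟨hφP _, fun y _ => (mem_center_iff.1 hZmem y).symm⟩
    · rintro ⟨-, hc⟩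
      obtain ⟨w, rfl | rfl, rfl⟩ := hcent s fun x hx => (hc x hx).symm
      · exact Or.inl (map_one φ)
      · exact Or.inr rfl
  · refine Nat.card_eq_two_iff.2 ⟨1, ⟨φ Wr.Z, hZmem⟩, fun h => hZne (congrArg Subtype.val h).symm, ?_⟩
    ext ⟨g, hg⟩
    simp only [Set.mem_insert_iff, Set.mem_singleton_iff, Set.mem_univ, iff_true]
    rcases (hZS g).1 hg with rfl | rfl <;> simp
  · rw [relIndex, ← hψr]; exact hidx
  · obtain ⟨E⟩ := nonempty_quotient_mulEquiv ψ hψ hNp hNr hne ((center S).subgroupOf N) fun g => by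
      rw [mem_subgroupOf, hZS, Subtype.ext_iff, Subtype.ext_iff]
      exact Iff.rfl
    exact ⟨E.trans eW⟩
  · intro V hVP hVn hVe hV16
    let V' : Subgroup Wr := V.comap φ
    have hV'n : V'.Normal := ⟨fun x hx g => by
      show φ (g * x * g⁻¹) ∈ V
      rw [map_mul, map_mul, map_inv]
      exact hVn _ (hφP g) _ hx⟩
    have hmap : V'.map φ = V := map_comap_eq_self fun s hs => hφsurj s (hVP hs)
    have hcard : Nat.card V' = 16 := by
      rw [← hV16, ← hmap]
      exact Nat.card_congr (V'.equivMapOfInjective φ hφ).toEquiv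
    have hcases := Wr.eq_V1_or_V2 V'
      (fun x hx y hy => hφ (by
        rw [map_mul, map_mul]
        exact Subtype.ext_iff.1 (hVe.1.1.comm ⟨φ x, hx⟩ ⟨φ y, hy⟩)))
      (fun x hx => hφ (by rw [map_mul, map_one, ← sq]; exact hVe.2 _ hx)) hcard
    obtain ⟨p, hp, hVp⟩ : ∃ p, (p = Wr.InV1 ∨ p = Wr.InV2) ∧ ∀ x, x ∈ V' ↔ p x := by
      rcases hcases with h | h
      · exact ⟨_, Or.inl rfl, h⟩
      · exact ⟨_, Or.inr rfl, h⟩
    have key : normalizer (V : Set S) ⊓ N ≤ P := fun g hg => by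
      obtain ⟨hgV, hgN⟩ := hg
      have h := not_normalize_V ψ hψ hNp hNr hne p hp ⟨g, hgN⟩ fun x hx => by
        rw [← hVp] at hx ⊢
        show φ (conjf ψ hψ ⟨g, hgN⟩ x) ∈ V
        have e1 : φ (conjf ψ hψ ⟨g, hgN⟩ x) = g * φ x * g⁻¹ :=
          congrArg Subtype.val (conjf_spec ψ hψ ⟨g, hgN⟩ x)
        rw [e1]
        exact (mem_normalizer_iff.1 hgV _).1 hx
      rw [hψr] at h
      exact h
    have hPV : P ≤ normalizer (V : Set S) := fun g hg => mem_normalizer_iff.2 fun v => by
      refine ⟨fun hv => hVn g hg v hv, fun hv => ?_⟩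
      have := hVn g⁻¹ (inv_mem hg) _ hv
      simpa [mul_assoc] using this
    refine le_antisymm ?_ hPV
    by_contra hle
    have hlt : P.subgroupOf (normalizer (V : Set S)) < ⊤ :=
      lt_top_iff_ne_top.2 fun h => hle (subgroupOf_eq_top.1 h)
    have hnc' := @Group.normalizerCondition_of_isNilpotent _ _
      ((h2.to_subgroup (normalizer (V : Set S))).isNilpotent)
    obtain ⟨m, hm, hm'⟩ := SetLike.exists_of_lt (hnc' _ hlt)
    refine hm' (mem_subgroupOf.2 (key ⟨m.2, mem_normalizer_iff.2 fun x => ?_⟩))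
    rw [mem_normalizer_iff] at hm
    constructor
    · intro hx
      exact (hm ⟨x, hPV hx⟩).1 hx
    · intro hx
      have hxV : x ∈ normalizer (V : Set S) := by
        have h3 := mul_mem (mul_mem (inv_mem m.2) (hPV hx)) m.2
        simpa [mul_assoc] using h3
      exact (hm ⟨x, hxV⟩).2 hx

end Cfsg.Agent.S4402
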