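import Cfsg.Statements.S4403
import Cfsg.Agent.Lib.Components.GenFitting
import Cfsg.Agent.Lib.Cores.Basic
import Cfsg.Agent.Lib.Multiplier.Sylow

set_option autoImplicit false
open Cfsg

namespace Cfsg.Agent.S4403

open Subgroup

section
variable {K : Type*} [Group K] [Finite K] {p : ℕ} [Fact p.Prime]

/-- A subnormal subgroup of order prime to `p` is trivial when `O_{p'}(K) = 1`. -/
theorem subnormal_prime_to_eq_bot (hO : pPrimeCore p K = ⊥) {H : Subgroup K} (hH : H.IsSubnormal)
    (hp : (Nat.card H).Coprime p) : H = ⊥ := by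
  suffices key : ∀ N : Subgroup K, N.IsSubnormal → (pPrimeCore p N).map N.subtype ≤ pPrimeCore p K by
    rw [eq_bot_iff, ← hO]
    refine le_trans ?_ (key H hH)
    have h1 : (⊤ : Subgroup H) ≤ pPrimeCore p H :=
      Lib.Cores.le_pPrimeCore (by rw [Subgroup.card_top]; exact hp)
    refine le_trans (le_of_eq ?_) (map_mono h1)
    rw [← MonoidHom.range_eq_map, Subgroup.range_subtype]
  intro N hN
  induction hN with
  | top =>
    haveI := Lib.Cores.normal_map_subtype (⊤ : Subgroup K) (pPrimeCore p (⊤ : Subgroup K))
    exact Lib.Cores.le_pPrimeCore (by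
      rw [card_map_of_injective (Subgroup.subtype_injective _)]
      exact Lib.Cores.pPrimeCore_coprime p)
  | step H N hle _ hn ih =>
    haveI := hn
    refine le_trans ?_ ih
    haveI := Lib.Cores.normal_map_subtype (H.subgroupOf N) (pPrimeCore p (H.subgroupOf N))
    have h1 : ((pPrimeCore p (H.subgroupOf N)).map (H.subgroupOf N).subtype).map N.subtype
        ≤ (pPrimeCore p N).map N.subtype :=
      map_mono (Lib.Cores.le_pPrimeCore (by
        rw [card_map_of_injective (Subgroup.subtype_injective _)]
        exact Lib.Cores.pPrimeCore_coprime p))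
    refine le_trans (le_of_eq ?_) h1
    rw [← Lib.Cores.map_pPrimeCore_equiv (Subgroup.subgroupOfEquivOfLe hle), Subgroup.map_map,
      Subgroup.map_map]
    rfl

theorem fitting_eq_pCore (hO : pPrimeCore p K = ⊥) : fittingSubgroup K = pCore p K := by
  rw [Lib.Cores.fittingSubgroup_eq_iSup_pCore]
  refine le_antisymm (iSup_le fun q => ?_) (le_iSup (fun q : Nat.Primes => pCore (q : ℕ) K) ⟨p, Fact.out⟩)
  by_cases hq : (q : ℕ) = p
  · rw [hq]
  · haveI : Fact (q : ℕ).Prime := ⟨q.2⟩
    have h : pCore (q : ℕ) K = ⊥ := by
      refine subnormal_prime_to_eq_bot hO (Subgroup.Normal.isSubnormal (pCore_normal _ K)) ?_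
      obtain ⟨n, hn⟩ := IsPGroup.iff_card.1 (Lib.Cores.pCore_isPGroup (G := K) (q : ℕ))
      rw [hn]
      exact ((Nat.coprime_primes q.2 Fact.out).2 hq).pow_left n
    rw [h]; exact bot_le

variable (P : Sylow p K) [hP : IsCyclic ↥(P : Subgroup K)]
include hP

theorem cyclic_of_pGroup {H : Subgroup K} (hH : IsPGroup p H) : IsCyclic H := by
  obtain ⟨Q, hQ⟩ := hH.exists_le_sylow
  obtain ⟨g, rfl⟩ := MulAction.exists_smul_eq K P Q
  have h := (P.equivSMul g)
  have : IsCyclic ↥((g • P : Sylow p K) : Subgroup K) := isCyclic_of_surjective _ h.surjective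
  exact isCyclic_of_injective (Subgroup.inclusion hQ) (Subgroup.inclusion_injective hQ)

/-- Commuting elements of order `p` generate the same subgroup. -/
theorem mem_zpowers_of_commute {x y : K} (hx : orderOf x = p) (hy : orderOf y = p)
    (hc : Commute x y) : y ∈ zpowers x := by
  have hp : p.Prime := Fact.out
  have hn : zpowers y ≤ normalizer (zpowers x : Set K) := by
    refine (zpowers_le.2 ?_).trans (centralizer_le_normalizer _)
    rw [mem_centralizer_iff]
    intro a ha
    obtain ⟨i, rfl⟩ := mem_zpowers_iff.1 ha
    exact (hc.zpow_left i).eq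
  have hH : IsPGroup p ↥(zpowers x ⊔ zpowers y) :=
    IsPGroup.to_sup_of_normal_left' (IsPGroup.of_card (n := 1) (by rw [Nat.card_zpowers, hx, pow_one]))
      (IsPGroup.of_card (n := 1) (by rw [Nat.card_zpowers, hy, pow_one])) hn
  have := cyclic_of_pGroup P hH
  classical
  have := Fintype.ofFinite ↥(zpowers x ⊔ zpowers y)
  let x' : ↥(zpowers x ⊔ zpowers y) := ⟨x, mem_sup_left (mem_zpowers x)⟩
  let y' : ↥(zpowers x ⊔ zpowers y) := ⟨y, mem_sup_right (mem_zpowers y)⟩
  have hcard := IsCyclic.card_pow_eq_one_le (α := ↥(zpowers x ⊔ zpowers y)) hp.pos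
  have hx' : orderOf x' = p := by rw [← Subgroup.orderOf_coe]; exact hx
  have hy' : orderOf y' = p := by rw [← Subgroup.orderOf_coe]; exact hy
  have hsub : ((zpowers x' : Subgroup ↥(zpowers x ⊔ zpowers y)) : Set ↥(zpowers x ⊔ zpowers y)).toFinset ⊆ Finset.univ.filter (fun u => u ^ p = 1) := by
    intro u hu
    rw [Set.mem_toFinset, SetLike.mem_coe] at hu
    obtain ⟨k, rfl⟩ := mem_zpowers_iff.1 hu
    rw [Finset.mem_filter, ← zpow_natCast, ← zpow_mul, mul_comm, zpow_mul, zpow_natCast, ← hx',
      pow_orderOf_eq_one, one_zpow]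
    exact ⟨Finset.mem_univ _, rfl⟩
  have he := Finset.eq_of_subset_of_card_le hsub (by
    refine hcard.trans (le_of_eq ?_)
    rw [← Set.ncard_eq_toFinset_card', ← Nat.card_coe_set_eq]
    exact ((Nat.card_zpowers x').trans hx').symm)
  have hy'' : y' ∈ Finset.univ.filter (fun u => u ^ p = 1) := by simp [← hy', pow_orderOf_eq_one]
  rw [← he, Set.mem_toFinset] at hy''
  obtain ⟨k, hk⟩ := mem_zpowers_iff.1 hy''
  exact ⟨k, by simpa [x', y'] using congrArg Subtype.val hk⟩

end

/-- Let K be a finite group, p a prime dividing its order with O_{p'}(K) = 1 (no nontrivial normal subgroup of order prime to p), and P a cyclic Sylow p-subgroup of K. Then either P is normal and self-centralizing in K with K/P cyclic of order dividing p − 1 (so K is the semidirect product of P by a group of automorphisms of P of order dividing p − 1), or the generalized Fitting subgroup F*(K) is a non-abelian simple group and p does not divide the index of F*(K) in K. -/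
theorem result {K : Type*} [Group K] [Finite K] (p : ℕ) [Fact p.Prime] (hp : p ∣ Nat.card K) (hO : Cfsg.pPrimeCore p K = ⊥)
    (P : Sylow p K) (hP : IsCyclic ↥(P : Subgroup K)) :
    ((P : Subgroup K).Normal ∧ Subgroup.centralizer ((P : Subgroup K) : Set K) = (P : Subgroup K) ∧
      (∀ (_ : (P : Subgroup K).Normal), IsCyclic (K ⧸ (P : Subgroup K))) ∧ (P : Subgroup K).index ∣ p - 1) ∨
    (IsSimpleGroup ↥(Cfsg.generalizedFittingSubgroup K) ∧ ¬ IsMulCommutative ↥(Cfsg.generalizedFittingSubgroup K) ∧
      ¬ p ∣ (Cfsg.generalizedFittingSubgroup K).index) := by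
  have hpp : p.Prime := Fact.out
  have : IsCyclic ↥(P : Subgroup K) := hP
  have hPc : IsMulCommutative ↥(P : Subgroup K) := hP.isMulCommutative
  have hF := fitting_eq_pCore hO
  by_cases hlay : layer K = ⊥
  · left
    have hFs : generalizedFittingSubgroup K = pCore p K := by
      rw [generalizedFittingSubgroup, hlay, bot_sup_eq, hF]
    have hRP : pCore p K ≤ P := Lib.Cores.pCore_le_sylow P
    have hPR : (P : Subgroup K) ≤ pCore p K := by
      rw [← hFs]
      refine le_trans ?_ Lib.Components.GenFitting.centralizer_le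
      rw [hFs]
      exact (P : Subgroup K).le_centralizer.trans (Subgroup.centralizer_le hRP)
    have heq : (P : Subgroup K) = pCore p K := le_antisymm hPR hRP
    have hPn : (P : Subgroup K).Normal := heq ▸ pCore_normal p K
    have hC : Subgroup.centralizer ((P : Subgroup K) : Set K) = (P : Subgroup K) := by
      refine le_antisymm ?_ (P : Subgroup K).le_centralizer
      rw [heq, ← hFs]
      exact Lib.Components.GenFitting.centralizer_le
    obtain ⟨a, ha⟩ := IsPGroup.iff_card.1 P.isPGroup'
    let φ : K →* MulAut ↥(P : Subgroup K) := MulAut.conjNormal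
    have hker : φ.ker = (P : Subgroup K) := by
      refine Eq.trans ?_ hC
      ext g
      rw [MonoidHom.mem_ker, Subgroup.mem_centralizer_iff]
      constructor
      · intro h y hy
        have h2 : g * y * g⁻¹ = y := by
          have := congrArg (fun f : MulAut ↥(P : Subgroup K) => ((f ⟨y, hy⟩ : ↥(P : Subgroup K)) : K)) h
          simpa [φ] using this
        exact (mul_inv_eq_iff_eq_mul.1 h2).symm
      · intro h
        refine MulEquiv.ext fun y => Subtype.ext ?_
        simp [φ, MulAut.conjNormal_apply, ← h y y.2]
    let e1 : K ⧸ (P : Subgroup K) →* (ZMod (Nat.card ↥(P : Subgroup K)))ˣ :=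
      (IsCyclic.mulAutMulEquiv ↥(P : Subgroup K)).toMonoidHom.comp
        ((QuotientGroup.kerLift φ).comp (QuotientGroup.quotientMulEquivOfEq hker.symm).toMonoidHom)
    have he1 : Function.Injective e1 :=
      (IsCyclic.mulAutMulEquiv ↥(P : Subgroup K)).injective.comp
        ((QuotientGroup.kerLift_injective φ).comp (MulEquiv.injective _))
    have : NeZero (Nat.card ↥(P : Subgroup K)) := ⟨Nat.card_pos.ne'⟩
    have hd : (P : Subgroup K).index ∣ p - 1 := by
      have h := Subgroup.card_dvd_of_injective e1 he1
      have hcop : ((P : Subgroup K).index).Coprime p :=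
        (hpp.coprime_iff_not_dvd.2 P.not_dvd_index).symm
      rw [← Subgroup.index_eq_card, Nat.card_eq_fintype_card, ZMod.card_units_eq_totient, ha] at h
      rcases Nat.eq_zero_or_pos a with rfl | ha0
      · rw [pow_zero, Nat.totient_one, Nat.dvd_one] at h; rw [h]; exact one_dvd _
      · rw [Nat.totient_prime_pow hpp ha0] at h
        exact (hcop.pow_right _).dvd_of_dvd_mul_left h
    refine ⟨hPn, hC, fun _ => ?_, hd⟩
    by_cases hp2 : p = 2
    · subst hp2
      have h1 : (P : Subgroup K).index = 1 := Nat.dvd_one.1 hd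
      rw [Subgroup.index_eq_card] at h1
      have := (Nat.card_eq_one_iff_unique.1 h1).1
      infer_instance
    · have hcyc : IsCyclic (ZMod (Nat.card ↥(P : Subgroup K)))ˣ :=
        ha ▸ ZMod.isCyclic_units_of_prime_pow p hpp hp2 a
      exact isCyclic_of_injective e1 he1
  · right
    obtain ⟨L, hL⟩ := Lib.Components.Layer.layer_ne_bot_iff.1 hlay
    have hdvd : ∀ L : Subgroup K, IsComponent L → p ∣ Nat.card L := fun L hL => by
      by_contra h
      exact Lib.Components.Component.ne_bot hL
        (subnormal_prime_to_eq_bot hO hL.1 (hpp.coprime_iff_not_dvd.2 h).symm)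
    have hZ : ∀ L : Subgroup K, IsComponent L → Subgroup.center L = ⊥ := by
      intro L hL
      have hpZ : ¬ p ∣ Nat.card (Subgroup.center L) := by
        intro h
        obtain ⟨z, hz⟩ := exists_prime_orderOf_dvd_card' p h
        obtain ⟨Q⟩ : Nonempty (Sylow p L) := inferInstance
        have hzQ := Lib.Multiplier.central_pElement_mem_sylow Q (z : L) z.2 (k := 1) (by
          rw [pow_one, ← hz, ← Subgroup.orderOf_coe, pow_orderOf_eq_one])
        have := Lib.Multiplier.mem_commutator_sylow Q (z : L) z.2 (by rw [hL.2.1.1]; trivial) hzQ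
        have hQc := cyclic_of_pGroup P (Q.2.map L.subtype)
        have hQc' : IsCyclic ↥(Q : Subgroup L) := isCyclic_of_injective
          ((Q : Subgroup L).equivMapOfInjective _ L.subtype_injective).toMonoidHom (MulEquiv.injective _)
        have hQ : ⁅(Q : Subgroup L), (Q : Subgroup L)⁆ = ⊥ :=
          Subgroup.commutator_eq_bot_iff_le_centralizer.2
            (have := hQc'.isMulCommutative; (Q : Subgroup L).le_centralizer)
        rw [hQ, Subgroup.mem_bot] at this
        rw [← Subgroup.orderOf_coe, this, orderOf_one] at hz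
        exact hpp.one_lt.ne hz
      have hsn : ((Subgroup.center L).map L.subtype).IsSubnormal :=
        (Subgroup.Normal.isSubnormal inferInstance).trans' hL.1
      have := subnormal_prime_to_eq_bot hO hsn (by
        rw [Subgroup.card_map_of_injective L.subtype_injective]
        exact (hpp.coprime_iff_not_dvd.2 hpZ).symm)
      exact (Subgroup.map_eq_bot_iff_of_injective _ L.subtype_injective).1 this
    have hone : ∀ L : Subgroup K, IsComponent L → ∀ u ∈ L, (∀ v ∈ L, v * u = u * v) → u = 1 := by
      intro L hL u hu h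
      have : (⟨u, hu⟩ : L) ∈ Subgroup.center L :=
        Subgroup.mem_center_iff.2 fun v => Subtype.ext (h v v.2)
      rw [hZ L hL, Subgroup.mem_bot] at this
      exact congrArg Subtype.val this
    obtain ⟨⟨x, hxL⟩, hx⟩ := exists_prime_orderOf_dvd_card' p (hdvd L hL)
    rw [← Subgroup.orderOf_coe] at hx
    -- no element of order `p` centralizes `L`
    have hnone : ∀ y : K, orderOf y = p → (∀ v ∈ L, v * y = y * v) → False := by
      intro y hy hyc
      have hmem := mem_zpowers_of_commute P hx hy (hyc x hxL)
      have := hone L hL y ((Subgroup.zpowers_le.2 hxL) hmem) hyc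
      rw [this, orderOf_one] at hy
      exact hpp.one_lt.ne hy
    have huniq : ∀ L' : Subgroup K, IsComponent L' → L' = L := by
      intro L' hL'
      by_contra hne
      obtain ⟨⟨y, hyL⟩, hy⟩ := exists_prime_orderOf_dvd_card' p (hdvd L' hL')
      rw [← Subgroup.orderOf_coe] at hy
      exact hnone y hy fun v hv =>
        Subgroup.mem_centralizer_iff.1 (Lib.Components.Component.le_centralizer_of_ne hL' hL hne hyL) v hv
    have hlayL : layer K = L :=
      le_antisymm (sSup_le fun L' hL' => (huniq L' hL').le) (Lib.Components.Layer.component_le_layer hL)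
    have hR : pCore p K = ⊥ := by
      by_contra hne
      have : p ∣ Nat.card (pCore p K) := by
        obtain ⟨n, hn⟩ := IsPGroup.iff_card.1 (Lib.Cores.pCore_isPGroup (G := K) p)
        rw [hn]
        refine dvd_pow_self p fun h => hne ?_
        rw [h, pow_zero] at hn
        exact Subgroup.eq_bot_of_card_eq _ hn
      obtain ⟨⟨y, hyR⟩, hy⟩ := exists_prime_orderOf_dvd_card' p this
      rw [← Subgroup.orderOf_coe] at hy
      refine hnone y hy fun v hv => ?_
      have h2 := Lib.Components.Layer.fitting_le_centralizer_layer (G := K) (hF ▸ hyR)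
      exact Subgroup.mem_centralizer_iff.1 h2 v (hlayL ▸ hv)
    have hFs : generalizedFittingSubgroup K = L := by
      rw [generalizedFittingSubgroup, hlayL, hF, hR, sup_bot_eq]
    have hLn : L.Normal := by rw [← hFs]; infer_instance
    rw [hFs]
    have hsimple : IsSimpleGroup L := by
      have := hL.2.2
      exact MulEquiv.isSimpleGroup
        ((QuotientGroup.quotientMulEquivOfEq (hZ L hL)).trans QuotientGroup.quotientBot).symm
    refine ⟨hsimple, Lib.Components.Component.not_isMulCommutative hL, ?_⟩
    have hPL : (P : Subgroup K) ≤ L := by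
      let H := L ⊔ (P : Subgroup K)
      let PH : Sylow p H := P.subtype le_sup_right
      have : IsCyclic ↥(PH : Subgroup H) := isCyclic_of_surjective _
        (Subgroup.subgroupOfEquivOfLe (le_sup_right : (P : Subgroup K) ≤ H)).symm.surjective
      set L' := L.subgroupOf H with hL'
      have hperf : L' ≤ _root_.commutator H := by
        rw [← Subgroup.map_subtype_le_map_subtype, Subgroup.map_subgroupOf_eq_of_le le_sup_left,
          Subgroup.map_subtype_commutator]
        conv_lhs => rw [← Lib.Components.Component.commutator_self hL]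
        exact Subgroup.commutator_mono le_sup_left le_sup_left
      have hab : _root_.commutator H ≤ L' := by
        rw [← Subgroup.map_subtype_le_map_subtype, Subgroup.map_subgroupOf_eq_of_le le_sup_left,
          Subgroup.map_subtype_commutator, Subgroup.commutator_le]
        intro u hu v hv
        obtain ⟨l1, hl1, q1, hq1, rfl⟩ := Subgroup.mem_sup_of_normal_left.1 hu
        obtain ⟨l2, hl2, q2, hq2, rfl⟩ := Subgroup.mem_sup_of_normal_left.1 hv
        rw [← QuotientGroup.eq_one_iff, ← QuotientGroup.mk'_apply, map_commutatorElement,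
          map_mul, map_mul, show QuotientGroup.mk' L l1 = 1 from (QuotientGroup.eq_one_iff _).2 hl1,
          show QuotientGroup.mk' L l2 = 1 from (QuotientGroup.eq_one_iff _).2 hl2, one_mul, one_mul,
          commutatorElement_eq_one_iff_mul_comm, ← map_mul, ← map_mul,
          setLike_mul_comm (S := Subgroup K) hq1 hq2]
      have heq : _root_.commutator H = L' := le_antisymm hab hperf
      rcases Sylow.not_dvd_card_commutator_or_not_dvd_index_commutator PH with h | h
      · exfalso
        apply h
        rw [heq, Nat.card_congr (Subgroup.subgroupOfEquivOfLe (le_sup_left : L ≤ H)).toEquiv]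
        exact hdvd L hL
      · rw [heq] at h
        have h2 : L'.index ∣ Nat.card ↥(P : Subgroup K) := by
          show L.relIndex (L ⊔ (P : Subgroup K)) ∣ _
          rw [Subgroup.relIndex_sup_left]
          exact Subgroup.relIndex_dvd_card L (P : Subgroup K)
        obtain ⟨a, ha⟩ := IsPGroup.iff_card.1 P.isPGroup'
        rw [ha] at h2
        obtain ⟨i, -, hi⟩ := (Nat.dvd_prime_pow hpp).1 h2
        have hi0 : i = 0 := by
          by_contra h0
          exact h (hi ▸ dvd_pow_self p h0)
        rw [hi0, pow_zero, Subgroup.index_eq_one, Subgroup.subgroupOf_eq_top] at hi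
        exact le_sup_right.trans hi
    exact fun h => P.not_dvd_index (h.trans (Subgroup.index_dvd_of_le hPL))

end Cfsg.Agent.S4403
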