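import Cfsg.Statements.S4404
import Cfsg.Agent.Lib.Fg6.FourGroupConj
import Cfsg.Agent.Lib.Hall.Basic

set_option autoImplicit false
set_option linter.style.haveILetI false
open Cfsg

namespace Cfsg.Agent.S4404

open Subgroup Lib.Fg6.FourGroupConj

variable {S : Type*} [Group S] [Finite S] {M : Subgroup S} [M.Normal]
  {hM : Cfsg.IsElementaryAbelian 2 M}

/-- What has to be produced, with the normalised subgroup kept general. -/
def Witness (W : Subgroup S) : Prop :=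
  ∃ (r : ℕ) (F V : Subgroup S), r.Prime ∧ r ≠ 2 ∧ Cfsg.IsElementaryAbelian r F ∧ Nat.card F = r ^ 3 ∧
    W ≤ V ∧ Nat.card V ≤ r + 1 ∧ F ≤ normalizer (V : Set S)

theorem conclude {W : Subgroup S} (h : Witness W) :
    ∃ (r : ℕ) (F : Subgroup S), r.Prime ∧ r ≠ 2 ∧ Cfsg.IsElementaryAbelian r F ∧ Nat.card F = r ^ 3 ∧
      ¬ IsCyclic ↥(F ⊓ centralizer (W : Set S)) := by
  obtain ⟨r, F, V, hr, hr2, hF, hF3, hWV, hV, hFV⟩ := h
  refine ⟨r, F, hr, hr2, hF, hF3, fun hc => ?_⟩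
  have h1 := card_inf_centralizer hr hF hF3 hFV hV
  have h2 : Nat.card (F ⊓ centralizer (V : Set S) : Subgroup S) ≤
      Nat.card (F ⊓ centralizer (W : Set S) : Subgroup S) :=
    card_le_of_le (inf_le_inf_left F (centralizer_le hWV))
  obtain ⟨g, hg⟩ := hc.exists_generator
  have h3 : Nat.card (F ⊓ centralizer (W : Set S) : Subgroup S) ≤ r := by
    rw [← orderOf_eq_card_of_forall_mem_zpowers hg]
    exact Nat.le_of_dvd hr.pos (orderOf_dvd_of_pow_eq_one (Subtype.ext (hF.2 g g.2.1)))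
  have := hr.two_le
  nlinarith

theorem exists_elem_cube {r : ℕ} [hr : Fact r.Prime] {P : Subgroup S} (h : ¬ Cfsg.PRankLE r 2 P) :
    ∃ F : Subgroup S, F ≤ P ∧ Cfsg.IsElementaryAbelian r F ∧ Nat.card F = r ^ 3 := by
  simp only [Cfsg.PRankLE, not_forall, not_le] at h
  obtain ⟨A, hAc, hAe, hA⟩ := h
  have hp : IsPGroup r A := fun a => ⟨1, Subtype.ext (by simpa using hAe a a.2)⟩
  obtain ⟨n, hn⟩ := IsPGroup.iff_card.1 hp
  have h3 : r ^ 3 ≤ Nat.card A := by
    rw [hn] at hA ⊢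
    exact Nat.pow_le_pow_right hr.out.pos ((Nat.pow_lt_pow_iff_right hr.out.one_lt).1 hA)
  obtain ⟨B, hB⟩ := Sylow.exists_subgroup_card_pow_prime r
    (show r ^ 3 ∣ Nat.card A by
      rw [hn] at h3 ⊢
      exact pow_dvd_pow r ((Nat.pow_le_pow_iff_right hr.out.one_lt).1 h3))
  refine ⟨(B.map A.subtype).map P.subtype, map_subtype_le _, ⟨⟨⟨?_⟩⟩, ?_⟩, ?_⟩
  · rintro ⟨_, ⟨_, ⟨a, -, rfl⟩, rfl⟩⟩ ⟨_, ⟨_, ⟨b, -, rfl⟩, rfl⟩⟩
    refine Subtype.ext ?_
    show ((a : P) : S) * (b : P) = (b : P) * (a : P)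
    exact congrArg (fun z : A => ((z : P) : S)) (hAc.is_comm.comm a b)
  · rintro _ ⟨_, ⟨a, -, rfl⟩, rfl⟩
    exact congrArg Subtype.val (hAe a a.2)
  · rw [card_map_of_injective P.subtype_injective, card_map_of_injective A.subtype_injective, hB]

theorem not_prankLE_of_le {r : ℕ} [hr : Fact r.Prime] {P F : Subgroup S} (hle : F ≤ P)
    (hF : Cfsg.IsElementaryAbelian r F) (hF3 : Nat.card F = r ^ 3) : ¬ Cfsg.PRankLE r 2 P := by
  intro h
  have h1 := h (F.subgroupOf P) ⟨⟨fun a b => Subtype.ext (Subtype.ext (congrArg Subtype.val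
    (hF.1.is_comm.comm ⟨_, a.2⟩ ⟨_, b.2⟩) :))⟩⟩ fun a ha => Subtype.ext (hF.2 _ ha)
  rw [Nat.card_congr (subgroupOfEquivOfLe hle).toEquiv, hF3] at h1
  exact absurd h1 (not_le.2 (Nat.pow_lt_pow_right hr.out.one_lt (by norm_num)))

/-- An element of a Sylow subgroup of rank three. -/
theorem witness_sylow {l : ℕ} [hl : Fact l.Prime] (hl2 : l ≠ 2) {P : Subgroup S} (hP : IsPGroup l P)
    (hr : ¬ Cfsg.PRankLE l 2 P) {t : S} (ht : t ∈ P) (htl : t ^ l ∈ centralizer (M : Set S))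
    (htc : Nat.card (D hM t) = l + 1)
    (hcomm : ∀ x ∈ P, ∀ y ∈ P, Nat.card (D hM x) = l + 1 → Nat.card (D hM y) = l + 1 →
      x⁻¹ * (y * x * y⁻¹) ∈ centralizer (M : Set S))
    {W : Subgroup S} (hW : W ≤ D hM t) : Witness W := by
  obtain ⟨A, ⟨hAP, hPA, hAC⟩, hA3⟩ := Lib.OddOrder.SCN.exists_scn3 hl2 hP hr
  have hodd : Odd (Nat.card P) := by
    obtain ⟨n, hn⟩ := IsPGroup.iff_card.1 hP
    rw [hn]; exact (hl.out.odd_of_ne_two hl2).pow
  have hAc : IsMulCommutative A := ⟨⟨fun a b => Subtype.ext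
    (mem_centralizer_iff.1 (hAC.ge a.2).2 b b.2).symm⟩⟩
  have hne : D hM t ≠ ⊥ := fun h => by
    rw [h, card_bot] at htc
    have := hl.out.two_le
    omega
  have hnorm : A ≤ normalizer (D hM t : Set S) := by
    refine le_normalizer_D hodd hAP hPA hAc ht hne fun g hg => ?_
    have hy : g * t * g⁻¹ ∈ P := mul_mem (mul_mem hg ht) (inv_mem hg)
    have hyc : Nat.card (D hM (g * t * g⁻¹)) = l + 1 := (card_D_conj t g).trans htc
    refine eq_or_centralizes htl (hodd.of_dvd_nat (P.orderOf_dvd_natCard ht)) (fun n hn hn1 => ?_)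
      (hyc.trans htc.symm) (mem_normalizer_of_comm (hcomm _ hy _ ht hyc htc))
      (mem_normalizer_of_comm (hcomm _ ht _ hy htc hyc))
    rw [htc] at hn ⊢
    have h1 := Nat.le_of_dvd (Nat.succ_pos l) hn
    rcases eq_or_lt_of_le h1 with h | h
    · exact Or.inr h
    · left
      rcases eq_or_lt_of_le (Nat.lt_succ_iff.1 h) with h' | h'
      · rw [h', Nat.mod_self] at hn1; exact absurd hn1 (by norm_num)
      · rwa [Nat.mod_eq_of_lt h'] at hn1
  obtain ⟨F, hFA, hF, hF3⟩ := exists_elem_cube hA3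
  exact ⟨l, F, D hM t, hl.out, hl2, hF, hF3, hW, htc.le, hFA.trans hnorm⟩

theorem comm_symm {x y : S} (h : x⁻¹ * (y * x * y⁻¹) ∈ centralizer (M : Set S)) :
    y⁻¹ * (x * y * x⁻¹) ∈ centralizer (M : Set S) := by
  rw [← QuotientGroup.eq_one_iff] at h ⊢
  simp only [QuotientGroup.mk_mul, QuotientGroup.mk_inv] at h ⊢
  rw [inv_mul_eq_one, eq_mul_inv_iff_mul_eq] at h ⊢
  exact h.symm

/-- A Sylow subgroup containing a given `l`-element has rank three if some subgroup does. -/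
theorem exists_sylow {l : ℕ} [Fact l.Prime] {t : S} (ht : IsPGroup l (zpowers t)) {E : Subgroup S}
    (hE : Cfsg.IsElementaryAbelian l E) (hE3 : Nat.card E = l ^ 3) :
    ∃ P : Sylow l S, t ∈ (P : Subgroup S) ∧ ¬ Cfsg.PRankLE l 2 (P : Subgroup S) := by
  obtain ⟨P, hP⟩ := ht.exists_le_sylow
  obtain ⟨P', hP'⟩ := (IsPGroup.of_card hE3).exists_le_sylow
  obtain ⟨g, hg⟩ := MulAction.exists_smul_eq S P' P
  have hle : E.map (MulAut.conj g).toMonoidHom ≤ (P : Subgroup S) := by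
    rintro _ ⟨x, hx, rfl⟩
    rw [← hg]
    exact smul_mem_pointwise_smul x (MulAut.conj g) (P' : Subgroup S) (hP' hx)
  refine ⟨P, hP (mem_zpowers t), not_prankLE_of_le hle (Lib.PGroups.elemAb_map _ hE) ?_⟩
  rw [card_map_of_injective (MulEquiv.injective _), hE3]

/-- Let S be a finite solvable group and M a normal elementary abelian 2-subgroup of S. Suppose S contains an elementary abelian subgroup of order p³ for some odd prime p, and a cyclic 3-subgroup Q such that the cubes of the elements of Q centralize M and the commutator subgroup [Q, M] has order 4 (a four-group inside M). Then S contains an elementary abelian subgroup F of order r³, for some odd prime r, whose centralizer of [Q, M] in F — the subgroup C_F([Q, M]) — is not cyclic. -/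
theorem result {S : Type*} [Group S] [Finite S]
    [Group.IsSolvable S] (M : Subgroup S) [M.Normal] (hM : Cfsg.IsElementaryAbelian 2 M)
    (p : ℕ) (hp : p.Prime) (hp2 : p ≠ 2) (E : Subgroup S) (hE : Cfsg.IsElementaryAbelian p E) (hE3 : Nat.card ↥E = p ^ 3)
    (Q : Subgroup S) (hQc : IsCyclic ↥Q) (hQ3 : IsPGroup 3 ↥Q)
    (hQ1 : ∀ x ∈ Q, x ^ 3 ∈ Subgroup.centralizer (M : Set S)) (hQM : Nat.card ↥⁅Q, M⁆ = 4) :
    ∃ (r : ℕ) (F : Subgroup S), r.Prime ∧ r ≠ 2 ∧ Cfsg.IsElementaryAbelian r F ∧ Nat.card ↥F = r ^ 3 ∧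
      ¬ IsCyclic ↥(F ⊓ Subgroup.centralizer ((⁅Q, M⁆ : Subgroup S) : Set S)) := by
  haveI hp' : Fact p.Prime := ⟨hp⟩
  haveI h3' : Fact (Nat.Prime 3) := ⟨Nat.prime_three⟩
  obtain ⟨q, rfl⟩ := (Subgroup.isCyclic_iff_exists_zpowers_eq_top Q).1 hQc
  rw [commutator_zpowers_eq (hM := hM)] at hQM ⊢
  apply conclude
  have hq3 : q ^ 3 ∈ centralizer (M : Set S) := hQ1 q (mem_zpowers q)
  by_cases hp3 : p = 3
  · subst hp3
    obtain ⟨P, hqP, hPr⟩ := exists_sylow hQ3 hE hE3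
    refine witness_sylow (hM := hM) hp2 P.2 hPr hqP hq3 hQM (fun x hx y hy hxc hyc => ?_) le_rfl
    obtain ⟨n, hn⟩ := IsPGroup.iff_card.1 P.2
    refine (pair_four hM (p := 3) (T := (P : Subgroup S)) (by rw [hn]; exact (by decide : Odd 3).pow)
      (fun r hr hd => ?_) hx hy hxc hyc).resolve_right fun h => by norm_num at h
    rw [hn] at hd
    exact Or.inl ((Nat.prime_dvd_prime_iff_eq hr Nat.prime_three).1 (hr.dvd_of_dvd_pow hd))
  -- a Hall `{3, p}`-subgroup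
  have hQπ : ∀ r : ℕ, r.Prime → r ∣ Nat.card (zpowers q) → r ∈ ({3, p} : Set ℕ) := by
    intro r hr hd
    obtain ⟨n, hn⟩ := IsPGroup.iff_card.1 hQ3
    rw [hn] at hd
    exact Or.inl ((Nat.prime_dvd_prime_iff_eq hr Nat.prime_three).1 (hr.dvd_of_dvd_pow hd))
  obtain ⟨H, hH, hqH⟩ := Lib.Hall.exists_isPiHall_ge hQπ
  obtain ⟨g₀, hg₀⟩ := Lib.Hall.exists_conj_le hH (K := E) fun r hr hd => by
    rw [hE3] at hd
    exact Or.inr ((Nat.prime_dvd_prime_iff_eq hr hp).1 (hr.dvd_of_dvd_pow hd))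
  set E' := E.map (MulAut.conj g₀⁻¹).toMonoidHom with hE'
  have hE'H : E' ≤ H := by
    rintro _ ⟨x, hx, rfl⟩
    have := mem_pointwise_smul_iff_inv_smul_mem.1 (hg₀ hx)
    simpa [← map_inv] using this
  have hE'e : Cfsg.IsElementaryAbelian p E' := Lib.PGroups.elemAb_map _ hE
  have hE'3 : Nat.card E' = p ^ 3 := by rw [hE', card_map_of_injective (MulEquiv.injective _), hE3]
  have hqH' : q ∈ H := hqH (mem_zpowers q)
  have hHπ : ∀ r : ℕ, r.Prime → r ∣ Nat.card H → r = 3 ∨ r = p := fun r hr hd => hH.1 r hr hd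
  have hHodd : Odd (Nat.card H) := by
    rw [Nat.odd_iff, ← Nat.two_dvd_ne_zero]
    intro h2
    rcases hHπ 2 Nat.prime_two h2 with h | h
    · norm_num at h
    · exact hp2 h.symm
  have hqodd : Odd (orderOf q) := hHodd.of_dvd_nat (H.orderOf_dvd_natCard hqH')
  set W := D hM q with hW
  by_cases hcom : ∀ g ∈ H, q⁻¹ * (g * q * g⁻¹ * q * (g * q * g⁻¹)⁻¹) ∈ centralizer (M : Set S)
  swap
  · -- two conjugates generate `7 : 3`
    push Not at hcom
    obtain ⟨g, hg, hgc⟩ := hcom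
    obtain ⟨hp7, t, htH, ht7, ht8, hWt⟩ := (pair_four hM hHodd hHπ hqH'
      (mul_mem (mul_mem hg hqH') (inv_mem hg)) hQM ((card_D_conj q g).trans hQM)).resolve_left hgc
    subst hp7
    -- pass to the 7-part of `t`
    obtain ⟨a, b, hb, hab⟩ : ∃ a b, ¬ 7 ∣ b ∧ orderOf t = 7 ^ a * b :=
      ⟨_, _, Nat.not_dvd_ordCompl hp (orderOf_pos t).ne', (Nat.ordProj_mul_ordCompl_eq_self _ 7).symm⟩
    obtain ⟨i, hi7, hib⟩ := Nat.chineseRemainder ((Nat.Prime.coprime_iff_not_dvd hp).2 hb) 1 0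
    have hib' : b ∣ i := Nat.modEq_zero_iff_dvd.1 hib
    have hi1 : 1 ≤ i := by
      rcases Nat.eq_zero_or_pos i with h | h
      · subst h; exact absurd hi7 (by decide)
      · exact h
    obtain ⟨c, hc⟩ := (Nat.modEq_iff_dvd' hi1).1 hi7.symm
    have hK1 : t⁻¹ * t ^ i ∈ centralizer (M : Set S) := by
      rw [show i = 7 * c + 1 by omega, pow_succ', inv_mul_cancel_left, pow_mul]
      exact pow_mem ht7 c
    have hK2 : (t ^ i)⁻¹ * t ∈ centralizer (M : Set S) := by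
      have := inv_mem hK1
      rwa [mul_inv_rev, inv_inv] at this
    have hD : D hM (t ^ i) = D hM t := le_antisymm (D_le_of_same hK1) (D_le_of_same hK2)
    have hti : IsPGroup 7 (zpowers (t ^ i)) := by
      refine IsPGroup.iff_card.2 ?_
      rw [Nat.card_zpowers]
      obtain ⟨e, rfl⟩ := hib'
      obtain ⟨j, -, hj⟩ := (Nat.dvd_prime_pow hp).1 (orderOf_dvd_of_pow_eq_one
        (show (t ^ (b * e)) ^ 7 ^ a = 1 by
          rw [← pow_mul, show b * e * 7 ^ a = orderOf t * e by rw [hab]; ring, pow_mul,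
            pow_orderOf_eq_one, one_pow]))
      exact ⟨j, hj⟩
    obtain ⟨P, htP, hPr⟩ := exists_sylow hti hE hE3
    refine witness_sylow (hM := hM) hp2 P.2 hPr htP ?_ (by rw [hD, ht8])
      (fun x hx y hy hxc hyc => pair_eight hM P.2 hx hy hxc hyc) (by rw [hD]; exact hWt)
    rw [← pow_mul, mul_comm, pow_mul]
    exact pow_mem ht7 i
  -- all conjugates commute
  have hconjN : ∀ g ∈ H, g * q * g⁻¹ ∈ normalizer (W : Set S) := fun g hg =>
    mem_normalizer_of_comm (hcom g hg)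
  set T₀ : Subgroup H := normalClosure ({⟨q, hqH'⟩} : Set H) with hT₀
  have hTN : ∀ t ∈ T₀, (t : S) ∈ normalizer (W : Set S) := by
    suffices T₀ ≤ (normalizer (W : Set S)).comap H.subtype from fun t ht => this ht
    rw [hT₀, normalClosure, closure_le]
    intro x hx
    obtain ⟨a, ha, hax⟩ := Group.mem_conjugatesOfSet_iff.1 hx
    obtain rfl : a = ⟨q, hqH'⟩ := ha
    obtain ⟨c, rfl⟩ := isConj_iff.1 hax
    exact hconjN c c.2
  have hqT : (⟨q, hqH'⟩ : H) ∈ T₀ := subset_normalClosure rfl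
  obtain ⟨R, hR⟩ := IsPGroup.exists_le_sylow (p := 3) (P := zpowers (⟨⟨q, hqH'⟩, hqT⟩ : T₀)) (by
    obtain ⟨n, hn⟩ := IsPGroup.iff_card.1 hQ3
    refine IsPGroup.of_card (n := n) ?_
    rw [Nat.card_zpowers, ← hn, Nat.card_zpowers, ← Subgroup.orderOf_coe, ← Subgroup.orderOf_coe])
  set R' : Subgroup S := (R : Subgroup T₀).map (H.subtype.comp T₀.subtype) with hR'
  have hR'3 : IsPGroup 3 R' := R.2.map _
  have hqR' : q ∈ R' := ⟨⟨⟨q, hqH'⟩, hqT⟩, hR (mem_zpowers _), rfl⟩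
  have hR'N : R' ≤ normalizer (W : Set S) := by
    rintro _ ⟨x, -, rfl⟩
    exact hTN x x.2
  by_cases hrR : Cfsg.PRankLE 3 2 R'
  swap
  · obtain ⟨F, hF, hFe, hF3⟩ := exists_elem_cube hrR
    exact ⟨3, F, W, Nat.prime_three, by norm_num, hFe, hF3, le_rfl, by rw [hQM], hF.trans hR'N⟩
  by_cases hEN : E' ≤ normalizer (W : Set S)
  · have hp5 : 3 ≤ p := by have := hp.two_le; omega
    exact ⟨p, E', W, hp, hp2, hE'e, hE'3, le_rfl, by rw [hQM]; omega, hEN⟩
  exfalso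
  obtain ⟨e, he, heN⟩ := SetLike.not_le_iff_exists.1 hEN
  haveI : T₀.Normal := normalClosure_normal
  have htop : (normalizer (((R : Subgroup T₀).map T₀.subtype : Subgroup H) : Set H)) ⊔ T₀ = ⊤ :=
    Sylow.normalizer_sup_eq_top R
  obtain ⟨n, hn, t, ht, hnt⟩ :=
    mem_sup_of_normal_right.1 (htop.ge (mem_top (⟨e, hE'H he⟩ : H)))
  have hnN : (n : S) ∉ normalizer (W : Set S) := fun h => heN (by
    have := mul_mem h (hTN t ht)
    rwa [← Subgroup.coe_mul, hnt] at this)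
  have hnp : n ^ p ∈ T₀ := by
    rw [← QuotientGroup.eq_one_iff, QuotientGroup.mk_pow]
    have h1 : (n : H ⧸ T₀) = ((⟨e, hE'H he⟩ : H) : H ⧸ T₀) := by
      rw [← hnt, QuotientGroup.mk_mul, (QuotientGroup.eq_one_iff t).2 ht, mul_one]
    rw [h1, ← QuotientGroup.mk_pow, show (⟨e, hE'H he⟩ : H) ^ p = 1 from Subtype.ext (hE'e.2 e he),
      QuotientGroup.mk_one]
  obtain ⟨a, k, hk, hak⟩ : ∃ a k, ¬ p ∣ k ∧ orderOf (n : S) = p ^ a * k :=
    ⟨_, _, Nat.not_dvd_ordCompl hp (orderOf_pos (n : S)).ne', (Nat.ordProj_mul_ordCompl_eq_self _ p).symm⟩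
  set c : S := (n : S) ^ k with hc
  have hcN : c ∉ normalizer (W : Set S) := by
    intro h
    have h' : (n : S) ^ p ∈ normalizer (W : Set S) := hTN _ hnp
    obtain ⟨u, v, huv⟩ := Int.isCoprime_iff_gcd_eq_one.2
      (show Int.gcd (k : ℤ) (p : ℤ) = 1 from ((Nat.Prime.coprime_iff_not_dvd hp).2 hk).symm)
    refine hnN ?_
    have h2 := mul_mem (zpow_mem h u) (zpow_mem h' v)
    rwa [hc, ← zpow_natCast, ← zpow_natCast, ← zpow_mul, ← zpow_mul, ← zpow_add,
      mul_comm (k : ℤ), mul_comm (p : ℤ), huv, zpow_one] at h2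
  have hcp : ∃ j, orderOf c = p ^ j := by
    obtain ⟨j, -, hj⟩ := (Nat.dvd_prime_pow hp).1 (orderOf_dvd_of_pow_eq_one
      (show c ^ p ^ a = 1 by rw [hc, ← pow_mul, mul_comm, ← hak, pow_orderOf_eq_one]))
    exact ⟨j, hj⟩
  have hcR : c ∈ normalizer (R' : Set S) := by
    refine pow_mem (mem_normalizer_of_forall ?_) k
    rintro _ ⟨x, hx, rfl⟩
    obtain ⟨y, hy, hyx⟩ := conj_mem_of_normalizer hn (mem_map_of_mem T₀.subtype hx)
    exact ⟨y, hy, congrArg Subtype.val hyx⟩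
  obtain ⟨j, hj⟩ := hcp
  have hcent : c ∈ centralizer (R' : Set S) := by
    refine Lib.OddLocal.NarrowAut.centralizes_of_small_sections (by norm_num) hR'3 (Or.inl hrR) hcR
      (by rw [hj]; exact ((Nat.coprime_primes hp Nat.prime_three).2 hp3).pow_left j)
      fun A B hBA _ hA hB hAB hexp hrel => ?_
    have hle : zpowers c ≤ normalizer (R' : Set S) := zpowers_le.2 hcR
    obtain ⟨Q', _, f, hQf, hQe, hQcard, hf⟩ := Lib.OddLocal.NarrowAut.exists_sectionHom hBA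
      (hle.trans hA) (hle.trans hB) hAB hexp
    haveI := hQf
    refine hf ⟨c, mem_zpowers c⟩ ?_
    by_contra h1
    set φ := f ⟨c, mem_zpowers c⟩ with hφ
    have hd : orderOf φ ∣ p ^ j := by
      have := orderOf_map_dvd f ⟨c, mem_zpowers c⟩
      rwa [← Subgroup.orderOf_coe ⟨c, mem_zpowers c⟩, hj] at this
    obtain ⟨i, -, hi⟩ := (Nat.dvd_prime_pow hp).1 hd
    obtain ⟨i', rfl⟩ : ∃ i', i = i' + 1 := ⟨i - 1, by
      rcases i with _ | i
      · exact absurd (orderOf_eq_one_iff.1 (by simpa using hi)) h1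
      · rfl⟩
    have hord : orderOf (φ ^ p ^ i') = p := by
      rw [orderOf_pow' _ (pow_ne_zero _ hp.ne_zero), hi,
        Nat.gcd_eq_right (pow_dvd_pow p (Nat.le_succ i')), pow_succ,
        Nat.mul_div_cancel_left _ (pow_pos hp.pos _)]
    have h2 := Lib.OddLocal.NarrowAut.prime_dvd_mulAut (p := 3) hQe (hQcard ▸ hrel)
      (φ := φ ^ p ^ i') (by rw [hord]; exact hp) (by rw [hord]; exact hp3)
    rw [hord] at h2
    exact hp2 ((Nat.prime_dvd_prime_iff_eq hp Nat.prime_two).1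
      (hp.dvd_of_dvd_pow (show p ∣ 2 ^ 3 from h2)))
  apply hcN
  refine mem_normalizer_of_forall fun v hv => ?_
  have h1 : c * q * c⁻¹ = q := by rw [← mem_centralizer_iff.1 hcent q hqR']; group
  simpa [h1] using conj_mem_D (hM := hM) c hv

end Cfsg.Agent.S4404
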