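import Cfsg.Statements.S4405
import Cfsg.Agent.Lib.Coprime.Commutator
import Cfsg.Agent.Lib.Cores.Basic
import Cfsg.Agent.Lib.Extraspecial.Basic
-- import your own Cfsg.Agent.* helpers here

set_option autoImplicit false
open Cfsg

namespace Cfsg.Agent.S4405

theorem card_klein {K : Type*} [Group K] {a b : K} (ha : a * a = 1) (hb : b * b = 1)
    (hab : a * b = b * a) (ha1 : a ≠ 1) (hb1 : b ≠ 1) (hne : a ≠ b) :
    Nat.card (Subgroup.closure ({a, b} : Set K)) = 4 := by
  have hzz : Disjoint (Subgroup.zpowers a) (Subgroup.zpowers b) := by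
    rw [Subgroup.disjoint_def]
    intro x hxa hxb
    obtain ⟨i, rfl⟩ := Subgroup.mem_zpowers_iff.1 hxa
    obtain ⟨j, hj⟩ := Subgroup.mem_zpowers_iff.1 hxb
    have h2a : a ^ (2 : ℤ) = 1 := by rw [zpow_two]; exact ha
    have h2b : b ^ (2 : ℤ) = 1 := by rw [zpow_two]; exact hb
    rcases Int.even_or_odd i with ⟨m, rfl⟩ | ⟨m, rfl⟩
    · rw [← two_mul, zpow_mul, h2a, one_zpow]
    · rw [zpow_add, zpow_mul, h2a, one_zpow, one_mul, zpow_one] at hj ⊢
      rcases Int.even_or_odd j with ⟨n, rfl⟩ | ⟨n, rfl⟩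
      · rw [← two_mul, zpow_mul, h2b, one_zpow] at hj
        exact hj.symm
      · rw [zpow_add, zpow_mul, h2b, one_zpow, one_mul, zpow_one] at hj
        exact absurd hj.symm hne
  have o2 : ∀ c : K, c * c = 1 → c ≠ 1 → Nat.card (Subgroup.zpowers c) = 2 := fun c hc hc1 => by
    have := Fact.mk Nat.prime_two
    rw [Nat.card_zpowers]
    exact orderOf_eq_prime (by rw [sq]; exact hc) hc1
  let μ := MonoidHom.noncommCoprod (Subgroup.zpowers a).subtype (Subgroup.zpowers b).subtype
    fun x y => by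
      obtain ⟨i, hi⟩ := x.2
      obtain ⟨j, hj⟩ := y.2
      simp only [Subgroup.coe_subtype, ← hi, ← hj]
      exact Commute.zpow_zpow hab i j
  have hr : μ.range = Subgroup.closure ({a, b} : Set K) := by
    rw [MonoidHom.noncommCoprod_range, Subgroup.range_subtype, Subgroup.range_subtype,
      Set.insert_eq, Subgroup.closure_union, Subgroup.zpowers_eq_closure, Subgroup.zpowers_eq_closure]
  have hμ : Function.Injective μ := fun x y h => Subgroup.mul_injective_of_disjoint hzz h
  rw [← hr, ← Nat.card_congr (MonoidHom.ofInjective hμ).toEquiv, Nat.card_prod, o2 a ha ha1,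
    o2 b hb hb1]

theorem central {G : Type*} [Group G] {z a : G} (hz2 : orderOf z = 2)
    [(Subgroup.zpowers z).Normal] (ha : a ∈ Subgroup.zpowers z) : a ∈ Subgroup.center G := by
  have key : ∀ y ∈ Subgroup.zpowers z, y = 1 ∨ y = z := fun y hy => by
    obtain ⟨i, rfl⟩ := Subgroup.mem_zpowers_iff.1 hy
    have h2 : z ^ (2 : ℤ) = 1 := by
      rw [show z ^ (2 : ℤ) = z ^ 2 from zpow_natCast z 2, ← hz2, pow_orderOf_eq_one]
    rcases Int.even_or_odd i with ⟨m, rfl⟩ | ⟨m, rfl⟩
    · exact Or.inl (by rw [← two_mul, zpow_mul, h2, one_zpow])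
    · exact Or.inr (by rw [zpow_add, zpow_mul, h2, one_zpow, one_mul, zpow_one])
  rcases key a ha with rfl | rfl
  · exact one_mem _
  · rw [Subgroup.mem_center_iff]
    intro g
    rcases key _ ((inferInstance : (Subgroup.zpowers a).Normal).conj_mem a ha g) with h | h
    · rw [conj_eq_one_iff] at h
      subst h; simp
    · exact mul_inv_eq_iff_eq_mul.1 h

open Subgroup
open scoped commutatorElement

theorem key_comm {K : Type*} [Group K] (t a : K) (ht : t * t = 1) (ha : a * a = 1)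
    (h : a * (t * a * t⁻¹) = t * a * t⁻¹ * a) :
    t * (a⁻¹ * (t * a * t⁻¹)) = a⁻¹ * (t * a * t⁻¹) * t := by
  have hti : t⁻¹ = t := inv_eq_of_mul_eq_one_right ht
  have hai : a⁻¹ = a := inv_eq_of_mul_eq_one_right ha
  rw [hti] at h
  rw [hai, hti]
  calc t * (a * (t * a * t)) = t * (t * a * t * a) := by rw [h]
    _ = a * t * a := by simp [mul_assoc, ← mul_assoc t t, ht]
    _ = a * (t * a * t) * t := by simp [mul_assoc, ht]

theorem relIndex_mul_card' {G : Type*} [Group G] {A B : Subgroup G} (h : A ≤ B) :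
    A.relIndex B * Nat.card A = Nat.card B := by
  rw [← Subgroup.relIndex_bot_left A, ← Subgroup.relIndex_bot_left B, mul_comm]
  exact Subgroup.relIndex_mul_relIndex ⊥ A B bot_le h

theorem fix_pair {G : Type*} [Group G] [Finite G] (H : Subgroup G) [H.Normal] (z : G)
    (hH : IsPGroup 2 H) (hidx : Nat.card G = 320) (h32 : Nat.card H = 32)
    (hcore : ∀ N : Subgroup G, N.Normal → IsPGroup 2 N → N ≤ H)
    (hfit : ∀ N : Subgroup G, N.Normal → Group.IsNilpotent N → N ≤ H)
    (hcen : ∀ x ∈ H, (∀ y ∈ H, x * y = y * x) → x ∈ zpowers z) (hz2 : orderOf z = 2)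
    (hzH : z ∈ H) [(zpowers z).Normal] (T : G) (hT : orderOf T = 2) (hTH : T ∉ H) :
    Nat.card ↥(H.map (QuotientGroup.mk' (zpowers z)) ⊓
      centralizer {QuotientGroup.mk' (zpowers z) T}) ≤ 4 := by
  have := Fact.mk Nat.prime_two
  have := Fact.mk Nat.prime_five
  set Z := zpowers z with hZ
  let π := QuotientGroup.mk' Z
  have hZH : Z ≤ H := zpowers_le.2 hzH
  have hZ2 : Nat.card Z = 2 := by rw [hZ, Nat.card_zpowers, hz2]
  have hG10 : H.index = 10 := by
    have := H.card_mul_index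
    rw [h32, hidx] at this
    omega
  have hQ10 : Nat.card (G ⧸ H) = 10 := hG10
  have hHbar : Nat.card (H.map π) = 16 := by
    have h1 : Nat.card ((H.map π)) * Nat.card Z = Nat.card H := by
      rw [← Subgroup.relIndex_ker]
      simp only [π, QuotientGroup.ker_mk']
      exact (relIndex_mul_card' hZH)
    rw [hZ2, h32] at h1
    omega
  -- an element of order five does not centralize `H / Z`
  have hfive : ∀ x : G, orderOf x = 5 → ¬ (∀ h ∈ H, π x * π h = π h * π x) := by
    intro x hx hall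
    have hcop : (Nat.card (zpowers x)).Coprime (Nat.card Z) := by
      rw [Nat.card_zpowers, hx, hZ2]; decide
    have h1 : ⁅H, zpowers x⁆ ≤ Z := by
      rw [commutator_le]
      intro h hh y hy
      obtain ⟨k, rfl⟩ := mem_zpowers_iff.1 hy
      rw [← QuotientGroup.eq_one_iff, ← QuotientGroup.mk'_apply, map_commutatorElement,
        commutatorElement_eq_one_iff_mul_comm, map_zpow]
      exact (Commute.zpow_left (hall h hh : Commute (π x) (π h)) k).eq.symm
    have h2 : ⁅Z, zpowers x⁆ = ⊥ := by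
      rw [eq_bot_iff, commutator_le]
      intro a ha b _
      rw [mem_bot, commutatorElement_eq_one_iff_mul_comm]
      exact ((mem_center_iff.1 (Cfsg.Agent.S4405.central hz2 (a := a) ha)) b).symm
    have hxC : x ∈ centralizer (H : Set G) :=
      Cfsg.Agent.Lib.Coprime.le_centralizer_of_series hcop h1 h2 (mem_zpowers x)
    set K := centralizer (H : Set G) with hK
    have hKn : K.Normal := inferInstance
    have hKH : K ⊓ H ≤ Z := fun a ha => hcen a ha.2 fun y hy => ((mem_centralizer_iff.1 ha.1) y hy).symm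
    have hKd : Nat.card K ∣ 20 := by
      have h3 := (H.subgroupOf K).card_mul_index
      have h4 : (H.subgroupOf K).index ∣ 10 := by
        rw [← hG10]
        exact relIndex_dvd_index_of_normal H K
      have h5 : Nat.card (H.subgroupOf K) ∣ 2 := by
        rw [← hZ2]
        refine dvd_trans (dvd_of_eq ?_) (card_dvd_of_le hKH)
        rw [inf_comm, ← subgroupOf_map_subtype]
        exact Nat.card_congr (equivMapOfInjective _ _ K.subtype_injective).toEquiv
      rw [← h3]
      exact Nat.mul_dvd_mul h5 h4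
    obtain ⟨Q⟩ : Nonempty (Sylow 5 K) := inferInstance
    have hQ1 : Nat.card (Sylow 5 K) = 1 := by
      have h3 := (Sylow.card_dvd_index Q)
      have h4 := card_sylow_modEq_one 5 K
      have h5 : Nat.card (Sylow 5 K) ∣ 20 :=
        (h3.trans (Subgroup.index_dvd_card _)).trans hKd
      have h6 := Nat.le_of_dvd (by norm_num) h5
      interval_cases (Nat.card (Sylow 5 K)) <;> simp_all [Nat.ModEq]
    have hsub : Subsingleton (Sylow 5 K) := (Nat.card_eq_one_iff_unique.1 hQ1).1
    have hQc : (Q : Subgroup K).Characteristic := Sylow.characteristic_of_subsingleton Q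
    have hQn : ((Q : Subgroup K).map K.subtype).Normal := ConjAct.normal_of_characteristic_of_normal
    have hQH := hfit _ hQn ((Q.2.map K.subtype).isNilpotent)
    obtain ⟨Q', hQ'⟩ := IsPGroup.exists_le_sylow
      (show IsPGroup 5 (zpowers (⟨x, hxC⟩ : K)) from IsPGroup.of_card (n := 1) (by
        rw [Nat.card_zpowers, ← Subgroup.orderOf_coe, hx, pow_one]))
    have hxH : x ∈ H := hQH ⟨⟨x, hxC⟩, Subsingleton.elim Q' Q ▸ hQ' (mem_zpowers _), rfl⟩
    obtain ⟨k, hk⟩ := hH ⟨x, hxH⟩
    have : (5 : ℕ) ∣ 2 ^ k := by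
      rw [← hx]
      exact orderOf_dvd_of_pow_eq_one (congrArg Subtype.val hk)
    exact absurd (Nat.Prime.dvd_of_dvd_pow Nat.prime_five this) (by norm_num)
  -- a conjugate of `T` outside `H⟨T⟩`
  let K := H ⊔ zpowers T
  have hK2 : IsPGroup 2 K := hH.to_sup_of_normal_left (IsPGroup.of_card (n := 1) (by
    rw [Nat.card_zpowers, hT, pow_one]))
  obtain ⟨g, hg⟩ : ∃ g : G, g * T * g⁻¹ ∉ K := by
    by_contra hall
    push Not at hall
    have hKn : K.Normal := by
      refine ⟨fun a ha g => ?_⟩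
      obtain ⟨b, hb, c, hc, rfl⟩ := mem_sup_of_normal_left.1 ha
      obtain ⟨k, rfl⟩ := mem_zpowers_iff.1 hc
      rw [show g * (b * T ^ k) * g⁻¹ = (g * b * g⁻¹) * (g * T * g⁻¹) ^ k by rw [conj_zpow]; group]
      exact K.mul_mem (mem_sup_left ((inferInstance : H.Normal).conj_mem b hb g))
        (K.zpow_mem (hall g) k)
    exact hTH (hcore K hKn hK2 (mem_sup_right (mem_zpowers T)))
  let T' := g * T * g⁻¹
  let q := QuotientGroup.mk' H
  have hT2 : T * T = 1 := by rw [← sq, ← hT, pow_orderOf_eq_one]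
  have hT'2 : T' * T' = 1 := by simp [T', mul_assoc, ← mul_assoc T, hT2]
  obtain ⟨x, hx, hxfix⟩ : ∃ x : G, orderOf x = 5 ∧
      ∀ a : G ⧸ Z, π T * a = a * π T → π T' * a = a * π T' → π x * a = a * π x := by
    have hdvd : orderOf (q (T * T')) ∣ 10 := hQ10 ▸ orderOf_dvd_natCard _
    have hne1 : q (T * T') ≠ 1 := fun h => hg (by
      rw [QuotientGroup.mk'_apply, QuotientGroup.eq_one_iff] at h
      have e : T' = T⁻¹ * (T * T') := by group
      change T' ∈ K; rw [e]
      exact K.mul_mem (K.inv_mem (mem_sup_right (mem_zpowers T))) (mem_sup_left h))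
    have hne2 : orderOf (q (T * T')) ≠ 2 := fun h => by
      have h1 : Commute (q T) (q T') := by
        have e := pow_orderOf_eq_one (q (T * T'))
        rw [h, sq, map_mul] at e
        have a : q T * q T = 1 := by rw [← map_mul, hT2, map_one]
        have b : q T' * q T' = 1 := by rw [← map_mul, hT'2, map_one]
        calc q T * q T' = (q T * q T' * (q T * q T')) * (q T' * q T) := by
              rw [show q T * q T' * (q T * q T') * (q T' * q T) =
                q T * q T' * q T * (q T' * q T') * q T by group, b, mul_one]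
              rw [mul_assoc (q T * q T'), a, mul_one]
          _ = q T' * q T := by rw [e, one_mul]
      have hcard : Nat.card (closure ({q T, q T'} : Set (G ⧸ H))) = 4 := by
        have a : q T ≠ 1 := fun h => hTH ((QuotientGroup.eq_one_iff _).1 h)
        have b : q T' ≠ 1 := fun h => hg (mem_sup_left ((QuotientGroup.eq_one_iff _).1 h))
        have c : q T ≠ q T' := fun h' => hne1 (by rw [map_mul, ← h', ← map_mul, hT2, map_one])
        exact card_klein (by rw [← map_mul, hT2, map_one]) (by rw [← map_mul, hT'2, map_one]) h1.eq a b c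
      have := (closure ({q T, q T'} : Set (G ⧸ H))).card_subgroup_dvd_card
      rw [hcard, hQ10] at this
      omega
    have h5 : 5 ∣ orderOf (T * T') := by
      refine dvd_trans ?_ (orderOf_map_dvd q (T * T'))
      have h1 : orderOf (q (T * T')) ≠ 1 := fun h => hne1 (orderOf_eq_one_iff.1 h)
      have := Nat.le_of_dvd (by norm_num) hdvd
      interval_cases (orderOf (q (T * T'))) <;> omega
    refine ⟨(T * T') ^ (orderOf (T * T') / 5), orderOf_pow_orderOf_div (orderOf_pos _).ne' h5,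
      fun a h1 h2 => ?_⟩
    rw [map_pow, map_mul]
    have h1' : Commute (π T) a := h1
    exact ((h1'.mul_left h2).pow_left _).eq
  let F : G → Subgroup (G ⧸ Z) := fun u => H.map π ⊓ centralizer {π u}
  have hmem : ∀ u a, a ∈ F u ↔ a ∈ H.map π ∧ π u * a = a * π u := fun u a => by
    simp [F, mem_centralizer_iff]
  have hHn : (H.map π).Normal := Normal.map inferInstance π (QuotientGroup.mk'_surjective Z)
  have hx1 : Nat.card (F x) = 1 := by
    have horb := (IsPGroup.of_card (p := 5) (n := 1) (G := zpowers (π x)) (by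
      rw [Nat.card_zpowers, pow_one]
      refine ((Nat.prime_five.eq_one_or_self_of_dvd _ (hx ▸ orderOf_map_dvd π x)).resolve_left
        fun h => hfive x hx fun h' _ => ?_)
      rw [orderOf_eq_one_iff.1 h, one_mul, mul_one]))
    let R := (ConjAct.toConjAct (G := G ⧸ Z) |>.toMonoidHom.comp (zpowers (π x)).subtype).range
    have horb' : IsPGroup 5 R := IsPGroup.of_surjective horb _ (MonoidHom.rangeRestrict_surjective _)
    have hmod := horb'.card_modEq_card_fixedPoints ↥(H.map π)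
    have hfix : Nat.card (MulAction.fixedPoints
        (ConjAct.toConjAct (G := G ⧸ Z) |>.toMonoidHom.comp (zpowers (π x)).subtype).range
        ↥(H.map π)) = Nat.card (F x) := by
      refine Nat.card_congr
        { toFun := fun a => ⟨(a.1 : G ⧸ Z), (hmem x _).2 ⟨a.1.2, ?_⟩⟩
          invFun := fun a => ⟨⟨a.1, ((hmem x _).1 a.2).1⟩, ?_⟩
          left_inv := fun a => rfl
          right_inv := fun a => rfl }
      · have := congrArg Subtype.val (a.2 ⟨_, ⟨π x, mem_zpowers _⟩, rfl⟩)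
        rw [← mul_inv_eq_iff_eq_mul]
        exact this
      · rintro ⟨_, ⟨⟨b, hb⟩, rfl⟩⟩
        obtain ⟨k, rfl⟩ := mem_zpowers_iff.1 hb
        refine Subtype.ext ?_
        show (π x) ^ k * a.1 * ((π x) ^ k)⁻¹ = a.1
        rw [mul_inv_eq_iff_eq_mul]
        exact (Commute.zpow_left ((hmem x _).1 a.2).2 k).eq
    rw [hfix, hHbar] at hmod
    have hd : Nat.card (F x) ∣ 16 := hHbar ▸ card_dvd_of_le inf_le_left
    have hle := Nat.le_of_dvd (by norm_num) hd
    have hne : Nat.card (F x) ≠ 16 := fun h => hfive x hx fun a ha => by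
      have : F x = H.map π := eq_of_le_of_card_ge inf_le_left (by rw [h, hHbar])
      exact ((hmem x _).1 (this ▸ mem_map_of_mem π ha)).2
    simp only [Nat.ModEq] at hmod
    interval_cases (Nat.card (F x)) <;> omega
  have hinf : F T ⊓ F T' = ⊥ := by
    rw [eq_bot_iff]
    intro a ha
    have h1 := (hmem _ _).1 ha.1
    have h2 := (hmem _ _).1 ha.2
    exact (card_eq_one.1 hx1) ▸ (hmem x a).2 ⟨h1.1, hxfix a h1.2 h2.2⟩
  have hconj : Nat.card (F T') = Nat.card (F T) := by
    have : (F T).map (MulAut.conj (π g)).toMonoidHom = F T' := by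
      ext a
      constructor
      · rintro ⟨b, hb, rfl⟩
        obtain ⟨hb1, hb2⟩ := (hmem _ _).1 hb
        refine (hmem _ _).2 ⟨hHn.conj_mem b hb1 _, ?_⟩
        simp only [T', MulEquiv.coe_toMonoidHom, MulAut.conj_apply, map_mul, map_inv]
        calc π g * π T * (π g)⁻¹ * (π g * b * (π g)⁻¹) = π g * (π T * b) * (π g)⁻¹ := by group
          _ = _ := by rw [hb2]; group
      · intro ha
        obtain ⟨ha1, ha2⟩ := (hmem _ _).1 ha
        refine ⟨(π g)⁻¹ * a * π g, (hmem _ _).2 ⟨by simpa using hHn.conj_mem a ha1 (π g)⁻¹, ?_⟩, by simp [mul_assoc]⟩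
        simp only [T', map_mul, map_inv] at ha2
        calc π T * ((π g)⁻¹ * a * π g) = (π g)⁻¹ * (π g * π T * (π g)⁻¹ * a) * π g := by group
          _ = _ := by rw [ha2]; group
    rw [← this, card_map_of_injective (MulAut.conj (π g)).injective]
  -- `|F T| * |F T'| ≤ 16`
  have hprod : Nat.card (F T) * Nat.card (F T') ≤ 16 := by
    rw [← Nat.card_prod, ← hHbar]
    refine Nat.card_le_card_of_injective
      (fun ab => ⟨(ab.1 : G ⧸ Z) * ab.2, mul_mem ((hmem _ _).1 ab.1.2).1 ((hmem _ _).1 ab.2.2).1⟩) ?_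
    exact fun ab cd h => mul_injective_of_disjoint (disjoint_iff.2 hinf) (congrArg Subtype.val h)
  rw [hconj] at hprod
  show Nat.card (F T) ≤ 4
  by_contra h
  nlinarith

theorem main {G : Type*} [Group G] [Finite G] (H : Subgroup G) [H.Normal] (z : G)
    (hH : IsPGroup 2 H) (hidx : Nat.card G = 320) (h32 : Nat.card H = 32)
    (hcore : ∀ N : Subgroup G, N.Normal → IsPGroup 2 N → N ≤ H)
    (hfit : ∀ N : Subgroup G, N.Normal → Group.IsNilpotent N → N ≤ H)
    (hcen : ∀ x ∈ H, (∀ y ∈ H, x * y = y * x) → x ∈ zpowers z) (hz2 : orderOf z = 2)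
    (hzH : z ∈ H) [(zpowers z).Normal] (hcomm : ∀ x ∈ H, ∀ y ∈ H, ⁅x, y⁆ ∈ zpowers z)
    (hsq : ∀ x ∈ H, x ^ 2 ∈ zpowers z)
    (hminus : ∀ A : Subgroup G, A ≤ H → Cfsg.IsElementaryAbelian 2 A → Nat.card A ≤ 4)
    (T : G) (hT : orderOf T = 2) (hTH : T ∉ H) :
    Nat.card ↥(H ⊓ centralizer ({T} : Set G)) ≤ 4 := by
  have := Fact.mk Nat.prime_two
  let π := QuotientGroup.mk' (zpowers z)
  set C := H ⊓ centralizer ({T} : Set G) with hC
  have hF := fix_pair H z hH hidx h32 hcore hfit hcen hz2 hzH T hT hTH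
  set F := H.map π ⊓ centralizer {π T} with hFdef
  have hmapC : C.map π ≤ F := by
    rintro _ ⟨c, hc, rfl⟩
    refine ⟨mem_map_of_mem π hc.1, mem_centralizer_iff.2 fun y hy => ?_⟩
    rw [Set.mem_singleton_iff.1 hy, ← map_mul, ← map_mul, mem_centralizer_iff.1 hc.2 T rfl]
  have hzC : z ∈ C := ⟨hzH, mem_centralizer_iff.2 fun y _ =>
    mem_center_iff.1 (central hz2 (mem_zpowers z)) y⟩
  have hCcard : Nat.card C = Nat.card (C.map π) * 2 := by
    rw [← hz2, ← Nat.card_zpowers, ← Subgroup.relIndex_ker]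
    simp only [π, QuotientGroup.ker_mk']
    exact (relIndex_mul_card' (zpowers_le.2 hzC)).symm
  by_contra hgt
  have hCF : C.map π = F := eq_of_le_of_card_ge hmapC (by
    have h1 := card_dvd_of_le hmapC
    have h2 : Nat.card F ∣ 2 ^ 5 := by
      refine (card_dvd_of_le inf_le_left).trans ?_
      exact (card_map_dvd H π).trans (dvd_of_eq h32)
    obtain ⟨i, hi, hFi⟩ := (Nat.dvd_prime_pow Nat.prime_two).1 h2
    obtain ⟨j, hj, hCj⟩ := (Nat.dvd_prime_pow Nat.prime_two).1 (h1.trans h2)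
    rw [hFi] at hF ⊢
    rw [hCj] at hCcard ⊢
    have hi2 : i ≤ 2 := by
      by_contra h
      have := Nat.pow_le_pow_right two_pos (show 3 ≤ i by omega)
      omega
    have hj2 : 2 ≤ j := by
      by_contra h
      have := Nat.pow_le_pow_right two_pos (show j ≤ 1 by omega)
      omega
    exact Nat.pow_le_pow_right two_pos (by omega))
  -- the map `a ↦ a⁻¹ a^T`
  have hab : ∀ a ∈ H.map π, ∀ b ∈ H.map π, a * b = b * a := by
    rintro _ ⟨a, ha, rfl⟩ _ ⟨b, hb, rfl⟩
    rw [← commutatorElement_eq_one_iff_mul_comm, ← map_commutatorElement,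
      QuotientGroup.mk'_apply, QuotientGroup.eq_one_iff]
    exact hcomm a ha b hb
  have hHn : (H.map π).Normal := Normal.map inferInstance π (QuotientGroup.mk'_surjective _)
  let ψ : H.map π →* G ⧸ zpowers z :=
    { toFun := fun a => (a : G ⧸ zpowers z)⁻¹ * (π T * a * (π T)⁻¹)
      map_one' := by simp
      map_mul' := fun a b => by
        have h1 := hab (b : G ⧸ zpowers z)⁻¹ (inv_mem b.2) ((a : G ⧸ zpowers z)⁻¹ * (π T * a * (π T)⁻¹))
          (mul_mem (inv_mem a.2) (hHn.conj_mem a a.2 (π T)))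
        simp only [Subgroup.coe_mul, mul_inv_rev]
        calc (b : G ⧸ zpowers z)⁻¹ * (a : G ⧸ zpowers z)⁻¹ * (π T * (a * b) * (π T)⁻¹)
            = (b : G ⧸ zpowers z)⁻¹ * ((a : G ⧸ zpowers z)⁻¹ * (π T * a * (π T)⁻¹)) *
              (π T * b * (π T)⁻¹) := by group
          _ = _ := by rw [h1]; group }
  have hT2 : T * T = 1 := by rw [← sq, ← hT, pow_orderOf_eq_one]
  have hker : ψ.ker = F.subgroupOf (H.map π) := by
    ext a
    rw [MonoidHom.mem_ker, mem_subgroupOf, hFdef, mem_inf, and_iff_right a.2, mem_centralizer_iff]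
    show (a : G ⧸ zpowers z)⁻¹ * (π T * a * (π T)⁻¹) = 1 ↔ _
    rw [inv_mul_eq_one, eq_comm, mul_inv_eq_iff_eq_mul]
    simp
  have hrange : Nat.card ψ.range * Nat.card F = 16 := by
    rw [← index_ker, hker]
    have h1 := (F.subgroupOf (H.map π)).card_mul_index
    rw [Nat.card_congr (subgroupOfEquivOfLe inf_le_left).toEquiv, mul_comm] at h1
    rw [h1]
    have h3 : Nat.card ((H.map π)) * Nat.card (zpowers z) = Nat.card H := by
      rw [← Subgroup.relIndex_ker]
      simp only [π, QuotientGroup.ker_mk']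
      exact (relIndex_mul_card' (zpowers_le.2 hzH))
    rw [Nat.card_zpowers, hz2, h32] at h3
    omega
  have hsq' : ∀ a ∈ H.map π, a * a = 1 := by
    rintro _ ⟨a, ha, rfl⟩
    rw [← map_mul, QuotientGroup.mk'_apply, QuotientGroup.eq_one_iff, ← sq]
    exact hsq a ha
  have hrF : ψ.range ≤ F := by
    rintro _ ⟨a, rfl⟩
    refine ⟨(H.map π).mul_mem ((H.map π).inv_mem a.2) (hHn.conj_mem a a.2 _), mem_centralizer_iff.2 fun y hy => ?_⟩
    rw [Set.mem_singleton_iff.1 hy]
    show π T * ((a : G ⧸ zpowers z)⁻¹ * (π T * a * (π T)⁻¹)) =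
      (a : G ⧸ zpowers z)⁻¹ * (π T * a * (π T)⁻¹) * π T
    exact key_comm _ _ (by rw [← map_mul, hT2, map_one]) (hsq' a a.2)
      (hab a a.2 (π T * a * (π T)⁻¹) (hHn.conj_mem a a.2 _))
  have hFr : ψ.range = F := eq_of_le_of_card_ge hrF (by
    have h1 : Nat.card F ≤ 4 := hF
    by_contra h
    nlinarith [Nat.card_pos (α := ψ.range)])
  -- all squares in `C` are trivial
  have hCsq : ∀ c ∈ C, c * c = 1 := by
    intro c hc
    have h1 : π c ∈ F := hCF ▸ mem_map_of_mem π hc
    rw [← hFr] at h1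
    obtain ⟨⟨_, h, hh, rfl⟩, hψ⟩ := h1
    obtain ⟨w, hw⟩ : ∃ w, w = h⁻¹ * (T * h * T⁻¹) := ⟨_, rfl⟩
    have hwz : π w = π c := by rw [← hψ]; simp [hw, ψ]
    obtain ⟨k, hk⟩ : w⁻¹ * c ∈ zpowers z := by
      rw [← QuotientGroup.eq_one_iff, ← QuotientGroup.mk'_apply, map_mul, map_inv, hwz, inv_mul_cancel]
    have hk' : c = w * z ^ k := by simp only at hk; rw [hk]; group
    have hzc : Commute (z ^ k) T :=
      ((mem_center_iff.1 (central hz2 (zpow_mem_zpowers z k))) T).symm
    have hcT : T * c = c * T := mem_centralizer_iff.1 hc.2 T rfl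
    have hwT : T * w = w * T := by
      rw [hk', ← mul_assoc, mul_assoc w, hzc.eq, ← mul_assoc] at hcT
      exact mul_right_cancel hcT
    have hTi : T⁻¹ = T := inv_eq_of_mul_eq_one_right hT2
    have hwT' : w * T = h⁻¹ * T * h := by simp [hw, mul_assoc, hTi, hT2]
    have hww : w * w = 1 := by
      calc w * w = (w * T) * (T * w) := by simp [mul_assoc, ← mul_assoc T T, hT2]
        _ = (h⁻¹ * T * h) * (h⁻¹ * T * h) := by rw [hwT, hwT']
        _ = 1 := by simp [mul_assoc, ← mul_assoc T T, hT2]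
    have hz1 : z * z = 1 := by rw [← sq, ← hz2, pow_orderOf_eq_one]
    have hcw : Commute w (z ^ k) := mem_center_iff.1 (central hz2 (zpow_mem_zpowers z k)) w
    rw [hk', mul_assoc, ← mul_assoc (z ^ k), hcw.symm.eq, mul_assoc, ← mul_assoc w, hww, one_mul,
      ← zpow_add, ← two_mul, zpow_mul, show z ^ (2 : ℤ) = z * z from zpow_two z, hz1, one_zpow]
  refine hgt (hminus C inf_le_left ⟨⟨⟨fun a b => Subtype.ext ?_⟩⟩, fun c hc => by rw [sq]; exact hCsq c hc⟩)
  have i : ∀ c ∈ C, c⁻¹ = c := fun c hc => inv_eq_of_mul_eq_one_right (hCsq c hc)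
  calc (a : G) * b = ((a : G) * b)⁻¹ := (i _ (mul_mem a.2 b.2)).symm
    _ = b * a := by rw [mul_inv_rev, i a a.2, i b b.2]


/-- Let G be a finite group of order 320 = 64·5 whose largest normal 2-subgroup H = O₂(G) equals the Fitting subgroup F(G) and is extraspecial of order 32 containing no elementary abelian subgroup of order 8 (so H is the central product of a quaternion group and a dihedral group of order 8). If T is an involution of G outside H whose centralizer in H contains an elementary abelian subgroup of order 4, then C_H(T) itself is elementary abelian of order 4. -/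
theorem result {G : Type*} [Group G] [Finite G]
    (hG : Nat.card G = 320) (hHF : Cfsg.pCore 2 G = Cfsg.fittingSubgroup G)
    (hex : Cfsg.IsExtraspecial 2 ↥(Cfsg.pCore 2 G)) (h32 : Nat.card ↥(Cfsg.pCore 2 G) = 32)
    (hminus : ∀ A : Subgroup G, A ≤ Cfsg.pCore 2 G → Cfsg.IsElementaryAbelian 2 A → Nat.card ↥A ≤ 4)
    (T : G) (hT : orderOf T = 2) (hTH : T ∉ Cfsg.pCore 2 G)
    (V : Subgroup G) (hV : V ≤ Cfsg.pCore 2 G ⊓ Subgroup.centralizer ({T} : Set G)) (hV4 : Nat.card ↥V = 4) (hVe : Cfsg.IsElementaryAbelian 2 V) :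
    Nat.card ↥(Cfsg.pCore 2 G ⊓ Subgroup.centralizer ({T} : Set G)) = 4 ∧
      Cfsg.IsElementaryAbelian 2 (Cfsg.pCore 2 G ⊓ Subgroup.centralizer ({T} : Set G)) := by
  have := Fact.mk Nat.prime_two
  set H := Cfsg.pCore 2 G with hH
  obtain ⟨z, hz⟩ := Cfsg.Agent.Lib.Extraspecial.exists_esData hex
  have hHn : H.Normal := Cfsg.pCore_normal 2 G
  have hzgen : ∀ x : H, x ∈ Subgroup.zpowers z → (x : G) ∈ Subgroup.zpowers (z : G) := by
    rintro _ ⟨k, rfl⟩
    exact ⟨k, by simp⟩
  have hz2 : orderOf (z : G) = 2 := by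
    rw [Subgroup.orderOf_coe]; exact orderOf_eq_prime hz.z_pow hz.z_ne
  have hzn : (Subgroup.zpowers (z : G)).Normal := by
    refine ⟨fun a ha g => ?_⟩
    obtain ⟨k, rfl⟩ := Subgroup.mem_zpowers_iff.1 ha
    rw [← conj_zpow]
    refine Subgroup.zpow_mem _ (hzgen ⟨g * z * g⁻¹, hHn.conj_mem z z.2 g⟩ ((hz.mem_center _).1 ?_)) k
    rw [Subgroup.mem_center_iff]
    intro u
    apply Subtype.ext
    have h' := congrArg Subtype.val (Cfsg.Agent.Lib.Extraspecial.commute_z hz
      ⟨g⁻¹ * u * g, by simpa using hHn.conj_mem (u : G) u.2 g⁻¹⟩)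
    simp only [Subgroup.coe_mul] at h' ⊢
    calc (u : G) * (g * z * g⁻¹) = g * (g⁻¹ * u * g * z) * g⁻¹ := by group
      _ = g * (z * (g⁻¹ * u * g)) * g⁻¹ := by rw [h']
      _ = g * z * g⁻¹ * u := by group
  have hcen : ∀ x ∈ H, (∀ y ∈ H, x * y = y * x) → x ∈ Subgroup.zpowers (z : G) := fun x hx hc =>
    hzgen ⟨x, hx⟩ ((hz.mem_center _).1 (Subgroup.mem_center_iff.2 fun u =>
      Subtype.ext (hc u u.2).symm))
  have hzV : (z : G) ∈ V := by
    by_contra hzV
    have hc : ∀ a ∈ V, ∀ b ∈ Subgroup.zpowers (z : G), a * b = b * a := fun a _ b hb =>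
      Subgroup.mem_center_iff.1 (central hz2 hb) a
    have h2 : Cfsg.IsElementaryAbelian 2 (V ⊔ Subgroup.zpowers (z : G)) :=
      Cfsg.Agent.Lib.PGroups.elemAb_sup hVe
        (Cfsg.Agent.Lib.PGroups.elemAb_zpowers (by rw [← hz2]; exact pow_orderOf_eq_one _)) hc
    have h3 := hminus _ (sup_le (hV.trans inf_le_left) (Subgroup.zpowers_le.2 z.2)) h2
    have h4 : V < V ⊔ Subgroup.zpowers (z : G) := lt_of_le_of_ne le_sup_left fun h =>
      hzV (h ▸ Subgroup.mem_sup_right (Subgroup.mem_zpowers _))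
    have h5 := Set.ncard_lt_ncard (SetLike.coe_ssubset_coe.2 h4)
    rw [← Nat.card_coe_set_eq, ← Nat.card_coe_set_eq] at h5
    have h6 : Nat.card V < Nat.card ↥(V ⊔ Subgroup.zpowers (z : G)) := h5
    omega
  have hC := main H (z : G) (Cfsg.Agent.Lib.Cores.pCore_isPGroup 2) hG h32
    (fun N hN h => Cfsg.Agent.Lib.Cores.le_pCore h)
    (fun N hN h => by rw [hHF]; exact Cfsg.Agent.Lib.Cores.le_fittingSubgroup h)
    hcen hz2 z.2
    (fun x hx y hy => hzgen ⁅⟨x, hx⟩, ⟨y, hy⟩⁆ (hz.comm_mem _ _))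
    (fun x hx => hzgen (⟨x, hx⟩ ^ 2) (hz.pow_mem _))
    hminus T hT hTH
  have heq : V = H ⊓ Subgroup.centralizer ({T} : Set G) :=
    Subgroup.eq_of_le_of_card_ge hV (hC.trans hV4.ge)
  exact ⟨heq ▸ hV4, heq ▸ hVe⟩

end Cfsg.Agent.S4405
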