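import Cfsg.Statements.S4406
-- import your own Cfsg.Agent.* helpers here

set_option autoImplicit false
open Cfsg

namespace Cfsg.Agent.S4406

abbrev A4 := ↥(alternatingGroup (Fin 4))

theorem pow_16 : ∀ a : A4, a ^ 16 = 1 → a * a = 1 := by decide +kernel

theorem pow_9 : ∀ a : A4, a ^ 9 = 1 → a ^ 3 = 1 := by decide +kernel

set_option synthInstance.maxSize 2000 in
theorem key : ∀ a : A4, a * a * a = 1 → a ≠ 1 → ∀ b : A4, b * b * b = 1 → b ≠ 1 →
    ∀ u₁ : A4, u₁ * u₁ = 1 → u₁ ≠ 1 → ∀ v₁ : A4, v₁ * v₁ = 1 → v₁ ≠ 1 →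
    ∀ u₂ : A4, u₂ * u₂ = 1 → u₂ ≠ 1 → u₁ * u₂ ≠ 1 →
    ∀ v₂ : A4, v₂ * v₂ = 1 → v₂ ≠ 1 → v₁ * v₂ ≠ 1 →
    ∃ r ∈ [((a, b) : A4 × A4), (a, b * b)],
      r * (u₁, v₁) * r⁻¹ ∈ [((u₁, v₁) : A4 × A4), (u₂, v₂), (u₁ * u₂, v₁ * v₂)] ∧
      r * (u₂, v₂) * r⁻¹ ∈ [((u₁, v₁) : A4 × A4), (u₂, v₂), (u₁ * u₂, v₁ * v₂)] := by
  decide +kernel


/-- In the direct product P = A₄ × A₄, let X be the Sylow 2-subgroup, X₁ and X₂ its intersections with the two direct factors, Q a Sylow 3-subgroup and Q₁, Q₂ its intersections with the two factors. Then every subgroup B of X of order 4 either meets X₁ or X₂ nontrivially, or is normalized by one of the two subgroups of Q of order 3 other than Q₁ and Q₂. -/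
theorem result
    (X : Sylow 2 (↥(alternatingGroup (Fin 4)) × ↥(alternatingGroup (Fin 4))))
    (Q : Sylow 3 (↥(alternatingGroup (Fin 4)) × ↥(alternatingGroup (Fin 4))))
    (B : Subgroup (↥(alternatingGroup (Fin 4)) × ↥(alternatingGroup (Fin 4)))) (hBX : B ≤ (X : Subgroup _)) (hB4 : Nat.card ↥B = 4) :
    B ⊓ ((X : Subgroup _) ⊓ Subgroup.prod ⊤ ⊥) ≠ ⊥ ∨ B ⊓ ((X : Subgroup _) ⊓ Subgroup.prod ⊥ ⊤) ≠ ⊥ ∨
      ∃ R : Subgroup (↥(alternatingGroup (Fin 4)) × ↥(alternatingGroup (Fin 4))), R ≤ (Q : Subgroup _) ∧ Nat.card ↥R = 3 ∧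
        R ≠ (Q : Subgroup _) ⊓ Subgroup.prod ⊤ ⊥ ∧ R ≠ (Q : Subgroup _) ⊓ Subgroup.prod ⊥ ⊤ ∧ R ≤ Subgroup.normalizer (B : Set _) := by
  have h144 : Nat.card (A4 × A4) = 144 := by
    simp only [A4, Nat.card_prod, nat_card_alternatingGroup, Nat.card_eq_fintype_card,
      Fintype.card_fin]
    rfl
  have := Fact.mk Nat.prime_two
  have := Fact.mk Nat.prime_three
  have hX : Nat.card (X : Subgroup (A4 × A4)) = 2 ^ 4 := by
    obtain ⟨k, hk⟩ := IsPGroup.iff_card.1 X.2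
    have hmul := (X : Subgroup (A4 × A4)).card_mul_index
    have hidx := X.not_dvd_index
    rw [h144, hk] at hmul
    rw [hk]
    have hk8 : k ≤ 7 := by
      by_contra hk8
      have := Nat.le_of_dvd (by norm_num : 0 < 144) ⟨_, hmul.symm⟩
      have := Nat.pow_le_pow_right (show 1 ≤ 2 by norm_num) (show 8 ≤ k by omega)
      omega
    interval_cases k <;> norm_num at hmul ⊢ <;> omega
  have hQ : Nat.card (Q : Subgroup (A4 × A4)) = 3 ^ 2 := by
    obtain ⟨k, hk⟩ := IsPGroup.iff_card.1 Q.2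
    have hmul := (Q : Subgroup (A4 × A4)).card_mul_index
    have hidx := Q.not_dvd_index
    rw [h144, hk] at hmul
    rw [hk]
    have hk8 : k ≤ 4 := by
      by_contra hk8
      have := Nat.le_of_dvd (by norm_num : 0 < 144) ⟨_, hmul.symm⟩
      have := Nat.pow_le_pow_right (show 1 ≤ 3 by norm_num) (show 5 ≤ k by omega)
      omega
    interval_cases k <;> norm_num at hmul ⊢ <;> omega
  have hsq : ∀ x ∈ B, x.1 * x.1 = 1 ∧ x.2 * x.2 = 1 := fun x hx => by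
    have := (X : Subgroup (A4 × A4)).pow_mem (hBX hx) 1
    have h : x ^ 16 = 1 := by
      have := pow_card_eq_one' (x := (⟨x, hBX hx⟩ : ↥(X : Subgroup (A4 × A4))))
      rw [hX] at this
      exact Subtype.ext_iff.1 this
    exact ⟨pow_16 _ (Prod.ext_iff.1 h).1, pow_16 _ (Prod.ext_iff.1 h).2⟩
  by_contra hno
  simp only [not_or, ne_eq, not_not] at hno
  obtain ⟨hB1, hB2, hR⟩ := hno
  apply hR
  have hcoord : ∀ x ∈ B, x ≠ 1 → x.1 ≠ 1 ∧ x.2 ≠ 1 := fun x hx hx1 => by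
    constructor <;> intro h <;> apply hx1
    · rw [← Subgroup.mem_bot, ← hB2]
      exact ⟨hx, hBX hx, Subgroup.mem_prod.2 ⟨Subgroup.mem_bot.2 h, trivial⟩⟩
    · rw [← Subgroup.mem_bot, ← hB1]
      exact ⟨hx, hBX hx, Subgroup.mem_prod.2 ⟨trivial, Subgroup.mem_bot.2 h⟩⟩
  obtain ⟨b₁, hb₁, hb₁ne⟩ := (B.bot_or_exists_ne_one).resolve_left
    (fun h => by rw [h, Subgroup.card_bot] at hB4; omega)
  obtain ⟨b₂, hb₂, hb₂ne, hb₂b₁⟩ : ∃ b₂ ∈ B, b₂ ≠ 1 ∧ b₂ ≠ b₁ := by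
    by_contra hall
    push Not at hall
    have : (B : Set (A4 × A4)) ⊆ {1, b₁} := fun x hx => by
      by_cases h : x = 1
      · exact Or.inl h
      · exact Or.inr (hall x hx h)
    have := (Set.ncard_le_ncard this).trans (Set.ncard_insert_le _ _)
    rw [Set.ncard_singleton, ← Nat.card_coe_set_eq] at this
    rw [show Nat.card ↥(B : Set (A4 × A4)) = 4 from hB4] at this
    omega
  have hb12 : b₁ * b₂ ≠ 1 := fun h => hb₂b₁ (by
    have h1 : b₁ * b₁ = 1 := Prod.ext (hsq b₁ hb₁).1 (hsq b₁ hb₁).2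
    exact mul_left_cancel (h.trans h1.symm))
  obtain ⟨a, b, ha, hb, ha3, hb3, hab⟩ : ∃ a b : A4, a ≠ 1 ∧ b ≠ 1 ∧ a * a * a = 1 ∧
      b * b * b = 1 ∧ (a, 1) ∈ (Q : Subgroup (A4 × A4)) ∧ (1, b) ∈ (Q : Subgroup (A4 × A4)) := by
    set P₁ := (Q : Subgroup (A4 × A4)).map (MonoidHom.fst A4 A4) with hP₁
    set P₂ := (Q : Subgroup (A4 × A4)).map (MonoidHom.snd A4 A4) with hP₂
    have hle : (Q : Subgroup (A4 × A4)) ≤ P₁.prod P₂ := fun x hx =>
      Subgroup.mem_prod.2 ⟨⟨x, hx, rfl⟩, ⟨x, hx, rfl⟩⟩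
    have hd : ∀ P : Subgroup A4, Nat.card P ∣ 9 → Nat.card P ∣ 3 := fun P hP => by
      have h12 : Nat.card P ∣ 12 := by
        have := P.card_subgroup_dvd_card
        rwa [show Nat.card A4 = 12 by
          simp only [A4, nat_card_alternatingGroup, Nat.card_eq_fintype_card, Fintype.card_fin]
          rfl] at this
      exact (Nat.dvd_gcd hP h12).trans (by decide)
    have h1 : Nat.card P₁ ∣ 3 := hd _ ((Subgroup.card_map_dvd _ _).trans (by rw [hQ]; rfl))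
    have h2 : Nat.card P₂ ∣ 3 := hd _ ((Subgroup.card_map_dvd _ _).trans (by rw [hQ]; rfl))
    have hcard : Nat.card ↥(P₁.prod P₂) = Nat.card P₁ * Nat.card P₂ :=
      (Nat.card_congr (Subgroup.prodEquiv P₁ P₂).toEquiv).trans (Nat.card_prod _ _)
    have h9 : Nat.card (Q : Subgroup (A4 × A4)) ≤ Nat.card ↥(P₁.prod P₂) :=
      Subgroup.card_le_of_le hle
    rw [hQ, hcard] at h9
    have l1 := Nat.le_of_dvd (by norm_num) h1
    have l2 := Nat.le_of_dvd (by norm_num) h2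
    have heq : (Q : Subgroup (A4 × A4)) = P₁.prod P₂ :=
      Subgroup.eq_of_le_of_card_ge hle (by rw [hQ, hcard]; nlinarith)
    have k1 : Nat.card P₁ = 3 := by nlinarith
    have k2 : Nat.card P₂ = 3 := by nlinarith
    obtain ⟨a, ha, hane⟩ := (P₁.bot_or_exists_ne_one).resolve_left
      (fun h => by rw [h, Subgroup.card_bot] at k1; omega)
    obtain ⟨b, hb, hbne⟩ := (P₂.bot_or_exists_ne_one).resolve_left
      (fun h => by rw [h, Subgroup.card_bot] at k2; omega)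
    have hp3 : ∀ P : Subgroup A4, Nat.card P = 3 → ∀ c ∈ P, c * c * c = 1 := fun P hP c hc => by
      have := pow_card_eq_one' (x := (⟨c, hc⟩ : P))
      rw [hP] at this
      simpa [pow_succ] using Subtype.ext_iff.1 this
    exact ⟨a, b, hane, hbne, hp3 _ k1 a ha, hp3 _ k2 b hb,
      by rw [heq]; exact Subgroup.mem_prod.2 ⟨ha, one_mem _⟩,
      by rw [heq]; exact Subgroup.mem_prod.2 ⟨one_mem _, hb⟩⟩
  obtain ⟨haQ, hbQ⟩ := hab
  obtain ⟨u₁, v₁⟩ := b₁
  obtain ⟨u₂, v₂⟩ := b₂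
  have c1 := hcoord _ hb₁ hb₁ne
  have c2 := hcoord _ hb₂ hb₂ne
  have c3 := hcoord _ (mul_mem hb₁ hb₂) hb12
  have s1 := hsq _ hb₁
  have s2 := hsq _ hb₂
  obtain ⟨r, hr, hr1, hr2⟩ := key a ha3 ha b hb3 hb u₁ s1.1 c1.1 v₁ s1.2 c1.2 u₂ s2.1 c2.1 c3.1
    v₂ s2.2 c2.2 c3.2
  have hrQ : r ∈ (Q : Subgroup (A4 × A4)) := by
    simp only [List.mem_cons, List.not_mem_nil, or_false] at hr
    rcases hr with rfl | rfl
    · simpa using mul_mem haQ hbQ
    · simpa using mul_mem haQ (mul_mem hbQ hbQ)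
  have hr3 : orderOf r = 3 ∧ r.1 ≠ 1 ∧ r.2 ≠ 1 := by
    have := Fact.mk Nat.prime_three
    simp only [List.mem_cons, List.not_mem_nil, or_false] at hr
    have hb2 : b * b ≠ 1 := fun h => hb (by simpa [h] using hb3)
    rcases hr with rfl | rfl
    · exact ⟨orderOf_eq_prime (by simp [pow_succ, ha3, hb3]) (by simp [ha]), ha, hb⟩
    · refine ⟨orderOf_eq_prime ?_ (by simp [ha]), ha, hb2⟩
      simp only [pow_succ, pow_zero, one_mul, Prod.mk_mul_mk, Prod.mk_eq_one]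
      refine ⟨ha3, ?_⟩
      rw [show b * b * (b * b) * (b * b) = b * b * b * (b * b * b) by simp [mul_assoc], hb3,
        one_mul]
  refine ⟨Subgroup.zpowers r, by simpa using hrQ, by rw [Nat.card_zpowers]; exact hr3.1,
    fun h => ?_, fun h => ?_, ?_⟩
  · have := h ▸ Subgroup.mem_zpowers r
    exact hr3.2.2 (Subgroup.mem_bot.1 (Subgroup.mem_prod.1 this.2).2)
  · have := h ▸ Subgroup.mem_zpowers r
    exact hr3.2.1 (Subgroup.mem_bot.1 (Subgroup.mem_prod.1 this.2).1)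
  · rw [Subgroup.zpowers_le]
    have hmem : ∀ z, z ∈ [((u₁, v₁) : A4 × A4), (u₂, v₂), (u₁ * u₂, v₁ * v₂)] → z ∈ B := by
      intro z hz
      simp only [List.mem_cons, List.not_mem_nil, or_false] at hz
      rcases hz with rfl | rfl | rfl
      exacts [hb₁, hb₂, mul_mem hb₁ hb₂]
    have hne12 : ((u₁, v₁) : A4 × A4) ≠ (u₂, v₂) := Ne.symm hb₂b₁
    have hne13 : ((u₁, v₁) : A4 × A4) ≠ (u₁ * u₂, v₁ * v₂) := fun h =>
      hb₂ne (Prod.ext (left_eq_mul.1 (congrArg Prod.fst h)) (left_eq_mul.1 (congrArg Prod.snd h)))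
    have hne23 : ((u₂, v₂) : A4 × A4) ≠ (u₁ * u₂, v₁ * v₂) := fun h =>
      hb₁ne (Prod.ext (right_eq_mul.1 (congrArg Prod.fst h))
        (right_eq_mul.1 (congrArg Prod.snd h)))
    have hne3 : ((u₁ * u₂, v₁ * v₂) : A4 × A4) ≠ 1 := hb12
    have hfour : ∀ z ∈ B, z = 1 ∨ z ∈ [((u₁, v₁) : A4 × A4), (u₂, v₂), (u₁ * u₂, v₁ * v₂)] := by
      intro z hz
      by_contra hzno
      simp only [List.mem_cons, List.not_mem_nil, or_false, not_or] at hzno
      obtain ⟨h0, h1, h2, h3⟩ := hzno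
      have : Fintype B := Fintype.ofFinite _
      have hc : ({⟨z, hz⟩, 1, ⟨_, hb₁⟩, ⟨_, hb₂⟩, ⟨_, mul_mem hb₁ hb₂⟩} : Finset B).card = 5 := by
        rw [Finset.card_insert_of_notMem, Finset.card_insert_of_notMem,
          Finset.card_insert_of_notMem, Finset.card_pair]
        · intro h; exact hne23 (congrArg Subtype.val h)
        · simp only [Finset.mem_insert, Finset.mem_singleton, Subtype.ext_iff, not_or]
          exact ⟨hne12, hne13⟩
        · simp only [Finset.mem_insert, Finset.mem_singleton, Subtype.ext_iff, not_or]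
          exact ⟨Ne.symm hb₁ne, Ne.symm hb₂ne, Ne.symm hne3⟩
        · simp only [Finset.mem_insert, Finset.mem_singleton, Subtype.ext_iff, not_or]
          exact ⟨h0, h1, h2, h3⟩
      have := Finset.card_le_univ ({⟨z, hz⟩, 1, ⟨_, hb₁⟩, ⟨_, hb₂⟩, ⟨_, mul_mem hb₁ hb₂⟩} : Finset B)
      rw [hc, ← Nat.card_eq_fintype_card, hB4] at this
      omega
    have himg : ∀ z ∈ B, r * z * r⁻¹ ∈ B := fun z hz => by
      rcases hfour z hz with rfl | hz'
      · rw [mul_one, mul_inv_cancel]; exact one_mem B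
      · simp only [List.mem_cons, List.not_mem_nil, or_false] at hz'
        rcases hz' with rfl | rfl | rfl
        · exact hmem _ hr1
        · exact hmem _ hr2
        · rw [show ((u₁ * u₂, v₁ * v₂) : A4 × A4) = (u₁, v₁) * (u₂, v₂) from rfl, ← conj_mul]
          exact mul_mem (hmem _ hr1) (hmem _ hr2)
    exact Subgroup.mem_normalizer_fintype himg

end Cfsg.Agent.S4406
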