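import Cfsg.Statements.S4408
import Cfsg.Agent.Lib.CommutingPrimes76
-- import your own Cfsg.Agent.* helpers here

set_option autoImplicit false
open Cfsg

namespace Cfsg.Agent.S4408

/-- Let S be a finite solvable group whose Fitting subgroup F(S) has odd order, and let I be an elementary abelian 2-subgroup of S of order 2ⁿ with n ≥ 1. Then F(S) contains subgroups A₁, …, Aₙ of prime order, each normalized by I, pairwise commuting and generating a subgroup A of order |A₁|⋯|Aₙ| (their internal direct product), such that no non-identity element of I centralizes A. -/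
theorem result {S : Type*} [Group S] [Finite S]
    [Group.IsSolvable S] (hF : Odd (Nat.card ↥(Cfsg.fittingSubgroup S)))
    (I : Subgroup S) (hI : Cfsg.IsElementaryAbelian 2 I) (n : ℕ) (hn : 1 ≤ n) (hIn : Nat.card ↥I = 2 ^ n) :
    ∃ f : Fin n → Subgroup S, (∀ i, (Nat.card ↥(f i)).Prime) ∧ (∀ i, f i ≤ Cfsg.fittingSubgroup S) ∧
      (∀ i, I ≤ Subgroup.normalizer ((f i) : Set S)) ∧ (∀ i j, i ≠ j → ∀ a ∈ f i, ∀ b ∈ f j, a * b = b * a) ∧
      Nat.card ↥(⨆ i, f i) = ∏ i, Nat.card ↥(f i) ∧ I ⊓ Subgroup.centralizer ((⨆ i, f i : Subgroup S) : Set S) = ⊥ := by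
  haveI := hI.1
  have hc : ∀ a ∈ I, ∀ b ∈ I, a * b = b * a := fun a ha b hb =>
    congrArg Subtype.val (mul_comm' (⟨a, ha⟩ : I) ⟨b, hb⟩)
  have hs : ∀ a ∈ I, a * a = 1 := fun a ha => by rw [← pow_two]; exact hI.2 a ha
  haveI := Cfsg.Agent.Lib.Cores.fittingSubgroup_normal (G := S)
  have hfix : ∀ t x : S, MulAut.conj t x = x ↔ t * x = x * t :=
    fun t x => Cfsg.Agent.Lib.CommutingPrimes76.conj_eq_self_iff
  obtain ⟨f, f1, f2, f3, f4, f5, f6, -⟩ := Cfsg.Agent.Lib.CommutingPrimes76.exists_family hc hs n I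
    (Cfsg.fittingSubgroup S) le_rfl hIn Cfsg.Agent.Lib.Cores.fittingSubgroup_isNilpotent hF
    (fun a _ w hw => Subgroup.Normal.conj_mem inferInstance w hw a)
    (fun t ht h => by
      have hc' : t ∈ Subgroup.centralizer (Cfsg.fittingSubgroup S : Set S) :=
        Subgroup.mem_centralizer_iff.2 fun w hw => ((hfix t w).1 (h w hw)).symm
      have htF := Cfsg.Agent.Lib.Cores.centralizer_fittingSubgroup_le hc'
      exact Cfsg.Agent.Lib.CommutingPrimes76.eq_one_of_eq_inv hF htF
        (inv_eq_of_mul_eq_one_right (hs t ht)))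
  refine ⟨f, f1, f2, f3, f4, f5, ?_⟩
  rw [Subgroup.eq_bot_iff_forall]
  intro t ht
  exact f6 t ht.1 fun a ha => (hfix t a).2 (Subgroup.mem_centralizer_iff.1 ht.2 a ha).symm

end Cfsg.Agent.S4408
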