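import Cfsg.Statements.S4409
import Mathlib
import Cfsg.Agent.Lib.MinFreeClassify76
import Cfsg.Agent.S0003
import Cfsg.Agent.Lib.Coprime.Conjugacy
import Cfsg.Agent.Lib.OctahedralCore76

set_option autoImplicit false
set_option linter.style.haveILetI false
open Cfsg

namespace Cfsg.Agent.S4409

open Cfsg.Agent.Lib Cfsg.Agent.Lib.MinFree76 Cfsg.Agent.Lib.MinFreeClassify76

theorem quat_commute : ∀ i u : QuaternionGroup 2, i * i ≠ 1 → u * i = i * u →
    u = 1 ∨ u = i * i ∨ u = i ∨ u = i⁻¹ := by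
  decide +kernel

theorem quat_center : ∀ u : QuaternionGroup 2, (∀ v, u * v = v * u) → u = 1 ∨ u = .a 2 := by decide

theorem quat_sq : ∀ u : QuaternionGroup 2, u * u = 1 → u = 1 ∨ u = .a 2 := by decide

theorem quat_fix_inner : ∀ u v : QuaternionGroup 2,
    (∀ x y, PGroups.quatFun u v (x * y) = PGroups.quatFun u v x * PGroups.quatFun u v y) →
    (∀ x, PGroups.quatFun u v (PGroups.quatFun u v x) = x) →
    ∀ i, PGroups.quatFun u v i = i → i * i ≠ 1 →
      (∀ x, PGroups.quatFun u v x = x) ∨ ∀ x, PGroups.quatFun u v x = i * x * i⁻¹ := by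
  decide +kernel

/-- A `K`-stable product with a subgroup of the Sylow 2-subgroup has 2-power index. -/
theorem index_sup {S : Type*} [Group S] [Finite S] (X : Sylow 2 S) (K W : Subgroup S)
    (hK : Nat.card K = (X : Subgroup S).index) (hW : IsPGroup 2 W)
    (hn : K ≤ Subgroup.normalizer (W : Set S)) :
    (∃ k : ℕ, (K ⊔ W).index = 2 ^ k) ∧ ((K ⊔ W) = ⊤ → Nat.card (X : Subgroup S) ≤ Nat.card W) := by
  haveI : Fact (Nat.Prime 2) := ⟨Nat.prime_two⟩
  have hXi : ¬ 2 ∣ (X : Subgroup S).index := X.not_dvd_index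
  obtain ⟨w, hw⟩ := IsPGroup.iff_card.1 hW
  have hcop : (Nat.card K).Coprime (Nat.card W) := by
    rw [hK, hw]
    exact ((Nat.prime_two.coprime_iff_not_dvd.2 hXi).symm).pow_right w
  have hcard := Coprime.card_sup_of_disjoint hn
    (disjoint_iff.2 (Coprime.inf_eq_bot_of_coprime hcop))
  have hG := (X : Subgroup S).card_mul_index
  have hR := (K ⊔ W).card_mul_index
  rw [hcard, hK] at hR
  rw [← hR] at hG
  have hpos : 0 < (X : Subgroup S).index := Nat.pos_of_ne_zero Subgroup.index_ne_zero_of_finite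
  have h2 : Nat.card W * (K ⊔ W).index = Nat.card (X : Subgroup S) := by
    apply Nat.eq_of_mul_eq_mul_left hpos
    linarith
  obtain ⟨x, hx⟩ := IsPGroup.iff_card.1 X.2
  constructor
  · obtain ⟨k, -, hk⟩ := (Nat.dvd_prime_pow Nat.prime_two).1 (hx ▸ Dvd.intro_left _ h2)
    exact ⟨k, hk⟩
  · intro h
    rw [h, Subgroup.index_top, mul_one] at h2
    exact h2.ge

theorem normal_part {S : Type*} [Group S] [Finite S] [Group.IsSolvable S]
    (hO : Cfsg.pPrimeCore 2 S = ⊥)
    (h8 : ∃ A : Subgroup S, IsMulCommutative ↥A ∧ ¬ IsCyclic ↥A ∧ Nat.card ↥A = 8)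
    (hmin : ∀ R : Subgroup S, R ≠ ⊤ → (∃ k : ℕ, R.index = 2 ^ k) →
      ¬ ∃ A : Subgroup S, A ≤ R ∧ IsMulCommutative ↥A ∧ ¬ IsCyclic ↥A ∧ Nat.card ↥A = 8)
    (X : Sylow 2 S) (K : Subgroup S) (hK : Nat.card K = (X : Subgroup S).index) :
    (X : Subgroup S).Normal := by
  classical
  haveI : Fact (Nat.Prime 2) := ⟨Nat.prime_two⟩
  set Q := pCore 2 S with hQdef
  haveI hQn : Q.Normal := by rw [hQdef]; infer_instance
  have hQX : Q ≤ (X : Subgroup S) := Cores.pCore_le_sylow X
  have hQp : IsPGroup 2 Q := Cores.pCore_isPGroup 2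
  have hCQ : Subgroup.centralizer (Q : Set S) ≤ Q := SylowInter.Basic.centralizer_pCore_le 2 hO
  have hpgroup : IsPGroup 2 S → (X : Subgroup S).Normal := by
    intro h
    rw [X.3 (h.to_subgroup ⊤) le_top |>.symm]
    infer_instance
  by_cases hfree : IsFree Q
  swap
  · have hn : K ≤ Subgroup.normalizer (Q : Set S) := by
      rw [Subgroup.normalizer_eq_top]; exact le_top
    obtain ⟨hidx, htop⟩ := index_sup X K Q hK hQp hn
    unfold IsFree at hfree
    rw [not_not] at hfree
    obtain ⟨A, hAQ, hA⟩ := hfree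
    have hR : K ⊔ Q = ⊤ := by
      by_contra hne
      exact hmin _ hne hidx ⟨A, hAQ.trans le_sup_right, hA⟩
    rw [← Subgroup.eq_of_le_of_card_ge hQX (htop hR)]
    exact hQn
  by_cases hAut : IsPGroup 2 (MulAut Q)
  · exact hpgroup (SylowInter.Basic.isPGroup_of_aut Q (hQp.to_le hCQ) hAut)
  obtain ⟨φ, hφ, hφ1⟩ : ∃ φ : MulAut Q, Odd (orderOf φ) ∧ φ ≠ 1 := by
    by_contra! h
    exact hAut (TwoGroups.OddAut.isPGroup_mulAut h)
  haveI : Finite (MulAut Q) := Finite.of_injective (fun ψ => (ψ : Q → Q)) DFunLike.coe_injective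
  set c : S →* MulAut Q := MulAut.conjNormal
  have hker : c.ker = Subgroup.centralizer (Q : Set S) := SylowInter.Basic.ker_conjNormal Q
  have hcard : Nat.card S = Nat.card (Subgroup.centralizer (Q : Set S)) * Nat.card c.range := by
    rw [← Subgroup.index_ker, ← hker, Subgroup.card_mul_index]
  obtain ⟨A, hAc, hAnc, hA8⟩ := h8
  have hAp : IsPGroup 2 A := IsPGroup.of_card (n := 3) (by rw [hA8]; norm_num)
  obtain ⟨P, hAP⟩ := hAp.exists_le_sylow
  have hQP : Q ≤ (P : Subgroup S) := Cores.pCore_le_sylow P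
  obtain ⟨j, hj⟩ := IsPGroup.iff_card.1 P.2
  have hjdvd : 2 ^ j ∣ Nat.card S := hj ▸ (P : Subgroup S).card_subgroup_dvd_card
  have hj3 : 8 ≤ 2 ^ j := hj ▸ hA8 ▸ Subgroup.card_le_of_le hAP
  rcases free_cases hQp (isFree_top_of hfree) φ hφ hφ1 with ⟨hQ4, -⟩ | ⟨⟨e⟩⟩
  · exfalso
    let f : MulAut Q →* Equiv.Perm {x : Q // x ≠ 1} :=
      { toFun := fun ψ => ψ.toEquiv.subtypeEquiv (fun x => by simp [MulEquiv.map_eq_one_iff])
        map_one' := Equiv.ext fun x => Subtype.ext rfl
        map_mul' := fun ψ χ => Equiv.ext fun x => Subtype.ext rfl }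
    have hf : Function.Injective f := by
      intro ψ χ h
      refine MulEquiv.ext fun x => ?_
      by_cases hx : x = 1
      · rw [hx, map_one, map_one]
      · exact congrArg (fun σ : Equiv.Perm {x : Q // x ≠ 1} => ((σ ⟨x, hx⟩ : {x : Q // x ≠ 1}) : Q)) h
    have h6 : Nat.card c.range ∣ 6 := by
      have h3 : Nat.card {x : Q // x ≠ 1} = 3 := by
        haveI := Fintype.ofFinite Q
        rw [Nat.card_eq_fintype_card, Fintype.card_subtype_compl, Fintype.card_subtype_eq,
          ← Nat.card_eq_fintype_card, hQ4]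
      have h := Subgroup.card_subgroup_dvd_card (c.range.map f)
      rw [Subgroup.card_map_of_injective hf, Nat.card_perm, h3] at h
      exact h
    have h4 : Nat.card (Subgroup.centralizer (Q : Set S)) ∣ 4 := hQ4 ▸ Subgroup.card_dvd_of_le hCQ
    have h46 : Nat.card S ∣ 4 * 6 := hcard ▸ mul_dvd_mul h4 h6
    have h24 : 2 ^ j ∣ 2 ^ 3 * 3 := hjdvd.trans (h46.trans (by norm_num))
    have h8' : 2 ^ j ∣ 2 ^ 3 := (Nat.Coprime.pow_left j (by norm_num)).dvd_of_dvd_mul_right h24
    have hAeq : A = (P : Subgroup S) := Subgroup.eq_of_le_of_card_ge hAP (by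
      rw [hA8, hj]; exact Nat.le_of_dvd (by norm_num) h8')
    have hle : A ≤ Subgroup.centralizer (Q : Set S) := by
      intro a ha
      rw [Subgroup.mem_centralizer_iff]
      intro q hq
      exact congrArg Subtype.val (hAc.is_comm.comm (⟨q, hAeq ▸ hQP hq⟩ : A) ⟨a, ha⟩)
    have := Subgroup.card_le_of_le (hle.trans hCQ)
    omega
  · have hQ8 : Nat.card Q = 8 := by
      rw [Nat.card_congr e.toEquiv, Nat.card_eq_fintype_card, QuaternionGroup.card]
    have hC2 : Nat.card (Subgroup.centralizer (Q : Set S)) ≤ 2 := by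
      let f : Subgroup.centralizer (Q : Set S) → ({1, .a 2} : Finset (QuaternionGroup 2)) := fun u =>
        ⟨e ⟨u, hCQ u.2⟩, by
          rcases quat_center (e ⟨u, hCQ u.2⟩) (fun v => by
            obtain ⟨q, rfl⟩ := e.surjective v
            rw [← map_mul, ← map_mul]
            exact congrArg e (Subtype.ext ((Subgroup.mem_centralizer_iff.1 u.2) q q.2).symm)) with h | h <;>
            simp [h]⟩
      have hf : Function.Injective f := fun a b h =>
        Subtype.ext (congrArg (fun q : Q => (q : S)) (e.injective (congrArg Subtype.val h)))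
      refine (Nat.card_le_card_of_injective f hf).trans ?_
      rw [Nat.card_eq_fintype_card, Fintype.card_coe]
      exact Finset.card_le_two
    have hr24 : Nat.card c.range ≤ 24 := by
      refine (Subgroup.card_le_card_group _).trans ?_
      rw [Nat.card_congr (MulAut.congr e).toEquiv]
      exact OctahedralCore76.card_mulAut_quat_le
    have hS48 : Nat.card S ≤ 48 := by rw [hcard]; exact Nat.mul_le_mul hC2 hr24
    have hSle : 2 ^ j ≤ Nat.card S := Nat.le_of_dvd Nat.card_pos hjdvd
    by_cases h32 : 5 ≤ j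
    · obtain ⟨m, hm⟩ := hjdvd
      have hm1 : m = 1 := by
        have : 2 ^ 5 ≤ 2 ^ j := Nat.pow_le_pow_right two_pos h32
        have hpos : 0 < Nat.card S := Nat.card_pos
        nlinarith
      exact hpgroup (IsPGroup.of_card (n := j) (by rw [hm, hm1, mul_one]))
    exfalso
    have hP16 : Nat.card (P : Subgroup S) ≤ 16 := by
      rw [hj]
      exact (Nat.pow_le_pow_right two_pos (by omega : j ≤ 4)).trans (by norm_num)
    have hrel : Q.relIndex A ≤ 2 := by
      refine (Subgroup.relIndex_le_of_le_right hAP Subgroup.index_ne_zero_of_finite).trans ?_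
      have := (Q.subgroupOf (P : Subgroup S)).card_mul_index
      rw [Nat.card_congr (Subgroup.subgroupOfEquivOfLe hQP).toEquiv, hQ8] at this
      show (Q.subgroupOf (P : Subgroup S)).index ≤ 2
      omega
    set B := Q.subgroupOf A with hB
    have hB4 : 4 ≤ Nat.card B := by
      have := B.card_mul_index
      rw [hA8] at this
      change B.index ≤ 2 at hrel
      nlinarith
    obtain ⟨i, hiA, hiQ, hi2⟩ : ∃ i ∈ A, i ∈ Q ∧ i * i ≠ 1 := by
      by_contra! hall
      let f : B → ({1, .a 2} : Finset (QuaternionGroup 2)) := fun u => ⟨e ⟨(u : A), u.2⟩, by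
        rcases quat_sq (e ⟨(u : A), u.2⟩) (by
          rw [← map_mul, MulEquiv.map_eq_one_iff]
          exact Subtype.ext (hall _ (u : A).2 u.2)) with h | h <;> simp [h]⟩
      have hf : Function.Injective f := fun a b h =>
        Subtype.ext (Subtype.ext (congrArg (fun q : Q => (q : S)) (e.injective (congrArg Subtype.val h))))
      have h2 : Nat.card B ≤ 2 := (Nat.card_le_card_of_injective f hf).trans
        (by rw [Nat.card_eq_fintype_card, Fintype.card_coe]; exact Finset.card_le_two)
      omega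
    obtain ⟨a, haA, haQ⟩ : ∃ a ∈ A, a ∉ Q := by
      by_contra! hall
      have hAQ : A = Q := Subgroup.eq_of_le_of_card_ge hall (by rw [hA8, hQ8])
      have hc : ∀ u v : QuaternionGroup 2, u * v = v * u := by
        intro u v
        obtain ⟨p, rfl⟩ := e.surjective u
        obtain ⟨q, rfl⟩ := e.surjective v
        rw [← map_mul, ← map_mul]
        refine congrArg e (Subtype.ext ?_)
        exact congrArg (fun x : A => (x : S))
          (hAc.is_comm.comm (⟨p, hAQ ▸ p.2⟩ : A) ⟨q, hAQ ▸ q.2⟩)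
      exact absurd (hc (.a 1) (.xa 0)) (by decide)
    have hcomm : ∀ x ∈ A, ∀ y ∈ A, x * y = y * x := fun x hx y hy =>
      congrArg Subtype.val (hAc.is_comm.comm (⟨x, hx⟩ : A) ⟨y, hy⟩)
    have hii : e ⟨i, hiQ⟩ * e ⟨i, hiQ⟩ ≠ 1 := by
      intro h
      rw [← map_mul, MulEquiv.map_eq_one_iff] at h
      exact hi2 (congrArg Subtype.val h)
    have hi4 : i * i * (i * i) = 1 := by
      have key : ∀ u : QuaternionGroup 2, u * u * (u * u) = 1 := by decide
      have := key (e ⟨i, hiQ⟩)
      rw [← map_mul, ← map_mul, MulEquiv.map_eq_one_iff] at this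
      exact congrArg Subtype.val this
    obtain ⟨s, hsA, hsQ, hs2⟩ : ∃ s ∈ A, s ∉ Q ∧ s * s = 1 := by
      have haa : a * a ∈ Q := by
        have h := Subgroup.mem_subgroupOf.1 (B.pow_index_mem ⟨a, haA⟩ :)
        have hb : B.index = 1 ∨ B.index = 2 := by
          have : B.index ≠ 0 := Subgroup.index_ne_zero_of_finite
          change B.index ≤ 2 at hrel
          omega
        rcases hb with hb | hb <;> rw [hb] at h
        · rw [pow_one] at h; exact absurd h haQ
        · rw [sq] at h; exact h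
      rcases quat_commute (e ⟨i, hiQ⟩) (e ⟨a * a, haa⟩) hii (by
        rw [← map_mul, ← map_mul]
        exact congrArg e (Subtype.ext (hcomm _ (mul_mem haA haA) i hiA))) with h | h | h | h
      · rw [MulEquiv.map_eq_one_iff] at h
        exact ⟨a, haA, haQ, congrArg Subtype.val h⟩
      · rw [← map_mul] at h
        have h' : a * a = i * i := congrArg Subtype.val (e.injective h)
        refine ⟨a * i⁻¹, mul_mem haA (inv_mem hiA), fun h => haQ (by simpa using mul_mem h hiQ), ?_⟩
        rw [show a * i⁻¹ * (a * i⁻¹) = a * (i⁻¹ * a) * i⁻¹ by group,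
          hcomm _ (inv_mem hiA) a haA, show a * (a * i⁻¹) * i⁻¹ = a * a * (i * i)⁻¹ by group, h',
          mul_inv_cancel]
      all_goals
        exfalso
        have h' : a * a = i ∨ a * a = i⁻¹ := by
          first
            | exact Or.inl (congrArg Subtype.val (e.injective h))
            | exact Or.inr (congrArg Subtype.val (e.injective (h.trans (map_inv e ⟨i, hiQ⟩).symm)))
        have hord : orderOf (⟨a, haA⟩ : A) = 2 ^ 3 := by
          refine orderOf_eq_prime_pow (p := 2) (n := 2) ?_ ?_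
          · intro e1
            have e1' : a ^ 4 = 1 := congrArg Subtype.val e1
            apply hi2
            rw [show a ^ 4 = a * a * (a * a) by simp only [pow_succ, pow_zero, one_mul, mul_assoc]] at e1'
            rcases h' with h' | h' <;> rw [h'] at e1'
            · exact e1'
            · rwa [← mul_inv_rev, inv_eq_one] at e1'
          · refine Subtype.ext ?_
            show a ^ (2 ^ 3) = 1
            rw [show a ^ (2 ^ 3) = a * a * (a * a) * (a * a * (a * a)) by norm_num [pow_succ, mul_assoc]]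
            rcases h' with h' | h' <;> rw [h']
            · exact hi4
            · rw [← mul_inv_rev, ← mul_inv_rev, hi4, inv_one]
        exact hAnc (isCyclic_of_orderOf_eq_card _ (hord.trans (by rw [hA8]; norm_num)))
    set h := (MulAut.congr e) (c s) with hhdef
    have hh := PGroups.mulEquiv_eq_quatFun h
    have happ : ∀ q : Q, h (e q) = e ⟨s * q * s⁻¹, hQn.conj_mem q q.2 s⟩ := by
      intro q
      show e ((c s) (e.symm (e q))) = _
      rw [e.symm_apply_apply]
      exact congrArg e (Subtype.ext (MulAut.conjNormal_apply s q))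
    have hfix : h (e ⟨i, hiQ⟩) = e ⟨i, hiQ⟩ := by
      rw [happ]
      exact congrArg e (Subtype.ext (by
        show s * i * s⁻¹ = i
        rw [hcomm s hsA i hiA, mul_inv_cancel_right]))
    have hker' : ∀ g : S, (∀ q : Q, g * q * g⁻¹ = (q : S)) → g ∈ Q := fun g hg =>
      hCQ (Subgroup.mem_centralizer_iff.2 fun q hq => (mul_inv_eq_iff_eq_mul.1 (hg ⟨q, hq⟩)).symm)
    rcases quat_fix_inner (h (.a 1)) (h (.xa 0))
      (by rw [← hh]; exact map_mul h)
      (fun x => by
        rw [← hh, ← MulAut.mul_apply, hhdef, ← map_mul, ← map_mul, hs2, map_one, map_one,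
          MulAut.one_apply])
      (e ⟨i, hiQ⟩) (by rw [← hh]; exact hfix) hii with hid | hinn
    · refine hsQ (hker' s fun q => ?_)
      have := hid (e q)
      rw [← hh, happ] at this
      exact congrArg Subtype.val (e.injective this)
    · refine hsQ ?_
      have : i⁻¹ * s ∈ Q := hker' _ fun q => by
        have := hinn (e q)
        rw [← hh, happ, ← map_inv, ← map_mul, ← map_mul] at this
        have h' : s * q * s⁻¹ = i * q * i⁻¹ := congrArg Subtype.val (e.injective this)
        calc i⁻¹ * s * q * (i⁻¹ * s)⁻¹ = i⁻¹ * (s * q * s⁻¹) * i := by group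
          _ = (q : S) := by rw [h']; group
      simpa using mul_mem hiQ this

/-- Let S be a finite solvable group with O_{2'}(S) = 1 that contains a non-cyclic abelian subgroup of order 8, while no proper subgroup of S of 2-power index contains one. Then a Sylow 2-subgroup X of S is normal in S, and one of the following holds: X is abelian; X is extraspecial of order at least 32; X has a generalized quaternion subgroup X₀ of index 2 with X = X₀·C_X(X₀); or X is special with centre of order 4. -/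
theorem result {S : Type*} [Group S] [Finite S]
    [Group.IsSolvable S] (hO : Cfsg.pPrimeCore 2 S = ⊥)
    (h8 : ∃ A : Subgroup S, IsMulCommutative ↥A ∧ ¬ IsCyclic ↥A ∧ Nat.card ↥A = 8)
    (hmin : ∀ R : Subgroup S, R ≠ ⊤ → (∃ k : ℕ, R.index = 2 ^ k) →
      ¬ ∃ A : Subgroup S, A ≤ R ∧ IsMulCommutative ↥A ∧ ¬ IsCyclic ↥A ∧ Nat.card ↥A = 8)
    (X : Sylow 2 S) :
    (X : Subgroup S).Normal ∧
      (IsMulCommutative ↥X ∨
        (Cfsg.IsExtraspecial 2 ↥X ∧ 32 ≤ Nat.card ↥X) ∨
        (∃ (X₀ : Subgroup S) (k : ℕ), X₀ ≤ (X : Subgroup S) ∧ X₀.relIndex (X : Subgroup S) = 2 ∧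
          Nonempty (↥X₀ ≃* QuaternionGroup (2 ^ (k + 1))) ∧ X₀ ⊔ ((X : Subgroup S) ⊓ Subgroup.centralizer (X₀ : Set S)) = (X : Subgroup S)) ∨
        (Cfsg.IsSpecial 2 ↥X ∧ Nat.card ↥(Subgroup.center ↥X) = 4)) := by
  classical
  haveI : Fact (Nat.Prime 2) := ⟨Nat.prime_two⟩
  obtain ⟨K, hK⟩ := Cfsg.Agent.S0003.result (G := S) (X : Subgroup S).index (Nat.card (X : Subgroup S))
    (by rw [mul_comm, Subgroup.card_mul_index]) (by
      obtain ⟨x, hx⟩ := IsPGroup.iff_card.1 X.2
      rw [hx]
      exact ((Nat.prime_two.coprime_iff_not_dvd.2 X.not_dvd_index).symm).pow_right x)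
  have hXn := normal_part hO h8 hmin X K hK
  refine ⟨hXn, ?_⟩
  haveI := hXn
  let c : S →* MulAut ↥(X : Subgroup S) := MulAut.conjNormal
  haveI : Finite (MulAut ↥(X : Subgroup S)) :=
    Finite.of_injective (fun ψ => (ψ : ↥(X : Subgroup S) → ↥(X : Subgroup S))) DFunLike.coe_injective
  have hKodd : Odd (Nat.card K) := by
    rw [Nat.odd_iff]
    have := X.not_dvd_index
    rw [← hK] at this
    omega
  have hodd : Odd (Nat.card (K.map c)) := Odd.of_dvd_nat hKodd (K.card_map_dvd c)
  have hinv : ∀ W : Subgroup ↥(X : Subgroup S), W ≠ ⊤ →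
      (∀ φ ∈ K.map c, ∀ x ∈ W, φ x ∈ W) → IsFree W := by
    rintro W hW hWinv ⟨A, hAW, hAc, hAnc, hA8⟩
    set W' := W.map (X : Subgroup S).subtype
    have hn : K ≤ Subgroup.normalizer (W' : Set S) := by
      intro k hk
      refine Subgroup.mem_normalizer_fintype ?_
      rintro _ ⟨w, hw, rfl⟩
      exact ⟨c k w, hWinv _ ⟨k, hk, rfl⟩ w hw, MulAut.conjNormal_apply k w⟩
    obtain ⟨hidx, htop⟩ := index_sup X K W' hK
      (X.2.to_le (Subgroup.map_subtype_le W)) hn
    refine hmin (K ⊔ W') ?_ hidx ⟨A.map (X : Subgroup S).subtype,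
      (Subgroup.map_mono hAW).trans le_sup_right, ?_, ?_, ?_⟩
    · intro h
      have := htop h
      rw [Subgroup.card_map_of_injective (Subgroup.subtype_injective _)] at this
      exact hW (Subgroup.eq_top_of_le_card W this)
    · refine ⟨⟨?_⟩⟩
      rintro ⟨_, a, ha, rfl⟩ ⟨_, b, hb, rfl⟩
      exact Subtype.ext (congrArg (fun x : A => (((x : A) : ↥(X : Subgroup S)) : S))
        (hAc.is_comm.comm ⟨a, ha⟩ ⟨b, hb⟩) : _)
    · intro hc
      haveI := hc
      exact hAnc (isCyclic_of_injective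
        (A.equivMapOfInjective _ (Subgroup.subtype_injective _)).toMonoidHom (MulEquiv.injective _))
    · rw [Subgroup.card_map_of_injective (Subgroup.subtype_injective _), hA8]
  have hnf : ¬ IsFree (⊤ : Subgroup ↥(X : Subgroup S)) := by
    obtain ⟨A, hAc, hAnc, hA8⟩ := h8
    have hAp : IsPGroup 2 A := IsPGroup.of_card (n := 3) (by rw [hA8]; norm_num)
    obtain ⟨P, hAP⟩ := hAp.exists_le_sylow
    haveI := Sylow.unique_of_normal X hXn
    rw [Subsingleton.elim P X] at hAP
    have e := Subgroup.subgroupOfEquivOfLe hAP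
    refine fun h => h ⟨A.subgroupOf (X : Subgroup S), le_top, ?_, ?_, ?_⟩
    · refine ⟨⟨?_⟩⟩
      rintro ⟨a, ha⟩ ⟨b, hb⟩
      refine Subtype.ext (Subtype.ext ?_)
      exact congrArg (fun x : A => (x : S))
        (hAc.is_comm.comm (⟨(a : S), ha⟩ : A) ⟨(b : S), hb⟩)
    · intro hc
      haveI := hc
      exact hAnc (isCyclic_of_surjective e.toMonoidHom e.surjective)
    · rw [Nat.card_congr e.toEquiv, hA8]
  rcases classify X.2 (K.map c) hodd hinv hnf with h | h | ⟨X₀, hi, ⟨eq⟩, hsup⟩ | h
  · exact Or.inl h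
  · exact Or.inr (Or.inl h)
  · refine Or.inr (Or.inr (Or.inl ⟨X₀.map (X : Subgroup S).subtype, 0, Subgroup.map_subtype_le _, ?_,
      ⟨(X₀.equivMapOfInjective _ (Subgroup.subtype_injective _)).symm.trans eq⟩, ?_⟩))
    · show ((X₀.map (X : Subgroup S).subtype).subgroupOf (X : Subgroup S)).index = 2
      rw [Subgroup.subgroupOf, Subgroup.comap_map_eq_self_of_injective (Subgroup.subtype_injective _)]
      exact hi
    · refine le_antisymm (sup_le (Subgroup.map_subtype_le _) inf_le_left) ?_
      intro x hx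
      have hmem : (⟨x, hx⟩ : ↥(X : Subgroup S)) ∈ X₀ ⊔ Subgroup.centralizer (X₀ : Set ↥(X : Subgroup S)) := by
        rw [hsup]; exact Subgroup.mem_top _
      have hm := Subgroup.mem_map_of_mem (X : Subgroup S).subtype hmem
      rw [Subgroup.map_sup] at hm
      refine SetLike.le_def.1 (sup_le le_sup_left (le_trans ?_ le_sup_right)) hm
      rintro _ ⟨y, hy, rfl⟩
      refine ⟨y.2, Subgroup.mem_centralizer_iff.2 ?_⟩
      rintro _ ⟨w, hw, rfl⟩
      exact congrArg Subtype.val (Subgroup.mem_centralizer_iff.1 hy w hw)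
  · exact Or.inr (Or.inr (Or.inr h))

end Cfsg.Agent.S4409
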