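import Cfsg.Statements.S4410
import Cfsg.Agent.Lib.TransvectionSquare76
-- import your own Cfsg.Agent.* helpers here

set_option autoImplicit false
open Cfsg

namespace Cfsg.Agent.S4410

/-- Let V be a finite-dimensional vector space over the field with two elements and S a solvable group of linear automorphisms of V with O₂(S) = 1. If P ∈ S has order 4 and (P − 1)³ = 0 on V, then the image of (P − 1)² has at least 4 elements; equivalently, in the decomposition of V into indecomposable modules for the cyclic group generated by P, at least two summands have dimension 3. -/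
theorem result
    {V : Type*} [AddCommGroup V] [Module (ZMod 2) V] [Finite V]
    (S : Subgroup (V ≃ₗ[ZMod 2] V)) (hS : Group.IsSolvable ↥S) (hO2 : Cfsg.pCore 2 ↥S = ⊥)
    (P : V ≃ₗ[ZMod 2] V) (hPS : P ∈ S) (hP4 : orderOf P = 4)
    (hcub : ((P : V →ₗ[ZMod 2] V) - LinearMap.id) ^ 3 = 0) :
    4 ≤ Nat.card ↥(LinearMap.range (((P : V →ₗ[ZMod 2] V) - LinearMap.id) ^ 2)) := by
  set N := (P : V →ₗ[ZMod 2] V) - LinearMap.id with hN
  have h22 : ∀ v : V, v + v = 0 := Cfsg.Agent.Lib.TransvectionSquare76.two_add
  have hP2 : ∀ v, (N ^ 2) v = (P * P) v + v := by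
    intro v
    rw [pow_two, Module.End.mul_apply, hN]
    simp only [LinearMap.sub_apply, LinearMap.id_apply, LinearEquiv.coe_coe, map_sub, LinearEquiv.mul_apply]
    rw [show P (P v) - P v - (P v - v) = P (P v) + v - (P v + P v) by abel, h22, sub_zero]
  have h2ne : P * P ≠ 1 := fun h => by
    have h1 := orderOf_dvd_of_pow_eq_one (x := P) (n := 2) (by rw [pow_two]; exact h)
    rw [hP4] at h1
    omega
  have h4 : P * P * (P * P) = 1 := by
    rw [← pow_two, ← pow_two, ← pow_mul, ← pow_orderOf_eq_one P, hP4]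
  obtain ⟨v₀, hv₀⟩ : ∃ v, (P * P) v ≠ v := by
    by_contra h
    simp only [not_exists, not_not] at h
    exact h2ne (LinearEquiv.ext h)
  by_contra hlt
  set R := LinearMap.range (N ^ 2) with hR
  obtain ⟨n, hn⟩ : ∃ n, Nat.card R = 2 ^ n := ⟨_, by
    rw [Module.natCard_eq_pow_finrank (K := ZMod 2), Nat.card_zmod]⟩
  set a := (N ^ 2) v₀ with ha
  have ha0 : a ≠ 0 := fun h => hv₀ (by
    have h' := hP2 v₀
    rw [← ha, h] at h'
    exact add_right_cancel (h'.symm.trans (h22 v₀).symm))
  have hR2 : ∀ v, (N ^ 2) v = 0 ∨ (N ^ 2) v = a := by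
    intro v
    by_contra hcon
    rw [not_or] at hcon
    have h3 : 3 ≤ Nat.card R := by
      have hi : Function.Injective ![(⟨0, zero_mem R⟩ : R), ⟨a, v₀, rfl⟩, ⟨(N ^ 2) v, v, rfl⟩] := by
        intro i j h
        fin_cases i <;> fin_cases j <;>
          first
            | rfl
            | (simp [Subtype.ext_iff, ha0, Ne.symm ha0, hcon.1, Ne.symm hcon.1, hcon.2, Ne.symm hcon.2] at h)
      simpa using Nat.card_le_card_of_injective _ hi
    rcases n with _ | _ | n
    · omega
    · omega
    · rw [pow_succ, pow_succ] at hn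
      have := Nat.two_pow_pos n
      omega
  have htv : Cfsg.Agent.Lib.TransvectionSquare76.IsTv (P * P) a := by
    refine ⟨fun v => ?_, ?_, ha0⟩
    · have h' := hP2 v
      rcases hR2 v with e | e <;> rw [e] at h'
      · exact Or.inl (add_right_cancel (h'.symm.trans (h22 v).symm))
      · exact Or.inr (by rw [h', add_comm ((P * P) v), ← add_assoc, h22, zero_add])
    · rw [ha, hP2, map_add, ← LinearEquiv.mul_apply, h4, add_comm]
      rfl
  exact Cfsg.Agent.Lib.TransvectionSquare76.not_square hS hO2 hPS htv ⟨v₀, hv₀⟩ h4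

end Cfsg.Agent.S4410
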