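import Cfsg.Statements.S4411
import Cfsg.Agent.Lib.AutomizerControl76
import Cfsg.Agent.Lib.Balance.Permute

set_option autoImplicit false
set_option linter.style.haveILetI false
open Cfsg

namespace Cfsg.Agent.S4411

open Subgroup Cfsg.Agent.Lib.AutomizerControl76

universe u

variable {G : Type u} [Group G] [Finite G] {p q : ℕ} [hp : Fact p.Prime] [hq : Fact q.Prime]

theorem dvd_index_of_moves {K : Subgroup G} (h : Moves q K) :
    q ∣ ((centralizer (K : Set G)).subgroupOf (normalizer (K : Set G))).index := by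
  obtain ⟨y, ⟨j, hj⟩, hN, hC⟩ := h
  set C := (centralizer (K : Set G)).subgroupOf (normalizer (K : Set G)) with hCdef
  let z : ↥(normalizer (K : Set G)) ⧸ C := QuotientGroup.mk' C ⟨y, hN⟩
  have hz : z ^ q ^ j = 1 := by
    rw [show z ^ q ^ j = QuotientGroup.mk' C ((⟨y, hN⟩ : ↥(normalizer (K : Set G))) ^ q ^ j) from
      (map_pow _ _ _).symm]
    exact (QuotientGroup.eq_one_iff _).mpr (by
      rw [show (⟨y, hN⟩ : ↥(normalizer (K : Set G))) ^ q ^ j = 1 from Subtype.ext hj]
      exact one_mem C)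
  have hz1 : z ≠ 1 := fun h =>
    hC ((QuotientGroup.eq_one_iff (N := C) (⟨y, hN⟩ : ↥(normalizer (K : Set G)))).mp h)
  obtain ⟨i, -, hi⟩ := (Nat.dvd_prime_pow hq.out).mp (orderOf_dvd_of_pow_eq_one hz)
  refine dvd_trans ?_ (_root_.orderOf_dvd_natCard z)
  rw [hi]
  rcases i with _ | i
  · exact absurd (orderOf_eq_one_iff.mp (by rwa [pow_zero] at hi)) hz1
  · exact dvd_pow_self q (Nat.succ_ne_zero i)

theorem moves_of_dvd_index {K : Subgroup G}
    (h : q ∣ ((centralizer (K : Set G)).subgroupOf (normalizer (K : Set G))).index) :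
    Moves q K := by
  set C := (centralizer (K : Set G)).subgroupOf (normalizer (K : Set G)) with hCdef
  obtain ⟨z, hz⟩ := exists_prime_orderOf_dvd_card' (G := ↥(normalizer (K : Set G)) ⧸ C) q h
  obtain ⟨x, rfl⟩ := QuotientGroup.mk'_surjective C z
  obtain ⟨m, hm, j, hj⟩ := exists_pow_isQElt (q := q) (x : G)
  refine ⟨(x : G) ^ m, ⟨j, hj⟩, pow_mem x.2 m, fun hc => ?_⟩
  have h1 : (QuotientGroup.mk' C x) ^ m = 1 := by
    rw [← map_pow]
    exact (QuotientGroup.eq_one_iff _).mpr hc
  have h2 := orderOf_dvd_of_pow_eq_one h1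
  rw [hz] at h2
  exact (Nat.Prime.coprime_iff_not_dvd hq.out).mp hm.symm h2

theorem step (hpq : p ≠ q) (h23 : ¬ ((p = 2 ∧ q = 3) ∨ (p = 3 ∧ q = 2)))
    (hsol : ∀ H : Subgroup G, IsPGroup p ↥H →
      Cfsg.IsPSolvable p (↥(normalizer (H : Set G)) ⧸
        (centralizer (H : Set G)).subgroupOf (normalizer (H : Set G))))
    {H T : Subgroup G} (hmov : Moves q H) (hHT : H ≤ T) (hT : IsPGroup p T)
    (hTN : T ≤ normalizer (H : Set G))
    (hmax : ∀ S : Subgroup G, IsPGroup p S → S ≤ normalizer (H : Set G) → T ≤ S → S = T) :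
    Good q T := by
  set X := normalizer (H : Set G) with hX
  set P0 := T ⊓ centralizer (H : Set G) with hP0
  set Y := X ⊓ normalizer (P0 : Set G) with hY
  set L := H ⊔ P0 with hL
  have hLT : L ≤ T := sup_le hHT inf_le_left
  have hTY : T ≤ Y := le_inf hTN (by
    intro t ht
    refine Subgroup.inf_normalizer_le_normalizer_inf ⟨Subgroup.le_normalizer ht, ?_⟩
    exact Lib.Balance.normalizer_le_normalizer_centralizer H (hTN ht))
  have hYL : Y ≤ normalizer (L : Set G) := fun y hy =>
    Subgroup.normalizer_inf_normalizer_le_normalizer_sup _ _ hy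
  -- Sylow `p`-subgroup of `Y`
  let TY : Sylow p Y :=
    { toSubgroup := T.subgroupOf Y
      isPGroup' := hT.of_equiv (Subgroup.subgroupOfEquivOfLe hTY).symm
      is_maximal' := fun {S} hS hle => by
        have h1 := hmax _ (hS.map Y.subtype) ((Subgroup.map_subtype_le S).trans inf_le_left) (by
          rw [← Subgroup.map_subgroupOf_eq_of_le hTY]; exact Subgroup.map_mono hle)
        refine le_antisymm (fun x hx => ?_) hle
        show (x : G) ∈ T
        rw [← h1]
        exact ⟨x, hx, rfl⟩ }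
  set LY := L.subgroupOf Y with hLY
  haveI : LY.Normal := Subgroup.normal_subgroupOf_of_le_normalizer hYL
  have hLYp : IsPGroup p LY :=
    (hT.to_le hLT).of_equiv (Subgroup.subgroupOfEquivOfLe (hLT.trans hTY)).symm
  have hcent : ∀ z : Y, z ∈ centralizer (LY : Set Y) → (z : G) ∈ centralizer (L : Set G) :=
    fun z hz => Subgroup.mem_centralizer_iff.mpr fun l hl => congrArg Subtype.val
      (Subgroup.mem_centralizer_iff.mp hz ⟨l, hTY (hLT hl)⟩ hl)
  -- a `q`-element of `Y` not centralizing `LY`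
  obtain ⟨y, hy, hyC⟩ : ∃ y : Y, (∃ j, y ^ q ^ j = 1) ∧ y ∉ centralizer (LY : Set Y) := by
    obtain ⟨y, ⟨j, hj⟩, hyX, hyC⟩ := hmov
    set C' := (centralizer (H : Set G)).subgroupOf X with hC'
    let TX : Sylow p X :=
      { toSubgroup := T.subgroupOf X
        isPGroup' := hT.of_equiv (Subgroup.subgroupOfEquivOfLe hTN).symm
        is_maximal' := fun {S} hS hle => by
          have h1 := hmax _ (hS.map X.subtype) (Subgroup.map_subtype_le S) (by
            rw [← Subgroup.map_subgroupOf_eq_of_le hTN]; exact Subgroup.map_mono hle)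
          refine le_antisymm (fun x hx => ?_) hle
          show (x : G) ∈ T
          rw [← h1]
          exact ⟨x, hx, rfl⟩ }
    have hmem : (⟨y, hyX⟩ : X) ∈
        normalizer (((TX : Subgroup X) ⊓ C' : Subgroup X) : Set X) ⊔ C' := by
      rw [Lib.PLocal.normalizer_inf_sup_eq_top]; trivial
    obtain ⟨n, hn, c, hc, hnc⟩ := Subgroup.mem_sup_of_normal_right.mp hmem
    obtain ⟨m, hm, i, hi⟩ := exists_pow_isQElt (q := q) (n : G)
    have hnP : (n : G) ∈ normalizer (P0 : Set G) := by
      have hmap : ((TX : Subgroup X) ⊓ C').map X.subtype = P0 := by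
        rw [Subgroup.map_inf _ _ _ X.subtype_injective]
        show (T.subgroupOf X).map X.subtype ⊓ C'.map X.subtype = _
        rw [Subgroup.map_subgroupOf_eq_of_le hTN, hC', Subgroup.subgroupOf_map_subtype, hP0,
          inf_comm (centralizer _) X, ← inf_assoc, inf_eq_left.mpr hTN]
      rw [← hmap]
      exact Subgroup.le_normalizer_map X.subtype ⟨n, hn, rfl⟩
    refine ⟨⟨(n : G), n.2, hnP⟩ ^ m, ⟨i, Subtype.ext ?_⟩, fun hcc => hyC ?_⟩
    · simpa using hi
    · have h1 : ((⟨(n : G), n.2, hnP⟩ : Y) ^ m : Y).1 ∈ centralizer (H : Set G) :=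
        Subgroup.centralizer_le (SetLike.coe_subset_coe.mpr (le_sup_left : H ≤ L)) (hcent _ hcc)
      haveI : C'.Normal := inferInstance
      have h2 : (QuotientGroup.mk' C' ⟨y, hyX⟩) ^ m = 1 := by
        rw [← hnc, map_mul, (QuotientGroup.eq_one_iff c).mpr hc |> fun h =>
          (show QuotientGroup.mk' C' c = 1 from h), mul_one, ← map_pow]
        exact (QuotientGroup.eq_one_iff _).mpr (show ((n ^ m : X) : G) ∈ _ by simpa using h1)
      have h3 : QuotientGroup.mk' C' ⟨y, hyX⟩ ∈ (⊥ : Subgroup (X ⧸ C')) :=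
        mem_of_pow_mem _ (j := j) (q := q) (by
          rw [← map_pow, show (⟨y, hyX⟩ : X) ^ q ^ j = 1 from Subtype.ext hj, map_one]) hm
          (Subgroup.mem_bot.mpr h2)
      exact (QuotientGroup.eq_one_iff (⟨y, hyX⟩ : X)).mp (Subgroup.mem_bot.mp h3)
  -- the automizer of `L` is `p`-solvable
  let C1 := centralizer (LY : Set Y)
  let f : Y →* ↥(normalizer (L : Set G)) ⧸
      (centralizer (L : Set G)).subgroupOf (normalizer (L : Set G)) :=
    (QuotientGroup.mk' _).comp (Subgroup.inclusion hYL)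
  have hfk : ∀ z : Y, f z = 1 ↔ z ∈ C1 := fun z => by
    show QuotientGroup.mk' _ _ = 1 ↔ _
    rw [← MonoidHom.mem_ker, QuotientGroup.ker_mk']
    exact ⟨fun hz => Subgroup.mem_centralizer_iff.mpr fun l hl =>
      Subtype.ext (Subgroup.mem_centralizer_iff.mp hz (l : G) hl), hcent z⟩
  have hsolY : Cfsg.IsPSolvable p (Y ⧸ C1) := by
    refine Lib.PSolvable.isPSolvable_of_injective
      (QuotientGroup.lift C1 f fun z hz => (hfk z).mpr hz) ?_
      (hsol L (hT.to_le hLT))
    refine (injective_iff_map_eq_one _).mpr fun z hz => ?_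
    obtain ⟨z, rfl⟩ := QuotientGroup.mk_surjective z
    exact (QuotientGroup.eq_one_iff _).mpr ((hfk z).mp hz)
  have hqY : q ∣ Nat.card (Y ⧸ C1) := by
    obtain ⟨j, hj⟩ := hy
    have hz1 : QuotientGroup.mk' C1 y ≠ 1 := fun h => hyC ((QuotientGroup.eq_one_iff _).mp h)
    obtain ⟨i, -, hi⟩ := (Nat.dvd_prime_pow hq.out).mp (orderOf_dvd_of_pow_eq_one
      (show QuotientGroup.mk' C1 y ^ q ^ j = 1 by rw [← map_pow, hj, map_one]))
    refine dvd_trans ?_ (_root_.orderOf_dvd_natCard (QuotientGroup.mk' C1 y))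
    rw [hi]
    rcases i with _ | i
    · exact absurd (orderOf_eq_one_iff.mp (by rwa [pow_zero] at hi)) hz1
    · exact dvd_pow_self q (Nat.succ_ne_zero i)
  obtain ⟨U, hPU, ⟨a, b, hU⟩, hqU⟩ := exists_two_prime_overgroup hpq _ (Y ⧸ C1) rfl hsolY hqY
    (TY.mapSurjective (QuotientGroup.mk'_surjective C1))
  -- pass to the preimage
  set Y2 := U.comap (QuotientGroup.mk' C1) with hY2
  have hTY2 : (TY : Subgroup Y) ≤ Y2 := Subgroup.map_le_iff_le_comap.mp hPU
  have hLY2 : LY ≤ Y2 := fun l hl => hTY2 (hLT hl)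
  set L2 := LY.subgroupOf Y2 with hL2
  have hC2 : centralizer (L2 : Set Y2) = C1.subgroupOf Y2 := by
    ext z
    refine ⟨fun hz => Subgroup.mem_centralizer_iff.mpr fun l hl => ?_,
      fun hz => Subgroup.mem_centralizer_iff.mpr fun l hl => Subtype.ext
        (Subgroup.mem_centralizer_iff.mp hz (l : Y) hl)⟩
    exact congrArg Subtype.val (Subgroup.mem_centralizer_iff.mp hz ⟨l, hLY2 hl⟩ hl)
  have hidx : (centralizer (L2 : Set Y2)).index = Nat.card U := by
    rw [hC2]
    show C1.relIndex Y2 = _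
    have hk := Subgroup.relIndex_ker (K := Y2) (QuotientGroup.mk' C1)
    rw [QuotientGroup.ker_mk', hY2,
      Subgroup.map_comap_eq_self_of_surjective (QuotientGroup.mk'_surjective C1) U] at hk
    exact hk
  let P2 : Sylow p Y2 := TY.subtype hTY2
  have hgood : Good q (P2 : Subgroup Y2) := by
    refine good_of_index hpq h23 L2 (hLYp.of_equiv (Subgroup.subgroupOfEquivOfLe hLY2).symm) P2
      ?_ (hidx.trans hU) (hidx ▸ hqU)
    rintro z ⟨hzT, hzC⟩
    have hzC1 : (z : Y) ∈ C1 := by rw [hC2] at hzC; exact hzC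
    show ((z : Y) : G) ∈ H ⊔ P0
    exact Subgroup.mem_sup_right ⟨hzT, Subgroup.centralizer_le
      (SetLike.coe_subset_coe.mpr (le_sup_left : H ≤ L)) (hcent _ hzC1)⟩
  have h2 := good_map (f := Y.subtype) Y.subtype_injective
    (good_map (f := Y2.subtype) Y2.subtype_injective hgood)
  rw [show (P2 : Subgroup Y2) = (TY : Subgroup Y).subgroupOf Y2 from rfl,
    Subgroup.map_subgroupOf_eq_of_le hTY2] at h2
  rwa [show (TY : Subgroup Y) = T.subgroupOf Y from rfl,
    Subgroup.map_subgroupOf_eq_of_le hTY] at h2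

theorem main (hpq : p ≠ q) (h23 : ¬ ((p = 2 ∧ q = 3) ∨ (p = 3 ∧ q = 2)))
    (hsol : ∀ H : Subgroup G, IsPGroup p ↥H →
      Cfsg.IsPSolvable p (↥(normalizer (H : Set G)) ⧸
        (centralizer (H : Set G)).subgroupOf (normalizer (H : Set G))))
    (Gp : Sylow p G) : ∀ (n : ℕ) (H : Subgroup G), IsPGroup p H → Moves q H →
      Nat.card G - Nat.card ↥((Gp : Subgroup G) ⊓ normalizer (H : Set G)) = n →
      ∃ K : Subgroup G, K ≤ (Gp : Subgroup G) ∧ (Gp : Subgroup G) ≤ normalizer (K : Set G) ∧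
        Moves q K := by
  intro n
  induction n using Nat.strong_induction_on with
  | _ n ih =>
  intro H0 hH0 hmov0 hn
  -- replace `H` by a conjugate
  obtain ⟨S, hS⟩ := ((Gp.2.to_le inf_le_left :
    IsPGroup p ↥((Gp : Subgroup G) ⊓ normalizer (H0 : Set G))).comap_subtype
      (K := normalizer (H0 : Set G))).exists_le_sylow
  obtain ⟨S', hS'⟩ := (S.2.map (normalizer (H0 : Set G)).subtype).exists_le_sylow
  obtain ⟨g, hg⟩ := MulAction.exists_smul_eq G S' Gp
  set c := (MulAut.conj g).toMonoidHom with hcdef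
  set H := H0.map c with hHdef
  have hNH : normalizer (H : Set G) = (normalizer (H0 : Set G)).map c :=
    (Subgroup.map_normalizer_eq_of_bijective H0 (f := c) (MulAut.conj g).bijective).symm
  set T := ((S : Subgroup _).map (normalizer (H0 : Set G)).subtype).map c with hTdef
  have hTG : T ≤ (Gp : Subgroup G) := by
    rw [← hg, Sylow.coe_subgroup_smul]
    exact Subgroup.map_mono hS'
  have hTN : T ≤ normalizer (H : Set G) := hNH ▸ Subgroup.map_mono (Subgroup.map_subtype_le _)
  have hTp : IsPGroup p T := (S.2.map _).map _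
  have hmax : ∀ S1 : Subgroup G, IsPGroup p S1 → S1 ≤ normalizer (H : Set G) → T ≤ S1 →
      S1 = T := by
    intro S1 h1 h2 h3
    refine (Subgroup.eq_of_le_of_card_ge h3 ?_).symm
    have h4 : Nat.card S1 ∣ Nat.card ↥(normalizer (H0 : Set G)) := by
      rw [← Subgroup.card_map_of_injective (f := c) (K := normalizer (H0 : Set G)) (MulAut.conj g).injective]
      exact Subgroup.card_dvd_of_le (hNH ▸ h2 : S1 ≤ (normalizer (H0 : Set G)).map c)
    obtain ⟨k, hk⟩ := h1.exists_card_eq
    rw [hk] at h4 ⊢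
    rw [hTdef, Subgroup.card_map_of_injective (MulAut.conj g).injective,
      Subgroup.card_map_of_injective (Subgroup.subtype_injective _), S.card_eq_multiplicity]
    exact Nat.pow_le_pow_right hp.out.pos
      ((Nat.Prime.pow_dvd_iff_le_factorization hp.out Nat.card_pos.ne').mp h4)
  have hH : IsPGroup p H := hH0.map c
  have hHN : H ≤ normalizer (H : Set G) := Subgroup.le_normalizer
  have hHT : H ≤ T := by
    have hsub : T ≤ H ⊔ T := le_sup_right
    rw [← hmax (H ⊔ T) (hH.to_sup_of_normal_left' hTp hTN) (sup_le hHN hTN) hsub]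
    exact le_sup_left
  have hmov : Moves q H := moves_map (MulAut.conj g).injective hmov0
  have hcard : Nat.card ↥((Gp : Subgroup G) ⊓ normalizer (H0 : Set G)) ≤ Nat.card T := by
    rw [hTdef, Subgroup.card_map_of_injective (MulAut.conj g).injective,
      Subgroup.card_map_of_injective (Subgroup.subtype_injective _)]
    refine le_trans (le_of_eq ?_) (Subgroup.card_le_of_le hS)
    exact Nat.card_congr (Subgroup.subgroupOfEquivOfLe inf_le_right).toEquiv.symm
  by_cases hTtop : T = (Gp : Subgroup G)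
  · exact ⟨H, hTtop ▸ hHT, hTtop ▸ hTN, hmov⟩
  obtain ⟨K, hKc, hKm⟩ := step hpq h23 hsol hmov hHT hTp hTN hmax
  have hlt : Nat.card T < Nat.card ↥((Gp : Subgroup G) ⊓ normalizer (T : Set G)) := by
    have hG := Gp.2.isNilpotent
    have h1 : T.subgroupOf (Gp : Subgroup G) < ⊤ := lt_top_iff_ne_top.mpr fun h =>
      hTtop (le_antisymm hTG (Subgroup.subgroupOf_eq_top.mp h))
    have h2 := Group.normalizerCondition_of_isNilpotent (G := (Gp : Subgroup G)) _ h1
    obtain ⟨x, hx1, hx2⟩ := SetLike.exists_of_lt h2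
    refine lt_of_le_of_ne (Subgroup.card_le_of_le (le_inf hTG Subgroup.le_normalizer)) fun h => ?_
    apply hx2
    have heq := Subgroup.eq_of_le_of_card_ge (le_inf hTG Subgroup.le_normalizer :
      T ≤ (Gp : Subgroup G) ⊓ normalizer (T : Set G)) h.ge
    show (x : G) ∈ T
    rw [heq]
    refine ⟨x.2, ?_⟩
    have h3 := Subgroup.le_normalizer_map (Gp : Subgroup G).subtype ⟨x, hx1, rfl⟩
    rwa [Subgroup.map_subgroupOf_eq_of_le hTG] at h3
  have hle : Nat.card ↥((Gp : Subgroup G) ⊓ normalizer (T : Set G)) ≤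
      Nat.card ↥((Gp : Subgroup G) ⊓ normalizer (K : Set G)) :=
    Subgroup.card_le_of_le (inf_le_inf_left _ (normalizer_le_of_charIn hKc))
  have hb : Nat.card ↥((Gp : Subgroup G) ⊓ normalizer (K : Set G)) ≤ Nat.card G :=
    Subgroup.card_le_card_group _
  exact ih _ (by omega) K (hTp.to_le hKc.1) hKm rfl

/-- Let p and q be distinct primes with {p, q} ≠ {2, 3}, and let G be a finite group such that for every p-subgroup H of G the automizer N_G(H)/C_G(H) is p-solvable. If q divides the order of N_G(H)/C_G(H) for some p-subgroup H, then a Sylow p-subgroup of G has a normal subgroup K (normal in the Sylow subgroup) such that q divides the order of N_G(K)/C_G(K). -/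
theorem result {G : Type*} [Group G] [Finite G]
    (p q : ℕ) [Fact p.Prime] [Fact q.Prime] (hpq : p ≠ q) (h23 : ¬ ((p = 2 ∧ q = 3) ∨ (p = 3 ∧ q = 2)))
    (hsol : ∀ H : Subgroup G, IsPGroup p ↥H →
      Cfsg.IsPSolvable p (↥(Subgroup.normalizer (H : Set G)) ⧸ (Subgroup.centralizer (H : Set G)).subgroupOf (Subgroup.normalizer (H : Set G))))
    (H : Subgroup G) (hH : IsPGroup p ↥H)
    (hq : q ∣ ((Subgroup.centralizer (H : Set G)).subgroupOf (Subgroup.normalizer (H : Set G))).index)
    (Gp : Sylow p G) :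
    ∃ K : Subgroup G, K ≤ (Gp : Subgroup G) ∧ (Gp : Subgroup G) ≤ Subgroup.normalizer (K : Set G) ∧
      q ∣ ((Subgroup.centralizer (K : Set G)).subgroupOf (Subgroup.normalizer (K : Set G))).index := by
  obtain ⟨K, h1, h2, h3⟩ := main hpq h23 hsol Gp _ H hH (moves_of_dvd_index hq) rfl
  exact ⟨K, h1, h2, dvd_index_of_moves h3⟩

end Cfsg.Agent.S4411
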