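import Cfsg.Statements.S4412
import Cfsg.Agent.Lib.BroadInvolutions76
-- import your own Cfsg.Agent.* helpers here

set_option autoImplicit false
open Cfsg Cfsg.Agent.Lib.BroadInvolutions76

namespace Cfsg.Agent.S4412

/-- Let p be an odd prime, P a finite p-group and I an elementary abelian subgroup of order 8 of Aut(P). Call T ∈ I, T ≠ 1, broad when its fixed-point subgroup C_P(T) is not cyclic. Suppose I has a proper subgroup I₀ containing no broad element such that the product of any two broad elements lies in I₀. Then P is abelian of rank exactly 3 (generated by three elements but not by two), there are exactly three broad elements and they generate I, and I₀ is exactly the set of products of two broad elements. -/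
theorem result
    {P : Type*} [Group P] [Finite P] (p : ℕ) (hp : p.Prime) (hp2 : p ≠ 2) (hP : IsPGroup p P)
    (I : Subgroup (MulAut P)) (hI : Cfsg.IsElementaryAbelian 2 I) (hI8 : Nat.card ↥I = 8)
    (I₀ : Subgroup (MulAut P)) (hI₀ : I₀ < I)
    (hdisj : ∀ T ∈ I₀, T ≠ 1 → ∃ g : P, ∀ x : P, (T x = x ↔ x ∈ Subgroup.zpowers g))
    (hprod : ∀ T ∈ I, ∀ T' ∈ I, T ≠ 1 → T' ≠ 1 → (¬ ∃ g : P, ∀ x : P, (T x = x ↔ x ∈ Subgroup.zpowers g)) →
      (¬ ∃ g : P, ∀ x : P, (T' x = x ↔ x ∈ Subgroup.zpowers g)) → T * T' ∈ I₀) :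
    IsMulCommutative P ∧ (∃ a b c : P, Subgroup.closure {a, b, c} = ⊤) ∧ (¬ ∃ a b : P, Subgroup.closure {a, b} = ⊤) ∧
      Nat.card {T : MulAut P // T ∈ I ∧ T ≠ 1 ∧ ¬ ∃ g : P, ∀ x : P, (T x = x ↔ x ∈ Subgroup.zpowers g)} = 3 ∧
      Subgroup.closure {T : MulAut P | T ∈ I ∧ T ≠ 1 ∧ ¬ ∃ g : P, ∀ x : P, (T x = x ↔ x ∈ Subgroup.zpowers g)} = I ∧
      (I₀ : Set (MulAut P)) = {S : MulAut P | ∃ T T' : MulAut P, T ∈ I ∧ T' ∈ I ∧ T ≠ 1 ∧ T' ≠ 1 ∧
        (¬ ∃ g : P, ∀ x : P, (T x = x ↔ x ∈ Subgroup.zpowers g)) ∧ (¬ ∃ g : P, ∀ x : P, (T' x = x ↔ x ∈ Subgroup.zpowers g)) ∧ S = T * T'} := by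
  haveI := Fact.mk hp
  haveI := hI.1
  have hc : ∀ S ∈ I, ∀ T ∈ I, S * T = T * S := fun S hS T hT =>
    congrArg Subtype.val (mul_comm' (⟨S, hS⟩ : I) ⟨T, hT⟩)
  have hs : ∀ T ∈ I, ∀ x, T (T x) = x := fun T hT x => by
    have h := DFunLike.congr_fun (hI.2 T hT) x
    rwa [pow_two, MulAut.mul_apply] at h
  obtain ⟨e₁, e₂, e₃, y₁, y₂, y₃, h1, h2, h3, ⟨a1, b1, d1⟩, ⟨a2, b2, d2⟩, ⟨a3, b3, d3⟩,
    ⟨u11, u12, u13⟩, ⟨u21, u22, u23⟩, ⟨u31, u32, u33⟩⟩ := exists_frame hc hs hp2 hP hI8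
  have n1 : y₁⁻¹ ≠ y₁ := ne_inv hp2 hP a1
  have n2 : y₂⁻¹ ≠ y₂ := ne_inv hp2 hP a2
  have n3 : y₃⁻¹ ≠ y₃ := ne_inv hp2 hP a3
  -- every element of `I` is one of the eight products
  let f : Bool × Bool × Bool → I := fun b =>
    (if b.1 then ⟨e₁, h1⟩ else 1) * (if b.2.1 then ⟨e₂, h2⟩ else 1) * (if b.2.2 then ⟨e₃, h3⟩ else 1)
  have hf : Function.Injective f := by
    intro b b' h
    have k1 := DFunLike.congr_fun (congrArg Subtype.val h) y₁
    have k2 := DFunLike.congr_fun (congrArg Subtype.val h) y₂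
    have k3 := DFunLike.congr_fun (congrArg Subtype.val h) y₃
    obtain ⟨b1', b2', b3'⟩ := b'
    obtain ⟨c1, c2, c3⟩ := b
    cases c1 <;> cases c2 <;> cases c3 <;> cases b1' <;> cases b2' <;> cases b3' <;>
      first
        | rfl
        | (simp [f, u11, u12, u13, u21, u22, u23, u31, u32, u33, map_inv, n1, n2, n3,
            n1.symm, n2.symm, n3.symm, MulAut.mul_apply, MulAut.one_apply] at k1 k2 k3)
  haveI : Finite I := Nat.finite_of_card_ne_zero (by omega)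
  have hfs : Function.Surjective f :=
    (Function.Injective.bijective_of_nat_card_le hf (by simp [hI8])).2
  have hmem : ∀ T ∈ I, T = 1 ∨ T = e₁ ∨ T = e₂ ∨ T = e₃ ∨ T = e₁ * e₂ ∨ T = e₁ * e₃ ∨
      T = e₂ * e₃ ∨ T = e₁ * e₂ * e₃ := by
    intro T hT
    obtain ⟨⟨c1, c2, c3⟩, hb⟩ := hfs ⟨T, hT⟩
    have hb' := congrArg Subtype.val hb
    cases c1 <;> cases c2 <;> cases c3 <;> simp [f] at hb' <;> simp [← hb']
  -- the three `eᵢ` are broad
  have mkBroad : ∀ (e U : MulAut P) (y z : P), U ∈ I → y ≠ 1 → y ^ p = 1 → z ^ p = 1 → z ≠ 1 →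
      e y = y → e z = z → U y = y → U z = z⁻¹ → Broad e := by
    rintro e U y z - hy hyp hzp hz ey ez Uy Uz ⟨g, hg⟩
    exact hz (same_sign hp2 hP hy hyp hzp ((hg y).1 ey) ((hg z).1 ez) Uy Uz)
  have B1 : Broad e₁ := mkBroad e₁ e₂ y₃ y₂ h2 a3 b3 b2 a2 u13 u12 u23 u22
  have B2 : Broad e₂ := mkBroad e₂ e₁ y₃ y₁ h1 a3 b3 b1 a1 u23 u21 u13 u11
  have B3 : Broad e₃ := mkBroad e₃ e₁ y₂ y₁ h1 a2 b2 b1 a1 u32 u31 u12 u11
  have ne1 : e₁ ≠ 1 := fun h => n1 (by rw [← u11, h]; rfl)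
  have ne2 : e₂ ≠ 1 := fun h => n2 (by rw [← u22, h]; rfl)
  have ne3 : e₃ ≠ 1 := fun h => n3 (by rw [← u33, h]; rfl)
  have ne12 : e₁ ≠ e₂ := fun h => n1 (by rw [← u11, h, u21])
  have ne13 : e₁ ≠ e₃ := fun h => n1 (by rw [← u11, h, u31])
  have ne23 : e₂ ≠ e₃ := fun h => n2 (by rw [← u22, h, u32])
  have i12 : e₁ * e₂ ∈ I₀ := hprod e₁ h1 e₂ h2 ne1 ne2 B1 B2
  have i13 : e₁ * e₃ ∈ I₀ := hprod e₁ h1 e₃ h3 ne1 ne3 B1 B3
  have i23 : e₂ * e₃ ∈ I₀ := hprod e₂ h2 e₃ h3 ne2 ne3 B2 B3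
  have q12 : e₁ * e₂ ≠ 1 := fun h => n1 (by
    conv_rhs => rw [← MulAut.one_apply (M := P) y₁]
    rw [← h, MulAut.mul_apply, u21, u11])
  have q13 : e₁ * e₃ ≠ 1 := fun h => n1 (by
    conv_rhs => rw [← MulAut.one_apply (M := P) y₁]
    rw [← h, MulAut.mul_apply, u31, u11])
  have q23 : e₂ * e₃ ≠ 1 := fun h => n2 (by
    conv_rhs => rw [← MulAut.one_apply (M := P) y₂]
    rw [← h, MulAut.mul_apply, u32, u22])
  obtain ⟨g₃, hg₃⟩ := hdisj _ i12 q12
  obtain ⟨g₂, hg₂⟩ := hdisj _ i13 q13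
  obtain ⟨g₁, hg₁⟩ := hdisj _ i23 q23
  -- no nontrivial fixed point of `e₁ * e₂ * e₃`
  have hw : e₁ * e₂ * e₃ ∈ I := mul_mem (mul_mem h1 h2) h3
  haveI : Finite (MulAut P) := Finite.of_injective _ DFunLike.coe_injective
  classical
  haveI := Fintype.ofFinite (MulAut P)
  have hfpf : ∀ x, (e₁ * e₂ * e₃) x = x → x = 1 := by
    by_contra hcon
    simp only [not_forall] at hcon
    obtain ⟨x, hx, hx1⟩ := hcon
    obtain ⟨V, hVW, hV1, -, hVs⟩ := exists_scalar hc hs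
      (W := fx (e₁ * e₂ * e₃))
      (fun T hT z hz => by
        show (e₁ * e₂ * e₃) (T z) = T z
        rw [apply_comm hc hw hT, mem_fx.1 hz])
      (fun h => hx1 (by have hx' : x ∈ fx (e₁ * e₂ * e₃) := hx; rwa [h] at hx'))
      (Finset.univ.filter (· ∈ I)) (fun u hu => by simpa using hu)
    obtain ⟨v, hv, hv1⟩ := (Subgroup.bot_or_exists_ne_one V).resolve_left hV1
    obtain ⟨k, hk⟩ := IsPGroup.iff_orderOf.1 hP v
    obtain ⟨j, rfl⟩ : ∃ j, k = j + 1 := Nat.exists_eq_succ_of_ne_zero fun h0 => hv1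
      (orderOf_eq_one_iff.1 (by rw [hk, h0, pow_zero]))
    set z := v ^ p ^ j
    have hz1 : z ≠ 1 := by
      intro h
      have h2 := orderOf_dvd_of_pow_eq_one h
      rw [hk, Nat.pow_dvd_pow_iff_le_right hp.one_lt] at h2
      omega
    have hzp : z ^ p = 1 := by rw [← pow_mul, ← pow_succ, ← hk, pow_orderOf_eq_one]
    have hzV : z ∈ V := pow_mem hv _
    have hze : Eigen I z := fun T hT =>
      (hVs T (by simpa using hT)).imp (fun h => h z hzV) (fun h => h z hzV)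
    have hwz : e₁ (e₂ (e₃ z)) = z := hVW hzV
    have nz := ne_inv hp2 hP hz1
    rcases hze e₁ h1 with r1 | r1 <;> rcases hze e₂ h2 with r2 | r2 <;>
      rcases hze e₃ h3 with r3 | r3
    -- two of the signs agree, so `z` shares a cyclic subgroup with some `yₖ`
    · exact hz1 (by
        have := same_sign hp2 hP hz1 hzp b3
          ((hg₃ z).1 (by rw [MulAut.mul_apply, r2, r1]))
          ((hg₃ y₃).1 (by rw [MulAut.mul_apply, u23, u13])) r3 u33
        exact absurd this a3)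
    · exact nz (by simpa [r1, r2, r3, map_inv] using hwz)
    · exact nz (by simpa [r1, r2, r3, map_inv] using hwz)
    · exact a1 (same_sign hp2 hP hz1 hzp b1
          ((hg₁ z).1 (by rw [MulAut.mul_apply, r3, map_inv, r2, inv_inv]))
          ((hg₁ y₁).1 (by rw [MulAut.mul_apply, u31, u21])) r1 u11)
    · exact nz (by simpa [r1, r2, r3, map_inv] using hwz)
    · exact a2 (same_sign hp2 hP a2 b2 hzp ((hg₂ y₂).1 (by rw [MulAut.mul_apply, u32, u12]))
          ((hg₂ z).1 (by rw [MulAut.mul_apply, r3, map_inv, r1, inv_inv])) u12 r1 |> fun h => absurd h hz1)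
    · exact a3 (same_sign hp2 hP a3 b3 hzp ((hg₃ y₃).1 (by rw [MulAut.mul_apply, u23, u13]))
          ((hg₃ z).1 (by rw [MulAut.mul_apply, r2, map_inv, r1, inv_inv])) u13 r1 |> fun h => absurd h hz1)
    · exact nz (by simpa [r1, r2, r3, map_inv] using hwz)
  have hinv : ∀ x, (e₁ * e₂ * e₃) x = x⁻¹ := congr_fun
    (MonoidHom.FixedPointFree.coe_eq_inv_of_involutive (φ := (e₁ * e₂ * e₃ : MulAut P)) hfpf
      (fun x => hs _ hw x))
  have hcomm : ∀ a b : P, a * b = b * a := fun a b =>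
    MonoidHom.FixedPointFree.commute_all_of_involutive (φ := (e₁ * e₂ * e₃ : MulAut P)) hfpf
      (fun x => hs _ hw x) a b
  have hcm : ∀ a b : P, Commute a b := hcomm
  have hinv' : ∀ x, e₁ (e₂ (e₃ x)) = x⁻¹ := hinv
  -- three generators
  have hgen : Subgroup.closure {g₁, g₂, g₃} = ⊤ := by
    rw [eq_top_iff]
    intro v _
    set H := Subgroup.closure {g₁, g₂, g₃} with hH
    have hG1 : ∀ x, (e₂ * e₃) x = x → x ∈ H := fun x hx =>
      Subgroup.zpowers_le.2 (Subgroup.subset_closure (by simp)) ((hg₁ x).1 hx)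
    have hG2 : ∀ x, (e₁ * e₃) x = x → x ∈ H := fun x hx =>
      Subgroup.zpowers_le.2 (Subgroup.subset_closure (by simp)) ((hg₂ x).1 hx)
    have hG3 : ∀ x, (e₁ * e₂) x = x → x ∈ H := fun x hx =>
      Subgroup.zpowers_le.2 (Subgroup.subset_closure (by simp)) ((hg₃ x).1 hx)
    have c21 := fun x => apply_comm hc h2 h1 x
    have c32 := fun x => apply_comm hc h3 h2 x
    -- inverted by `e₁`
    have hu : v * (e₁ v)⁻¹ ∈ H := hG1 _ (by
      set u := v * (e₁ v)⁻¹
      have hu1 : e₁ u = u⁻¹ := by simp [u, hs e₁ h1, mul_inv_rev]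
      have := hinv' u
      rw [← hu1] at this
      exact e₁.injective this)
    set w := v * e₁ v with hwdef
    have hw1 : e₁ w = w := by rw [hwdef, map_mul, hs e₁ h1, hcomm]
    have hw2 : w * (e₂ w)⁻¹ ∈ H := hG2 _ (by
      set u := w * (e₂ w)⁻¹
      have hu2 : e₂ u = u⁻¹ := by simp [u, hs e₂ h2, mul_inv_rev]
      have h' := hinv' u
      rw [← hu2, ← apply_comm hc h2 h1] at h'
      exact e₂.injective h')
    have hw3 : w * e₂ w ∈ H := hG3 _ (by
      have k2 : e₂ (w * e₂ w) = w * e₂ w := by rw [map_mul, hs e₂ h2, hcomm]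
      have k1 : e₁ (w * e₂ w) = w * e₂ w := by
        rw [map_mul, hw1, apply_comm hc h1 h2, hw1]
      rw [MulAut.mul_apply, k2, k1])
    have hv4 : v ^ 4 ∈ H := by
      have e : v ^ 4 = (v * (e₁ v)⁻¹) ^ 2 * ((w * (e₂ w)⁻¹) * (w * e₂ w)) := by
        have gen : ∀ a b : P, a * b⁻¹ * (a * b) = a ^ 2 := fun a b => by
          rw [mul_assoc, ← mul_assoc b⁻¹, hcomm b⁻¹ a, mul_assoc, inv_mul_cancel, mul_one, pow_two]
        have hww := gen w (e₂ w)
        rw [hww, ← (hcm (v * (e₁ v)⁻¹) w).mul_pow]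
        rw [show v * (e₁ v)⁻¹ * w = v ^ 2 by
          rw [hwdef, mul_assoc, hcomm (e₁ v)⁻¹, mul_assoc, mul_inv_cancel, mul_one, pow_two],
          ← pow_mul]
      rw [e]
      exact mul_mem (pow_mem hu 2) (mul_mem hw2 hw3)
    obtain ⟨k, hk⟩ := IsPGroup.iff_orderOf.1 hP v
    obtain ⟨m, hm⟩ := exists_pow_eq_self_of_coprime (x := v) (n := 4) (by
      rw [hk]
      exact Nat.Coprime.pow 2 k ((Nat.coprime_primes Nat.prime_two hp).2 (Ne.symm hp2)))
    exact hm ▸ pow_mem hv4 m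
  -- not two generators
  have hnot2 : ¬ ∃ a b : P, Subgroup.closure {a, b} = ⊤ := by
    rintro ⟨a, b, hab⟩
    letI : CommGroup P := { (inferInstance : Group P) with mul_comm := hcomm }
    let φ : P →* P := powMonoidHom p
    have hker : p ^ 3 ≤ Nat.card φ.ker := by
      let ι : Fin p × Fin p × Fin p → φ.ker := fun i =>
        ⟨y₁ ^ i.1.val * y₂ ^ i.2.1.val * y₃ ^ i.2.2.val, by
          show (y₁ ^ i.1.val * y₂ ^ i.2.1.val * y₃ ^ i.2.2.val) ^ p = 1
          rw [mul_pow, mul_pow, ← pow_mul, ← pow_mul, ← pow_mul, mul_comm i.1.val,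
            mul_comm i.2.1.val, mul_comm i.2.2.val, pow_mul, pow_mul, pow_mul, b1, b2, b3]
          simp⟩
      have hι : Function.Injective ι := by
        rintro ⟨i1, i2, i3⟩ ⟨j1, j2, j3⟩ h
        have h0 : y₁ ^ i1.val * y₂ ^ i2.val * y₃ ^ i3.val
            = y₁ ^ j1.val * y₂ ^ j2.val * y₃ ^ j3.val := congrArg Subtype.val h
        have key : ∀ (e : MulAut P) (y A B : P), y ≠ 1 → y ^ p = 1 → e y = y⁻¹ → e A = A →
            e B = B → ∀ i j : Fin p, y ^ i.val * A = y ^ j.val * B → i = j := by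
          intro e y A B hy hyp ey eA eB i j hij
          have h' := congrArg e hij
          rw [map_mul, map_mul, map_pow, map_pow, ey, eA, eB] at h'
          have h2 : (y ^ i.val) ^ 2 = (y ^ j.val) ^ 2 := by
            have := congrArg₂ (fun s t => s * t⁻¹) hij h'
            simpa [pow_two, mul_comm, mul_left_comm] using this
          have hord : orderOf y = p := orderOf_eq_prime hyp hy
          rw [← pow_mul, ← pow_mul] at h2
          rw [pow_eq_pow_iff_modEq, hord] at h2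
          have h3 : i.val ≡ j.val [MOD p] :=
            Nat.ModEq.cancel_right_of_coprime
              ((Nat.coprime_primes hp Nat.prime_two).2 hp2) h2
          exact Fin.ext (h3.eq_of_lt_of_lt i.2 j.2)
        have r1 : i1 = j1 := key e₁ y₁ (y₂ ^ i2.val * y₃ ^ i3.val) (y₂ ^ j2.val * y₃ ^ j3.val) a1
          b1 u11 (by simp [u12, u13]) (by simp [u12, u13]) i1 j1
          (by simpa [mul_assoc] using h0)
        have r2 : i2 = j2 := key e₂ y₂ (y₁ ^ i1.val * y₃ ^ i3.val) (y₁ ^ j1.val * y₃ ^ j3.val) a2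
          b2 u22 (by simp [u21, u23]) (by simp [u21, u23]) i2 j2
          (by simpa [mul_assoc, mul_comm, mul_left_comm] using h0)
        have r3 : i3 = j3 := key e₃ y₃ (y₁ ^ i1.val * y₂ ^ i2.val) (y₁ ^ j1.val * y₂ ^ j2.val) a3
          b3 u33 (by simp [u31, u32]) (by simp [u31, u32]) i3 j3
          (by simpa [mul_assoc, mul_comm, mul_left_comm] using h0)
        rw [r1, r2, r3]
      have := Nat.card_le_card_of_injective ι hι
      simpa [pow_three] using this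
    have hq : Nat.card (P ⧸ φ.range) ≤ p ^ 2 := by
      let κ : Fin p × Fin p → P ⧸ φ.range := fun i => (a : P ⧸ φ.range) ^ i.1.val * (b : P ⧸ φ.range) ^ i.2.val
      have hκ : Function.Surjective κ := by
        intro x
        obtain ⟨g, rfl⟩ := QuotientGroup.mk_surjective x
        obtain ⟨m, n, rfl⟩ := Subgroup.mem_closure_pair.1 (hab.ge (Subgroup.mem_top g))
        have hz : ∀ (c : P ⧸ φ.range) (m : ℤ), ∃ i : Fin p, c ^ i.val = c ^ m := by
          intro c m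
          have hcp : c ^ p = 1 := by
            obtain ⟨c, rfl⟩ := QuotientGroup.mk_surjective c
            rw [← QuotientGroup.mk_pow, QuotientGroup.eq_one_iff]
            exact ⟨c, rfl⟩
          have hp0 : (p : ℤ) ≠ 0 := by exact_mod_cast hp.ne_zero
          refine ⟨⟨(m % p).toNat, ?_⟩, ?_⟩
          · have := Int.emod_lt_of_pos m (by exact_mod_cast hp.pos : (0 : ℤ) < p)
            omega
          · show c ^ (m % p).toNat = c ^ m
            rw [← zpow_natCast, Int.toNat_of_nonneg (Int.emod_nonneg m hp0)]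
            exact (zpow_eq_zpow_emod' m hcp).symm
        obtain ⟨i, hi⟩ := hz a m
        obtain ⟨j, hj⟩ := hz b n
        exact ⟨(i, j), by simp [κ, hi, hj, QuotientGroup.mk_mul, QuotientGroup.mk_zpow]⟩
      have := Nat.card_le_card_of_surjective κ hκ
      simpa [pow_two] using this
    have e1 := φ.ker.card_mul_index
    have e2 := φ.range.card_mul_index
    rw [Subgroup.index_ker] at e1
    have heq : Nat.card φ.ker = φ.range.index := by
      refine Nat.eq_of_mul_eq_mul_right (Nat.card_pos (α := φ.range)) ?_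
      rw [e1, mul_comm, e2]
    rw [Subgroup.index_eq_card] at heq
    have := pow_lt_pow_right₀ hp.one_lt (show 2 < 3 by norm_num)
    omega
  -- the broad elements
  have hset : ∀ T : MulAut P, (T ∈ I ∧ T ≠ 1 ∧ Broad T) ↔ (T = e₁ ∨ T = e₂ ∨ T = e₃) := by
    refine fun T => ⟨fun ⟨hT, hT1, hB⟩ => ?_, ?_⟩
    · rcases hmem T hT with r | r | r | r | r | r | r | r <;> subst r
      · exact absurd rfl hT1
      · exact Or.inl rfl
      · exact Or.inr (Or.inl rfl)
      · exact Or.inr (Or.inr rfl)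
      · exact absurd ⟨g₃, hg₃⟩ hB
      · exact absurd ⟨g₂, hg₂⟩ hB
      · exact absurd ⟨g₁, hg₁⟩ hB
      · exact absurd ⟨1, fun x => ⟨fun h => by rw [hfpf x h]; exact one_mem _, fun h => by
          rw [Subgroup.zpowers_one_eq_bot, Subgroup.mem_bot] at h; rw [h, map_one]⟩⟩ hB
    · rintro (rfl | rfl | rfl)
      exacts [⟨h1, ne1, B1⟩, ⟨h2, ne2, B2⟩, ⟨h3, ne3, B3⟩]
  refine ⟨⟨⟨hcomm⟩⟩, ⟨g₁, g₂, g₃, hgen⟩, hnot2, ?_, ?_, ?_⟩
  · rw [show Nat.card {T : MulAut P // T ∈ I ∧ T ≠ 1 ∧ Broad T}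
      = Nat.card ({e₁, e₂, e₃} : Set (MulAut P)) from
      Nat.card_congr (Equiv.subtypeEquivRight fun T => (hset T).trans (by simp)),
      Nat.card_coe_set_eq, Set.ncard_eq_three]
    exact ⟨e₁, e₂, e₃, ne12, ne13, ne23, rfl⟩
  · refine le_antisymm ((Subgroup.closure_le I).2 fun T hT => hT.1) fun T hT => ?_
    have m1 : e₁ ∈ Subgroup.closure {T : MulAut P | T ∈ I ∧ T ≠ 1 ∧ Broad T} :=
      Subgroup.subset_closure ⟨h1, ne1, B1⟩
    have m2 : e₂ ∈ Subgroup.closure {T : MulAut P | T ∈ I ∧ T ≠ 1 ∧ Broad T} :=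
      Subgroup.subset_closure ⟨h2, ne2, B2⟩
    have m3 : e₃ ∈ Subgroup.closure {T : MulAut P | T ∈ I ∧ T ≠ 1 ∧ Broad T} :=
      Subgroup.subset_closure ⟨h3, ne3, B3⟩
    rcases hmem T hT with rfl | rfl | rfl | rfl | rfl | rfl | rfl | rfl
    exacts [one_mem _, m1, m2, m3, mul_mem m1 m2, mul_mem m1 m3, mul_mem m2 m3,
      mul_mem (mul_mem m1 m2) m3]
  · have hsq1 := mul_self hs h1
    have hsq2 := mul_self hs h2
    have hsq3 := mul_self hs h3
    have hnotI : ∀ T ∈ I₀, T ≠ e₁ ∧ T ≠ e₂ ∧ T ≠ e₃ := by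
      intro T hT
      refine ⟨?_, ?_, ?_⟩ <;> rintro rfl
      · exact B1 (hdisj _ hT ne1)
      · exact B2 (hdisj _ hT ne2)
      · exact B3 (hdisj _ hT ne3)
    ext T
    constructor
    · intro hT
      have hT' := hnotI T hT
      have hTI := hI₀.le hT
      rcases hmem T hTI with r | r | r | r | r | r | r | r
      · exact ⟨e₁, e₁, h1, h1, ne1, ne1, B1, B1, r.trans hsq1.symm⟩
      · exact absurd r hT'.1
      · exact absurd r hT'.2.1
      · exact absurd r hT'.2.2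
      · exact ⟨e₁, e₂, h1, h2, ne1, ne2, B1, B2, r⟩
      · exact ⟨e₁, e₃, h1, h3, ne1, ne3, B1, B3, r⟩
      · exact ⟨e₂, e₃, h2, h3, ne2, ne3, B2, B3, r⟩
      · exfalso
        subst r
        refine (hnotI e₃ ?_).2.2 rfl
        have := mul_mem (inv_mem i12) hT
        rwa [inv_mul_cancel_left] at this
    · rintro ⟨T₁, T₂, m1, m2, n1', n2', B, B', rfl⟩
      exact hprod T₁ m1 T₂ m2 n1' n2' B B'

end Cfsg.Agent.S4412
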