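import Cfsg.Statements.S4414
import Mathlib

set_option autoImplicit false
open Cfsg

namespace Cfsg.Agent.S4414

set_option linter.style.haveILetI false

open scoped TensorProduct

/-- Twist of a character of a normal subgroup. -/
def tw {S F : Type*} [Group S] [Field F] {P : Subgroup S} [P.Normal] (h : S) (l : P →* Fˣ) :
    P →* Fˣ := l.comp (MulAut.conjNormal h⁻¹).toMonoidHom

theorem tw_mul {S F : Type*} [Group S] [Field F] {P : Subgroup S} [P.Normal] (g h : S)
    (l : P →* Fˣ) : tw (g * h) l = tw g (tw h l) := by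
  refine MonoidHom.ext fun t => ?_
  simp [tw, mul_inv_rev]

theorem tw_one {S F : Type*} [Group S] [Field F] {P : Subgroup S} [P.Normal]
    (l : P →* Fˣ) : tw (1 : S) l = l := by
  refine MonoidHom.ext fun t => ?_
  simp [tw]

theorem key {S F V : Type*} [Group S] [Finite S] [Field F] [CharP F 2] [AddCommGroup V]
    [Module F V] [Module (ZMod 2) V] (σ : S →* Module.End F V)
    (P T Q : Subgroup S) [P.Normal] [IsMulCommutative P]
    (hodd : Odd (Nat.card P)) [HasEnoughRootsOfUnity F (Monoid.exponent P)]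
    (q : ℕ) [hq : Fact q.Prime] (hq2 : q ≠ 2) (hQ : Nat.card Q = q)
    (hT : IsPGroup 2 T) (hcomm : ⁅P, Q⁆ = P)
    (hne : ∃ t : P, σ t ≠ 1) :
    ∃ v₁ v₂ : V, (∀ s ∈ T, σ s v₁ = v₁) ∧ (∀ s ∈ T, σ s v₂ = v₂) ∧
      LinearIndependent F ![v₁, v₂] ∧ ∀ x ∈ Q, x ≠ 1 →
        ¬ (σ x v₁ ∈ Submodule.span F {v₁, v₂} ∧ σ x v₂ ∈ Submodule.span F {v₁, v₂}) := by
  classical
  haveI : Fintype P := Fintype.ofFinite P
  letI : CommGroup P := { (inferInstance : Group P) with mul_comm := mul_comm' }
  haveI : Fintype (P →* Fˣ) := Fintype.ofFinite _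
  have hcard1 : ((Nat.card P : ℕ) : F) = 1 := by
    obtain ⟨j, hj⟩ := hodd
    rw [hj]
    push_cast
    rw [show (2 : F) = 0 from CharTwo.two_eq_zero]
    simp
  set e : (P →* Fˣ) → Module.End F V :=
    fun l => ∑ t : P, (((l t)⁻¹ : Fˣ) : F) • σ t with he
  -- projections land in weight spaces
  have hmul : ∀ (l : P →* Fˣ) (t : P) (v : V), σ t (e l v) = (l t : F) • e l v := by
    intro l t v
    simp only [he, LinearMap.sum_apply, LinearMap.smul_apply, map_sum, map_smul, Finset.smul_sum,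
      smul_smul]
    refine Fintype.sum_equiv (Equiv.mulLeft t) _ _ fun s => ?_
    have h1 : σ (t : S) (σ (s : S) v) = σ ((t * s : P) : S) v := by
      rw [Subgroup.coe_mul, map_mul]; rfl
    have h2 : (l t : F) * (((l (t * s))⁻¹ : Fˣ) : F) = (((l s)⁻¹ : Fˣ) : F) := by
      rw [← Units.val_mul]
      congr 1
      rw [map_mul, mul_inv_rev, mul_comm (l s)⁻¹, mul_inv_cancel_left]
    simp only [Equiv.coe_mulLeft]
    rw [h1, h2]
  have hsum : ∀ v : V, ∑ l, e l v = v := by
    intro v
    simp only [he, LinearMap.sum_apply, LinearMap.smul_apply]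
    rw [Finset.sum_comm]
    simp only [← Finset.sum_smul]
    rw [Finset.sum_eq_single (1 : P)]
    · have : ((Fintype.card (P →* Fˣ) : ℕ) : F) = 1 := by
        rw [← Nat.card_eq_fintype_card, CommGroup.card_monoidHom_of_hasEnoughRootsOfUnity]
        exact hcard1
      simp [this]
    · intro t _ ht
      obtain ⟨μ, hμ⟩ := CommGroup.exists_apply_ne_one_of_hasEnoughRootsOfUnity P F ht
      have h0 : ∑ l : P →* Fˣ, (((l t)⁻¹ : Fˣ) : F) = 0 := by
        have h1 : ∑ l : P →* Fˣ, (((l t)⁻¹ : Fˣ) : F) =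
            (((μ t)⁻¹ : Fˣ) : F) * ∑ l : P →* Fˣ, (((l t)⁻¹ : Fˣ) : F) := by
          rw [Finset.mul_sum]
          refine (Fintype.sum_equiv (Equiv.mulLeft μ) _ _ fun l => ?_).symm
          simp [Units.val_mul, mul_comm]
        by_contra hne0
        have h2 : (((μ t)⁻¹ : Fˣ) : F) = 1 :=
          mul_right_cancel₀ hne0 (by rw [one_mul]; exact h1.symm)
        exact hμ (inv_eq_one.mp (Units.ext h2))
      rw [h0, zero_smul]
    · simp
  have happ : ∀ (l m : P →* Fˣ) (v : V), (∀ t : P, σ t v = (l t : F) • v) →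
      e m v = if l = m then v else 0 := by
    intro l m v hv
    have h1 : e m v = (∑ t : P, (((l * m⁻¹) t : Fˣ) : F)) • v := by
      simp only [he, LinearMap.sum_apply, LinearMap.smul_apply, hv, smul_smul, Finset.sum_smul]
      refine Finset.sum_congr rfl fun t _ => ?_
      simp [mul_comm]
    rw [h1]
    split_ifs with h
    · subst h
      simp [MonoidHom.mul_apply, ← Nat.card_eq_fintype_card, hcard1]
    · have h2 : (Units.coeHom F).comp (l * m⁻¹) ≠ 1 := by
        intro hc
        apply h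
        refine mul_inv_eq_one.mp (MonoidHom.ext fun t => Units.ext ?_)
        exact DFunLike.congr_fun hc t
      have h3 := sum_hom_units_eq_zero _ h2
      simp only [MonoidHom.comp_apply, Units.coeHom_apply] at h3
      rw [h3, zero_smul]
  have htw : ∀ (h : S) (l : P →* Fˣ) (v : V), e (tw h l) (σ h v) = σ h (e l v) := by
    intro h l v
    have hw : ∀ k, ∀ t : P, σ t (σ h (e k v)) = ((tw h k) t : F) • σ h (e k v) := by
      intro k t
      have h1 : σ (t : S) (σ h (e k v)) = σ h (σ ((MulAut.conjNormal h⁻¹ t : P) : S) (e k v)) := by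
        show (σ (t : S) * σ h) (e k v) = (σ h * σ _) (e k v)
        rw [← map_mul, ← map_mul]
        congr 2
        rw [MulAut.conjNormal_apply]
        group
      rw [h1, hmul, map_smul]
      rfl
    conv_lhs => rw [← hsum v]
    rw [map_sum, map_sum, Finset.sum_congr rfl (fun k _ => happ _ _ _ (hw k)),
      Finset.sum_eq_single l]
    · simp
    · intro k _ hk
      rw [if_neg]
      intro hc
      apply hk
      have := congrArg (tw h⁻¹) hc
      rwa [← tw_mul, ← tw_mul, inv_mul_cancel, tw_one, tw_one] at this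
    · simp
  -- a nontrivial weight
  obtain ⟨l₀, hl₀, w₀, hw₀⟩ : ∃ l : P →* Fˣ, l ≠ 1 ∧ ∃ w, e l w ≠ 0 := by
    by_contra hc
    push Not at hc
    obtain ⟨t, ht⟩ := hne
    refine ht (LinearMap.ext fun v => ?_)
    have h1 : e 1 v = v := by
      conv_rhs => rw [← hsum v]
      rw [Finset.sum_eq_single (1 : P →* Fˣ)]
      · exact fun b _ hb => hc b hb v
      · simp
    rw [← h1, hmul]
    simp
  -- no nontrivial element of Q fixes a nontrivial character
  have hQgen : ∀ y ∈ Q, y ≠ 1 → Q = Subgroup.zpowers y := by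
    intro y hy hy1
    symm
    apply Subgroup.eq_of_le_of_card_ge (Subgroup.zpowers_le.mpr hy)
    rw [hQ, Nat.card_zpowers]
    have h1 : orderOf y ∣ q := hQ ▸ Subgroup.orderOf_dvd_natCard Q hy
    rcases (Nat.dvd_prime hq.out).mp h1 with h | h
    · exact absurd (orderOf_eq_one_iff.mp h) hy1
    · omega
  have hnofix : ∀ y ∈ Q, y ≠ 1 → ∀ l : P →* Fˣ, tw y l = l → l = 1 := by
    intro y hy hy1 l hl
    let St : Subgroup S :=
      { carrier := {g | tw g l = l}
        mul_mem' := fun {a b} ha hb => by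
          simp only [Set.mem_ofPred_eq] at *; rw [tw_mul, hb, ha]
        one_mem' := tw_one l
        inv_mem' := fun {a} ha => by
          simp only [Set.mem_ofPred_eq] at *
          conv_lhs => rw [← ha, ← tw_mul, inv_mul_cancel, tw_one] }
    have hQle : Q ≤ St := by
      rw [hQgen y hy hy1, Subgroup.zpowers_le]
      exact hl
    have hker : P ≤ l.ker.map P.subtype := by
      conv_lhs => rw [← hcomm]
      rw [Subgroup.commutator_le]
      intro a ha b hb
      have hb' : tw b⁻¹ l = l := hQle (inv_mem hb)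
      refine ⟨⟨a, ha⟩ * MulAut.conjNormal b (⟨a, ha⟩⁻¹), ?_, ?_⟩
      · rw [SetLike.mem_coe, MonoidHom.mem_ker, map_mul]
        have : l (MulAut.conjNormal b (⟨a, ha⟩⁻¹ : P)) = (tw b⁻¹ l) (⟨a, ha⟩⁻¹ : P) := by
          simp [tw]
        rw [this, hb', map_inv, mul_inv_cancel]
      · simp [commutatorElement_def, mul_assoc]
    refine MonoidHom.ext fun t => ?_
    obtain ⟨u, hu, hut⟩ := hker t.2
    have : u = t := Subtype.ext hut
    rw [← this]
    exact hu
  -- fixed vectors attached to orbits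
  have horb : ∀ l : P →* Fˣ, ∀ w, e l w ≠ 0 → ∃ v : V, (∀ s ∈ T, σ s v = v) ∧
      ∀ m, e m v ≠ 0 ↔ ∃ s ∈ T, tw s l = m := by
    intro l w hw
    set z := e l w with hz
    let W : Submodule (ZMod 2) V := Submodule.span (ZMod 2) (Set.range fun s : T => σ (s : S) z)
    haveI : Module.Finite (ZMod 2) W := Module.Finite.span_of_finite _ (Set.finite_range _)
    haveI : Finite W := Module.finite_of_finite (ZMod 2)
    have hinv : ∀ s ∈ T, ∀ v ∈ W, σ s v ∈ W := by
      intro s hs
      have : W ≤ W.comap ((σ s).toAddMonoidHom.toZModLinearMap 2) := by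
        refine Submodule.span_le.mpr ?_
        rintro _ ⟨u, rfl⟩
        refine Submodule.subset_span ⟨⟨s * u, mul_mem hs u.2⟩, ?_⟩
        simp [map_mul]
      exact fun v hv => this hv
    letI : MulAction T W :=
      { smul := fun s v => ⟨σ (s : S) v, hinv _ s.2 _ v.2⟩
        one_smul := fun v => Subtype.ext (by
          show σ ((1 : T) : S) (v : V) = v
          simp)
        mul_smul := fun s u v => Subtype.ext (by
          show σ ((s * u : T) : S) (v : V) = σ (s : S) (σ (u : S) v)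
          simp [map_mul]) }
    have hzW : z ∈ W := Submodule.subset_span ⟨1, by simp⟩
    have heven : 2 ∣ Nat.card W := by
      rw [Module.natCard_eq_pow_finrank (K := ZMod 2), Nat.card_zmod]
      refine dvd_pow_self 2 ?_
      rw [ne_eq, Submodule.finrank_eq_zero]
      intro h
      rw [h, Submodule.mem_bot] at hzW
      exact hw hzW
    obtain ⟨b, hb, hb0⟩ := hT.exists_fixed_point_of_prime_dvd_card_of_fixed_point W heven
      (a := 0) (fun s => Subtype.ext (map_zero (σ (s : S))))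
    have hfix : ∀ s ∈ T, σ s (b : V) = b := fun s hs => congrArg Subtype.val (hb ⟨s, hs⟩)
    refine ⟨b, hfix, ?_⟩
    have hsupp : ∀ m, (∀ s ∈ T, tw s l ≠ m) → e m (b : V) = 0 := by
      intro m hm
      have : W ≤ LinearMap.ker ((e m).toAddMonoidHom.toZModLinearMap 2) := by
        refine Submodule.span_le.mpr ?_
        rintro _ ⟨u, rfl⟩
        show e m (σ (u : S) z) = 0
        have hwt : ∀ t : P, σ t (σ (u : S) z) = ((tw (u : S) l) t : F) • σ (u : S) z := by
          intro t
          have : σ (u : S) z = e (tw (u : S) l) (σ (u : S) w) := (htw _ _ _).symm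
          rw [this, hmul]
        rw [happ _ _ _ hwt, if_neg (hm _ u.2)]
      exact this b.2
    intro m
    constructor
    · intro h
      by_contra hc
      push Not at hc
      exact h (hsupp m hc)
    · rintro ⟨s, hs, rfl⟩
      have hb0' : (b : V) ≠ 0 := fun h => hb0 (Subtype.ext h.symm)
      obtain ⟨k, hk⟩ : ∃ k, e k (b : V) ≠ 0 := by
        by_contra hc
        push Not at hc
        exact hb0' (by rw [← hsum (b : V)]; exact Finset.sum_eq_zero fun k _ => hc k)
      obtain ⟨u, hu, rfl⟩ : ∃ u ∈ T, tw u l = k := by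
        by_contra hc
        push Not at hc
        exact hk (hsupp k hc)
      intro h
      apply hk
      have h1 := htw (u * s⁻¹) (tw s l) (b : V)
      rw [← tw_mul, inv_mul_cancel_right, hfix _ (mul_mem hu (inv_mem hs)), h, map_zero] at h1
      exact h1
  -- no nontrivial element of Q stabilises an orbit
  have hnostab : ∀ l : P →* Fˣ, l ≠ 1 → ∀ y ∈ Q, y ≠ 1 →
      ¬ ∀ s ∈ T, ∃ u ∈ T, tw u l = tw y (tw s l) := by
    intro l hl y hy hy1 hinv
    letI : MulAction T (P →* Fˣ) :=
      { smul := fun s k => tw (s : S) k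
        one_smul := fun k => tw_one k
        mul_smul := fun s u k => tw_mul (s : S) (u : S) k }
    let O := MulAction.orbit T l
    have hyO : ∀ k ∈ O, tw y k ∈ O := by
      rintro _ ⟨s, rfl⟩
      obtain ⟨u, hu, hu'⟩ := hinv s s.2
      exact ⟨⟨u, hu⟩, hu'⟩
    have hinj : Function.Injective (fun k : O => (⟨tw y k, hyO k k.2⟩ : O)) := by
      intro a b hab
      have := congrArg (tw y⁻¹) (congrArg Subtype.val hab)
      simp only [← tw_mul, inv_mul_cancel, tw_one] at this
      exact Subtype.ext this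
    let π : Equiv.Perm O := Equiv.ofBijective _ (Finite.injective_iff_bijective.mp hinj)
    have hπn : ∀ (n : ℕ) (k : O), ((π ^ n) k : P →* Fˣ) = tw (y ^ n) (k : P →* Fˣ) := by
      intro n
      induction n with
      | zero => intro k; simp [tw_one]
      | succ n ih =>
        intro k
        rw [pow_succ', pow_succ', Equiv.Perm.mul_apply, tw_mul, ← ih]
        rfl
    have hπq : π ^ q = 1 := by
      refine Equiv.ext fun k => Subtype.ext ?_
      rw [hπn]
      have : y ^ q = 1 := by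
        have h := pow_card_eq_one' (x := (⟨y, hy⟩ : Q))
        rw [hQ] at h
        exact congrArg Subtype.val h
      rw [this, tw_one]
      rfl
    have hP : IsPGroup q (Subgroup.zpowers π) := by
      rintro ⟨g, n, rfl⟩
      refine ⟨1, Subtype.ext ?_⟩
      show (π ^ n) ^ (q ^ 1) = 1
      rw [pow_one, ← zpow_natCast, ← zpow_mul, mul_comm, zpow_mul, zpow_natCast, hπq, one_zpow]
    have hfp : MulAction.fixedPoints (Subgroup.zpowers π) O = ∅ := by
      ext k
      simp only [MulAction.mem_fixedPoints, Set.mem_empty_iff_false, iff_false]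
      intro hk
      have hk' : tw y (k : P →* Fˣ) = k :=
        congrArg Subtype.val (hk ⟨π, Subgroup.mem_zpowers π⟩)
      obtain ⟨s, hs⟩ := k.2
      have h1 := hnofix y hy hy1 _ hk'
      apply hl
      have h2 : tw (s : S) l = 1 := hs.trans h1
      have h3 := congrArg (tw (s : S)⁻¹) h2
      rw [← tw_mul, inv_mul_cancel, tw_one] at h3
      rw [h3]
      refine MonoidHom.ext fun t => rfl
    have hdvd : q ∣ Nat.card O := by
      have h := hP.card_modEq_card_fixedPoints O
      rw [hfp, Nat.card_coe_set_eq (∅ : Set O), Set.ncard_empty] at h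
      exact Nat.modEq_zero_iff_dvd.mp h
    obtain ⟨j, hj⟩ := hT.card_orbit l
    rw [show Nat.card O = 2 ^ j from hj] at hdvd
    exact hq2 ((Nat.prime_dvd_prime_iff_eq hq.out Nat.prime_two).mp (hq.out.dvd_of_dvd_pow hdvd))
  -- the two orbits
  obtain ⟨x₀, hx₀, hx₀1⟩ : ∃ x ∈ Q, x ≠ 1 := by
    apply Q.ne_bot_iff_exists_ne_one.mp ?_ |>.elim
    · exact fun a ha => ⟨a, a.2, fun h => ha (Subtype.ext h)⟩
    · intro h
      rw [h, Subgroup.card_bot] at hQ
      exact hq.out.ne_one hQ.symm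
  obtain ⟨l₂, hl₂, hl₂w, hdisj⟩ : ∃ l₂ : P →* Fˣ, l₂ ≠ 1 ∧ (∃ w, e l₂ w ≠ 0) ∧
      ∀ s ∈ T, tw s l₀ ≠ l₂ := by
    have := hnostab l₀ hl₀ x₀ hx₀ hx₀1
    push Not at this
    obtain ⟨s, hs, hs'⟩ := this
    refine ⟨tw x₀ (tw s l₀), ?_, ⟨σ (x₀ * s) w₀, ?_⟩, fun u hu => hs' u hu⟩
    · intro h
      apply hl₀
      have := congrArg (tw (x₀ * s)⁻¹) h
      rw [← tw_mul x₀ s, ← tw_mul, inv_mul_cancel, tw_one] at this
      rw [this]
      refine MonoidHom.ext fun t => rfl
    · rw [← tw_mul, htw]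
      intro h
      apply hw₀
      have := congrArg (σ (x₀ * s)⁻¹) h
      rwa [map_zero, ← Module.End.mul_apply, ← map_mul, inv_mul_cancel, map_one] at this
  obtain ⟨v₁, hv₁, hs₁⟩ := horb l₀ w₀ hw₀
  obtain ⟨v₂, hv₂, hs₂⟩ := horb l₂ hl₂w.choose hl₂w.choose_spec
  have hd : ∀ m, e m v₁ ≠ 0 → e m v₂ = 0 := by
    intro m hm
    by_contra h
    obtain ⟨s, hs, rfl⟩ := (hs₁ m).mp hm
    obtain ⟨u, hu, hu'⟩ := (hs₂ _).mp h
    refine hdisj (u⁻¹ * s) (mul_mem (inv_mem hu) hs) ?_
    rw [tw_mul, ← hu', ← tw_mul, inv_mul_cancel, tw_one]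
  have hne₁ : e l₀ v₁ ≠ 0 := (hs₁ _).mpr ⟨1, one_mem T, tw_one _⟩
  have hne₂ : e l₂ v₂ ≠ 0 := (hs₂ _).mpr ⟨1, one_mem T, tw_one _⟩
  -- coefficient vanishing
  have hcoef : ∀ (l : P →* Fˣ) (v u : V) (a : F) (y : S), l ≠ 1 → y ∈ Q → y ≠ 1 →
      (∀ m, e m v ≠ 0 ↔ ∃ s ∈ T, tw s l = m) → (∀ m, e m v ≠ 0 → e m u = 0) →
      σ y v = a • v + u → a = 0 := by
    intro l v u a y hl hy hy1 hsv hu heq
    by_contra ha
    refine hnostab l hl y⁻¹ (inv_mem hy) (inv_ne_one.mpr hy1) fun s hs => ?_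
    have hm : e (tw s l) v ≠ 0 := (hsv _).mpr ⟨s, hs, rfl⟩
    refine (hsv _).mp ?_
    intro h
    have h1 := htw y (tw y⁻¹ (tw s l)) v
    rw [h, map_zero, ← tw_mul, mul_inv_cancel, tw_one, heq, map_add, map_smul, hu _ hm,
      add_zero] at h1
    exact hm ((smul_eq_zero.mp h1).resolve_left ha)
  refine ⟨v₁, v₂, hv₁, hv₂, ?_, ?_⟩
  · rw [LinearIndependent.pair_iff]
    intro a b hab
    have h1 := congrArg (e l₀) hab
    rw [map_add, map_smul, map_smul, hd _ hne₁, smul_zero, add_zero, map_zero] at h1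
    have ha : a = 0 := (smul_eq_zero.mp h1).resolve_right hne₁
    subst ha
    rw [zero_smul, zero_add] at hab
    have h2 := congrArg (e l₂) hab
    rw [map_smul, map_zero] at h2
    exact ⟨rfl, (smul_eq_zero.mp h2).resolve_right hne₂⟩
  · rintro x hx hx1 ⟨h1, h2⟩
    obtain ⟨a, b, hab⟩ := Submodule.mem_span_pair.mp h1
    obtain ⟨c, d, hcd⟩ := Submodule.mem_span_pair.mp h2
    have hd' : ∀ m, e m v₂ ≠ 0 → e m v₁ = 0 := fun m hm => by
      by_contra h
      exact hm (hd m h)
    have ha : a = 0 := hcoef l₀ v₁ (b • v₂) a x hl₀ hx hx1 hs₁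
      (fun m hm => by rw [map_smul, hd m hm, smul_zero]) hab.symm
    have hd0 : d = 0 := hcoef l₂ v₂ (c • v₁) d x hl₂ hx hx1 hs₂
      (fun m hm => by rw [map_smul, hd' m hm, smul_zero]) (by rw [← hcd, add_comm])
    subst ha hd0
    rw [zero_smul, zero_add] at hab
    rw [zero_smul, add_zero] at hcd
    have hxx : σ (x * x) v₁ = (b * c) • v₁ + 0 := by
      rw [map_mul, Module.End.mul_apply, ← hab, map_smul, ← hcd, smul_smul, add_zero]
    have hx2 : x * x ≠ 1 := by
      intro h
      have h3 : orderOf x ∣ 2 := orderOf_dvd_of_pow_eq_one (by rw [pow_two, h])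
      have h4 : orderOf x ∣ q := hQ ▸ Subgroup.orderOf_dvd_natCard Q hx
      have h5 : orderOf x ∣ Nat.gcd 2 q := Nat.dvd_gcd h3 h4
      rw [(Nat.coprime_primes Nat.prime_two hq.out).mpr hq2.symm] at h5
      exact hx1 (orderOf_eq_one_iff.mp (Nat.dvd_one.mp h5))
    have hbc : b * c = 0 := hcoef l₀ v₁ 0 (b * c) (x * x) hl₀ (mul_mem hx hx) hx2 hs₁
      (fun m _ => map_zero _) hxx
    rw [hbc, zero_smul, add_zero] at hxx
    have h6 := congrArg (σ (x * x)⁻¹) hxx
    rw [map_zero, ← Module.End.mul_apply, ← map_mul, inv_mul_cancel, map_one] at h6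
    simp only [Module.End.one_apply] at h6
    rw [h6, map_zero] at hne₁
    exact hne₁ rfl


/-- Let S be a finite solvable group whose order is divisible only by the primes 2, p, q (p, q distinct odd primes), with a Sylow system S₂, S_p, S_q (pairwise permutable Sylow subgroups) such that: S_p is a minimal normal subgroup of S of order p or p²; S_q has order q and [S_p, S_q] = S_p; and O₂(S) = 1. Let E be an irreducible module for S over the field with two elements on which S_p acts faithfully, and E₀ the subspace of fixed points of S₂. Then either E₀ has at least 8 elements, or E₀ has exactly 4 elements and S_q does not leave E₀ invariant. -/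
theorem result {S : Type*} [Group S] [Finite S]
    [Group.IsSolvable S] (p q : ℕ) (hp : p.Prime) (hq : q.Prime) (hp2 : p ≠ 2) (hq2 : q ≠ 2) (hpq : p ≠ q)
    (hπ : ∀ r : ℕ, r.Prime → r ∣ Nat.card S → r = 2 ∨ r = p ∨ r = q)
    (S₂ : Sylow 2 S) (Sp : Sylow p S) (Sq : Sylow q S)
    (h2q : Nat.card ↥((S₂ : Subgroup S) ⊔ (Sq : Subgroup S)) = Nat.card ↥S₂ * Nat.card ↥Sq)
    (h2p : Nat.card ↥((S₂ : Subgroup S) ⊔ (Sp : Subgroup S)) = Nat.card ↥S₂ * Nat.card ↥Sp)
    (hpq' : Nat.card ↥((Sp : Subgroup S) ⊔ (Sq : Subgroup S)) = Nat.card ↥Sp * Nat.card ↥Sq)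
    (hSpN : (Sp : Subgroup S).Normal) (hSpmin : ∀ N : Subgroup S, N.Normal → N ≤ (Sp : Subgroup S) → N = ⊥ ∨ N = (Sp : Subgroup S))
    (hSpcard : Nat.card ↥Sp = p ∨ Nat.card ↥Sp = p ^ 2)
    (hSq : Nat.card ↥Sq = q) (hcomm : ⁅(Sp : Subgroup S), (Sq : Subgroup S)⁆ = (Sp : Subgroup S))
    (hO2 : Cfsg.pCore 2 S = ⊥)
    {E : Type*} [AddCommGroup E] [Module (ZMod 2) E] [Finite E] (ρ : Representation (ZMod 2) S E) (hE : Nontrivial E)
    (hirr : ∀ N : Submodule (ZMod 2) E, (∀ s : S, ∀ m ∈ N, ρ s m ∈ N) → N = ⊥ ∨ N = ⊤)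
    (hfaith : ∀ x ∈ (Sp : Subgroup S), ρ x = 1 → x = 1) :
    8 ≤ Nat.card {v : E // ∀ s ∈ (S₂ : Subgroup S), ρ s v = v} ∨
      (Nat.card {v : E // ∀ s ∈ (S₂ : Subgroup S), ρ s v = v} = 4 ∧
        ∃ x ∈ (Sq : Subgroup S), ∃ v : E, (∀ s ∈ (S₂ : Subgroup S), ρ s v = v) ∧ ¬ ∀ s ∈ (S₂ : Subgroup S), ρ s (ρ x v) = ρ x v) := by
  haveI : Fact p.Prime := ⟨hp⟩
  haveI : Fact q.Prime := ⟨hq⟩
  haveI := hSpN
  haveI : IsMulCommutative (Sp : Subgroup S) := by
    rcases hSpcard with h | h
    · haveI : IsCyclic (Sp : Subgroup S) := isCyclic_of_prime_card h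
      infer_instance
    · exact IsPGroup.isMulCommutative_of_card_eq_prime_sq h
  have hodd : Odd (Nat.card ↥Sp) := by
    rcases hSpcard with h | h
    · rw [h]; exact hp.odd_of_ne_two hp2
    · rw [h]; exact (hp.odd_of_ne_two hp2).pow
  have hF : NeZero ((Monoid.exponent (Sp : Subgroup S) : ℕ) : ZMod 2) := by
    refine ⟨fun h => ?_⟩
    rw [ZMod.natCast_eq_zero_iff] at h
    have := h.trans Group.exponent_dvd_nat_card
    exact (Nat.not_even_iff_odd.mpr hodd) (even_iff_two_dvd.mpr this)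
  let F := AlgebraicClosure (ZMod 2)
  haveI : CharP F 2 := charP_of_injective_algebraMap (algebraMap (ZMod 2) F).injective 2
  let σ : S →* Module.End F (F ⊗[ZMod 2] E) :=
    (Module.End.baseChangeHom (ZMod 2) F E).toMonoidHom.comp ρ
  have hσ : ∀ (s : S) (a : F) (v : E), σ s (a ⊗ₜ v) = a ⊗ₜ (ρ s v) := fun s a v => rfl
  let bF := Module.Free.chooseBasis (ZMod 2) F
  classical
  let co := TensorProduct.equivFinsuppOfBasisLeft (N := E) bF
  have hco : ∀ (s : S) (v : F ⊗[ZMod 2] E) i, co (σ s v) i = ρ s (co v i) := by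
    intro s v i
    induction v using TensorProduct.induction_on with
    | zero => simp
    | tmul a u =>
      rw [hσ]
      simp only [co, TensorProduct.equivFinsuppOfBasisLeft_apply_tmul_apply, map_smul]
    | add u w hu hw => simp only [map_add, Finsupp.add_apply, hu, hw]
  -- Sp acts nontrivially after base change
  have hne : ∃ t : (Sp : Subgroup S), σ t ≠ 1 := by
    obtain ⟨⟨t, ht⟩, ht1⟩ : ∃ t : (Sp : Subgroup S), t ≠ 1 := by
      haveI : Nontrivial (Sp : Subgroup S) := by
        rw [← Finite.one_lt_card_iff_nontrivial]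
        rcases hSpcard with h | h
        · exact lt_of_lt_of_eq hp.one_lt h.symm
        · exact lt_of_lt_of_eq (Nat.one_lt_pow two_ne_zero hp.one_lt) h.symm
      exact exists_ne 1
    refine ⟨⟨t, ht⟩, fun h => ht1 (Subtype.ext (hfaith t ht (LinearMap.ext fun v => ?_)))⟩
    obtain ⟨i, hi⟩ : ∃ i, bF.repr (1 : F) i ≠ 0 := by
      by_contra hc
      push Not at hc
      exact one_ne_zero (bF.repr.map_eq_zero_iff.mp (Finsupp.ext hc))
    have hi1 : bF.repr (1 : F) i = 1 := by
      revert hi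
      generalize bF.repr (1 : F) i = z
      revert z
      decide
    have h1 := hco t ((1 : F) ⊗ₜ v) i
    rw [h, Module.End.one_apply] at h1
    simp only [co, TensorProduct.equivFinsuppOfBasisLeft_apply_tmul_apply, hi1, one_smul] at h1
    exact h1.symm
  obtain ⟨v₁, v₂, hv₁, hv₂, hind, hx⟩ :=
    key σ (Sp : Subgroup S) (S₂ : Subgroup S) (Sq : Subgroup S) hodd q hq2 hSq S₂.isPGroup'
      hcomm hne
  let E0 : Submodule (ZMod 2) E :=
    { carrier := {v | ∀ s ∈ (S₂ : Subgroup S), ρ s v = v}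
      add_mem' := fun {a b} ha hb s hs => by rw [map_add, ha s hs, hb s hs]
      zero_mem' := fun s _ => map_zero _
      smul_mem' := fun c v hv s hs => by rw [map_smul, hv s hs] }
  let j : F ⊗[ZMod 2] E0 →ₗ[F] F ⊗[ZMod 2] E := E0.subtype.baseChange F
  have hmem : ∀ v, (∀ s ∈ (S₂ : Subgroup S), σ s v = v) → v ∈ LinearMap.range j := by
    intro v hv
    rw [← co.symm_apply_apply v, TensorProduct.equivFinsuppOfBasisLeft_symm_apply]
    refine Submodule.sum_mem _ fun i _ => ⟨bF i ⊗ₜ ⟨co v i, fun s hs => ?_⟩, rfl⟩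
    rw [← hco, hv s hs]
  have hrank : Module.finrank F (LinearMap.range j) ≤ Module.finrank (ZMod 2) E0 :=
    (LinearMap.finrank_range_le j).trans Module.finrank_baseChange.le
  have hspan : Submodule.span F (Set.range ![v₁, v₂]) ≤ LinearMap.range j := by
    rw [Submodule.span_le]
    rintro _ ⟨i, rfl⟩
    fin_cases i
    · exact hmem _ hv₁
    · exact hmem _ hv₂
  have h2 : Module.finrank F (Submodule.span F (Set.range ![v₁, v₂])) = 2 :=
    (finrank_span_eq_card hind).trans (Fintype.card_fin 2)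
  have hle : 2 ≤ Module.finrank F (LinearMap.range j) := h2.ge.trans (Submodule.finrank_mono hspan)
  have hcard : Nat.card {v : E // ∀ s ∈ (S₂ : Subgroup S), ρ s v = v} =
      2 ^ Module.finrank (ZMod 2) E0 := by
    show Nat.card E0 = _
    rw [Module.natCard_eq_pow_finrank (K := ZMod 2), Nat.card_zmod]
  rw [hcard]
  by_cases h3 : 3 ≤ Module.finrank (ZMod 2) E0
  · left
    calc 8 = 2 ^ 3 := by norm_num
      _ ≤ _ := Nat.pow_le_pow_right (by norm_num) h3
  · right
    have hd : Module.finrank (ZMod 2) E0 = 2 := by omega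
    refine ⟨by rw [hd]; norm_num, ?_⟩
    by_contra hc
    push Not at hc
    obtain ⟨x, hxQ, hx1⟩ : ∃ x ∈ (Sq : Subgroup S), x ≠ 1 := by
      haveI : Nontrivial (Sq : Subgroup S) := by
        rw [← Finite.one_lt_card_iff_nontrivial]
        exact lt_of_lt_of_eq hq.one_lt hSq.symm
      obtain ⟨a, ha⟩ := exists_ne (1 : (Sq : Subgroup S))
      exact ⟨a, a.2, fun h => ha (Subtype.ext h)⟩
    have heq : Submodule.span F (Set.range ![v₁, v₂]) = LinearMap.range j :=
      Submodule.eq_of_le_of_finrank_le hspan (by omega)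
    have hxj : ∀ v ∈ LinearMap.range j, σ x v ∈ LinearMap.range j := by
      rintro _ ⟨u, rfl⟩
      induction u using TensorProduct.induction_on with
      | zero => simp
      | tmul a e =>
        exact ⟨a ⊗ₜ ⟨ρ x (e : E), hc x hxQ _ e.2⟩, rfl⟩
      | add a b ha hb =>
        rw [map_add, map_add]
        exact Submodule.add_mem _ ha hb
    have hset : Set.range ![v₁, v₂] = ({v₁, v₂} : Set _) :=
      Matrix.range_cons_cons_empty v₁ v₂ _
    apply hx x hxQ hx1
    rw [← hset, heq]
    exact ⟨hxj _ (hmem _ hv₁), hxj _ (hmem _ hv₂)⟩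

end Cfsg.Agent.S4414
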