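import Cfsg.Statements.S4415
import Cfsg.Agent.Lib.RankTwoBlock.Reduce
import Cfsg.Agent.Lib.Coprime.Commutator

set_option autoImplicit false
open Cfsg
open scoped commutatorElement

namespace Cfsg.Agent.S4415

open Module in
/-- A single Jordan block of size three on a fixed-point complement. -/
theorem isBlock {E : Type*} [AddCommGroup E] [Module (ZMod 3) E] [Finite E]
    (β : Module.End (ZMod 3) E) (hcube : β ^ 3 = 1) (E₀ E₁ : Submodule (ZMod 3) E)
    (hsup : E₀ ⊔ E₁ = ⊤) (hfix : ∀ v ∈ E₁, β v = v) (hinv : ∀ v ∈ E₀, β v ∈ E₀)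
    (h27 : Nat.card E₀ = 27) (hind : ∃ v ∈ E₀, β (β v - v) - (β v - v) ≠ 0) :
    Lib.RankTwoBlock.IsBlock β := by
  haveI : FiniteDimensional (ZMod 3) E := Module.Finite.of_finite
  haveI : Fact (Nat.Prime 3) := ⟨Nat.prime_three⟩
  set N : Module.End (ZMod 3) E := β - 1 with hN
  have hN' : ∀ x, N x = β x - x := fun x => rfl
  have hN3 : ∀ x, N (N (N x)) = 0 := by
    intro x
    have h2 : N (N x) = x + β x + β (β x) := by
      rw [← Module.End.mul_apply, ← sq]
      exact Lib.RankTwoBlock.IsBlock.sq_apply x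
    have h3 : β (β (β x)) = x := by
      simpa [pow_succ, Module.End.mul_apply] using LinearMap.congr_fun hcube x
    rw [h2, hN', map_add, map_add, h3]
    abel
  obtain ⟨v, hv, hv2⟩ := hind
  have hv2' : N (N v) ≠ 0 := hv2
  have hNE : ∀ x ∈ E₀, N x ∈ E₀ := fun x hx => E₀.sub_mem (hinv x hx) hx
  have drop : ∀ (K : Submodule (ZMod 3) E) (x : E), x ∈ K → x ≠ 0 → N x = 0 →
      finrank (ZMod 3) (K.map N) < finrank (ZMod 3) K := by
    intro K x hx hx0 hNx
    have h1 := LinearMap.finrank_range_add_finrank_ker (N.domRestrict K)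
    rw [LinearMap.range_domRestrict] at h1
    have h2 : 0 < finrank (ZMod 3) (LinearMap.ker (N.domRestrict K)) :=
      Module.finrank_pos_iff_exists_ne_zero.mpr ⟨⟨⟨x, hx⟩, hNx⟩, fun e =>
        hx0 (congrArg (fun z : LinearMap.ker (N.domRestrict K) => ((z : K) : E)) e)⟩
    omega
  have h3 : finrank (ZMod 3) E₀ = 3 := by
    have := Module.natCard_eq_pow_finrank (K := ZMod 3) (V := E₀)
    rw [h27, Nat.card_zmod, show 27 = 3 ^ 3 by rfl] at this
    exact (Nat.pow_right_injective (by norm_num) this).symm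
  have hr : LinearMap.range N = E₀.map N := by
    refine le_antisymm ?_ LinearMap.map_le_range
    rintro _ ⟨x, rfl⟩
    obtain ⟨a, ha, c, hc, rfl⟩ := Submodule.mem_sup.mp (hsup ▸ Submodule.mem_top : x ∈ E₀ ⊔ E₁)
    refine ⟨a, ha, ?_⟩
    rw [map_add, hN' c, hfix c hc, sub_self, add_zero]
  have hr2 : LinearMap.range (N ^ 2) = (E₀.map N).map N := by
    rw [sq, Module.End.mul_eq_comp, LinearMap.range_comp, hr]
  have d1 := drop E₀ _ (hNE _ (hNE v hv)) hv2' (hN3 v)
  have d2 := drop (E₀.map N) _ (Submodule.mem_map_of_mem (hNE v hv)) hv2' (hN3 v)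
  have d3 : 0 < finrank (ZMod 3) ((E₀.map N).map N) :=
    Module.finrank_pos_iff_exists_ne_zero.mpr
      ⟨⟨N (N v), Submodule.mem_map_of_mem (Submodule.mem_map_of_mem hv)⟩,
        fun e => hv2' (congrArg Subtype.val e)⟩
  exact ⟨hcube, by rw [← hN, hr]; omega, by rw [← hN, hr2]; omega⟩

/-- Let S be a finite solvable group acting faithfully on a finite-dimensional space E over the field with three elements, with O₃(S) = 1. Let B ≤ S have order 3 and suppose: E = E₀ ⊕ E₁ with B fixing E₁ pointwise, E₀ B-invariant of order 27 and indecomposable under B (a generator of B has a single Jordan block on E₀); B normalizes but does not centralize some subgroup Q of S that is elementary abelian of order 4; and B is the centre of a Sylow 3-subgroup of S. Put R = [O_{3'}(S), B]. Then R is elementary abelian of order 4 or extraspecial of order 32 containing an elementary abelian subgroup of order 8 (a central product of two quaternion groups),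 and E is the direct sum of a subspace fixed pointwise by R and an RB-invariant subspace on which the subgroup RB acts faithfully and irreducibly. -/
theorem result {S : Type*} [Group S] [Finite S]
    [Group.IsSolvable S] {E : Type*} [AddCommGroup E] [Module (ZMod 3) E] [Finite E] (ρ : Representation (ZMod 3) S E)
    (hfaith : Function.Injective ρ) (hO3 : Cfsg.pCore 3 S = ⊥)
    (B : Subgroup S) (hB : Nat.card ↥B = 3) (b : S) (hb : Subgroup.zpowers b = B)
    (E₀ E₁ : Submodule (ZMod 3) E) (hE01 : E₀ ⊓ E₁ = ⊥) (hE01' : E₀ ⊔ E₁ = ⊤)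
    (hE1 : ∀ v ∈ E₁, ρ b v = v) (hE0inv : ∀ v ∈ E₀, ρ b v ∈ E₀) (hE0 : Nat.card ↥E₀ = 27)
    (hind : ∃ v ∈ E₀, ρ b (ρ b v - v) - (ρ b v - v) ≠ 0)
    (Q : Subgroup S) (hQ : Cfsg.IsElementaryAbelian 2 Q) (hQ4 : Nat.card ↥Q = 4)
    (hBQ : B ≤ Subgroup.normalizer (Q : Set S)) (hBQ' : ¬ B ≤ Subgroup.centralizer (Q : Set S))
    (P : Sylow 3 S) (hBZ : (Subgroup.center ↥(P : Subgroup S)).map (P : Subgroup S).subtype = B) :
    ((Cfsg.IsElementaryAbelian 2 ⁅Cfsg.pPrimeCore 3 S, B⁆ ∧ Nat.card ↥⁅Cfsg.pPrimeCore 3 S, B⁆ = 4) ∨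
      (Cfsg.IsExtraspecial 2 ↥⁅Cfsg.pPrimeCore 3 S, B⁆ ∧ Nat.card ↥⁅Cfsg.pPrimeCore 3 S, B⁆ = 32 ∧
        ∃ A : Subgroup S, A ≤ ⁅Cfsg.pPrimeCore 3 S, B⁆ ∧ Cfsg.IsElementaryAbelian 2 A ∧ Nat.card ↥A = 8)) ∧
    ∃ F₀ F₁ : Submodule (ZMod 3) E, F₀ ⊓ F₁ = ⊥ ∧ F₀ ⊔ F₁ = ⊤ ∧
      (∀ r ∈ ⁅Cfsg.pPrimeCore 3 S, B⁆, ∀ v ∈ F₁, ρ r v = v) ∧ (∀ r ∈ ⁅Cfsg.pPrimeCore 3 S, B⁆ ⊔ B, ∀ v ∈ F₀, ρ r v ∈ F₀) ∧
      (∀ r ∈ ⁅Cfsg.pPrimeCore 3 S, B⁆ ⊔ B, (∀ v ∈ F₀, ρ r v = v) → r = 1) ∧
      (∀ N : Submodule (ZMod 3) E, N ≤ F₀ → (∀ r ∈ ⁅Cfsg.pPrimeCore 3 S, B⁆ ⊔ B, ∀ v ∈ N, ρ r v ∈ N) → N = ⊥ ∨ N = F₀) := by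
  classical
  haveI : Fact (Nat.Prime 3) := ⟨Nat.prime_three⟩
  haveI : Fact (Nat.Prime 2) := ⟨Nat.prime_two⟩
  subst hb
  have hb3 : b ^ 3 = 1 := by
    rw [← hB, Nat.card_zpowers, pow_orderOf_eq_one]
  have hblock := isBlock (ρ b) (by rw [← map_pow, hb3, map_one]) E₀ E₁ hE01' hE1 hE0inv hE0 hind
  -- the four-group
  obtain ⟨hQc, hQ2⟩ := hQ
  have hbQ := hBQ (Subgroup.mem_zpowers b)
  have hconj : ∀ x ∈ Q, b * x * b⁻¹ ∈ Q := fun x hx =>
    (Subgroup.mem_normalizer_iff.mp hbQ x).mp hx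
  have hsq : ∀ x ∈ Q, x * x = 1 := fun x hx => by rw [← sq]; exact hQ2 x hx
  have hcomm : ∀ x ∈ Q, ∀ y ∈ Q, x * y = y * x := fun x hx y hy =>
    congrArg Subtype.val (hQc.is_comm.comm ⟨x, hx⟩ ⟨y, hy⟩)
  obtain ⟨q, hq, hqn⟩ : ∃ q ∈ Q, b * q * b⁻¹ ≠ q := by
    by_contra hc
    push Not at hc
    refine hBQ' (Subgroup.zpowers_le.mpr (Subgroup.mem_centralizer_iff.mpr fun y hy => ?_))
    exact (mul_inv_eq_iff_eq_mul.mp (hc y hy)).symm
  set q' := b * q * b⁻¹ with hq'
  have hq'Q : q' ∈ Q := hconj q hq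
  have hq1 : q ≠ 1 := fun e => hqn (by rw [hq', e, mul_one, mul_inv_cancel])
  have hq'1 : q' ≠ 1 := fun e => hq1 (conj_eq_one_iff.mp e)
  have hqj : b * q' * b⁻¹ = q * q' := by
    have h1 : b * q' * b⁻¹ ≠ 1 := fun e => hq'1 (conj_eq_one_iff.mp e)
    have h2 : b * q' * b⁻¹ ≠ q' := fun e => hqn (by
      have := congrArg (fun z => b⁻¹ * z * b) e
      simpa [hq', mul_assoc] using this)
    have h3 : b * q' * b⁻¹ ≠ q := fun e => hqn (by
      have h4 : b * (b * q' * b⁻¹) * b⁻¹ = q' := by rw [e]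
      have h5 : b * (b * q' * b⁻¹) * b⁻¹ = b ^ 3 * q * (b ^ 3)⁻¹ := by
        rw [hq']; simp only [pow_three]; group
      rw [h5, hb3, one_mul, inv_one, mul_one] at h4
      exact h4.symm)
    have hn12 : q * q' ≠ 1 := fun e => hqn (by
      rw [← mul_left_cancel (a := q) (b := q') (c := q) (by rw [e, hsq q hq])])
    have hcard : ({1, q, q', q * q'} : Finset S).card = 4 := by
      rw [Finset.card_insert_of_notMem, Finset.card_insert_of_notMem, Finset.card_pair]
      · exact fun e => hq1 (right_eq_mul.mp e)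
      · simp only [Finset.mem_insert, Finset.mem_singleton, not_or]
        exact ⟨Ne.symm hqn, fun e => hq'1 (left_eq_mul.mp e)⟩
      · simp only [Finset.mem_insert, Finset.mem_singleton, not_or]
        exact ⟨Ne.symm hq1, Ne.symm hq'1, Ne.symm hn12⟩
    have hall : ∀ x ∈ Q, x = 1 ∨ x = q ∨ x = q' ∨ x = q * q' := by
      intro x hx
      by_contra hx'
      have hsub : (↑(insert x ({1, q, q', q * q'} : Finset S)) : Set S) ⊆ (Q : Set S) := by
        simp [Set.insert_subset_iff, hx, hq, hq'Q, mul_mem hq hq'Q, one_mem]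
      have h5 := Nat.card_mono Q.carrier.toFinite hsub
      rw [Nat.card_coe_set_eq, Set.ncard_coe_finset, Finset.card_insert_of_notMem (by simpa using hx'),
        hcard] at h5
      have : Nat.card Q.carrier = 4 := hQ4
      omega
    rcases hall _ (hconj q' hq'Q) with e | e | e | e
    · exact absurd e h1
    · exact absurd e h3
    · exact absurd e h2
    · exact e
  -- `Q` lies in `R`
  set K := Cfsg.pPrimeCore 3 S with hK
  haveI : (Cfsg.pPrimeCore 3 S).Normal := inferInstance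
  set R := ⁅K, Subgroup.zpowers b⁆ with hR
  set π := QuotientGroup.mk' K with hπ
  haveI : Group.IsSolvable (S ⧸ K) := solvable_of_surjective (QuotientGroup.mk'_surjective K)
  set O := Cfsg.pCore 3 (S ⧸ K) with hO
  have hbO : π b ∈ O := by
    refine Lib.SylowInter.Basic.centralizer_pCore_le 3
      (Lib.Cores.pPrimeCore_quotient_pPrimeCore 3) (Subgroup.mem_centralizer_iff.mpr ?_)
    intro y hy
    have h1 := Lib.Cores.pCore_le_sylow (P.mapSurjective (QuotientGroup.mk'_surjective K)) hy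
    obtain ⟨x, hx, rfl⟩ := Subgroup.mem_map.mp h1
    have hbP : b ∈ (Subgroup.center ↥(P : Subgroup S)).map (P : Subgroup S).subtype := by
      rw [hBZ]; exact Subgroup.mem_zpowers b
    obtain ⟨z, hz, rfl⟩ := Subgroup.mem_map.mp hbP
    have := congrArg Subtype.val (Subgroup.mem_center_iff.mp hz ⟨x, hx⟩)
    rw [← map_mul, ← map_mul]
    exact congrArg π this
  have hqq : q' * q ∈ K := by
    have e : q' * q = b * q * b⁻¹ * q⁻¹ := by rw [inv_eq_of_mul_eq_one_right (hsq q hq)]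
    have h1 : π (q' * q) ∈ O := by
      rw [e, map_mul, map_mul, map_mul, map_inv, map_inv]
      rw [mul_assoc (π b), mul_assoc (π b)]
      exact mul_mem hbO ((inferInstance : O.Normal).conj_mem _ (inv_mem hbO) (π q))
    obtain ⟨j, hj⟩ := IsPGroup.iff_orderOf.mp (Lib.Cores.pCore_isPGroup 3) ⟨_, h1⟩
    rw [Subgroup.orderOf_mk] at hj
    have h2 : orderOf (π (q' * q)) ∣ 2 := orderOf_dvd_of_pow_eq_one (by
      rw [← map_pow, hQ2 _ (mul_mem hq'Q hq), map_one])
    rw [hj] at h2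
    have h3 : 3 ^ j = 1 := Nat.eq_one_of_dvd_coprimes
      (Nat.Coprime.pow_left j (by norm_num : Nat.Coprime 3 2)) dvd_rfl h2
    rw [h3, orderOf_eq_one_iff] at hj
    exact (QuotientGroup.eq_one_iff _).mp hj
  have hqK : q ∈ K := by
    have h1 : b * (q' * q) * b⁻¹ = q := by
      rw [show b * (q' * q) * b⁻¹ = b * q' * b⁻¹ * (b * q * b⁻¹) by group, hqj, ← hq', mul_assoc,
        hsq q' hq'Q, mul_one]
    rw [← h1]
    exact (inferInstance : K.Normal).conj_mem _ hqq b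
  have hbK : Subgroup.zpowers b ≤ Subgroup.normalizer (K : Set S) := by
    rw [Subgroup.normalizer_eq_top K]; exact le_top
  have hbR : b ∈ Subgroup.normalizer (R : Set S) := by
    have h1 : Subgroup.zpowers b ≤ Subgroup.normalizer (R : Set S) := by
      rw [hR]; exact Lib.Coprime.right_le_normalizer_commutator _ _
    exact h1 (Subgroup.mem_zpowers b)
  have hqR : q ∈ R := by
    have h1 : ⁅q, b⁆ ∈ R := Subgroup.commutator_mem_commutator hqK (Subgroup.mem_zpowers b)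
    have e : ⁅q, b⁆ = q * q' := by
      rw [commutatorElement_def, inv_eq_of_mul_eq_one_right (hsq q hq), hq']
      group
    rw [e] at h1
    have h2 := (Subgroup.mem_normalizer_iff.mp hbR _).mp h1
    rwa [show b * (q * q') * b⁻¹ = b * q * b⁻¹ * (b * q' * b⁻¹) by group, hqj, ← hq',
      ← mul_assoc, hcomm q' hq'Q q hq, mul_assoc, hsq q' hq'Q, mul_one] at h2
  have hRK : R ≤ K := Subgroup.commutator_le_left _ _
  have hKcop := Lib.Cores.pPrimeCore_coprime (G := S) 3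
  obtain ⟨hC, F₀, F₁, hF⟩ := Lib.RankTwoBlock.main ρ hfaith hbR
    (fun h3 => ((Nat.prime_three.coprime_iff_not_dvd).mp hKcop.symm)
      (h3.trans (Subgroup.card_dvd_of_le hRK)))
    (Lib.Coprime.commutator_commutator_eq hbK (by rw [hB]; exact hKcop.symm) (Or.inr inferInstance))
    hblock hqR (hsq q hq) (hcomm q hq q' hq'Q) hqj hqn
  exact ⟨hC, F₀, F₁, hF⟩

end Cfsg.Agent.S4415
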