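import Cfsg.Statements.S4416
import Cfsg.Agent.Lib.Extraspecial.Classify

set_option autoImplicit false
open Cfsg

namespace Cfsg.Agent.S4416

open Cfsg.Agent.Lib.Extraspecial
open scoped commutatorElement

universe u v

/-- Number of solutions of `g ^ 2 = 1`. -/
noncomputable def sqCount (E : Type*) [Group E] : ℕ := Nat.card {g : E // g ^ 2 = 1}

theorem trivial_case {E : Type u} [Group E] [Finite E] {z : E} (h : ESData 2 z)
    (htop : ∀ g : E, g ∈ Subgroup.zpowers z) : Nat.card E = 2 ∧ sqCount E = 2 := by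
  have := Fact.mk Nat.prime_two
  have hc : Nat.card E = 2 := by
    rw [← orderOf_eq_card_of_forall_mem_zpowers htop, orderOf_eq_prime h.z_pow h.z_ne]
  refine ⟨hc, ?_⟩
  rw [sqCount, Nat.card_congr (Equiv.subtypeUnivEquiv fun g : E => by
    rw [← hc]; exact pow_card_eq_one'), hc]

theorem exists_reduce {E : Type u} [Group E] {z x : E} (h : ESData 2 z) (i : ℤ) :
    ∃ (r : Fin 2) (k : ℤ), x ^ i = x ^ (r : ℕ) * z ^ k := by
  obtain ⟨a, ha⟩ := Subgroup.mem_zpowers_iff.1 (h.pow_mem x)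
  rcases Int.even_or_odd i with ⟨m, hm⟩ | ⟨m, hm⟩
  · refine ⟨0, a * m, ?_⟩
    rw [hm, ← two_mul, zpow_mul, show x ^ (2 : ℤ) = x ^ 2 from zpow_natCast x 2, ← ha, ← zpow_mul]
    simp
  · refine ⟨1, a * m, ?_⟩
    rw [hm, add_comm, zpow_add, zpow_one, zpow_mul, show x ^ (2 : ℤ) = x ^ 2 from zpow_natCast x 2,
      ← ha, ← zpow_mul]
    simp

/-- The squares count in `⟨x, y⟩ * C(x, y)`. -/
theorem sqCount_pair {E : Type u} [Group E] [Finite E] {z x y : E} (h : ESData 2 z)
    (hxy : ⁅x, y⁆ = z) (a b : Fin 2) (hx : x ^ 2 = z ^ (a : ℕ)) (hy : y ^ 2 = z ^ (b : ℕ)) :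
    sqCount E = ∑ ij : Fin 2 × Fin 2,
      Nat.card {c : Subgroup.centralizer ({x, y} : Set E) //
        z ^ ((a : ℕ) * ij.1 + (b : ℕ) * ij.2 + (ij.1 : ℕ) * ij.2) * (c : E) ^ 2 = 1} := by
  have := Fact.mk Nat.prime_two
  let C := Subgroup.centralizer ({x, y} : Set E)
  let f : (Fin 2 × Fin 2) × C → E := fun v => x ^ (v.1.1 : ℕ) * y ^ (v.1.2 : ℕ) * (v.2 : E)
  have hzc : ∀ k : ℤ, ∀ g : E, g * z ^ k = z ^ k * g := fun k g => commute_zpow h g k
  have hsurj : Function.Surjective f := by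
    intro g
    obtain ⟨i, j, c, hc, rfl⟩ := exists_decomp h hxy g
    obtain ⟨r, k, hr⟩ := exists_reduce (x := x) h i
    obtain ⟨s, l, hs⟩ := exists_reduce (x := y) h j
    refine ⟨((r, s), ⟨z ^ (k + l) * c, mul_mem (zpow_mem (z_mem h) _) hc⟩), ?_⟩
    simp only [f]
    rw [hr, hs, zpow_add, mul_assoc (x ^ (r : ℕ)) (z ^ k), ← mul_assoc (z ^ k),
      ← hzc k (y ^ (s : ℕ))]
    group
  have hcard : Nat.card ((Fin 2 × Fin 2) × C) = Nat.card E := by
    rw [card_eq h hxy]; simp [C]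
  have hf : Function.Bijective f := (Nat.bijective_iff_surjective_and_card f).2 ⟨hsurj, hcard⟩
  have hz2 : ∀ n : ℕ, z ^ (n + 2) = z ^ n := fun n => by rw [pow_add, h.z_pow, mul_one]
  have hsq : ∀ v, f v ^ 2 =
      z ^ ((a : ℕ) * v.1.1 + (b : ℕ) * v.1.2 + (v.1.1 : ℕ) * v.1.2) * (v.2 : E) ^ 2 := by
    rintro ⟨⟨i, j⟩, c⟩
    obtain ⟨h1, h2⟩ := (mem_pairCentralizer h).1 c.2
    have hcomm : Commute (x ^ (i : ℕ) * y ^ (j : ℕ)) (c : E) :=
      (Commute.pow_left h1 _).mul_left (Commute.pow_left h2 _)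
    simp only [f]
    rw [hcomm.mul_pow]
    congr 1
    have hswap : y * x = x * y * z := by
      have := swap_zpow h hxy 1 1
      simp only [zpow_one, mul_one, zpow_neg_one] at this
      rw [this, inv_eq_of_mul_eq_one_right (show z * z = 1 by rw [← sq]; exact h.z_pow)]
    fin_cases i <;> fin_cases j
    · simp
    · simp [hy]
    · simp [hx]
    · simp only [pow_one, mul_one]
      calc (x * y) ^ 2 = x * (y * x) * y := by rw [sq]; group
        _ = x * x * y * (z * y) := by rw [hswap]; group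
        _ = x ^ 2 * (y ^ 2 * z) := by rw [← commute_z h y, sq, sq]; group
        _ = z ^ ((a : ℕ) + b + 1) := by rw [hx, hy, pow_add, pow_add, pow_one, mul_assoc]
  rw [sqCount, Nat.card_congr ((Equiv.ofBijective f hf).subtypeEquiv
    (p := fun v => z ^ ((a : ℕ) * v.1.1 + (b : ℕ) * v.1.2 + (v.1.1 : ℕ) * v.1.2) * (v.2 : E) ^ 2 = 1)
    (fun v => by rw [← hsq]; rfl)).symm]
  have e : {v : (Fin 2 × Fin 2) × C //
        z ^ ((a : ℕ) * v.1.1 + (b : ℕ) * v.1.2 + (v.1.1 : ℕ) * v.1.2) * (v.2 : E) ^ 2 = 1} ≃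
      Σ ij : Fin 2 × Fin 2, {c : C //
        z ^ ((a : ℕ) * ij.1 + (b : ℕ) * ij.2 + (ij.1 : ℕ) * ij.2) * (c : E) ^ 2 = 1} :=
    { toFun := fun v => ⟨v.1.1, v.1.2, v.2⟩
      invFun := fun s => ⟨(s.1, s.2.1), s.2.2⟩
      left_inv := fun _ => rfl
      right_inv := fun _ => rfl }
  rw [Nat.card_congr e, Nat.card_sigma]

theorem card_sq_eq_z {E : Type u} [Group E] [Finite E] {z : E} (h : ESData 2 z) :
    Nat.card {g : E // g ^ 2 = 1} + Nat.card {g : E // z * g ^ 2 = 1} = Nat.card E := by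
  classical
  have := Fintype.ofFinite E
  simp only [Nat.card_eq_fintype_card, Fintype.card_subtype]
  rw [← Finset.card_union_of_disjoint, ← Finset.card_univ]
  · congr 1
    ext g
    simp only [Finset.mem_union, Finset.mem_filter, Finset.mem_univ, true_and, iff_true]
    obtain ⟨k, hk⟩ := Subgroup.mem_zpowers_iff.1 (h.pow_mem g)
    rcases Int.even_or_odd k with ⟨m, rfl⟩ | ⟨m, rfl⟩
    · left
      rw [← hk, ← two_mul, zpow_mul, show z ^ (2 : ℤ) = z ^ 2 from zpow_natCast z 2, h.z_pow, one_zpow]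
    · right
      rw [← hk, zpow_add, zpow_mul, show z ^ (2 : ℤ) = z ^ 2 from zpow_natCast z 2, h.z_pow, one_zpow,
        one_mul, zpow_one, ← sq, h.z_pow]
  · rw [Finset.disjoint_filter]
    intro g _ h1 h2
    rw [h1, mul_one] at h2
    exact h.z_ne h2

theorem sqCount_dihedral_pair {E : Type u} [Group E] [Finite E] {z x y : E} (h : ESData 2 z)
    (hxy : ⁅x, y⁆ = z) (hx : x ^ 2 = 1) (hy : y ^ 2 = 1) :
    sqCount E = 2 * sqCount (Subgroup.centralizer ({x, y} : Set E)) +
      Nat.card (Subgroup.centralizer ({x, y} : Set E)) := by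
  have := Fact.mk Nat.prime_two
  rw [sqCount_pair h hxy 0 0 (by simpa using hx) (by simpa using hy)]
  rw [← card_sq_eq_z (esData_centralizer h hxy), Fintype.sum_prod_type, Fin.sum_univ_two,
    Fin.sum_univ_two, Fin.sum_univ_two]
  simp only [sqCount, Subtype.ext_iff, SubgroupClass.coe_pow, Subgroup.coe_mul, OneMemClass.coe_one]
  norm_num
  omega

theorem sqCount_quaternion_eight {E : Type u} [Group E] [Finite E] {z x y : E} (h : ESData 2 z)
    (hc : Nat.card E = 8) (hxy : ⁅x, y⁆ = z) (hx : x ^ 2 = z) (hy : y ^ 2 = z) : sqCount E = 2 := by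
  have := Fact.mk Nat.prime_two
  have hC : Nat.card (Subgroup.centralizer ({x, y} : Set E)) = 2 := by
    have := card_eq h hxy
    omega
  have h1 : ∀ c : Subgroup.centralizer ({x, y} : Set E), (c : E) ^ 2 = 1 := fun c => by
    have := pow_card_eq_one' (x := c)
    rw [hC] at this
    exact congrArg Subtype.val this
  rw [sqCount_pair h hxy 1 1 (by simpa using hx) (by simpa using hy), Fintype.sum_prod_type,
    Fin.sum_univ_two, Fin.sum_univ_two, Fin.sum_univ_two]
  have h3 : ¬ z ^ 3 = 1 := fun h3 => h.z_ne (by rw [pow_succ, h.z_pow, one_mul] at h3; exact h3)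
  simp [h1, h.z_ne, h3, hC]

theorem count (E : Type u) [Group E] [Finite E] (z : E) (h : ESData 2 z) :
    ∃ m : ℕ, Nat.card E = 2 ^ (2 * m + 1) ∧
      (sqCount E = 2 ^ (2 * m) + 2 ^ m ∨ (1 ≤ m ∧ sqCount E = 2 ^ (2 * m) - 2 ^ m)) := by
  have := Fact.mk Nat.prime_two
  suffices key : ∀ (N : ℕ) (E : Type u) [Group E] [Finite E] (z : E), ESData 2 z → Nat.card E = N →
      ∃ m : ℕ, Nat.card E = 2 ^ (2 * m + 1) ∧
        (sqCount E = 2 ^ (2 * m) + 2 ^ m ∨ (1 ≤ m ∧ sqCount E = 2 ^ (2 * m) - 2 ^ m)) from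
    key _ E z h rfl
  intro N
  induction N using Nat.strong_induction_on with
  | _ N ih =>
    intro E _ _ z h hN
    by_cases htop : ∀ g : E, g ∈ Subgroup.zpowers z
    · obtain ⟨h1, h2⟩ := trivial_case h htop
      exact ⟨0, by simpa using h1, Or.inl (by simpa using h2)⟩
    push Not at htop
    obtain ⟨u, hu⟩ := htop
    rcases exists_pair_cases h hu with ⟨x, y, hxy, hx, hy⟩ | ⟨h8, x, y, hxy, hx, hy⟩
    · obtain ⟨m, hm, hcases⟩ := ih _ (hN ▸ card_centralizer_lt h hxy) _ _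
        (esData_centralizer h hxy) rfl
      have e1 := card_eq h hxy
      have e2 := sqCount_dihedral_pair h hxy hx hy
      have p1 : 2 ^ (2 * (m + 1)) = 4 * 2 ^ (2 * m) := by ring
      have p2 : 2 ^ (2 * m + 1) = 2 * 2 ^ (2 * m) := by ring
      have p3 : 2 ^ (2 * (m + 1) + 1) = 8 * 2 ^ (2 * m) := by ring
      have p4 : 2 ^ (m + 1) = 2 * 2 ^ m := by ring
      have p5 : 2 ^ m ≤ 2 ^ (2 * m) := Nat.pow_le_pow_right two_pos (by omega)
      refine ⟨m + 1, by omega, ?_⟩
      rcases hcases with h1 | ⟨_, h1⟩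
      · exact Or.inl (by omega)
      · exact Or.inr ⟨by omega, by omega⟩
    · exact ⟨1, by simpa using h8, Or.inr ⟨le_rfl, by
        simpa using sqCount_quaternion_eight h h8 hxy hx hy⟩⟩

theorem classify (N : ℕ) : ∀ (E : Type u) [Group E] [Finite E] (z : E), ESData 2 z →
    ∀ (E' : Type v) [Group E'] [Finite E'] (z' : E'), ESData 2 z' →
    Nat.card E = N → Nat.card E' = N → sqCount E = sqCount E' → ∃ φ : E ≃* E', φ z = z' := by
  have := Fact.mk Nat.prime_two
  induction N using Nat.strong_induction_on with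
  | _ N ih =>
    intro E _ _ z h E' _ _ z' h' hN hN' hs
    by_cases htop : ∀ g : E, g ∈ Subgroup.zpowers z
    · exact exists_equiv_of_card_eq h h' htop (hN.trans hN'.symm)
    push Not at htop
    obtain ⟨u, hu⟩ := htop
    obtain ⟨u', hu'⟩ : ∃ u', u' ∉ Subgroup.zpowers z' := by
      by_contra hcon
      push Not at hcon
      obtain ⟨h2, -⟩ := trivial_case h' hcon
      have : Subgroup.zpowers z = ⊤ := Subgroup.eq_top_of_card_eq _ (by
        rw [Nat.card_zpowers, orderOf_eq_prime h.z_pow h.z_ne, hN, ← hN', h2])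
      exact hu (this ▸ Subgroup.mem_top u)
    rcases exists_pair_cases h hu with ⟨x, y, hxy, hx, hy⟩ | ⟨h8, x, y, hxy, hx, hy⟩ <;>
      rcases exists_pair_cases h' hu' with ⟨x', y', hxy', hx', hy'⟩ | ⟨h8', x', y', hxy', hx', hy'⟩
    · have e1 := card_eq h hxy
      have e2 := card_eq h' hxy'
      have e3 := sqCount_dihedral_pair h hxy hx hy
      have e4 := sqCount_dihedral_pair h' hxy' hx' hy'
      obtain ⟨ψ, hψ⟩ := ih _ (hN ▸ card_centralizer_lt h hxy) _ _ (esData_centralizer h hxy) _ _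
        (esData_centralizer h' hxy') rfl (by omega) (by omega)
      exact glue_of_pairs h h' 0 hxy hxy' (by simpa using hx) (by simpa using hy)
        (by simpa using hx') (by simpa using hy') ψ hψ
    · have e1 := card_eq h hxy
      have e3 := sqCount_dihedral_pair h hxy hx hy
      have e4 := sqCount_quaternion_eight h' h8' hxy' hx' hy'
      have e5 : 0 < sqCount (Subgroup.centralizer ({x, y} : Set E)) := by
        have : Nonempty {c : Subgroup.centralizer ({x, y} : Set E) // c ^ 2 = 1} := ⟨⟨1, one_pow 2⟩⟩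
        exact Nat.card_pos
      have e6 : 0 < Nat.card (Subgroup.centralizer ({x, y} : Set E)) := Nat.card_pos
      exfalso
      omega
    · have e1 := card_eq h' hxy'
      have e3 := sqCount_dihedral_pair h' hxy' hx' hy'
      have e4 := sqCount_quaternion_eight h h8 hxy hx hy
      have e5 : 0 < sqCount (Subgroup.centralizer ({x', y'} : Set E')) := by
        have : Nonempty {c : Subgroup.centralizer ({x', y'} : Set E') // c ^ 2 = 1} :=
          ⟨⟨1, one_pow 2⟩⟩
        exact Nat.card_pos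
      have e6 : 0 < Nat.card (Subgroup.centralizer ({x', y'} : Set E')) := Nat.card_pos
      exfalso
      omega
    · exact exists_equiv_order_eight h h' 1 h8 h8' hxy hxy' (by simpa using hx) (by simpa using hy)
        (by simpa using hx') (by simpa using hy')

/-- An extraspecial 2-group has order `2^(2m+1)` and `2^(2m) ± 2^m` elements of square 1; these
determine it up to isomorphism. -/
theorem result (E : Type*) [Group E] [Finite E] (hE : Cfsg.IsExtraspecial 2 E) :
    (∃ m : ℕ, 1 ≤ m ∧ Nat.card E = 2 ^ (2 * m + 1) ∧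
      (Nat.card {x : E // x ^ 2 = 1} = 2 ^ (2 * m) + 2 ^ m ∨ Nat.card {x : E // x ^ 2 = 1} = 2 ^ (2 * m) - 2 ^ m)) ∧
    ∀ (E' : Type*) [Group E'] [Finite E'], Cfsg.IsExtraspecial 2 E' → Nat.card E' = Nat.card E →
      Nat.card {x : E' // x ^ 2 = 1} = Nat.card {x : E // x ^ 2 = 1} → Nonempty (E ≃* E') := by
  have := Fact.mk Nat.prime_two
  obtain ⟨z, hz⟩ := exists_esData hE
  refine ⟨?_, fun E' _ _ hE' hc hs => ?_⟩
  · obtain ⟨m, hm, hcases⟩ := count E z hz
    have hm1 : 1 ≤ m := by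
      by_contra hm0
      obtain ⟨⟨-, hfr, hcm⟩, -⟩ := hE
      have hc2 : Nat.card E = 2 := by rw [hm, show m = 0 by omega]; rfl
      have : IsCyclic E := isCyclic_of_prime_card hc2
      have hcomm : commutator E = ⊥ := (commutator_eq_bot_iff_center_eq_top E).2
        (Subgroup.eq_top_iff' _ |>.2 fun a => Subgroup.mem_center_iff.2 fun b => mul_comm' b a)
      rw [hcomm] at hcm
      have := (Subgroup.mem_bot.1 (hcm ▸ (hz.mem_center z).2 (Subgroup.mem_zpowers z)))
      exact hz.z_ne this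
    exact ⟨m, hm1, hm, hcases.imp id And.right⟩
  · obtain ⟨z', hz'⟩ := exists_esData hE'
    obtain ⟨φ, -⟩ := classify _ E z hz E' z' hz' rfl hc hs.symm
    exact ⟨φ⟩

end Cfsg.Agent.S4416
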