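import Cfsg.Statements.S4417
import Cfsg.Agent.Lib.PSubgroupGL

set_option autoImplicit false
open Cfsg

namespace Cfsg.Agent.S4417

open Cfsg.Agent.Lib.PSubgroupGL

universe u v

theorem main {F : Type u} [Field F] [Finite F] {p : ℕ} [Fact p.Prime] (hchar : (p : F) ≠ 0) :
    ∀ (d : ℕ) (V : Type u) [AddCommGroup V] [Module F V] [FiniteDimensional F V]
      (P : Type v) [Group P] [Finite P], IsPGroup p P → ∀ ρ : P →* Module.End F V,
      Module.finrank F V = d →
      derivedSeries P (Nat.log 2 (d / orderOf (Nat.card F : ZMod p)) + 1) ≤ ρ.ker := by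
  intro d
  induction d using Nat.strong_induction_on with
  | _ d ih =>
    intro V _ _ _ P _ _ hp ρ hd
    by_cases hirr : Irred ρ
    swap
    · obtain ⟨U, hU, hU0, hUt⟩ := exists_inv_of_not_irred ρ hirr
      have h1 : Module.finrank F U < d := hd ▸ Submodule.finrank_lt hUt
      have h2 : Module.finrank F (V ⧸ U) < d := by
        have := U.finrank_quotient_add_finrank
        have : 0 < Module.finrank F U := by
          rw [Module.finrank_pos_iff, Submodule.nontrivial_iff_ne_bot]
          exact hU0
        omega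
      refine split_ker ρ hp hchar U hU
        ((derivedSeries_antitone _ ?_).trans (ih _ h1 U P hp (res ρ U hU) rfl))
        ((derivedSeries_antitone _ ?_).trans (ih _ h2 (V ⧸ U) P hp (quo ρ U hU) rfl))
      · exact Nat.succ_le_succ (Nat.log_mono_right (Nat.div_le_div_right h1.le))
      · exact Nat.succ_le_succ (Nat.log_mono_right (Nat.div_le_div_right h2.le))
    refine le_ker_of_faithful ρ ?_
    rcases subsingleton_or_nontrivial (P ⧸ ρ.ker) with hQ | hQ
    · exact Subsingleton.elim _ _
    have hpQ := hp.to_quotient ρ.ker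
    have := hpQ.center_nontrivial
    obtain ⟨k, hk0, hk⟩ := (hpQ.to_subgroup (Subgroup.center _)).nontrivial_iff_card.1 this
    obtain ⟨⟨z, hzc⟩, hz⟩ := exists_prime_orderOf_dvd_card' (G := Subgroup.center (P ⧸ ρ.ker)) p
      (by rw [hk]; exact dvd_pow_self p hk0.ne')
    rw [← Subgroup.orderOf_coe] at hz
    let ρ₁ := faithful ρ
    have hinj := faithful_injective ρ
    have hpp : p.Prime := Fact.out
    have hne : ρ₁ z ≠ 1 := fun h => by
      have h1 : z = 1 := hinj (h.trans (map_one ρ₁).symm)
      have hz' : orderOf z = p := hz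
      rw [h1, orderOf_one] at hz'
      exact hpp.one_lt.ne hz'
    have : Nontrivial V := by
      by_contra hn
      rw [not_nontrivial_iff_subsingleton] at hn
      exact hne (Subsingleton.elim _ _)
    obtain ⟨L, _, _, _, _, _, ρ', φ, hmul, hker, hφ, -⟩ :=
      extend_field ρ₁ (irred_faithful ρ hirr) (ρ₁ z)
        (fun g => Commute.map ((Subgroup.mem_center_iff.1 hzc g).symm : Commute z g) ρ₁)
    have : Finite L := Module.finite_of_finite F
    obtain ⟨x, hx⟩ := exists_ne (0 : V)
    have hpow : ∀ (i : ℕ) (v : V), φ ^ i • v = (ρ₁ z ^ i) v := by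
      intro i
      induction i with
      | zero => intro v; simp
      | succ i ih => intro v; rw [pow_succ, mul_smul, hφ, ih, pow_succ, Module.End.mul_apply]
    have hφp : φ ^ p = 1 := by
      have h := hpow p x
      rw [← map_pow, ← hz, pow_orderOf_eq_one, map_one, Module.End.one_apply, hz] at h
      exact smul_left_injective L hx (by simpa using h)
    have hφ1 : φ ≠ 1 := fun h => hne (LinearMap.ext fun v => by rw [← hφ, h, one_smul]; rfl)
    have hφo : orderOf φ = p := orderOf_eq_prime hφp hφ1
    have hdvd : p ∣ Nat.card F ^ Module.finrank F L - 1 := by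
      classical
      have := Fintype.ofFinite L
      rw [← Module.natCard_eq_pow_finrank, Nat.card_eq_fintype_card, ← hφo]
      have hφ0 : φ ≠ 0 := fun h => by
        rw [h, zero_pow hpp.ne_zero] at hφp; exact zero_ne_one hφp
      exact orderOf_dvd_of_pow_eq_one (FiniteField.pow_card_sub_one_eq_one φ hφ0)
    have hed : orderOf (Nat.card F : ZMod p) ∣ Module.finrank F L := by
      apply orderOf_dvd_of_pow_eq_one
      rw [← Nat.cast_pow]
      have h1 : 1 ≤ Nat.card F ^ Module.finrank F L := Nat.one_le_pow _ _ Nat.card_pos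
      rw [← Nat.sub_add_cancel h1, Nat.cast_add, (ZMod.natCast_eq_zero_iff _ p).2 hdvd, zero_add,
        Nat.cast_one]
    have hL0 : 0 < Module.finrank F L := Module.finrank_pos
    have hcharL : (p : L) ≠ 0 := by
      rw [← map_natCast (algebraMap F L)]
      exact fun h => hchar ((algebraMap F L).injective (h.trans (map_zero _).symm))
    have hle : Module.finrank L V ≤ d / orderOf (Nat.card F : ZMod p) := by
      rw [Nat.le_div_iff_mul_le (Nat.pos_of_dvd_of_pos hed hL0), ← hd, ← hmul, mul_comm]
      exact Nat.mul_le_mul_right _ (Nat.le_of_dvd hL0 hed)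
    rw [eq_bot_iff]
    intro g hg
    have h := bound p (Module.finrank L V) L V (P ⧸ ρ.ker) hpQ hcharL ρ' rfl
      (derivedSeries_antitone _ (Nat.succ_le_succ (Nat.log_mono_right hle)) hg)
    exact Subgroup.mem_bot.2 (hinj ((hker g (MonoidHom.mem_ker.1 h)).trans (map_one ρ₁).symm))

/-- Let F be a field with q elements, p a prime not dividing q, and e the multiplicative order of q modulo p; assume e ≤ n. Then every p-subgroup of GL_n(F) has derived length at most ⌊log₂(n/e)⌋ + 1: that term of its derived series is trivial (n/e is the integer quotient). -/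
theorem result {F : Type*} [Field F] [Fintype F] (q : ℕ) (hF : Fintype.card F = q) (p : ℕ) [Fact p.Prime] (hpq : ¬ p ∣ q) (n e : ℕ) (he : e = orderOf (q : ZMod p)) (hen : e ≤ n) (P : Subgroup (GL (Fin n) F)) (hP : IsPGroup p P) : derivedSeries ↥P (Nat.log 2 (n / e) + 1) = ⊥ := by
  have hchar : (p : F) ≠ 0 := by
    intro h
    obtain ⟨r, hr⟩ := CharP.exists F
    have := (CharP.cast_eq_zero_iff F r p).1 h
    have hr1 : r ≠ 1 := CharP.ringChar_ne_one (R := F) ∘ fun h1 => by subst h1; exact ringChar.eq F 1
    have hrp : r = p := ((Nat.dvd_prime Fact.out).1 this).resolve_left hr1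
    subst hrp
    apply hpq
    rw [← hF, ← CharP.cast_eq_zero_iff F r]
    exact FiniteField.cast_card_eq_zero F
  let ρ : ↥P →* Module.End F (Fin n → F) :=
    ((Matrix.toLinAlgEquiv' : Matrix (Fin n) (Fin n) F ≃ₐ[F] _).toAlgHom.toMonoidHom).comp
      ((Units.coeHom _).comp P.subtype)
  have hinj : Function.Injective ρ := fun a b h =>
    Subtype.ext (Units.ext (Matrix.toLinAlgEquiv'.injective h))
  have h := main hchar n (Fin n → F) ↥P hP ρ (Module.finrank_fin_fun F)
  rw [Nat.card_eq_fintype_card, hF, ← he, (MonoidHom.ker_eq_bot_iff ρ).2 hinj, le_bot_iff] at h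
  exact h

end Cfsg.Agent.S4417
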