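import Cfsg.Statements.S4419
import Cfsg.Agent.Lib.Transfer.Frobenius
import Cfsg.Agent.Lib.Coprime.Commutator
import Cfsg.Agent.Lib.PGroups.Frattini
import Cfsg.Agent.Lib.Cores.Basic

set_option autoImplicit false
open Cfsg

namespace Cfsg.Agent.S4419

open Subgroup

variable {G : Type*} [Group G] [Finite G] {p : ℕ} [hp : Fact p.Prime]

theorem exists_two_generators {T : Type*} [Group T] (hT : Cfsg.IsMetacyclic T) (Q : Subgroup T) :
    ∃ a ∈ Q, ∃ b ∈ Q, ∀ x ∈ Q, ∃ i j : ℤ, x = a ^ i * b ^ j := by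
  obtain ⟨N, hN, hNc, hQc⟩ := hT
  have : IsCyclic ↥(Q ⊓ N) :=
    isCyclic_of_injective (Subgroup.inclusion inf_le_right) (Subgroup.inclusion_injective inf_le_right)
  obtain ⟨a, ha⟩ := IsCyclic.exists_generator (α := ↥(Q ⊓ N))
  let π := QuotientGroup.mk' N
  have : IsCyclic ↥(Q.map π) := inferInstance
  obtain ⟨⟨c, b, hb, rfl⟩, hc⟩ := IsCyclic.exists_generator (α := ↥(Q.map π))
  refine ⟨a, a.2.1, b, hb, fun x hx => ?_⟩
  obtain ⟨j, hj⟩ := hc ⟨π x, mem_map_of_mem π hx⟩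
  have h1 : x * (b ^ j)⁻¹ ∈ Q ⊓ N := by
    refine ⟨Q.mul_mem hx (Q.inv_mem (Q.zpow_mem hb j)), ?_⟩
    show x * (b ^ j)⁻¹ ∈ N
    rw [← QuotientGroup.eq_one_iff, ← QuotientGroup.mk'_apply, map_mul, map_inv, map_zpow]
    have := congrArg Subtype.val hj
    simp only [SubgroupClass.coe_zpow] at this
    rw [show (QuotientGroup.mk' N) x = π x from rfl, ← this, mul_inv_cancel]
  obtain ⟨i, hi⟩ := ha ⟨_, h1⟩
  refine ⟨i, j, ?_⟩
  have := congrArg Subtype.val hi
  simp only [SubgroupClass.coe_zpow] at this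
  rw [this, inv_mul_cancel_right]

theorem card_frattini_quotient_le {Q : Type*} [Group Q] [Finite Q] (hQ : IsPGroup p Q) {a b : Q}
    (hab : ∀ x : Q, ∃ i j : ℤ, x = a ^ i * b ^ j) : Nat.card (Q ⧸ frattini Q) ≤ p * p := by
  have hpp := hp.out
  have hexp : ∀ v : Q ⧸ frattini Q, v ^ (p : ℤ) = 1 := fun v => by
    obtain ⟨g, rfl⟩ := QuotientGroup.mk_surjective v
    rw [zpow_natCast, ← QuotientGroup.mk_pow, QuotientGroup.eq_one_iff]
    exact Lib.PGroups.pow_mem_frattini hQ g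
  have hs : Function.Surjective (fun ij : Fin p × Fin p =>
      (a : Q ⧸ frattini Q) ^ ((ij.1 : ℕ) : ℤ) * (b : Q ⧸ frattini Q) ^ ((ij.2 : ℕ) : ℤ)) := by
    intro v
    obtain ⟨g, rfl⟩ := QuotientGroup.mk_surjective v
    obtain ⟨i, j, rfl⟩ := hab g
    have hpz : (0 : ℤ) < p := by exact_mod_cast hpp.pos
    have hr : ∀ (v : Q ⧸ frattini Q) (i : ℤ), v ^ (i % (p : ℤ)) = v ^ i := fun v i => by
      conv_rhs => rw [← Int.emod_add_mul_ediv i p, zpow_add, zpow_mul, hexp, one_zpow, mul_one]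
    refine ⟨(⟨(i % (p : ℤ)).toNat, ?_⟩, ⟨(j % (p : ℤ)).toNat, ?_⟩), ?_⟩
    · have := Int.emod_lt_of_pos i hpz; have := Int.emod_nonneg i hpz.ne'; omega
    · have := Int.emod_lt_of_pos j hpz; have := Int.emod_nonneg j hpz.ne'; omega
    · simp only [Int.toNat_of_nonneg (Int.emod_nonneg _ hpz.ne'), hr]
      simp
  refine (Nat.card_le_card_of_surjective _ hs).trans ?_
  simp

/-- An element of prime power order normalizing but not centralizing a two-generated `p`-subgroup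
has order divisible by a prime divisor of `p ^ 2 - 1`. -/
theorem dvd_of_nontrivial_action {Q : Subgroup G} (hQ : IsPGroup p Q) {a b : G} (haQ : a ∈ Q)
    (hbQ : b ∈ Q) (hab : ∀ x ∈ Q, ∃ i j : ℤ, x = a ^ i * b ^ j) {h : G} {r e : ℕ} (hr : r.Prime)
    (hrp : r ≠ p) (hh : orderOf h = r ^ e) (hN : h ∈ normalizer (Q : Set G))
    (hC : h ∉ centralizer (Q : Set G)) : r ∣ p ^ 2 - 1 := by
  have hpp := hp.out
  have := Fact.mk hr
  let θ : MulAut ↥Q := Q.normalizerMonoidHom ⟨h, hN⟩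
  let ρ : MulAut ↥Q →* MulAut (↥Q ⧸ frattini ↥Q) :=
    { toFun := fun f => QuotientGroup.congr _ _ f ((characteristic_iff_map_eq.1 inferInstance) f)
      map_one' := by
        ext x; obtain ⟨g, rfl⟩ := QuotientGroup.mk_surjective x; rfl
      map_mul' := fun f g => by
        ext x; obtain ⟨u, rfl⟩ := QuotientGroup.mk_surjective x; rfl }
  have hθ : θ ^ (r ^ e) = 1 := by
    rw [← map_pow, show (⟨h, hN⟩ : normalizer (Q : Set G)) ^ (r ^ e) = 1 from Subtype.ext (by
      simp [← hh, pow_orderOf_eq_one]), map_one]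
  have hφ1 : ρ θ ≠ 1 := by
    intro h1
    refine hC ?_
    obtain ⟨n, hn⟩ := IsPGroup.iff_card.1 (hQ.to_subgroup (frattini ↥Q))
    refine Lib.Coprime.le_centralizer_of_frattini (A := zpowers h) (K := Q) (zpowers_le.2 hN) ?_ ?_
      (mem_zpowers h)
    · rw [Nat.card_zpowers, hh, hn]
      exact ((Nat.coprime_primes hr hpp).2 hrp).pow e n
    · intro u hu k hk
      obtain ⟨i, rfl⟩ := mem_zpowers_iff.1 hu
      have h2 : (ρ θ) ^ i = 1 := by rw [h1, one_zpow]
      rw [← map_zpow] at h2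
      have h3 := congrArg (fun f : MulAut (↥Q ⧸ frattini ↥Q) => f ((⟨k, hk⟩ : ↥Q) : ↥Q ⧸ frattini ↥Q)) h2
      have h4 : ((θ ^ i) ⟨k, hk⟩) * (⟨k, hk⟩ : ↥Q)⁻¹ ∈ frattini ↥Q := by
        rw [← QuotientGroup.eq_one_iff, QuotientGroup.mk_mul, QuotientGroup.mk_inv, mul_inv_eq_one]
        exact h3
      refine ⟨_, h4, ?_⟩
      have h5 : θ ^ i = Q.normalizerMonoidHom (⟨h, hN⟩ ^ i) := (map_zpow _ _ _).symm
      simp [h5]
      rw [← map_zpow]
      rfl
  set φ := ρ θ with hφ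
  have hord : orderOf φ ∣ r ^ e := orderOf_dvd_of_pow_eq_one (by rw [hφ, ← map_pow, hθ, map_one])
  obtain ⟨c, hce, hc⟩ := (Nat.dvd_prime_pow hr).1 hord
  have hc0 : c ≠ 0 := fun h0 => hφ1 (orderOf_eq_one_iff.1 (by rw [hc, h0, pow_zero]))
  obtain ⟨c, rfl⟩ : ∃ d, c = d + 1 := ⟨c - 1, by omega⟩
  let ψ := φ ^ (r ^ c)
  have hψ : orderOf ψ = r := by
    rw [orderOf_pow' _ (pow_ne_zero _ hr.ne_zero), hc, pow_succ,
      Nat.gcd_eq_right (dvd_mul_right _ _), Nat.mul_div_cancel_left _ (pow_pos hr.pos _)]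
  have hmod := (IsPGroup.of_card (p := r) (n := 1) (G := zpowers ψ)
    (by rw [Nat.card_zpowers, hψ, pow_one])).card_modEq_card_fixedPoints (↥Q ⧸ frattini ↥Q)
  let F : Subgroup (↥Q ⧸ frattini ↥Q) := ψ.toMonoidHom.eqLocus (MonoidHom.id _)
  have hfix : Nat.card (MulAction.fixedPoints (zpowers ψ) (↥Q ⧸ frattini ↥Q)) = Nat.card F := by
    refine Nat.card_congr (Equiv.setCongr (Set.ext fun v => ⟨fun hv => ?_, fun hv => ?_⟩))
    · exact hv ⟨ψ, mem_zpowers ψ⟩
    · rintro ⟨u, hu⟩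
      obtain ⟨i, rfl⟩ := mem_zpowers_iff.1 hu
      have hstab : ψ ∈ MulAction.stabilizer (MulAut (↥Q ⧸ frattini ↥Q)) v := hv
      exact (zpow_mem hstab i : _)
  rw [hfix] at hmod
  obtain ⟨a', ha'⟩ : ∃ i, Nat.card (↥Q ⧸ frattini ↥Q) = p ^ i :=
    IsPGroup.iff_card.1 (hQ.to_quotient _)
  have ha2 : a' ≤ 2 := by
    have h1 := card_frattini_quotient_le (hQ) (a := ⟨a, haQ⟩) (b := ⟨b, hbQ⟩) fun x => by
      obtain ⟨i, j, hij⟩ := hab x x.2
      exact ⟨i, j, Subtype.ext (by simpa using hij)⟩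
    rw [ha', ← sq] at h1
    exact (Nat.pow_le_pow_iff_right hpp.one_lt).1 h1
  obtain ⟨f, hfa, hf⟩ := (Nat.dvd_prime_pow hpp).1 (ha' ▸ F.card_subgroup_dvd_card)
  have hne : f ≠ a' := by
    rintro rfl
    have htop : F = ⊤ := Subgroup.eq_top_of_card_eq _ (by rw [hf, ha'])
    have : ψ = 1 := MulEquiv.ext fun v => (htop ▸ mem_top v : v ∈ F)
    rw [this, orderOf_one] at hψ
    exact hr.one_lt.ne hψ
  rw [ha', hf] at hmod
  have hd : r ∣ p ^ a' - p ^ f :=
    (Nat.modEq_iff_dvd' (Nat.pow_le_pow_right hpp.pos hfa)).1 hmod.symm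
  have hsq : p ^ 2 - 1 = (p + 1) * (p - 1) := by
    have := Nat.sq_sub_sq p 1
    simpa using this
  have h1 : p ^ a' - p ^ f = p ^ f * (p ^ (a' - f) - 1) := by
    rw [Nat.mul_sub, ← pow_add, Nat.add_sub_cancel' hfa, mul_one]
  rw [h1] at hd
  have hd2 : r ∣ p ^ (a' - f) - 1 :=
    (Nat.Coprime.dvd_mul_left (((Nat.coprime_primes hr hpp).2 hrp).pow_right f)).1 hd
  obtain h3 | h3 : a' - f = 1 ∨ a' - f = 2 := by omega
  · rw [h3, pow_one] at hd2; exact hsq ▸ hd2.mul_left _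
  · rw [h3] at hd2; exact hd2

theorem isPGroup_pPrimePCore_quotient (x : G) (hx : x ∈ pPrimePCore p G) :
    ∃ k : ℕ, x ^ p ^ k ∈ pPrimeCore p G := by
  obtain ⟨k, hk⟩ := Lib.Cores.pCore_isPGroup (G := G ⧸ pPrimeCore p G) p ⟨_, hx⟩
  refine ⟨k, (QuotientGroup.eq_one_iff _).1 ?_⟩
  have := congrArg Subtype.val hk
  simpa using this

/-- Let p be a prime and G a finite group whose Sylow p-subgroups are metacyclic (a cyclic normal subgroup with cyclic quotient). Then G has a normal p-complement if and only if the order of G/O_{p′,p}(G) is coprime to p² − 1. -/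
theorem result {G : Type*} [Group G] [Finite G] (p : ℕ) [Fact p.Prime] (S : Sylow p G) (hS : Cfsg.IsMetacyclic ↥(S : Subgroup G)) : Cfsg.HasNormalPComplement p G ↔ Nat.Coprime (Nat.card (G ⧸ Cfsg.pPrimePCore p G)) (p ^ 2 - 1) := by
  have hpp : p.Prime := Fact.out
  constructor
  · rintro ⟨P, N, hN, hNP⟩
    have hNc : N ≤ pPrimeCore p G := Lib.Cores.le_pPrimeCore_of_not_dvd (by
      rw [← hNP.index_eq_card]; exact P.not_dvd_index)
    have hq : IsPGroup p (G ⧸ pPrimeCore p G) := by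
      have h1 : IsPGroup p (G ⧸ N) := by
        obtain ⟨n, hn⟩ := IsPGroup.iff_card.1 P.isPGroup'
        exact IsPGroup.of_card (n := n) (by rw [← Subgroup.index_eq_card, hNP.symm.index_eq_card, hn])
      exact h1.of_surjective (QuotientGroup.map N _ (MonoidHom.id G) (by simpa using hNc))
        (fun v => by obtain ⟨g, rfl⟩ := QuotientGroup.mk_surjective v; exact ⟨g, rfl⟩)
    have htop : pPrimePCore p G = ⊤ := by
      rw [pPrimePCore, Lib.Cores.pCore_eq_top_iff.2 hq, Subgroup.comap_top]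
    rw [← Subgroup.index_eq_card, htop, Subgroup.index_top]
    exact Nat.coprime_one_left _
  · intro hcop
    haveI : (pPrimePCore p G).Normal := Subgroup.Normal.comap (pCore_normal _ _) _
    refine Lib.Transfer.Frobenius.hasNormalPComplement_of_forall_centralizes fun Q hQ hQ1 g hg hgp => ?_
    by_contra hgC
    -- an element of prime power order
    obtain ⟨h, r, e, hr, hrp, hh, hhN, hhC⟩ : ∃ (h : G) (r e : ℕ), r.Prime ∧ r ≠ p ∧
        orderOf h = r ^ e ∧ h ∈ Subgroup.normalizer (Q : Set G) ∧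
        h ∉ Subgroup.centralizer (Q : Set G) := by
      by_contra hall
      push Not at hall
      apply hgC
      let D := (Subgroup.centralizer (Q : Set G)).subgroupOf (Subgroup.zpowers g)
      have hD : D = ⊤ := by
        apply Subgroup.eq_top_of_card_eq
        refine Nat.dvd_antisymm D.card_subgroup_dvd_card ?_
        rw [Nat.dvd_iff_prime_pow_dvd_dvd]
        intro r k hr hk
        rw [Nat.card_zpowers] at hk
        rcases Nat.eq_zero_or_pos k with rfl | hk0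
        · simp
        have hrp : r ≠ p := fun h => by
          subst h
          exact hr.not_dvd_one (hgp ▸ Nat.dvd_gcd ((dvd_pow_self r hk0.ne').trans hk) dvd_rfl)
        have hh := orderOf_pow_orderOf_div (orderOf_pos g).ne' hk
        have hmem : g ^ (orderOf g / r ^ k) ∈ Subgroup.centralizer (Q : Set G) :=
          hall _ r k hr hrp hh (pow_mem hg _)
        have hD' : (⟨_, pow_mem (Subgroup.mem_zpowers g) (orderOf g / r ^ k)⟩ : Subgroup.zpowers g) ∈ D :=
          hmem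
        have := Subgroup.orderOf_dvd_natCard (s := D) hD'
        rwa [← Subgroup.orderOf_coe, hh] at this
      have : (⟨g, Subgroup.mem_zpowers g⟩ : Subgroup.zpowers g) ∈ D := hD ▸ Subgroup.mem_top _
      exact this
    obtain ⟨T, hT⟩ := hQ.exists_le_sylow
    obtain ⟨u, hu⟩ := MulAction.exists_smul_eq G S T
    subst hu
    let eST := S.equivSMul u
    obtain ⟨a, ha, b, hb, hab⟩ := exists_two_generators hS
      ((Q.subgroupOf ((u • S : Sylow p G) : Subgroup G)).comap eST.toMonoidHom)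
    have hdiv : r ∣ p ^ 2 - 1 := by
      refine dvd_of_nontrivial_action hQ (a := (eST a : G)) (b := (eST b : G)) ha hb ?_ hr hrp hh hhN hhC
      intro x hx
      obtain ⟨i, j, hij⟩ := hab (eST.symm ⟨x, hT hx⟩) (by simpa [Subgroup.mem_subgroupOf] using hx)
      refine ⟨i, j, ?_⟩
      have := congrArg (fun v => ((eST v : _) : G)) hij
      simpa using this
    have hM : h ∈ pPrimePCore p G := by
      rw [← QuotientGroup.eq_one_iff, ← orderOf_eq_one_iff]
      refine Nat.eq_one_of_dvd_coprimes (a := r ^ e) (b := Nat.card (G ⧸ pPrimePCore p G)) ?_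
        ((orderOf_map_dvd (QuotientGroup.mk' _) h).trans (dvd_of_eq hh)) (orderOf_dvd_natCard _)
      exact (((hcop.coprime_dvd_right hdiv)).symm).pow_left e
    have hhO : h ∈ pPrimeCore p G := by
      obtain ⟨k, hk⟩ := isPGroup_pPrimePCore_quotient h hM
      rw [← QuotientGroup.eq_one_iff] at hk ⊢
      rw [QuotientGroup.mk_pow] at hk
      rw [← orderOf_eq_one_iff]
      exact Nat.eq_one_of_dvd_coprimes (((Nat.coprime_primes hr hpp).2 hrp).pow e k)
        ((orderOf_map_dvd (QuotientGroup.mk' _) h).trans (dvd_of_eq hh)) (orderOf_dvd_of_pow_eq_one hk)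
    apply hhC
    rw [Subgroup.mem_centralizer_iff]
    intro x hx
    have h1 : x * h * x⁻¹ * h⁻¹ ∈ pPrimeCore p G :=
      mul_mem (Subgroup.Normal.conj_mem inferInstance h hhO x) (inv_mem hhO)
    have h2 : x * h * x⁻¹ * h⁻¹ ∈ Q := by
      have := (Subgroup.mem_normalizer_iff.1 hhN x⁻¹).1 (inv_mem hx)
      rw [mul_assoc, mul_assoc]
      exact mul_mem hx (by rwa [← mul_assoc])
    have h3 : x * h * x⁻¹ * h⁻¹ = 1 := by
      obtain ⟨n, hn⟩ := IsPGroup.iff_card.1 hQ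
      rw [← orderOf_eq_one_iff]
      exact Nat.eq_one_of_dvd_coprimes (hn ▸ (Lib.Cores.pPrimeCore_coprime (G := G) p).pow_right n)
        ((pPrimeCore p G).orderOf_dvd_natCard h1) (Q.orderOf_dvd_natCard h2)
    rw [mul_inv_eq_one] at h3
    exact mul_inv_eq_iff_eq_mul.1 h3

end Cfsg.Agent.S4419
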