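import Cfsg.Statements.S4420
-- import your own Cfsg.Agent.* helpers here

set_option autoImplicit false
open Cfsg

namespace Cfsg.Agent.S4420

theorem invert_of_sq_eq_one {H : Type*} [Group H] {A : Subgroup H}
    (hD : ∀ x : H, x ∉ A → x ^ 2 = 1) {x a : H} (hx : x ∉ A) (ha : a ∈ A) :
    x * a * x⁻¹ = a⁻¹ := by
  have h1 := hD x hx
  have h2 := hD (x * a) (fun h => hx ((A.mul_mem_cancel_right ha).1 h))
  rw [sq] at h1 h2
  rw [inv_eq_of_mul_eq_one_right h1, eq_inv_iff_mul_eq_one]
  simpa [mul_assoc] using h2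


/-- Structure of groups in which every element outside some proper subgroup has square 1. Let H be a finite group with a proper subgroup A such that every element outside A has square 1. Then H has an abelian normal subgroup B of index 2 such that every element outside B is an involution inverting every element of B; and if H is not an elementary abelian 2-group, B is the only abelian normal subgroup of index 2 with this property. -/
theorem result {H : Type*} [Group H] [Finite H] (A : Subgroup H) (hA : A ≠ ⊤) (hD : ∀ x : H, x ∉ A → x ^ 2 = 1) :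
    ∃ B : Subgroup H, B.Normal ∧ IsMulCommutative ↥B ∧ B.index = 2 ∧
      (∀ x : H, x ∉ B → x ^ 2 = 1 ∧ ∀ b ∈ B, x * b * x⁻¹ = b⁻¹) ∧
      (¬ (IsMulCommutative H ∧ ∀ x : H, x ^ 2 = 1) →
        ∀ B' : Subgroup H, B'.Normal → IsMulCommutative ↥B' → B'.index = 2 →
          (∀ x : H, x ∉ B' → x ^ 2 = 1 ∧ ∀ b ∈ B', x * b * x⁻¹ = b⁻¹) → B' = B) := by
  obtain ⟨x₀, hx₀⟩ : ∃ x : H, x ∉ A := by
    by_contra hall
    push Not at hall
    exact hA (eq_top_iff.2 fun x _ => hall x)
  have hinv : ∀ {x a : H}, x ∉ A → a ∈ A → x * a * x⁻¹ = a⁻¹ := fun hx ha =>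
    invert_of_sq_eq_one hD hx ha
  have hAc : ∀ a ∈ A, ∀ b ∈ A, a * b = b * a := fun a ha b hb => by
    have h := hinv hx₀ (mul_mem ha hb)
    rw [show x₀ * (a * b) * x₀⁻¹ = (x₀ * a * x₀⁻¹) * (x₀ * b * x₀⁻¹) by group, hinv hx₀ ha,
      hinv hx₀ hb, ← mul_inv_rev] at h
    exact (inv_injective h).symm
  by_cases hE : IsMulCommutative H ∧ ∀ x : H, x ^ 2 = 1
  · obtain ⟨hc, hsq⟩ := hE
    have : Nontrivial H := ⟨x₀, 1, fun h => hx₀ (h ▸ A.one_mem)⟩
    obtain ⟨B, hB, -⟩ := (eq_top_or_exists_le_coatom (⊥ : Subgroup H)).resolve_left bot_ne_top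
    have h2 : IsPGroup 2 H := fun x => ⟨1, by rw [pow_one]; exact hsq x⟩
    have hBn : B.Normal := ⟨fun n hn g => by
      rw [hc.1.comm g n, mul_inv_cancel_right]; exact hn⟩
    refine ⟨B, hBn, inferInstance, ?_, fun x hx => ⟨hsq x, fun b hb => ?_⟩, fun h => (h ⟨hc, hsq⟩).elim⟩
    · have := Fact.mk Nat.prime_two
      obtain ⟨y, hy⟩ : ∃ y : H, y ∉ B := by
        by_contra hall
        push Not at hall
        exact hB.1 (eq_top_iff.2 fun x _ => hall x)
      rw [Subgroup.index_eq_two_iff]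
      refine ⟨y, fun b => ?_⟩
      by_cases hb : b ∈ B
      · exact Or.inr ⟨hb, fun h => hy ((B.mul_mem_cancel_left hb).1 h)⟩
      · refine Or.inl ⟨?_, hb⟩
        have htop : B ⊔ Subgroup.zpowers y = ⊤ :=
          hB.2 _ (lt_of_le_of_ne le_sup_left fun he =>
            hy (he ▸ Subgroup.mem_sup_right (Subgroup.mem_zpowers y)))
        obtain ⟨u, hu, v, hv, huv⟩ := Subgroup.mem_sup_of_normal_left.1
          (htop ▸ Subgroup.mem_top b)
        obtain ⟨k, rfl⟩ := Subgroup.mem_zpowers_iff.1 hv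
        have hy2 : y ^ (2 : ℤ) = 1 := by exact_mod_cast hsq y
        rcases Int.even_or_odd k with ⟨m, rfl⟩ | ⟨m, rfl⟩
        · rw [← two_mul, zpow_mul, hy2, one_zpow, mul_one] at huv
          exact absurd (huv ▸ hu) hb
        · rw [zpow_add, zpow_mul, hy2, one_zpow, one_mul, zpow_one] at huv
          rw [← huv, mul_assoc, ← sq, hsq, mul_one]
          exact hu
    · rw [hc.1.comm x b, mul_inv_cancel_right]
      exact eq_inv_of_mul_eq_one_left (by rw [← sq]; exact hsq b)
  · have hprod : ∀ x y : H, x ∉ A → y ∉ A → x * y ∈ A := fun x y hx hy => by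
      by_contra hxy
      apply hE
      have hA2 : ∀ a ∈ A, a ^ 2 = 1 := fun a ha => by
        have h1 := hinv hxy ha
        have h2 : x * y * a * (x * y)⁻¹ = a := by
          rw [show x * y * a * (x * y)⁻¹ = x * (y * a * y⁻¹) * x⁻¹ by group, hinv hy ha,
            hinv hx (inv_mem ha), inv_inv]
        rw [h2] at h1
        rw [sq]
        nth_rw 2 [h1]
        exact mul_inv_cancel a
      have hall : ∀ z : H, z ^ 2 = 1 := fun z => by
        by_cases hz : z ∈ A
        exacts [hA2 z hz, hD z hz]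
      exact ⟨⟨⟨fun a b => by
        have i : ∀ z : H, z⁻¹ = z := fun z => inv_eq_of_mul_eq_one_right (by rw [← sq, hall])
        rw [← i (a * b), mul_inv_rev, i, i]⟩⟩, hall⟩
    have hidx : A.index = 2 := by
      rw [Subgroup.index_eq_two_iff]
      refine ⟨x₀, fun b => ?_⟩
      by_cases hb : b ∈ A
      · exact Or.inr ⟨hb, fun h => hx₀ ((A.mul_mem_cancel_left hb).1 h)⟩
      · exact Or.inl ⟨hprod b x₀ hb hx₀, hb⟩
    refine ⟨A, Subgroup.normal_of_index_eq_two hidx, ⟨⟨fun a b => Subtype.ext (hAc a a.2 b b.2)⟩⟩,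
      hidx, fun x hx => ⟨hD x hx, fun a ha => hinv hx ha⟩, fun _ B' hB'n hB'c hB'i hB' => ?_⟩
    by_contra hne
    apply hE
    obtain ⟨y, hyB, hyA⟩ : ∃ y ∈ B', y ∉ A := by
      by_contra hall
      push Not at hall
      apply hne
      refine le_antisymm hall (fun a ha => ?_)
      by_contra haB
      have hdvd := Subgroup.relIndex_mul_index (show B' ≤ A from hall)
      rw [hidx, hB'i] at hdvd
      exact haB (Subgroup.relIndex_eq_one.1 (by omega) ha)
    have hsq : ∀ z : H, z ^ 2 = 1 := fun z => by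
      by_cases hz : z ∈ A
      · by_cases hzB : z ∈ B'
        · have h1 := hinv hyA hz
          have hcomm : y * z = z * y :=
            Subtype.ext_iff.1 (hB'c.1.comm ⟨y, hyB⟩ ⟨z, hzB⟩)
          rw [hcomm, mul_inv_cancel_right] at h1
          rw [sq]
          nth_rw 2 [h1]
          exact mul_inv_cancel z
        · exact (hB' z hzB).1
      · exact hD z hz
    exact ⟨⟨⟨fun a b => by
      have i : ∀ z : H, z⁻¹ = z := fun z => inv_eq_of_mul_eq_one_right (by rw [← sq, hsq])
      rw [← i (a * b), mul_inv_rev, i, i]⟩⟩, hsq⟩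

end Cfsg.Agent.S4420
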