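import Cfsg.Statements.S4421
-- import your own Cfsg.Agent.* helpers here

set_option autoImplicit false
open Cfsg

namespace Cfsg.Agent.S4421

theorem map_conj_mul {G : Type*} [Group G] (K : Subgroup G) (a b : G) :
    K.map (MulAut.conj (a * b)).toMonoidHom =
      (K.map (MulAut.conj b).toMonoidHom).map (MulAut.conj a).toMonoidHom := by
  rw [Subgroup.map_map, map_mul]
  rfl

theorem map_conj_one {G : Type*} [Group G] (K : Subgroup G) :
    K.map (MulAut.conj (1 : G)).toMonoidHom = K := by
  rw [map_one]
  exact K.map_id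

theorem map_conj_eq_iff {G : Type*} [Group G] (K : Subgroup G) (g : G) :
    K.map (MulAut.conj g).toMonoidHom = K ↔ g ∈ Subgroup.normalizer (K : Set G) := by
  rw [Subgroup.mem_normalizer_iff]
  constructor
  · intro h k
    constructor
    · intro hk
      rw [← h]
      exact ⟨k, hk, rfl⟩
    · intro hk
      rw [← h] at hk
      obtain ⟨k', hk', he⟩ := hk
      have : k' = k := by simpa using he
      exact this ▸ hk'
  · intro h
    ext k
    constructor
    · rintro ⟨k', hk', rfl⟩
      exact (h k').1 hk'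
    · intro hk
      exact ⟨g⁻¹ * k * g, (h _).2 (by simpa [mul_assoc] using hk), by simp [mul_assoc]⟩


/-- A factorization of a normalizer from two-step control of fusion. Let `G` be a finite group and `A ≤ S ≤ H` subgroups of `G` such that: (i) `S` controls the `G`-fusion of `A` in the sense that every `G`-conjugate of `A` lying in `S` is an `S`-conjugate of `A`; (ii) `H` controls the `G`-fusion of `S` in the same sense; (iii) every conjugate of `S` by an element of the normalizer of `A` lies in `H`. Then `N_G(A) = N_H(A) · (N_G(S) ∩ N_G(A))`: every element of the normalizer of `A` is a product of an element of `H` normalizing `A` and an element normalizing both `S` and `A`. -/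
theorem result {G : Type*} [Group G] [Finite G] (A S H : Subgroup G)
    (hAS : A ≤ S) (hSH : S ≤ H)
    (h1 : ∀ g : G, A.map (MulAut.conj g).toMonoidHom ≤ S → ∃ s ∈ S, A.map (MulAut.conj g).toMonoidHom = A.map (MulAut.conj s).toMonoidHom)
    (h2 : ∀ g : G, S.map (MulAut.conj g).toMonoidHom ≤ H → ∃ y ∈ H, S.map (MulAut.conj g).toMonoidHom = S.map (MulAut.conj y).toMonoidHom)
    (h3 : ∀ x ∈ Subgroup.normalizer (A : Set G), S.map (MulAut.conj x).toMonoidHom ≤ H) :
    ∀ x ∈ Subgroup.normalizer (A : Set G), ∃ y ∈ H ⊓ Subgroup.normalizer (A : Set G),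
      ∃ z ∈ Subgroup.normalizer (S : Set G) ⊓ Subgroup.normalizer (A : Set G), x = y * z := by
  intro x hx
  obtain ⟨y, hy, hxy⟩ := h2 x (h3 x hx)
  have hz : y⁻¹ * x ∈ Subgroup.normalizer (S : Set G) := by
    rw [← map_conj_eq_iff, map_conj_mul, hxy, ← map_conj_mul, inv_mul_cancel, map_conj_one]
  set z := y⁻¹ * x with hzdef
  obtain ⟨s, hs, hzs⟩ := h1 z (by
    calc A.map (MulAut.conj z).toMonoidHom ≤ S.map (MulAut.conj z).toMonoidHom :=
          Subgroup.map_mono hAS
      _ = S := (map_conj_eq_iff S z).2 hz)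
  have hz' : s⁻¹ * z ∈ Subgroup.normalizer (A : Set G) := by
    rw [← map_conj_eq_iff, map_conj_mul, hzs, ← map_conj_mul, inv_mul_cancel, map_conj_one]
  refine ⟨y * s, Subgroup.mem_inf.2 ⟨mul_mem hy (hSH hs), ?_⟩, s⁻¹ * z,
    Subgroup.mem_inf.2 ⟨mul_mem (inv_mem (Subgroup.le_normalizer hs)) hz, hz'⟩, by
      rw [hzdef]; group⟩
  have h := mul_mem hx (inv_mem hz')
  rwa [show x * (s⁻¹ * z)⁻¹ = y * s by rw [hzdef]; group] at h

end Cfsg.Agent.S4421
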