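import Cfsg.Statements.S4423
import Cfsg.Agent.Lib.NumberTheory.Zsigmondy
-- import your own Cfsg.Agent.* helpers here

set_option autoImplicit false
open Cfsg

namespace Cfsg.Agent.S4423

theorem exceptions_spec : ∀ x ∈ [((2 : ℕ), (6 : ℕ)), (2, 4), (2, 10), (2, 12), (2, 18), (3, 4),
    (3, 6), (5, 6), (2, 3), (2, 8), (2, 20), (4, 3), (4, 6)],
    ∃ w : ℕ × ℕ, 0 < w.1 ∧ w.1 * w.2 = x.1 ^ x.2 - 1 ∧
      w.2 ∣ ∏ i ∈ Finset.Ico 1 x.2, (x.1 ^ i - 1) ∧ w.1 ≤ 2 * x.2 + 1 := by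
  simp only [List.forall_mem_cons, List.not_mem_nil, false_implies, implies_true, and_true]
  refine ⟨⟨(1, 63), ?_⟩, ⟨(5, 3), ?_⟩, ⟨(11, 93), ?_⟩, ⟨(13, 315), ?_⟩, ⟨(19, 13797), ?_⟩,
    ⟨(5, 16), ?_⟩, ⟨(7, 104), ?_⟩, ⟨(7, 2232), ?_⟩, ⟨(7, 1), ?_⟩, ⟨(17, 15), ?_⟩,
    ⟨(41, 25575), ?_⟩, ⟨(7, 9), ?_⟩, ⟨(13, 315), ?_⟩⟩
  all_goals decide +kernel

/-- Size of the primitive part of `q^e - 1`. For a prime power `q` and `e ≥ 3`, call a divisor of `q^e - 1` primitive when it is coprime to `q^i - 1` for every `1 ≤ i < e`; the primitive part is the largest primitive divisor. Apart from thirteen exceptional pairs, the primitive part is at least `3e + 1`: there is a primitive divisor `m ≥ 3e + 1` unless `(q, e)` is `(2, 6)` (where every primitive divisor is 1), one of `(2,4), (2,10), (2,12), (2,18), (3,4), (3,6), (5,6)` (where the primitive part is exactly `e + 1`), or one of `(2,3), (2,8), (2,20), (4,3), (4,6)` (where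 it is exactly `2e + 1`). The statement asserts the existence of a primitive divisor `m ≥ 3e + 1` outside the thirteen pairs, and that every primitive divisor is at most `2e + 1` for the thirteen pairs. -/
theorem result (q e : ℕ) (hq : IsPrimePow q) (he : 3 ≤ e) :
    ((q, e) ∉ [(2, 6), (2, 4), (2, 10), (2, 12), (2, 18), (3, 4), (3, 6), (5, 6), (2, 3), (2, 8), (2, 20), (4, 3), (4, 6)] →
      ∃ m : ℕ, m ∣ q ^ e - 1 ∧ (∀ i : ℕ, 1 ≤ i → i < e → Nat.Coprime m (q ^ i - 1)) ∧ 3 * e + 1 ≤ m) ∧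
    ((q, e) ∈ [(2, 6), (2, 4), (2, 10), (2, 12), (2, 18), (3, 4), (3, 6), (5, 6), (2, 3), (2, 8), (2, 20), (4, 3), (4, 6)] →
      ∀ m : ℕ, m ∣ q ^ e - 1 → (∀ i : ℕ, 1 ≤ i → i < e → Nat.Coprime m (q ^ i - 1)) → m ≤ 2 * e + 1) := by
  have hq2 : 2 ≤ q := hq.two_le
  refine ⟨fun h => ?_, fun h m hm hcop => ?_⟩
  · exact ⟨_, Cfsg.Agent.Lib.NumberTheory.primPart_dvd_pow_sub_one (by omega) hq2,
      Cfsg.Agent.Lib.NumberTheory.coprime_primPart he hq2,
      Cfsg.Agent.Lib.NumberTheory.three_mul_add_one_le_primPart he hq2 h⟩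
  · obtain ⟨w, hw, hwN, hwL, hwle⟩ := exceptions_spec (q, e) h
    simp only at hw hwN hwL hwle
    have h1 : Nat.Coprime m w.2 :=
      Nat.Coprime.coprime_dvd_right hwL (Nat.Coprime.prod_right fun i hi => by
        rw [Finset.mem_Ico] at hi
        exact hcop i hi.1 hi.2)
    rw [← hwN] at hm
    exact le_trans (Nat.le_of_dvd hw (h1.dvd_of_dvd_mul_right hm)) hwle

end Cfsg.Agent.S4423
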