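import Cfsg.Statements.S4425
import Cfsg.Agent.Lib.BC77.Reg

set_option autoImplicit false
open Cfsg

namespace Cfsg.Agent.S4425

/-- Let χ be an irreducible character of the finite group G, p a prime, p^a the p-part of the order of G and p^b the p-part of the degree χ(1). Let χ̃ be the class function equal to p^a · χ on p-regular elements and zero on p-singular elements. Then p^(−b) · χ̃ is a generalized character of G, while p^(−(b+1)) · χ̃ is not. -/
theorem result {G : Type*} [Group G] [Finite G] (p : ℕ) [Fact p.Prime] (χ : Cfsg.IrrCharacter G) : Cfsg.IsGeneralizedCharacter G (fun x : G => if p ∣ orderOf x then (0 : ℂ) else ((p ^ ((Nat.card G).factorization p - (Cfsg.charDegree (χ : G → ℂ)).factorization p) : ℕ) : ℂ) * (χ : G → ℂ) x) ∧ ¬ Cfsg.IsGeneralizedCharacter G (fun x : G => if p ∣ orderOf x then (0 : ℂ) else ((p ^ (Nat.card G).factorization p : ℕ) : ℂ) / ((p ^ ((Cfsg.charDegree (χ : G → ℂ)).factorization p + 1) : ℕ) : ℂ) * (χ : G → ℂ) x) := by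
  classical
  obtain ⟨M, hM⟩ := Lib.Blocks.exists_isPModular p Fact.out
  haveI := hM.2.1
  letI := Fintype.ofFinite (Cfsg.IrrCharacter G)
  set a := (Nat.card G).factorization p with ha
  set b := (Cfsg.charDegree (χ : G → ℂ)).factorization p with hb
  have hba : b ≤ a := Lib.Blocks.Contrib.vdeg_le p χ
  have hp0 : (p : ℂ) ≠ 0 := Nat.cast_ne_zero.mpr (Fact.out : p.Prime).ne_zero
  refine ⟨?_, fun hgen => ?_⟩
  · choose k hk using fun φ => Lib.Blocks.Contrib.pow_vdeg_dvd_contribN hM χ φ
    convert Lib.BC77.Reg.isGeneralized_intComb k using 1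
    funext x
    have h := Lib.BC77.Reg.scaled_regular_eq_sum (p := p) χ x
    simp only [hk] at h
    have hb' : ((p : ℂ)) ^ b ≠ 0 := pow_ne_zero _ hp0
    refine mul_left_cancel₀ hb' ?_
    rw [Finset.mul_sum]
    refine Eq.trans ?_ (h.trans (Finset.sum_congr rfl fun φ _ => ?_))
    · rw [← ha]
      split_ifs
      · simp
      · push_cast
        rw [← mul_assoc, ← pow_add, Nat.add_sub_cancel' hba]
    · push_cast
      rw [← mul_assoc]
      rfl
  · obtain ⟨k, hk⟩ := Lib.BC77.Reg.dvd_apply_one hgen fun x hx => if_pos hx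
    rw [if_neg (by simp [(Fact.out : p.Prime).ne_one]), ← ha, Lib.Blocks.Contrib.apply_one_eq p χ] at hk
    push_cast at hk
    rw [show Lib.Blocks.Contrib.vdeg p χ = b from rfl, pow_succ] at hk
    field_simp at hk
    have h2 : (Lib.Blocks.Contrib.udeg p χ : ℤ) = p * k := by
      have : ((Lib.Blocks.Contrib.udeg p χ : ℤ) : ℂ) = ((p * k : ℤ) : ℂ) := by
        push_cast; linear_combination hk
      exact_mod_cast this
    exact Lib.Blocks.Contrib.not_dvd_udeg Fact.out χ (Int.natCast_dvd_natCast.mp ⟨k, h2⟩)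

end Cfsg.Agent.S4425
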