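import Cfsg.Statements.S4426
import Cfsg.Agent.Lib.Blocks.Contrib
-- import your own Cfsg.Agent.* helpers here

set_option autoImplicit false
open Cfsg

namespace Cfsg.Agent.S4426

open Cfsg.Agent.Lib.Blocks.Contrib

/-- Let χ be an irreducible character in the p-block B of the finite group G (relative to a maximal ideal M of the algebraic integers containing p), let p^a be the p-part of the order of G, and let χ̃ be the class function equal to p^a · χ on p-regular elements and zero elsewhere. For ξ ∈ B the inner product [χ̃, ξ] is an integer. The following are equivalent: (a) χ has height zero in B; (b) for some ξ ∈ B the integer [χ̃, ξ] is nonzero and the exact power of p dividing it equals the exact power of p dividing ξ(1); (c) the same holds for every ξ ∈ B. -/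
theorem result {G : Type*} [Group G] [Fintype G] (p : ℕ) [Fact p.Prime] (M : Ideal Cfsg.AlgInt) (hM : Cfsg.IsPModular p M) (B : Set (Cfsg.IrrCharacter G)) (hB : Cfsg.IsPBlock M B) (χ : Cfsg.IrrCharacter G) (hχ : χ ∈ B) : (Cfsg.blockHeight p B (χ : G → ℂ) = 0 ↔ ∃ ξ ∈ B, ∃ n : ℤ, Cfsg.classInner (fun x : G => if p ∣ orderOf x then (0 : ℂ) else ((p ^ (Nat.card G).factorization p : ℕ) : ℂ) * (χ : G → ℂ) x) (ξ : G → ℂ) = (n : ℂ) ∧ n ≠ 0 ∧ padicValInt p n = (Cfsg.charDegree (ξ : G → ℂ)).factorization p) ∧ (Cfsg.blockHeight p B (χ : G → ℂ) = 0 ↔ ∀ ξ ∈ B, ∃ n : ℤ, Cfsg.classInner (fun x : G => if p ∣ orderOf x then (0 : ℂ) else ((p ^ (Nat.card G).factorization p : ℕ) : ℂ) * (χ : G → ℂ) x) (ξ : G → ℂ) = (n : ℂ) ∧ n ≠ 0 ∧ padicValInt p n = (Cfsg.charDegree (ξ : G → ℂ)).factorization p) := by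
  classical
  haveI := hM.2.1
  have hp : p.Prime := Fact.out
  have hinner : ∀ ξ : Cfsg.IrrCharacter G, Cfsg.classInner
      (fun x : G => if p ∣ orderOf x then (0 : ℂ)
        else ((p ^ (Nat.card G).factorization p : ℕ) : ℂ) * (χ : G → ℂ) x) (ξ : G → ℂ) =
        (contribN p χ ξ : ℂ) := by
    intro ξ
    have hm : (primeToCard p G : ℂ) ≠ 0 := Nat.cast_ne_zero.mpr (primeToCard_pos p).ne'
    have hp0 : (p : ℂ) ≠ 0 := Nat.cast_ne_zero.mpr hp.ne_zero
    have h := regSum_eq_contribN p χ ξ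
    rw [regSum_eq_sum] at h
    rw [Cfsg.classInner, Finset.sum_congr rfl fun x _ => show
      (if p ∣ orderOf x then (0 : ℂ)
        else ((p ^ (Nat.card G).factorization p : ℕ) : ℂ) * (χ : G → ℂ) x) *
          (starRingEnd ℂ) ((ξ : G → ℂ) x) =
        (p : ℂ) ^ (Nat.card G).factorization p *
          (if p ∣ orderOf x then 0 else (χ : G → ℂ) x * (ξ : G → ℂ) x⁻¹) by
      rw [Cfsg.Agent.Lib.Characters.Basic.apply_inv
        (Cfsg.Agent.Lib.Characters.Basic.isCharacter_irr ξ)]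
      split_ifs <;> push_cast <;> ring, ← Finset.mul_sum, h, natCast_card_eq p G]
    field_simp
  have hexact : ∀ ξ ∈ B,
      (∃ n : ℤ, Cfsg.classInner (fun x : G => if p ∣ orderOf x then (0 : ℂ)
        else ((p ^ (Nat.card G).factorization p : ℕ) : ℂ) * (χ : G → ℂ) x) (ξ : G → ℂ) = (n : ℂ) ∧
          n ≠ 0 ∧ padicValInt p n = (Cfsg.charDegree (ξ : G → ℂ)).factorization p) ↔
        ¬ (p : ℤ) ^ (vdeg p ξ + 1) ∣ contribN p χ ξ := by
    intro ξ _
    constructor
    · rintro ⟨n, hn, hn0, hv⟩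
      rw [hinner, Int.cast_inj] at hn
      rw [hn, padicValInt_dvd_iff, hv]
      rintro (h | h)
      · exact hn0 h
      · simp only [vdeg] at h
        omega
    · intro h
      refine ⟨contribN p χ ξ, hinner ξ, fun e => h (e ▸ dvd_zero _), ?_⟩
      rw [padicValInt_dvd_iff, not_or] at h
      have h' := (padicValInt_dvd_iff (p := p) (vdeg p ξ) (contribN p χ ξ)).mp
        (pow_vdeg_dvd_contribN_right hM χ ξ)
      have := h'.resolve_left h.1
      simp only [vdeg] at this h
      omega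
  obtain ⟨χ₀, hχ₀, h0⟩ := exists_height_zero (p := p) hB
  have hnone : Cfsg.blockHeight p B (χ : G → ℂ) ≠ 0 → ∀ ξ ∈ B,
      (p : ℤ) ^ (vdeg p ξ + 1) ∣ contribN p χ ξ := by
    intro hh ξ hξ
    rw [Ne, blockHeight_eq_zero_iff hχ] at hh
    have h1 : (p : ℤ) ^ (vdeg p χ₀ + 1) ∣ contribN p χ₀ χ := by
      refine (pow_dvd_pow _ ?_).trans (pow_vdeg_dvd_contribN_right hM χ₀ χ)
      have := minVdeg_le (p := p) hχ
      omega
    have h2 := (dvd_succ_iff hM hB hχ₀ hξ χ).mp h1
    rwa [contribN_comm p ξ χ] at h2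
  constructor
  · constructor
    · intro h
      exact ⟨χ, hχ, (hexact χ hχ).mpr
        (not_dvd_contribN hM hB hχ ((blockHeight_eq_zero_iff hχ).mp h) hχ)⟩
    · rintro ⟨ξ, hξ, h⟩
      by_contra hh
      exact (hexact ξ hξ).mp h (hnone hh ξ hξ)
  · constructor
    · intro h ξ hξ
      exact (hexact ξ hξ).mpr
        (not_dvd_contribN hM hB hχ ((blockHeight_eq_zero_iff hχ).mp h) hξ)
    · intro h
      by_contra hh
      exact (hexact χ₀ hχ₀).mp (h χ₀ hχ₀) (hnone hh χ₀ hχ₀)

end Cfsg.Agent.S4426
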