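import Cfsg.Statements.S4428
import Cfsg.Agent.Lib.Blocks.ContribInduced
import Cfsg.Agent.Lib.BC78.Central
import Cfsg.Agent.Lib.BC78.Roots
-- import your own Cfsg.Agent.* helpers here

set_option autoImplicit false
open Cfsg

namespace Cfsg.Agent.S4428

open Cfsg.Agent.Lib.Blocks Cfsg.Agent.Lib.Blocks.Contrib

/-- Let χ be an irreducible character of height zero in the p-block B of the finite group G (relative to a maximal ideal M of the algebraic integers containing p). Let x be a p-element of G with centralizer C, and let b be a block of C that induces B. Form the class function ϑ(c) = χ(x c) on C and its b-part (the sum over ψ ∈ b of the inner product of ϑ with ψ, times ψ). Then the b-part of ϑ does not vanish identically on the p-regular elements of C. (Compare the second main Theorem, which gives vanishing when b does not induce B.) -/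
theorem result {G : Type*} [Group G] [Finite G] (p : ℕ) [Fact p.Prime] (M : Ideal Cfsg.AlgInt) (hM : Cfsg.IsPModular p M) (B : Set (Cfsg.IrrCharacter G)) (hB : Cfsg.IsPBlock M B) (χ : Cfsg.IrrCharacter G) (hχ : χ ∈ B) (h0 : Cfsg.blockHeight p B (χ : G → ℂ) = 0) (x : G) (hx : ∃ k : ℕ, orderOf x = p ^ k) (b : Set (Cfsg.IrrCharacter (Subgroup.centralizer ({x} : Set G)))) (hb : Cfsg.IsInducedBlock M (Subgroup.centralizer ({x} : Set G)) b B) : ∃ y : Subgroup.centralizer ({x} : Set G), ¬ p ∣ orderOf y ∧ Cfsg.blockPart b (fun c : Subgroup.centralizer ({x} : Set G) => (χ : G → ℂ) (x * (c : G))) y ≠ 0 := by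
  classical
  haveI := hM.2.1
  have hp : p.Prime := Fact.out
  letI := Fintype.ofFinite G
  letI : Fintype (Subgroup.centralizer ({x} : Set G)) := Fintype.ofFinite (Subgroup.centralizer ({x} : Set G))
  letI := Fintype.ofFinite (Cfsg.IrrCharacter (Subgroup.centralizer ({x} : Set G)))
  obtain ⟨k, hk⟩ := hx
  set xH : (Subgroup.centralizer ({x} : Set G)) := ⟨x, Subgroup.mem_centralizer_singleton_iff.mpr rfl⟩
  have hxc : xH ∈ Subgroup.center (Subgroup.centralizer ({x} : Set G)) := Subgroup.mem_center_iff.mpr fun h =>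
    Subtype.ext (Subgroup.mem_centralizer_singleton_iff.mp h.2)
  refine ⟨1, by simp [hp.ne_one], fun h1 => ?_⟩
  have hshift : ∀ (ξ : Cfsg.IrrCharacter (Subgroup.centralizer ({x} : Set G))) (h : (Subgroup.centralizer ({x} : Set G))),
      (ξ : (Subgroup.centralizer ({x} : Set G)) → ℂ) (xH * h) = (ξ : (Subgroup.centralizer ({x} : Set G)) → ℂ) xH / (ξ : (Subgroup.centralizer ({x} : Set G)) → ℂ) 1 * (ξ : (Subgroup.centralizer ({x} : Set G)) → ℂ) h := fun ξ h =>
    Cfsg.Agent.Lib.BC78.Central.char_mul_central ξ.2 hxc h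
  have hinner : ∀ ξ : Cfsg.IrrCharacter (Subgroup.centralizer ({x} : Set G)),
      Cfsg.classInner (fun c : (Subgroup.centralizer ({x} : Set G)) => (χ : G → ℂ) (x * (c : G))) (ξ : (Subgroup.centralizer ({x} : Set G)) → ℂ) =
        (mult (Subgroup.centralizer ({x} : Set G)) χ ξ : ℂ) * ((ξ : (Subgroup.centralizer ({x} : Set G)) → ℂ) xH / (ξ : (Subgroup.centralizer ({x} : Set G)) → ℂ) 1) := by
    intro ξ
    rw [show (fun c : (Subgroup.centralizer ({x} : Set G)) => (χ : G → ℂ) (x * (c : G))) =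
        ∑ η : Cfsg.IrrCharacter (Subgroup.centralizer ({x} : Set G)),
          ((mult (Subgroup.centralizer ({x} : Set G)) χ η : ℂ) * ((η : (Subgroup.centralizer ({x} : Set G)) → ℂ) xH / (η : (Subgroup.centralizer ({x} : Set G)) → ℂ) 1)) • (η : (Subgroup.centralizer ({x} : Set G)) → ℂ) from ?_,
      Cfsg.Agent.Lib.Characters.Complete.classInner_irr_sum]
    funext c
    simp only [Finset.sum_apply, Pi.smul_apply, smul_eq_mul]
    have h := restrict_eq_sum (Subgroup.centralizer ({x} : Set G)) χ (xH * c)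
    simp only [Subgroup.coe_mul] at h
    rw [show (x : G) * (c : G) = (xH : G) * (c : G) from rfl, h]
    exact Finset.sum_congr rfl fun η _ => by rw [hshift η c, mul_assoc]
  have hval : ∀ g : (Subgroup.centralizer ({x} : Set G)), Cfsg.blockPart b (fun c : (Subgroup.centralizer ({x} : Set G)) => (χ : G → ℂ) (x * (c : G))) g =
      ∑ ξ ∈ bset b, (mult (Subgroup.centralizer ({x} : Set G)) χ ξ : ℂ) * ((ξ : (Subgroup.centralizer ({x} : Set G)) → ℂ) xH / (ξ : (Subgroup.centralizer ({x} : Set G)) → ℂ) 1) * (ξ : (Subgroup.centralizer ({x} : Set G)) → ℂ) g := by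
    intro g
    simp only [Cfsg.blockPart]
    rw [finsum_mem_bset]
    refine Finset.sum_congr rfl fun ξ _ => ?_
    rw [← hinner ξ]
  have hχ0 := (blockHeight_eq_zero_iff (p := p) hχ).mp h0
  refine not_dvd_sum_mult hM hb hχ hχ0 ?_
  -- the root of unity is congruent to one
  have homega : ∀ ξ : Cfsg.IrrCharacter (Subgroup.centralizer ({x} : Set G)),
      Cfsg.MemLocalIdeal M ((ξ : (Subgroup.centralizer ({x} : Set G)) → ℂ) xH / (ξ : (Subgroup.centralizer ({x} : Set G)) → ℂ) 1 - 1) := by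
    intro ξ
    set w := (ξ : (Subgroup.centralizer ({x} : Set G)) → ℂ) xH / (ξ : (Subgroup.centralizer ({x} : Set G)) → ℂ) 1 with hw
    have hne := Cfsg.Agent.Lib.Characters.Basic.apply_one_ne_zero ξ
    have hpow : ∀ n : ℕ, (ξ : (Subgroup.centralizer ({x} : Set G)) → ℂ) (xH ^ n) = w ^ n * (ξ : (Subgroup.centralizer ({x} : Set G)) → ℂ) 1 := by
      intro n
      induction n with
      | zero => simp
      | succ n ih => rw [pow_succ', hshift, ih, pow_succ']; ring
    have hwn : w ^ p ^ k = 1 := by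
      have := hpow (p ^ k)
      rw [show xH ^ p ^ k = 1 from Subtype.ext (by
        rw [SubmonoidClass.coe_pow, OneMemClass.coe_one, ← hk]
        exact pow_orderOf_eq_one x)] at this
      exact (mul_eq_right₀ hne).mp this.symm
    have hwmem : w ∈ localRing M := mem_localRing_of_isIntegral
      (Cfsg.Agent.Lib.BC78.Roots.isIntegral_of_pow_eq_one (pow_ne_zero _ hp.ne_zero) hwn)
    refine (memLocalIdeal_sub_iff (x := ⟨w, hwmem⟩) (y := 1)).mpr ?_
    rw [map_one]
    exact residue_eq_one_of_pow_eq_one hM (Subtype.ext (by simpa using hwn))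
  set e := minVdeg p b
  have hdeg : ∀ ξ ∈ bset b, ∃ q : ℕ, Cfsg.charDegree (ξ : (Subgroup.centralizer ({x} : Set G)) → ℂ) = p ^ e * q := fun ξ hξ =>
    (pow_dvd_pow p (minVdeg_le (mem_bset.mp hξ))).trans ⟨_, (pow_vdeg_mul_udeg p ξ).symm⟩
  choose q hq using hdeg
  have hint : Cfsg.MemLocalIdeal M
      (∑ ξ ∈ (bset b).attach, (mult (Subgroup.centralizer ({x} : Set G)) χ ξ.1 : ℂ) * (q ξ.1 ξ.2 : ℂ)) := by
    have h2 : ∑ ξ ∈ (bset b).attach, (mult (Subgroup.centralizer ({x} : Set G)) χ ξ.1 : ℂ) * (q ξ.1 ξ.2 : ℂ) *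
        ((ξ.1 : (Subgroup.centralizer ({x} : Set G)) → ℂ) xH / (ξ.1 : (Subgroup.centralizer ({x} : Set G)) → ℂ) 1) = 0 := by
      have h3 := hval 1
      rw [h1, ← Finset.sum_attach] at h3
      refine mul_left_cancel₀ (pow_ne_zero e (Nat.cast_ne_zero.mpr hp.ne_zero : (p : ℂ) ≠ 0)) ?_
      rw [mul_zero, Finset.mul_sum]
      refine Eq.trans (Finset.sum_congr rfl fun ξ _ => ?_) h3.symm
      rw [(Cfsg.Agent.Lib.H80.ClassMult.deg_spec ξ.1).2, hq ξ.1 ξ.2]
      push_cast
      ring
    have h4 := memLocalIdeal_sum (bset b).attach fun ξ _ =>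
      memLocalIdeal_mul_left (mul_mem (natCast_mem (localRing M) (mult (Subgroup.centralizer ({x} : Set G)) χ ξ.1))
        (natCast_mem _ (q ξ.1 ξ.2))) (homega ξ.1)
    simp only [mul_sub, mul_one, Finset.sum_sub_distrib, h2, zero_sub] at h4
    simpa using memLocalIdeal_neg h4
  rw [show (∑ ξ ∈ (bset b).attach, (mult (Subgroup.centralizer ({x} : Set G)) χ ξ.1 : ℂ) * (q ξ.1 ξ.2 : ℂ)) =
      ((∑ ξ ∈ (bset b).attach, (mult (Subgroup.centralizer ({x} : Set G)) χ ξ.1 : ℤ) * (q ξ.1 ξ.2 : ℤ) : ℤ) : ℂ) by push_cast; rfl,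
    memLocalIdeal_intCast_iff hM] at hint
  rw [← Finset.sum_attach, Finset.sum_congr rfl fun ξ _ => show
    (mult (Subgroup.centralizer ({x} : Set G)) χ ξ.1 : ℤ) * (Cfsg.charDegree (ξ.1 : (Subgroup.centralizer ({x} : Set G)) → ℂ) : ℤ) =
      (p : ℤ) ^ e * ((mult (Subgroup.centralizer ({x} : Set G)) χ ξ.1 : ℤ) * (q ξ.1 ξ.2 : ℤ)) by
      rw [hq ξ.1 ξ.2]; push_cast; ring, ← Finset.mul_sum, pow_succ]
  exact mul_dvd_mul_left _ hint

end Cfsg.Agent.S4428
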