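import Cfsg.Statements.S4429
import Cfsg.Agent.Lib.RecogThree.M11.Degrees

set_option autoImplicit false
open Cfsg

namespace Cfsg.Agent.S4429

/-- Let G be a simple group of order 7920. Then G has exactly ten irreducible complex characters, and their degrees, listed with multiplicity, are 1, 10, 10, 10, 11, 16, 16, 44, 45, 55: for every natural number n, the number of irreducible characters of degree n is 1 if n ∈ {1, 11, 44, 45, 55}, 3 if n = 10, 2 if n = 16, and 0 otherwise. -/
theorem result {G : Type*} [Group G] [Finite G] [IsSimpleGroup G] (hG : Nat.card G = 7920) : Nat.card (Cfsg.IrrCharacter G) = 10 ∧ ∀ n : ℕ, Nat.card {χ : Cfsg.IrrCharacter G // Cfsg.charDegree (χ : G → ℂ) = n} = (if n = 1 ∨ n = 11 ∨ n = 44 ∨ n = 45 ∨ n = 55 then 1 else if n = 10 then 3 else if n = 16 then 2 else 0) := by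
  classical
  haveI : Fact (Nat.Prime 11) := ⟨by norm_num⟩
  letI : Fintype (Cfsg.IrrCharacter G) := @Fintype.ofFinite _ (by
    haveI := Fintype.ofFinite G; infer_instance)
  obtain ⟨P⟩ := (inferInstance : Nonempty (Sylow 11 G))
  obtain ⟨x, y, hx, hy, hyx, -⟩ := Cfsg.Agent.Lib.RecogThree.M11.Local.exists_xy hG P
  obtain ⟨T⟩ := Cfsg.Agent.Lib.RecogThree.M11.Degrees.exists_table hG hx hy hyx
  have hd := T.degs
  refine ⟨?_, fun n => ?_⟩
  · have := congrArg Multiset.card hd
    rw [Multiset.card_map, Finset.card_val, Finset.card_univ] at this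
    rw [Nat.card_eq_fintype_card, this]
    rfl
  · have hc := congrArg (Multiset.count (n : ℤ)) hd
    rw [Multiset.count_map] at hc
    have hl : Nat.card {χ : Cfsg.IrrCharacter G // Cfsg.charDegree (χ : G → ℂ) = n} =
        Multiset.count (n : ℤ) ({1, 45, 10, 10, 10, 16, 16, 11, 44, 55} : Multiset ℤ) := by
      rw [← hc, Nat.card_eq_fintype_card, Fintype.card_subtype, ← Finset.filter_val, Finset.card_val]
      refine congrArg Finset.card (Finset.filter_congr fun χ _ => ?_)
      simp [Cfsg.Agent.Lib.Classif.PrimeExceptional.deg, eq_comm]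
    rw [hl]
    by_cases hn : n ≤ 55
    · clear hc hl hd
      interval_cases n <;> decide
    · rw [Multiset.count_eq_zero.mpr, if_neg (by omega), if_neg (by omega), if_neg (by omega)]
      simp only [Multiset.insert_eq_cons, Multiset.mem_cons, Multiset.mem_singleton]
      omega

end Cfsg.Agent.S4429
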