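import Cfsg.Statements.S4430
import Cfsg.Agent.Lib.Blocks.DefectGroup
import Cfsg.Agent.Lib.BrauerMap.Induced
import Cfsg.Agent.Lib.Induced.Character
-- import your own Cfsg.Agent.* helpers here

set_option autoImplicit false
open Cfsg

namespace Cfsg.Agent.S4430

open Lib.Blocks
open scoped ComplexConjugate

/-- Exponents of `p` in two naturals with a ratio in the local ring. -/
theorem factorization_of_ratio {p : ℕ} {M : Ideal Cfsg.AlgInt} [M.IsMaximal]
    (hM : Cfsg.IsPModular p M) {n d : ℕ} (hn : n ≠ 0) (hd : d ≠ 0) (u : localRing M)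
    (h : (n : ℂ) = (d : ℂ) * (u : ℂ)) :
    d.factorization p ≤ n.factorization p ∧
      (residue M u = 0 ↔ d.factorization p < n.factorization p) := by
  haveI := charP_residue hM
  haveI := Fact.mk hM.1
  letI := Ideal.Quotient.field M
  obtain ⟨j, d', hd', rfl⟩ := Nat.exists_eq_pow_mul_and_not_dvd hd p hM.1.ne_one
  have hp : (p : ℂ) ^ j ≠ 0 := pow_ne_zero _ (Nat.cast_ne_zero.mpr hM.1.ne_zero)
  have hdvd : p ^ j ∣ n := by
    refine pow_dvd_of_div_mem_localRing hM ?_
    rw [h, Nat.cast_mul, Nat.cast_pow, mul_assoc, mul_div_cancel_left₀ _ hp]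
    exact mul_mem (natCast_mem _ d') u.2
  obtain ⟨m, rfl⟩ := hdvd
  have hm : m ≠ 0 := right_ne_zero_of_mul hn
  have hmu : ((m : localRing M)) = (d' : localRing M) * u := by
    apply Subtype.ext
    rw [Nat.cast_mul, Nat.cast_mul, Nat.cast_pow, mul_assoc] at h
    push_cast
    exact mul_left_cancel₀ hp h
  have hfac : ∀ m : ℕ, m ≠ 0 → (p ^ j * m).factorization p = j + m.factorization p := fun m hm => by
    rw [Nat.factorization_mul (pow_ne_zero _ hM.1.ne_zero) hm, hM.1.factorization_pow,
      Finsupp.add_apply, Finsupp.single_eq_same]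
  rw [hfac _ hm, hfac d' (by rintro rfl; exact hd' (dvd_zero p)),
    Nat.factorization_eq_zero_of_not_dvd hd', add_zero]
  refine ⟨Nat.le_add_right _ _, ?_⟩
  have hr := congrArg (residue M) hmu
  rw [map_mul, map_natCast, map_natCast] at hr
  have hd0 : (d' : Cfsg.AlgInt ⧸ M) ≠ 0 := fun e => hd' ((CharP.cast_eq_zero_iff _ p _).mp e)
  constructor
  · intro h0
    rw [h0, mul_zero, CharP.cast_eq_zero_iff _ p] at hr
    have := hM.1.factorization_pos_of_dvd hm hr
    omega
  · intro hlt
    have : p ∣ m := Nat.dvd_of_factorization_pos (by omega)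
    rw [(CharP.cast_eq_zero_iff (Cfsg.AlgInt ⧸ M) p m).mpr this] at hr
    exact (mul_eq_zero.mp hr.symm).resolve_left hd0

/-- Let H be a subgroup of the finite group G, b a block of H whose induced block B₀ in G is defined (relative to a maximal ideal M of the algebraic integers containing p), and ξ ∈ b. For a block B of G let n_B be the value at 1 of the B-part of the induced character ξ^G (a natural number: the sum over χ ∈ B of the multiplicity of χ in ξ^G times χ(1)). Then for B = B₀ the exact power of p dividing n_B equals the exact power of p dividing ξ^G(1), while for every other block B either n_B = 0 or n_B is divisible by a strictly higher power of p than ξ^G(1). -/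
theorem result {G : Type*} [Group G] [Fintype G] (p : ℕ) [Fact p.Prime] (M : Ideal Cfsg.AlgInt) (hM : Cfsg.IsPModular p M) (H : Subgroup G) [Fintype H] (b : Set (Cfsg.IrrCharacter H)) (B₀ : Set (Cfsg.IrrCharacter G)) (hind : Cfsg.IsInducedBlock M H b B₀) (ξ : Cfsg.IrrCharacter H) (hξ : ξ ∈ b) : (∃ n : ℕ, Cfsg.blockPart B₀ (Cfsg.indFun H (ξ : H → ℂ)) 1 = (n : ℂ) ∧ n ≠ 0 ∧ n.factorization p = (Cfsg.charDegree (Cfsg.indFun H (ξ : H → ℂ))).factorization p) ∧ ∀ B : Set (Cfsg.IrrCharacter G), Cfsg.IsPBlock M B → B ≠ B₀ → ∃ n : ℕ, Cfsg.blockPart B (Cfsg.indFun H (ξ : H → ℂ)) 1 = (n : ℂ) ∧ (n = 0 ∨ (Cfsg.charDegree (Cfsg.indFun H (ξ : H → ℂ))).factorization p < n.factorization p) := by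
  classical
  haveI := hM.2.1
  haveI : Finite (ConjClasses G) := Quotient.finite _
  haveI := Fintype.ofFinite (ConjClasses G)
  haveI := Fintype.ofFinite (Cfsg.IrrCharacter G)
  have hB₀ := hind.2.1
  set ϑ := Cfsg.indFun H (ξ : H → ℂ) with hϑ
  have hϑc : Cfsg.IsCharacter G ϑ :=
    Lib.Induced.Character.isCharacter_indFun H (Lib.Characters.Basic.isCharacter_irr ξ)
  set d := H.index * Cfsg.charDegree (ξ : H → ℂ) with hd_def
  have hd0 : d ≠ 0 := Nat.mul_ne_zero Subgroup.index_ne_zero_of_finite (charDegree_pos ξ).ne'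
  have hϑ1 : ϑ 1 = (d : ℂ) := by
    rw [hϑ, Lib.Induced.Basic.indFun_one, hd_def, Nat.cast_mul, char_one_eq_degree]
  have hdeg : Cfsg.charDegree ϑ = d := by
    rw [Cfsg.charDegree, hϑ1, Complex.natCast_re, Nat.floor_natCast]
  rw [hdeg]
  have key : ∀ B : Set (Cfsg.IrrCharacter G), Cfsg.IsPBlock M B →
      ∃ (n : ℕ) (u : localRing M), Cfsg.blockPart B ϑ 1 = (n : ℂ) ∧ (n : ℂ) = (d : ℂ) * (u : ℂ) ∧
        residue M u = if B = B₀ then 1 else 0 := by
    intro B hB
    choose m hm using fun χ : Cfsg.IrrCharacter G =>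
      Lib.Characters.Basic.exists_classInner_nat hϑc (Lib.Characters.Basic.isCharacter_irr χ)
    have hval : Cfsg.blockPart B ϑ 1 =
        ∑ χ : Cfsg.IrrCharacter G with χ ∈ B, Cfsg.classInner ϑ (χ : G → ℂ) * (χ : G → ℂ) 1 := by
      unfold Cfsg.blockPart
      rw [finsum_mem_eq_finite_toFinset_sum _ (Set.toFinite B)]
      refine Finset.sum_congr (by ext; simp) fun χ _ => ?_
      congr 1
      unfold Cfsg.classInner
      congr!
    let e : Subalgebra.center (localRing M) (MonoidAlgebra (localRing M) H) :=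
      ofClassFun (fun h : H => (⟨Cfsg.blockCoeff B (h : G), memLocalRing_blockCoeff hB _⟩ :
        localRing M))
        (fun u h => Subtype.ext (by
          simp only [Subgroup.coe_mul, Subgroup.coe_inv]
          exact blockCoeff_conj_apply B _ _))
    refine ⟨∑ χ : Cfsg.IrrCharacter G with χ ∈ B, m χ * Cfsg.charDegree (χ : G → ℂ),
      omegaR M ξ e, ?_, ?_, ?_⟩
    · rw [hval]
      simp only [hm, char_one_eq_degree, Nat.cast_sum, Nat.cast_mul]
    · have h1 : ((∑ χ : Cfsg.IrrCharacter G with χ ∈ B, m χ * Cfsg.charDegree (χ : G → ℂ) : ℕ) : ℂ) =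
          ∑ χ : Cfsg.IrrCharacter G with χ ∈ B,
            Cfsg.classInner ϑ (χ : G → ℂ) * (χ : G → ℂ) 1 := by
        simp only [hm, char_one_eq_degree, Nat.cast_sum, Nat.cast_mul]
      rw [h1, coe_omegaR, omega_apply, lin_apply]
      simp only [coeff_mapCenter, e, coeff_ofClassFun, Subring.coe_subtype]
      rw [hd_def, Nat.cast_mul, ← char_one_eq_degree, mul_assoc,
        mul_div_cancel₀ _ (char_one_ne_zero ξ)]
      have hF : ∀ χ : Cfsg.IrrCharacter G, Cfsg.classInner ϑ (χ : G → ℂ) =
          Cfsg.classInner (ξ : H → ℂ) (fun h : H => (χ : G → ℂ) h) := fun χ =>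
        Lib.Induced.Basic.frobenius_reciprocity H (ξ : H → ℂ)
          (Lib.Characters.Basic.isClassFunction_irr χ)
      refine (Finset.sum_congr rfl (g := fun χ : Cfsg.IrrCharacter G => Cfsg.classInner (ξ : H → ℂ) (fun h : H => (χ : G → ℂ) h) * (χ : G → ℂ) 1) fun χ _ => congrArg (· * (χ : G → ℂ) 1) (hF χ)).trans ?_
      simp only [blockCoeff_eq_sum, Cfsg.classInner, Finset.mul_sum, Finset.sum_mul]
      rw [Finset.sum_comm]
      refine Finset.sum_congr rfl fun h _ => Finset.sum_congr rfl fun χ _ => ?_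
      have hG : (Nat.card G : ℂ) = (Nat.card H : ℂ) * (H.index : ℂ) := by
        rw [← Nat.cast_mul, Subgroup.card_mul_index]
      have h0 : (Nat.card H : ℂ) ≠ 0 := Lib.Induced.Basic.subgroup_card_ne_zero H
      have hi : (H.index : ℂ) ≠ 0 := Nat.cast_ne_zero.mpr Subgroup.index_ne_zero_of_finite
      rw [hG, mul_inv]
      field_simp
    · obtain ⟨χ₀, hχ₀⟩ := isPBlock_nonempty hB₀
      have e1 : Lib.BrauerMap.Induced.inducedBar M H ξ (blockIdemBar hB) =
          omegaBar M χ₀ (blockIdemBar hB) := by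
        have hx : blockIdemBar hB = ∑ c : ConjClasses G,
            (blockIdemBar hB).1.coeff c.out •
              Lib.BrauerMap.ClassSum.classSumC (Cfsg.AlgInt ⧸ M) c.out := by
          refine Subtype.ext ?_
          rw [AddSubmonoidClass.coe_finsetSum]
          exact Lib.BrauerMap.ClassSum.eq_sum_classSum (blockIdemBar hB).2
        rw [hx, map_sum, map_sum]
        refine Finset.sum_congr rfl fun c _ => ?_
        rw [map_smul, map_smul, Lib.BrauerMap.Induced.inducedBar_classSumC, omegaBar_classSumC,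
          (Lib.BrauerMap.Induced.induced_congr_iff ξ χ₀).mp (hind.2.2 ξ hξ χ₀ hχ₀) c.out]
      have e2 : mapCenter (residue M) e =
          ⟨Lib.BrauerMap.Basic.brauerTo ⊥ H (blockIdemBar hB).1,
            Lib.BrauerMap.Basic.brauerTo_mem_center (Lib.BrauerMap.Induced.le_normalizer_bot H)
              (blockIdemBar hB).2⟩ := by
        refine Subtype.ext (MonoidAlgebra.ext (Finsupp.ext fun h => ?_))
        rw [coeff_mapCenter, Lib.BrauerMap.Basic.coeff_brauerTo,
          if_pos (by rw [Lib.BrauerMap.Induced.centralizer_bot]; exact Subgroup.mem_top _),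
          blockIdemBar, coeff_mapCenter]
        rfl
      rw [← omegaBar_mapCenter, e2]
      refine e1.trans ((omegaBar_blockIdemBar hB χ₀).trans (if_congr ?_ rfl rfl))
      exact ⟨fun h => (isPBlock_eq_blockOf hB h).trans (isPBlock_eq_blockOf hB₀ hχ₀).symm,
        fun h => h ▸ hχ₀⟩
  constructor
  · obtain ⟨n, u, hn, hnu, hu⟩ := key B₀ hB₀
    rw [if_pos rfl] at hu
    have hn0 : n ≠ 0 := by
      intro h0
      rw [h0, Nat.cast_zero, eq_comm, mul_eq_zero] at hnu
      have hu0 : u = 0 := Subtype.ext (hnu.resolve_left (Nat.cast_ne_zero.mpr hd0))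
      rw [hu0, map_zero] at hu
      exact zero_ne_one hu
    obtain ⟨hle, hiff⟩ := factorization_of_ratio hM hn0 hd0 u hnu
    refine ⟨n, hn, hn0, le_antisymm (not_lt.mp fun hlt => ?_) hle⟩
    rw [← hiff, hu] at hlt
    exact one_ne_zero hlt
  · intro B hB hne
    obtain ⟨n, u, hn, hnu, hu⟩ := key B hB
    rw [if_neg hne] at hu
    refine ⟨n, hn, or_iff_not_imp_left.mpr fun hn0 => ?_⟩
    exact (factorization_of_ratio hM hn0 hd0 u hnu).2.mp hu

end Cfsg.Agent.S4430
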