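import Cfsg.Statements.S4435
import Cfsg.Agent.Lib.BC77.FongBlocks
-- import your own Cfsg.Agent.* helpers here

set_option autoImplicit false
open Cfsg

namespace Cfsg.Agent.S4435

/-- Let N be a normal subgroup of the finite group G, b a block of N (relative to a maximal ideal M of the algebraic integers containing p), and T the stabilizer of b in G (the elements g such that conjugating any member of b by g gives a member of b); N ≤ T. Say that a block of T (or of G) covers b when some member has a constituent in b on restriction to N. Then: (i) every block B′ of T covering b induces a block B of G, B covers b, every ψ ∈ B′ induces to an irreducible character of G, and B consists exactly of the characters induced from members of B′; (ii) distinct blocks of T covering b induce distinct blocks of G; (iii) every block of G covering b is induced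 by some block of T covering b. -/
theorem result {G : Type*} [Group G] [Fintype G] (p : ℕ) [Fact p.Prime] (M : Ideal Cfsg.AlgInt) (hM : Cfsg.IsPModular p M) (N : Subgroup G) [hN : N.Normal] [Fintype N] (b : Set (Cfsg.IrrCharacter N)) (hb : Cfsg.IsPBlock M b) (T : Subgroup G) [Fintype T] (hT : ∀ g : G, g ∈ T ↔ ∀ θ ∈ b, ∀ θ' : Cfsg.IrrCharacter N, (∀ n : N, (θ' : N → ℂ) n = (θ : N → ℂ) ⟨g * n * g⁻¹, hN.conj_mem n n.2 g⟩) → θ' ∈ b) (hNT : N ≤ T) : (∀ B' : Set (Cfsg.IrrCharacter T), Cfsg.IsPBlock M B' → (∃ ψ ∈ B', ∃ θ ∈ b, Cfsg.classInner (fun n : N => (ψ : T → ℂ) ⟨(n : G), hNT n.2⟩) (θ : N → ℂ) ≠ 0) → ∃ B : Set (Cfsg.IrrCharacter G), Cfsg.IsInducedBlock M T B' B ∧ (∃ χ ∈ B, ∃ θ ∈ b, Cfsg.classInner (fun n : N => (χ : G → ℂ) n) (θ : N → ℂ) ≠ 0) ∧ (∀ ψ ∈ B', Cfsg.IsIrrCharacter G (Cfsg.indFun T (ψ : T → ℂ))) ∧ ∀ χ : Cfsg.IrrCharacter G, χ ∈ B ↔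 ∃ ψ ∈ B', (χ : G → ℂ) = Cfsg.indFun T (ψ : T → ℂ)) ∧ (∀ B'₁ B'₂ : Set (Cfsg.IrrCharacter T), Cfsg.IsPBlock M B'₁ → Cfsg.IsPBlock M B'₂ → (∃ ψ ∈ B'₁, ∃ θ ∈ b, Cfsg.classInner (fun n : N => (ψ : T → ℂ) ⟨(n : G), hNT n.2⟩) (θ : N → ℂ) ≠ 0) → (∃ ψ ∈ B'₂, ∃ θ ∈ b, Cfsg.classInner (fun n : N => (ψ : T → ℂ) ⟨(n : G), hNT n.2⟩) (θ : N → ℂ) ≠ 0) → ∀ B : Set (Cfsg.IrrCharacter G), Cfsg.IsInducedBlock M T B'₁ B → Cfsg.IsInducedBlock M T B'₂ B → B'₁ = B'₂) ∧ (∀ B : Set (Cfsg.IrrCharacter G), Cfsg.IsPBlock M B → (∃ χ ∈ B, ∃ θ ∈ b, Cfsg.classInner (fun n : N => (χ : G → ℂ) n) (θ : N → ℂ) ≠ 0) → ∃ B' : Set (Cfsg.IrrCharacter T), Cfsg.IsPBlock M B' ∧ (∃ ψ ∈ B', ∃ θ ∈ b, Cfsg.classInner (fun n : N => (ψ : T → ℂ) ⟨(n : G), hNT n.2⟩) (θ : N → ℂ) ≠ 0) ∧ Cfsg.IsInducedBlock M T B' B) := by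
  haveI := hM.2.1
  have h := Lib.BC77.Fong.isStab_of_block N b T hb hT hNT
  refine ⟨fun B' hB' hcov => ?_, fun B₁ B₂ h₁ h₂ hc₁ hc₂ B hi₁ hi₂ => ?_, fun B hB hcov => ?_⟩
  · obtain ⟨ψ, hψB, hψ⟩ := hcov
    have hψ' : Lib.BC77.Fong.Covers N b T h.le ψ := hψ
    refine ⟨_, Lib.BC77.Fong.isInducedBlock_up N b T hb h hB' hψB hψ', ?_, fun φ hφ => ?_,
      fun χ => Lib.BC77.Fong.mem_block_up_iff N b T hb h hB' hψB hψ' χ⟩
    · exact ⟨_, Lib.Blocks.mem_blockOf_self _, Lib.BC77.Fong.exists_constituent_up N b T h ψ hψ'⟩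
    · exact Lib.BC77.Fong.isIrrCharacter_indFun N b T h
        (Lib.BC77.Fong.covers_of_mem N b T hb h hB' ⟨ψ, hψB, hψ'⟩ hφ)
  · obtain ⟨ψ₁, hψ₁, hc₁⟩ := hc₁
    obtain ⟨ψ₂, hψ₂, hc₂⟩ := hc₂
    have m₁ := Lib.BC77.Fong.up_mem_of_induced N b T h hi₁ hψ₁ hc₁
    have m₂ := Lib.BC77.Fong.up_mem_of_induced N b T h hi₂ hψ₂ hc₂
    have hs : Cfsg.SameBlock M (ψ₁ : T → ℂ) (ψ₂ : T → ℂ) :=
      Lib.BC77.Fong.sameBlock_of_up N b T hb h hc₁ hc₂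
        (Lib.Blocks.sameBlock_iff_omegaBar.mpr (Lib.Blocks.omegaBar_eq_of_mem hi₁.2.1 m₁ m₂))
    rw [Lib.Blocks.isPBlock_eq_blockOf h₁ hψ₁, Lib.Blocks.isPBlock_eq_blockOf h₂ hψ₂]
    exact (Lib.Blocks.blockOf_eq_of_mem (χ := ψ₁) (ψ := ψ₂) hs).symm
  · obtain ⟨χ, hχ, θ, hθ, hne⟩ := hcov
    obtain ⟨ψ, hψ, rfl⟩ := Lib.BC77.Fong.exists_up_eq N b T h χ hθ hne
    refine ⟨Cfsg.blockOf M (ψ : T → ℂ), ⟨ψ, rfl⟩, ⟨ψ, Lib.Blocks.mem_blockOf_self ψ, hψ⟩, ?_⟩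
    rw [Lib.Blocks.isPBlock_eq_blockOf hB hχ]
    exact Lib.BC77.Fong.isInducedBlock_up N b T hb h ⟨ψ, rfl⟩ (Lib.Blocks.mem_blockOf_self ψ) hψ

end Cfsg.Agent.S4435
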