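import Cfsg.Statements.S4437
import Cfsg.Agent.Lib.Blocks.LocalPair

set_option autoImplicit false
set_option linter.style.haveILetI false
open Cfsg

namespace Cfsg.Agent.S4437

open Cfsg.Agent.Lib.Blocks Cfsg.Agent.Lib.BrauerMap.Basic
open Cfsg.Agent.Lib.BrauerPairs.Center Cfsg.Agent.Lib.BrauerPairs.Trunc
open Cfsg.Agent.Lib.BrauerPairs.Conj Cfsg.Agent.Lib.BrauerPairs.Pairs
open Cfsg.Agent.Lib.BrauerPairs.Transport Cfsg.Agent.Lib.BrauerPairs.Maximal
open Cfsg.Agent.Lib.BrauerPairs.Embed Cfsg.Agent.Lib.BrauerPairs.Bridge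

attribute [local instance] Ideal.Quotient.field

/-- Let P be a p-subgroup of the finite group G, H = P·C_G(P), and b a block of H (relative to a maximal ideal M of the algebraic integers containing p) having P as a defect group; let B be the block of G induced by b. Let T be the stabilizer of b in N_G(P): the elements g of N_G(P) such that the g-conjugate of every member of b is again a member of b. Then B has defect group P if and only if p does not divide the index of H in T. -/
theorem result {G : Type*} [Group G] [Fintype G] (p : ℕ) [Fact p.Prime] (M : Ideal Cfsg.AlgInt) (hM : Cfsg.IsPModular p M) (P : Subgroup G) (hP : IsPGroup p P) (H : Subgroup G) [Fintype H] (hH : H = P ⊔ Subgroup.centralizer (P : Set G)) (b : Set (Cfsg.IrrCharacter H)) (hb : Cfsg.IsPBlock M b) (hbP : Cfsg.IsDefectGroup p M b (P.subgroupOf H)) (B : Set (Cfsg.IrrCharacter G)) (hind : Cfsg.IsInducedBlock M H b B) (T : Subgroup G) (hT : ∀ g : G, g ∈ T ↔ (g ∈ Subgroup.normalizer (P : Set G) ∧ ∀ θ ∈ b, ∀ θ' : Cfsg.IrrCharacter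 H, (∀ h h' : H, (h' : G) = g * h * g⁻¹ → (θ' : H → ℂ) h' = (θ : H → ℂ) h) → θ' ∈ b)) : Cfsg.IsDefectGroup p M B P ↔ ¬ p ∣ H.relIndex T := by
  haveI : M.IsMaximal := hM.2.1
  haveI := charP_res hM
  have hPH : P ≤ H := hH ▸ le_sup_left
  have hC : Subgroup.centralizer (P : Set G) ≤ H := hH ▸ le_sup_right
  have hN : H ≤ Subgroup.normalizer (P : Set G) :=
    hH ▸ sup_le Subgroup.le_normalizer (Subgroup.centralizer_le_normalizer _)
  obtain ⟨μ, hμ⟩ := exists_pairOf_isDef ((isDefectGroup_iff hb _).mp hbP)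
  have htopH : Top p (⟨P.subgroupOf H, μ⟩ : Idx (Res M) H) :=
    top_of_isDef hμ ((isDefectGroup_iff hb _).mp hbP)
  rw [← down_up hPH hC μ] at hμ htopH
  set f := up hPH hC μ with hf
  have hfix : IsFixedBy H (bext (Subgroup.centralizer (P : Set G)) f) := by
    rw [hH]
    exact isFixedBy_sup_centralizer f
  have hext := ext_bidem_eq hP hPH hC hN hμ hfix
  have hindf := local_isInducedBlock hP hPH hC hN hμ
  rw [toSet_blk] at hindf
  have hBe := eq_of_isInducedBlock hind hindf
  have hB : Cfsg.IsPBlock M B := hind.2.1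
  have hψ : blk hB = pairBlk (a := (⟨P, f⟩ : Idx (Res M) G)) hP :=
    toSet_injective ((toSet_blk hB).trans hBe)
  have hpair : PairOf p (blk hB) (⟨P, f⟩ : Idx (Res M) G) := pairOf_iff.mpr ⟨hP, hψ.symm⟩
  have hT' : ∀ g : G, g ∈ T ↔ (g ∈ Subgroup.normalizer (P : Set G) ∧
      conjA g (bext (Subgroup.centralizer (P : Set G)) f) =
        bext (Subgroup.centralizer (P : Set G)) f) := by
    intro g
    rw [hT g]
    refine and_congr_right fun hg => ?_
    have hHg : ∀ h, h ∈ H ↔ g * h * g⁻¹ ∈ H := by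
      have key : ∀ g' ∈ Subgroup.normalizer (P : Set G),
          H ≤ H.comap (MulAut.conj g').toMonoidHom := by
        intro g' hg'
        rw [hH, sup_le_iff]
        exact ⟨fun d hd => Subgroup.mem_sup_left
            ((Subgroup.mem_normalizer_iff.mp hg' d).mp hd),
          fun d hd => Subgroup.mem_sup_right ((mem_centralizer_conj_iff hg' d).mp hd)⟩
      refine fun h => ⟨fun hh => key g hg hh, fun hh => ?_⟩
      simpa [mul_assoc] using key g⁻¹ (inv_mem hg) hh
    rw [← hext, ← bext_cBlk g H H hHg, (bext_injective H).eq_iff]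
    constructor
    · intro h
      obtain ⟨θ, hθ⟩ := exists_mem (blk hb)
      rw [toSet_blk] at hθ
      have h2 := h θ hθ (pushIrr (conjEquiv g H H hHg) θ)
        ((isConjCharOf_iff hHg θ _).mpr rfl)
      have h3 := blkOf_of_mem hb h2
      rwa [blkOf_pushIrr_conj, blkOf_of_mem hb hθ] at h3
    · intro h θ hθ θ' hθ'
      rw [(isConjCharOf_iff hHg θ θ').mp hθ', ← toSet_blk hb, mem_toSet, blkOf_pushIrr_conj,
        blkOf_of_mem hb hθ]
      exact h
  rw [← top_iff_not_dvd_relIndex hPH hC hH f htopH hT', isDefectGroup_iff hB P]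
  exact ⟨fun h => top_of_isDef hpair h, fun h => isDef_of_top h hpair⟩

end Cfsg.Agent.S4437
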