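import Cfsg.Statements.S4440
-- import your own Cfsg.Agent.* helpers here
import Cfsg.Agent.Lib.IdemIntegral.Main

set_option autoImplicit false
open Cfsg

namespace Cfsg.Agent.S4440

/-- Let G be a finite p-solvable group and fix a maximal ideal M of the algebraic integers containing p. Let U be a set of irreducible characters of G such that the class function Σ_{χ ∈ U} χ(1)·χ vanishes at every p-singular element of G. Then U is a union of p-blocks: if χ ∈ U and ψ lies in the same block as χ, then ψ ∈ U. -/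
theorem result {G : Type*} [Group G] [Finite G] (p : ℕ) [Fact p.Prime] (M : Ideal Cfsg.AlgInt) (hM : Cfsg.IsPModular p M) (hsolv : Cfsg.IsPSolvable p G) (U : Set (Cfsg.IrrCharacter G)) (hU : ∀ x : G, p ∣ orderOf x → ∑ᶠ χ ∈ U, (χ : G → ℂ) 1 * (χ : G → ℂ) x = 0) (χ : Cfsg.IrrCharacter G) (hχ : χ ∈ U) (ψ : Cfsg.IrrCharacter G) (hψ : Cfsg.SameBlock M (χ : G → ℂ) (ψ : G → ℂ)) : ψ ∈ U := by
  classical
  haveI := hM.2.1
  set e := (Lib.Blocks.idem U).1 with he
  have hcoeff : ∀ g : G, e.coeff g = Cfsg.blockCoeff U g := fun g => Lib.Blocks.coeff_idem U g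
  have hreg : Lib.IdemIntegral.IsRegIdem p e := by
    refine ⟨fun a g => ?_, ?_, fun g hg => ?_⟩
    · exact (Lib.BrauerMap.Basic.mem_center_iff_coeff e).mp (Lib.Blocks.idem U).2 a g
    · have h := Lib.Blocks.idem_mul_idem U U
      rw [Set.inter_self] at h
      exact congrArg Subtype.val h
    · rw [hcoeff, Cfsg.blockCoeff]
      have h1 := hU g⁻¹ (by rwa [orderOf_inv])
      rw [show (∑ᶠ χ ∈ U, (χ : G → ℂ) 1 * (starRingEnd ℂ) ((χ : G → ℂ) g)) = 0 by
        rw [← h1]
        exact finsum_mem_congr rfl fun χ _ => by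
          rw [Lib.Characters.Basic.apply_inv (Lib.Characters.Basic.isCharacter_irr χ)], mul_zero]
  exact Lib.Blocks.blockOf_subset_of_memLocalRing (M := M)
    (fun g => hcoeff g ▸ Lib.IdemIntegral.allIntegral hM hsolv e hreg g) hχ hψ

end Cfsg.Agent.S4440
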