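import Cfsg.Statements.S4442
import Cfsg.Agent.Lib.CyclicBlocks.PrimeOrder

set_option autoImplicit false
open Cfsg

namespace Cfsg.Agent.S4442

open Cfsg.Agent.Lib.BrauerPairs Cfsg.Agent.Lib.BrauerPairs.Center Cfsg.Agent.Lib.BrauerPairs.Bridge
open Cfsg.Agent.Lib.BrauerPairs.Pairs Cfsg.Agent.Lib.BrauerPairs.Maximal
open Cfsg.Agent.Lib.BrauerPairs.Local
open Cfsg.Agent.Lib.CyclicBlocks Cfsg.Agent.Lib.CyclicBlocks.Local

attribute [local instance] Ideal.Quotient.field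

universe u

theorem core {G : Type u} [Group G] [Finite G] {p : ℕ} [Fact p.Prime] {M : Ideal Cfsg.AlgInt}
    [M.IsMaximal] [CharP (Res M) p] (hM : Cfsg.IsPModular p M) (hsq : ¬ p ^ 2 ∣ Nat.card G)
    {B : Set (Cfsg.IrrCharacter G)} (hB : Cfsg.IsPBlock M B) (z : G) (Q : Subgroup G) (hQ : Q = Subgroup.zpowers z)
    (b : Set (Cfsg.IrrCharacter (Subgroup.centralizer (Q : Set G))))
    (hb : Cfsg.IsPBlock M b) (hc : Cyc p (blk hB) Q (blk hb) z)
    (θ : Cfsg.IrrCharacter (Subgroup.centralizer (Q : Set G))) (hθ : θ ∈ b)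
    (hθP : ∀ x : Subgroup.centralizer (Q : Set G),
      (x : G) ∈ Q →
      (θ : Subgroup.centralizer (Q : Set G) → ℂ) x =
        (θ : Subgroup.centralizer (Q : Set G) → ℂ) 1)
    (T : Subgroup G) (hT : ∀ g : G, g ∈ T ↔
      (g ∈ Subgroup.normalizer (Q : Set G) ∧
        ∀ c c' : Subgroup.centralizer (Q : Set G), (c' : G) = g * c * g⁻¹ →
          (θ : Subgroup.centralizer (Q : Set G) → ℂ) c' =
            (θ : Subgroup.centralizer (Q : Set G) → ℂ) c))
    (e f : ℕ) (he : (Subgroup.centralizer (Q : Set G)).relIndex T = e)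
    (hf : (Subgroup.centralizer (Q : Set G)).relIndex
      (Subgroup.normalizer (Q : Set G)) = f) :
    e ∣ p - 1 ∧ ∃ X Y δ δ₀, Main.CyclicStruct p B p e X Y δ δ₀ ∧ e ∣ f ∧ ∀ χ ∈ X,
      (Cfsg.charDegree (χ : G → ℂ) : ℤ) ≡ -δ χ * ((f / e * Cfsg.charDegree
        (θ : Subgroup.centralizer (Q : Set G) → ℂ) : ℕ) : ℤ) [ZMOD p] := by
  subst hQ
  haveI := Fintype.ofFinite G
  haveI := Fintype.ofFinite (Subgroup.centralizer (Subgroup.zpowers z : Set G))
  have hθ' : θ ∈ toSet (blk hb) := by rwa [toSet_blk]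
  have hθz := hθP (PrimeOrder.zC z) (Subgroup.mem_zpowers z)
  obtain rfl : T = stab (⟨Subgroup.zpowers z, blk hb⟩ : Idx (Res M) G) := by
    ext g
    rw [hT, mem_stab_iff]
    refine and_congr_right fun hg => ?_
    rw [← act_eq_iff hg, ← PrimeOrder.pushIrr_eq_iff hM hsq hc hθ' hθz hg,
      ← isConjCharOf_iff (mem_centralizer_conj_iff hg) θ θ |>.trans eq_comm]
    exact ⟨fun h x x' hx => h x x' hx, fun h x x' hx => h x x' hx⟩
  obtain ⟨X, Y, δ, δ₀, hs, hdeg⟩ := PrimeOrder.exists_struct hM hsq hc hθ' hθz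
  rw [toSet_blk] at hs
  change _ = _ at he
  have he' : Local.eIdx hc = e := he
  rw [he'] at hs hdeg
  rw [hf] at hdeg
  refine ⟨he' ▸ (hc.inertial hM).2.1, X, Y, δ, δ₀, hs, Dvd.intro ((stab (⟨Subgroup.zpowers z, blk hb⟩ : Idx (Res M) G)).relIndex
    (Subgroup.normalizer (Subgroup.zpowers z : Set G))) ?_, hdeg⟩
  rw [← he, ← hf]
  exact (Subgroup.relIndex_mul_relIndex _ _ _
    (centralizer_le_stab (⟨Subgroup.zpowers z, blk hb⟩ : Idx (Res M) G))
    (stab_le_normalizer _))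


/-- Blocks of defect one. Let p be an odd prime and G a finite group whose Sylow p-subgroup P has order p; let C = C_G(P) and N = N_G(P), and fix a maximal ideal M of the algebraic integers containing p. Let B be a block of G with defect group P, b a block of C inducing B, and θ the member of b having P in its kernel (there is exactly one). Let T be the stabilizer of θ in N (the elements g ∈ N with θ(g c g⁻¹) = θ(c) for all c ∈ C) and e the index of C in T. Then e divides p − 1 and B contains exactly e + (p − 1)/e irreducible characters. Moreover B is the disjoint union of a set X of e characters and a set Y of (p − 1)/e characters such that, with f the index of C in N: every χ ∈ X has χ(1) ≡ ±(f/e)·θ(1) (mod p), there is one sign ε with ψ(1) ≡ ε f θ(1) (mod p) for all ψ ∈ Y, and all members of Y agree on the p-regular elements of G. -/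
theorem result {G : Type*} [Group G] [Finite G] (p : ℕ) [Fact p.Prime] (M : Ideal Cfsg.AlgInt) (hM : Cfsg.IsPModular p M) (hodd : p ≠ 2) (P : Sylow p G) (hP : Nat.card P = p) (B : Set (Cfsg.IrrCharacter G)) (hB : Cfsg.IsPBlock M B) (hBP : Cfsg.IsDefectGroup p M B P) (b : Set (Cfsg.IrrCharacter (Subgroup.centralizer ((P : Subgroup G) : Set G)))) (hind : Cfsg.IsInducedBlock M (Subgroup.centralizer ((P : Subgroup G) : Set G)) b B) (θ : Cfsg.IrrCharacter (Subgroup.centralizer ((P : Subgroup G) : Set G))) (hθ : θ ∈ b) (hθP : ∀ x : Subgroup.centralizer ((P : Subgroup G) : Set G), (x : G) ∈ (P : Subgroup G) → (θ : Subgroup.centralizer ((P : Subgroup G) : Set G) → ℂ) x = (θ : Subgroup.centralizer ((P : Subgroup G) : Set G) → ℂ) 1) (T : Subgroup G) (hT : ∀ g : G, g ∈ T ↔ (g ∈ Subgroup.normalizer ((P : Subgroup G) : Set G) ∧ ∀ c c' : Subgroup.centralizer ((P : Subgroup G) : Set G), (c' : G) = g * c * g⁻¹ → (θ : Subgroup.centralizer ((P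 : Subgroup G) : Set G) → ℂ) c' = (θ : Subgroup.centralizer ((P : Subgroup G) : Set G) → ℂ) c)) (e f : ℕ) (he : (Subgroup.centralizer ((P : Subgroup G) : Set G)).relIndex T = e) (hf : (Subgroup.centralizer ((P : Subgroup G) : Set G)).relIndex (Subgroup.normalizer ((P : Subgroup G) : Set G)) = f) : e ∣ p - 1 ∧ Nat.card B = e + (p - 1) / e ∧ ∃ X Y : Set (Cfsg.IrrCharacter G), B = X ∪ Y ∧ Disjoint X Y ∧ Nat.card X = e ∧ Nat.card Y = (p - 1) / e ∧ (∀ χ ∈ X, (Cfsg.charDegree (χ : G → ℂ) : ℤ) ≡ ((f / e * Cfsg.charDegree (θ : Subgroup.centralizer ((P : Subgroup G) : Set G) → ℂ) : ℕ) : ℤ) [ZMOD p] ∨ (Cfsg.charDegree (χ : G → ℂ) : ℤ) ≡ -((f / e * Cfsg.charDegree (θ : Subgroup.centralizer ((P : Subgroup G) : Set G) → ℂ) : ℕ) : ℤ) [ZMOD p]) ∧ (∃ ε : ℤ, (ε = 1 ∨ ε = -1) ∧ ∀ ψ ∈ Y, (Cfsg.charDegree (ψ : G → ℂ) : ℤ) ≡ ε * ((f * Cfsg.charDegree (θ : Subgroup.centralizer ((P : Subgroup G) : Set G) → ℂ) : ℕ) : ℤ) [ZMOD p]) ∧ ∀ ψ ∈ Y, ∀ ψ' ∈ Y,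 ∀ g : G, ¬ p ∣ orderOf g → (ψ : G → ℂ) g = (ψ' : G → ℂ) g := by
  classical
  haveI : M.IsMaximal := hM.2.1
  haveI : CharP (Res M) p := charP_res hM
  have hp1 := (Fact.out : p.Prime).one_lt
  obtain ⟨hsq, P', hPP'⟩ : ¬ p ^ 2 ∣ Nat.card G ∧ ∃ P' : Subgroup G, (P : Subgroup G) = P' := by
    refine ⟨fun h => ?_, _, rfl⟩
    have h1 := P.card_eq_multiplicity
    rw [hP] at h1
    have h2 := ((Fact.out : p.Prime).pow_dvd_iff_le_factorization Nat.card_pos.ne').mp h
    have h3 : (Nat.card G).factorization p = 1 :=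
      Nat.pow_right_injective (Fact.out : p.Prime).two_le (show p ^ _ = p ^ 1 by rw [← h1, pow_one])
    omega
  have hPp : IsPGroup p (P : Subgroup G) := P.isPGroup'
  have hD := (isDefectGroup_iff hB _).mp hBP
  have hpair := (InducedPair.isInducedBlock_iff hPp hind.1 hB).mp hind
  obtain ⟨z, hz⟩ := exists_cyc (top_of_isDef hpair hD) hpair
    (isCyclic_of_prime_card hP) (fun h => by
      rw [h, Subgroup.card_bot] at hP
      omega)
  have hPz : (P : Subgroup G) = Subgroup.zpowers z :=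
    (Subgroup.eq_of_le_of_card_ge (Subgroup.zpowers_le.mpr hz.mem)
      (by rw [Nat.card_zpowers, hz.order, hP])).symm
  obtain ⟨hdvd, X, Y, δ, δ₀, hs, hef, hdeg⟩ : e ∣ p - 1 ∧ ∃ X Y δ δ₀,
      Main.CyclicStruct p B p e X Y δ δ₀ ∧ e ∣ f ∧ ∀ χ ∈ X,
      (Cfsg.charDegree (χ : G → ℂ) : ℤ) ≡ -δ χ * ((f / e * Cfsg.charDegree
        (θ : Subgroup.centralizer ((P : Subgroup G) : Set G) → ℂ) : ℕ) : ℤ) [ZMOD p] := by
    exact core hM hsq hB z _ hPz b hind.1 hz θ hθ hθP T hT e f he hf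
  have hY := Theorem.Y_nonempty hs hp1
  have hcardY : Y.card = (p - 1) / e := by
    have h1 := hs.cardY
    rw [← h1, Nat.add_sub_cancel, Nat.mul_div_cancel_left]
    exact Nat.pos_of_ne_zero fun h0 => by rw [h0, zero_mul] at h1; omega
  refine ⟨hdvd, ?_, (X : Set (Cfsg.IrrCharacter G)), (Y : Set (Cfsg.IrrCharacter G)),
    Set.ext hs.mem_iff, Finset.disjoint_coe.mpr hs.disjoint,
    by rw [Nat.card_coe_set_eq, Set.ncard_coe_finset, hs.cardX],
    by rw [Nat.card_coe_set_eq, Set.ncard_coe_finset, hcardY],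
    fun χ hχ => ?_, ⟨δ₀, hs.sign₀, fun ψ hψ => ?_⟩, hs.exc_eq⟩
  · rw [show B = ((X ∪ Y : Finset _) : Set (Cfsg.IrrCharacter G)) from
      Set.ext fun χ => by rw [Finset.mem_coe, Finset.mem_union]; exact hs.mem_iff χ,
      Nat.card_coe_set_eq, Set.ncard_coe_finset, Finset.card_union_of_disjoint hs.disjoint,
      hs.cardX, hcardY]
  · rcases hs.sign χ hχ with h1 | h1
    · exact Or.inr (by simpa [h1] using hdeg χ hχ)
    · exact Or.inl (by simpa [h1] using hdeg χ hχ)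
  · obtain ⟨χ, hχ⟩ := Theorem.X_nonempty hs hp1
    have h1 := (Theorem.degree_congrY hs hχ hψ).of_dvd (dvd_pow_self (p : ℤ) (by
      intro h0
      have h2 : p ∣ Nat.card G := hP ▸ Subgroup.card_subgroup_dvd_card _
      exact absurd (((Fact.out : p.Prime).dvd_iff_one_le_factorization Nat.card_pos.ne').mp h2)
        (by omega)))
    have h2 := (hdeg χ hχ).mul_left (δ χ)
    have h3 := ((h2.symm.trans h1).mul_left ((e : ℤ) * δ₀))
    obtain ⟨k, rfl⟩ := hef
    have hc : (e : ℤ) * (Y.card : ℤ) + 1 = (p : ℤ) := by exact_mod_cast hs.cardY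
    have hδ : δ₀ * δ₀ = 1 := by rcases hs.sign₀ with h0 | h0 <;> rw [h0] <;> rfl
    have hδ' : δ χ * δ χ = 1 := by rcases hs.sign χ hχ with h0 | h0 <;> rw [h0] <;> rfl
    have he0 : 0 < e := Nat.pos_of_ne_zero fun h0 => by
      have := hs.cardY
      rw [h0, zero_mul] at this
      omega
    rw [Nat.mul_div_cancel_left _ he0] at h3
    obtain ⟨j, hj⟩ := h3.dvd
    refine Int.modEq_iff_dvd.mpr ⟨j - (Cfsg.charDegree (ψ : G → ℂ) : ℤ), ?_⟩
    push_cast at hj ⊢
    linear_combination hj + ((e : ℤ) * δ₀ * k * Cfsg.charDegree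
      (θ : Subgroup.centralizer ((P : Subgroup G) : Set G) → ℂ)) * (-hδ') +
      ((Cfsg.charDegree (ψ : G → ℂ) : ℤ) * (-hc)) + ((Cfsg.charDegree (ψ : G → ℂ) : ℤ) * e * Y.card) * (-hδ)

end Cfsg.Agent.S4442
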