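import Cfsg.Statements.S4443
import Cfsg.Agent.Lib.Blocks.NormalDefectRank

set_option autoImplicit false
set_option linter.style.haveILetI false
open Cfsg

namespace Cfsg.Agent.S4443

open Cfsg.Agent.Lib.Blocks
open Cfsg.Agent.Lib.BrauerPairs.Bridge (Res charP_res blk toSet toSet_blk isPBlock_toSet blk_toSet
  isDefectGroup_iff)

attribute [local instance] Ideal.Quotient.field

/-- Let D be a normal p-subgroup of the finite group G, of order p^d, let p^a be the p-part of the order of G, and fix a Sylow p-subgroup S and a maximal ideal M of the algebraic integers containing p. Index by a finite type ι (via an injective map K) exactly the conjugacy classes of p-regular elements x of G for which D is a Sylow p-subgroup of C_G(x). For classes K_i, K_j let ω(i, j) be the number of pairs (y, z) ∈ K_i × K_j with z y⁻¹ ∈ S; this number is divisible by p^(a−d). Then the number of p-blocks of G having D as a defect group equals the rank over ℤ/pℤ of the matrix with (i, j) entry ω(i, j)/p^(a−d)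 reduced modulo p. -/
theorem result {G : Type*} [Group G] [Finite G] (p : ℕ) [Fact p.Prime] (M : Ideal Cfsg.AlgInt) (hM : Cfsg.IsPModular p M) (D : Subgroup G) [D.Normal] (hD : IsPGroup p D) (S : Sylow p G) {ι : Type*} [Fintype ι] [DecidableEq ι] (K : ι → ConjClasses G) (hKinj : Function.Injective K) (hK : ∀ C : ConjClasses G, (∃ i, K i = C) ↔ ∃ x ∈ C.carrier, ¬ p ∣ orderOf x ∧ ∃ Q : Sylow p (Subgroup.centralizer ({x} : Set G)), (Q : Subgroup (Subgroup.centralizer ({x} : Set G))).map (Subgroup.centralizer ({x} : Set G)).subtype = D) : Nat.card {B : Set (Cfsg.IrrCharacter G) // Cfsg.IsPBlock M B ∧ Cfsg.IsDefectGroup p M B D} = (Matrix.of fun i j : ι => ((Nat.card {yz : G × G // yz.1 ∈ (K i).carrier ∧ yz.2 ∈ (K j).carrier ∧ yz.2 * yz.1⁻¹ ∈ (S : Subgroup G)} / p ^ ((Nat.card G).factorization p - (Nat.card D).factorization p) : ℕ) : ZMod p)).rank := by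
  haveI : M.IsMaximal := hM.2.1
  haveI := charP_res hM
  have hout : ∀ i, (K i).out ∈ (K i).carrier := fun i =>
    ConjClasses.mem_carrier_iff_mk_eq.mpr (Quotient.out_eq (K i))
  have hmk : ∀ i, ConjClasses.mk (K i).out = K i := fun i => Quotient.out_eq (K i)
  have hx : ∀ i, IsDClass p D (K i).out := by
    intro i
    obtain ⟨x, hxC, hreg, Q, hQ⟩ := (hK (K i)).mp ⟨i, rfl⟩
    refine ((isDClass_iff hD).mpr ⟨hreg, Q, hQ⟩).of_isConj ?_
    rw [← ConjClasses.mk_eq_mk_iff_isConj, hmk, ← ConjClasses.mem_carrier_iff_mk_eq]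
    exact hxC
  have key := card_blocks_eq_rank hM hD S (fun i => (K i).out) hx
    (fun i j h => hKinj (by rw [← hmk i, ← hmk j]; exact ConjClasses.mk_eq_mk_iff_isConj.mpr h))
    (fun h hh => by
      obtain ⟨hreg, Q, hQ⟩ := (isDClass_iff hD).mp hh
      obtain ⟨i, hi⟩ := (hK (ConjClasses.mk h)).mpr ⟨h, ConjClasses.mem_carrier_mk, hreg, Q, hQ⟩
      exact ⟨i, ConjClasses.mk_eq_mk_iff_isConj.mp ((hmk i).trans hi)⟩)
  have hcount : ∀ i j, Nat.card {yz : G × G // yz.1 ∈ (K i).carrier ∧ yz.2 ∈ (K j).carrier ∧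
      yz.2 * yz.1⁻¹ ∈ (S : Subgroup G)} = Nat.card {yz : G × G // IsConj (K i).out yz.1 ∧
      IsConj (K j).out yz.2 ∧ yz.2 * yz.1⁻¹ ∈ (S : Subgroup G)} := by
    intro i j
    refine Nat.card_congr (Equiv.subtypeEquivRight fun yz => ?_)
    rw [← ConjClasses.mk_eq_mk_iff_isConj, ← ConjClasses.mk_eq_mk_iff_isConj, hmk, hmk,
      ConjClasses.mem_carrier_iff_mk_eq, ConjClasses.mem_carrier_iff_mk_eq, eq_comm,
      eq_comm (a := ConjClasses.mk yz.2)]
  simp only [hcount]
  rw [← key]
  refine Nat.card_congr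
    { toFun := fun B => ⟨blk B.2.1, (isDefectGroup_iff B.2.1 D).mp B.2.2⟩
      invFun := fun ψ => ⟨toSet ψ.1, isPBlock_toSet _, by
        rw [isDefectGroup_iff (isPBlock_toSet _), blk_toSet]; exact ψ.2⟩
      left_inv := fun B => Subtype.ext (toSet_blk B.2.1)
      right_inv := fun ψ => Subtype.ext (blk_toSet ψ.1 (isPBlock_toSet _)) }

end Cfsg.Agent.S4443
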