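import Cfsg.Statements.S4444
import Cfsg.Agent.Lib.Glauberman.Internal

set_option autoImplicit false
open Cfsg

namespace Cfsg.Agent.S4444

/-- The Glauberman correspondence for a p-group of operators. Inside a finite group Γ let S normalise G with the orders of G and S coprime, S a p-group, and let C = G ⊓ C(S) be the fixed points. Call an irreducible character χ of G S-invariant when χ(s g s⁻¹) = χ(g) for s ∈ S, g ∈ G. Then: (i) for every S-invariant χ there is exactly one irreducible character β of C whose multiplicity [χ_C, β] in the restriction of χ is not divisible by p; (ii) that multiplicity is ≡ 1 or ≡ −1 (mod p); (iii) distinct S-invariant χ give distinct β; (iv) every irreducible character of C arises in this way. So χ ↦ β is a bijection from the S-invariant irreducible characters of G onto the irreducible characters of C. -/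
theorem result {Γ : Type*} [Group Γ] [Fintype Γ] (G S : Subgroup Γ) [Fintype G] (hnorm : ∀ s ∈ S, ∀ g ∈ G, s * g * s⁻¹ ∈ G) (hcop : (Nat.card G).Coprime (Nat.card S)) (p : ℕ) (hp : p.Prime) (hS : IsPGroup p S) (C : Subgroup Γ) [Fintype C] (hC : C = G ⊓ Subgroup.centralizer (S : Set Γ)) (hCG : C ≤ G) : (∀ χ : Cfsg.IrrCharacter G, (∀ s ∈ S, ∀ g g' : G, (g' : Γ) = s * g * s⁻¹ → (χ : G → ℂ) g' = (χ : G → ℂ) g) → ∃! β : Cfsg.IrrCharacter C, ∃ m : ℕ, Cfsg.classInner (fun c : C => (χ : G → ℂ) ⟨c, hCG c.2⟩) (β : C → ℂ) = (m : ℂ) ∧ ¬ p ∣ m) ∧ (∀ χ : Cfsg.IrrCharacter G, (∀ s ∈ S, ∀ g g' : G, (g' : Γ) = s * g * s⁻¹ → (χ : G → ℂ) g' = (χ : G → ℂ) g) → ∀ β : Cfsg.IrrCharacter C, ∀ m : ℕ, Cfsg.classInner (fun c : C => (χ : G → ℂ) ⟨c, hCG c.2⟩) (β : C → ℂ) = (m : ℂ) → ¬ p ∣ m → ((m : ℤ) ≡ 1 [ZMOD p] ∨ (m : ℤ) ≡ -1 [ZMOD p])) ∧ (∀ χ χ' : Cfsg.IrrCharacter G, (∀ s ∈ S, ∀ g g' : G, (g' : Γ) = s * g * s⁻¹ → (χ : G → ℂ) g' =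 (χ : G → ℂ) g) → (∀ s ∈ S, ∀ g g' : G, (g' : Γ) = s * g * s⁻¹ → (χ' : G → ℂ) g' = (χ' : G → ℂ) g) → ∀ β : Cfsg.IrrCharacter C, ∀ m m' : ℕ, Cfsg.classInner (fun c : C => (χ : G → ℂ) ⟨c, hCG c.2⟩) (β : C → ℂ) = (m : ℂ) → ¬ p ∣ m → Cfsg.classInner (fun c : C => (χ' : G → ℂ) ⟨c, hCG c.2⟩) (β : C → ℂ) = (m' : ℂ) → ¬ p ∣ m' → χ = χ') ∧ (∀ β : Cfsg.IrrCharacter C, ∃ χ : Cfsg.IrrCharacter G, (∀ s ∈ S, ∀ g g' : G, (g' : Γ) = s * g * s⁻¹ → (χ : G → ℂ) g' = (χ : G → ℂ) g) ∧ ∃ m : ℕ, Cfsg.classInner (fun c : C => (χ : G → ℂ) ⟨c, hCG c.2⟩) (β : C → ℂ) = (m : ℂ) ∧ ¬ p ∣ m) := by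
  classical
  haveI := Fact.mk hp
  by_cases hcop' : p ∣ Nat.card G
  · -- then `S` is trivial and `C = G`
    have hS1 : S = ⊥ := by
      rw [Subgroup.eq_bot_iff_card]
      rcases hS.card_eq_or_dvd with h | h
      · exact h
      · exact absurd (Nat.dvd_gcd hcop' h) (by rw [hcop.gcd_eq_one]; exact hp.not_dvd_one)
    have hGC : G ≤ C := by
      rw [hC, hS1]
      refine le_inf le_rfl fun g _ => Subgroup.mem_centralizer_iff.mpr fun s hs => ?_
      rw [Subgroup.mem_bot.mp hs]; simp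
    have hsurj : Function.Surjective (Subgroup.inclusion hCG) := fun g => ⟨⟨g, hGC g.2⟩, Subtype.ext rfl⟩
    have hinvall : ∀ χ : Cfsg.IrrCharacter G, ∀ s ∈ S, ∀ g g' : G, (g' : Γ) = s * g * s⁻¹ →
        (χ : G → ℂ) g' = (χ : G → ℂ) g := fun χ s hs g g' e => by
      rw [Subgroup.mem_bot.mp (show s ∈ (⊥ : Subgroup Γ) from hS1 ▸ hs)] at e
      rw [show g' = g from Subtype.ext (by simpa using e)]
    let res : Cfsg.IrrCharacter G → Cfsg.IrrCharacter C := fun χ =>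
      ⟨_, Lib.Characters.Basic.isIrrCharacter_comp (Subgroup.inclusion hCG) hsurj χ.2⟩
    have hres : Function.Injective res := fun a b e => Subtype.ext (funext fun g => by
      obtain ⟨c, rfl⟩ := hsurj g
      exact congrFun (congrArg Subtype.val e) c)
    have hm : ∀ (χ : Cfsg.IrrCharacter G) (β : Cfsg.IrrCharacter C), Lib.Glauberman.mult (Subgroup.inclusion hCG) χ β = if res χ = β then 1 else 0 := by
      intro χ β
      rw [← Lib.Glauberman.mult_eq_iff]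
      refine (Lib.Characters.Basic.classInner_irr (res χ) β).trans ?_
      split_ifs <;> simp
    have key : ∀ (χ : Cfsg.IrrCharacter G) (β : Cfsg.IrrCharacter C) (m : ℕ), Cfsg.classInner (fun c : C => (χ : G → ℂ) ⟨c, hCG c.2⟩) (β : C → ℂ) = (m : ℂ) →
        ¬ p ∣ m → res χ = β ∧ m = 1 := by
      intro χ β m e hd
      have e' := (Lib.Glauberman.mult_eq_iff (Subgroup.inclusion hCG) χ β m).mp e
      rw [hm] at e'
      split_ifs at e' with h
      · exact ⟨h, e'.symm⟩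
      · exact absurd (e' ▸ dvd_zero p) hd
    have key' : ∀ χ : Cfsg.IrrCharacter G, ∃ m : ℕ, Cfsg.classInner (fun c : C => (χ : G → ℂ) ⟨c, hCG c.2⟩) ((res χ : Cfsg.IrrCharacter C) : C → ℂ) = (m : ℂ) ∧ ¬ p ∣ m :=
      fun χ => ⟨1, ((Lib.Glauberman.mult_eq_iff (Subgroup.inclusion hCG) χ _ 1).mpr (by rw [hm, if_pos rfl])), hp.not_dvd_one⟩
    refine ⟨fun χ _ => ⟨res χ, key' χ, fun β ⟨m, e, hd⟩ => (key χ β m e hd).1.symm⟩,
      fun χ _ β m e hd => Or.inl (by rw [(key χ β m e hd).2]; rfl),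
      fun χ χ' _ _ β m m' e hd e' hd' =>
        hres ((key χ β m e hd).1.trans (key χ' β m' e' hd').1.symm), fun β => ?_⟩
    let e : G ≃* C := (MulEquiv.ofBijective (Subgroup.inclusion hCG) ⟨Subgroup.inclusion_injective hCG, hsurj⟩).symm
    let χ : Cfsg.IrrCharacter G := ⟨_, Lib.Characters.Basic.isIrrCharacter_comp e.toMonoidHom e.surjective β.2⟩
    have hχ : res χ = β := Subtype.ext (funext fun c => congrArg (β : C → ℂ) (e.symm.injective (by
      show e.symm (e (Subgroup.inclusion hCG c)) = e.symm c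
      rw [MulEquiv.symm_apply_apply]; rfl)))
    exact ⟨χ, hinvall χ, hχ ▸ key' χ⟩
  have hfix := Lib.Glauberman.isFix_actOf hnorm hC hCG
  refine ⟨?_, ?_, ?_, ?_⟩
  · intro χ hχ
    rw [← Lib.Glauberman.inv_actOf_iff hnorm] at hχ
    obtain ⟨β, hβ⟩ := Lib.Glauberman.corr_exists hS hcop' hfix (χ := χ)
    refine ⟨β, ⟨_, Lib.Glauberman.coe_mult (Subgroup.inclusion hCG) χ β, hβ⟩, ?_⟩
    rintro β' ⟨m, hm, hmd⟩
    have hm' := (Lib.Glauberman.mult_eq_iff (Subgroup.inclusion hCG) χ β' m).mp hm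
    exact Lib.Glauberman.corr_unique hS hcop' hfix hχ (hm'.symm ▸ hmd) hβ
  · intro χ hχ β m hm hmd
    rw [← Lib.Glauberman.inv_actOf_iff hnorm] at hχ
    obtain rfl := (Lib.Glauberman.mult_eq_iff (Subgroup.inclusion hCG) χ β m).mp hm
    have h2 := Lib.Glauberman.corr_mult_sq hS hcop' hfix hχ hmd
    rw [← Int.natCast_modEq_iff] at h2
    push_cast at h2
    have h3 := h2.symm.dvd
    rw [show ((Lib.Glauberman.mult (Subgroup.inclusion hCG) χ β : ℤ) * Lib.Glauberman.mult (Subgroup.inclusion hCG) χ β - 1)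
      = ((Lib.Glauberman.mult (Subgroup.inclusion hCG) χ β : ℤ) - 1) * ((Lib.Glauberman.mult (Subgroup.inclusion hCG) χ β : ℤ) - (-1)) by ring] at h3
    rcases (Int.prime_iff_natAbs_prime.mpr (by simpa using hp)).dvd_mul.mp h3 with h3 | h3
    · exact Or.inl (Int.modEq_iff_dvd.mpr h3).symm
    · exact Or.inr (Int.modEq_iff_dvd.mpr h3).symm
  · intro χ χ' hχ hχ' β m m' hm hmd hm' hmd'
    rw [← Lib.Glauberman.inv_actOf_iff hnorm] at hχ hχ'
    obtain rfl := (Lib.Glauberman.mult_eq_iff (Subgroup.inclusion hCG) χ β m).mp hm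
    obtain rfl := (Lib.Glauberman.mult_eq_iff (Subgroup.inclusion hCG) χ' β m').mp hm'
    exact Lib.Glauberman.corr_inj hS hcop' hfix hχ hχ' hmd hmd'
  · intro β
    obtain ⟨χ, hχ, hm⟩ := Lib.Glauberman.corr_surj hS hcop' hfix β
    exact ⟨χ, (Lib.Glauberman.inv_actOf_iff hnorm _).mp hχ, _,
      Lib.Glauberman.coe_mult (Subgroup.inclusion hCG) χ β, hm⟩

end Cfsg.Agent.S4444
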