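import Cfsg.Statements.S4445
import Cfsg.Agent.Lib.Glauberman.Internal
import Cfsg.Agent.Lib.Glauberman.Solvable

set_option autoImplicit false
open Cfsg

namespace Cfsg.Agent.S4445

/-- Inside a finite group Γ let the solvable subgroup S normalise G with the orders of G and S coprime. Then the number of S-invariant irreducible characters of G (χ(s g s⁻¹) = χ(g) for all s ∈ S, g ∈ G) equals the number of conjugacy classes of G mapped to themselves by conjugation by every element of S. -/
theorem result {Γ : Type*} [Group Γ] [Fintype Γ] (G S : Subgroup Γ) [Fintype G] (hnorm : ∀ s ∈ S, ∀ g ∈ G, s * g * s⁻¹ ∈ G) (hcop : (Nat.card G).Coprime (Nat.card S)) (hsolv : Group.IsSolvable S) : Nat.card {χ : Cfsg.IrrCharacter G // (∀ s ∈ S, ∀ g g' : G, (g' : Γ) = s * g * s⁻¹ → (χ : G → ℂ) g' = (χ : G → ℂ) g)} = Nat.card {K : ConjClasses G // ∀ s ∈ S, ∀ g g' : G, (g' : Γ) = s * g * s⁻¹ → ConjClasses.mk g = K → ConjClasses.mk g' = K} := by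
  classical
  haveI := hsolv
  let C : Subgroup Γ := G ⊓ Subgroup.centralizer (S : Set Γ)
  have hfix := Lib.Glauberman.isFix_actOf hnorm (C := C) rfl inf_le_left
  letI := Fintype.ofFinite C
  have h1 : Nat.card {χ : Cfsg.IrrCharacter G // (∀ s ∈ S, ∀ g g' : G, (g' : Γ) = s * g * s⁻¹ →
      (χ : G → ℂ) g' = (χ : G → ℂ) g)} = Nat.card (Cfsg.IrrCharacter C) := by
    rw [← Lib.Glauberman.card_inv_irr hfix hcop]
    exact Nat.card_congr (Equiv.subtypeEquivRight fun χ => (Lib.Glauberman.inv_actOf_iff hnorm _).symm)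
  rw [h1, Lib.Characters.Complete.card_irr_eq_card_conjClasses]
  let F : ConjClasses C → {K : ConjClasses G // ∀ s ∈ S, ∀ g g' : G, (g' : Γ) = s * g * s⁻¹ →
      ConjClasses.mk g = K → ConjClasses.mk g' = K} := fun k =>
    ⟨ConjClasses.map (Subgroup.inclusion inf_le_left) k, by
      induction k using Quotient.inductionOn with
      | _ c =>
        intro s hs g g' e hg
        have e' : g' = Lib.Glauberman.actOf hnorm ⟨s, hs⟩ g := Subtype.ext e
        change ConjClasses.mk g = ConjClasses.mk (Subgroup.inclusion inf_le_left c) at hg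
        change ConjClasses.mk g' = ConjClasses.mk (Subgroup.inclusion inf_le_left c)
        rw [ConjClasses.mk_eq_mk_iff_isConj] at hg ⊢
        have := (Lib.Glauberman.actOf hnorm ⟨s, hs⟩).toMonoidHom.map_isConj hg
        rw [MulEquiv.coe_toMonoidHom, Lib.Glauberman.fix_apply hfix] at this
        rwa [e']⟩
  refine Nat.card_congr (Equiv.ofBijective F ⟨?_, ?_⟩)
  · intro a b e
    induction a using Quotient.inductionOn with
    | _ c =>
      induction b using Quotient.inductionOn with
      | _ c' =>
        have e' := congrArg Subtype.val e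
        change ConjClasses.mk (Subgroup.inclusion inf_le_left c) =
          ConjClasses.mk (Subgroup.inclusion inf_le_left c') at e'
        exact ConjClasses.mk_eq_mk_iff_isConj.mpr
          (Lib.Glauberman.fusion hfix hcop (ConjClasses.mk_eq_mk_iff_isConj.mp e'))
  · rintro ⟨K, hK⟩
    obtain ⟨g, rfl⟩ := ConjClasses.mk_surjective K
    obtain ⟨c, hc⟩ := Lib.Glauberman.exists_fix_of_inv_class hfix hcop g fun s =>
      ConjClasses.mk_eq_mk_iff_isConj.mp (hK s s.2 g _ rfl rfl).symm
    exact ⟨ConjClasses.mk c, Subtype.ext (ConjClasses.mk_eq_mk_iff_isConj.mpr hc.symm)⟩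

end Cfsg.Agent.S4445
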