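import Cfsg.Statements.S4446
import Cfsg.Agent.Lib.Glauberman.Cyclic

set_option autoImplicit false
open Cfsg

namespace Cfsg.Agent.S4446

/-- Let the finite group Γ be generated by a normal subgroup G and a cyclic subgroup S of coprime orders, C = G ⊓ C(S), and let χ be an S-invariant irreducible character of G with canonical extension χ̂ to Γ (the extension whose determinantal order is coprime to the order of S). Then there are exactly one irreducible character β of C and one sign ε such that χ̂(c s) = ε β(c) for every c ∈ C and every generator s of S; this β is a constituent of the restriction of χ to C; distinct S-invariant χ give distinct β; and every irreducible character of C arises in this way. -/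
theorem result {Γ : Type*} [Group Γ] [Fintype Γ] (G S : Subgroup Γ) [Fintype G] (hnorm : ∀ s ∈ S, ∀ g ∈ G, s * g * s⁻¹ ∈ G) (hcop : (Nat.card G).Coprime (Nat.card S)) (htop : G ⊔ S = ⊤) (hcyc : IsCyclic S) (C : Subgroup Γ) [Fintype C] (hC : C = G ⊓ Subgroup.centralizer (S : Set Γ)) (hCG : C ≤ G) : (∀ (χ : Cfsg.IrrCharacter G) (χh : Cfsg.IrrCharacter Γ), (∀ s ∈ S, ∀ g g' : G, (g' : Γ) = s * g * s⁻¹ → (χ : G → ℂ) g' = (χ : G → ℂ) g) → (∀ g : G, (χh : Γ → ℂ) g = (χ : G → ℂ) g) → (Cfsg.detOrder (χh : Γ → ℂ)).Coprime (Nat.card S) → (∃! βε : Cfsg.IrrCharacter C × ℤ, (βε.2 = 1 ∨ βε.2 = -1) ∧ ∀ c : C, ∀ s : Γ, Subgroup.zpowers s = S → (χh : Γ → ℂ) ((c : Γ) * s) = (βε.2 : ℂ) * (βε.1 : C → ℂ) c) ∧ ∀ β : Cfsg.IrrCharacter C, ∀ ε : ℤ, (ε = 1 ∨ ε = -1) → (∀ c : C, ∀ s : Γ, Subgroup.zpowers s = S → (χh : Γ → ℂ) ((c : Γ) * s) = (ε : ℂ) * (β : C → ℂ) c) → Cfsg.classInner (fun c : C =>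 (χ : G → ℂ) ⟨c, hCG c.2⟩) (β : C → ℂ) ≠ 0) ∧ (∀ (χ χ' : Cfsg.IrrCharacter G) (χh χh' : Cfsg.IrrCharacter Γ), (∀ s ∈ S, ∀ g g' : G, (g' : Γ) = s * g * s⁻¹ → (χ : G → ℂ) g' = (χ : G → ℂ) g) → (∀ s ∈ S, ∀ g g' : G, (g' : Γ) = s * g * s⁻¹ → (χ' : G → ℂ) g' = (χ' : G → ℂ) g) → (∀ g : G, (χh : Γ → ℂ) g = (χ : G → ℂ) g) → (∀ g : G, (χh' : Γ → ℂ) g = (χ' : G → ℂ) g) → (Cfsg.detOrder (χh : Γ → ℂ)).Coprime (Nat.card S) → (Cfsg.detOrder (χh' : Γ → ℂ)).Coprime (Nat.card S) → ∀ β : Cfsg.IrrCharacter C, ∀ ε ε' : ℤ, (ε = 1 ∨ ε = -1) → (ε' = 1 ∨ ε' = -1) → (∀ c : C, ∀ s : Γ, Subgroup.zpowers s = S → (χh : Γ → ℂ) ((c : Γ) * s) = (ε : ℂ) * (β : C → ℂ) c) → (∀ c : C, ∀ s : Γ, Subgroup.zpowers s = S → (χh' : Γ → ℂ) ((c : Γ) * s) = (ε' : ℂ) * (β : C → ℂ) c) → χ = χ') ∧ (∀ β : Cfsg.IrrCharacter C, ∃ (χ : Cfsg.IrrCharacter G) (χh : Cfsg.IrrCharacter Γ) (ε : ℤ), (∀ s ∈ S, ∀ g g' : G, (g' : Γ)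 = s * g * s⁻¹ → (χ : G → ℂ) g' = (χ : G → ℂ) g) ∧ (∀ g : G, (χh : Γ → ℂ) g = (χ : G → ℂ) g) ∧ (Cfsg.detOrder (χh : Γ → ℂ)).Coprime (Nat.card S) ∧ (ε = 1 ∨ ε = -1) ∧ ∀ c : C, ∀ s : Γ, Subgroup.zpowers s = S → (χh : Γ → ℂ) ((c : Γ) * s) = (ε : ℂ) * (β : C → ℂ) c) := by
    have h : Lib.Glauberman.Cyclic.Setup G S C := ⟨hnorm, hcop, htop, hcyc, hC, hCG⟩
    refine ⟨fun χ χh _ e hdet => ?_, fun χ χ' χh χh' _ _ e e' _ _ β ε ε' hε hε' hv hv' =>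
      Lib.Glauberman.Cyclic.corr_inj h e e' hε hε' hv hv', Lib.Glauberman.Cyclic.corr_surj h⟩
    obtain ⟨β, ε, hε, hv, hne⟩ := Lib.Glauberman.Cyclic.exists_beta h e hdet
    obtain ⟨s, hs⟩ := Lib.Glauberman.Cyclic.exists_gen h
    have huniq : ∀ (β' : Cfsg.IrrCharacter C) (ε' : ℤ), (ε' = 1 ∨ ε' = -1) →
        (∀ c : C, ∀ t : Γ, Subgroup.zpowers t = S →
          (χh : Γ → ℂ) ((c : Γ) * t) = (ε' : ℂ) * (β' : C → ℂ) c) → β' = β ∧ ε' = ε := by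
      intro β' ε' hε' hv'
      have hf : (fun c : C => (ε' : ℂ) * (β' : C → ℂ) c) = fun c => (ε : ℂ) * (β : C → ℂ) c :=
        funext fun c => (hv' c s hs).symm.trans (hv c s hs)
      have hbb : β' = β := by
        by_contra hne'
        have h1 := congrArg (fun f => Cfsg.classInner f (β : C → ℂ)) hf
        simp only [← smul_eq_mul] at h1
        change Cfsg.classInner ((ε' : ℂ) • (β' : C → ℂ)) (β : C → ℂ) =
          Cfsg.classInner ((ε : ℂ) • (β : C → ℂ)) (β : C → ℂ) at h1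
        rw [Lib.Induced.Basic.classInner_smul_left, Lib.Induced.Basic.classInner_smul_left,
          Lib.Characters.Basic.classInner_self_irr, Lib.Characters.Basic.classInner_irr_of_ne hne'] at h1
        rcases hε with rfl | rfl <;> simp at h1
      subst hbb
      refine ⟨rfl, ?_⟩
      have h1 := congrFun hf 1
      exact_mod_cast mul_right_cancel₀ (Lib.Characters.Basic.apply_one_ne_zero β') h1
    refine ⟨⟨(β, ε), ⟨hε, hv⟩, fun p hp => ?_⟩, fun β' ε' hε' hv' => ?_⟩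
    · obtain ⟨h1, h2⟩ := huniq p.1 p.2 hp.1 hp.2
      exact Prod.ext h1 h2
    · rw [(huniq β' ε' hε' hv').1]
      exact hne

end Cfsg.Agent.S4446
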