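import Cfsg.Statements.S4447
import Cfsg.Agent.Lib.Coprime.Glauberman
import Cfsg.Agent.Lib.Clifford.Basic
-- import your own Cfsg.Agent.* helpers here

set_option autoImplicit false
open Cfsg

namespace Cfsg.Agent.S4447

open Lib.Characters

section Perm

variable {Γ : Type*} [Group Γ] (N : Subgroup Γ)

/-- An element of the normalizer permutes the irreducible characters of `N`. -/
def permIrr : Subgroup.normalizer (N : Set Γ) →* Equiv.Perm (Cfsg.IrrCharacter N) where
  toFun x :=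
    { toFun := fun θ => ⟨_, Basic.isIrrCharacter_comp (N.normalizerMonoidHom x⁻¹).toMonoidHom
        (N.normalizerMonoidHom x⁻¹).surjective θ.2⟩
      invFun := fun θ => ⟨_, Basic.isIrrCharacter_comp (N.normalizerMonoidHom x).toMonoidHom
        (N.normalizerMonoidHom x).surjective θ.2⟩
      left_inv := fun θ => Subtype.ext (funext fun n => congrArg (θ : N → ℂ) (by simp))
      right_inv := fun θ => Subtype.ext (funext fun n => congrArg (θ : N → ℂ) (by simp)) }
  map_one' := Equiv.ext fun θ => Subtype.ext (funext fun n => congrArg (θ : N → ℂ) (by simp))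
  map_mul' x y := Equiv.ext fun θ =>
    Subtype.ext (funext fun n => congrArg (θ : N → ℂ) (by simp))

theorem permIrr_apply (x : Subgroup.normalizer (N : Set Γ)) (θ : Cfsg.IrrCharacter N) (n : N) :
    (permIrr N x θ : N → ℂ) n = (θ : N → ℂ) (N.normalizerMonoidHom x⁻¹ n) := rfl

theorem coe_nmh (x : Subgroup.normalizer (N : Set Γ)) (n : N) :
    ((N.normalizerMonoidHom x n : N) : Γ) = x * n * (x : Γ)⁻¹ := rfl

theorem subgroupOf_le_ker : N.subgroupOf (Subgroup.normalizer (N : Set Γ)) ≤ (permIrr N).ker := by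
  intro x hx
  refine MonoidHom.mem_ker.mpr (Equiv.ext fun θ => Subtype.ext (funext fun n => ?_))
  rw [permIrr_apply]
  refine Eq.trans (congrArg (θ : N → ℂ) (Subtype.ext ?_))
    (Basic.isClassFunction_irr θ n (⟨(x : Γ)⁻¹, N.inv_mem (Subgroup.mem_subgroupOf.mp hx)⟩ : N))
  simp [coe_nmh]

end Perm

/-- Inside a finite group Γ let S normalise G and also normalise a normal subgroup N of G, with the order of S coprime to the index of N in G and S or G/N solvable. Then for every S-invariant irreducible character χ of G, the restriction of χ to N has an S-invariant irreducible constituent. -/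
theorem result {Γ : Type*} [Group Γ] [Fintype Γ] (G S N : Subgroup Γ) [Fintype G] [Fintype N] (hnorm : ∀ s ∈ S, ∀ g ∈ G, s * g * s⁻¹ ∈ G) (hNG : N ≤ G) [hNn : (N.subgroupOf G).Normal] (hNS : ∀ s ∈ S, ∀ n ∈ N, s * n * s⁻¹ ∈ N) (hcop : (N.relIndex G).Coprime (Nat.card S)) (hsolv : Group.IsSolvable S ∨ Group.IsSolvable (G ⧸ N.subgroupOf G)) (χ : Cfsg.IrrCharacter G) (hinv : (∀ s ∈ S, ∀ g g' : G, (g' : Γ) = s * g * s⁻¹ → (χ : G → ℂ) g' = (χ : G → ℂ) g)) : ∃ θ : Cfsg.IrrCharacter N, Cfsg.classInner (fun n : N => (χ : G → ℂ) ⟨n, hNG n.2⟩) (θ : N → ℂ) ≠ 0 ∧ (∀ s ∈ S, ∀ g g' : N, (g' : Γ) = s * g * s⁻¹ → (θ : N → ℂ) g' = (θ : N → ℂ) g) := by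
  classical
  let Γ₀ : Subgroup Γ := Subgroup.normalizer (N : Set Γ)
  let M := N.subgroupOf Γ₀
  let Q := Γ₀ ⧸ M
  let π : Γ₀ →* Q := QuotientGroup.mk' M
  have hGn : G ≤ Γ₀ := (Subgroup.normal_subgroupOf_iff_le_normalizer hNG).mp hNn
  have hSn : S ≤ Γ₀ := fun s hs => by
    rw [Subgroup.mem_normalizer_iff]
    exact fun n => ⟨fun hn => hNS s hs n hn, fun hn => by
      have := hNS s⁻¹ (inv_mem hs) _ hn
      simpa [mul_assoc] using this⟩
  let f : G →* Q := π.comp (Subgroup.inclusion hGn)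
  let fS : S →* Q := π.comp (Subgroup.inclusion hSn)
  letI : MulAction Q (Cfsg.IrrCharacter N) :=
    MulAction.compHom (Cfsg.IrrCharacter N) (QuotientGroup.lift M (permIrr N) (subgroupOf_le_ker N))
  have hsmul : ∀ (x : Γ₀) (θ : Cfsg.IrrCharacter N), π x • θ = permIrr N x θ := fun x θ => rfl
  have hker : f.ker = N.subgroupOf G := by
    ext g
    show π (Subgroup.inclusion hGn g) = 1 ↔ g ∈ N.subgroupOf G
    rw [QuotientGroup.mk'_apply, QuotientGroup.eq_one_iff, Subgroup.mem_subgroupOf,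
      Subgroup.mem_subgroupOf, Subgroup.coe_inclusion]
  have hcardK : Nat.card f.range = N.relIndex G := by
    rw [← Subgroup.index_ker f, hker]; rfl
  have hcardA : Nat.card fS.range ∣ Nat.card S := by
    rw [← Subgroup.index_ker fS]; exact Subgroup.index_dvd_card _
  have hinvC : ∀ (x : Γ₀), (∀ g g' : G, (g' : Γ) = x * g * (x : Γ)⁻¹ →
      (χ : G → ℂ) g' = (χ : G → ℂ) g) → ∀ θ : Cfsg.IrrCharacter N,
      Cfsg.classInner (fun n : N => (χ : G → ℂ) ⟨n, hNG n.2⟩) (θ : N → ℂ) ≠ 0 →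
      Cfsg.classInner (fun n : N => (χ : G → ℂ) ⟨n, hNG n.2⟩) ((π x • θ : Cfsg.IrrCharacter N) : N → ℂ) ≠ 0 := by
    intro x hx θ h
    refine fun h0 => h (Eq.trans ?_ h0)
    rw [hsmul]
    unfold Cfsg.classInner
    congr 1
    refine (Fintype.sum_equiv (N.normalizerMonoidHom x⁻¹).toEquiv _ _ fun n => ?_).symm
    rw [permIrr_apply]
    refine congrArg (· * _) (hx ⟨_, hNG (N.normalizerMonoidHom x⁻¹ n).2⟩ ⟨n, hNG n.2⟩ ?_)
    simp [coe_nmh, mul_assoc]
  have hN' : (N.subgroupOf G).Normal := hNn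
  let e : N.subgroupOf G ≃* N := Subgroup.subgroupOfEquivOfLe hNG
  haveI := Fintype.ofFinite (N.subgroupOf G)
  have hinner : ∀ θ : Cfsg.IrrCharacter N,
      Cfsg.classInner (fun n : N => (χ : G → ℂ) ⟨n, hNG n.2⟩) (θ : N → ℂ) =
        Cfsg.classInner (fun x : N.subgroupOf G => (χ : G → ℂ) x)
          ((θ : N → ℂ) ∘ e.toMonoidHom) := by
    intro θ
    unfold Cfsg.classInner
    rw [Nat.card_congr e.toEquiv]
    congr 1
    exact (Fintype.sum_equiv e.toEquiv _ _ fun x => rfl).symm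
  let T : Set (Cfsg.IrrCharacter N) :=
    {θ | Cfsg.classInner (fun n : N => (χ : G → ℂ) ⟨n, hNG n.2⟩) (θ : N → ℂ) ≠ 0}
  have hTne : T.Nonempty := by
    obtain ⟨a, ha⟩ := Lib.Clifford.Basic.exists_constituent_restrict (N.subgroupOf G) χ.2
    let a' : Cfsg.IrrCharacter N :=
      ⟨_, Basic.isIrrCharacter_comp e.symm.toMonoidHom e.symm.surjective a.2⟩
    refine ⟨a', ?_⟩
    show _ ≠ _
    rw [hinner]
    convert ha using 3
    funext x
    exact congrArg (a : N.subgroupOf G → ℂ) (e.symm_apply_apply x)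
  obtain ⟨θ, hθ, hfix⟩ := Lib.Coprime.exists_fixed_point (A := fS.range) (K := f.range) T hTne
    (by
      rintro _ ⟨s, rfl⟩
      rw [Subgroup.mem_normalizer_iff]
      have key : ∀ (s : S) (q : Q), q ∈ f.range → fS s * q * (fS s)⁻¹ ∈ f.range := by
        rintro s _ ⟨g, rfl⟩
        refine ⟨⟨s * g * (s : Γ)⁻¹, hnorm s s.2 g g.2⟩, ?_⟩
        show π _ = π _ * π _ * (π _)⁻¹
        rw [← map_mul, ← map_inv, ← map_mul]
        rfl
      exact fun q => ⟨key s q, fun hq => by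
        have := key s⁻¹ _ hq
        rwa [map_inv, inv_inv, ← mul_assoc, ← mul_assoc, inv_mul_cancel, one_mul,
          inv_mul_cancel_right] at this⟩)
    ((hcardK ▸ hcop).symm.coprime_dvd_left hcardA)
    (hsolv.imp (fun (h : Group.IsSolvable S) => haveI := h; Group.isSolvable_of_surjective fS.rangeRestrict_surjective)
      (fun (h : Group.IsSolvable (G ⧸ N.subgroupOf G)) => haveI := h; Group.isSolvable_of_surjective (f := QuotientGroup.lift (N.subgroupOf G)
        f.rangeRestrict (by rw [MonoidHom.ker_rangeRestrict, hker])) (fun q => by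
          obtain ⟨g, hg⟩ := f.rangeRestrict_surjective q
          exact ⟨g, hg⟩)))
    (by
      rintro _ ⟨s, rfl⟩ θ hθ
      exact hinvC (Subgroup.inclusion hSn s) (fun g g' => hinv s s.2 g g') θ hθ)
    (by
      rintro _ ⟨g, rfl⟩ θ hθ
      refine hinvC (Subgroup.inclusion hGn g) (fun h h' eh => ?_) θ hθ
      rw [show h' = g * h * g⁻¹ from Subtype.ext eh]
      exact Basic.isClassFunction_irr χ h g)
    (by
      intro θ hθ θ' hθ'
      obtain ⟨g, hg⟩ := Lib.Clifford.Basic.exists_conj_of_constituents (N.subgroupOf G) χ.2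
        (θ := ⟨_, Basic.isIrrCharacter_comp e.toMonoidHom e.surjective θ.2⟩)
        (ψ := ⟨_, Basic.isIrrCharacter_comp e.toMonoidHom e.surjective θ'.2⟩)
        (by have h := hθ; rw [Set.mem_ofPred_eq, hinner] at h; exact h)
        (by have h := hθ'; rw [Set.mem_ofPred_eq, hinner] at h; exact h)
      refine ⟨f g⁻¹, ⟨g⁻¹, rfl⟩, Subtype.ext (funext fun n => ?_)⟩
      show ((π (Subgroup.inclusion hGn g⁻¹) • θ : Cfsg.IrrCharacter N) : N → ℂ) n = (θ' : N → ℂ) n
      rw [hsmul, permIrr_apply]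
      refine Eq.trans (congrArg (θ : N → ℂ) (Subtype.ext ?_))
        ((congrFun hg ⟨⟨n, hNG n.2⟩, n.2⟩).trans rfl)
      show _ = ((g * ⟨(n : Γ), hNG n.2⟩ * g⁻¹ : G) : Γ)
      simp [coe_nmh, mul_assoc])
  refine ⟨θ, hθ, fun s hs g g' eg => ?_⟩
  have h := congrFun (congrArg Subtype.val (hfix (fS ⟨s, hs⟩) ⟨_, rfl⟩)) g'
  rw [show fS ⟨s, hs⟩ = π (Subgroup.inclusion hSn ⟨s, hs⟩) from rfl, hsmul, permIrr_apply] at h
  refine h.symm.trans (congrArg (θ : N → ℂ) (Subtype.ext ?_))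
  simp [coe_nmh, eg, mul_assoc]

end Cfsg.Agent.S4447
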