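import Cfsg.Statements.S4448
import Cfsg.Agent.Lib.BC77.InvOver
import Cfsg.Agent.Lib.Glauberman.Internal
-- import your own Cfsg.Agent.* helpers here

set_option autoImplicit false
open Cfsg

namespace Cfsg.Agent.S4448

/-- Inside a finite group Γ let S normalise G and also normalise a normal subgroup N of G, with the order of S coprime to the index of N in G and G/N solvable. Then for every S-invariant irreducible character ϑ of N, the induced character ϑ^G has an S-invariant irreducible constituent. -/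
theorem result {Γ : Type*} [Group Γ] [Fintype Γ] (G S N : Subgroup Γ) [Fintype G] [Fintype N] (hnorm : ∀ s ∈ S, ∀ g ∈ G, s * g * s⁻¹ ∈ G) (hNG : N ≤ G) [hNn : (N.subgroupOf G).Normal] (hNS : ∀ s ∈ S, ∀ n ∈ N, s * n * s⁻¹ ∈ N) (hcop : (N.relIndex G).Coprime (Nat.card S)) (hsolv : Group.IsSolvable (G ⧸ N.subgroupOf G)) (θ : Cfsg.IrrCharacter N) (hinv : (∀ s ∈ S, ∀ g g' : N, (g' : Γ) = s * g * s⁻¹ → (θ : N → ℂ) g' = (θ : N → ℂ) g)) : ∃ χ : Cfsg.IrrCharacter G, Cfsg.classInner (fun n : N => (χ : G → ℂ) ⟨n, hNG n.2⟩) (θ : N → ℂ) ≠ 0 ∧ (∀ s ∈ S, ∀ g g' : G, (g' : Γ) = s * g * s⁻¹ → (χ : G → ℂ) g' = (χ : G → ℂ) g) := by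
  classical
  let act := Lib.Glauberman.actOf hnorm
  haveI := Fintype.ofFinite S
  haveI := Fintype.ofFinite (N.subgroupOf G)
  let e : N.subgroupOf G ≃* N := Subgroup.subgroupOfEquivOfLe hNG
  let θ' : Cfsg.IrrCharacter (N.subgroupOf G) :=
    ⟨_, Lib.Characters.Basic.isIrrCharacter_comp e.toMonoidHom e.surjective θ.2⟩
  obtain ⟨χ, hχ, hχi⟩ := Lib.BC77.InvOver.exists_invariant_over act (N.subgroupOf G)
    (fun s x hx => hNS s s.2 x hx) hcop hsolv θ' (fun s x y hy =>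
      hinv s s.2 (e x) (e y) (congrArg Subtype.val hy))
  refine ⟨χ, ?_, (Lib.Glauberman.inv_actOf_iff hnorm _).mp hχi⟩
  have h : Cfsg.classInner (fun n : N => (χ : G → ℂ) ⟨n, hNG n.2⟩) (θ : N → ℂ) =
      Cfsg.classInner (fun x : N.subgroupOf G => (χ : G → ℂ) x) (θ' : N.subgroupOf G → ℂ) := by
    unfold Cfsg.classInner
    rw [Nat.card_congr e.toEquiv]
    congr 1
    exact (Fintype.sum_equiv e.toEquiv _ _ fun x => rfl).symm
  rw [h]
  exact hχ

end Cfsg.Agent.S4448
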