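import Cfsg.Statements.S4450
import Cfsg.Agent.Lib.InvariantAbove.Solvable
import Cfsg.Agent.Lib.InvariantAbove.Central
import Cfsg.Agent.Lib.Brauer.ProjExt
import Cfsg.Agent.Lib.Chars82.StableExtension

set_option autoImplicit false
open Cfsg

namespace Cfsg.Agent.S4450

open Cfsg.Agent.Lib.Characters.Basic Cfsg.Agent.Lib.Characters.Linear Cfsg.Agent.Lib
open Cfsg.Agent.Lib.Induced.Basic Cfsg.Agent.Lib.BlocksChars5

universe u

/-- The case of a solvable layer `G/N`. -/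
theorem solvable_below {Γ : Type u} [Group Γ] [Fintype Γ] (G N : Subgroup Γ) [hG : G.Normal]
    [hN : N.Normal] [Fintype G] [Fintype N] (hNG : N ≤ G)
    (hcop : (G.index).Coprime (N.relIndex G))
    (hsolv : Group.IsSolvable (G ⧸ N.subgroupOf G)) (θ : Cfsg.IrrCharacter N)
    (hinv : ∀ (x : Γ) (n : N),
      (θ : N → ℂ) ⟨x * n * x⁻¹, hN.conj_mem n n.2 x⟩ = (θ : N → ℂ) n) :
    ∃ χ : Cfsg.IrrCharacter G,
      Cfsg.classInner (fun n : N => (χ : G → ℂ) ⟨n, hNG n.2⟩) (θ : N → ℂ) ≠ 0 ∧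
      ∀ (x : Γ) (g : G), (χ : G → ℂ) ⟨x * g * x⁻¹, hG.conj_mem g g.2 x⟩ = (χ : G → ℂ) g := by
  classical
  set π := QuotientGroup.mk' N with hπ
  have hπs : Function.Surjective π := QuotientGroup.mk'_surjective N
  let Gb : Subgroup (Γ ⧸ N) := G.map π
  haveI : Gb.Normal := Subgroup.Normal.map hG π hπs
  have hcomap : Gb.comap π = G := Subgroup.comap_map_eq_self (by rwa [QuotientGroup.ker_mk'])
  have hGbidx : Gb.index = G.index := by
    rw [← Subgroup.index_comap_of_surjective Gb hπs, hcomap]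
  have hGbcard : Nat.card Gb = N.relIndex G := by
    rw [← Subgroup.relIndex_bot_left, ← Subgroup.map_bot π]
    show (Subgroup.map π ⊥).relIndex (G.map π) = _
    rw [Subgroup.relIndex_map_map, bot_sup_eq, QuotientGroup.ker_mk', sup_of_le_left hNG]
  obtain ⟨Sb, hSb⟩ := Subgroup.exists_right_complement'_of_coprime (N := Gb)
    (by rw [hGbidx, hGbcard]; exact hcop.symm)
  let S : Subgroup Γ := Sb.comap π
  have hNS : N ≤ S := fun n hn => by
    show π n ∈ Sb
    rw [hπ, QuotientGroup.mk'_apply, (QuotientGroup.eq_one_iff n).mpr hn]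
    exact Sb.one_mem
  let act : S →* MulAut G := Glauberman.actOf (fun s _ g hg => hG.conj_mem g hg s)
  let N' : Subgroup G := N.subgroupOf G
  let eN : N' ≃* N := Subgroup.subgroupOfEquivOfLe hNG
  let θ' : Cfsg.IrrCharacter N' :=
    ⟨(θ : N → ℂ) ∘ eN.toMonoidHom, isIrrCharacter_comp _ eN.surjective θ.2⟩
  have hS₀idx : (N.subgroupOf S).index = G.index := by
    show N.relIndex S = _
    have h1 : N.relIndex S = Nat.card Sb := by
      rw [← Subgroup.relIndex_bot_left, ← Subgroup.map_bot π]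
      conv_rhs => rw [← Subgroup.map_comap_eq_self_of_surjective hπs Sb]
      rw [Subgroup.relIndex_map_map, bot_sup_eq, QuotientGroup.ker_mk', sup_of_le_left hNS]
    rw [h1, ← hSb.symm.index_eq_card, hGbidx]
  haveI : (N.subgroupOf S).Normal := hN.subgroupOf S
  haveI : N'.Normal := hN.subgroupOf G
  obtain ⟨χ, hχθ, hχS⟩ := InvariantAbove.Solvable.exists_inv act N' (N.subgroupOf S)
    (fun s hs => ⟨⟨s, hNG hs⟩, hs, fun g => Subtype.ext rfl⟩)
    (fun s g hg => hN.conj_mem _ hg s) (by rw [hS₀idx]; exact hcop) hsolv θ'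
    (fun g => funext fun x => hinv (g : Γ) (eN x)) (fun s x => hinv (s : Γ) (eN x))
  refine ⟨χ, ?_, fun x g => ?_⟩
  · have : Cfsg.classInner (fun n : N => (χ : G → ℂ) ⟨n, hNG n.2⟩) (θ : N → ℂ) =
        Cfsg.classInner (fun x : N' => (χ : G → ℂ) x) θ' := by
      simp only [Cfsg.classInner, Nat.card_congr eN.toEquiv]
      congr 1
      exact (Fintype.sum_equiv eN.toEquiv _ _ fun x => rfl).symm
    rwa [this]
  · obtain ⟨⟨a, b⟩, hab⟩ := hSb.2 (π x)
    obtain ⟨a', ha', ha'2⟩ := a.2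
    have hxS : a'⁻¹ * x ∈ S := by
      show π (a'⁻¹ * x) ∈ Sb
      rw [map_mul, map_inv, ha'2, ← hab]
      show (a : Γ ⧸ N)⁻¹ * ((a : Γ ⧸ N) * b) ∈ Sb
      rw [inv_mul_cancel_left]
      exact b.2
    have h1 := hχS ⟨_, hxS⟩ g
    rw [← h1, ← isClassFunction_irr χ (act ⟨_, hxS⟩ g) ⟨a', ha'⟩]
    refine congrArg _ (Subtype.ext ?_)
    show x * g * x⁻¹ = a' * (a'⁻¹ * x * g * (a'⁻¹ * x)⁻¹) * a'⁻¹
    group

/-- The case of a solvable layer `Γ/G`. -/
theorem solvable_above {Γ : Type u} [Group Γ] [Fintype Γ] (G N : Subgroup Γ) [hG : G.Normal]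
    [hN : N.Normal] [Fintype G] [Fintype N] (hNG : N ≤ G)
    (hcop : (G.index).Coprime (N.relIndex G))
    (hsolv : Group.IsSolvable (Γ ⧸ G)) (θ : Cfsg.IrrCharacter N)
    (hinv : ∀ (x : Γ) (n : N),
      (θ : N → ℂ) ⟨x * n * x⁻¹, hN.conj_mem n n.2 x⟩ = (θ : N → ℂ) n) :
    ∃ χ : Cfsg.IrrCharacter G,
      Cfsg.classInner (fun n : N => (χ : G → ℂ) ⟨n, hNG n.2⟩) (θ : N → ℂ) ≠ 0 ∧
      ∀ (x : Γ) (g : G), (χ : G → ℂ) ⟨x * g * x⁻¹, hG.conj_mem g g.2 x⟩ = (χ : G → ℂ) g := by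
  classical
  obtain ⟨d, ρ, hρ, hρc⟩ := exists_rep θ
  haveI := hρ
  have hinvρ : ∀ x : Γ, (Clifford.Extension.conjRep N ρ x).character = ρ.character := by
    intro x
    funext n
    show ρ.character ⟨x * n * x⁻¹, hN.conj_mem n n.2 x⟩ = ρ.character n
    rw [hρc]
    exact hinv x n
  set X := Brauer.ProjExt.Gam N ρ with hX
  haveI : Finite X := Brauer.ProjExt.finite_Gam N ρ
  letI := Fintype.ofFinite X
  set pr := Brauer.ProjExt.proj N ρ with hpr
  have hprs : Function.Surjective pr := Brauer.ProjExt.proj_surjective N ρ hinvρ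
  set em := Brauer.ProjExt.emb N ρ with hem
  have hprem : ∀ n : N, pr (em n) = (n : Γ) := fun n => rfl
  have htaut : ∀ n : N, Brauer.ProjExt.taut N ρ (em n) = ρ n := fun n => rfl
  haveI hEn : em.range.Normal := ⟨by
    rintro _ ⟨n, rfl⟩ γ
    refine ⟨⟨pr γ * n * (pr γ)⁻¹, hN.conj_mem n n.2 _⟩, ?_⟩
    apply Subtype.ext
    refine Prod.ext rfl (Units.ext ?_)
    show ρ (Brauer.ProjExt.cn N (pr γ) n) =
      Brauer.ProjExt.taut N ρ γ * ρ n * Brauer.ProjExt.taut N ρ γ⁻¹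
    rw [Brauer.ProjExt.taut_mul, mul_assoc, ← map_mul, mul_inv_cancel, map_one, mul_one]⟩
  set mk := QuotientGroup.mk' em.range with hmk
  have hmks : Function.Surjective mk := QuotientGroup.mk'_surjective _
  let P : Subgroup X := G.comap pr
  let R : Subgroup X := N.comap pr
  haveI : P.Normal := hG.comap pr
  let H : Subgroup (X ⧸ em.range) := P.map mk
  haveI : H.Normal := Subgroup.Normal.map inferInstance mk hmks
  let Z : Subgroup (X ⧸ em.range) := pr.ker.map mk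
  have hEP : em.range ≤ P := by
    rintro _ ⟨n, rfl⟩
    exact hNG n.2
  have hkerP : pr.ker ≤ P := fun γ hγ => by
    show pr γ ∈ G
    rw [MonoidHom.mem_ker.mp hγ]
    exact G.one_mem
  have hker1 : ∀ γ ∈ pr.ker, γ ∈ em.range → γ = 1 := by
    rintro γ hγ ⟨n, rfl⟩
    have : n = 1 := Subtype.ext ((hprem n).symm.trans hγ)
    rw [this, map_one]
  -- the scalar of a kernel element
  have hmemR : ∀ γ : pr.ker, (γ : X) ∈ Brauer.ProjExt.pre N ρ N := fun γ => by
    show pr γ ∈ N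
    rw [MonoidHom.mem_ker.mp γ.2]
    exact N.one_mem
  let lam : pr.ker →* ℂˣ :=
    (Brauer.ProjExt.lam0 N ρ).comp
      { toFun := fun γ => ⟨(γ : X), hmemR γ⟩
        map_one' := rfl
        map_mul' := fun _ _ => rfl }
  have hlam : ∀ γ : pr.ker, Brauer.ProjExt.taut N ρ γ = (lam γ : ℂ) • 1 := by
    intro γ
    have := Brauer.ProjExt.lam0_spec N ρ ⟨(γ : X), hmemR γ⟩
    rw [this]
    congr 1
    rw [show (⟨pr (γ : X), hmemR γ⟩ : N) = 1 from Subtype.ext (MonoidHom.mem_ker.mp γ.2), map_one]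
  have hcent : Z ≤ Subgroup.center (X ⧸ em.range) := by
    rintro _ ⟨γ, hγ, rfl⟩
    rw [Subgroup.mem_center_iff]
    intro q
    obtain ⟨δ, rfl⟩ := hmks q
    rw [← map_mul, ← map_mul]
    congr 1
    apply Subtype.ext
    refine Prod.ext ?_ (Units.ext ?_)
    · show pr δ * pr γ = pr γ * pr δ
      rw [MonoidHom.mem_ker.mp hγ, mul_one, one_mul]
    · show Brauer.ProjExt.taut N ρ δ * Brauer.ProjExt.taut N ρ γ =
        Brauer.ProjExt.taut N ρ γ * Brauer.ProjExt.taut N ρ δ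
      rw [hlam ⟨γ, hγ⟩, mul_smul_comm, mul_one, smul_mul_assoc, one_mul]
  let eZ : pr.ker ≃* Z := MulEquiv.ofBijective (mk.subgroupMap pr.ker)
    ⟨by
      rw [injective_iff_map_eq_one]
      intro γ hγ
      refine Subtype.ext (hker1 γ γ.2 ?_)
      exact (QuotientGroup.eq_one_iff _).mp (congrArg Subtype.val hγ),
      mk.subgroupMap_surjective pr.ker⟩
  let ε : Z →* ℂˣ := (lam.comp eZ.symm.toMonoidHom)⁻¹
  have hsupR : pr.ker ⊔ em.range = R := by
    refine le_antisymm (sup_le (fun γ hγ => hmemR ⟨γ, hγ⟩) ?_) fun γ hγ => ?_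
    · rintro _ ⟨n, rfl⟩
      exact n.2
    · have h1 : γ * (em ⟨pr γ, hγ⟩)⁻¹ ∈ pr.ker := by
        rw [MonoidHom.mem_ker, map_mul, map_inv, hprem, mul_inv_cancel]
      have := Subgroup.mul_mem_sup h1 (show em ⟨pr γ, hγ⟩ ∈ em.range from ⟨_, rfl⟩)
      rwa [inv_mul_cancel_right] at this
  have hHidx : H.index = G.index := by
    have h1 : H.comap mk = P := Subgroup.comap_map_eq_self (by rwa [hmk, QuotientGroup.ker_mk'])
    rw [← Subgroup.index_comap_of_surjective H hmks, h1,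
      Subgroup.index_comap_of_surjective G hprs]
  have hZH : Z ≤ H := Subgroup.map_mono hkerP
  have hZrel : Z.relIndex H = N.relIndex G := by
    show (pr.ker.map mk).relIndex (P.map mk) = _
    rw [Subgroup.relIndex_map_map, hmk, QuotientGroup.ker_mk', hsupR, sup_of_le_left hEP,
      Subgroup.relIndex_comap, Subgroup.map_comap_eq_self_of_surjective hprs]
  have hsolvQ : Group.IsSolvable ((X ⧸ em.range) ⧸ H) := by
    let f₀ : X ⧸ em.range →* Γ ⧸ G := QuotientGroup.lift em.range ((QuotientGroup.mk' G).comp pr)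
      (by
        rintro _ ⟨n, rfl⟩
        exact (QuotientGroup.eq_one_iff _).mpr (hNG n.2))
    let f : (X ⧸ em.range) ⧸ H →* Γ ⧸ G := QuotientGroup.lift H f₀ (by
      rintro _ ⟨γ, hγ, rfl⟩
      exact (QuotientGroup.eq_one_iff _).mpr hγ)
    refine Group.isSolvable_of_isSolvable_injective (f := f) ?_
    rw [injective_iff_map_eq_one]
    intro x hx
    obtain ⟨y, rfl⟩ := QuotientGroup.mk_surjective x
    obtain ⟨γ, rfl⟩ := hmks y
    exact (QuotientGroup.eq_one_iff _).mpr ⟨γ, (QuotientGroup.eq_one_iff (pr γ)).mp hx, rfl⟩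
  letI := Fintype.ofFinite (X ⧸ em.range)
  letI := Fintype.ofFinite H
  obtain ⟨β, hβZ, hβinv⟩ := InvariantAbove.Central.exists_central_inv Z H hZH hcent ε
    (by rw [hHidx, hZrel]; exact hcop) hsolvQ
  -- the tautological character of `P`
  letI := Fintype.ofFinite P
  let j : P →* H := mk.subgroupMap P
  let τ : P → ℂ := fun x => (Brauer.ProjExt.taut N ρ).character x
  let emP : N →* P := em.codRestrict P fun n => hEP ⟨n, rfl⟩
  have hτc : Cfsg.IsCharacter P τ :=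
    ⟨d, (Brauer.ProjExt.taut N ρ).comp P.subtype, rfl⟩
  have hτres : ∀ n : N, τ (emP n) = (θ : N → ℂ) n := fun n => by
    rw [← hρc]
    exact congrArg (LinearMap.trace ℂ _) (htaut n)
  have hτ : Cfsg.IsIrrCharacter P τ := Chars82.StableExtension.isIrr_of_restrict_irr emP hτc θ hτres
  let E' : Subgroup P := em.range.subgroupOf P
  haveI : E'.Normal := hEn.subgroupOf P
  letI := Fintype.ofFinite E'
  let βP : Cfsg.IrrCharacter P :=
    ⟨(β : H → ℂ) ∘ j, isIrrCharacter_comp j (mk.subgroupMap_surjective P) β.2⟩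
  have hjem : ∀ x : P, (x : X) ∈ em.range → j x = 1 := fun x hx =>
    Subtype.ext ((QuotientGroup.eq_one_iff _).mpr hx)
  have hβker : E' ≤ Basic.charKer βP := fun x hx => by
    show (β : H → ℂ) (j x) = (β : H → ℂ) (j 1)
    rw [hjem x hx, map_one]
  let eE : N ≃* E' := MulEquiv.ofBijective (emP.codRestrict E' fun n => ⟨n, rfl⟩)
    ⟨fun a b hab => by
      have h1 : em a = em b := congrArg (fun z : E' => ((z : P) : X)) hab
      have h2 := congrArg pr h1
      rw [hprem, hprem] at h2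
      exact Subtype.ext h2,
    fun x => by
      obtain ⟨n, hn⟩ := (x.2 : ((x : P) : X) ∈ em.range)
      exact ⟨n, Subtype.ext (Subtype.ext hn)⟩⟩
  have hτE : Cfsg.IsIrrCharacter E' (fun x : E' => τ x) := by
    have : (fun x : E' => τ x) = (θ : N → ℂ) ∘ eE.symm.toMonoidHom := by
      funext x
      obtain ⟨n, rfl⟩ := eE.surjective x
      show τ (emP n) = (θ : N → ℂ) (eE.symm (eE n))
      rw [MulEquiv.symm_apply_apply, hτres]
    rw [this]
    exact isIrrCharacter_comp _ eE.symm.surjective θ.2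
  obtain ⟨ψ, hψ⟩ : ∃ ψ : Cfsg.IrrCharacter P, (ψ : P → ℂ) = (βP : P → ℂ) * τ :=
    ⟨⟨_, Restrict.mul_irr_of_restrict_irr E' ⟨τ, hτ⟩ βP hτE hβker⟩, rfl⟩
  -- descent to `G`
  let prP : P →* G := (pr.comp P.subtype).codRestrict G fun x => x.2
  have hprP : Function.Surjective prP := fun g => by
    obtain ⟨γ, hγ⟩ := hprs g
    exact ⟨⟨γ, show pr γ ∈ G by rw [hγ]; exact g.2⟩, Subtype.ext hγ⟩
  have hψker : prP.ker ≤ Basic.charKer ψ := by
    intro x hx
    have hx' : pr (x : X) = 1 := congrArg Subtype.val hx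
    show (ψ : P → ℂ) x = (ψ : P → ℂ) 1
    rw [hψ]
    show (β : H → ℂ) (j x) * τ x = (β : H → ℂ) (j 1) * τ 1
    have h1 : (β : H → ℂ) (j x) = (ε (eZ ⟨x, hx'⟩) : ℂ) * (β : H → ℂ) 1 :=
      hβZ (eZ ⟨x, hx'⟩)
    have h2 : τ x = (lam ⟨x, hx'⟩ : ℂ) * τ 1 := by
      show LinearMap.trace ℂ _ (Brauer.ProjExt.taut N ρ x) =
        (lam ⟨x, hx'⟩ : ℂ) * LinearMap.trace ℂ _ (Brauer.ProjExt.taut N ρ 1)
      rw [hlam ⟨x, hx'⟩, map_smul, smul_eq_mul, map_one (Brauer.ProjExt.taut N ρ)]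
    rw [h1, h2, map_one]
    show ((lam (eZ.symm (eZ ⟨x, hx'⟩)))⁻¹ : ℂˣ).val * _ * _ = _
    rw [MulEquiv.symm_apply_apply, Units.val_inv_eq_inv_val]
    field_simp
  obtain ⟨ψ', hψ'⟩ := Basic.exists_deflate ψ prP.ker hψker
  let χ : Cfsg.IrrCharacter G :=
    ⟨_, Basic.isIrr_comp_equiv ψ' (QuotientGroup.quotientKerEquivOfSurjective prP hprP).symm⟩
  have hχ : ∀ x : P, (χ : G → ℂ) (prP x) = (ψ : P → ℂ) x := by
    intro x
    show (ψ' : _ → ℂ) ((QuotientGroup.quotientKerEquivOfSurjective prP hprP).symm (prP x)) = _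
    rw [← hψ', Basic.inflate_apply]
    exact congrArg _ ((MulEquiv.symm_apply_eq _).mpr rfl)
  refine ⟨χ, ?_, fun x g => ?_⟩
  · have h1 : (fun n : N => (χ : G → ℂ) ⟨n, hNG n.2⟩) = (β : H → ℂ) 1 • (θ : N → ℂ) := by
      funext n
      rw [show (⟨(n : Γ), hNG n.2⟩ : G) = prP (emP n) from rfl, hχ, hψ]
      show (β : H → ℂ) (j (emP n)) * τ (emP n) = (β : H → ℂ) 1 * (θ : N → ℂ) n
      rw [hjem (emP n) ⟨n, rfl⟩, hτres]
    rw [h1, classInner_smul_left, classInner_self_irr, mul_one]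
    exact apply_one_ne_zero β
  · obtain ⟨γ, rfl⟩ := hprs x
    obtain ⟨y, rfl⟩ := hprP g
    let y' : P := ⟨γ * (y : X) * γ⁻¹, (inferInstance : P.Normal).conj_mem _ y.2 γ⟩
    rw [show (⟨pr γ * (prP y : Γ) * (pr γ)⁻¹, hG.conj_mem _ (prP y).2 _⟩ : G) = prP y' from
      Subtype.ext (show pr γ * pr (y : X) * (pr γ)⁻¹ = pr (γ * (y : X) * γ⁻¹) by
        rw [map_mul, map_mul, map_inv]), hχ, hχ, hψ]
    show (β : H → ℂ) (j y') * τ y' = (β : H → ℂ) (j y) * τ y
    congr 1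
    · rw [← hβinv (mk γ) (j y)]
      refine congrArg _ (Subtype.ext ?_)
      show mk (γ * (y : X) * γ⁻¹) = mk γ * mk (y : X) * (mk γ)⁻¹
      rw [map_mul, map_mul, map_inv]
    · exact Representation.char_conj _ _ _


/-- Let N ≤ G be normal subgroups of the finite group Γ with the index of G in Γ coprime to the index of N in G, and Γ/G or G/N solvable. Then for every irreducible character ϑ of N invariant under conjugation by Γ, the induced character ϑ^G has an irreducible constituent invariant under conjugation by Γ. -/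
theorem result {Γ : Type*} [Group Γ] [Fintype Γ] (G N : Subgroup Γ) [hG : G.Normal] [hN : N.Normal] [Fintype G] [Fintype N] (hNG : N ≤ G) (hcop : (G.index).Coprime (N.relIndex G)) (hsolv : Group.IsSolvable (Γ ⧸ G) ∨ Group.IsSolvable (G ⧸ N.subgroupOf G)) (θ : Cfsg.IrrCharacter N) (hinv : ∀ (x : Γ) (n : N), (θ : N → ℂ) ⟨x * n * x⁻¹, hN.conj_mem n n.2 x⟩ = (θ : N → ℂ) n) : ∃ χ : Cfsg.IrrCharacter G, Cfsg.classInner (fun n : N => (χ : G → ℂ) ⟨n, hNG n.2⟩) (θ : N → ℂ) ≠ 0 ∧ ∀ (x : Γ) (g : G), (χ : G → ℂ) ⟨x * g * x⁻¹, hG.conj_mem g g.2 x⟩ = (χ : G → ℂ) g := by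
  rcases hsolv with h | h
  · exact solvable_above G N hNG hcop h θ hinv
  · exact solvable_below G N hNG hcop h θ hinv

end Cfsg.Agent.S4450
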