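import Cfsg.Statements.S4451
import Cfsg.Agent.Lib.Glauberman.Cyclic
import Cfsg.Agent.Lib.BC77.TwoValue

set_option autoImplicit false
open Cfsg

namespace Cfsg.Agent.S4451

open scoped ComplexConjugate
open Lib.Induced.Basic Lib.Characters Lib.Characters.Basic Lib.Characters.Linear Lib.Glauberman
open Lib.Clifford Lib.BC77

universe u

variable {Γ : Type u} [Group Γ] [Fintype Γ] {G C : Subgroup Γ}

/-- An element acting coprimely with centraliser `C` in `G`. -/
structure FixData (G C : Subgroup Γ) (s : Γ) : Prop where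
  norm : ∀ g ∈ G, s * g * s⁻¹ ∈ G
  cop : (Nat.card G).Coprime (orderOf s)
  hC : C = G ⊓ Subgroup.centralizer ({s} : Set Γ)
  le : C ≤ G

theorem FixData.comm {s c : Γ} (h : FixData G C s) (hc : c ∈ C) : s * c = c * s :=
  (Subgroup.mem_centralizer_singleton_iff.mp (h.hC.le hc).2).symm

theorem fusion {s : Γ} (h : FixData G C s) {g c c' : Γ} (hg : g ∈ G) (hc : c ∈ C)
    (hc' : c' ∈ C) (he : g * (c * s) * g⁻¹ = c' * s) : g ∈ C ∧ g * c * g⁻¹ = c' := by
  obtain ⟨m, hm1, hm2⟩ := Nat.chineseRemainder h.cop 0 1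
  have hpow : ∀ d ∈ C, (d * s) ^ m = s := by
    intro d hd
    rw [(show Commute d s from (h.comm hd).symm).mul_pow,
      Cyclic.pow_eq_of_modEq (h.le hd) hm1, pow_eq_pow_iff_modEq.2 hm2, pow_zero, pow_one, one_mul]
  have hgs : g * s * g⁻¹ = s := by
    rw [← hpow c hc, ← conj_pow, he, hpow c' hc', hpow c hc]
  have hgC : g ∈ C := by
    rw [h.hC]
    exact ⟨hg, Subgroup.mem_centralizer_singleton_iff.mpr (mul_inv_eq_iff_eq_mul.mp hgs)⟩
  refine ⟨hgC, mul_right_cancel (b := s) ?_⟩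
  calc g * c * g⁻¹ * s = g * c * (g⁻¹ * s) := by group
    _ = g * c * (s * g⁻¹) := by rw [← h.comm (inv_mem hgC)]
    _ = g * (c * s) * g⁻¹ := by group
    _ = c' * s := he


/-- Summation over a generating coset. -/
theorem sum_coset [Fintype G] [Fintype C] {s : Γ} (h : FixData G C s) {φ : Γ → ℂ}
    (hφ : Cfsg.IsClassFunction Γ φ) :
    (Nat.card C : ℂ) * ∑ x : G, φ ((x : Γ) * s) = (Nat.card G : ℂ) * ∑ c : C, φ ((c : Γ) * s) := by
  classical
  let Ψ : G × C → G := fun p => ⟨(p.1 : Γ) * p.2 * (s * (p.1 : Γ)⁻¹ * s⁻¹),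
    mul_mem (mul_mem p.1.2 (h.le p.2.2)) (h.norm _ (inv_mem p.1.2))⟩
  have hΨ : ∀ p : G × C, (Ψ p : Γ) * s = (p.1 : Γ) * (p.2 * s) * (p.1 : Γ)⁻¹ := fun p => by
    simp [Ψ, mul_assoc]
  have hfib : ∀ p₀ : G × C,
      (Finset.univ.filter fun p => Ψ p = Ψ p₀).card = Nat.card C := by
    intro p₀
    rw [Nat.card_eq_fintype_card]
    refine Finset.card_bij' (t := Finset.univ)
      (fun p _ => if hu : (p₀.1 : Γ)⁻¹ * p.1 ∈ C then (⟨_, hu⟩ : C) else 1)
      (fun u _ => (p₀.1 * Subgroup.inclusion h.le u, u⁻¹ * p₀.2 * u))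
      (fun _ _ => Finset.mem_univ _) (fun u _ => ?_) (fun p hp => ?_) (fun u _ => ?_)
    · rw [Finset.mem_filter]
      refine ⟨Finset.mem_univ _, Subtype.ext (mul_right_cancel (b := s) ?_)⟩
      rw [hΨ, hΨ]
      have hu : (u : Γ) * s = s * u := (h.comm u.2).symm
      simp only [Subgroup.coe_mul, Subgroup.coe_inclusion, Subgroup.coe_inv, mul_inv_rev, mul_assoc]
      rw [← mul_assoc (u : Γ) s, hu]
      simp [mul_assoc]
    · have he := congrArg (fun x : G => (x : Γ) * s) (Finset.mem_filter.mp hp).2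
      simp only [hΨ] at he
      obtain ⟨hu, hconj⟩ := fusion h (g := (p₀.1 : Γ)⁻¹ * p.1)
        (mul_mem (inv_mem p₀.1.2) p.1.2) p.2.2 p₀.2.2 (by
          rw [show (p₀.1 : Γ)⁻¹ * p.1 * (p.2 * s) * ((p₀.1 : Γ)⁻¹ * p.1)⁻¹ =
            (p₀.1 : Γ)⁻¹ * ((p.1 : Γ) * (p.2 * s) * (p.1 : Γ)⁻¹) * p₀.1 by group, he]
          group)
      simp only [dif_pos hu]
      refine Prod.ext (Subtype.ext ?_) (Subtype.ext ?_)
      · simp
      · simp only [Subgroup.coe_mul, Subgroup.coe_inv, ← hconj]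
        group
    · have hu : (p₀.1 : Γ)⁻¹ * (p₀.1 * Subgroup.inclusion h.le u : G) ∈ C := by simp
      simp only [dif_pos hu]
      exact Subtype.ext (by simp)
  have himg : Finset.univ.image Ψ = Finset.univ := by
    refine (Finset.card_eq_iff_eq_univ _).mp (Nat.eq_of_mul_eq_mul_right (Nat.card_pos (α := C)) ?_)
    have h1 := Finset.card_eq_sum_card_image Ψ Finset.univ
    rw [Finset.sum_congr rfl (g := fun _ => Nat.card C) fun b hb => by
      obtain ⟨p₀, -, rfl⟩ := Finset.mem_image.mp hb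
      exact hfib p₀] at h1
    rw [Finset.sum_const, smul_eq_mul, Finset.card_univ, Fintype.card_prod] at h1
    rw [← h1, Nat.card_eq_fintype_card]
  have h2 : ∑ p : G × C, φ ((Ψ p : Γ) * s) = (Nat.card G : ℂ) * ∑ c : C, φ ((c : Γ) * s) := by
    simp only [hΨ, hφ _ _, Fintype.sum_prod_type, Finset.sum_const, Finset.card_univ, nsmul_eq_mul,
      ← Nat.card_eq_fintype_card]
  rw [← h2, ← Finset.sum_fiberwise_of_maps_to (fun p _ => Finset.mem_univ (Ψ p)), Finset.mul_sum]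
  refine Finset.sum_congr rfl fun x hx => ?_
  rw [← himg] at hx
  obtain ⟨p₀, -, rfl⟩ := Finset.mem_image.mp hx
  rw [Finset.sum_congr rfl (g := fun _ => φ ((Ψ p₀ : Γ) * s)) fun p hp => by
    rw [(Finset.mem_filter.mp hp).2], Finset.sum_const, hfib, nsmul_eq_mul]

/-- The values on a fixed-point coset have norm one. -/
theorem norm_coset [Fintype G] [Fintype C] [hGn : G.Normal] {s : Γ} (h : FixData G C s)
    (χ : Cfsg.IrrCharacter G) (χh : Cfsg.IrrCharacter Γ)
    (e : ∀ g : G, (χh : Γ → ℂ) g = (χ : G → ℂ) g) :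
    Cfsg.classInner (fun c : C => (χh : Γ → ℂ) ((c : Γ) * s))
      (fun c : C => (χh : Γ → ℂ) ((c : Γ) * s)) = 1 := by
  obtain ⟨d, ρ, hρ, hρc⟩ := exists_rep χh
  have hs' := sum_coset h (φ := fun x => (χh : Γ → ℂ) x * conj ((χh : Γ → ℂ) x))
    fun g x => by
      show (χh : Γ → ℂ) (x * g * x⁻¹) * conj ((χh : Γ → ℂ) (x * g * x⁻¹)) = _
      rw [isClassFunction_irr χh]
  haveI : (Gallagher.res G ρ).IsIrreducible := by
    obtain ⟨k, σ, hσ, hσc⟩ := exists_rep χ
    exact Rep.isIrreducible_of_char σ _ (funext fun g => by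
      show ρ.character (g : Γ) = _
      rw [hρc, hσc, e g])
  have h1 := Gallagher.average_self G ρ s
  rw [hρc] at h1
  rw [Cfsg.classInner]
  have hG : (Nat.card G : ℂ) ≠ 0 := natCard_ne_zero
  have hC' : (Nat.card C : ℂ) ≠ 0 := natCard_ne_zero
  field_simp at h1 ⊢
  refine mul_left_cancel₀ hG ?_
  rw [← hs', h1, mul_comm]

/-- Let the finite group Γ be generated by a normal subgroup G and a cyclic subgroup S of coprime orders such that every non-identity element of S has the same centraliser C = G ⊓ C(S) in G. Let χ be an S-invariant irreducible character of G, χ̂ its canonical extension to Γ (determinantal order coprime to the order of S), and β the irreducible character of C with χ̂(c s) = ε₀ β(c) for c ∈ C and generators s of S (ε₀ = ±1). Then there are a sign ε = ±1, which may differ from ε₀, and a linear character μ of S with μ² = 1, such that: (a) χ̂(c x) = ε β(c) μ(x) for all c ∈ C and all x ∈ S other than 1; (b) the restriction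 of χ to C equals |S|·ϑ + ε β for some character ϑ of C or ϑ = 0; (c) |S| divides χ(1) − ε β(1). -/
theorem result {Γ : Type*} [Group Γ] [Fintype Γ] (G S : Subgroup Γ) [Fintype G] (hnorm : ∀ s ∈ S, ∀ g ∈ G, s * g * s⁻¹ ∈ G) (hcop : (Nat.card G).Coprime (Nat.card S)) (htop : G ⊔ S = ⊤) (hcyc : IsCyclic S) (C : Subgroup Γ) [Fintype C] (hC : C = G ⊓ Subgroup.centralizer (S : Set Γ)) (hCG : C ≤ G) (hfpf : ∀ x ∈ S, x ≠ 1 → G ⊓ Subgroup.centralizer ({x} : Set Γ) = C) (χ : Cfsg.IrrCharacter G) (hinv : (∀ s ∈ S, ∀ g g' : G, (g' : Γ) = s * g * s⁻¹ → (χ : G → ℂ) g' = (χ : G → ℂ) g)) (χh : Cfsg.IrrCharacter Γ) (hext : (∀ g : G, (χh : Γ → ℂ) g = (χ : G → ℂ) g)) (hdet : (Cfsg.detOrder (χh : Γ → ℂ)).Coprime (Nat.card S)) (β : Cfsg.IrrCharacter C) (ε₀ : ℤ) (hε₀ : ε₀ = 1 ∨ ε₀ = -1) (hβ : ∀ c : C, ∀ s : Γ, Subgroup.zpowers s = S → (χh : Γ → ℂ) ((c : Γ) * s) = (ε₀ : ℂ) * (β : C → ℂ) c) : ∃ ε : ℤ, (ε = 1 ∨ ε = -1) ∧ (∃ μ : S → ℂ, Cfsg.IsCharacter S μ ∧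 μ 1 = 1 ∧ (∀ x : S, μ x * μ x = 1) ∧ ∀ c : C, ∀ x : S, x ≠ 1 → (χh : Γ → ℂ) ((c : Γ) * x) = (ε : ℂ) * (β : C → ℂ) c * μ x) ∧ (∃ ϑ : C → ℂ, Cfsg.IsCharacter C ϑ ∧ (fun c : C => (χ : G → ℂ) ⟨c, hCG c.2⟩) = fun c => (Nat.card S : ℂ) * ϑ c + (ε : ℂ) * (β : C → ℂ) c) ∧ (Nat.card S : ℤ) ∣ (Cfsg.charDegree (χ : G → ℂ) : ℤ) - ε * (Cfsg.charDegree (β : C → ℂ) : ℤ) := by
  classical
  have hsetup : Cyclic.Setup G S C := ⟨hnorm, hcop, htop, hcyc, hC, hCG⟩
  haveI hGn : G.Normal := Cyclic.normal hsetup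
  obtain ⟨s₀, hs₀⟩ := Cyclic.exists_gen hsetup
  letI : Fintype S := Fintype.ofFinite _
  letI : CommGroup S := @IsCyclic.commGroup S _ hcyc
  haveI := Fintype.ofFinite (Cfsg.IrrCharacter C)
  haveI := Fintype.ofFinite (Cfsg.IrrCharacter S)
  have hlin : ∀ l : Cfsg.IrrCharacter S, (l : S → ℂ) 1 = 1 :=
    fun l => degree_eq_one_of_comm mul_comm l
  obtain ⟨dβ, hdβ0, hdβ⟩ := exists_degree_pos β
  obtain ⟨dχ, hdχ0, hdχ⟩ := exists_degree_pos χ
  have hdeg : Cfsg.charDegree (β : C → ℂ) = dβ ∧ Cfsg.charDegree (χ : G → ℂ) = dχ := by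
    constructor <;> rw [Cfsg.charDegree]
    · rw [hdβ, Complex.natCast_re, Nat.floor_natCast]
    · rw [hdχ, Complex.natCast_re, Nat.floor_natCast]
  by_cases hS1 : Nat.card S = 1
  · have hbot : S = ⊥ := Subgroup.card_eq_one.1 hS1
    have h1 : ∀ c : C, (χ : G → ℂ) ⟨c, hCG c.2⟩ = (ε₀ : ℂ) * (β : C → ℂ) c := fun c => by
      rw [← hext ⟨c, hCG c.2⟩, ← hβ c 1 (by rw [hbot, Subgroup.zpowers_one_eq_bot]), mul_one]
    have hε : ε₀ = 1 := by
      rcases hε₀ with h | h
      · exact h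
      exfalso
      have h2 := h1 1
      rw [h, show (⟨((1 : C) : Γ), hCG (1 : C).2⟩ : G) = 1 from rfl, hdχ, hdβ, Int.cast_neg,
        Int.cast_one, neg_one_mul, eq_neg_iff_add_eq_zero, ← Nat.cast_add, Nat.cast_eq_zero] at h2
      omega
    haveI : Subsingleton S := (Nat.card_eq_one_iff_unique.1 hS1).1
    refine ⟨1, Or.inl rfl, ⟨(oneChar S : S → ℂ), isCharacter_irr _, rfl, fun x => mul_one 1,
      fun c x hx => absurd (Subsingleton.elim x 1) hx⟩, ⟨0, Basic.isCharacter_zero, ?_⟩, ?_⟩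
    · funext c
      rw [h1, hε]
      simp
    · rw [hS1]
      exact one_dvd _
  have hm2 : 2 ≤ Nat.card S := by
    have := Nat.card_pos (α := S)
    omega
  let m : C × S →* Γ :=
    { toFun := fun p => (p.1 : Γ) * p.2
      map_one' := by simp
      map_mul' := fun p q => by
        simp only [Prod.fst_mul, Prod.snd_mul, Subgroup.coe_mul]
        rw [mul_assoc (p.1 : Γ) q.1, ← mul_assoc (q.1 : Γ) p.2,
          ← Cyclic.comm hsetup q.1.2 p.2.2]
        simp [mul_assoc] }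
  have hN : ∀ (b : Cfsg.IrrCharacter C) (l : Cfsg.IrrCharacter S), ∃ N : ℕ,
      Cfsg.classInner ((χh : Γ → ℂ) ∘ m)
        (((b : C → ℂ) ∘ MonoidHom.fst C S) * ((l : S → ℂ) ∘ MonoidHom.snd C S)) = N := fun b l =>
    exists_classInner_nat (isCharacter_comp m (isCharacter_irr χh))
      (isCharacter_mul (isCharacter_comp _ (isCharacter_irr b)) (isCharacter_comp _ (isCharacter_irr l)))
  choose N hN using hN
  let N' : Cfsg.IrrCharacter C → Cfsg.IrrCharacter S → ℤ := fun b l => (N b l : ℤ)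
  have ha : ∀ (b : Cfsg.IrrCharacter C) (x : S), TwoValue.val (N' b) x =
        Cfsg.classInner (fun c : C => (χh : Γ → ℂ) ((c : Γ) * x)) (b : C → ℂ) := by
    intro b x
    simp only [TwoValue.val, N', Int.cast_natCast]
    simp only [← hN, Cfsg.classInner, Fintype.sum_prod_type, Function.comp_apply, Pi.mul_apply,
      MonoidHom.coe_fst, MonoidHom.coe_snd, Finset.mul_sum, Finset.sum_mul, map_mul]
    rw [Finset.sum_comm]
    refine Finset.sum_congr rfl fun c _ => ?_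
    rw [Finset.sum_comm]
    rw [Finset.sum_congr rfl (g := fun y : S => (Nat.card (C × S) : ℂ)⁻¹ *
      ((χh : Γ → ℂ) (m (c, y)) * conj ((b : C → ℂ) c)) *
      ∑ l : Cfsg.IrrCharacter S, (l : S → ℂ) x * conj ((l : S → ℂ) y)) fun y _ => by
        rw [Finset.mul_sum]
        exact Finset.sum_congr rfl fun l _ => by ring]
    rw [Finset.sum_eq_single x]
    · rw [Complete.sum_irr_mul_conj, if_pos (IsConj.refl x),
        show Subgroup.centralizer ({x} : Set S) = ⊤ from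
          eq_top_iff.mpr fun y _ => Subgroup.mem_centralizer_singleton_iff.mpr (mul_comm _ _),
        Subgroup.card_top, Nat.card_prod, Nat.cast_mul]
      have hC0 : (Nat.card C : ℂ) ≠ 0 := natCard_ne_zero
      have hS0 : (Nat.card S : ℂ) ≠ 0 := natCard_ne_zero
      show _ * ((χh : Γ → ℂ) ((c : Γ) * x) * _) * _ = _
      field_simp
    · intro y _ hy
      rw [Complete.sum_irr_mul_conj, if_neg (fun hc => hy (isConj_iff_eq.mp hc).symm), mul_zero]
    · exact fun hx => absurd (Finset.mem_univ x) hx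
  have hcl : ∀ x : S, Cfsg.IsClassFunction C (fun c : C => (χh : Γ → ℂ) ((c : Γ) * x)) := by
    intro x c d
    show (χh : Γ → ℂ) (((d * c * d⁻¹ : C) : Γ) * x) = (χh : Γ → ℂ) ((c : Γ) * x)
    rw [show ((d * c * d⁻¹ : C) : Γ) * x = (d : Γ) * ((c : Γ) * x) * (d : Γ)⁻¹ by
      have hd := Cyclic.comm hsetup (inv_mem d.2) x.2
      simp only [Subgroup.coe_mul, Subgroup.coe_inv, mul_assoc]
      rw [hd]]
    exact isClassFunction_irr χh _ _
  have hdec : ∀ (x : S) (c : C), (χh : Γ → ℂ) ((c : Γ) * x) =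
      ∑ b : Cfsg.IrrCharacter C, TwoValue.val (N' b) x * (b : C → ℂ) c := by
    intro x c
    have h := congrFun (Complete.classFunction_eq_sum (hcl x)) c
    simpa [ha] using h
  have hpars : ∀ x : S, x ≠ 1 →
      ∑ b, TwoValue.val (N' b) x * conj (TwoValue.val (N' b) x) = 1 := by
    intro x hx
    have hxne : (x : Γ) ≠ 1 := fun h => hx (Subtype.ext h)
    have hfd : FixData G C (x : Γ) :=
      ⟨fun g hg => hnorm x x.2 g hg,
        hcop.coprime_dvd_right ((Subgroup.orderOf_coe x).symm ▸ orderOf_dvd_natCard x),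
        (hfpf x x.2 hxne).symm, hCG⟩
    rw [← norm_coset hfd χ χh hext]
    conv_rhs => arg 2; rw [Complete.classFunction_eq_sum (hcl x)]
    rw [classInner_sum_right]
    refine Finset.sum_congr rfl fun b _ => ?_
    rw [classInner_smul_right, ← ha, mul_comm]
  have hcard : (Fintype.card (Cfsg.IrrCharacter S) : ℤ) = (Nat.card S : ℤ) := by
    rw [TwoValue.card_irr, Nat.card_eq_fintype_card]
  have hdevsum : ∑ b, TwoValue.dev (N' b) = (Nat.card S : ℤ) - 1 := by
    have h2 : ((∑ b, TwoValue.dev (N' b) : ℤ) : ℂ) = (((Nat.card S : ℤ) - 1 : ℤ) : ℂ) := by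
      rw [Int.cast_sum, Finset.sum_congr rfl fun b _ => (TwoValue.sum_erase (N' b)).symm,
        Finset.sum_comm, Finset.sum_congr rfl fun x hx => hpars x (Finset.ne_of_mem_erase hx),
        Finset.sum_const, nsmul_one, Finset.card_erase_of_mem (Finset.mem_univ _), Finset.card_univ,
        Nat.card_eq_fintype_card, Nat.cast_sub Fintype.card_pos, Nat.cast_one, Int.cast_sub,
        Int.cast_natCast, Int.cast_one]
    exact_mod_cast h2
  -- the generator
  let x₀ : S := ⟨s₀, Cyclic.gen_mem hs₀⟩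
  have hx₀ : x₀ ≠ 1 := by
    intro h
    have h2 := Cyclic.orderOf_gen hsetup hs₀
    rw [show s₀ = ((1 : S) : Γ) from congrArg Subtype.val h, OneMemClass.coe_one, orderOf_one] at h2
    omega
  have hval₀ : ∀ b, TwoValue.val (N' b) x₀ = if b = β then (ε₀ : ℂ) else 0 := by
    intro b
    rw [ha, show (fun c : C => (χh : Γ → ℂ) ((c : Γ) * (x₀ : Γ))) = (ε₀ : ℂ) • (β : C → ℂ) from
      funext fun c => hβ c s₀ hs₀, classInner_smul_left, classInner_irr]
    by_cases hb : β = b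
    · rw [if_pos hb, if_pos hb.symm, mul_one]
    · rw [if_neg hb, if_neg (Ne.symm hb), mul_zero]
  haveI : Nonempty (Cfsg.IrrCharacter S) := ⟨oneChar S⟩
  have hε0 : (ε₀ : ℂ) ≠ 0 := by rcases hε₀ with rfl | rfl <;> simp
  rcases TwoValue.dichotomy (N' β) with ⟨k, hk⟩ | ⟨hge, heq⟩
  · exfalso
    have h := hval₀ β
    rw [TwoValue.val_const hk hx₀, if_pos rfl] at h
    exact hε0 h.symm
  have hsplit := Finset.add_sum_erase Finset.univ (fun b => TwoValue.dev (N' b)) (Finset.mem_univ β)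
  rw [hdevsum] at hsplit
  rw [hcard] at hge heq
  have hpos : 0 ≤ ∑ b ∈ Finset.univ.erase β, TwoValue.dev (N' b) :=
    Finset.sum_nonneg fun b _ => TwoValue.dev_nonneg _
  obtain ⟨k, δ, l₀, hδ, hl₀⟩ := heq (by omega)
  have hconst : ∀ b, b ≠ β → ∃ k', ∀ l, N' b l = k' := by
    intro b hb
    rcases TwoValue.dichotomy (N' b) with h | ⟨hge', -⟩
    · exact h
    · exfalso
      rw [hcard] at hge'
      have h0 := Finset.single_le_sum (fun b' _ => TwoValue.dev_nonneg (N' b'))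
        (Finset.mem_erase.2 ⟨hb, Finset.mem_univ b⟩ : b ∈ Finset.univ.erase β)
      omega
  have hval : ∀ (x : S), x ≠ 1 → ∀ b, TwoValue.val (N' b) x =
      if b = β then (δ : ℂ) * (l₀ : S → ℂ) x else 0 := by
    intro x hx b
    split_ifs with hb
    · subst hb; exact TwoValue.val_single hl₀ hx
    · obtain ⟨k', hk'⟩ := hconst b hb
      exact TwoValue.val_const hk' hx
  have hmul : ∀ a b : S, (l₀ : S → ℂ) (a * b) = (l₀ : S → ℂ) a * (l₀ : S → ℂ) b :=
    apply_mul_of_degree_one (isCharacter_irr l₀) (hlin l₀)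
  have hsq : ∀ x : S, (l₀ : S → ℂ) x * (l₀ : S → ℂ) x = 1 := by
    have h0 : (l₀ : S → ℂ) x₀ * (l₀ : S → ℂ) x₀ = 1 := by
      have h := hval x₀ hx₀ β
      rw [hval₀, if_pos rfl, if_pos rfl] at h
      have hδ' : (δ : ℂ) * δ = 1 := by rcases hδ with rfl | rfl <;> simp
      have hε' : (ε₀ : ℂ) * ε₀ = 1 := by rcases hε₀ with rfl | rfl <;> simp
      calc (l₀ : S → ℂ) x₀ * (l₀ : S → ℂ) x₀
          = ((δ : ℂ) * (l₀ : S → ℂ) x₀) * ((δ : ℂ) * (l₀ : S → ℂ) x₀) := by
            rw [mul_mul_mul_comm, hδ', one_mul]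
        _ = 1 := by rw [← h, hε']
    let φ : S →* ℂ :=
      { toFun := fun x => (l₀ : S → ℂ) x * (l₀ : S → ℂ) x
        map_one' := by simp [hlin]
        map_mul' := fun a b => by simp only [hmul]; ring }
    intro x
    obtain ⟨n, hn⟩ : x ∈ Submonoid.powers x₀ := by
      rw [mem_powers_iff_mem_zpowers]
      have hx : (x : Γ) ∈ Subgroup.zpowers s₀ := hs₀ ▸ x.2
      obtain ⟨z, hz⟩ := Subgroup.mem_zpowers_iff.1 hx
      exact ⟨z, Subtype.ext (by simpa [x₀] using hz)⟩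
    show φ x = 1
    rw [← hn, map_pow, show φ x₀ = 1 from h0, one_pow]
  have hl1 : ∃ l₁ : Cfsg.IrrCharacter S, l₁ ≠ l₀ := by
    by_contra hno
    push Not at hno
    have : Fintype.card (Cfsg.IrrCharacter S) ≤ 1 :=
      Fintype.card_le_one_iff.2 fun a b => (hno a).trans (hno b).symm
    rw [TwoValue.card_irr, ← Nat.card_eq_fintype_card] at this
    omega
  obtain ⟨l₁, hl₁⟩ := hl1
  have hone : ∀ b, TwoValue.val (N' b) 1 =
      (Nat.card S : ℂ) * (N b l₁ : ℂ) + if b = β then (δ : ℂ) else 0 := by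
    intro b
    rw [TwoValue.val_one]
    split_ifs with hb
    · subst hb
      have h1 : (N b l₁ : ℤ) = k := by
        have := hl₀ l₁
        rw [if_neg hl₁, add_zero] at this
        exact this
      rw [Finset.sum_congr rfl fun l _ => hl₀ l, Finset.sum_add_distrib, Finset.sum_const,
        Finset.card_univ, Finset.sum_ite_eq', if_pos (Finset.mem_univ _), nsmul_eq_mul, hcard, ← h1]
      push_cast
      ring
    · obtain ⟨k', hk'⟩ := hconst b hb
      have h1 : (N b l₁ : ℤ) = k' := hk' l₁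
      rw [Finset.sum_congr rfl fun l _ => hk' l, Finset.sum_const, Finset.card_univ, nsmul_eq_mul,
        hcard, ← h1, add_zero]
      push_cast
      ring
  have hres : (fun c : C => (χ : G → ℂ) ⟨c, hCG c.2⟩) = fun c =>
      (Nat.card S : ℂ) * (∑ b : Cfsg.IrrCharacter C, N b l₁ • (b : C → ℂ)) c +
        (δ : ℂ) * (β : C → ℂ) c := by
    funext c
    have h := hdec 1 c
    rw [OneMemClass.coe_one, mul_one, hext ⟨c, hCG c.2⟩] at h
    rw [h]
    simp only [hone, add_mul, Finset.sum_add_distrib, ite_mul, zero_mul, Finset.sum_ite_eq',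
      Finset.mem_univ, if_true, Finset.sum_apply, nsmul_eq_mul, Pi.mul_apply, Pi.natCast_apply, Finset.mul_sum,
      mul_assoc]
  refine ⟨δ, hδ, ⟨(l₀ : S → ℂ), isCharacter_irr l₀, hlin l₀, hsq, fun c x hx => ?_⟩,
    ⟨_, Basic.isCharacter_sum _ fun b _ => Basic.isCharacter_nsmul (isCharacter_irr b) _, hres⟩, ?_⟩
  · rw [hdec x c]
    simp only [hval x hx, ite_mul, zero_mul, Finset.sum_ite_eq', Finset.mem_univ, if_true]
    ring
  · obtain ⟨t, ht⟩ := exists_degree (Basic.isCharacter_sum Finset.univ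
      fun b _ => Basic.isCharacter_nsmul (isCharacter_irr (G := C) b) (N b l₁))
    have h := congrFun hres 1
    simp only [ht, show (⟨((1 : C) : Γ), hCG (1 : C).2⟩ : G) = 1 from rfl, hdχ, hdβ] at h
    rw [hdeg.1, hdeg.2]
    have h' : (dχ : ℤ) = (Nat.card S : ℤ) * t + δ * dβ := by
      have : ((dχ : ℤ) : ℂ) = (((Nat.card S : ℤ) * t + δ * dβ : ℤ) : ℂ) := by
        push_cast
        exact h
      exact_mod_cast this
    exact ⟨t, by rw [h']; ring⟩

end Cfsg.Agent.S4451
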