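import Cfsg.Statements.S4453
import Cfsg.Agent.Lib.BC78.Parity.Main
import Cfsg.Agent.Lib.Coprime.Action
import Cfsg.Agent.Lib.Glauberman.Internal

set_option autoImplicit false
open Cfsg

namespace Cfsg.Agent.S4453

open Lib.BC78.Parity Lib.Characters.Basic Lib.RelGlauberman

/-- Inside a finite group Γ let S normalise the solvable subgroup G of odd order with the orders of G and S coprime, let C = G ⊓ C(S), and let L ≤ K be S-invariant normal subgroups of G with K/L abelian, G = KC and H = LC (so C ≤ H ≤ G). Then for each S-invariant irreducible character χ of G there is exactly one S-invariant irreducible character ψ of H whose multiplicity in the restriction of χ to H is odd, and χ ↦ ψ is a bijection from the S-invariant irreducible characters of G onto those of H (distinct χ give distinct ψ, and every S-invariant ψ arises). -/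
theorem result {Γ : Type*} [Group Γ] [Fintype Γ] (G S : Subgroup Γ) [Fintype G] (hnorm : ∀ s ∈ S, ∀ g ∈ G, s * g * s⁻¹ ∈ G) (hcop : (Nat.card G).Coprime (Nat.card S)) (hGsolv : Group.IsSolvable G) (hodd : Odd (Nat.card G)) (C : Subgroup Γ) [Fintype C] (hC : C = G ⊓ Subgroup.centralizer (S : Set Γ)) (hCG : C ≤ G) (K L H : Subgroup Γ) [Fintype H] (hLK : L ≤ K) (hKG : K ≤ G) (hKn : ∀ g ∈ G, ∀ k ∈ K, g * k * g⁻¹ ∈ K) (hLn : ∀ g ∈ G, ∀ l ∈ L, g * l * g⁻¹ ∈ L) (hKS : ∀ s ∈ S, ∀ k ∈ K, s * k * s⁻¹ ∈ K) (hLS : ∀ s ∈ S, ∀ l ∈ L, s * l * s⁻¹ ∈ L) (hab : ∀ a ∈ K, ∀ b ∈ K, a * b * a⁻¹ * b⁻¹ ∈ L) (hGKC : K ⊔ C = G) (hH : H = L ⊔ C) (hHG : H ≤ G) : (∀ χ : Cfsg.IrrCharacter G, (∀ s ∈ S, ∀ g g' : G, (g' : Γ) = s * g * s⁻¹ → (χ : G → ℂ) g' = (χ : G → ℂ) g) → ∃! ψ : Cfsg.IrrCharacter H, (∀ s ∈ S, ∀ g g' : H, (g' : Γ) = s * g * s⁻¹ → (ψ : H → ℂ) g' = (ψ : H → ℂ) g) ∧ ∃ m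 : ℕ, Cfsg.classInner (fun h : H => (χ : G → ℂ) ⟨h, hHG h.2⟩) (ψ : H → ℂ) = (m : ℂ) ∧ Odd m) ∧ (∀ χ χ' : Cfsg.IrrCharacter G, (∀ s ∈ S, ∀ g g' : G, (g' : Γ) = s * g * s⁻¹ → (χ : G → ℂ) g' = (χ : G → ℂ) g) → (∀ s ∈ S, ∀ g g' : G, (g' : Γ) = s * g * s⁻¹ → (χ' : G → ℂ) g' = (χ' : G → ℂ) g) → ∀ ψ : Cfsg.IrrCharacter H, (∀ s ∈ S, ∀ g g' : H, (g' : Γ) = s * g * s⁻¹ → (ψ : H → ℂ) g' = (ψ : H → ℂ) g) → ∀ m m' : ℕ, Cfsg.classInner (fun h : H => (χ : G → ℂ) ⟨h, hHG h.2⟩) (ψ : H → ℂ) = (m : ℂ) → Odd m → Cfsg.classInner (fun h : H => (χ' : G → ℂ) ⟨h, hHG h.2⟩) (ψ : H → ℂ) = (m' : ℂ) → Odd m' → χ = χ') ∧ (∀ ψ : Cfsg.IrrCharacter H, (∀ s ∈ S, ∀ g g' : H, (g' : Γ) = s * g * s⁻¹ → (ψ : H → ℂ) g' = (ψ : H → ℂ) g) → ∃ χ : Cfsg.IrrCharacter G, (∀ s ∈ S, ∀ g g' : G, (g' : Γ) = s * g * s⁻¹ → (χ : G → ℂ) g' = (χ : G → ℂ) g) ∧ ∃ m : ℕ, Cfsg.classInner (fun h : H => (χ : G → ℂ)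 ⟨h, hHG h.2⟩) (ψ : H → ℂ) = (m : ℂ) ∧ Odd m) := by
  classical
  let act : S →* MulAut G := Lib.Glauberman.actOf hnorm
  let K₁ : Subgroup G := K.subgroupOf G
  let H₁ : Subgroup G := H.subgroupOf G
  let C₁ : Subgroup G := C.subgroupOf G
  let L₀ : Subgroup G := L.subgroupOf G
  let L₁ : Subgroup G := K₁ ⊓ H₁
  have hLG : L ≤ G := hLK.trans hKG
  haveI hK₁n : K₁.Normal := ⟨fun k hk g => hKn g g.2 k hk⟩
  haveI hL₀n : L₀.Normal := ⟨fun l hl g => hLn g g.2 l hl⟩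
  have hLH : L ≤ H := hH ▸ le_sup_left
  have hCH : C ≤ H := hH ▸ le_sup_right
  have hKC : K₁ ⊔ C₁ = ⊤ := by
    rw [← Subgroup.subgroupOf_sup hKG hCG, hGKC, Subgroup.subgroupOf_self]
  have hH₁ : H₁ = L₀ ⊔ C₁ := by
    rw [← Subgroup.subgroupOf_sup hLG hCG, ← hH]
  haveI hL₁n : L₁.Normal := by
    rw [← Subgroup.normalizer_eq_top_iff, eq_top_iff, ← hKC, sup_le_iff]
    refine ⟨fun k hk => ?_, fun c hc => ?_⟩
    · have key : ∀ k ∈ K₁, ∀ x ∈ L₁, k * x * k⁻¹ ∈ L₁ := fun k hk x hx => by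
        have h : k * x * k⁻¹ * x⁻¹ ∈ L₀ := hab k hk x hx.1
        have h' := L₁.mul_mem (x := k * x * k⁻¹ * x⁻¹) ⟨hLK h, hLH h⟩ hx
        rwa [inv_mul_cancel_right] at h'
      exact Subgroup.mem_normalizer_iff.2 fun x => ⟨key k hk x, fun h => by
        simpa [mul_assoc] using key k⁻¹ (K₁.inv_mem hk) _ h⟩
    · have key : ∀ c ∈ C₁, ∀ x ∈ L₁, c * x * c⁻¹ ∈ L₁ := fun c hc x hx =>
        ⟨hK₁n.conj_mem x hx.1 c, H₁.mul_mem (H₁.mul_mem (hCH hc) hx.2) (H₁.inv_mem (hCH hc))⟩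
      exact Subgroup.mem_normalizer_iff.2 fun x => ⟨key c hc x, fun h => by
        simpa [mul_assoc] using key c⁻¹ (C₁.inv_mem hc) _ h⟩
  have hfixC : ∀ (s : S) (c : G), c ∈ C₁ → act s c = c := by
    intro s c hc
    have hc' : (c : Γ) ∈ C := hc
    rw [hC] at hc'
    refine Subtype.ext ?_
    rw [Lib.Glauberman.coe_actOf, Subgroup.mem_centralizer_iff.1 hc'.2 s s.2,
      mul_inv_cancel_right]
  have hactK : ∀ s, ∀ x ∈ K₁, act s x ∈ K₁ := fun s x hx => hKS s s.2 x hx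
  have hactL : ∀ s, ∀ x ∈ L₀, act s x ∈ L₀ := fun s x hx => hLS s s.2 x hx
  have hcent : ∀ s, ∀ h ∈ H₁, act s h * h⁻¹ ∈ L₁ := by
    intro s h hh
    rw [hH₁, Subgroup.mem_sup_of_normal_left] at hh
    obtain ⟨l, hl, c, hc, rfl⟩ := hh
    have h1 : act s (l * c) * (l * c)⁻¹ = act s l * l⁻¹ := by
      rw [map_mul, hfixC s c hc, mul_inv_rev, ← mul_assoc, mul_inv_cancel_right]
    have h2 : act s l * l⁻¹ ∈ L₀ := L₀.mul_mem (hactL s l hl) (L₀.inv_mem hl)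
    rw [h1]
    exact ⟨hLK h2, hLH h2⟩
  have hactH : ∀ s, ∀ x ∈ H₁, act s x ∈ H₁ := fun s x hx => by
    have h := H₁.mul_mem (hcent s x hx).2 hx
    rwa [inv_mul_cancel_right] at h
  have hactL₁ : ∀ s, ∀ x ∈ L₁, act s x ∈ L₁ := fun s x hx =>
    ⟨hactK s x hx.1, hactH s x hx.2⟩
  letI : Fintype K₁ := Fintype.ofFinite _
  letI : Fintype L₁ := Fintype.ofFinite _
  letI : Fintype H₁ := Fintype.ofFinite _
  have R : Reduce.Red act K₁ L₁ H₁ :=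
    { le := inf_le_left
      comm := fun a ha b hb => ⟨hLK (hab a ha b hb), hLH (hab a ha b hb)⟩
      inf := rfl
      sup := fun x => by
        have hx : x ∈ K₁ ⊔ C₁ := hKC ▸ Subgroup.mem_top x
        rw [sup_comm, Subgroup.mem_sup_of_normal_right] at hx
        obtain ⟨c, hc, k, hk, rfl⟩ := hx
        exact ⟨c, hCH hc, k, hk, rfl⟩
      odd := hodd
      cop := hcop
      stabK := hactK
      stabL := hactL₁
      cent := hcent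
      fpf := fun k hk hfix => by
        letI : MulDistribMulAction S G := MulDistribMulAction.compHom G act
        obtain ⟨n, hn, hkn⟩ := Lib.Coprime.Action.exists_mul_fixed (A := S) (N := L₁)
          (fun a x hx => hactL₁ a x hx)
          ((hcop.coprime_dvd_left L₁.card_subgroup_dvd_card).symm)
          (Or.inr (haveI := hGsolv; inferInstance)) (g := k) (fun a => by
            show k⁻¹ * act a k ∈ L₁
            simpa [mul_assoc] using hL₁n.conj_mem _ (hfix a) k⁻¹)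
        have hkC : k * n ∈ C₁ := by
          show ((k * n : G) : Γ) ∈ C
          rw [hC]
          refine ⟨(k * n).2, Subgroup.mem_centralizer_iff.2 fun s hs => ?_⟩
          have h : ((act ⟨s, hs⟩ (k * n) : G) : Γ) = ((k * n : G) : Γ) :=
            congrArg Subtype.val (hkn ⟨s, hs⟩)
          rw [Lib.Glauberman.coe_actOf] at h
          exact mul_inv_eq_iff_eq_mul.1 h
        refine ⟨hk, ?_⟩
        exact (H₁.mul_mem_cancel_right hn.2).1 (hCH hkC) }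
  obtain ⟨m1, m2, m3⟩ := Reduce.main R
  let eH : H₁ ≃* H := Subgroup.subgroupOfEquivOfLe hHG
  let toH₁ : Cfsg.IrrCharacter H → Cfsg.IrrCharacter H₁ := fun ψ =>
    ⟨(ψ : H → ℂ) ∘ eH.toMonoidHom, isIrrCharacter_comp _ eH.surjective ψ.2⟩
  let ofH₁ : Cfsg.IrrCharacter H₁ → Cfsg.IrrCharacter H := fun ψ =>
    ⟨(ψ : H₁ → ℂ) ∘ eH.symm.toMonoidHom, isIrrCharacter_comp _ eH.symm.surjective ψ.2⟩
  have hto : ∀ ψ, toH₁ (ofH₁ ψ) = ψ := fun ψ =>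
    Subtype.ext (funext fun h => congrArg (ψ : H₁ → ℂ) (eH.symm_apply_apply h))
  have hof : ∀ ψ, ofH₁ (toH₁ ψ) = ψ := fun ψ =>
    Subtype.ext (funext fun h => congrArg (ψ : H → ℂ) (eH.apply_symm_apply h))
  have hinner : ∀ (χ : Cfsg.IrrCharacter G) (ψ : Cfsg.IrrCharacter H),
      Cfsg.classInner (fun h : H => (χ : G → ℂ) ⟨h, hHG h.2⟩) (ψ : H → ℂ) =
        Cfsg.classInner (fun h : H₁ => (χ : G → ℂ) h) (toH₁ ψ : H₁ → ℂ) := fun χ ψ =>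
    (Reduce.inner_equiv eH (f := fun h : H₁ => (χ : G → ℂ) h) (f' := (toH₁ ψ : H₁ → ℂ))
      (fun a => rfl) fun a => rfl).symm
  have hinvG : ∀ χ : Cfsg.IrrCharacter G, (∀ s ∈ S, ∀ g g' : G, (g' : Γ) = s * g * s⁻¹ →
      (χ : G → ℂ) g' = (χ : G → ℂ) g) ↔ ∀ s g, (χ : G → ℂ) (act s g) = (χ : G → ℂ) g := fun χ =>
    ⟨fun h s g => h s s.2 g _ rfl, fun h s hs g g' he => by
      rw [show g' = act ⟨s, hs⟩ g from Subtype.ext he]
      exact h _ _⟩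
  have hinvH : ∀ ψ : Cfsg.IrrCharacter H, (∀ s ∈ S, ∀ g g' : H, (g' : Γ) = s * g * s⁻¹ →
      (ψ : H → ℂ) g' = (ψ : H → ℂ) g) ↔ InvOn act H₁ (toH₁ ψ : H₁ → ℂ) := fun ψ =>
    ⟨fun h s a b hb => h s s.2 (eH a) (eH b) (congrArg Subtype.val hb), fun h s hs g g' he => by
      have h1 := h ⟨s, hs⟩ (eH.symm g) (eH.symm g') (Subtype.ext he)
      exact (congrArg (ψ : H → ℂ) (eH.apply_symm_apply g').symm).trans
        (h1.trans (congrArg (ψ : H → ℂ) (eH.apply_symm_apply g)))⟩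
  refine ⟨fun χ hχ => ?_, fun χ χ' hχ hχ' ψ hψ m m' hm ho hm' ho' => ?_, fun ψ hψ => ?_⟩
  · obtain ⟨ξ, ⟨hξ, m, hm, ho⟩, huniq⟩ := m1 χ ((hinvG χ).1 hχ)
    refine ⟨ofH₁ ξ, ⟨(hinvH _).2 (by rw [hto]; exact hξ), m, by rw [hinner, hto]; exact hm, ho⟩, ?_⟩
    rintro ψ ⟨hψ, m', hm', ho'⟩
    rw [hinner] at hm'
    rw [← hof ψ, huniq (toH₁ ψ) ⟨(hinvH ψ).1 hψ, m', hm', ho'⟩]
  · rw [hinner] at hm hm'
    exact m2 χ χ' ((hinvG χ).1 hχ) ((hinvG χ').1 hχ') (toH₁ ψ) ((hinvH ψ).1 hψ) m m' hm ho hm' ho'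
  · obtain ⟨χ, hχ, m, hm, ho⟩ := m3 (toH₁ ψ) ((hinvH ψ).1 hψ)
    exact ⟨χ, (hinvG χ).2 hχ, m, by rw [hinner]; exact hm, ho⟩

end Cfsg.Agent.S4453
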