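import Cfsg.Statements.S4454
import Cfsg.Agent.Lib.BC77.TwoValue
import Cfsg.Agent.Lib.BC78.CyclicExt
import Cfsg.Agent.Lib.Clifford.Gallagher

set_option autoImplicit false
open Cfsg

namespace Cfsg.Agent.S4454

open scoped ComplexConjugate
open Lib.Induced.Basic Lib.Characters Lib.Characters.Basic Lib.Clifford Lib.BC77

universe u

variable {Γ : Type u} [Group Γ] [Fintype Γ]

/-- In a Frobenius group modulo `N`, averaging over a coset of the kernel reduces to `N`. -/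
theorem sum_coset (G N : Subgroup Γ) [hG : G.Normal] [hN : N.Normal] [Fintype G] [Fintype N]
    (hNG : N ≤ G) {t : Γ} (ht : ∀ g : Γ, g ∈ G → t * g * t⁻¹ * g⁻¹ ∈ N → g ∈ N) {φ : Γ → ℂ}
    (hφ : Cfsg.IsClassFunction Γ φ) :
    (Nat.card N : ℂ) * ∑ x : G, φ ((x : Γ) * t) = (Nat.card G : ℂ) * ∑ n : N, φ ((n : Γ) * t) := by
  classical
  let Ψ : G × N → G := fun p => ⟨(p.1 : Γ) * p.2 * (t * (p.1 : Γ)⁻¹ * t⁻¹),
    mul_mem (mul_mem p.1.2 (hNG p.2.2)) (hG.conj_mem _ (inv_mem p.1.2) t)⟩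
  have hΨ : ∀ p : G × N, (Ψ p : Γ) * t = (p.1 : Γ) * (p.2 * t) * (p.1 : Γ)⁻¹ := fun p => by
    simp [Ψ, mul_assoc]
  have hfib : ∀ p₀ : G × N,
      (Finset.univ.filter fun p => Ψ p = Ψ p₀).card = Nat.card N := by
    intro p₀
    rw [Nat.card_eq_fintype_card]
    refine Finset.card_bij' (t := Finset.univ)
      (fun p _ => if hu : (p₀.1 : Γ)⁻¹ * p.1 ∈ N then (⟨_, hu⟩ : N) else 1)
      (fun u _ => (p₀.1 * Subgroup.inclusion hNG u,
        u⁻¹ * p₀.2 * ⟨t * u * t⁻¹, hN.conj_mem _ u.2 t⟩))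
      (fun _ _ => Finset.mem_univ _) (fun u _ => ?_) (fun p hp => ?_) (fun u _ => ?_)
    · rw [Finset.mem_filter]
      refine ⟨Finset.mem_univ _, Subtype.ext (mul_right_cancel (b := t) ?_)⟩
      rw [hΨ, hΨ]
      simp [mul_assoc]
    · have he := congrArg (fun x : G => (x : Γ) * t) (Finset.mem_filter.mp hp).2
      simp only [hΨ] at he
      set u := (p₀.1 : Γ)⁻¹ * p.1 with hu_def
      have h1 : u * (p.2 * t) * u⁻¹ = p₀.2 * t := by
        calc u * (p.2 * t) * u⁻¹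
            = (p₀.1 : Γ)⁻¹ * ((p.1 : Γ) * (p.2 * t) * (p.1 : Γ)⁻¹) * p₀.1 := by
              rw [hu_def]; group
          _ = p₀.2 * t := by rw [he]; group
      have huN : u ∈ N := by
        refine ht u (mul_mem (inv_mem p₀.1.2) p.1.2) ?_
        have h2 : t * u * t⁻¹ * u⁻¹ = (p₀.2 : Γ)⁻¹ * (u * p.2 * u⁻¹) := by
          calc t * u * t⁻¹ * u⁻¹
              = (p₀.2 : Γ)⁻¹ * (p₀.2 * t) * u * t⁻¹ * u⁻¹ := by group
            _ = (p₀.2 : Γ)⁻¹ * (u * (p.2 * t) * u⁻¹) * u * t⁻¹ * u⁻¹ := by rw [h1]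
            _ = (p₀.2 : Γ)⁻¹ * (u * p.2 * u⁻¹) := by group
        rw [h2]
        exact mul_mem (inv_mem p₀.2.2) (hN.conj_mem _ p.2.2 u)
      simp only [dif_pos huN]
      refine Prod.ext (Subtype.ext ?_) (Subtype.ext ?_)
      · simp [hu_def]
      · simp only [Subgroup.coe_mul, Subgroup.coe_inv]
        calc u⁻¹ * (p₀.2 : Γ) * (t * u * t⁻¹)
            = u⁻¹ * ((p₀.2 : Γ) * t) * u * t⁻¹ := by group
          _ = u⁻¹ * (u * (p.2 * t) * u⁻¹) * u * t⁻¹ := by rw [h1]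
          _ = p.2 := by group
    · have hu : (p₀.1 : Γ)⁻¹ * (p₀.1 * Subgroup.inclusion hNG u : G) ∈ N := by simp
      simp only [dif_pos hu]
      exact Subtype.ext (by simp)
  have himg : Finset.univ.image Ψ = Finset.univ := by
    refine (Finset.card_eq_iff_eq_univ _).mp (Nat.eq_of_mul_eq_mul_right (Nat.card_pos (α := N)) ?_)
    have h1 := Finset.card_eq_sum_card_image Ψ Finset.univ
    rw [Finset.sum_congr rfl (g := fun _ => Nat.card N) fun b hb => by
      obtain ⟨p₀, -, rfl⟩ := Finset.mem_image.mp hb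
      exact hfib p₀] at h1
    rw [Finset.sum_const, smul_eq_mul, Finset.card_univ, Fintype.card_prod] at h1
    rw [← h1, Nat.card_eq_fintype_card]
  have h2 : ∑ p : G × N, φ ((Ψ p : Γ) * t) = (Nat.card G : ℂ) * ∑ n : N, φ ((n : Γ) * t) := by
    simp only [hΨ, hφ _ _, Fintype.sum_prod_type, Finset.sum_const, Finset.card_univ, nsmul_eq_mul,
      ← Nat.card_eq_fintype_card]
  rw [← h2, ← Finset.sum_fiberwise_of_maps_to (fun p _ => Finset.mem_univ (Ψ p)), Finset.mul_sum]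
  refine Finset.sum_congr rfl fun x hx => ?_
  rw [← himg] at hx
  obtain ⟨p₀, -, rfl⟩ := Finset.mem_image.mp hx
  rw [Finset.sum_congr rfl (g := fun _ => φ ((Ψ p₀ : Γ) * t)) fun p hp => by
    rw [(Finset.mem_filter.mp hp).2], Finset.sum_const, hfib, nsmul_eq_mul]

omit [Fintype Γ] in
theorem re_mul_conj_sum {ι : Type*} [Fintype ι] (f : ι → ℂ) :
    ∑ i, f i * conj (f i) = ((∑ i, ‖f i‖ ^ 2 : ℝ) : ℂ) := by
  push_cast
  exact Finset.sum_congr rfl fun i _ => by rw [Complex.mul_conj']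

omit [Fintype Γ] in
/-- Cauchy's inequality. -/
theorem norm_sum_le_of {ι : Type*} [Fintype ι] {f g : ι → ℂ} {M : ℕ}
    (hf : ∑ i, f i * conj (f i) = (M : ℂ)) (hg : ∑ i, g i * conj (g i) = (M : ℂ)) :
    ‖∑ i, f i * conj (g i)‖ ≤ (M : ℝ) := by
  rw [re_mul_conj_sum] at hf hg
  have hf' : ∑ i, ‖f i‖ ^ 2 = (M : ℝ) := by exact_mod_cast hf
  have hg' : ∑ i, ‖g i‖ ^ 2 = (M : ℝ) := by exact_mod_cast hg
  calc ‖∑ i, f i * conj (g i)‖ ≤ ∑ i, ‖f i * conj (g i)‖ := norm_sum_le _ _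
    _ = ∑ i, ‖f i‖ * ‖g i‖ := Finset.sum_congr rfl fun i _ => by
        rw [norm_mul, Complex.norm_conj]
    _ ≤ ∑ i, (‖f i‖ ^ 2 + ‖g i‖ ^ 2) / 2 := Finset.sum_le_sum fun i _ => by
        nlinarith [sq_nonneg (‖f i‖ - ‖g i‖)]
    _ = (M : ℝ) := by
        rw [← Finset.sum_div, Finset.sum_add_distrib, hf', hg']
        ring

/-- The core bound. -/
theorem core (G N : Subgroup Γ) [hG : G.Normal] [hN : N.Normal] [Fintype G] [Fintype N]
    (hNG : N ≤ G) (y : Γ) (hy : ∀ x : Γ, ∃ k : ℕ, x * (y ^ k)⁻¹ ∈ G)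
    (hfrob : ∀ x : Γ, x ∉ G → ∀ g : Γ, g ∈ G → x * g * x⁻¹ * g⁻¹ ∈ N → g ∈ N)
    (hy' : y ∉ G)
    (θ : Cfsg.IrrCharacter N)
    (hinv : ∀ (x : Γ) (n : N),
      (θ : N → ℂ) ⟨x * n * x⁻¹, hN.conj_mem n n.2 x⟩ = (θ : N → ℂ) n)
    (ψ : Cfsg.IrrCharacter Γ) (χ : Cfsg.IrrCharacter G)
    (hψ : ∀ g : G, (ψ : Γ → ℂ) g = (χ : G → ℂ) g) (e : ℕ)
    (hres : Cfsg.classInner (fun n : N => (χ : G → ℂ) ⟨(n : Γ), hNG n.2⟩) (θ : N → ℂ) = (e : ℂ))
    (hnd : ¬ G.index ∣ e) :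
    (G.index : ℤ) ∣ (e : ℤ) - 1 ∨ (G.index : ℤ) ∣ (e : ℤ) + 1 := by
  classical
  let T : Subgroup Γ := N ⊔ Subgroup.zpowers y
  have hNT : N ≤ T := le_sup_left
  have hyN : ∀ t : Γ, t ∈ G → t * y = y * t → t ∈ N := fun t ht hc => hfrob y hy' t ht (by
    rw [show y * t = t * y from hc.symm, mul_inv_cancel_right, mul_inv_cancel]
    exact one_mem N)
  have hTG : ∀ t : Γ, t ∈ T → t ∈ G → t ∈ N := by
    intro t htT htG
    rw [← SetLike.mem_coe, Subgroup.normal_mul] at htT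
    obtain ⟨n, hn, w, hw, rfl⟩ := Set.mem_mul.1 htT
    obtain ⟨k, rfl⟩ := Subgroup.mem_zpowers_iff.1 hw
    refine mul_mem hn (hyN _ ((Subgroup.mul_mem_cancel_left G (hNG hn)).1 htG) ?_)
    exact ((Commute.refl y).zpow_left k).eq
  let N' := N.subgroupOf T
  haveI : N'.Normal := hN.subgroupOf T
  let f : T →* Γ ⧸ G := (QuotientGroup.mk' G).comp T.subtype
  have hfk : f.ker = N' := by
    ext t
    show QuotientGroup.mk' G (t : Γ) = 1 ↔ t ∈ N.subgroupOf T
    rw [QuotientGroup.mk'_apply, QuotientGroup.eq_one_iff, Subgroup.mem_subgroupOf]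
    exact ⟨hTG t t.2, fun h => hNG h⟩
  have hfs : Function.Surjective f := by
    intro q
    obtain ⟨x, rfl⟩ := QuotientGroup.mk'_surjective G q
    obtain ⟨k, hk⟩ := hy x
    refine ⟨⟨y ^ k, pow_mem (le_sup_right (a := N) (Subgroup.mem_zpowers y)) k⟩, ?_⟩
    show QuotientGroup.mk' G (y ^ k) = QuotientGroup.mk' G x
    rw [QuotientGroup.mk'_apply, QuotientGroup.mk'_apply, QuotientGroup.eq]
    have := hG.conj_mem _ hk (y ^ k)⁻¹
    simpa [mul_assoc] using this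
  let iso : (T ⧸ N') ≃* (Γ ⧸ G) :=
    (QuotientGroup.quotientMulEquivOfEq hfk.symm).trans
      (QuotientGroup.quotientKerEquivOfSurjective f hfs)
  have hcycQ : IsCyclic (Γ ⧸ G) := ⟨⟨QuotientGroup.mk' G y, fun q => by
    obtain ⟨x, rfl⟩ := QuotientGroup.mk'_surjective G q
    obtain ⟨k, hk⟩ := hy x
    refine ⟨(k : ℤ), ?_⟩
    show (QuotientGroup.mk' G y) ^ (k : ℤ) = QuotientGroup.mk' G x
    rw [zpow_natCast, ← map_pow, QuotientGroup.mk'_apply, QuotientGroup.mk'_apply, QuotientGroup.eq]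
    have := hG.conj_mem _ hk (y ^ k)⁻¹
    simpa [mul_assoc] using this⟩⟩
  haveI hcycS : IsCyclic (T ⧸ N') := isCyclic_of_surjective iso.symm.toMonoidHom iso.symm.surjective
  letI : CommGroup (T ⧸ N') := @IsCyclic.commGroup _ _ hcycS
  haveI := Fintype.ofFinite (T ⧸ N')
  haveI := Fintype.ofFinite T
  haveI := Fintype.ofFinite N'
  haveI := Fintype.ofFinite (Cfsg.IrrCharacter (T ⧸ N'))
  have hcardS : Nat.card (T ⧸ N') = G.index := Nat.card_congr iso.toEquiv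
  -- the extension of θ
  let eN : N' ≃* N := Subgroup.subgroupOfEquivOfLe hNT
  let θ' : Cfsg.IrrCharacter N' := ⟨_, isIrrCharacter_comp eN.toMonoidHom eN.surjective θ.2⟩
  obtain ⟨η, hη⟩ := Lib.BC78.CyclicExt.exists_extension (G := T) (N := N') θ' (fun t =>
    Subtype.ext (funext fun n => by
      show (θ : N → ℂ) _ = (θ : N → ℂ) _
      refine Eq.trans (congrArg (θ : N → ℂ) (Subtype.ext ?_)) (hinv (t : Γ) (eN n))
      rfl))
  let π : T →* T ⧸ N' := QuotientGroup.mk' N'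
  have hN0 : ∀ l : Cfsg.IrrCharacter (T ⧸ N'), ∃ c : ℕ,
      Cfsg.classInner (fun t : T => (ψ : Γ → ℂ) t) ((η : T → ℂ) * ((l : T ⧸ N' → ℂ) ∘ π)) = c :=
    fun l => exists_classInner_nat (isCharacter_comp T.subtype (isCharacter_irr ψ))
      (isCharacter_mul (isCharacter_irr η) (isCharacter_comp π (isCharacter_irr l)))
  choose c hc using hN0
  let Nv : Cfsg.IrrCharacter (T ⧸ N') → ℤ := fun l => (c l : ℤ)
  have hcardN' : (Nat.card N' : ℂ) ≠ 0 := natCard_ne_zero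
  have hval : ∀ t₀ : T, TwoValue.val Nv (π t₀) = (Nat.card N' : ℂ)⁻¹ *
      ∑ n : N', (ψ : Γ → ℂ) ((n : T) * t₀ : T) * conj ((η : T → ℂ) ((n : T) * t₀)) := by
    intro t₀
    simp only [TwoValue.val, Nv, Int.cast_natCast, ← hc, Cfsg.classInner, Pi.mul_apply,
      Function.comp_apply, Finset.mul_sum, Finset.sum_mul, map_mul]
    rw [Finset.sum_comm]
    have hor : ∀ t : T, ∑ l : Cfsg.IrrCharacter (T ⧸ N'),
        (l : T ⧸ N' → ℂ) (π t₀) * conj ((l : T ⧸ N' → ℂ) (π t)) =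
        if π t = π t₀ then (Nat.card (T ⧸ N') : ℂ) else 0 := by
      intro t
      rw [Complete.sum_irr_mul_conj]
      by_cases h : π t = π t₀
      · rw [if_pos h, if_pos (h ▸ IsConj.refl (π t)),
          show Subgroup.centralizer ({π t₀} : Set (T ⧸ N')) = ⊤ from
            eq_top_iff.mpr fun z _ => Subgroup.mem_centralizer_singleton_iff.mpr (mul_comm _ _),
          Subgroup.card_top]
      · rw [if_neg h, if_neg fun hc => h (isConj_iff_eq.mp hc).symm]
    rw [Finset.sum_congr rfl (g := fun t : T =>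
      ((Nat.card T : ℂ)⁻¹ * ((ψ : Γ → ℂ) (t : Γ) * conj ((η : T → ℂ) t))) *
        (if π t = π t₀ then (Nat.card (T ⧸ N') : ℂ) else 0)) fun t _ => by
      rw [← hor t, Finset.mul_sum]
      exact Finset.sum_congr rfl fun l _ => by ring]
    simp only [mul_ite, mul_zero]
    rw [← Finset.sum_filter]
    refine Finset.sum_bij' (fun t ht => (⟨t * t₀⁻¹, ?_⟩ : N')) (fun n _ => (n : T) * t₀)
      (fun t ht => Finset.mem_univ _) (fun n _ => ?_) (fun t ht => ?_) (fun n _ => ?_)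
      (fun t ht => ?_)
    · rw [← QuotientGroup.eq_one_iff]
      show π (t * t₀⁻¹) = 1
      rw [map_mul, map_inv, (Finset.mem_filter.1 ht).2, mul_inv_cancel]
    · rw [Finset.mem_filter]
      refine ⟨Finset.mem_univ _, ?_⟩
      rw [map_mul, show π (n : T) = 1 from (QuotientGroup.eq_one_iff _).2 n.2, one_mul]
    · exact inv_mul_cancel_right t t₀
    · exact Subtype.ext (mul_inv_cancel_right _ _)
    · simp only [inv_mul_cancel_right]
      rw [N'.card_eq_card_quotient_mul_card_subgroup (α := T)]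
      push_cast
      have hS0 : (Nat.card (T ⧸ N') : ℂ) ≠ 0 := natCard_ne_zero
      field_simp
  -- bounds off the identity
  obtain ⟨d, ρ, hρ, hρc⟩ := exists_rep ψ
  haveI : (Gallagher.res G ρ).IsIrreducible := by
    obtain ⟨k, σ, hσ, hσc⟩ := exists_rep χ
    exact Rep.isIrreducible_of_char σ _ (funext fun g => by
      show ρ.character (g : Γ) = _
      rw [hρc, hσc, hψ g])
  obtain ⟨d', τ, hτ, hτc⟩ := exists_rep η
  haveI : (Gallagher.res N' τ).IsIrreducible := by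
    obtain ⟨k, σ, hσ, hσc⟩ := exists_rep θ'
    exact Rep.isIrreducible_of_char σ _ (funext fun g => by
      show τ.character (g : T) = _
      rw [hτc, hσc, hη g])
  have hbound : ∀ x : T ⧸ N', x ≠ 1 → ‖TwoValue.val Nv x‖ ≤ 1 := by
    intro x hx
    obtain ⟨t₀, rfl⟩ := QuotientGroup.mk'_surjective N' x
    have ht₀ : (t₀ : Γ) ∉ G := fun h => hx ((QuotientGroup.eq_one_iff t₀).2
      (Subgroup.mem_subgroupOf.2 (hTG _ t₀.2 h)))
    have h1 := Gallagher.average_self N' τ t₀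
    rw [hτc] at h1
    have h2 := Gallagher.average_self G ρ (t₀ : Γ)
    rw [hρc] at h2
    have h3 := sum_coset G N hNG (hfrob _ ht₀)
      (φ := fun z => (ψ : Γ → ℂ) z * conj ((ψ : Γ → ℂ) z))
      fun g z => by
        show (ψ : Γ → ℂ) (z * g * z⁻¹) * conj ((ψ : Γ → ℂ) (z * g * z⁻¹)) = _
        rw [isClassFunction_irr ψ]
    have hG0 : (Nat.card G : ℂ) ≠ 0 := natCard_ne_zero
    rw [inv_mul_eq_iff_eq_mul₀ hG0, mul_one] at h2
    rw [h2, mul_comm] at h3
    have h4 := mul_left_cancel₀ hG0 h3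
    have hNN' : Nat.card N' = Nat.card N := Nat.card_congr eN.toEquiv
    have h5 : ∑ n : N', (ψ : Γ → ℂ) ((n : T) * t₀ : T) * conj ((ψ : Γ → ℂ) ((n : T) * t₀ : T)) =
        ((Nat.card N' : ℕ) : ℂ) := by
      rw [hNN', h4]
      exact Fintype.sum_equiv eN.toEquiv _ _ fun n => rfl
    rw [inv_mul_eq_iff_eq_mul₀ hcardN', mul_one] at h1
    rw [show (QuotientGroup.mk' N') t₀ = π t₀ from rfl, hval, norm_mul, norm_inv,
      Complex.norm_natCast, inv_mul_le_iff₀ (by exact_mod_cast Nat.card_pos), mul_one]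
    exact norm_sum_le_of h5 h1
  have hdev : TwoValue.dev Nv ≤ (G.index : ℤ) - 1 := by
    have h : ((TwoValue.dev Nv : ℤ) : ℂ) =
        ((∑ x ∈ Finset.univ.erase (1 : T ⧸ N'), ‖TwoValue.val Nv x‖ ^ 2 : ℝ) : ℂ) := by
      rw [← TwoValue.sum_erase]
      push_cast
      exact Finset.sum_congr rfl fun i _ => by rw [Complex.mul_conj']
    have h' : ((TwoValue.dev Nv : ℤ) : ℝ) =
        ∑ x ∈ Finset.univ.erase (1 : T ⧸ N'), ‖TwoValue.val Nv x‖ ^ 2 := by exact_mod_cast h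
    have h'' : ((TwoValue.dev Nv : ℤ) : ℝ) ≤ (((G.index : ℤ) - 1 : ℤ) : ℝ) := by
      rw [h']
      refine le_trans (Finset.sum_le_sum (g := fun _ => (1 : ℝ)) fun x hx => ?_) ?_
      · exact pow_le_one₀ (norm_nonneg _) (hbound x (Finset.ne_of_mem_erase hx))
      · rw [Finset.sum_const, nsmul_one, Finset.card_erase_of_mem (Finset.mem_univ _),
          Finset.card_univ, ← hcardS, Nat.card_eq_fintype_card, Nat.cast_sub Fintype.card_pos]
        push_cast
        exact le_rfl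
    exact_mod_cast h''
  have hsum : ((∑ l, Nv l : ℤ) : ℂ) = (e : ℂ) := by
    rw [← TwoValue.val_one, ← map_one π, hval, ← hres, Cfsg.classInner,
      Nat.card_congr eN.toEquiv]
    congr 1
    refine Fintype.sum_equiv eN.toEquiv _ _ fun n => ?_
    rw [mul_one, hη n]
    exact congrArg (· * _) (hψ ⟨((n : T) : Γ), hNG (eN n).2⟩)
  have hsum' : ∑ l, Nv l = (e : ℤ) := by exact_mod_cast hsum
  haveI : Nonempty (Cfsg.IrrCharacter (T ⧸ N')) := ⟨oneChar _⟩
  have hcI : (Fintype.card (Cfsg.IrrCharacter (T ⧸ N')) : ℤ) = (G.index : ℤ) := by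
    rw [TwoValue.card_irr, ← hcardS, Nat.card_eq_fintype_card]
  rcases TwoValue.dichotomy Nv with ⟨k, hk⟩ | ⟨hge, heq⟩
  · exfalso
    refine hnd (Int.natCast_dvd_natCast.1 ⟨k, ?_⟩)
    rw [← hsum', Finset.sum_congr rfl fun l _ => hk l, Finset.sum_const, Finset.card_univ,
      nsmul_eq_mul, hcI]
  · rw [hcI] at hge heq
    obtain ⟨k, δ, l₀, hδ, hl⟩ := heq (le_antisymm hdev hge)
    have he : (e : ℤ) = (G.index : ℤ) * k + δ := by
      rw [← hsum', Finset.sum_congr rfl fun l _ => hl l, Finset.sum_add_distrib, Finset.sum_const,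
        Finset.card_univ, Finset.sum_ite_eq', if_pos (Finset.mem_univ _), nsmul_eq_mul, hcI]
    rcases hδ with rfl | rfl
    · exact Or.inl ⟨k, by rw [he]; ring⟩
    · exact Or.inr ⟨k, by rw [he]; ring⟩

/-- Let N ≤ G be normal subgroups of the finite group Γ with Γ/G cyclic and Γ/N a Frobenius group with kernel G/N: G ≠ Γ, N ≠ G, and no element of Γ outside G fixes a non-identity coset of N in G under conjugation. Let ϑ be an irreducible character of N invariant under conjugation by Γ and suppose ϑ is fully ramified in G: the character of G induced from ϑ equals e·χ for an irreducible character χ of G and a natural number e. Then the index of G in Γ divides e − 1 or e + 1. -/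
theorem result {Γ : Type*} [Group Γ] [Fintype Γ] (G N : Subgroup Γ) [hG : G.Normal] [hN : N.Normal] [Fintype G] [Fintype N] (hNG : N ≤ G) (hGlt : G ≠ ⊤) (hNlt : N ≠ G) (hcyc : IsCyclic (Γ ⧸ G)) (hfrob : ∀ x : Γ, x ∉ G → ∀ g : Γ, g ∈ G → x * g * x⁻¹ * g⁻¹ ∈ N → g ∈ N) (θ : Cfsg.IrrCharacter N) (hinv : ∀ (x : Γ) (n : N), (θ : N → ℂ) ⟨x * n * x⁻¹, hN.conj_mem n n.2 x⟩ = (θ : N → ℂ) n) (χ : Cfsg.IrrCharacter G) (e : ℕ) (hram : Cfsg.indFun (N.subgroupOf G) (fun n : N.subgroupOf G => (θ : N → ℂ) ⟨(n : G), n.2⟩) = fun g => (e : ℂ) * (χ : G → ℂ) g) : (G.index : ℤ) ∣ (e : ℤ) - 1 ∨ (G.index : ℤ) ∣ (e : ℤ) + 1 := by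
  classical
  haveI := hcyc
  obtain ⟨q, hq⟩ := IsCyclic.exists_generator (α := Γ ⧸ G)
  obtain ⟨y, rfl⟩ := QuotientGroup.mk'_surjective G q
  have hy : ∀ x : Γ, ∃ k : ℕ, x * (y ^ k)⁻¹ ∈ G := by
    intro x
    obtain ⟨k, hk⟩ := mem_powers_iff_mem_zpowers.2 (hq (QuotientGroup.mk' G x))
    refine ⟨k, (QuotientGroup.eq_one_iff _).1 ?_⟩
    show QuotientGroup.mk' G (x * (y ^ k)⁻¹) = 1
    have hk' : (QuotientGroup.mk' G y) ^ k = QuotientGroup.mk' G x := hk
    rw [map_mul, map_inv, map_pow, hk', mul_inv_cancel]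
  have hy' : y ∉ G := fun h => hGlt (eq_top_iff.2 fun x _ => by
    obtain ⟨k, hk⟩ := hy x
    simpa using mul_mem hk (pow_mem h k))
  let N₀ := N.subgroupOf G
  haveI : N₀.Normal := hN.subgroupOf G
  haveI := Fintype.ofFinite N₀
  let eN : N₀ ≃* N := Subgroup.subgroupOfEquivOfLe hNG
  let θ₀ : Cfsg.IrrCharacter N₀ := ⟨_, isIrrCharacter_comp eN.toMonoidHom eN.surjective θ.2⟩
  have hθ₀ : (fun n : N.subgroupOf G => (θ : N → ℂ) ⟨(n : G), n.2⟩) = (θ₀ : N₀ → ℂ) := rfl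
  rw [hθ₀] at hram
  have hinv₀ : ∀ g : G, Basic.conjC N₀ g θ₀ = (θ₀ : N₀ → ℂ) := fun g => funext fun n => by
    show (θ : N → ℂ) _ = (θ : N → ℂ) _
    refine Eq.trans (congrArg (θ : N → ℂ) (Subtype.ext ?_)) (hinv (g : Γ) (eN n))
    rfl
  have he2 : ((e * e : ℕ) : ℂ) = (N₀.index : ℂ) := by
    rw [← Gallagher.classInner_indFun_self N₀ θ₀ hinv₀, hram,
      show (fun g : G => (e : ℂ) * (χ : G → ℂ) g) = (e : ℂ) • (χ : G → ℂ) from rfl,
      classInner_smul_left, classInner_smul_right, classInner_self_irr, mul_one, map_natCast,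
      Nat.cast_mul]
  have he2' : e * e = N₀.index := by exact_mod_cast he2
  have he0 : e ≠ 0 := fun h => by
    rw [h, zero_mul] at he2'
    exact Subgroup.index_ne_zero_of_finite he2'.symm
  have hχinv : ∀ (x : Γ) (g : G),
      (χ : G → ℂ) ⟨x * g * x⁻¹, hG.conj_mem g g.2 x⟩ = (χ : G → ℂ) g := by
    intro x g
    have h := congrFun hram g
    have h' := congrFun hram ⟨x * g * x⁻¹, hG.conj_mem g g.2 x⟩
    refine mul_left_cancel₀ (Nat.cast_ne_zero.2 he0 : (e : ℂ) ≠ 0) ?_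
    rw [← h, ← h', indFun_apply, indFun_apply]
    congr 1
    refine (Fintype.sum_equiv (MulAut.conjNormal (H := G) x).toEquiv _ _ fun u => ?_).symm
    have harg : ((MulAut.conjNormal x u)⁻¹ * ⟨x * g * x⁻¹, hG.conj_mem g g.2 x⟩ *
        MulAut.conjNormal x u : G) = MulAut.conjNormal x (u⁻¹ * g * u) := by
      rw [show (⟨x * g * x⁻¹, hG.conj_mem g g.2 x⟩ : G) = MulAut.conjNormal x g from
        Subtype.ext (by simp), map_mul, map_mul, map_inv]
    show (if hx : u⁻¹ * g * u ∈ N₀ then (θ₀ : N₀ → ℂ) ⟨_, hx⟩ else 0) =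
      if hx : (MulAut.conjNormal x u)⁻¹ * ⟨x * g * x⁻¹, hG.conj_mem g g.2 x⟩ *
        MulAut.conjNormal x u ∈ N₀ then (θ₀ : N₀ → ℂ) ⟨_, hx⟩ else 0
    by_cases hm : u⁻¹ * g * u ∈ N₀
    · have hm' : (MulAut.conjNormal x u)⁻¹ * ⟨x * g * x⁻¹, hG.conj_mem g g.2 x⟩ *
          MulAut.conjNormal x u ∈ N₀ := by
        rw [harg, Subgroup.mem_subgroupOf, MulAut.conjNormal_apply]
        exact hN.conj_mem _ (Subgroup.mem_subgroupOf.1 hm) x
      rw [dif_pos hm, dif_pos hm']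
      refine Eq.symm (Eq.trans (congrArg (θ : N → ℂ) (Subtype.ext ?_)) (hinv x (eN ⟨_, hm⟩)))
      show ((((MulAut.conjNormal x u)⁻¹ * ⟨x * g * x⁻¹, hG.conj_mem g g.2 x⟩ *
        MulAut.conjNormal x u : G)) : Γ) = x * ((u⁻¹ * g * u : G) : Γ) * x⁻¹
      simp [mul_assoc]
    · rw [dif_neg hm, dif_neg]
      rw [harg, Subgroup.mem_subgroupOf, MulAut.conjNormal_apply]
      intro hm'
      apply hm
      rw [Subgroup.mem_subgroupOf]
      have := hN.conj_mem _ hm' x⁻¹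
      simpa [mul_assoc] using this
  obtain ⟨ψ, hψ⟩ := Lib.BC78.CyclicExt.exists_extension (G := Γ) (N := G) χ
    (fun x => Subtype.ext (funext fun g => hχinv x g))
  have hres : Cfsg.classInner (fun n : N => (χ : G → ℂ) ⟨(n : Γ), hNG n.2⟩) (θ : N → ℂ) = (e : ℂ) := by
    have h1 := frobenius_reciprocity' N₀ (θ₀ : N₀ → ℂ) (isClassFunction_irr χ)
    rw [hram, show (fun g : G => (e : ℂ) * (χ : G → ℂ) g) = (e : ℂ) • (χ : G → ℂ) from rfl,
      classInner_smul_right, classInner_self_irr, mul_one, map_natCast] at h1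
    rw [h1, Cfsg.classInner, Cfsg.classInner, Nat.card_congr eN.toEquiv]
    congr 1
    exact (Fintype.sum_equiv eN.toEquiv _ _ fun n => rfl).symm
  refine core G N hNG y hy hfrob hy' θ hinv ψ χ hψ e hres fun hdvd => ?_
  -- the index is prime to the order of G/N
  have h1 : G.index ≠ 1 := fun h => hGlt (Subgroup.index_eq_one.1 h)
  obtain ⟨p, hp, hpi⟩ := Nat.exists_prime_and_dvd h1
  haveI := Fact.mk hp
  have hpN : p ∣ N₀.index := he2' ▸ dvd_mul_of_dvd_left (hpi.trans hdvd) e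
  obtain ⟨⟨z₀, hz₀⟩⟩ : Nonempty {z : Γ ⧸ G // orderOf z = p} := by
    obtain ⟨z, hz⟩ := exists_prime_orderOf_dvd_card' (G := Γ ⧸ G) p hpi
    exact ⟨⟨z, hz⟩⟩
  obtain ⟨x, rfl⟩ := QuotientGroup.mk'_surjective G z₀
  have hxG : x ∉ G := fun h => by
    rw [QuotientGroup.mk'_apply, (QuotientGroup.eq_one_iff x).2 h, orderOf_one] at hz₀
    exact hp.ne_one hz₀.symm
  have hxpG : x ^ p ∈ G := (QuotientGroup.eq_one_iff _).1 (by
    show QuotientGroup.mk' G (x ^ p) = 1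
    rw [map_pow, ← hz₀, pow_orderOf_eq_one])
  have hxp : x ^ p ∈ N := hfrob x hxG _ hxpG (by
    rw [((Commute.refl x).pow_right p).eq, mul_inv_cancel_right, mul_inv_cancel]
    exact one_mem N)
  -- conjugation by x on G/N
  let K : Subgroup (Γ ⧸ N) := G.map (QuotientGroup.mk' N)
  haveI : K.Normal := hG.map _ (QuotientGroup.mk'_surjective N)
  let X : Subgroup (Γ ⧸ N) := Subgroup.zpowers (QuotientGroup.mk' N x)
  have hX : IsPGroup p X := by
    intro w
    refine ⟨1, Subtype.ext ?_⟩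
    obtain ⟨k, hk⟩ := Subgroup.mem_zpowers_iff.1 w.2
    show (w : Γ ⧸ N) ^ (p ^ 1) = 1
    rw [pow_one, ← hk, ← zpow_natCast, ← zpow_mul, mul_comm, zpow_mul, zpow_natCast, ← map_pow,
      QuotientGroup.mk'_apply, (QuotientGroup.eq_one_iff _).2 hxp, one_zpow]
  letI : MulAction X K := MulAction.compHom K ((MulAut.conjNormal (H := K)).comp X.subtype)
  have hfix : MulAction.fixedPoints X K = {1} := by
    ext k
    simp only [MulAction.mem_fixedPoints, Set.mem_singleton_iff]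
    constructor
    · intro h
      obtain ⟨g, hg, hgk⟩ := Subgroup.mem_map.1 k.2
      have h' := congrArg Subtype.val (h ⟨_, Subgroup.mem_zpowers _⟩)
      change QuotientGroup.mk' N x * (k : Γ ⧸ N) * (QuotientGroup.mk' N x)⁻¹ = (k : Γ ⧸ N) at h'
      rw [← hgk, ← map_inv, ← map_mul, ← map_mul] at h'
      have hgN : g ∈ N := hfrob x hxG g hg ((QuotientGroup.eq_one_iff _).1 (by
        show QuotientGroup.mk' N (x * g * x⁻¹ * g⁻¹) = 1
        rw [map_mul, h', map_inv, mul_inv_cancel]))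
      exact Subtype.ext (hgk ▸ (QuotientGroup.eq_one_iff g).2 hgN)
    · rintro rfl w
      exact map_one ((MulAut.conjNormal (H := K)).comp X.subtype w)
  have hK : Nat.card K = N₀.index := by
    let φ : G →* Γ ⧸ N := (QuotientGroup.mk' N).comp G.subtype
    have hker : φ.ker = N₀ := by
      ext g
      show QuotientGroup.mk' N (g : Γ) = 1 ↔ _
      rw [QuotientGroup.mk'_apply, QuotientGroup.eq_one_iff, Subgroup.mem_subgroupOf]
    rw [← hker, Subgroup.index_ker, MonoidHom.range_comp, Subgroup.range_subtype]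
  have hmod := hX.card_modEq_card_fixedPoints (α := K)
  rw [hfix, Nat.card_coe_set_eq, Set.ncard_singleton, hK] at hmod
  have h0 : N₀.index ≡ 0 [MOD p] := Nat.modEq_zero_iff_dvd.2 hpN
  exact hp.ne_one (Nat.dvd_one.1 (Nat.modEq_zero_iff_dvd.1 (hmod.symm.trans h0)))

end Cfsg.Agent.S4454
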