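import Cfsg.Statements.S4459
import Cfsg.Agent.Lib.Elem70.Degrees.PDegree
-- import your own Cfsg.Agent.* helpers here

set_option autoImplicit false
open Cfsg

namespace Cfsg.Agent.S4459

/-- Let G be a non-abelian finite group and p a prime. Then the irreducible character degrees of G are exactly 1 and p if and only if either G has an abelian normal subgroup of index p or the centre of G has index p³. -/
theorem result {G : Type*} [Group G] [Finite G] (hG : ∃ a b : G, a * b ≠ b * a) (p : ℕ) (hp : p.Prime) : ((∀ χ : Cfsg.IrrCharacter G, Cfsg.charDegree (χ : G → ℂ) = 1 ∨ Cfsg.charDegree (χ : G → ℂ) = p) ∧ ∃ χ : Cfsg.IrrCharacter G, Cfsg.charDegree (χ : G → ℂ) = p) ↔ ((∃ A : Subgroup G, A.Normal ∧ (∀ a ∈ A, ∀ b ∈ A, a * b = b * a) ∧ A.index = p) ∨ (Subgroup.center G).index = p ^ 3) := by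
  open Cfsg.Agent.Lib Cfsg.Agent.Lib.Characters in
  classical
  haveI := Fintype.ofFinite G
  haveI := Fact.mk hp
  constructor
  · rintro ⟨hcd, -⟩
    exact Cfsg.Agent.Lib.Elem70.Degrees.PDegree.exists_structure hG hp hcd
  intro h
  have hsmall : ∀ (χ : Cfsg.IrrCharacter G) (d : ℕ), (χ : G → ℂ) 1 = d → d = 1 ∨ d = p := by
    intro χ d hd
    rcases h with ⟨A, hAn, hAab, hAi⟩ | hZ
    · haveI := hAn
      obtain ⟨d', hd', hdvd⟩ := Clifford.Ito.degree_dvd_index A hAab χ
      obtain rfl : d = d' := by exact_mod_cast hd.symm.trans hd'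
      exact (Nat.dvd_prime hp).1 (hAi ▸ hdvd)
    · obtain ⟨d', hd', hdvd⟩ := Clifford.Ito.degree_dvd_index (Subgroup.center G)
        (fun a ha b _ => (Subgroup.mem_center_iff.1 ha b).symm) χ
      obtain rfl : d = d' := by exact_mod_cast hd.symm.trans hd'
      -- the degree squared is at most the central index
      have hsq : d ^ 2 ≤ (Subgroup.center G).index := by
        have h1 := Basic.classInner_self_irr χ
        have h2 : ∀ z ∈ Subgroup.center G, ‖(χ : G → ℂ) z‖ = (d : ℝ) := by
          intro z hz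
          obtain ⟨w, hw⟩ := Cfsg.Agent.Lib.Elem70.Degrees.PDegree.exists_central_scalar χ hz
          have hz1 := hw 1
          rw [mul_one, hd] at hz1
          have hzinv := hw z⁻¹
          rw [mul_inv_cancel, hd, Basic.apply_inv (Basic.isCharacter_irr χ), hz1, map_mul,
            Complex.conj_natCast] at hzinv
          have hd0 : (d : ℂ) ≠ 0 := hd ▸ Basic.apply_one_ne_zero χ
          have hw' : w * (starRingEnd ℂ) w = 1 :=
            mul_right_cancel₀ hd0 (by rw [one_mul]; linear_combination -hzinv)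
          rw [Complex.mul_conj, Complex.ofReal_eq_one, Complex.normSq_eq_norm_sq] at hw'
          rw [hz1, norm_mul, Complex.norm_natCast, show ‖w‖ = 1 from
            (pow_eq_one_iff_of_nonneg (norm_nonneg w) two_ne_zero).1 hw', one_mul]
        have h3 : (∑ g : G, ‖(χ : G → ℂ) g‖ ^ 2) = (Nat.card G : ℝ) := by
          simp only [Cfsg.classInner, Complex.mul_conj, Complex.normSq_eq_norm_sq] at h1
          rw [inv_mul_eq_one₀ (Cfsg.Agent.Lib.Induced.Basic.natCard_ne_zero)] at h1
          rw [← Complex.ofReal_sum] at h1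
          exact_mod_cast h1.symm
        have h4 : (∑ g ∈ Finset.univ.filter (· ∈ Subgroup.center G), ‖(χ : G → ℂ) g‖ ^ 2) ≤
            (Nat.card G : ℝ) := h3 ▸ Finset.sum_le_sum_of_subset_of_nonneg
              (Finset.filter_subset _ _) fun _ _ _ => sq_nonneg _
        rw [Finset.sum_congr rfl (g := fun _ => (d : ℝ) ^ 2)
          fun z hz => by rw [h2 z (Finset.mem_filter.1 hz).2], Finset.sum_const, nsmul_eq_mul,
          show (Finset.univ.filter (· ∈ Subgroup.center G)).card = Nat.card (Subgroup.center G) by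
            rw [Nat.card_eq_fintype_card, Fintype.card_subtype],
          ← (Subgroup.center G).card_mul_index, Nat.cast_mul] at h4
        have h5 := le_of_mul_le_mul_left h4 (by exact_mod_cast Nat.card_pos)
        exact_mod_cast h5
      rw [hZ] at hdvd hsq
      obtain ⟨i, -, rfl⟩ := (Nat.dvd_prime_pow hp).1 hdvd
      rw [← pow_mul] at hsq
      have hi := (Nat.pow_le_pow_iff_right hp.one_lt).1 hsq
      rcases Nat.eq_zero_or_pos i with rfl | hi0
      · exact Or.inl (pow_zero p)
      · exact Or.inr (by rw [show i = 1 by omega, pow_one])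
  refine ⟨fun χ => ?_, ?_⟩
  · obtain ⟨d, -, hd⟩ := Basic.exists_degree_pos χ
    rw [S4493.charDegree_eq χ hd]
    exact hsmall χ d hd
  by_contra hcon
  push Not at hcon
  obtain ⟨a, b, hab⟩ := hG
  refine hab (S4493.comm_of_linear (fun χ => ?_) a b)
  obtain ⟨d, -, hd⟩ := Basic.exists_degree_pos χ
  have := hcon χ
  rw [S4493.charDegree_eq χ hd] at this
  rw [hd, (hsmall χ d hd).resolve_right this, Nat.cast_one]

end Cfsg.Agent.S4459
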