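import Cfsg.Statements.S4460
import Cfsg.Agent.Lib.BC77.ThreeDegrees.Main
-- import your own Cfsg.Agent.* helpers here

set_option autoImplicit false
open Cfsg

namespace Cfsg.Agent.S4460

/-- A finite group with exactly three distinct irreducible character degrees is solvable of derived length at most 3: its third derived subgroup is trivial. -/
theorem result {G : Type*} [Group G] [Finite G] (hcd : Nat.card {n : ℕ // ∃ χ : Cfsg.IrrCharacter G, Cfsg.charDegree (χ : G → ℂ) = n} = 3) : derivedSeries G 3 = ⊥ := by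
  classical
  haveI := Fintype.ofFinite (Cfsg.IrrCharacter G)
  let s : Finset ℕ := Finset.univ.image fun χ : Cfsg.IrrCharacter G =>
    Cfsg.charDegree (χ : G → ℂ)
  have hs : s.card = 3 := by
    rw [← Nat.card_eq_finsetCard, ← hcd]
    exact Nat.card_congr (Equiv.subtypeEquivRight fun n => by simp [s])
  have h1 : (1 : ℕ) ∈ s := by
    refine Finset.mem_image.mpr ⟨Lib.Characters.Basic.oneChar G, Finset.mem_univ _, ?_⟩
    rw [Cfsg.charDegree, Lib.Characters.Basic.oneChar_apply, Complex.one_re, Nat.floor_one]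
  obtain ⟨m, n, -, hmn⟩ := Finset.card_eq_two.mp
    (show (s.erase 1).card = 2 by rw [Finset.card_erase_of_mem h1, hs])
  refine Lib.BC77.ThreeDegrees.Deg2.derived_three (m := m) (n := n) fun χ => ?_
  by_cases hχ : Cfsg.charDegree (χ : G → ℂ) = 1
  · exact Or.inl hχ
  · have hmem : Cfsg.charDegree (χ : G → ℂ) ∈ s.erase 1 :=
      Finset.mem_erase.mpr ⟨hχ, Finset.mem_image.mpr ⟨χ, Finset.mem_univ _, rfl⟩⟩
    rw [hmn, Finset.mem_insert, Finset.mem_singleton] at hmem
    exact Or.inr hmem

end Cfsg.Agent.S4460
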