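import Cfsg.Statements.S4462
import Cfsg.Agent.Lib.BC77.Garrison
import Cfsg.Agent.Lib.Characters.Degree

set_option autoImplicit false
open Cfsg

namespace Cfsg.Agent.S4462

open Lib.Characters

universe u

/-- The set of irreducible degrees. -/
def degs (G : Type u) [Group G] : Set ℕ :=
  {d : ℕ | ∃ χ : Cfsg.IrrCharacter G, Cfsg.charDegree (χ : G → ℂ) = d}

theorem finite_degs (G : Type u) [Group G] [Finite G] : (degs G).Finite := by
  refine (Set.finite_Iic (Nat.card G)).subset ?_
  rintro _ ⟨χ, rfl⟩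
  obtain ⟨d, -, hdvd, hd⟩ := Degree.exists_degree_dvd χ
  rw [Set.mem_Iic, Cfsg.charDegree, hd, Complex.natCast_re, Nat.floor_natCast]
  exact Nat.le_of_dvd Nat.card_pos hdvd

theorem chain : ∀ (n : ℕ) {G : Type u} [Group G] [Finite G], Group.IsSolvable G →
    (degs G).ncard ≤ n → ∃ N : Fin (n + 1) → Subgroup G, N 0 = ⊥ ∧ N (Fin.last n) = ⊤ ∧
      Monotone N ∧ (∀ i, (N i).Normal) ∧
      ∀ i : Fin n, ∀ _h : (N i.castSucc).subgroupOf (N i.succ) |>.Normal,
        Group.IsNilpotent (↥(N i.succ) ⧸ (N i.castSucc).subgroupOf (N i.succ)) := by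
  intro n
  induction n with
  | zero =>
    intro G _ _ _ h
    exfalso
    have hne : (degs G).Nonempty := ⟨_, Basic.oneChar G, rfl⟩
    have := hne.ncard_pos (finite_degs G)
    omega
  | succ n ih =>
  intro G _ _ hsolv hcard
  classical
  haveI := hsolv
  set F := Cfsg.fittingSubgroup G with hF
  haveI hFnil : Group.IsNilpotent F := Lib.Cores.fittingSubgroup_isNilpotent
  by_cases hGnil : Group.IsNilpotent G
  · refine ⟨fun i => if i = 0 then ⊥ else ⊤, if_pos rfl, if_neg (Fin.last_pos.ne'), ?_, ?_, ?_⟩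
    · intro i j hij
      dsimp only
      split_ifs with h1 h2 h2
      · exact le_rfl
      · exact bot_le
      · exact absurd (le_antisymm (h2 ▸ hij) (Fin.zero_le i)) h1
      · exact le_rfl
    · intro i
      dsimp only
      split_ifs <;> infer_instance
    · intro i h
      exact Group.nilpotent_of_surjective (QuotientGroup.mk' _) (QuotientGroup.mk'_surjective _)
  have hFn : F.Normal := inferInstance
  have hFtop : F ≠ ⊤ := fun h => hGnil (Lib.Cores.fittingSubgroup_eq_top_iff.1 h)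
  have hsub : degs (G ⧸ F) ⊆ degs G := by
    rintro _ ⟨φ, rfl⟩
    refine ⟨⟨_, Basic.isIrrCharacter_comp (QuotientGroup.mk' F) (QuotientGroup.mk'_surjective F) φ.2⟩, ?_⟩
    simp [Cfsg.charDegree]
  obtain ⟨b, hb, hmax⟩ := (finite_degs G).exists_le_maximal (show 1 ∈ degs G from
    ⟨Basic.oneChar G, by rw [Cfsg.charDegree, Basic.oneChar_apply]; simp⟩)
  have hmiss : b ∉ degs (G ⧸ F) := by
    rintro ⟨φ, hφ⟩
    let χ : Cfsg.IrrCharacter G :=
      ⟨_, Basic.isIrrCharacter_comp (QuotientGroup.mk' F) (QuotientGroup.mk'_surjective F) φ.2⟩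
    have hχb : Cfsg.charDegree (χ : G → ℂ) = b := by
      rw [← hφ]
      simp [χ, Cfsg.charDegree]
    let K := Kernel.charKer (Basic.isCharacter_irr χ)
    haveI : K.Normal := Kernel.charKer_normal _
    have hFK : F ≤ K := fun x hx => by
      show (φ : G ⧸ F → ℂ) (QuotientGroup.mk' F x) = (φ : G ⧸ F → ℂ) (QuotientGroup.mk' F 1)
      rw [QuotientGroup.mk'_apply, (QuotientGroup.eq_one_iff x).2 hx, map_one]
    obtain ⟨ψ, hlt, -⟩ : ∃ ψ : Cfsg.IrrCharacter G,
        Cfsg.charDegree (χ : G → ℂ) < Cfsg.charDegree (ψ : G → ℂ) ∧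
          ∃ L : Subgroup G, (∀ g : G, g ∈ L ↔ (ψ : G → ℂ) g = (ψ : G → ℂ) 1) ∧ L < K := by
      by_cases hle : K ≤ Cfsg.fittingSubgroup G
      · have hKF : K = F := le_antisymm hle hFK
        exact Lib.BC77.Garrison.garrison_eq χ K (fun g => Iff.rfl) hKF
          (Group.isSolvable_of_surjective (QuotientGroup.mk'_surjective K)) (hKF ▸ hFtop)
      · exact Lib.BC77.Garrison.garrison_not_le χ K (fun g => Iff.rfl) hle
    rw [hχb] at hlt
    exact absurd (hmax.2 ⟨ψ, rfl⟩ hlt.le) (not_le.2 hlt)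
  have hlt : (degs (G ⧸ F)).ncard < (degs G).ncard :=
    Set.ncard_lt_ncard ((Set.ssubset_iff_of_subset hsub).2 ⟨b, hmax.1, hmiss⟩) (finite_degs G)
  obtain ⟨M, hM0, hMl, hMm, hMn, hMq⟩ :=
    ih (Group.isSolvable_of_surjective (QuotientGroup.mk'_surjective F)) (by omega)
  refine ⟨Fin.cons ⊥ fun i => (M i).comap (QuotientGroup.mk' F), rfl, ?_, ?_, ?_, ?_⟩
  · rw [← Fin.succ_last, Fin.cons_succ, hMl, Subgroup.comap_top]
  · intro i j hij
    rcases Fin.eq_zero_or_eq_succ i with rfl | ⟨i, rfl⟩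
    · exact bot_le
    rcases Fin.eq_zero_or_eq_succ j with rfl | ⟨j, rfl⟩
    · exact absurd hij (not_le.2 (Fin.succ_pos i))
    rw [Fin.cons_succ, Fin.cons_succ]
    exact Subgroup.comap_mono (hMm (Fin.succ_le_succ_iff.1 hij))
  · intro i
    rcases Fin.eq_zero_or_eq_succ i with rfl | ⟨i, rfl⟩
    · exact Subgroup.normal_bot
    · rw [Fin.cons_succ]
      exact (hMn i).comap _
  · intro i
    rcases Fin.eq_zero_or_eq_succ i with rfl | ⟨i, rfl⟩
    · intro h
      have h1 : (Fin.cons ⊥ fun i => (M i).comap (QuotientGroup.mk' F) : Fin (n + 2) → Subgroup G)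
          (Fin.succ 0) = F := by
        rw [Fin.cons_succ, hM0, MonoidHom.comap_bot, QuotientGroup.ker_mk']
      haveI : Group.IsNilpotent ↥((Fin.cons ⊥ fun i => (M i).comap (QuotientGroup.mk' F) :
          Fin (n + 2) → Subgroup G) (Fin.succ 0)) := by
        rw [h1]
        exact hFnil
      exact Group.nilpotent_of_surjective (QuotientGroup.mk' _) (QuotientGroup.mk'_surjective _)
    · rw [Fin.castSucc_succ, Fin.cons_succ, Fin.cons_succ]
      intro h
      haveI := hMn i.castSucc
      set A := M i.castSucc with hA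
      set B := M i.succ with hB
      haveI hAB : (A.subgroupOf B).Normal := (hMn i.castSucc).subgroupOf B
      haveI := hMq i hAB
      let g : ↥(B.comap (QuotientGroup.mk' F)) →* B ⧸ A.subgroupOf B :=
        (QuotientGroup.mk' (A.subgroupOf B)).comp
          (((QuotientGroup.mk' F).comp (B.comap (QuotientGroup.mk' F)).subtype).codRestrict B
            fun x => x.2)
      have hgs : Function.Surjective g := by
        intro z
        obtain ⟨w, rfl⟩ := QuotientGroup.mk'_surjective (A.subgroupOf B) z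
        obtain ⟨x, hx⟩ := QuotientGroup.mk'_surjective F (w : G ⧸ F)
        refine ⟨⟨x, show QuotientGroup.mk' F x ∈ B from hx ▸ w.2⟩, ?_⟩
        exact congrArg (QuotientGroup.mk' (A.subgroupOf B)) (Subtype.ext hx)
      have hgk : g.ker = (A.comap (QuotientGroup.mk' F)).subgroupOf (B.comap (QuotientGroup.mk' F)) := by
        ext x
        show QuotientGroup.mk' (A.subgroupOf B) _ = 1 ↔ _
        rw [QuotientGroup.mk'_apply, QuotientGroup.eq_one_iff]
        exact Iff.rfl
      exact Group.nilpotent_of_mulEquiv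
        ((QuotientGroup.quotientMulEquivOfEq hgk.symm).trans
          (QuotientGroup.quotientKerEquivOfSurjective g hgs)).symm

/-- Let G be a finite solvable group with exactly n distinct irreducible character degrees. Then G has normal subgroups 1 = N₀ ≤ N₁ ≤ ⋯ ≤ Nₙ = G with every quotient N_{i+1}/N_i nilpotent (the nilpotent length of G is at most n). -/
theorem result {G : Type*} [Group G] [Finite G] (hsolv : Group.IsSolvable G) (n : ℕ) (hcd : Nat.card {d : ℕ // ∃ χ : Cfsg.IrrCharacter G, Cfsg.charDegree (χ : G → ℂ) = d} = n) : ∃ N : Fin (n + 1) → Subgroup G, N 0 = ⊥ ∧ N (Fin.last n) = ⊤ ∧ Monotone N ∧ (∀ i, (N i).Normal) ∧ ∀ i : Fin n, ∀ h : (N i.castSucc).subgroupOf (N i.succ) |>.Normal, Group.IsNilpotent (↥(N i.succ) ⧸ (N i.castSucc).subgroupOf (N i.succ)) := by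
  refine chain n hsolv (le_of_eq ?_)
  rw [← hcd, ← Nat.card_coe_set_eq]
  rfl

end Cfsg.Agent.S4462
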