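import Cfsg.Statements.S4470
-- Frobenius commutator argument: elements near a common scalar in operator norm commute.
import Mathlib.Analysis.InnerProductSpace.PiL2
import Mathlib.Analysis.Normed.Operator.ContinuousLinearMap
import Mathlib.Analysis.SpecialFunctions.Complex.Arg
import Mathlib.GroupTheory.FiniteAbelian.Duality
import Mathlib.RingTheory.RootsOfUnity.AlgebraicallyClosed
import Mathlib.Analysis.Complex.Polynomial.Basic
import Mathlib.RingTheory.IntegralDomain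
import Mathlib.Analysis.Normed.Module.FiniteDimension

set_option autoImplicit false
open Cfsg
open scoped ComplexConjugate

namespace Cfsg.Agent.S4470

noncomputable section

section Abelian

variable {H V : Type*} [CommGroup H] [Finite H] [NormedAddCommGroup V] [InnerProductSpace ℂ V]

def proj (U : H →* (V →L[ℂ] V)) (ψ : H →* ℂˣ) : V →L[ℂ] V :=
  haveI := Fintype.ofFinite H
  (Nat.card H : ℂ)⁻¹ • ∑ h : H, ((ψ h : ℂˣ) : ℂ)⁻¹ • U h

theorem finite_dual (H : Type*) [CommGroup H] [Finite H] : Finite (H →* ℂˣ) := by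
  have h := CommGroup.card_monoidHom_of_hasEnoughRootsOfUnity H ℂ
  exact (Nat.card_pos_iff.mp (h ▸ Nat.card_pos)).2

theorem char_sum [Fintype (H →* ℂˣ)] (a : H) [Decidable (a = 1)] :
    (∑ ψ : H →* ℂˣ, ((ψ a : ℂˣ) : ℂ)⁻¹) = if a = 1 then (Nat.card H : ℂ) else 0 := by
  split_ifs with ha
  · subst ha
    simp only [map_one, Units.val_one, inv_one, Finset.sum_const, Finset.card_univ, nsmul_one]
    rw [← Nat.card_eq_fintype_card, CommGroup.card_monoidHom_of_hasEnoughRootsOfUnity H ℂ]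
  · obtain ⟨φ, hφ⟩ := CommGroup.exists_apply_ne_one_of_hasEnoughRootsOfUnity H ℂ ha
    let f : (H →* ℂˣ) →* ℂ :=
      { toFun := fun ψ => ((ψ a : ℂˣ) : ℂ)⁻¹
        map_one' := by simp
        map_mul' := fun x y => by simp [mul_comm] }
    have hf : f ≠ 1 := by
      intro h
      have h1 := DFunLike.congr_fun h φ
      apply hφ
      ext
      simpa [f] using h1
    exact sum_hom_units_eq_zero f hf

theorem sum_proj [Fintype (H →* ℂˣ)] (U : H →* (V →L[ℂ] V)) (v : V) :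
    ∑ ψ : H →* ℂˣ, proj U ψ v = v := by
  classical
  haveI := Fintype.ofFinite H
  unfold proj
  simp only [ContinuousLinearMap.smul_apply]
  rw [← Finset.smul_sum]
  simp only [ContinuousLinearMap.sum_apply, ContinuousLinearMap.smul_apply]
  rw [Finset.sum_comm]
  simp only [← Finset.sum_smul, char_sum, ite_smul, zero_smul, Finset.sum_ite_eq', Finset.mem_univ,
    if_true]
  rw [map_one, smul_smul, inv_mul_cancel₀ (by exact_mod_cast Nat.card_pos.ne'), one_smul]
  simp

theorem proj_eigen (U : H →* (V →L[ℂ] V)) (ψ : H →* ℂˣ) (g : H) (v : V) :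
    U g (proj U ψ v) = ((ψ g : ℂˣ) : ℂ) • proj U ψ v := by
  unfold proj
  letI := Fintype.ofFinite H
  simp only [ContinuousLinearMap.smul_apply, ContinuousLinearMap.sum_apply, map_smul, map_sum,
    Finset.smul_sum]
  refine Fintype.sum_equiv (Equiv.mulLeft g) _ _ fun h => ?_
  simp only [Equiv.coe_mulLeft, map_mul, ContinuousLinearMap.mul_apply, Units.val_mul, smul_smul]
  congr 1
  field_simp

theorem eigen_orth (u : V →L[ℂ] V) (hu : ∀ x, ‖u x‖ = ‖x‖) {a b : ℂ} (hab : a ≠ b) {x y : V}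
    (hx : u x = a • x) (hy : u y = b • y) : inner ℂ x y = 0 := by
  by_contra h
  have hy0 : y ≠ 0 := by rintro rfl; exact h (inner_zero_right _)
  have hb : ‖b‖ = 1 := by
    have := hu y
    rw [hy, norm_smul] at this
    exact mul_right_cancel₀ (norm_ne_zero_iff.mpr hy0) (this.trans (one_mul _).symm)
  have h1 : inner ℂ (u x) (u y) = inner ℂ x y :=
    (LinearMap.norm_map_iff_inner_map_map u).mp hu x y
  rw [hx, hy, inner_smul_left, inner_smul_right, ← mul_assoc] at h1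
  have h2 : conj a * b = 1 := mul_right_cancel₀ h (h1.trans (one_mul _).symm)
  have h3 : conj b * b = 1 := by rw [mul_comm, Complex.mul_conj']; simp [hb]
  have hb0 : b ≠ 0 := by rintro rfl; simp at hb
  exact hab ((starRingEnd ℂ).injective (mul_right_cancel₀ hb0 (h2.trans h3.symm)))

end Abelian

section Jordan

variable {G V : Type*} [Group G] [NormedAddCommGroup V] [InnerProductSpace ℂ V]
variable (U : G →* (V →L[ℂ] V))

def Pos (b : G) : Prop := ∀ v : V, v ≠ 0 → 0 < (inner ℂ v (U b v)).re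

variable {U}

theorem pos_of_norm {b : G} {c r : ℝ} (hr : r < c) (h : ‖U b - (c : ℂ) • 1‖ ≤ r) : Pos U b := by
  intro v hv
  have e : U b v = (c : ℂ) • v + (U b - (c : ℂ) • 1) v := by simp
  rw [e, inner_add_right, inner_smul_right, inner_self_eq_norm_sq_to_K, Complex.add_re]
  have h1 : |(inner ℂ v ((U b - (c : ℂ) • 1) v)).re| ≤ r * ‖v‖ ^ 2 :=
    calc _ ≤ ‖inner ℂ v ((U b - (c : ℂ) • 1) v)‖ := Complex.abs_re_le_norm _
      _ ≤ ‖v‖ * ‖(U b - (c : ℂ) • 1) v‖ := norm_inner_le_norm _ _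
      _ ≤ ‖v‖ * (r * ‖v‖) :=
          mul_le_mul_of_nonneg_left (ContinuousLinearMap.le_of_opNorm_le _ h v) (norm_nonneg _)
      _ = r * ‖v‖ ^ 2 := by ring
  have h2 : ((c : ℂ) * ((‖v‖ : ℝ) : ℂ) ^ 2).re = c * ‖v‖ ^ 2 := by
    norm_cast
  have h3 : 0 < (c - r) * ‖v‖ ^ 2 := mul_pos (by linarith) (by positivity)
  have h4 := (abs_le.mp h1).1
  show 0 < ((c : ℂ) * ((‖v‖ : ℝ) : ℂ) ^ 2).re + _
  linarith

theorem commute_of_pos [Finite G] (hinj : Function.Injective U) (hiso : ∀ g x, ‖U g x‖ = ‖x‖)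
    {a b : G} (hb : Pos U b) (hc : Commute a (b * a * b⁻¹)) : Commute a b := by
  suffices h : U (b * a * b⁻¹) = U a by
    have := hinj h
    show a * b = b * a
    calc a * b = (b * a * b⁻¹) * b := by rw [this]
      _ = b * a := by group
  let S : Subgroup G := Subgroup.closure {a, b * a * b⁻¹}
  have hS : ∀ x ∈ S, ∀ y ∈ S, x * y = y * x := by
    have : IsMulCommutative S := Subgroup.isMulCommutative_closure (by
      rintro x (rfl | rfl) y (rfl | rfl)
      · rfl
      · exact hc.eq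
      · exact hc.symm.eq
      · rfl)
    intro x hx y hy
    exact congrArg Subtype.val (mul_comm' (⟨x, hx⟩ : S) ⟨y, hy⟩)
  letI : CommGroup S :=
    { (inferInstance : Group S) with mul_comm := fun x y => Subtype.ext (hS _ x.2 _ y.2) }
  haveI := finite_dual S
  letI := Fintype.ofFinite (S →* ℂˣ)
  ext v
  rw [← sum_proj (U.comp S.subtype) v, map_sum, map_sum]
  refine Finset.sum_congr rfl fun ψ _ => ?_
  set w := proj (U.comp S.subtype) ψ v with hwdef
  let α : S := ⟨a, Subgroup.subset_closure (by simp)⟩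
  let β : S := ⟨b * a * b⁻¹, Subgroup.subset_closure (by simp)⟩
  have e1 : U a w = ((ψ α : ℂˣ) : ℂ) • w := proj_eigen (U.comp S.subtype) ψ α v
  have e2 : U (b * a * b⁻¹) w = ((ψ β : ℂˣ) : ℂ) • w := proj_eigen (U.comp S.subtype) ψ β v
  by_cases he : ((ψ β : ℂˣ) : ℂ) = ((ψ α : ℂˣ) : ℂ)
  · rw [e1, e2, he]
  · by_cases hw : w = 0
    · rw [hw, map_zero, map_zero]
    exfalso
    set x := U b⁻¹ w with hxdef
    have hbx : U b x = w := by
      rw [hxdef, ← ContinuousLinearMap.mul_apply, ← map_mul, mul_inv_cancel, map_one]; rfl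
    have hx : x ≠ 0 := fun h => hw (by rw [← hbx, h, map_zero])
    have hax : U a x = ((ψ β : ℂˣ) : ℂ) • x := by
      calc U a x = U (a * b⁻¹) w := by rw [hxdef, map_mul]; rfl
        _ = U (b⁻¹ * (b * a * b⁻¹)) w := by congr 2; group
        _ = U b⁻¹ (U (b * a * b⁻¹) w) := by rw [map_mul]; rfl
        _ = ((ψ β : ℂˣ) : ℂ) • x := by rw [e2, map_smul, hxdef]
    have := hb x hx
    rw [hbx, eigen_orth (U a) (hiso a) he hax e1] at this
    simp at this

theorem norm_le_one_of_iso (hiso : ∀ g x, ‖U g x‖ = ‖x‖) (g : G) : ‖U g‖ ≤ 1 :=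
  ContinuousLinearMap.opNorm_le_bound _ zero_le_one fun x => by rw [hiso, one_mul]

theorem comm_norm (hiso : ∀ g x, ‖U g x‖ = ‖x‖) (a b : G) :
    ‖U (a * b * a⁻¹ * b⁻¹) - 1‖ ≤ ‖U a * U b - U b * U a‖ := by
  have e : U (a * b * a⁻¹ * b⁻¹) - 1 = (U a * U b - U b * U a) * U (a⁻¹ * b⁻¹) := by
    rw [sub_mul, ← map_mul, ← map_mul, ← map_mul, ← map_mul,
      show b * a * (a⁻¹ * b⁻¹) = 1 by group, map_one, ← mul_assoc]
  rw [e]
  exact (norm_mul_le _ _).trans (mul_le_of_le_one_right (norm_nonneg _) (norm_le_one_of_iso hiso _))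

theorem bracket_le (A B : V →L[ℂ] V) (c d : ℂ) :
    ‖A * B - B * A‖ ≤ 2 * ‖A - c • 1‖ * ‖B - d • 1‖ := by
  have e : A * B - B * A = (A - c • 1) * (B - d • 1) - (B - d • 1) * (A - c • 1) := by
    simp only [sub_mul, mul_sub, smul_mul_assoc, mul_smul_comm, one_mul, mul_one]
    module
  rw [e]
  refine (norm_sub_le _ _).trans ?_
  have := norm_mul_le (A - c • 1) (B - d • 1)
  have := norm_mul_le (B - d • 1) (A - c • 1)
  nlinarith

def Near (U : G →* (V →L[ℂ] V)) (g : G) : Prop :=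
  ‖U g - ((Real.sqrt 3 / 2 : ℝ) : ℂ) • 1‖ < 1 / 2

theorem commute_of_near [Finite G] (hinj : Function.Injective U) (hiso : ∀ g x, ‖U g x‖ = ‖x‖)
    {a b : G} (ha : Near U a) (hb : Near U b) : Commute a b := by
  unfold Near at ha hb
  have key : ∀ y : G, ‖U y - 1‖ < 1 / 2 → Commute a y := by
    classical
    intro y hy
    by_contra hny
    obtain ⟨z, ⟨hz, hzn⟩, hmin⟩ := (Set.toFinite {x : G | ‖U x - 1‖ < 1 / 2 ∧ ¬ Commute a x})
      |>.exists_minimalFor (fun x => ‖U x - 1‖) _ ⟨y, hy, hny⟩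
    have hz1 : z ≠ 1 := by rintro rfl; exact hzn (Commute.one_right a)
    have hpos : 0 < ‖U z - 1‖ := by
      rw [norm_pos_iff, sub_ne_zero, ← map_one U]
      exact fun h => hz1 (hinj h)
    set z' := a * z * a⁻¹ * z⁻¹ with hz'
    have hlt : ‖U z' - 1‖ < ‖U z - 1‖ := by
      refine (comm_norm hiso a z).trans_lt ?_
      have := bracket_le (U a) (U z) ((Real.sqrt 3 / 2 : ℝ) : ℂ) 1
      rw [one_smul] at this
      refine this.trans_lt ?_
      nlinarith [norm_nonneg (U a - ((Real.sqrt 3 / 2 : ℝ) : ℂ) • 1)]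
    have hcomm : Commute a z' := by
      by_contra h
      have := hmin ⟨hlt.trans hz, h⟩ hlt.le
      linarith
    apply hzn
    refine commute_of_pos hinj hiso (pos_of_norm (c := 1) (r := ‖U z - 1‖) (by linarith) ?_) ?_
    · simp
    · have h2 := ((Commute.refl a).inv_right.mul_right hcomm).inv_right
      have h3 : (a⁻¹ * z')⁻¹ = z * a * z⁻¹ := by rw [hz']; group
      rwa [h3] at h2
  have h1 : Commute a (a * b * a⁻¹ * b⁻¹) := key _ (by
    refine ((comm_norm hiso a b).trans (bracket_le _ _ ((Real.sqrt 3 / 2 : ℝ) : ℂ) ((Real.sqrt 3 / 2 : ℝ) : ℂ))).trans_lt ?_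
    exact (mul_lt_mul'' (mul_lt_mul_of_pos_left ha two_pos) hb (by positivity) (norm_nonneg _)
      ).trans_le (by norm_num))
  have hs : (1 : ℝ) / 2 < Real.sqrt 3 / 2 := by
    have : (1 : ℝ) < Real.sqrt 3 := Real.lt_sqrt_of_sq_lt (by norm_num)
    linarith
  refine commute_of_pos hinj hiso (pos_of_norm hs hb.le) ?_
  have h2 := ((Commute.refl a).inv_right.mul_right h1).inv_right
  have h3 : (a⁻¹ * (a * b * a⁻¹ * b⁻¹))⁻¹ = b * a * b⁻¹ := by group
  rwa [h3] at h2

theorem near_conj (hiso : ∀ g x, ‖U g x‖ = ‖x‖) (g a : G) (ha : Near U a) :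
    Near U (g * a * g⁻¹) := by
  have e : U (g * a * g⁻¹) - ((Real.sqrt 3 / 2 : ℝ) : ℂ) • 1 =
      U g * (U a - ((Real.sqrt 3 / 2 : ℝ) : ℂ) • 1) * U g⁻¹ := by
    rw [map_mul, map_mul, mul_sub, sub_mul, mul_smul_comm, mul_one, smul_mul_assoc, ← map_mul U g g⁻¹,
      mul_inv_cancel, map_one]
  unfold Near at *
  rw [e]
  refine lt_of_le_of_lt ?_ ha
  calc _ ≤ ‖U g * (U a - _)‖ * ‖U g⁻¹‖ := norm_mul_le _ _
    _ ≤ ‖U g * (U a - _)‖ * 1 :=
        mul_le_mul_of_nonneg_left (norm_le_one_of_iso hiso _) (norm_nonneg _)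
    _ = ‖U g * (U a - _)‖ := mul_one _
    _ ≤ ‖U g‖ * ‖U a - _‖ := norm_mul_le _ _
    _ ≤ _ := mul_le_of_le_one_left (norm_nonneg _) (norm_le_one_of_iso hiso _)

end Jordan

section Boxes

def box (z : ℂ) : ℤ := ⌈Complex.arg z / (Real.pi / 6)⌉

theorem box_mem (z : ℂ) : box z ∈ Finset.Icc (-5 : ℤ) 6 := by
  have h6 : 0 < Real.pi / 6 := by positivity
  have h1 : (-6 : ℝ) < Complex.arg z / (Real.pi / 6) := by
    rw [lt_div_iff₀ h6]; linarith [Complex.neg_pi_lt_arg z]
  have h2 : Complex.arg z / (Real.pi / 6) ≤ 6 := by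
    rw [div_le_iff₀ h6]; linarith [Complex.arg_le_pi z]
  rw [Finset.mem_Icc, box]
  refine ⟨?_, Int.ceil_le.mpr (by exact_mod_cast h2)⟩
  have : (-6 : ℤ) < ⌈Complex.arg z / (Real.pi / 6)⌉ := Int.lt_ceil.mpr (by exact_mod_cast h1)
  omega

theorem box_near {x y : ℂ} (hx : ‖x‖ = 1) (hy : ‖y‖ = 1) (h : box x = box y) :
    ‖x⁻¹ * y - ((Real.sqrt 3 / 2 : ℝ) : ℂ)‖ < 1 / 2 := by
  have h6 : 0 < Real.pi / 6 := by positivity
  set t := Complex.arg y - Complex.arg x with ht
  have hd : |t| < Real.pi / 6 := by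
    have hu := Int.ceil_lt_add_one (Complex.arg x / (Real.pi / 6))
    have hv := Int.ceil_lt_add_one (Complex.arg y / (Real.pi / 6))
    have hu' := Int.le_ceil (Complex.arg x / (Real.pi / 6))
    have hv' := Int.le_ceil (Complex.arg y / (Real.pi / 6))
    unfold box at h
    rw [← h] at hv hv'
    rw [abs_lt, ht]
    have e : ∀ a : ℝ, a = a / (Real.pi / 6) * (Real.pi / 6) := fun a => by field_simp
    constructor
    · nlinarith [e (Complex.arg y), e (Complex.arg x)]
    · nlinarith [e (Complex.arg y), e (Complex.arg x)]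
  have hz : x⁻¹ * y = Complex.exp ((t : ℝ) * Complex.I) := by
    have ex := Complex.norm_mul_exp_arg_mul_I x
    have ey := Complex.norm_mul_exp_arg_mul_I y
    rw [hx] at ex; rw [hy] at ey
    simp only [Complex.ofReal_one, one_mul] at ex ey
    conv_lhs => rw [← ex, ← ey]
    rw [← Complex.exp_neg, ← Complex.exp_add, ht]
    congr 1
    push_cast
    ring
  have hcos : Real.sqrt 3 / 2 < Real.cos t := by
    rw [← Real.cos_abs t, ← Real.cos_pi_div_six]
    exact Real.cos_lt_cos_of_nonneg_of_le_pi (abs_nonneg _) (by linarith [Real.pi_pos]) hd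
  have hs : Real.sqrt 3 ^ 2 = 3 := Real.sq_sqrt (by norm_num)
  have hs0 : 0 < Real.sqrt 3 := by positivity
  rw [← sq_lt_sq₀ (norm_nonneg _) (by norm_num), Complex.sq_norm, hz]
  simp only [Complex.normSq_apply, Complex.sub_re, Complex.sub_im, Complex.ofReal_re,
    Complex.ofReal_im, Complex.exp_ofReal_mul_I_re, Complex.exp_ofReal_mul_I_im, sub_zero]
  nlinarith [Real.sin_sq_add_cos_sq t, mul_lt_mul_of_pos_left hcos hs0]

variable {G V : Type*} [Group G] [Finite G] [NormedAddCommGroup V] [InnerProductSpace ℂ V]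
  [FiniteDimensional ℂ V]

theorem index_bound (U : G →* (V →L[ℂ] V)) (hiso : ∀ g x, ‖U g x‖ = ‖x‖) (A H : Subgroup G)
    (hA : ∀ g, Near U g → g ∈ A) (hH : ∀ x ∈ H, ∀ y ∈ H, x * y = y * x) :
    (A.subgroupOf H).index ≤ 12 ^ Module.finrank ℂ V := by
  classical
  letI : CommGroup H :=
    { (inferInstance : Group H) with mul_comm := fun x y => Subtype.ext (hH _ x.2 _ y.2) }
  haveI := finite_dual H
  letI := Fintype.ofFinite (H →* ℂˣ)
  set U' := U.comp H.subtype with hU'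
  have hiso' : ∀ (h : H) x, ‖U' h x‖ = ‖x‖ := fun h x => hiso _ x
  let Ψ := {ψ : H →* ℂˣ // proj U' ψ ≠ 0}
  have horth : ∀ ψ φ : H →* ℂˣ, ψ ≠ φ → ∀ v w, inner ℂ (proj U' ψ v) (proj U' φ w) = 0 := by
    intro ψ φ hne v w
    obtain ⟨h, hh⟩ := not_forall.mp fun hall => hne (DFunLike.ext _ _ hall)
    exact eigen_orth (U' h) (hiso' h) (fun e => hh (Units.ext e))
      (proj_eigen U' ψ h v) (proj_eigen U' φ h w)
  have hne : ∀ ψ : Ψ, ∃ v, proj U' ψ.1 v ≠ 0 := fun ψ => by
    by_contra h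
    push Not at h
    exact ψ.2 (ContinuousLinearMap.ext fun v => by simpa using h v)
  choose v hv using hne
  have hli : LinearIndependent ℂ fun ψ : Ψ => proj U' ψ.1 (v ψ) :=
    linearIndependent_of_ne_zero_of_inner_eq_zero hv
      fun i j hij => horth _ _ (fun e => hij (Subtype.ext e)) _ _
  have hcard : Fintype.card Ψ ≤ Module.finrank ℂ V := hli.fintype_card_le_finrank
  have hnorm : ∀ (ψ : H →* ℂˣ) (h : H), ‖((ψ h : ℂˣ) : ℂ)‖ = 1 := fun ψ h =>
    Complex.norm_eq_one_of_pow_eq_one (n := Nat.card H)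
      (by rw [← Units.val_pow_eq_pow_val, ← map_pow, pow_card_eq_one', map_one, Units.val_one])
      Nat.card_pos.ne'
  have hnear : ∀ h₁ h₂ : H,
      (∀ ψ : Ψ, box ((ψ.1 h₁ : ℂˣ) : ℂ) = box ((ψ.1 h₂ : ℂˣ) : ℂ)) →
      h₁⁻¹ * h₂ ∈ A.subgroupOf H := by
    intro h₁ h₂ hbox
    rw [Subgroup.mem_subgroupOf]
    refine hA _ ?_
    set c : ℂ := ((Real.sqrt 3 / 2 : ℝ) : ℂ) with hc
    set g := h₁⁻¹ * h₂ with hg
    obtain ⟨r, hr0, hr, hrψ⟩ : ∃ r : ℝ, 0 ≤ r ∧ r < 1 / 2 ∧
        ∀ ψ : Ψ, ‖((ψ.1 g : ℂˣ) : ℂ) - c‖ ≤ r := by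
      let f : Ψ → ℝ := fun ψ => ‖((ψ.1 g : ℂˣ) : ℂ) - c‖
      let S : Finset ℝ := insert 0 (Finset.univ.image f)
      have hS : S.Nonempty := Finset.insert_nonempty _ _
      refine ⟨S.max' hS, Finset.le_max' S _ (Finset.mem_insert_self _ _), (Finset.max'_lt_iff S hS).mpr ?_,
        fun ψ => Finset.le_max' S (f ψ)
          (Finset.mem_insert_of_mem (Finset.mem_image_of_mem f (Finset.mem_univ ψ)))⟩
      intro y hy
      simp only [S, Finset.mem_insert, Finset.mem_image, Finset.mem_univ, true_and] at hy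
      rcases hy with rfl | ⟨ψ, rfl⟩
      · norm_num
      · show ‖((ψ.1 g : ℂˣ) : ℂ) - c‖ < 1 / 2
        rw [hg, map_mul, map_inv, Units.val_mul, Units.val_inv_eq_inv_val]
        exact box_near (hnorm _ _) (hnorm _ _) (hbox ψ)
    show ‖U' g - c • 1‖ < 1 / 2
    refine lt_of_le_of_lt (ContinuousLinearMap.opNorm_le_bound _ hr0 fun x => ?_) hr
    have e : (U' g - c • 1) x =
        ∑ ψ : H →* ℂˣ, (((ψ g : ℂˣ) : ℂ) - c) • proj U' ψ x := by
      conv_lhs => rw [← sum_proj U' x]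
      rw [map_sum]
      refine Finset.sum_congr rfl fun ψ _ => ?_
      rw [sub_smul, ← proj_eigen U' ψ g x]
      simp
    have pyth : ∀ f : (H →* ℂˣ) → ℂ, ‖∑ ψ : H →* ℂˣ, f ψ • proj U' ψ x‖ ^ 2 =
        ∑ ψ : H →* ℂˣ, ‖f ψ‖ ^ 2 * ‖proj U' ψ x‖ ^ 2 := by
      intro f
      rw [norm_sq_eq_re_inner (𝕜 := ℂ), sum_inner, map_sum]
      refine Finset.sum_congr rfl fun ψ _ => ?_
      rw [inner_sum, Finset.sum_eq_single ψ
        (fun φ _ hne => by rw [inner_smul_left, inner_smul_right, horth _ _ (Ne.symm hne)]; simp)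
        (by simp), ← norm_sq_eq_re_inner, norm_smul, mul_pow]
    have p1 := pyth fun ψ => ((ψ g : ℂˣ) : ℂ) - c
    have p2 := pyth fun _ => 1
    simp only [one_smul, norm_one, one_pow, one_mul, sum_proj] at p2
    rw [← e] at p1
    rw [← pow_le_pow_iff_left₀ (norm_nonneg _) (by positivity) two_ne_zero, p1, mul_pow, p2,
      Finset.mul_sum]
    refine Finset.sum_le_sum fun ψ _ => ?_
    by_cases hψ : proj U' ψ = 0
    · simp [hψ]
    · gcongr
      exact hrψ ⟨ψ, hψ⟩
  rw [Subgroup.index_eq_card]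
  let F : H ⧸ A.subgroupOf H → (Ψ → {z : ℤ // z ∈ Finset.Icc (-5 : ℤ) 6}) := fun q ψ =>
    ⟨box ((ψ.1 q.out : ℂˣ) : ℂ), box_mem _⟩
  have hF : Function.Injective F := fun q q' hqq => by
    rw [← Quotient.out_eq q, ← Quotient.out_eq q']
    exact QuotientGroup.eq.mpr (hnear _ _ fun ψ => congrArg Subtype.val (congrFun hqq ψ))
  refine (Nat.card_le_card_of_injective F hF).trans ?_
  rw [Nat.card_fun, Nat.card_eq_fintype_card, Nat.card_eq_fintype_card, Fintype.card_coe,
    Int.card_Icc]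
  exact (pow_le_pow_right₀ (by decide) hcard).trans_eq rfl

theorem main_bound (U : G →* (V →L[ℂ] V)) (hinj : Function.Injective U)
    (hiso : ∀ g x, ‖U g x‖ = ‖x‖) :
    ∃ A : Subgroup G, A.Normal ∧ (∀ x ∈ A, ∀ y ∈ A, x * y = y * x) ∧
      ∀ H : Subgroup G, (∀ x ∈ H, ∀ y ∈ H, x * y = y * x) →
        (A.subgroupOf H).index ≤ 12 ^ Module.finrank ℂ V := by
  refine ⟨Subgroup.closure {g | Near U g}, ?_, ?_,
    fun H hH => index_bound U hiso _ H (fun g hg => Subgroup.subset_closure hg) hH⟩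
  · constructor
    intro x hx g
    induction hx using Subgroup.closure_induction with
    | mem y hy => exact Subgroup.subset_closure (near_conj hiso g y hy)
    | one => simp [Subgroup.one_mem]
    | mul y z _ _ hy hz =>
      rw [show g * (y * z) * g⁻¹ = (g * y * g⁻¹) * (g * z * g⁻¹) by group]
      exact Subgroup.mul_mem _ hy hz
    | inv y _ hy =>
      rw [show g * y⁻¹ * g⁻¹ = (g * y * g⁻¹)⁻¹ by group]
      exact Subgroup.inv_mem _ hy
  · have : IsMulCommutative (Subgroup.closure {g | Near U g}) :=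
      Subgroup.isMulCommutative_closure fun x hx y hy => (commute_of_near hinj hiso hx hy).eq
    intro x hx y hy
    exact congrArg Subtype.val (mul_comm' (⟨x, hx⟩ : Subgroup.closure {g | Near U g}) ⟨y, hy⟩)

end Boxes

section Unitary

variable {G : Type*} [Group G] [Fintype G] {n : ℕ}

def permOp (g : G) : EuclideanSpace ℂ (G × Fin n) →ₗ[ℂ] EuclideanSpace ℂ (G × Fin n) where
  toFun v := WithLp.toLp 2 fun p => v (p.1 * g, p.2)
  map_add' _ _ := rfl
  map_smul' _ _ := rfl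

theorem permOp_apply (g : G) (v : EuclideanSpace ℂ (G × Fin n)) (p : G × Fin n) :
    permOp g v p = v (p.1 * g, p.2) := rfl

theorem norm_permOp (g : G) (v : EuclideanSpace ℂ (G × Fin n)) : ‖permOp g v‖ = ‖v‖ := by
  rw [EuclideanSpace.norm_eq, EuclideanSpace.norm_eq]
  congr 1
  exact Fintype.sum_equiv ((Equiv.mulRight g).prodCongr (Equiv.refl _)) _ _ fun _ => rfl

def emb (ρ : Representation ℂ G (Fin n → ℂ)) :
    (Fin n → ℂ) →ₗ[ℂ] EuclideanSpace ℂ (G × Fin n) where
  toFun v := WithLp.toLp 2 fun p => ρ p.1 v p.2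
  map_add' u v := by ext p; simp
  map_smul' c v := by ext p; simp

theorem emb_apply (ρ : Representation ℂ G (Fin n → ℂ)) (v : Fin n → ℂ) (p : G × Fin n) :
    emb ρ v p = ρ p.1 v p.2 := rfl

theorem emb_injective (ρ : Representation ℂ G (Fin n → ℂ)) : Function.Injective (emb ρ) := by
  intro u v h
  funext i
  have h1 : emb ρ u (1, i) = emb ρ v (1, i) := by rw [h]
  simpa [emb] using h1

theorem permOp_emb (ρ : Representation ℂ G (Fin n → ℂ)) (g : G) (v : Fin n → ℂ) :
    permOp g (emb ρ v) = emb ρ (ρ g v) := by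
  ext p
  rw [permOp_apply, emb_apply, emb_apply, map_mul]
  rfl

def uOp (ρ : Representation ℂ G (Fin n → ℂ)) :
    G →* (LinearMap.range (emb ρ) →L[ℂ] LinearMap.range (emb ρ)) where
  toFun g := LinearMap.toContinuousLinearMap ((permOp g).restrict (fun x hx => by
    obtain ⟨v, rfl⟩ := hx
    exact ⟨ρ g v, (permOp_emb ρ g v).symm⟩))
  map_one' := by
    ext x p
    show (x : EuclideanSpace ℂ (G × Fin n)) (p.1 * 1, p.2) = (x : EuclideanSpace ℂ (G × Fin n)) p
    rw [mul_one]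
  map_mul' g h := by
    ext x p
    show (x : EuclideanSpace ℂ (G × Fin n)) (p.1 * (g * h), p.2) =
      (x : EuclideanSpace ℂ (G × Fin n)) (p.1 * g * h, p.2)
    rw [mul_assoc]

theorem uOp_apply (ρ : Representation ℂ G (Fin n → ℂ)) (g : G) (x : LinearMap.range (emb ρ)) :
    ((uOp ρ g x : LinearMap.range (emb ρ)) : EuclideanSpace ℂ (G × Fin n)) = permOp g x := rfl

theorem norm_uOp (ρ : Representation ℂ G (Fin n → ℂ)) (g : G) (x : LinearMap.range (emb ρ)) :
    ‖uOp ρ g x‖ = ‖x‖ := by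
  rw [← Submodule.norm_coe, ← Submodule.norm_coe, uOp_apply, norm_permOp]

theorem uOp_inj (ρ : Representation ℂ G (Fin n → ℂ)) (hρ : ∀ g, ρ g = 1 → g = 1) :
    Function.Injective (uOp ρ) := by
  have hker : ∀ g, uOp ρ g = 1 → g = 1 := fun g hg => by
    refine hρ g (LinearMap.ext fun v => emb_injective ρ ?_)
    have h1 : uOp ρ g ⟨emb ρ v, LinearMap.mem_range_self _ v⟩ =
        ⟨emb ρ v, LinearMap.mem_range_self _ v⟩ := by rw [hg]; rfl
    have h2 := congrArg Subtype.val h1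
    rw [uOp_apply, permOp_emb] at h2
    simpa using h2
  intro a b hab
  refine inv_mul_eq_one.mp (hker _ ?_)
  rw [map_mul, ← hab, ← map_mul, inv_mul_cancel, map_one]

end Unitary

theorem char_one_eq {G : Type*} [Group G] {n : ℕ} (ρ : Representation ℂ G (Fin n → ℂ)) :
    ρ.character 1 = (n : ℂ) := by
  simp [Representation.character]

/-- Let the finite group G have a faithful character of degree n. Then G has an abelian normal subgroup A such that every abelian subgroup H of G satisfies [H : H ⊓ A] ≤ 12^n. -/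
theorem result {G : Type*} [Group G] [Finite G] (χ : G → ℂ) (hχ : Cfsg.IsCharacter G χ) (hfaith : ∀ g : G, χ g = χ 1 → g = 1) (n : ℕ) (hn : Cfsg.charDegree χ = n) : ∃ A : Subgroup G, A.Normal ∧ (∀ x ∈ A, ∀ y ∈ A, x * y = y * x) ∧ ∀ H : Subgroup G, (∀ x ∈ H, ∀ y ∈ H, x * y = y * x) → (A.subgroupOf H).index ≤ 12 ^ n := by
  obtain ⟨m, ρ, rfl⟩ := hχ
  have hmn : m = n := by rw [← hn, Cfsg.charDegree, char_one_eq]; simp
  subst hmn
  letI := Fintype.ofFinite G
  have hρ : ∀ g, ρ g = 1 → g = 1 := fun g hg => hfaith g (by simp [Representation.character, hg])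
  have h0 := @main_bound G (LinearMap.range (emb ρ)) _ _ (Submodule.normedAddCommGroup _)
    (Submodule.innerProductSpace _) _
  obtain ⟨A, hA1, hA2, hA3⟩ := h0 (uOp ρ) (uOp_inj ρ hρ) (norm_uOp ρ)
  refine ⟨A, hA1, hA2, fun H hH => (hA3 H hH).trans_eq ?_⟩
  rw [LinearMap.finrank_range_of_inj (emb_injective ρ), Module.finrank_fin_fun]

end

end Cfsg.Agent.S4470
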