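import Cfsg.Statements.S4471
import Cfsg.Agent.Lib.BC77.SmallTwoP
import Cfsg.Agent.Lib.BlocksChars5.Basic

set_option autoImplicit false
open Cfsg

namespace Cfsg.Agent.S4471

/-- Let p ≥ 7 be a prime and let the finite group G have a faithful irreducible character of degree n with n < 2p and n ≠ p. If the Sylow p-subgroups of G are non-abelian then p² does not divide the index of O_p(G) in G; consequently, in every case G/O_p(G) has abelian Sylow p-subgroups. -/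
theorem result {G : Type*} [Group G] [Finite G] (χ : Cfsg.IrrCharacter G) (hfaith : ∀ g : G, (χ : G → ℂ) g = (χ : G → ℂ) 1 → g = 1) (n : ℕ) (hn : Cfsg.charDegree (χ : G → ℂ) = n) (p : ℕ) (hp : p.Prime) (h7 : 7 ≤ p) (hn2 : n < 2 * p) (hnp : n ≠ p) : ((∃ P : Sylow p G, ∃ x ∈ (P : Subgroup G), ∃ y ∈ (P : Subgroup G), x * y ≠ y * x) → ¬ p ^ 2 ∣ (Cfsg.pCore p G).index) ∧ ∀ Q : Sylow p (G ⧸ Cfsg.pCore p G), ∀ x ∈ (Q : Subgroup (G ⧸ Cfsg.pCore p G)), ∀ y ∈ (Q : Subgroup (G ⧸ Cfsg.pCore p G)), x * y = y * x := by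
  classical
  haveI : Fact p.Prime := ⟨hp⟩
  have hn' : (χ : G → ℂ) 1 = (n : ℂ) := hn ▸ Lib.BlocksChars5.Basic.apply_one χ
  have hA : (∃ P : Sylow p G, ∃ x ∈ (P : Subgroup G), ∃ y ∈ (P : Subgroup G), x * y ≠ y * x) →
      ¬ p ^ 2 ∣ (Cfsg.pCore p G).index := fun ⟨P, hP⟩ =>
    Lib.BC77.SmallTwoP.main h7 χ hfaith hn' hn2 hnp P hP
  refine ⟨hA, fun Q x hx y hy => ?_⟩
  by_cases h : ∃ P : Sylow p G, ∃ x ∈ (P : Subgroup G), ∃ y ∈ (P : Subgroup G), x * y ≠ y * x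
  · obtain ⟨k, hk⟩ := IsPGroup.iff_card.mp Q.2
    have hk1 : k ≤ 1 := by
      by_contra hlt
      refine hA h ((pow_dvd_pow p (by omega : 2 ≤ k)).trans ?_)
      rw [← hk]
      exact (Subgroup.card_subgroup_dvd_card _).trans (dvd_of_eq rfl)
    haveI : IsCyclic (Q : Subgroup (G ⧸ Cfsg.pCore p G)) := by
      rcases Nat.le_one_iff_eq_zero_or_eq_one.mp hk1 with rfl | rfl
      · haveI : Subsingleton (Q : Subgroup (G ⧸ Cfsg.pCore p G)) :=
          (Nat.card_eq_one_iff_unique.mp (by rw [hk, pow_zero])).1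
        infer_instance
      · exact isCyclic_of_prime_card (p := p) (by rw [hk, pow_one])
    exact congrArg Subtype.val
      ((IsCyclic.isMulCommutative (α := (Q : Subgroup (G ⧸ Cfsg.pCore p G)))).is_comm.comm ⟨x, hx⟩ ⟨y, hy⟩)
  · push Not at h
    obtain ⟨P, rfl⟩ := Sylow.mapSurjective_surjective (QuotientGroup.mk'_surjective (Cfsg.pCore p G)) p Q
    obtain ⟨a, ha, rfl⟩ := hx
    obtain ⟨b, hb, rfl⟩ := hy
    rw [← map_mul, ← map_mul, h P a ha b hb]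

end Cfsg.Agent.S4471
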