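import Cfsg.Statements.S4473
import Cfsg.Agent.Lib.BC77.PrimTwo

set_option autoImplicit false
open Cfsg

namespace Cfsg.Agent.S4473

/-- Let the finite group G have a faithful irreducible character χ of degree 2 that is primitive: χ is not induced from a character of any proper subgroup. Then the centre of G has index 12, 24 or 60. -/
theorem result {G : Type*} [Group G] [Fintype G] (χ : Cfsg.IrrCharacter G) (hfaith : ∀ g : G, (χ : G → ℂ) g = (χ : G → ℂ) 1 → g = 1) (h2 : Cfsg.charDegree (χ : G → ℂ) = 2) (hprim : ∀ H : Subgroup G, H ≠ ⊤ → ∀ θ : H → ℂ, Cfsg.IsCharacter H θ → (χ : G → ℂ) ≠ Cfsg.indFun H θ) : (Subgroup.center G).index = 12 ∨ (Subgroup.center G).index = 24 ∨ (Subgroup.center G).index = 60 := by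
  obtain ⟨n, ρ, hρ, hχ⟩ := Lib.Characters.Basic.exists_rep χ
  haveI := hρ
  refine Lib.BC77.PrimTwo.index_center ρ ?_ ?_ fun H hH θ hθ => hχ ▸ hprim H hH θ hθ
  · intro x y hxy
    have h1 : ρ (x⁻¹ * y) = 1 := by rw [map_mul, ← hxy, ← map_mul, inv_mul_cancel, map_one]
    refine (inv_mul_eq_one.mp (hfaith _ ?_))
    rw [← hχ]
    show LinearMap.trace ℂ _ (ρ _) = LinearMap.trace ℂ _ (ρ _)
    rw [h1, ρ.map_one]
  · rw [Cfsg.charDegree, ← hχ, Representation.char_one] at h2
    simpa using h2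

end Cfsg.Agent.S4473
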