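import Cfsg.Statements.S4474
import Cfsg.Agent.Lib.BC77.RealForm

set_option autoImplicit false
open Cfsg

namespace Cfsg.Agent.S4474

/-- Let χ be an irreducible character of the finite group G. Then the Frobenius–Schur indicator of χ (the average over s ∈ G of χ(s²)) equals 1 if and only if χ is afforded by a real representation: there is a representation of G on a real coordinate space whose trace function, viewed in ℂ, is χ. -/
theorem result {G : Type*} [Group G] [Fintype G] (χ : Cfsg.IrrCharacter G) : ((Nat.card G : ℂ)⁻¹ * ∑ s : G, (χ : G → ℂ) (s * s)) = 1 ↔ ∃ (n : ℕ) (ρ : Representation ℝ G (Fin n → ℝ)), ∀ g : G, ((LinearMap.trace ℝ (Fin n → ℝ) (ρ g) : ℝ) : ℂ) = (χ : G → ℂ) g := by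
  classical
  constructor
  · intro h1
    obtain ⟨n, ρ, hρ, hχ⟩ := Lib.Characters.Basic.exists_rep χ
    haveI := hρ
    obtain ⟨R, hR⟩ := Lib.BC77.RealForm.exists_real ρ
      (show (Nat.card G : ℂ)⁻¹ * ∑ s : G, ρ.character (s * s) = 1 by rw [hχ]; exact h1)
    refine ⟨n, (Matrix.toLinAlgEquiv' (R := ℝ) (n := Fin n)).toAlgHom.toMonoidHom.comp R,
      fun g => ?_⟩
    rw [← congrFun hχ g, ← hR g]
    exact congrArg Complex.ofReal (Matrix.trace_toLin'_eq (R g))
  · rintro ⟨n, σ, hσ⟩
    let R : G →* Matrix (Fin n) (Fin n) ℝ :=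
      (LinearMap.toMatrixAlgEquiv' (R := ℝ) (n := Fin n)).toAlgHom.toMonoidHom.comp σ
    let Rc : G →* Matrix (Fin n) (Fin n) ℂ :=
      ((Complex.ofRealHom : ℝ →+* ℂ).mapMatrix).toMonoidHom.comp R
    let ρ : Representation ℂ G (Fin n → ℂ) :=
      (Matrix.toLinAlgEquiv' (R := ℂ) (n := Fin n)).toAlgHom.toMonoidHom.comp Rc
    have hmat : ∀ g, Lib.BC77.RealForm.mat ρ g = (R g).map Complex.ofReal := fun g =>
      LinearMap.toMatrix'_toLin' (Rc g)
    have hχ : ρ.character = (χ : G → ℂ) := funext fun g => by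
      rw [Lib.BC77.RealForm.char_eq_trace, hmat, ← hσ g,
        LinearMap.trace_eq_matrix_trace ℝ (Pi.basisFun ℝ (Fin n)) (σ g)]
      simp [R, Matrix.trace, LinearMap.toMatrix'_apply, LinearMap.toMatrix_apply]
    haveI hirr : ρ.IsIrreducible := (Lib.Characters.Basic.isIrreducible_iff_classInner_self ρ).2
      (by rw [hχ]; exact Lib.Characters.Basic.classInner_self_irr χ)
    have hn : 0 < n := by
      rcases Nat.eq_zero_or_pos n with rfl | hn
      · refine absurd ?_ (Lib.Characters.Basic.apply_one_ne_zero χ)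
        rw [← hσ 1, LinearMap.trace_eq_matrix_trace ℝ (Pi.basisFun ℝ (Fin 0)) (σ 1)]
        simp [Matrix.trace]
      · exact hn
    have h := Lib.BC77.RealForm.ind_eq_one_of_real ρ R hn hmat
    rw [← hχ]
    exact h

end Cfsg.Agent.S4474
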