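import Cfsg.Statements.S4477
import Cfsg.Agent.Lib.BC77.TwoInvCount

set_option autoImplicit false
open Cfsg

namespace Cfsg.Agent.S4477

/-- Let G be a finite 2-group whose number of involutions is congruent to 1 modulo 4. Then G is cyclic or its commutator subgroup has index 4. -/
theorem result {G : Type*} [Group G] [Finite G] (hG : IsPGroup 2 G) (ht : Nat.card {x : G // orderOf x = 2} % 4 = 1) : IsCyclic G ∨ (commutator G).index = 4 := by
  classical
  by_contra hc
  push Not at hc
  have h4 := Lib.BC77.TwoInvCount.card_sq_eq_one_mod_four hG hc.1 hc.2
  have := Fintype.ofFinite G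
  have hsplit : Nat.card {s : G // s * s = 1} = Nat.card {x : G // orderOf x = 2} + 1 := by
    simp only [Nat.card_eq_fintype_card, Fintype.card_subtype]
    rw [show (Finset.univ.filter fun s : G => s * s = 1) =
        insert 1 (Finset.univ.filter fun x : G => orderOf x = 2) from ?_]
    · exact Finset.card_insert_of_notMem (by simp)
    · ext x
      simp only [Finset.mem_insert, Finset.mem_filter, Finset.mem_univ, true_and,
        orderOf_eq_prime_iff (p := 2) (x := x), pow_two]
      by_cases hx : x = 1 <;> simp [hx]
  rw [hsplit] at h4
  omega

end Cfsg.Agent.S4477
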