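import Cfsg.Statements.S4478
import Cfsg.Agent.Lib.Characters.DefectZero
import Cfsg.Agent.Lib.Characters.Indicator
import Cfsg.Agent.Lib.BrauerMap.ClassSum

set_option autoImplicit false
open Cfsg

namespace Cfsg.Agent.S4478

open Lib.Characters

variable {G : Type*} [Group G] [Fintype G]

theorem charDegree_spec (χ : Cfsg.IrrCharacter G) :
    (χ : G → ℂ) 1 = (Cfsg.charDegree (χ : G → ℂ) : ℂ) ∧ 0 < Cfsg.charDegree (χ : G → ℂ) := by
  obtain ⟨d, hd0, -, hd⟩ := Degree.exists_degree_dvd χ
  have : Cfsg.charDegree (χ : G → ℂ) = d := by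
    rw [Cfsg.charDegree, hd, Complex.natCast_re, Nat.floor_natCast]
  rw [this]
  exact ⟨hd, hd0⟩

theorem vanish (χ : Cfsg.IrrCharacter G) {p : ℕ} (hp : p.Prime)
    (h : p ^ (Nat.card G).factorization p ∣ Cfsg.charDegree (χ : G → ℂ)) {y : G}
    (hy : p ∣ orderOf y) : (χ : G → ℂ) y = 0 := by
  haveI := Fact.mk hp
  obtain ⟨e, he⟩ := h
  refine DefectZero.apply_eq_zero hp χ (Nat.ordProj_mul_ordCompl_eq_self (Nat.card G) p).symm
    (Nat.not_dvd_ordCompl hp Nat.card_pos.ne') (e := e) ?_ hy
  rw [← he]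
  exact (charDegree_spec χ).1

/-- Let G be a finite group of even order and χ an irreducible character of G whose degree x is divisible by the full power of 2 dividing the order of G and, for every odd prime p such that G has an element of order 2p, by the full power of p dividing the order of G. Then all involutions of G are conjugate, the centralizer of every involution has order exactly x with x coprime to its index, and the Frobenius–Schur indicator of χ equals 1. -/
theorem result {G : Type*} [Group G] [Fintype G] (heven : Even (Nat.card G)) (χ : Cfsg.IrrCharacter G) (h2 : 2 ^ (Nat.card G).factorization 2 ∣ Cfsg.charDegree (χ : G → ℂ)) (hp : ∀ p : ℕ, p.Prime → p ≠ 2 → (∃ g : G, orderOf g = 2 * p) → p ^ (Nat.card G).factorization p ∣ Cfsg.charDegree (χ : G → ℂ)) : (∀ s t : G, orderOf s = 2 → orderOf t = 2 → IsConj s t) ∧ (∀ s : G, orderOf s = 2 → Nat.card (Subgroup.centralizer ({s} : Set G)) = Cfsg.charDegree (χ : G → ℂ) ∧ (Nat.card (Subgroup.centralizer ({s} : Set G))).Coprime (Subgroup.centralizer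 ({s} : Set G)).index) ∧ (Nat.card G : ℂ)⁻¹ * ∑ g : G, (χ : G → ℂ) (g * g) = 1 := by
  classical
  set x := Cfsg.charDegree (χ : G → ℂ) with hx
  obtain ⟨hx1, hx0⟩ := charDegree_spec χ
  have hG2 : 2 ∣ Nat.card G := heven.two_dvd
  have hne : χ ≠ Basic.oneChar G := by
    intro h
    have h1 : x = 1 := by
      have : (x : ℂ) = ((1 : ℕ) : ℂ) := by
        rw [← hx1, h, Basic.oneChar_apply, Nat.cast_one]
      exact_mod_cast this
    rw [h1, Nat.dvd_one] at h2
    exact (Nat.one_lt_pow ((Nat.prime_two.factorization_pos_of_dvd Nat.card_pos.ne' hG2).ne')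
      one_lt_two).ne' h2
  have hsum0 : ∑ g : G, (χ : G → ℂ) g = 0 := by
    have h := Basic.classInner_irr_of_ne hne
    rw [Cfsg.classInner] at h
    simpa [Basic.oneChar_apply, Nat.card_pos.ne'] using h
  have hfull : ∀ (p : ℕ), p.Prime → (∃ g : G, 2 ∣ orderOf g ∧ p ∣ orderOf g) →
      p ^ (Nat.card G).factorization p ∣ x := by
    rintro p hpp ⟨g, hg2, hgp⟩
    by_cases h : p = 2
    · subst h; exact h2
    · refine hp p hpp h ⟨g ^ (orderOf g / (2 * p)), orderOf_pow_orderOf_div (orderOf_pos g).ne' ?_⟩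
      exact ((Nat.coprime_primes Nat.prime_two hpp).2 (Ne.symm h)).mul_dvd_of_dvd_of_dvd hg2 hgp
  have hodd : ∀ y : G, (χ : G → ℂ) y ≠ 0 → Odd (orderOf y) := fun y hy => by
    rw [← Nat.not_even_iff_odd, even_iff_two_dvd]
    exact fun h => hy (vanish χ Nat.prime_two h2 h)
  have hsq : ∀ g : G, (χ : G → ℂ) (g * g) = (if orderOf g = 2 then (x : ℂ) else 0) +
      (if Odd (orderOf g) then (χ : G → ℂ) (g * g) else 0) := by
    intro g
    by_cases h2g : orderOf g = 2
    · rw [if_pos h2g, if_neg (by rw [h2g]; decide), add_zero,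
        show g * g = 1 by rw [← pow_two, ← h2g, pow_orderOf_eq_one], hx1]
    by_cases hog : Odd (orderOf g)
    · rw [if_neg h2g, if_pos hog, zero_add]
    rw [if_neg h2g, if_neg hog, add_zero]
    rw [Nat.not_odd_iff_even, even_iff_two_dvd] at hog
    obtain ⟨m, hm⟩ := hog
    have hm1 : m ≠ 1 := fun h => h2g (by rw [hm, h, mul_one])
    obtain ⟨p, hpp, hpm⟩ := Nat.exists_prime_and_dvd hm1
    refine vanish χ hpp (hfull p hpp ⟨g, Dvd.intro _ hm.symm, hm ▸ hpm.mul_left 2⟩) ?_
    rw [← pow_two, orderOf_pow' g two_ne_zero, hm, Nat.gcd_mul_right_left,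
      Nat.mul_div_cancel_left _ two_pos]
    exact hpm
  have hsumodd : ∑ g : G, (if Odd (orderOf g) then (χ : G → ℂ) (g * g) else 0) = 0 := by
    rw [← Finset.sum_filter, ← hsum0, ← Finset.sum_filter_of_ne (s := (Finset.univ : Finset G))
      (p := fun g => Odd (orderOf g)) (f := (χ : G → ℂ)) (fun g _ hg => hodd g hg)]
    set S := Finset.univ.filter fun g : G => Odd (orderOf g) with hS
    have hinj : Set.InjOn (fun g : G => g * g) S := by
      intro a ha b hb hab
      simp only [hS, Finset.coe_filter, Finset.mem_univ, true_and] at ha hb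
      obtain ⟨k, hk⟩ := Odd.mul ha hb
      have e : ∀ c : G, orderOf c ∣ 2 * k + 1 → c = (c * c) ^ (k + 1) := fun c hc => by
        rw [← pow_two, ← pow_mul, show 2 * (k + 1) = 2 * k + 1 + 1 by ring, pow_succ,
          orderOf_dvd_iff_pow_eq_one.1 hc, one_mul]
      have hab' : a * a = b * b := hab
      rw [e a (hk ▸ dvd_mul_right _ _), e b (hk ▸ dvd_mul_left _ _), hab']
    have hmaps : ∀ g ∈ S, g * g ∈ S := fun g hg => by
      simp only [hS, Finset.mem_filter, Finset.mem_univ, true_and] at hg ⊢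
      rw [← pow_two, (Nat.Coprime.orderOf_pow (Nat.coprime_two_right.2 hg))]
      exact hg
    rw [← Finset.sum_image (f := (χ : G → ℂ)) hinj]
    congr 1
    refine Finset.eq_of_subset_of_card_le (fun y hy => ?_) (by rw [Finset.card_image_of_injOn hinj])
    obtain ⟨g, hg, rfl⟩ := Finset.mem_image.1 hy
    exact hmaps g hg
  set t := (Finset.univ.filter fun g : G => orderOf g = 2).card with ht
  have hnu : (Nat.card G : ℂ)⁻¹ * ∑ g : G, (χ : G → ℂ) (g * g) =
      ((t * x : ℕ) : ℂ) / (Nat.card G : ℂ) := by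
    rw [Finset.sum_congr rfl fun g _ => hsq g, Finset.sum_add_distrib, hsumodd, add_zero,
      ← Finset.sum_filter, Finset.sum_const, ← ht, nsmul_eq_mul, Nat.cast_mul, div_eq_inv_mul]
  obtain ⟨s₀, hs₀⟩ := exists_prime_orderOf_dvd_card' 2 hG2
  have ht0 : 0 < t := Finset.card_pos.2 ⟨s₀, by simp [hs₀]⟩
  have hG0 : (Nat.card G : ℂ) ≠ 0 := Nat.cast_ne_zero.2 Nat.card_pos.ne'
  have hnu0 : (Nat.card G : ℂ)⁻¹ * ∑ g : G, (χ : G → ℂ) (g * g) ≠ 0 := by
    rw [hnu]
    exact div_ne_zero (Nat.cast_ne_zero.2 (Nat.mul_pos ht0 hx0).ne') hG0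
  obtain ⟨hone, hG⟩ : (Nat.card G : ℂ)⁻¹ * ∑ g : G, (χ : G → ℂ) (g * g) = 1 ∧
      t * x = Nat.card G := by
    have hspec := Indicator.indicator_spec χ
    rcases hspec.1 (Classical.byContradiction fun h => hnu0 (hspec.2 h)) with h | h
    · refine ⟨h, ?_⟩
      rw [hnu, div_eq_one_iff_eq hG0] at h
      exact_mod_cast h
    · rw [hnu, div_eq_iff hG0, neg_one_mul, eq_neg_iff_add_eq_zero, ← Nat.cast_add,
        Nat.cast_eq_zero] at h
      have := Nat.card_pos (α := G)
      omega
  have hC : ∀ s : G, orderOf s = 2 →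
      Nat.card (Subgroup.centralizer ({s} : Set G)) ∣ x ∧
      ∀ p : ℕ, p.Prime → p ∣ Nat.card (Subgroup.centralizer ({s} : Set G)) →
        p ^ (Nat.card G).factorization p ∣ x := by
    intro s hs
    have hfullC : ∀ p : ℕ, p.Prime → p ∣ Nat.card (Subgroup.centralizer ({s} : Set G)) →
        p ^ (Nat.card G).factorization p ∣ x := by
      intro p hpp hpC
      by_cases h : p = 2
      · subst h; exact h2
      haveI := Fact.mk hpp
      obtain ⟨y, hy⟩ := exists_prime_orderOf_dvd_card' p hpC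
      have hcomm : Commute s (y : G) :=
        (Subgroup.mem_centralizer_singleton_iff.1 y.2).symm
      have hord : orderOf (s * (y : G)) = 2 * p := by
        rw [hcomm.orderOf_mul_eq_mul_orderOf_of_coprime (by
          rw [hs, Subgroup.orderOf_coe, hy]
          exact (Nat.coprime_primes Nat.prime_two hpp).2 (Ne.symm h)), hs, Subgroup.orderOf_coe, hy]
      exact hp p hpp h ⟨_, hord⟩
    refine ⟨?_, hfullC⟩
    refine (Nat.factorization_prime_le_iff_dvd Nat.card_pos.ne' hx0.ne').1 fun p hpp => ?_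
    by_cases hpC : p ∣ Nat.card (Subgroup.centralizer ({s} : Set G))
    · exact le_trans (Nat.factorization_le_iff_dvd Nat.card_pos.ne' Nat.card_pos.ne' |>.2
        (Subgroup.card_subgroup_dvd_card _) p)
        ((hpp.pow_dvd_iff_le_factorization hx0.ne').1 (hfullC p hpp hpC))
    · rw [Nat.factorization_eq_zero_of_not_dvd hpC]
      exact Nat.zero_le _
  have hmain : ∀ s : G, orderOf s = 2 →
      Nat.card (Subgroup.centralizer ({s} : Set G)) = x ∧
      ∀ u : G, orderOf u = 2 → IsConj s u := by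
    intro s hs
    obtain ⟨hdvd, -⟩ := hC s hs
    set C := Subgroup.centralizer ({s} : Set G) with hCdef
    have hsub : (Finset.univ.filter fun g : G => IsConj s g) ⊆
        Finset.univ.filter fun g : G => orderOf g = 2 := by
      intro g hg
      simp only [Finset.mem_filter, Finset.mem_univ, true_and] at hg ⊢
      obtain ⟨c, hc⟩ := isConj_iff.1 hg
      rw [← hc, ← MulAut.conj_apply, MulEquiv.orderOf_eq, hs]
    have hcls : (Finset.univ.filter fun g : G => IsConj s g).card = C.index := by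
      rw [hCdef, ← Lib.BrauerMap.ClassSum.card_isConj s, Nat.card_eq_fintype_card,
        Fintype.card_subtype]
    have hle : C.index ≤ t := hcls ▸ Finset.card_le_card hsub
    have hCx : Nat.card C ≤ x := Nat.le_of_dvd hx0 hdvd
    have h1 := C.index_mul_card
    have hxC : Nat.card C = x := by
      refine le_antisymm hCx (Nat.le_of_mul_le_mul_left ?_ ht0)
      rw [hG, ← h1]
      exact Nat.mul_le_mul_right _ hle
    refine ⟨hxC, fun u hu => ?_⟩
    have hidx : C.index = t := Nat.eq_of_mul_eq_mul_right hx0 (by rw [hG, ← h1, hxC])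
    have heq := Finset.eq_of_subset_of_card_le hsub (le_of_eq (by rw [hcls, hidx]))
    have hu' : u ∈ Finset.univ.filter fun g : G => orderOf g = 2 := by simp [hu]
    rw [← heq] at hu'
    simpa using hu'
  refine ⟨fun s u hs hu => (hmain s hs).2 u hu, fun s hs => ⟨(hmain s hs).1, ?_⟩, hone⟩
  refine Nat.coprime_of_dvd fun p hpp hpC hpi => ?_
  have h1 := (hC s hs).2 p hpp hpC
  rw [← (hmain s hs).1] at h1
  have h3 : p ^ ((Nat.card G).factorization p + 1) ∣ Nat.card G := by
    rw [pow_succ]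
    exact dvd_trans (Nat.mul_dvd_mul h1 hpi) (dvd_of_eq (Subgroup.card_mul_index _))
  exact Nat.pow_succ_factorization_not_dvd Nat.card_pos.ne' hpp h3

end Cfsg.Agent.S4478
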