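import Cfsg.Statements.S4485
import Cfsg.Agent.Lib.SmallDegreeTI.Main
import Cfsg.Agent.Lib.DegreeBounds.Basic

set_option autoImplicit false
open Cfsg
open scoped commutatorElement

namespace Cfsg.Agent.S4485

/-- Let G be a finite group and p a prime dividing its order such that every non-identity element of a Sylow p-subgroup P has the same centralizer as P itself (so P is abelian); let p^n be the order of P. If G has a faithful character of degree x with x² < p^n − 1, then P is normal in G. -/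
theorem result {G : Type*} [Group G] [Finite G] (p : ℕ) (hp : p.Prime) (hpG : p ∣ Nat.card G) (P : Sylow p G) (hstar : ∀ x ∈ (P : Subgroup G), x ≠ 1 → Subgroup.centralizer ({x} : Set G) = Subgroup.centralizer ((P : Subgroup G) : Set G)) (n : ℕ) (hn : Nat.card P = p ^ n) (χ : G → ℂ) (hχ : Cfsg.IsCharacter G χ) (hfaith : ∀ g : G, χ g = χ 1 → g = 1) (hdeg : Cfsg.charDegree χ ^ 2 + 1 < p ^ n) : (P : Subgroup G).Normal := by
  classical
  haveI : Fact p.Prime := ⟨hp⟩
  letI := Fintype.ofFinite G
  letI := Fintype.ofFinite (Cfsg.IrrCharacter G)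
  letI := Fintype.ofFinite (Cfsg.IrrCharacter (Lib.SmallDegreeTI.Setup.cen P))
  have hs : Lib.SmallDegreeTI.Setup.SameCen P := hstar
  set K := Subgroup.normalClosure ((P : Subgroup G) : Set G)
  have hPK : (P : Subgroup G) ≤ K := Subgroup.subset_normalClosure
  have hcomm : ∀ a ∈ K, ∀ b ∈ K, a * b = b * a := by
    intro a ha b hb
    rw [← commutatorElement_eq_one_iff_mul_comm]
    apply hfaith
    have hdec := Lib.SmallDegreeTI.Main.g_eq_sum hχ
    rw [hdec, hdec 1]
    refine Finset.sum_congr rfl fun Z _ => ?_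
    by_cases hZ : Lib.SmallDegreeTI.Main.gmult χ Z = 0
    · rw [hZ, Nat.cast_zero, zero_mul, zero_mul]
    have hle : Cfsg.charDegree (Z : G → ℂ) ≤ Cfsg.charDegree χ := by
      have h : Cfsg.charDegree χ =
          ∑ Z : Cfsg.IrrCharacter G, Lib.SmallDegreeTI.Main.gmult χ Z * Cfsg.charDegree (Z : G → ℂ) := by
        apply Nat.cast_injective (R := ℂ)
        rw [← Lib.DegreeBounds.Basic.charDegree_cast hχ, hdec 1]
        push_cast
        exact Finset.sum_congr rfl fun Z _ => by rw [← Lib.DegreeBounds.Basic.charDegree_irr Z]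
      rw [h]
      exact (Nat.le_mul_of_pos_left _ (Nat.pos_of_ne_zero hZ)).trans
        (Finset.single_le_sum (f := fun Z : Cfsg.IrrCharacter G =>
          Lib.SmallDegreeTI.Main.gmult χ Z * Cfsg.charDegree (Z : G → ℂ))
          (fun _ _ => Nat.zero_le _) (Finset.mem_univ Z))
    have hsq : Cfsg.charDegree (Z : G → ℂ) ^ 2 + 1 < Nat.card (P : Subgroup G) := by
      rw [show Nat.card (P : Subgroup G) = p ^ n from hn]
      exact lt_of_le_of_lt (Nat.add_le_add_right (Nat.pow_le_pow_left hle 2) 1) hdeg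
    rw [(Lib.SmallDegreeTI.Main.commutator_trivial hs Z (Lib.DegreeBounds.Basic.charDegree_irr Z) hsq
      K hPK (fun N _ h => Subgroup.normalClosure_le_normal h)).2 a ha b hb]
  refine ⟨fun y hy g => ?_⟩
  have hconjK : g * y * g⁻¹ ∈ K := (Subgroup.normalClosure_normal).conj_mem y (hPK hy) g
  have hc : g * y * g⁻¹ ∈ Lib.SmallDegreeTI.Setup.cen P := by
    rw [Subgroup.mem_centralizer_iff]
    exact fun h hh => hcomm h (hPK hh) _ hconjK
  have h1 := Subgroup.mem_subgroupOf.mp (Lib.SmallDegreeTI.Setup.proj_mem hs ⟨_, hc⟩)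
  rw [Lib.SmallDegreeTI.Setup.proj_apply, Subgroup.coe_pow] at h1
  have h2 : (g * y * g⁻¹) ^ Lib.SmallDegreeTI.Setup.projExp hs = g * y * g⁻¹ := by
    rw [conj_pow, Lib.SmallDegreeTI.Setup.pow_projExp hs hy]
  rwa [h2] at h1

end Cfsg.Agent.S4485
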