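import Cfsg.Statements.S4486
import Cfsg.Agent.Lib.SmallDegreeTI.Main
import Cfsg.Agent.Lib.DegreeBounds.Basic

set_option autoImplicit false
open Cfsg
open scoped commutatorElement

namespace Cfsg.Agent.S4486

/-- Let G be a finite group and p a prime dividing its order such that every non-identity element of a Sylow p-subgroup P has the same centralizer as P; let p^n be the order of P. If G has a non-principal irreducible character χ of degree x with x² < p^n − 1, then either G has a proper normal subgroup containing P, or G has a normal subgroup of index p^n and x = 1. -/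
theorem result {G : Type*} [Group G] [Finite G] (p : ℕ) (hp : p.Prime) (hpG : p ∣ Nat.card G) (P : Sylow p G) (hstar : ∀ x ∈ (P : Subgroup G), x ≠ 1 → Subgroup.centralizer ({x} : Set G) = Subgroup.centralizer ((P : Subgroup G) : Set G)) (n : ℕ) (hn : Nat.card P = p ^ n) (χ : Cfsg.IrrCharacter G) (h1 : (χ : G → ℂ) ≠ fun _ => 1) (hdeg : Cfsg.charDegree (χ : G → ℂ) ^ 2 + 1 < p ^ n) : (∃ K : Subgroup G, K.Normal ∧ K ≠ ⊤ ∧ (P : Subgroup G) ≤ K) ∨ ((∃ N : Subgroup G, N.Normal ∧ N.index = p ^ n) ∧ Cfsg.charDegree (χ : G → ℂ) = 1) := by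
  classical
  haveI : Fact p.Prime := ⟨hp⟩
  letI := Fintype.ofFinite G
  letI := Fintype.ofFinite (Cfsg.IrrCharacter G)
  letI := Fintype.ofFinite (Cfsg.IrrCharacter (Lib.SmallDegreeTI.Setup.cen P))
  have hs : Lib.SmallDegreeTI.Setup.SameCen P := hstar
  set K := Subgroup.normalClosure ((P : Subgroup G) : Set G) with hKdef
  have hPK : (P : Subgroup G) ≤ K := Subgroup.subset_normalClosure
  by_cases hKT : K = ⊤
  swap
  · exact Or.inl ⟨K, Subgroup.normalClosure_normal, hKT, hPK⟩
  refine Or.inr ?_
  set x := Cfsg.charDegree (χ : G → ℂ)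
  have hx : (χ : G → ℂ) 1 = x := Lib.DegreeBounds.Basic.charDegree_irr χ
  obtain ⟨halt, hcom⟩ := Lib.SmallDegreeTI.Main.commutator_trivial hs χ hx
    (by rw [show Nat.card (P : Subgroup G) = p ^ n from hn]; exact hdeg) K hPK
    (fun N _ h => Subgroup.normalClosure_le_normal h)
  have hχ := Lib.Characters.Basic.isCharacter_irr χ
  haveI := Lib.Characters.Kernel.charKer_normal hχ
  have hker : commutator G ≤ Lib.Characters.Kernel.charKer hχ := by
    rw [commutator_def, Subgroup.commutator_le]
    intro a _ b _
    rw [Lib.Characters.Kernel.mem_charKer]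
    exact hcom a (hKT ▸ Subgroup.mem_top a) b (hKT ▸ Subgroup.mem_top b)
  have hx1 : x = 1 := by
    let φ := (Lib.Characters.Kernel.inflateEquiv (N := Lib.Characters.Kernel.charKer hχ)).symm
      ⟨χ, fun g hg => (Lib.Characters.Kernel.mem_charKer hχ g).mp hg⟩
    have hcomm : ∀ a b : G ⧸ Lib.Characters.Kernel.charKer hχ, a * b = b * a := by
      intro a b
      induction a using QuotientGroup.induction_on with
      | _ a =>
        induction b using QuotientGroup.induction_on with
        | _ b =>
          rw [← commutatorElement_eq_one_iff_mul_comm, ← QuotientGroup.mk'_apply,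
            ← QuotientGroup.mk'_apply, ← map_commutatorElement, QuotientGroup.mk'_apply,
            QuotientGroup.eq_one_iff]
          exact hker (Subgroup.commutator_mem_commutator (Subgroup.mem_top a) (Subgroup.mem_top b))
    have hφ := Lib.Characters.Linear.degree_eq_one_of_comm hcomm φ
    have h := Lib.Characters.Kernel.inflateEquiv_apply _ φ (1 : G)
    rw [Equiv.apply_symm_apply, QuotientGroup.mk_one, hφ, hx] at h
    exact_mod_cast h
  refine ⟨?_, hx1⟩
  have hNC : Lib.SmallDegreeTI.Setup.nor P ≤ Lib.SmallDegreeTI.Setup.cen P := by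
    rcases halt with h | h
    · exfalso
      apply h1
      funext g
      have := (Subgroup.normalClosure_le_normal h : K ≤ _) (hKT ▸ Subgroup.mem_top g)
      rw [(Lib.Characters.Kernel.mem_charKer hχ g).mp this, hx, hx1, Nat.cast_one]
    · rw [hx1, one_mul] at h
      exact (Subgroup.eq_of_le_of_card_ge Lib.SmallDegreeTI.Setup.cen_le_nor h).ge
  refine ⟨(MonoidHom.transferSylow P hNC).ker, inferInstance, ?_⟩
  rw [(MonoidHom.ker_transferSylow_isComplement' P hNC).symm.index_eq_card]
  exact hn

end Cfsg.Agent.S4486
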