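import Cfsg.Statements.S4487
import Cfsg.Agent.Lib.BrauerMap.PKernel
import Cfsg.Agent.Lib.BrauerMap.Nilpotent
import Cfsg.Agent.Lib.Cores.Basic
-- import your own Cfsg.Agent.* helpers here

set_option autoImplicit false
open Cfsg

namespace Cfsg.Agent.S4487

/-- Let G be a finite group and p a prime such that G has no non-trivial normal subgroup of order prime to p and C_G(O_p(G)) ≤ O_p(G). Then G has a single p-block: any two irreducible characters lie in the same block relative to every maximal ideal M of the algebraic integers containing p. -/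
theorem result {G : Type*} [Group G] [Finite G] (p : ℕ) [Fact p.Prime] (M : Ideal Cfsg.AlgInt) (hM : Cfsg.IsPModular p M) (hcore : Cfsg.pPrimeCore p G = ⊥) (hconstr : Subgroup.centralizer ((Cfsg.pCore p G) : Set G) ≤ Cfsg.pCore p G) (χ ψ : Cfsg.IrrCharacter G) : Cfsg.SameBlock M (χ : G → ℂ) (ψ : G → ℂ) := by
  classical
  haveI := hM.2.1
  letI := Ideal.Quotient.field M
  haveI := Lib.Blocks.charP_residue hM
  haveI := Fintype.ofFinite G
  have hP : IsPGroup p (Cfsg.pCore p G) := Lib.Cores.pCore_isPGroup p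
  haveI hPn : (Cfsg.pCore p G).Normal := inferInstance
  let f : G →* G ⧸ Cfsg.pCore p G := QuotientGroup.mk' _
  have hf : Function.Surjective f := QuotientGroup.mk'_surjective _
  have hker : IsPGroup p f.ker := by rw [QuotientGroup.ker_mk']; exact hP
  rw [Lib.Blocks.sameBlock_iff_omegaBar]
  refine Lib.BrauerMap.ClassSum.algHom_ext fun g => ?_
  by_cases hg : g ∈ Subgroup.centralizer ((Cfsg.pCore p G) : Set G)
  · have hsupp : ∀ a : G, IsConj g a → f a = 1 := fun a ha => by
      obtain ⟨c, rfl⟩ := isConj_iff.mp ha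
      exact (QuotientGroup.eq_one_iff _).mpr (hPn.conj_mem g (hconstr hg) c)
    have h : Lib.BrauerMap.Inflation.pushC (Cfsg.AlgInt ⧸ M) f hf
        (Lib.BrauerMap.ClassSum.classSumC (Cfsg.AlgInt ⧸ M) g) =
        Lib.BrauerMap.Inflation.pushC (Cfsg.AlgInt ⧸ M) f hf
          ((Nat.card {a : G // IsConj g a} : ℕ) : Subalgebra.center _ _) := by
      rw [map_natCast]
      refine Subtype.ext (MonoidAlgebra.ext (Finsupp.ext fun q => ?_))
      rw [Lib.BrauerMap.Inflation.coe_pushC, Lib.BrauerMap.Inflation.coeff_push]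
      simp only [Lib.BrauerMap.ClassSum.classSumC, Lib.BrauerMap.ClassSum.coeff_classSum]
      rw [show ((((Nat.card {a : G // IsConj g a} : ℕ)) : Subalgebra.center (Cfsg.AlgInt ⧸ M)
          (MonoidAlgebra (Cfsg.AlgInt ⧸ M) (G ⧸ Cfsg.pCore p G))) :
          MonoidAlgebra (Cfsg.AlgInt ⧸ M) (G ⧸ Cfsg.pCore p G)) =
          ((Nat.card {a : G // IsConj g a} : ℕ) : MonoidAlgebra (Cfsg.AlgInt ⧸ M) _) from
        map_natCast (Subalgebra.center (Cfsg.AlgInt ⧸ M) (MonoidAlgebra (Cfsg.AlgInt ⧸ M) (G ⧸ Cfsg.pCore p G))).val _, MonoidAlgebra.natCast_def, MonoidAlgebra.coeff_single,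
        Finsupp.single_apply, Nat.card_eq_fintype_card, Fintype.card_subtype, ← Finset.sum_boole]
      by_cases hq : 1 = q
      · subst hq
        rw [if_pos rfl]
        refine Finset.sum_congr rfl fun a _ => ?_
        by_cases ha : IsConj g a
        · rw [if_pos (hsupp a ha), if_pos ha, if_pos ha]
        · simp only [if_neg ha, ite_self]
      · rw [if_neg hq]
        refine Finset.sum_eq_zero fun a _ => ?_
        by_cases ha : IsConj g a
        · rw [if_neg (by rw [hsupp a ha]; exact hq)]
        · simp only [if_neg ha, ite_self]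
    rw [Lib.BrauerMap.PKernel.algHom_eq_of_pushC_eq f hf hker _ h,
      Lib.BrauerMap.PKernel.algHom_eq_of_pushC_eq f hf hker _ h, map_natCast, map_natCast]
  · rw [Lib.BrauerMap.Nilpotent.algHom_classSum_eq_zero hP hg,
      Lib.BrauerMap.Nilpotent.algHom_classSum_eq_zero hP hg]

end Cfsg.Agent.S4487
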