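import Cfsg.Statements.S4495
import Cfsg.Agent.Lib.SelfCentral

set_option autoImplicit false
open Cfsg

namespace Cfsg.Agent.S4495

/-- Let the finite group G contain an element x of prime order p with C_G(x) = ⟨x⟩, and let t be the number of conjugacy classes of elements of order p. If t ≠ p − 1 then the commutator subgroup has index at most (p − 1)/t; if t = p − 1 it has index exactly p. -/
theorem result {G : Type*} [Group G] [Finite G] (p : ℕ) (hp : p.Prime) (x : G) (hx : orderOf x = p) (hC : Subgroup.centralizer ({x} : Set G) = Subgroup.zpowers x) (t : ℕ) (ht : Nat.card {C : ConjClasses G // ∃ g ∈ C.carrier, orderOf g = p} = t) : (t ≠ p - 1 → (commutator G).index * t ≤ p - 1) ∧ (t = p - 1 → (commutator G).index = p) := by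
  have hmul := Lib.SelfCentral.classes_mul_relIndex hp hx hC
  rw [ht] at hmul
  set e := (Subgroup.zpowers x).relIndex (Subgroup.normalizer (Subgroup.zpowers x : Set G))
  have hp1 : 0 < p - 1 := by have := hp.two_le; omega
  refine ⟨fun h => ?_, fun h => ?_⟩
  · have he : e ≠ 1 := fun he => h (by rw [← hmul, he, mul_one])
    have hle := Nat.le_of_dvd (Nat.pos_of_ne_zero fun h0 => by rw [show e = 0 from h0, mul_zero] at hmul; omega)
      (Lib.SelfCentral.index_commutator_dvd hp hx hC he)
    calc (commutator G).index * t ≤ e * t := Nat.mul_le_mul_right t hle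
      _ = p - 1 := by rw [mul_comm]; exact hmul
  · have he : e = 1 := by
      rw [h] at hmul
      exact (Nat.mul_eq_left hp1.ne').mp hmul
    exact (Lib.SelfCentral.exists_complement hp hx hC he).2

end Cfsg.Agent.S4495
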