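import Cfsg.Statements.S4497
import Cfsg.Agent.Lib.SelfCentral
import Cfsg.Agent.Lib.Cores.Basic

set_option autoImplicit false
open Cfsg

namespace Cfsg.Agent.S4497

open Lib

theorem simple_aux {G : Type*} [Group G] [Finite G] {p : ℕ} {x : G} (hp : p.Prime) (hx : orderOf x = p)
    (hC : Subgroup.centralizer ({x} : Set G) = Subgroup.zpowers x)
    (he : (Subgroup.zpowers x).relIndex (Subgroup.normalizer (Subgroup.zpowers x : Set G)) ≠ 1)
    (hOG : Cfsg.pPrimeCore p G ≤ commutator G) (hO : ¬ p ∣ Nat.card (Cfsg.pPrimeCore p G))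
    (hOD : ((Cfsg.pPrimeCore p G).subgroupOf (commutator G)).Normal) :
    IsSimpleGroup (↥(commutator G) ⧸ (Cfsg.pPrimeCore p G).subgroupOf (commutator G)) := by
  have := Fact.mk hp
  have hxG : x ∈ commutator G :=
    SelfCentral.zpowers_le_commutator hp hx hC he (Subgroup.mem_zpowers x)
  set x' : commutator G := ⟨x, hxG⟩ with hx'def
  have hx' : orderOf x' = p := by rw [← Subgroup.orderOf_coe]; exact hx
  have hC' : Subgroup.centralizer ({x'} : Set (commutator G)) = Subgroup.zpowers x' := by
    refine le_antisymm (fun g hg => ?_) ?_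
    · rw [Subgroup.mem_centralizer_singleton_iff] at hg
      obtain ⟨k, hk⟩ := Subgroup.mem_zpowers_iff.mp
        (SelfCentral.mem_zpowers_of_commute hC (g := (g : G)) (congrArg Subtype.val hg))
      exact Subgroup.mem_zpowers_iff.mpr ⟨k, Subtype.ext (by rw [Subgroup.coe_zpow]; exact hk)⟩
    · rw [Subgroup.zpowers_le, Subgroup.mem_centralizer_singleton_iff]
  set O' := (Cfsg.pPrimeCore p G).subgroupOf (commutator G) with hO'
  have hcardO : Nat.card O' = Nat.card (Cfsg.pPrimeCore p G) :=
    Nat.card_congr (Subgroup.subgroupOfEquivOfLe hOG).toEquiv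
  have hxO : x' ∉ O' := fun h => by
    have h' : x = 1 := SelfCentral.eq_one_of_commute hp hx hC hO (show x ∈ _ from h) (Subgroup.mem_zpowers x)
    apply hp.ne_one
    rw [← hx, h', orderOf_one]
  have hnt : Nontrivial (↥(commutator G) ⧸ O') :=
    ⟨⟨(x' : ↥(commutator G) ⧸ O'), 1, fun h => hxO ((QuotientGroup.eq_one_iff x').mp h)⟩⟩
  refine { eq_bot_or_eq_top_of_normal := fun M hM => ?_ }
  set M' := M.comap (QuotientGroup.mk' O') with hM'
  have hM'n : M'.Normal := hM.comap _
  have hOM : O' ≤ M' := fun o ho => by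
    rw [hM', Subgroup.mem_comap, QuotientGroup.mk'_apply, (QuotientGroup.eq_one_iff o).mpr ho]
    exact M.one_mem
  have hback : M = M'.map (QuotientGroup.mk' O') :=
    (Subgroup.map_comap_eq_self_of_surjective (QuotientGroup.mk'_surjective O') M).symm
  by_cases hpM : p ∣ Nat.card M'
  · right
    have h1 : commutator (commutator G) ≤ M' := SelfCentral.commutator_le_of_dvd hp hx' hC' M' hpM
    have h2 : Subgroup.zpowers x' ≤ M' := SelfCentral.zpowers_le_of_dvd hp hx' hC' M' hpM
    suffices h : M' = ⊤ by
      rw [hback, h, Subgroup.map_top_of_surjective _ (QuotientGroup.mk'_surjective O')]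
    set D : Subgroup G := (commutator (commutator G)).map (commutator G).subtype with hD
    have hDn : D.Normal := Cores.normal_map_subtype _ _
    by_cases hpD : p ∣ Nat.card D
    · have h3 := SelfCentral.commutator_le_of_dvd hp hx hC D hpD
      rw [eq_top_iff]
      intro g _
      obtain ⟨g', hg', e⟩ := Subgroup.mem_map.mp (h3 g.2)
      exact h1 (Subtype.ext e ▸ hg')
    · have h3 : D ≤ Cfsg.pPrimeCore p G := Cores.le_pPrimeCore_of_not_dvd hpD
      rw [eq_top_iff]
      intro g _
      have hpO : ¬ p ∣ Nat.card O' := hcardO ▸ hO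
      have hcomm : (g : ↥(commutator G) ⧸ O') ∈
          Subgroup.centralizer ({(x' : ↥(commutator G) ⧸ O')} : Set (↥(commutator G) ⧸ O')) := by
        rw [Subgroup.mem_centralizer_singleton_iff, ← commutatorElement_eq_one_iff_mul_comm,
          commutatorElement_def, ← QuotientGroup.mk_inv, ← QuotientGroup.mk_inv,
          ← QuotientGroup.mk_mul, ← QuotientGroup.mk_mul, ← QuotientGroup.mk_mul,
          QuotientGroup.eq_one_iff, hO', Subgroup.mem_subgroupOf]
        refine h3 (Subgroup.mem_map.mpr ⟨g * x' * g⁻¹ * x'⁻¹, ?_, rfl⟩)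
        exact Subgroup.commutator_mem_commutator (Subgroup.mem_top g) (Subgroup.mem_top x')
      rw [SelfCentral.centralizer_mk hp hx' hC' O' hpO] at hcomm
      obtain ⟨k, hk⟩ := Subgroup.mem_zpowers_iff.mp hcomm
      rw [← QuotientGroup.mk_zpow, QuotientGroup.eq] at hk
      have := mul_mem (h2 (Subgroup.zpow_mem _ (Subgroup.mem_zpowers x') k)) (hOM hk)
      rwa [mul_inv_cancel_left] at this
  · left
    have h1 : (Cfsg.pPrimeCore p (commutator G)).map (commutator G).subtype ≤ Cfsg.pPrimeCore p G := by
      have : (Cfsg.pPrimeCore p (commutator G)).Characteristic := by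
        rw [Subgroup.characteristic_iff_map_eq]
        exact fun φ => Cores.map_pPrimeCore_equiv φ
      have := Cores.normal_map_subtype (commutator G) (Cfsg.pPrimeCore p (commutator G))
      refine Cores.le_pPrimeCore_of_not_dvd ?_
      rw [Subgroup.card_map_of_injective (Subgroup.subtype_injective _)]
      exact Cores.not_dvd_card_pPrimeCore p
    have h2 : M' ≤ O' := fun m hm =>
      h1 (Subgroup.mem_map_of_mem (commutator G).subtype (Cores.le_pPrimeCore_of_not_dvd hpM hm))
    rw [hback, Subgroup.map_eq_bot_iff, QuotientGroup.ker_mk']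
    exact h2


/-- Let the finite group G contain an element x of prime order p with C_G(x) = ⟨x⟩, let t be the number of conjugacy classes of elements of order p, and let S* = O_{p′}(G) be the largest normal subgroup of order prime to p. Then S* ≤ G′; if t ≠ p − 1 the quotient G′/S* is simple (in particular non-trivial); if t = p − 1 then G′ = S*. -/
theorem result {G : Type*} [Group G] [Finite G] (p : ℕ) (hp : p.Prime) (x : G) (hx : orderOf x = p) (hC : Subgroup.centralizer ({x} : Set G) = Subgroup.zpowers x) (t : ℕ) (ht : Nat.card {C : ConjClasses G // ∃ g ∈ C.carrier, orderOf g = p} = t) : Cfsg.pPrimeCore p G ≤ commutator G ∧ (t ≠ p - 1 → ∀ h : ((Cfsg.pPrimeCore p G).subgroupOf (commutator G)).Normal, IsSimpleGroup (↥(commutator G) ⧸ (Cfsg.pPrimeCore p G).subgroupOf (commutator G))) ∧ (t = p - 1 → commutator G = Cfsg.pPrimeCore p G) := by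
  have := Fact.mk hp
  have hO : ¬ p ∣ Nat.card (Cfsg.pPrimeCore p G) := Lib.Cores.not_dvd_card_pPrimeCore p
  have hOn : (Cfsg.pPrimeCore p G).Normal := inferInstance
  have hOG : Cfsg.pPrimeCore p G ≤ commutator G :=
    Lib.SelfCentral.le_commutator hp hx hC _ hO
  have hmul := Lib.SelfCentral.classes_mul_relIndex hp hx hC
  rw [ht] at hmul
  refine ⟨hOG, fun h hOD => ?_, fun h => ?_⟩
  · refine simple_aux hp hx hC ?_ hOG hO hOD
    intro he
    rw [he, mul_one] at hmul
    exact h hmul
  · have hp1 : 0 < p - 1 := by have := hp.two_le; omega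
    rw [h] at hmul
    obtain ⟨h1, -⟩ := Lib.SelfCentral.exists_complement hp hx hC ((Nat.mul_eq_left hp1.ne').mp hmul)
    exact le_antisymm (Lib.Cores.le_pPrimeCore_of_not_dvd h1) hOG

end Cfsg.Agent.S4497
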