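import Cfsg.Statements.S4498
import Cfsg.Agent.Lib.BC77.Reg

set_option autoImplicit false
open Cfsg
open scoped ComplexConjugate

namespace Cfsg.Agent.S4498

/-- Let p and q be distinct primes dividing the order of the finite group G, and suppose G has no element of order p·q. Fix maximal ideals M_p over p and M_q over q of the algebraic integers. Then the principal p-block and the principal q-block of G have a non-principal irreducible character in common. -/
theorem result {G : Type*} [Group G] [Finite G] (p q : ℕ) [Fact p.Prime] [Fact q.Prime] (hpq : p ≠ q) (hp : p ∣ Nat.card G) (hq : q ∣ Nat.card G) (hno : ∀ g : G, orderOf g ≠ p * q) (Mp Mq : Ideal Cfsg.AlgInt) (hMp : Cfsg.IsPModular p Mp) (hMq : Cfsg.IsPModular q Mq) : ∃ χ : Cfsg.IrrCharacter G, (χ : G → ℂ) ≠ (fun _ => 1) ∧ χ ∈ Cfsg.principalBlock Mp G ∧ χ ∈ Cfsg.principalBlock Mq G := by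
  classical
  haveI := hMp.2.1
  haveI := hMq.2.1
  letI := Fintype.ofFinite G
  have hBp : Cfsg.IsPBlock Mp (Cfsg.principalBlock Mp G) := Lib.Blocks.isPBlock_principalBlock
  have hBq : Cfsg.IsPBlock Mq (Cfsg.principalBlock Mq G) := Lib.Blocks.isPBlock_principalBlock
  set A := Lib.Blocks.Contrib.bset (Cfsg.principalBlock Mp G) with hA
  set C := Lib.Blocks.Contrib.bset (Cfsg.principalBlock Mq G) with hC
  obtain ⟨x, hx⟩ := exists_prime_orderOf_dvd_card' p hp
  obtain ⟨y, hy⟩ := exists_prime_orderOf_dvd_card' q hq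
  have hxq : ¬ q ∣ orderOf x := by
    rw [hx]; exact fun h => hpq ((Nat.prime_dvd_prime_iff_eq Fact.out Fact.out).mp h).symm
  let f : G → ℂ := fun h => ∑ χ ∈ A, (χ : G → ℂ) h * conj ((χ : G → ℂ) x)
  have hf : ∀ h : G, ¬ p ∣ orderOf h → f h = 0 := fun h hh =>
    (Lib.Blocks.Contrib.finsum_mem_bset _ _).symm.trans
      (Lib.Blocks.weak_orthogonality hMp hBp hh (by rw [hx]))
  have hK : ∀ h : G, ¬ q ∣ orderOf h → ∑ φ ∈ C, (φ : G → ℂ) h * conj ((φ : G → ℂ) y) = 0 :=
    fun h hh => (Lib.Blocks.Contrib.finsum_mem_bset _ _).symm.trans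
      (Lib.Blocks.weak_orthogonality hMq hBq hh (by rw [hy]))
  have hzero : ∑ h : G, f h * conj (∑ φ ∈ C, (φ : G → ℂ) h * conj ((φ : G → ℂ) y)) = 0 := by
    refine Finset.sum_eq_zero fun h _ => ?_
    by_cases h1 : p ∣ orderOf h
    · by_cases h2 : q ∣ orderOf h
      · exfalso
        have hd := Nat.Coprime.mul_dvd_of_dvd_of_dvd
          ((Nat.coprime_primes Fact.out Fact.out).mpr hpq) h1 h2
        exact hno (h ^ (orderOf h / (p * q)))
          (orderOf_pow_orderOf_div (orderOf_pos h).ne' hd)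
      · rw [hK h h2, map_zero, mul_zero]
    · rw [hf h h1, zero_mul]
  have hexp : ∑ h : G, f h * conj (∑ φ ∈ C, (φ : G → ℂ) h * conj ((φ : G → ℂ) y)) =
      (Nat.card G : ℂ) * ∑ χ ∈ A ∩ C, conj ((χ : G → ℂ) x) * (χ : G → ℂ) y := by
    simp only [f, map_sum, map_mul, Complex.conj_conj, Finset.sum_mul, Finset.mul_sum]
    rw [Finset.sum_comm, Finset.sum_congr rfl (fun _ _ => Finset.sum_comm), Finset.sum_comm]
    rw [← Finset.filter_mem_eq_inter, Finset.sum_filter]
    refine Finset.sum_congr rfl fun χ _ => ?_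
    have e : ∀ φ : Cfsg.IrrCharacter G, ∑ h : G, (χ : G → ℂ) h * conj ((χ : G → ℂ) x) *
        (conj ((φ : G → ℂ) h) * (φ : G → ℂ) y) =
        conj ((χ : G → ℂ) x) * (φ : G → ℂ) y * ((Nat.card G : ℂ) * if χ = φ then 1 else 0) := by
      intro φ
      rw [← Lib.Characters.Basic.classInner_irr, Cfsg.classInner, ← mul_assoc (Nat.card G : ℂ),
        mul_inv_cancel₀ (Nat.cast_ne_zero.mpr Nat.card_pos.ne'), one_mul, Finset.mul_sum]
      exact Finset.sum_congr rfl fun h _ => by ring
    simp only [e, mul_ite, mul_one, mul_zero, Finset.sum_ite_eq]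
    split_ifs <;> ring
  by_contra hall
  push Not at hall
  have hone : A ∩ C = {Lib.Characters.Basic.oneChar G} := by
    ext χ
    simp only [hA, hC, Finset.mem_inter, Lib.Blocks.Contrib.mem_bset, Finset.mem_singleton]
    constructor
    · rintro ⟨h1, h2⟩
      by_contra hne
      exact hall χ (fun e => hne (Subtype.ext e)) h1 h2
    · rintro rfl
      exact ⟨Lib.Blocks.oneChar_mem_principalBlock, Lib.Blocks.oneChar_mem_principalBlock⟩
  rw [hexp, hone, Finset.sum_singleton] at hzero
  simp [Lib.Characters.Basic.oneChar_apply, Nat.card_pos.ne'] at hzero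

end Cfsg.Agent.S4498
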