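import Cfsg.Statements.S4499
import Cfsg.Agent.Lib.BC77.Reg

set_option autoImplicit false
open Cfsg

namespace Cfsg.Agent.S4499

/-- Let G be a finite group whose order has p-part p^a (a ≥ 1), and fix a maximal ideal M of the algebraic integers containing p. If the degree of one irreducible character of a p-block B is divisible by p^(a−1), then the degree of every irreducible character in B is divisible by p^(a−1) (so B has defect at most 1). -/
theorem result {G : Type*} [Group G] [Finite G] (p : ℕ) [Fact p.Prime] (M : Ideal Cfsg.AlgInt) (hM : Cfsg.IsPModular p M) (hpa : p ∣ Nat.card G) (B : Set (Cfsg.IrrCharacter G)) (hB : Cfsg.IsPBlock M B) (χ : Cfsg.IrrCharacter G) (hχ : χ ∈ B) (hdiv : p ^ ((Nat.card G).factorization p - 1) ∣ Cfsg.charDegree (χ : G → ℂ)) (ψ : Cfsg.IrrCharacter G) (hψ : ψ ∈ B) : p ^ ((Nat.card G).factorization p - 1) ∣ Cfsg.charDegree (ψ : G → ℂ) := by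
  haveI := hM.2.1
  have hp : p.Prime := Fact.out
  have h0 : ∀ φ : Cfsg.IrrCharacter G, p ^ ((Nat.card G).factorization p - 1) ∣ Cfsg.charDegree (φ : G → ℂ) ↔
      (Nat.card G).factorization p - 1 ≤ Lib.Blocks.Contrib.vdeg p φ := fun φ =>
    hp.pow_dvd_iff_le_factorization (Lib.H80.ClassMult.deg_spec φ).1.ne'
  rw [h0] at hdiv ⊢
  have h1 := Lib.Blocks.Contrib.minVdeg_le (p := p) hψ
  have h2 := Lib.Blocks.Contrib.minVdeg_add_blockDefect (p := p) hB
  rcases Nat.eq_zero_or_pos (Cfsg.blockHeight p B (χ : G → ℂ)) with h | h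
  · rw [Lib.Blocks.Contrib.blockHeight_eq] at h
    have := Lib.Blocks.Contrib.minVdeg_le (p := p) hχ
    omega
  · have h3 := Lib.Blocks.Contrib.height_add_two_le hM hB hχ h
    rw [Lib.Blocks.Contrib.blockHeight_eq] at h h3
    omega

end Cfsg.Agent.S4499
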