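import Cfsg.Statements.S4502
import Cfsg.Agent.Lib.BlockSize.Lower
import Cfsg.Agent.Lib.BlockSize.CountOne

set_option autoImplicit false
open Cfsg

namespace Cfsg.Agent.S4502

/-- Let G be a finite group whose order is divisible by the prime p exactly once, and let P be a Sylow p-subgroup. Then the number of irreducible characters of G of degree not divisible by p equals the number of conjugacy classes of the normalizer of P. -/
theorem result {G : Type*} [Group G] [Finite G] (p : ℕ) [Fact p.Prime] (hdiv : p ∣ Nat.card G) (hsq : ¬ p ^ 2 ∣ Nat.card G) (P : Sylow p G) : Nat.card {χ : Cfsg.IrrCharacter G // ¬ p ∣ Cfsg.charDegree (χ : G → ℂ)} = Nat.card (ConjClasses (Subgroup.normalizer ((P : Subgroup G) : Set G))) := by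
  have hp : p.Prime := Fact.out
  obtain ⟨M, hM⟩ := Cfsg.Agent.Lib.Blocks.exists_isPModular p hp
  haveI := hM.2.1
  haveI := Cfsg.Agent.Lib.BrauerPairs.Bridge.charP_res hM
  have h1 := (hp.pow_dvd_iff_le_factorization (n := Nat.card G) (k := 1) Nat.card_pos.ne').mp
    (by rwa [pow_one])
  have h2 : ¬ 2 ≤ (Nat.card G).factorization p := fun h => hsq ((hp.pow_dvd_iff_le_factorization (n := Nat.card G) (k := 2)
    Nat.card_pos.ne').mpr h)
  exact Cfsg.Agent.Lib.BlockSize.CountOne.card_pPrime_degree hM
    (Cfsg.Agent.Lib.BlockSize.Lower.rankLower hM) (by omega) P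

end Cfsg.Agent.S4502
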