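import Cfsg.Statements.S4505
import Cfsg.Agent.Lib.Blocks.DefectGroup
import Mathlib.LinearAlgebra.Dimension.Constructions
-- import your own Cfsg.Agent.* helpers here

set_option autoImplicit false
open Cfsg

namespace Cfsg.Agent.S4505

open Lib.Blocks

/-- A class carrying both a block idempotent and a central character of defect `σ`. -/
theorem exact_defect {G : Type*} [Group G] [Finite G] {p : ℕ} [Fact p.Prime]
    {M : Ideal Cfsg.AlgInt} [M.IsMaximal] (hM : Cfsg.IsPModular p M) {σ : ℕ}
    {B B' : Set (Cfsg.IrrCharacter G)} (hB : Cfsg.IsPBlock M B) (hB' : Cfsg.IsPBlock M B')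
    (hd : Cfsg.blockDefect p B = σ) (hd' : Cfsg.blockDefect p B' = σ)
    {χ : Cfsg.IrrCharacter G} (hχ : χ ∈ B') {g : G}
    (hc : ¬ Cfsg.MemLocalIdeal M (Cfsg.blockCoeff B g))
    (hw : ¬ Cfsg.MemLocalIdeal M (Cfsg.centralChar (χ : G → ℂ) g)) :
    ¬ p ∣ orderOf g ∧
      (Nat.card (Subgroup.centralizer ({g} : Set G))).factorization p = σ := by
  refine ⟨fun h => hc (blockCoeff_eq_zero_of_dvd hM hB h ▸ memLocalIdeal_zero), ?_⟩
  obtain ⟨P⟩ : Nonempty (Sylow p (Subgroup.centralizer ({g} : Set G))) := inferInstance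
  set Q := (P : Subgroup (Subgroup.centralizer ({g} : Set G))).map
    (Subgroup.centralizer ({g} : Set G)).subtype with hQ
  have hQcard : Nat.card Q = p ^ (Nat.card (Subgroup.centralizer ({g} : Set G))).factorization p := by
    rw [hQ, Subgroup.card_subtype, P.card_eq_multiplicity]
  have hp1 : 1 < p := (Fact.out : p.Prime).one_lt
  obtain ⟨D, hD⟩ := exists_isDefectGroup (p := p) hB
  obtain ⟨x, hx⟩ := exists_conj_le_isDefectGroup hM hB hD hc (P.2.map _ : IsPGroup p Q)
    (Subgroup.map_subtype_le _)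
  have h1 := Subgroup.card_le_of_le hx
  rw [card_map_conj, hQcard, card_isDefectGroup hM hB hD, hd] at h1
  obtain ⟨D', hD'⟩ := exists_isDefectGroup (p := p) hB'
  have hD'' := hD'
  obtain ⟨h, hh, P', rfl⟩ := hD'
  obtain ⟨y, hy⟩ := exists_conj_le_of_blockCoeff hM hB' ⟨χ, hχ, hw⟩ P hh.2.1 (P'.2.map _)
    (Subgroup.map_subtype_le _)
  have h2 := Subgroup.card_le_of_le hy
  rw [card_map_conj, card_isDefectGroup hM hB' hD'', hd', ← hQ, hQcard] at h2
  exact le_antisymm ((Nat.pow_le_pow_iff_right hp1).mp h1) ((Nat.pow_le_pow_iff_right hp1).mp h2)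

/-- Let G be a finite group, p a prime and M a maximal ideal of the algebraic integers containing p. For every σ, the number of p-blocks of defect exactly σ is at most the number of conjugacy classes of p-regular elements whose centralizer has order divisible by p^σ but not by p^(σ+1). -/
theorem result {G : Type*} [Group G] [Finite G] (p : ℕ) [Fact p.Prime] (M : Ideal Cfsg.AlgInt) (hM : Cfsg.IsPModular p M) (σ : ℕ) : Nat.card {B : Set (Cfsg.IrrCharacter G) // Cfsg.IsPBlock M B ∧ Cfsg.blockDefect p B = σ} ≤ Nat.card {C : ConjClasses G // ∃ g : G, ConjClasses.mk g = C ∧ ¬ p ∣ orderOf g ∧ (Nat.card (Subgroup.centralizer ({g} : Set G))).factorization p = σ} := by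
  classical
  haveI := hM.2.1
  letI := Ideal.Quotient.field M
  haveI : Finite (ConjClasses G) := Quotient.finite _
  haveI := Fintype.ofFinite (ConjClasses G)
  let ι := {B : Set (Cfsg.IrrCharacter G) // Cfsg.IsPBlock M B ∧ Cfsg.blockDefect p B = σ}
  let κ := {C : ConjClasses G // ∃ g : G, ConjClasses.mk g = C ∧ ¬ p ∣ orderOf g ∧
    (Nat.card (Subgroup.centralizer ({g} : Set G))).factorization p = σ}
  haveI := Fintype.ofFinite ι
  haveI := Fintype.ofFinite κ
  let f : ι → κ → Cfsg.AlgInt ⧸ M := fun B C =>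
    (blockIdemBar B.2.1).1.coeff C.1.out
  have hli : LinearIndependent (Cfsg.AlgInt ⧸ M) f := by
    rw [Fintype.linearIndependent_iff]
    intro a ha B'
    obtain ⟨χ, hχ⟩ := isPBlock_nonempty B'.2.1
    have key : ∀ B : ι, ∑ C : κ, f B C * residue M (ccR M χ C.1.out) =
        if B = B' then 1 else 0 := by
      intro B
      have e : ∑ C : κ, f B C * residue M (ccR M χ C.1.out) =
          omegaBar M χ (blockIdemBar B.2.1) := by
        rw [omegaBar_eq_sum]
        refine Finset.sum_of_injOn (fun C : κ => C.1) Subtype.val_injective.injOn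
          (fun _ _ => Finset.mem_univ _) (fun c _ hc => ?_) (fun C _ => rfl)
        by_contra hne
        rw [mul_eq_zero, not_or] at hne
        obtain ⟨h1, h2⟩ := hne
        refine hc ⟨⟨c, c.out, ?_, exact_defect hM B.2.1 B'.2.1 B.2.2 B'.2.2 hχ
          (fun e => h1 ?_) (fun e => h2 ((memLocalIdeal_centralChar_iff _ _).mp e))⟩,
          Finset.mem_univ _, rfl⟩
        · exact Quotient.out_eq c
        · rw [blockIdemBar, coeff_mapCenter]
          exact residue_eq_zero_iff.mpr (by rwa [coe_coeff_blockIdemR])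
      rw [e, omegaBar_blockIdemBar]
      refine if_congr ⟨fun h => Subtype.ext ?_, fun h => h ▸ hχ⟩ rfl rfl
      exact (isPBlock_eq_blockOf B.2.1 h).trans (isPBlock_eq_blockOf B'.2.1 hχ).symm
    have h0 : ∑ C : κ, (∑ B : ι, a B • f B) C * residue M (ccR M χ C.1.out) = 0 := by
      refine Finset.sum_eq_zero fun C _ => ?_
      rw [show (∑ B : ι, a B • f B) = 0 from ha, Pi.zero_apply, zero_mul]
    simp only [Finset.sum_apply, Pi.smul_apply, smul_eq_mul, Finset.sum_mul, mul_assoc] at h0
    rw [Finset.sum_comm] at h0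
    simp only [← Finset.mul_sum, key, mul_ite, mul_one, mul_zero] at h0
    rwa [Finset.sum_eq_single B' (fun B _ hne => if_neg hne) (fun h => absurd (Finset.mem_univ _) h),
      if_pos rfl] at h0
  have h := hli.fintype_card_le_finrank
  rw [Module.finrank_fintype_fun_eq_card] at h
  rwa [← Nat.card_eq_fintype_card, ← Nat.card_eq_fintype_card] at h

end Cfsg.Agent.S4505
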