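import Cfsg.Statements.S4506
import Cfsg.Agent.Lib.BC77.PConj

set_option autoImplicit false
open Cfsg

namespace Cfsg.Agent.S4506

open Lib.BC77.PConj Lib.Blocks

theorem exists_nat_of_isIntegral {A B : ℕ} (hB : B ≠ 0) (h : IsIntegral ℤ ((A : ℂ) / (B : ℂ))) :
    ∃ t : ℕ, (A : ℂ) / (B : ℂ) = (t : ℂ) ∧ A = t * B := by
  have e : (algebraMap ℚ ℂ) ((A : ℚ) / (B : ℚ)) = (A : ℂ) / (B : ℂ) := by simp
  rw [← e, isIntegral_algebraMap_iff (algebraMap ℚ ℂ).injective] at h
  obtain ⟨z, hz⟩ := IsIntegrallyClosed.isIntegral_iff.1 h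
  have hB' : (B : ℚ) ≠ 0 := Nat.cast_ne_zero.2 hB
  rw [eq_intCast, eq_div_iff hB'] at hz
  have hz' : z * (B : ℤ) = (A : ℤ) := by exact_mod_cast hz
  have hz0 : 0 ≤ z := by
    by_contra hneg
    push Not at hneg
    have := mul_neg_of_neg_of_pos hneg (show (0 : ℤ) < B by omega)
    omega
  obtain ⟨t, rfl⟩ := Int.eq_ofNat_of_zero_le hz0
  have hA : A = t * B := by exact_mod_cast hz'.symm
  refine ⟨t, ?_, hA⟩
  rw [hA, Nat.cast_mul, mul_div_cancel_right₀ _ (Nat.cast_ne_zero.2 hB)]

theorem core {G : Type*} [Group G] [Finite G] (p : ℕ) [hp : Fact p.Prime]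
    (χ : Cfsg.IrrCharacter G) :
    let r := Nat.card (MulAction.orbit (gal (G := G) p) χ)
    let d := Cfsg.charDegree (χ : G → ℂ)
    r.factorization p + d.factorization p ≤ (Nat.card G).factorization p ∧
      ((Nat.card G).factorization p ≤ r.factorization p + d.factorization p →
        r.factorization p = 0) := by
  classical
  intro r d
  haveI := Fintype.ofFinite G
  set a := (Nat.card G).factorization p
  have hG0 : Nat.card G ≠ 0 := Nat.card_pos.ne'
  obtain ⟨d', hd0, hdN, hd⟩ := Lib.Characters.Degree.exists_degree_dvd χ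
  have hdd : d = d' := by
    show Cfsg.charDegree (χ : G → ℂ) = d'
    rw [Cfsg.charDegree, hd, Complex.natCast_re, Nat.floor_natCast]
  subst hdd
  have hda : d.factorization p ≤ a :=
    (Nat.factorization_le_iff_dvd hd0.ne' hG0).2 hdN p
  have horb : Nat.card (gal (G := G) p) =
      r * Nat.card (MulAction.stabilizer (gal (G := G) p) χ) := by
    rw [← Nat.card_prod]
    exact (Nat.card_congr (MulAction.orbitProdStabilizerEquivGroup _ χ)).symm
  have hr0 : r ≠ 0 := fun h => Nat.card_pos.ne' (horb.trans (by rw [h, zero_mul]))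
  have hle := card_gal_factorization (G := G) p
  rw [horb, Nat.factorization_mul hr0 Nat.card_pos.ne', Finsupp.add_apply] at hle
  rcases Nat.eq_zero_or_pos a with ha0 | ha
  · have : (Nat.card G).factorization p = 0 := ha0
    constructor <;> intros <;> omega
  set c := Nat.card (MulAction.stabilizer (galP p ha) χ) with hc
  have hcdvd : c ∣ Nat.card (MulAction.stabilizer (gal (G := G) p) χ) := by
    let f : MulAction.stabilizer (galP p ha) χ →* MulAction.stabilizer (gal (G := G) p) χ :=
      { toFun := fun u => ⟨⟨(u.1 : (ZMod (Nat.card G))ˣ), galP_le p ha u.1.2⟩, u.2⟩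
        map_one' := rfl
        map_mul' := fun _ _ => rfl }
    refine Subgroup.card_dvd_of_injective f fun u v h => ?_
    apply Subtype.ext
    apply Subtype.ext
    exact congrArg (fun w => ((w.1 : gal (G := G) p) : (ZMod (Nat.card G))ˣ)) h
  have hc0 : c ≠ 0 := Nat.card_pos.ne'
  have hcv : c.factorization p ≤
      (Nat.card (MulAction.stabilizer (gal (G := G) p) χ)).factorization p :=
    (Nat.factorization_le_iff_dvd hc0 Nat.card_pos.ne').2 hcdvd p
  obtain ⟨M, hM⟩ := exists_isPModular p hp.out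
  haveI := hM.2.1
  obtain ⟨-, hint, hcong⟩ := main_congr p hM ha χ
  rw [sum_avg_mul_conj, hd, div_div, ← Nat.cast_mul, ← Nat.cast_mul, ← hc] at hint hcong
  have hl0 : len p G ≠ 0 := (pow_pos hp.out.pos _).ne'
  obtain ⟨t, ht, htA⟩ := exists_nat_of_isIntegral (Nat.mul_ne_zero hl0 hd0.ne') hint
  rw [ht] at hcong
  have hlen : (len p G).factorization p = a - 1 := by
    rw [len, Nat.Prime.factorization_pow hp.out, Finsupp.single_eq_same]
  have ht0 : t ≠ 0 := fun h => by
    rw [h, zero_mul] at htA
    exact Nat.mul_ne_zero hc0 hG0 htA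
  have hv : c.factorization p + a = t.factorization p + (a - 1 + d.factorization p) := by
    have h := congrArg (fun n : ℕ => n.factorization p) htA
    simpa [Nat.factorization_mul, hc0, hG0, ht0, hl0, hd0.ne', hlen, -Nat.card_eq_fintype_card] using h
  refine ⟨by omega, fun hge => ?_⟩
  by_contra hr
  obtain ⟨n, hn⟩ := hdN
  have hn0 : n ≠ 0 := fun h => hG0 (by rw [hn, h, mul_zero])
  have hpn : p ∣ n := by
    rw [hp.out.dvd_iff_one_le_factorization hn0]
    have h := congrArg (fun m : ℕ => m.factorization p) hn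
    simp only [Nat.factorization_mul hd0.ne' hn0, Finsupp.add_apply] at h
    omega
  rw [show (Nat.card G : ℂ) / (d : ℂ) = (n : ℂ) by
    rw [hn, Nat.cast_mul, mul_div_cancel_left₀ _ (Nat.cast_ne_zero.2 hd0.ne')]] at hcong
  have hpt : p ∣ t := by
    rw [← memLocalIdeal_natCast_iff hM]
    have := memLocalIdeal_add hcong ((memLocalIdeal_natCast_iff hM n).2 hpn)
    rwa [sub_add_cancel] at this
  have := (hp.out.dvd_iff_one_le_factorization ht0).1 hpt
  omega

/-- Let G be a finite group, p a prime, p^a the p-part of the order of G and g′ its p′-part. Call two irreducible characters p-conjugate when one is obtained from the other by applying a field automorphism of ℂ that fixes the g′-th roots of unity, and let r be the number of characters p-conjugate to the irreducible character χ (χ included). Then the exponent of p in r·χ(1) is at most a; and if p^a divides r·χ(1) then p^a already divides χ(1). -/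
theorem result {G : Type*} [Group G] [Finite G] (p : ℕ) (hp : p.Prime) (χ : Cfsg.IrrCharacter G) (r : ℕ) (hr : Nat.card {ψ : Cfsg.IrrCharacter G // ∃ σ : ℂ ≃+* ℂ, σ (Complex.exp (2 * Real.pi * Complex.I / ((Nat.card G / p ^ (Nat.card G).factorization p) : ℕ))) = Complex.exp (2 * Real.pi * Complex.I / ((Nat.card G / p ^ (Nat.card G).factorization p) : ℕ)) ∧ (ψ : G → ℂ) = fun g => σ ((χ : G → ℂ) g)} = r) : (r * Cfsg.charDegree (χ : G → ℂ)).factorization p ≤ (Nat.card G).factorization p ∧ (p ^ (Nat.card G).factorization p ∣ r * Cfsg.charDegree (χ : G → ℂ) → p ^ (Nat.card G).factorization p ∣ Cfsg.charDegree (χ : G → ℂ)) := by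
  haveI := Fact.mk hp
  have hcard : r = Nat.card (MulAction.orbit (gal (G := G) p) χ) :=
    hr.symm.trans (Nat.card_congr (Equiv.subtypeEquivRight fun ψ => mem_orbit_iff p χ ψ))
  obtain ⟨h1, h2⟩ := core p χ
  simp only [← hcard] at h1 h2
  have hd0 : Cfsg.charDegree (χ : G → ℂ) ≠ 0 := (charDegree_pos χ).ne'
  have hr0 : r ≠ 0 := by
    rw [hcard]
    haveI : Nonempty (MulAction.orbit (gal (G := G) p) χ) := ⟨⟨χ, MulAction.mem_orbit_self χ⟩⟩
    exact Nat.card_pos.ne'
  refine ⟨by rw [Nat.factorization_mul hr0 hd0, Finsupp.add_apply]; exact h1, fun h => ?_⟩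
  rw [hp.pow_dvd_iff_le_factorization (Nat.mul_ne_zero hr0 hd0), Nat.factorization_mul hr0 hd0,
    Finsupp.add_apply] at h
  rw [hp.pow_dvd_iff_le_factorization hd0]
  have := h2 h
  omega

end Cfsg.Agent.S4506
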