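import Cfsg.Statements.S4507
import Cfsg.Agent.Lib.CyclicBlocks.Galois

set_option autoImplicit false
open Cfsg

namespace Cfsg.Agent.S4507

open Cfsg.Agent.Lib.BrauerPairs Cfsg.Agent.Lib.BrauerPairs.Center Cfsg.Agent.Lib.BrauerPairs.Bridge
open Cfsg.Agent.Lib.BrauerPairs.Pairs Cfsg.Agent.Lib.BrauerPairs.Maximal
open Cfsg.Agent.Lib.BrauerPairs.Local
open Cfsg.Agent.Lib.CyclicBlocks Cfsg.Agent.Lib.CyclicBlocks.Local

attribute [local instance] Ideal.Quotient.field

/-- Let G be a finite group whose order g is divisible by the prime p exactly once, g′ = g/p, and fix a maximal ideal M of the algebraic integers containing p. Call two irreducible characters p-conjugate when a field automorphism of ℂ fixing the g′-th roots of unity carries one to the other. Let B be a p-block of positive defect (its defect group is a Sylow p-subgroup). Then B contains a subset Y (the exceptional family) such that: Y is a full p-conjugacy class (its members are pairwise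 p-conjugate and every p-conjugate of a member of Y lies in Y); every member of B outside Y is p-conjugate only to itself; the size t of Y divides p − 1 and B has exactly t + (p − 1)/t members; and there are signs δ_χ = ±1 (χ ∈ B) such that for every p-regular element x and every θ ∈ Y, Σ_{χ ∈ B ∖ Y} δ_χ χ(x) + δ_θ θ(x) = 0. -/
theorem result {G : Type*} [Group G] [Finite G] (p : ℕ) [Fact p.Prime] (M : Ideal Cfsg.AlgInt) (hM : Cfsg.IsPModular p M) (hdiv : p ∣ Nat.card G) (hsq : ¬ p ^ 2 ∣ Nat.card G) (B : Set (Cfsg.IrrCharacter G)) (hB : Cfsg.IsPBlock M B) (hd : 0 < Cfsg.blockDefect p B) : ∃ Y : Set (Cfsg.IrrCharacter G), Y ⊆ B ∧ Y.Nonempty ∧ (∀ θ ∈ Y, ∀ ψ : Cfsg.IrrCharacter G, (∃ σ : ℂ ≃+* ℂ, σ (Complex.exp (2 * Real.pi * Complex.I / ((Nat.card G / p ^ (Nat.card G).factorization p) : ℕ))) = Complex.exp (2 * Real.pi * Complex.I / ((Nat.card G / p ^ (Nat.card G).factorization p) : ℕ)) ∧ (ψ : G → ℂ) = fun g => σ ((θ : G → ℂ) g)) ↔ ψ ∈ Y) ∧ (∀ χ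 ∈ B, χ ∉ Y → ∀ ψ : Cfsg.IrrCharacter G, (∃ σ : ℂ ≃+* ℂ, σ (Complex.exp (2 * Real.pi * Complex.I / ((Nat.card G / p ^ (Nat.card G).factorization p) : ℕ))) = Complex.exp (2 * Real.pi * Complex.I / ((Nat.card G / p ^ (Nat.card G).factorization p) : ℕ)) ∧ (ψ : G → ℂ) = fun g => σ ((χ : G → ℂ) g)) → ψ = χ) ∧ Nat.card Y ∣ p - 1 ∧ Nat.card B = Nat.card Y + (p - 1) / Nat.card Y ∧ ∃ δ : Cfsg.IrrCharacter G → ℤ, (∀ χ ∈ B, δ χ = 1 ∨ δ χ = -1) ∧ ∀ x : G, ¬ p ∣ orderOf x → ∀ θ ∈ Y, (∑ᶠ χ ∈ B \ Y, (δ χ : ℂ) * (χ : G → ℂ) x) + (δ θ : ℂ) * (θ : G → ℂ) x = 0 := by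
  classical
  haveI : M.IsMaximal := hM.2.1
  haveI : CharP (Res M) p := charP_res hM
  have hp : p.Prime := Fact.out
  obtain ⟨D, hBD⟩ := Lib.Blocks.exists_isDefectGroup (p := p) hB
  have hcard := Lib.Blocks.card_isDefectGroup hM hB hBD
  have hd1 : Cfsg.blockDefect p B = 1 := by
    by_contra hne
    exact hsq ((pow_dvd_pow p (show 2 ≤ Cfsg.blockDefect p B by omega)).trans
      (hcard ▸ Subgroup.card_subgroup_dvd_card D))
  rw [hd1, pow_one] at hcard
  have hD := (isDefectGroup_iff hB _).mp hBD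
  obtain ⟨ω, hpair⟩ := exists_pairOf_isDef hD
  obtain ⟨z, hz⟩ := exists_cyc (top_of_isDef hpair hD) hpair (isCyclic_of_prime_card hcard)
    (fun h => by
      rw [h, Subgroup.card_bot] at hcard
      exact hp.one_lt.ne hcard)
  obtain rfl : D = Subgroup.zpowers z :=
    (Subgroup.eq_of_le_of_card_ge (Subgroup.zpowers_le.mpr hz.mem)
      (by rw [Nat.card_zpowers, hz.order, hcard])).symm
  obtain ⟨X, Y, δ, δ₀, hs, hYorb, hXfix⟩ := Galois.exists_struct hM hsq hz
  rw [toSet_blk] at hs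
  have he : 0 < Local.eIdx hz := Local.Cyc.eIdx_pos hM hz
  have hYne := Theorem.Y_nonempty hs hp.one_lt
  have hYc : Nat.card (Y : Set (Cfsg.IrrCharacter G)) = Y.card := by
    rw [Nat.card_coe_set_eq, Set.ncard_coe_finset]
  have hmul : p - 1 = Local.eIdx hz * Y.card := by
    have := hs.cardY
    omega
  refine ⟨(Y : Set (Cfsg.IrrCharacter G)), fun η hη => (hs.mem_iff η).mpr (Or.inr hη),
    ⟨hYne.choose, hYne.choose_spec⟩,
    fun θ hθ φ => (Lib.BC77.PConj.mem_orbit_iff p θ φ).trans (hYorb θ hθ φ),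
    fun χ hχ hχY φ hφ => hXfix χ (((hs.mem_iff χ).mp hχ).resolve_right hχY) φ
      ((Lib.BC77.PConj.mem_orbit_iff p χ φ).mp hφ), ?_, ?_,
    fun χ => if χ ∈ Y then δ₀ else δ χ, fun χ hχ => ?_, fun x hx θ hθ => ?_⟩
  · rw [hYc, hmul]
    exact dvd_mul_left _ _
  · rw [show B = ((X ∪ Y : Finset _) : Set (Cfsg.IrrCharacter G)) from
      Set.ext fun χ => by rw [Finset.mem_coe, Finset.mem_union]; exact hs.mem_iff χ, hYc,
      Nat.card_coe_set_eq, Set.ncard_coe_finset, Finset.card_union_of_disjoint hs.disjoint,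
      hs.cardX, hmul, Nat.mul_div_cancel _ hYne.card_pos, Nat.add_comm]
  · by_cases h : χ ∈ Y
    · simp only [if_pos h]; exact hs.sign₀
    · simp only [if_neg h]; exact hs.sign χ (((hs.mem_iff χ).mp hχ).resolve_right h)
  · simp only [if_pos (Finset.mem_coe.mp hθ)]
    rw [show B \ (Y : Set (Cfsg.IrrCharacter G)) =
      (X : Set (Cfsg.IrrCharacter G)) from Set.ext fun χ => ?_, finsum_mem_coe_finset,
      add_comm, Finset.sum_congr rfl fun χ hχ => by
        rw [if_neg (Finset.disjoint_left.mp hs.disjoint hχ)]]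
    · exact hs.relation θ hθ x hx
    · simp only [Set.mem_sdiff, Finset.mem_coe]
      exact ⟨fun h => ((hs.mem_iff χ).mp h.1).resolve_right h.2,
        fun h => ⟨(hs.mem_iff χ).mpr (Or.inl h), Finset.disjoint_left.mp hs.disjoint h⟩⟩

end Cfsg.Agent.S4507
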