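import Cfsg.Statements.S4508
import Cfsg.Agent.Lib.SelfCentP.DegreePred

set_option autoImplicit false
open Cfsg

namespace Cfsg.Agent.S4508

/-- Let the finite group G contain an element x of prime order p with C_G(x) = ⟨x⟩, and let t be the number of conjugacy classes of elements of order p. If G has an irreducible character of degree p − 1, then t is even or the commutator subgroup has even index. -/
theorem result {G : Type*} [Group G] [Finite G] (p : ℕ) (hp : p.Prime) (x : G) (hx : orderOf x = p) (hC : Subgroup.centralizer ({x} : Set G) = Subgroup.zpowers x) (t : ℕ) (ht : Nat.card {C : ConjClasses G // ∃ g ∈ C.carrier, orderOf g = p} = t) (χ : Cfsg.IrrCharacter G) (hχ : Cfsg.charDegree (χ : G → ℂ) + 1 = p) : Even t ∨ Even (commutator G).index := by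
  classical
  haveI : Fact p.Prime := ⟨hp⟩
  by_cases hte : Even t
  · exact Or.inl hte
  refine Or.inr ?_
  have hxp : x ^ p = 1 := hx ▸ pow_orderOf_eq_one x
  by_cases hp2 : p = 2
  · subst hp2
    obtain ⟨P, hP⟩ := (IsPGroup.of_card (G := Subgroup.zpowers x) (n := 1)
      (by rw [Nat.card_zpowers, hx, pow_one]) :
      IsPGroup 2 (Subgroup.zpowers x)).exists_le_sylow
    have hS := Cfsg.Agent.Lib.SelfCentP.Basic.not_sq_dvd hx hC
    have hPx : (P : Subgroup G) = Subgroup.zpowers x := by
      refine (Subgroup.eq_of_le_of_card_ge hP ?_).symm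
      rw [P.card_eq_multiplicity, Nat.card_zpowers, hx]
      refine (Nat.pow_le_pow_right two_pos ?_).trans_eq (pow_one 2)
      by_contra hc
      exact hS ((hp.pow_dvd_iff_le_factorization Nat.card_pos.ne').mpr (by omega))
    have hN : Subgroup.normalizer ((P : Subgroup G) : Set G) ≤
        Subgroup.centralizer ((P : Subgroup G) : Set G) := by
      intro g hg
      rw [Subgroup.mem_centralizer_iff]
      intro z hz
      rw [SetLike.mem_coe, hPx] at hz
      have hxP : x ∈ (P : Subgroup G) := hPx ▸ Subgroup.mem_zpowers x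
      have h1 := (Subgroup.mem_normalizer_iff.mp hg x).mp hxP
      rw [hPx] at h1
      have hne : g * x * g⁻¹ ≠ 1 := fun e => by
        rw [conj_eq_one_iff] at e
        rw [e, orderOf_one] at hx
        omega
      obtain ⟨s, hs⟩ := Cfsg.Agent.Lib.SelfCentP.Basic.exists_pw hx h1 hne
      rw [Subsingleton.elim s 1, Cfsg.Agent.Lib.SelfCentP.Basic.pw_one] at hs
      obtain ⟨k, rfl⟩ := Subgroup.mem_zpowers_iff.mp hz
      have hc : Commute g x := eq_mul_inv_iff_mul_eq.mp hs |>.symm
      exact (hc.zpow_right k).symm.eq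
    have hker := MonoidHom.ker_transferSylow_isComplement' P hN
    have hidx := hker.symm.index_eq_card
    have hc2 : Nat.card (P : Subgroup G) = 2 := by rw [hPx, Nat.card_zpowers, hx]
    rw [hc2] at hidx
    haveI : IsMulCommutative (P : Subgroup G) := by
      rw [hPx]; infer_instance
    refine even_iff_two_dvd.mpr ((dvd_of_eq hidx.symm).trans (Subgroup.index_dvd_of_le ?_))
    letI : CommGroup (P : Subgroup G) :=
      { (inferInstance : Group (P : Subgroup G)) with mul_comm := fun a b => mul_comm' a b }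
    exact Abelianization.commutator_subset_ker _
  set U := Cfsg.Agent.Lib.SelfCentP.Basic.fusion x hxp with hU
  have hUt := Cfsg.Agent.Lib.SelfCentP.Basic.card_fusion_mul hx hC
  rw [ht] at hUt
  rw [← hU] at hUt
  have hpodd : Odd p := hp.odd_of_ne_two hp2
  have hp1 : p - 1 ≠ 0 := by have := hp.two_le; omega
  set e := (p - 1).factorization 2
  set n := 2 ^ e with hn
  have hto : Odd t := Nat.not_even_iff_odd.mp hte
  have hnU : n ∣ Nat.card U := by
    refine (Nat.Coprime.pow_left e (Nat.coprime_two_left.mpr hto)).dvd_of_dvd_mul_right ?_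
    rw [hUt]
    exact Nat.ordProj_dvd _ _
  have he : e ≠ 0 := by
    have : 0 < (p - 1).factorization 2 := Nat.prime_two.factorization_pos_of_dvd hp1
      (by obtain ⟨k, rfl⟩ := hpodd; omega)
    exact this.ne'
  have hneven : Even n := even_iff_two_dvd.mpr (dvd_pow_self 2 he)
  obtain ⟨g, hg⟩ := IsCyclic.exists_generator (α := U)
  have hgo : orderOf g = Nat.card U := orderOf_eq_card_of_forall_mem_zpowers hg
  set u := ((g ^ (Nat.card U / n) : U) : (ZMod p)ˣ) with hu
  have huo : orderOf u = n := by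
    have hq : Nat.card U / n ≠ 0 := (Nat.div_pos (Nat.le_of_dvd Nat.card_pos hnU)
      (pow_pos two_pos _)).ne'
    rw [hu, Subgroup.orderOf_coe, orderOf_pow' g hq, hgo,
      Nat.gcd_eq_right (Nat.div_dvd_of_dvd hnU), Nat.div_div_self hnU Nat.card_pos.ne']
  have huU : u ∈ U := (g ^ (Nat.card U / n)).2
  have hneg : IsConj x x⁻¹ := by
    have h1 : u ^ (n / 2) = -1 := by
      have ho : orderOf (u ^ (n / 2)) = 2 := by
        have h2 : 2 ∣ n := dvd_pow_self 2 he
        have hq : n / 2 ≠ 0 := (Nat.div_pos (Nat.le_of_dvd (pow_pos two_pos _) h2) two_pos).ne'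
        rw [orderOf_pow' u hq, huo, Nat.gcd_eq_right (Nat.div_dvd_of_dvd h2),
          Nat.div_div_self h2 (pow_ne_zero _ two_ne_zero)]
      have hsq : (((u ^ (n / 2) : (ZMod p)ˣ) : ZMod p)) ^ 2 = 1 := by
        rw [← Units.val_pow_eq_pow_val]
        nth_rewrite 2 [← ho]
        rw [pow_orderOf_eq_one, Units.val_one]
      rcases sq_eq_one_iff.mp hsq with h | h
      · rw [show u ^ (n / 2) = 1 from Units.ext h, orderOf_one] at ho
        omega
      · exact Units.ext (by rw [h, Units.val_neg, Units.val_one])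
    have hmem : Cfsg.Agent.Lib.SelfCentP.Basic.pw x (-1 : (ZMod p)ˣ) = x⁻¹ := by
      refine eq_inv_of_mul_eq_one_left ?_
      rw [Cfsg.Agent.Lib.SelfCentP.Basic.pw, ← pow_succ, ← orderOf_dvd_iff_pow_eq_one, hx,
        ← ZMod.natCast_eq_zero_iff, Nat.cast_add, ZMod.natCast_val, ZMod.cast_id]
      simp
    have := U.pow_mem huU (n / 2)
    rw [h1] at this
    rw [← hmem]
    exact this
  obtain ⟨c, hc⟩ := isConj_iff.mp (show IsConj x (Cfsg.Agent.Lib.SelfCentP.Basic.pw x u) from huU)
  have hpow : ∀ j : ℕ, ∀ s : (ZMod p)ˣ,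
      c ^ j * Cfsg.Agent.Lib.SelfCentP.Basic.pw x s * (c ^ j)⁻¹ =
        Cfsg.Agent.Lib.SelfCentP.Basic.pw x (u ^ j * s) := by
    intro j
    induction j with
    | zero => intro s; simp
    | succ j ih =>
      intro s
      have h1 : c * Cfsg.Agent.Lib.SelfCentP.Basic.pw x s * c⁻¹ =
          Cfsg.Agent.Lib.SelfCentP.Basic.pw x (u * s) := by
        rw [← Cfsg.Agent.Lib.SelfCentP.Basic.pw_mul hxp]
        unfold Cfsg.Agent.Lib.SelfCentP.Basic.pw at hc ⊢
        rw [← conj_pow, hc]
      calc c ^ (j + 1) * Cfsg.Agent.Lib.SelfCentP.Basic.pw x s * (c ^ (j + 1))⁻¹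
          = c ^ j * (c * Cfsg.Agent.Lib.SelfCentP.Basic.pw x s * c⁻¹) * (c ^ j)⁻¹ := by
            rw [pow_succ]; group
        _ = _ := by rw [h1, ih, pow_succ, mul_assoc]
  obtain ⟨a, q, hq, hcq⟩ := Nat.exists_eq_two_pow_mul_odd (orderOf_pos c).ne'
  set h := c ^ q with hh
  have hho : orderOf h = 2 ^ a := by
    rw [hh, orderOf_pow' c hq.pos.ne', hcq, Nat.gcd_eq_right (dvd_mul_left _ _),
      Nat.mul_div_cancel _ hq.pos]
  have huq : orderOf (u ^ q) = n := by
    rw [orderOf_pow' u hq.pos.ne', huo,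
      Nat.Coprime.gcd_eq_one (Nat.Coprime.pow_left e (Nat.coprime_two_left.mpr hq)), Nat.div_one]
  have hact : ∀ j s, h ^ j * Cfsg.Agent.Lib.SelfCentP.Basic.pw x s * (h ^ j)⁻¹ =
      Cfsg.Agent.Lib.SelfCentP.Basic.pw x ((u ^ q) ^ j * s) := fun j s => by
    rw [hh, ← pow_mul, ← pow_mul]
    exact hpow _ s
  have hhn : h ^ n = 1 := by
    have h1 := hact n 1
    rw [← huq, pow_orderOf_eq_one, mul_one, huq, Cfsg.Agent.Lib.SelfCentP.Basic.pw_one] at h1
    have hmem : h ^ n ∈ Subgroup.zpowers x :=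
      hC ▸ Subgroup.mem_centralizer_singleton_iff.mpr (mul_inv_eq_iff_eq_mul.mp h1)
    rw [← orderOf_eq_one_iff]
    refine Nat.eq_one_of_dvd_coprimes
      (Nat.Coprime.pow_left a (Nat.coprime_two_left.mpr hpodd)) (hho ▸ orderOf_pow_dvd n) ?_
    rw [← hx, ← Nat.card_zpowers x, ← Subgroup.orderOf_mk _ hmem]
    exact orderOf_dvd_natCard _
  letI := Fintype.ofFinite (Subgroup.zpowers x)
  have h0 := Cfsg.Agent.Lib.SelfCentP.DegreePred.sum_zpowers_eq_zero hx hC hneg hp2 χ hχ
    (Subgroup.zpowers x) rfl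
  obtain ⟨l, hl⟩ := Cfsg.Agent.Lib.SelfCentP.DegreePred.exists_linear hneven
    (pow_ne_zero _ two_ne_zero) hhn χ (fun j hj hjn => by
      refine Cfsg.Agent.Lib.SelfCentP.DegreePred.apply_eq_zero _ χ h0 ?_ ?_
      · intro z hz
        obtain ⟨k, rfl⟩ := Subgroup.mem_zpowers_iff.mp hz
        rw [← conj_zpow]
        refine Subgroup.zpow_mem _ ?_ k
        have := hact j 1
        rw [mul_one, Cfsg.Agent.Lib.SelfCentP.Basic.pw_one] at this
        rw [this]
        exact Subgroup.pow_mem _ (Subgroup.mem_zpowers x) _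
      · intro z hz hcomm
        by_contra hz1
        obtain ⟨s, rfl⟩ := Cfsg.Agent.Lib.SelfCentP.Basic.exists_pw hx hz hz1
        have := hact j s
        rw [hcomm, mul_inv_cancel_right] at this
        have h2 := Cfsg.Agent.Lib.SelfCentP.Basic.pw_injective hx this
        rw [right_eq_mul] at h2
        exact pow_ne_one_of_lt_orderOf hj.ne' (by rw [huq]; exact hjn) h2)
    (by
      rw [show Cfsg.charDegree (χ : G → ℂ) = p - 1 by omega]
      exact Nat.not_even_iff_odd.mp fun hev => Nat.not_dvd_ordCompl Nat.prime_two hp1 hev.two_dvd)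
  exact Cfsg.Agent.Lib.SelfCentP.DegreePred.even_index_of_linear l hl

end Cfsg.Agent.S4508
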