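import Cfsg.Statements.S4509
import Cfsg.Agent.Lib.SelfCentP.Normalizer

set_option autoImplicit false
open Cfsg

namespace Cfsg.Agent.S4509

/-- Let the finite group G contain an element x of prime order p with C_G(x) = ⟨x⟩; let t be the number of conjugacy classes of elements of order p and 1 + n·p the number of subgroups of order p. Then G has a normal subgroup of order 1 + n·p if and only if either t = p − 1, or t < p − 1 and G″ ≠ G′. Moreover, if t = p − 1 then G′ has order 1 + n·p and G/G′ is cyclic of order p; and if t < p − 1 and G″ ≠ G′ then G″ has order 1 + n·p and G′ has order p·(1 + n·p). -/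
theorem result {G : Type*} [Group G] [Finite G] (p : ℕ) (hp : p.Prime) (x : G) (hx : orderOf x = p) (hC : Subgroup.centralizer ({x} : Set G) = Subgroup.zpowers x) (t : ℕ) (ht : Nat.card {C : ConjClasses G // ∃ g ∈ C.carrier, orderOf g = p} = t) (n : ℕ) (hn : Nat.card {H : Subgroup G // Nat.card H = p} = 1 + n * p) : ((∃ S : Subgroup G, S.Normal ∧ Nat.card S = 1 + n * p) ↔ (t = p - 1 ∨ (t < p - 1 ∧ derivedSeries G 2 ≠ derivedSeries G 1))) ∧ (t = p - 1 → Nat.card (commutator G) = 1 + n * p ∧ IsCyclic (G ⧸ commutator G) ∧ (commutator G).index = p) ∧ (t < p - 1 → derivedSeries G 2 ≠ derivedSeries G 1 → Nat.card (derivedSeries G 2) = 1 + n * p ∧ Nat.card (commutator G) = p * (1 + n * p)) := by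
  haveI : Fact p.Prime := ⟨hp⟩
  have hxp : x ^ p = 1 := hx ▸ pow_orderOf_eq_one x
  set U := Cfsg.Agent.Lib.SelfCentP.Basic.fusion x hxp with hU
  have hUt : Nat.card U * t = p - 1 := by
    rw [← ht]
    exact Cfsg.Agent.Lib.SelfCentP.Basic.card_fusion_mul hx hC
  have hidx : (Subgroup.normalizer (Subgroup.zpowers x : Set G)).index = 1 + n * p := by
    rw [← Cfsg.Agent.Lib.SelfCentP.Normalizer.card_subgroups hx hC, hn]
  have hp1 : 0 < p - 1 := by have := hp.two_le; omega
  have hU0 : 0 < Nat.card U := Nat.card_pos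
  have htle : t ≤ p - 1 := hUt ▸ Nat.le_mul_of_pos_left t hU0
  have hcase : ∀ h : Nat.card U = 1, t = p - 1 := fun h => by rw [← hUt, h, one_mul]
  have hcase' : t = p - 1 → Nat.card U = 1 := fun h => by
    rw [h] at hUt
    exact (Nat.mul_eq_right hp1.ne').mp hUt
  have hmain1 : t = p - 1 → Nat.card (commutator G) = 1 + n * p ∧
      IsCyclic (G ⧸ commutator G) ∧ (commutator G).index = p := fun h => by
    rw [← hidx]
    exact Cfsg.Agent.Lib.SelfCentP.Normalizer.of_no_fusion hx hC (hcase' h)
  have hmain2 : t < p - 1 → derivedSeries G 2 ≠ derivedSeries G 1 →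
      Nat.card (derivedSeries G 2) = 1 + n * p ∧
        Nat.card (commutator G) = p * (1 + n * p) := fun h hne => by
    rw [← hidx]
    exact Cfsg.Agent.Lib.SelfCentP.Normalizer.of_derived_ne hx hC
      (fun e => h.ne (hcase e)) hne
  refine ⟨⟨?_, ?_⟩, hmain1, hmain2⟩
  · rintro ⟨S, hSn, hS⟩
    rcases eq_or_lt_of_le htle with h | h
    · exact Or.inl h
    · haveI := hSn
      refine Or.inr ⟨h, Cfsg.Agent.Lib.SelfCentP.Normalizer.derived_ne_of_complement hx hC
        (fun e => h.ne (hcase e)) S (hS.trans hidx.symm) ?_⟩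
      rw [hS]
      intro hd
      exact hp.not_dvd_one ((Nat.dvd_add_left (dvd_mul_left p n)).mp hd)
  · rintro (h | ⟨h, hne⟩)
    · exact ⟨commutator G, inferInstance, (hmain1 h).1⟩
    · exact ⟨derivedSeries G 2, derivedSeries_normal G 2, (hmain2 h hne).1⟩

end Cfsg.Agent.S4509
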