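import Cfsg.Statements.S4510
import Cfsg.Agent.Lib.BC78.RegClasses

set_option autoImplicit false
open Cfsg

namespace Cfsg.Agent.S4510

/-- Let G be a finite group, p a prime, M a maximal ideal of the algebraic integers containing p, and call the defect of a conjugacy class the exponent of p in the order of the centralizer of its elements. Two irreducible characters lying in p-blocks of defect exactly d lie in the same block if and only if their central characters (class size times χ(x)/χ(1)) agree modulo the local ideal at M at every p-regular element x whose class has defect exactly d. -/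
theorem result {G : Type*} [Group G] [Finite G] (p : ℕ) [Fact p.Prime] (M : Ideal Cfsg.AlgInt) (hM : Cfsg.IsPModular p M) (d : ℕ) (χ ψ : Cfsg.IrrCharacter G) (hχ : Cfsg.blockDefect p (Cfsg.blockOf M (χ : G → ℂ)) = d) (hψ : Cfsg.blockDefect p (Cfsg.blockOf M (ψ : G → ℂ)) = d) : Cfsg.SameBlock M (χ : G → ℂ) (ψ : G → ℂ) ↔ ∀ x : G, ¬ p ∣ orderOf x → (Nat.card (Subgroup.centralizer ({x} : Set G))).factorization p = d → Cfsg.MemLocalIdeal M (Cfsg.centralChar (χ : G → ℂ) x - Cfsg.centralChar (ψ : G → ℂ) x) := by
  haveI := hM.2.1
  refine ⟨fun h x _ _ => h x, fun h => ?_⟩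
  refine Lib.BC78.RegClasses.sameBlock_of_support χ ψ fun g hg => ?_
  have hB := Lib.Blocks.isPBlock_blockOf (M := M) χ
  have hle := Lib.BC78.RegClasses.factorization_le hM hB hg
  rw [hχ] at hle
  have hreg : ¬ p ∣ orderOf g := fun hd =>
    hg (Lib.Blocks.blockCoeff_eq_zero_of_dvd hM hB hd ▸ Lib.Blocks.memLocalIdeal_zero)
  rcases hle.lt_or_eq with hlt | heq
  · -- both central characters vanish
    refine Lib.Blocks.memLocalIdeal_sub ?_ ?_
    · by_contra hne
      have := Lib.BC78.RegClasses.le_factorization hM hB (Lib.Blocks.mem_blockOf_self χ) hne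
      omega
    · by_contra hne
      have := Lib.BC78.RegClasses.le_factorization hM (Lib.Blocks.isPBlock_blockOf (M := M) ψ)
        (Lib.Blocks.mem_blockOf_self ψ) hne
      omega
  · exact h g hreg heq

end Cfsg.Agent.S4510
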