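import Cfsg.Statements.S4512
import Cfsg.Agent.S0948
import Cfsg.Agent.S0942
import Cfsg.Agent.Lib.Cores.Basic
import Cfsg.Agent.Lib.Blocks.ContribRank
import Cfsg.Agent.Lib.Brauer.Induction

set_option autoImplicit false
open Cfsg

namespace Cfsg.Agent.S4512

/-- If G is a finite group with a Sylow 2-subgroup that is a Klein four-group and a single conjugacy class of involutions, then its principal 2-block (relative to a maximal ideal M of the algebraic integers containing 2) has 2-regular rank 3: the restrictions of its irreducible characters to the elements of odd order span a space of dimension 3 (it has three irreducible Brauer characters). -/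
theorem result {G : Type*} [Group G] [Finite G] (M : Ideal Cfsg.AlgInt) (hM : Cfsg.IsPModular 2 M) (P : Sylow 2 G)
    (hP : Nat.card P = 4) (hexp : ∀ x : P, x * x = 1)
    (hone : ∀ s t : G, orderOf s = 2 → orderOf t = 2 → IsConj s t) :
    Cfsg.blockRank 2 (Cfsg.principalBlock M G) = 3 := by
  classical
  have := Fintype.ofFinite G
  have hnt : P.toSubgroup ≠ ⊥ := by
    intro h
    have : Nat.card P.toSubgroup = 1 := by rw [h, Subgroup.card_bot]
    omega
  have hkl : IsKleinFour (P : Subgroup G) := by
    refine ⟨hP, ?_⟩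
    have : Nontrivial (P : Subgroup G) := Finite.one_lt_card_iff_nontrivial.mp (by omega)
    have hd : Monoid.exponent (P : Subgroup G) ∣ 2 :=
      Monoid.exponent_dvd_of_forall_pow_eq_one fun x => by rw [sq]; exact hexp x
    rcases (Nat.dvd_prime Nat.prime_two).1 hd with h | h
    · exact absurd (Monoid.exp_eq_one_iff.1 h) (not_subsingleton _)
    · exact h
  obtain ⟨ζ₂, ζ₃, ζ₄, ε, hε, hn2, hn3, h23, h24, h34, hB, hval, -, -, hd4, hrel⟩ :=
    Cfsg.Agent.S0948.result M hM P hkl hone
  set o := Lib.Characters.Basic.oneChar G with ho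
  have ho1 : ∀ g : G, (o : G → ℂ) g = 1 := fun g => Lib.Characters.Basic.oneChar_apply g
  have hoe : (o : G → ℂ) = fun _ => 1 := funext ho1
  -- an involution
  obtain ⟨z₀, hz₀⟩ : ∃ z : G, orderOf z = 2 := by
    have := Fact.mk Nat.prime_two
    exact exists_prime_orderOf_dvd_card' 2 ((by rw [hP]; norm_num : 2 ∣ Nat.card (P : Subgroup G)).trans
      (P : Subgroup G).card_subgroup_dvd_card)
  have hn4 : (ζ₄ : G → ℂ) ≠ fun _ => 1 := by
    intro h
    have := (hval z₀ hz₀).2.2
    rw [h] at this
    norm_num at this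
  let w : Fin 4 → Cfsg.IrrCharacter G := ![o, ζ₂, ζ₃, ζ₄]
  let r : Fin 4 → ℂ := ![1, 1, (ε : ℂ), -1]
  have hε2 : (ε : ℂ) * (ε : ℂ) = 1 := by rcases hε with rfl | rfl <;> norm_num
  have hwinj : Function.Injective w := by
    have a2 : o ≠ ζ₂ := fun h => hn2 (h ▸ hoe)
    have a3 : o ≠ ζ₃ := fun h => hn3 (h ▸ hoe)
    have a4 : o ≠ ζ₄ := fun h => hn4 (h ▸ hoe)
    intro i j h
    fin_cases i <;> fin_cases j <;>
      simp [w, a2, a3, a4, a2.symm, a3.symm, a4.symm, h23, h24, h34, h23.symm, h24.symm,
        h34.symm] at h ⊢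
  -- the values on the singular elements
  have hsing : ∀ g : G, 2 ∣ orderOf g → ∀ i, (w i : G → ℂ) g = r i := by
    intro g hg i
    obtain ⟨u, v, huv, hc, ⟨k, hk⟩, hv, -, -⟩ := Lib.Brauer.Induction.exists_pParts 2 Nat.prime_two g
    have hu1 : u ≠ 1 := by
      intro h
      rw [h, one_mul] at huv
      exact hv (huv ▸ hg)
    have hu : orderOf u = 2 := by
      have hp : IsPGroup 2 (Subgroup.zpowers u) := IsPGroup.of_card (n := k) (by rw [Nat.card_zpowers, hk])
      obtain ⟨T, hT⟩ := hp.exists_le_sylow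
      obtain ⟨s, hs⟩ := MulAction.exists_smul_eq G T P
      have hmem : s * u * s⁻¹ ∈ (P : Subgroup G) := by
        rw [← hs, Sylow.coe_subgroup_smul]
        exact Subgroup.smul_mem_pointwise_smul _ (MulAut.conj s) _ (hT (Subgroup.mem_zpowers u))
      have h2 := congrArg Subtype.val (hexp ⟨_, hmem⟩)
      rw [Subgroup.coe_mul, ← sq] at h2
      refine orderOf_eq_prime ?_ hu1
      rw [conj_pow, Subgroup.coe_one, mul_inv_eq_one] at h2
      exact mul_eq_left.mp h2
    have hcore : v ∈ Cfsg.centralizerPPrimeCore 2 u := by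
      obtain ⟨z, hzP, hzu⟩ : ∃ z ∈ (P : Subgroup G), ∃ s : G, s * z * s⁻¹ = u := by
        have : Nontrivial (P : Subgroup G) := Finite.one_lt_card_iff_nontrivial.mp (by omega)
        obtain ⟨⟨a, ha⟩, ha1⟩ := exists_ne (1 : (P : Subgroup G))
        obtain ⟨s, hs⟩ := isConj_iff.1 (hone a u
          (orderOf_eq_prime (by rw [sq]; exact congrArg Subtype.val (hexp ⟨a, ha⟩))
            (fun e => ha1 (Subtype.ext e))) hu)
        exact ⟨a, ha, s, hs⟩
      obtain ⟨s, rfl⟩ := hzu
      -- transport the index statement along conjugation by `s`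
      have hzP' : s * z * s⁻¹ ∈ ((s • P : Sylow 2 G) : Subgroup G) := by
        rw [Sylow.coe_subgroup_smul]
        exact Subgroup.smul_mem_pointwise_smul _ (MulAut.conj s) _ hzP
      have hkl' : IsKleinFour ((s • P : Sylow 2 G) : Subgroup G) := by
        rw [Sylow.coe_subgroup_smul]
        have e := Subgroup.equivSMul (MulAut.conj s) (P : Subgroup G)
        exact ⟨(Nat.card_congr e.toEquiv).symm.trans hkl.card_four,
          (Monoid.exponent_eq_of_mulEquiv e).symm.trans hkl.exponent_two⟩
      obtain ⟨⟨j, hj⟩, -⟩ := Cfsg.Agent.S0948.centralizer_pPrimeCore hkl' hzP' hu1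
      set C := Subgroup.centralizer ({s * z * s⁻¹} : Set G)
      have hvC : v ∈ C := Subgroup.mem_centralizer_singleton_iff.2 hc.symm.eq
      refine ⟨⟨v, hvC⟩, ?_, rfl⟩
      have : (Cfsg.pPrimeCore 2 C).Normal := inferInstance
      show (⟨v, hvC⟩ : C) ∈ Cfsg.pPrimeCore 2 C
      rw [← QuotientGroup.eq_one_iff, ← orderOf_eq_one_iff]
      refine Nat.eq_one_of_dvd_coprimes (Nat.Coprime.pow_left j (Nat.coprime_two_left.mpr
        (Nat.odd_iff.mpr (Nat.two_dvd_ne_zero.mp hv)))) ?_
        ((orderOf_map_dvd (QuotientGroup.mk' (Cfsg.pPrimeCore 2 C)) ⟨v, hvC⟩).trans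
          (dvd_of_eq (Subgroup.orderOf_mk v hvC)))
      rw [← hj]
      exact _root_.orderOf_dvd_natCard _
    have hmemB : w i ∈ Cfsg.principalBlock M G := by
      rw [hB]
      fin_cases i <;> simp [w, hoe]
    rw [← huv, Cfsg.Agent.S0942.result 2 M hM u ⟨1, by rw [hu, pow_one]⟩ v hcore (w i) hmemB]
    obtain ⟨e2, e3, e4⟩ := hval u hu
    fin_cases i <;> simp [w, r, hoe, e2, e3, e4]
  let L : (Fin 4 → ℂ) →ₗ[ℂ] (G → ℂ) :=
    Fintype.linearCombination ℂ (fun i => Cfsg.pRegularPart 2 ((w i : G → ℂ)))
  have hL : ∀ a g, L a g = if 2 ∣ orderOf g then 0 else ∑ i, a i * (w i : G → ℂ) g := by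
    intro a g
    simp only [L, Fintype.linearCombination_apply, Finset.sum_apply, Pi.smul_apply, smul_eq_mul,
      Lib.Blocks.Contrib.pRegularPart_apply]
    split_ifs <;> simp
  have hrange : LinearMap.range L = Submodule.span ℂ
      ((fun χ : Cfsg.IrrCharacter G => Cfsg.pRegularPart 2 (χ : G → ℂ)) '' Cfsg.principalBlock M G) := by
    rw [Fintype.range_linearCombination]
    congr 1
    rw [hB]
    ext f
    constructor
    · rintro ⟨i, rfl⟩
      refine ⟨w i, ?_, rfl⟩
      fin_cases i <;> simp [w, hoe]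
    · rintro ⟨χ, hχ, rfl⟩
      rcases hχ with h | rfl | rfl | rfl
      · exact ⟨0, by simp [w, h, hoe]⟩
      · exact ⟨1, rfl⟩
      · exact ⟨2, rfl⟩
      · exact ⟨3, rfl⟩
  have hker : LinearMap.ker L = Submodule.span ℂ {r} := by
    apply le_antisymm
    · intro a ha
      rw [LinearMap.mem_ker] at ha
      set c := ∑ i, a i * r i with hcdef
      rw [Submodule.mem_span_singleton]
      refine ⟨c / 4, ?_⟩
      have hf : ∑ i, (a i - c / 4 * r i) • ((w i : G → ℂ)) = 0 := by
        funext g
        simp only [Finset.sum_apply, Pi.smul_apply, smul_eq_mul, sub_mul, Finset.sum_sub_distrib,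
          Pi.zero_apply]
        by_cases hg : 2 ∣ orderOf g
        · simp only [hsing g hg, mul_assoc, ← Finset.mul_sum, ← hcdef]
          simp [Fin.sum_univ_four, r, hε2]
          ring
        · have h1 := congrFun ha g
          rw [hL, if_neg hg] at h1
          have h2 := hrel g (Nat.odd_iff.mpr (Nat.two_dvd_ne_zero.mp hg))
          simp only [Pi.zero_apply] at h1
          rw [h1]
          simp only [mul_assoc, ← Finset.mul_sum]
          simp [Fin.sum_univ_four, r, w, hoe]
          right
          linear_combination h2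
      funext i
      have hli := (Lib.Characters.Basic.linearIndependent_irr (G := G)).comp w hwinj
      have h0 := Fintype.linearIndependent_iff.1 hli _ hf i
      simp only [Pi.smul_apply, smul_eq_mul]
      linear_combination -h0
    · rw [Submodule.span_le, Set.singleton_subset_iff]
      show L r = 0
      funext g
      rw [hL, Pi.zero_apply]
      split_ifs with hg
      · rfl
      · have h2 := hrel g (Nat.odd_iff.mpr (Nat.two_dvd_ne_zero.mp hg))
        simp [Fin.sum_univ_four, r, w, hoe]
        linear_combination h2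
  have h := L.finrank_range_add_finrank_ker
  have hr0 : r ≠ 0 := fun e => by have := congrFun e 0; simp [r] at this
  rw [hker, finrank_span_singleton hr0, Module.finrank_fintype_fun_eq_card, Fintype.card_fin,
    hrange] at h
  rw [Cfsg.blockRank]
  omega

end Cfsg.Agent.S4512
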