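import Cfsg.Statements.S4513
import Cfsg.Agent.Lib.BC78.DefectOne

set_option autoImplicit false
open Cfsg
open scoped ComplexConjugate
open Cfsg.Agent.Lib Cfsg.Agent.Lib.Blocks Cfsg.Agent.Lib.Blocks.Contrib
open Cfsg.Agent.Lib.Induced.Basic Cfsg.Agent.Lib.Characters.Basic Cfsg.Agent.Lib.BC78

namespace Cfsg.Agent.S4513

/-- Blocks of defect one for p = 2. Let M be a maximal ideal of the algebraic integers containing 2, B a 2-block of the finite group G whose defect group is the subgroup generated by an involution x, C = C_G(x), b a block of C inducing B and θ a member of b taking the same value at x as at 1 (there is exactly one). Then B consists of exactly two irreducible characters, which agree on every element of odd order, and they can be labelled χ₁, χ₂ with signs ε₁, ε₂ = ±1, ε₁ε₂ = −1, such that χᵢ(x y) = εᵢ θ(y) for every element y of C of odd order. -/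
theorem result {G : Type*} [Group G] [Finite G] (M : Ideal Cfsg.AlgInt) (hM : Cfsg.IsPModular 2 M) (x : G) (hx : orderOf x = 2)
    (B : Set (Cfsg.IrrCharacter G)) (hB : Cfsg.IsPBlock M B) (hBD : Cfsg.IsDefectGroup 2 M B (Subgroup.zpowers x))
    (b : Set (Cfsg.IrrCharacter ↥(Subgroup.centralizer ({x} : Set G)))) (hb : Cfsg.IsInducedBlock M (Subgroup.centralizer ({x} : Set G)) b B)
    (θ : Cfsg.IrrCharacter ↥(Subgroup.centralizer ({x} : Set G))) (hθ : θ ∈ b)
    (hθx : ∀ z : ↥(Subgroup.centralizer ({x} : Set G)), (z : G) = x → (θ : ↥(Subgroup.centralizer ({x} : Set G)) → ℂ) z = (θ : ↥(Subgroup.centralizer ({x} : Set G)) → ℂ) 1) :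
    Nat.card B = 2 ∧ (∀ χ ∈ B, ∀ ψ ∈ B, ∀ g : G, ¬ 2 ∣ orderOf g → (χ : G → ℂ) g = (ψ : G → ℂ) g) ∧
      ∃ χ₁ ∈ B, ∃ χ₂ ∈ B, χ₁ ≠ χ₂ ∧ ∃ ε₁ ε₂ : ℤ, (ε₁ = 1 ∨ ε₁ = -1) ∧ (ε₂ = 1 ∨ ε₂ = -1) ∧ ε₁ * ε₂ = -1 ∧
        ∀ y : ↥(Subgroup.centralizer ({x} : Set G)), ¬ 2 ∣ orderOf y →
          (χ₁ : G → ℂ) (x * y) = (ε₁ : ℂ) * (θ : ↥(Subgroup.centralizer ({x} : Set G)) → ℂ) y ∧ (χ₂ : G → ℂ) (x * y) = (ε₂ : ℂ) * (θ : ↥(Subgroup.centralizer ({x} : Set G)) → ℂ) y := by
  classical
  haveI := hM.2.1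
  haveI : Fact (Nat.Prime 2) := ⟨Nat.prime_two⟩
  haveI := Fintype.ofFinite G
  haveI := Fintype.ofFinite (Subgroup.centralizer ({x} : Set G))
  have hd := DefectOne.defect_one hM hB hx hBD
  have hk := DefectOne.card_eq_two hM hB hd
  have hx1 : x ≠ 1 := fun h => by rw [h, orderOf_one] at hx; omega
  set z : (Subgroup.centralizer ({x} : Set G)) := ⟨x, Subgroup.mem_centralizer_singleton_iff.2 rfl⟩ with hz
  have hzo : orderOf z = 2 := by rw [← Subgroup.orderOf_coe, hz]; exact hx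
  have hzc : z ∈ Subgroup.center (Subgroup.centralizer ({x} : Set G)) := Subgroup.mem_center_iff.2 fun u =>
    Subtype.ext (Subgroup.mem_centralizer_singleton_iff.1 u.2)
  -- the defect group of `b`
  have hbD : Cfsg.IsDefectGroup 2 M b (Subgroup.zpowers z) := by
    obtain ⟨D, hD⟩ := exists_isDefectGroup (p := 2) hb.1
    obtain ⟨E, hE, hDE⟩ := exists_defectGroup_ge_of_induced hM hb hD
    have hEc : Nat.card E = 2 := by rw [card_isDefectGroup hM hB hE, hd, pow_one]
    have hDle : Nat.card D ≤ 2 := by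
      rw [← hEc, Nat.card_congr (D.equivMapOfInjective _ (Subgroup.centralizer ({x} : Set G)).subtype_injective).toEquiv]
      exact Subgroup.card_le_of_le hDE
    haveI : (Subgroup.zpowers z).Normal := ⟨fun w hw g => by
      obtain ⟨i, rfl⟩ := Subgroup.mem_zpowers_iff.1 hw
      rw [Subgroup.mem_center_iff.1 (Subgroup.zpow_mem _ hzc i) g, mul_inv_cancel_right]
      exact Subgroup.zpow_mem _ (Subgroup.mem_zpowers z) i⟩
    have hle : Subgroup.zpowers z ≤ D := by
      obtain ⟨g, hg, P, hDP⟩ := id hD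
      rw [hDP]
      refine normal_le_of_le_centralizer (IsPGroup.of_card (n := 1)
        (by rw [Nat.card_zpowers, hzo, pow_one])) ?_ P
      rw [Subgroup.zpowers_le]
      exact Subgroup.mem_centralizer_singleton_iff.2 (Subgroup.mem_center_iff.1 hzc g).symm
    have heq : Subgroup.zpowers z = D :=
      Subgroup.eq_of_le_of_card_ge hle (by rw [Nat.card_zpowers, hzo]; exact hDle)
    rwa [heq]
  obtain ⟨hT, θ', hθ', hθreg, hθneg⟩ := DefectOne.central_case hM hb.1 hzo hzc hbD hθ (hθx z rfl)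
  have hdb := DefectOne.defect_one hM hb.1 hzo hbD
  have hθz : ∀ y : (Subgroup.centralizer ({x} : Set G)), (θ : (Subgroup.centralizer ({x} : Set G)) → ℂ) (z * y) = (θ : (Subgroup.centralizer ({x} : Set G)) → ℂ) y := fun y => by
    rw [Central.char_mul_central θ.2 hzc y, hθx z rfl, div_self (char_one_ne_zero θ), one_mul]
  -- a set of representatives containing `1` and `x`
  haveI : Finite (ConjClasses G) := Quotient.finite _
  haveI := Fintype.ofFinite (ConjClasses G)
  let r : ConjClasses G → G := fun K =>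
    if K = ConjClasses.mk 1 then 1 else if K = ConjClasses.mk x then x else K.out
  have hrK : ∀ K, ConjClasses.mk (r K) = K := by
    intro K
    simp only [r]
    split_ifs with h1 h2
    · exact h1.symm
    · exact h2.symm
    · exact Quotient.out_eq K
  let X : Finset G :=
    ((Finset.univ : Finset (ConjClasses G)).filter fun K => ∃ k, orderOf (r K) = 2 ^ k).image r
  have hX : ∀ y ∈ X, ∃ k : ℕ, orderOf y = 2 ^ k := by
    intro y hy
    obtain ⟨K, hK, rfl⟩ := Finset.mem_image.1 hy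
    exact (Finset.mem_filter.1 hK).2
  have hXrep : ∀ g : G, (∃ k : ℕ, orderOf g = 2 ^ k) → ∃! y, y ∈ X ∧ IsConj g y := by
    intro g hg
    have hconj : IsConj g (r (ConjClasses.mk g)) :=
      (ConjClasses.mk_eq_mk_iff_isConj.1 (hrK _)).symm
    obtain ⟨c, hc⟩ := isConj_iff.1 hconj
    have ho : orderOf (r (ConjClasses.mk g)) = orderOf g := by
      rw [← hc]; exact orderOf_injective (MulAut.conj c).toMonoidHom (MulAut.conj c).injective g
    refine ⟨r (ConjClasses.mk g), ⟨Finset.mem_image.2 ⟨_, Finset.mem_filter.2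
      ⟨Finset.mem_univ _, ho.symm ▸ hg⟩, rfl⟩, hconj⟩, ?_⟩
    rintro y ⟨hy, hyc⟩
    obtain ⟨K, -, rfl⟩ := Finset.mem_image.1 hy
    rw [ConjClasses.mk_eq_mk_iff_isConj.2 hyc, hrK]
  have hne : ConjClasses.mk x ≠ ConjClasses.mk 1 := fun h =>
    hx1 (isConj_one_left.1 (ConjClasses.mk_eq_mk_iff_isConj.1 h))
  have h1X : (1 : G) ∈ X := Finset.mem_image.2 ⟨ConjClasses.mk 1, Finset.mem_filter.2
    ⟨Finset.mem_univ _, ⟨0, by simp [r]⟩⟩, by simp [r]⟩
  have hxr : r (ConjClasses.mk x) = x := by simp [r, hne]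
  have hxX : x ∈ X := Finset.mem_image.2 ⟨ConjClasses.mk x, Finset.mem_filter.2
    ⟨Finset.mem_univ _, ⟨1, by rw [hxr, hx, pow_one]⟩⟩, hxr⟩
  have hpos : ∀ {A : Type _} [Group A] [Finite A] (b' : Set (Cfsg.IrrCharacter A))
      (φ : Cfsg.IrrCharacter A), φ ∈ b' → 1 ≤ Cfsg.blockRank 2 b' := by
    intro A _ _ b' φ hφ
    rw [Subsections.blockRank_eq, Nat.one_le_iff_ne_zero]
    intro h0
    rw [Submodule.finrank_eq_zero] at h0
    have hm : Cfsg.pRegularPart 2 (φ : A → ℂ) ∈ Subsections.regSpan 2 b' :=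
      Submodule.subset_span ⟨φ, hφ, rfl⟩
    rw [h0, Submodule.mem_bot] at hm
    have := congrFun hm 1
    rw [pRegularPart_apply, if_neg (by simp)] at this
    exact char_one_ne_zero φ this
  have honly : ∀ b', Cfsg.IsInducedBlock M (Subgroup.centralizer ({x} : Set G)) b' B → b' = b := by
    by_contra hcon
    push Not at hcon
    obtain ⟨b', hb', hne'⟩ := hcon
    obtain ⟨χ, hχ⟩ := isPBlock_nonempty hB
    have h1 : 1 ≤ ∑ b ∈ Subsections.indBlocks M 1 B, Cfsg.blockRank 2 b := by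
      have hm := Subsections.mem_regSpan hM (1 : G) (i := 0) (by simp) hB hχ
      have hex : ∃ b₁, Cfsg.IsInducedBlock M (Subgroup.centralizer ({1} : Set G)) b₁ B := by
        by_contra hcon
        push Not at hcon
        rw [show (⋃ b ∈ {b | Cfsg.IsInducedBlock M (Subgroup.centralizer ({1} : Set G)) b B},
          (fun θ : Cfsg.IrrCharacter (Subgroup.centralizer ({1} : Set G)) =>
            Cfsg.pRegularPart 2 (θ : (Subgroup.centralizer ({1} : Set G)) → ℂ)) '' b) = ∅ from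
            Set.eq_empty_iff_forall_notMem.2 fun v hv => by
              obtain ⟨b₁, hb₁, -⟩ := Set.mem_iUnion₂.1 hv
              exact hcon b₁ hb₁,
          Submodule.span_empty, Submodule.mem_bot] at hm
        have := congrFun hm 1
        simp only [orderOf_one, Nat.dvd_one, OfNat.ofNat_ne_one, if_false, OneMemClass.coe_one,
          mul_one, Pi.zero_apply] at this
        exact char_one_ne_zero χ this
      obtain ⟨b₁, hb₁⟩ := hex
      obtain ⟨φ, hφ⟩ := isPBlock_nonempty hb₁.1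
      exact (hpos _ φ hφ).trans (Finset.single_le_sum (fun _ _ => Nat.zero_le _)
        (Subsections.mem_indBlocks.2 hb₁))
    have h2 : 2 ≤ ∑ b ∈ Subsections.indBlocks M x B, Cfsg.blockRank 2 b := by
      obtain ⟨φ, hφ⟩ := isPBlock_nonempty hb'.1
      have hsub : ({b, b'} : Finset _) ⊆ Subsections.indBlocks M x B := by
        intro c hc
        rcases Finset.mem_insert.1 hc with rfl | hc
        · exact Subsections.mem_indBlocks.2 hb
        · rw [Finset.mem_singleton.1 hc]; exact Subsections.mem_indBlocks.2 hb'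
      refine le_trans ?_ (Finset.sum_le_sum_of_subset hsub)
      rw [Finset.sum_pair (Ne.symm hne')]
      exact Nat.add_le_add (hpos _ θ hθ) (hpos _ φ hφ)
    have h3 := Subsections.card_eq_sum hM X hX hXrep hB
    have hsub : ({1, x} : Finset G) ⊆ X := by
      intro c hc
      rcases Finset.mem_insert.1 hc with rfl | hc
      · exact h1X
      · rw [Finset.mem_singleton.1 hc]; exact hxX
    have h4 := Finset.sum_le_sum_of_subset
      (f := fun y => ∑ b ∈ Subsections.indBlocks M y B, Cfsg.blockRank 2 b) hsub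
    rw [Finset.sum_pair (Ne.symm hx1), ← h3, hk] at h4
    omega
  -- the values on the section of `x`
  have hval : ∀ χ ∈ B, ∃ c : ℤ, ∀ y : (Subgroup.centralizer ({x} : Set G)), ¬ 2 ∣ orderOf y →
      (χ : G → ℂ) (x * y) = (c : ℂ) * (θ : (Subgroup.centralizer ({x} : Set G)) → ℂ) y := by
    intro χ hχ
    have hm := Subsections.mem_regSpan hM x (i := 1) (by rw [hx, pow_one]) hB hχ
    have hle : Submodule.span ℂ (⋃ b' ∈ {b' | Cfsg.IsInducedBlock M (Subgroup.centralizer ({x} : Set G)) b' B},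
        (fun φ : Cfsg.IrrCharacter (Subgroup.centralizer ({x} : Set G)) => Cfsg.pRegularPart 2 (φ : (Subgroup.centralizer ({x} : Set G)) → ℂ)) '' b') ≤
        Submodule.span ℂ {Cfsg.pRegularPart 2 (θ : (Subgroup.centralizer ({x} : Set G)) → ℂ)} := by
      refine Submodule.span_le.2 (Set.iUnion₂_subset fun b' hb' => ?_)
      rintro _ ⟨φ, hφ, rfl⟩
      rw [honly b' hb'] at hφ
      refine Submodule.mem_span_singleton.2 ⟨(φ : (Subgroup.centralizer ({x} : Set G)) → ℂ) 1 / (θ : (Subgroup.centralizer ({x} : Set G)) → ℂ) 1, funext fun y => ?_⟩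
      simp only [Pi.smul_apply, smul_eq_mul]
      rw [pRegularPart_apply, pRegularPart_apply]
      by_cases hy : 2 ∣ orderOf y
      · rw [if_pos hy, if_pos hy, mul_zero]
      · rw [if_neg hy, if_neg hy]
        exact (DefectOne.regular_smul hM hb.1 hdb hθ hφ hy).symm
    obtain ⟨c, hc⟩ := Submodule.mem_span_singleton.1 (hle hm)
    have hcy : ∀ y : (Subgroup.centralizer ({x} : Set G)), ¬ 2 ∣ orderOf y → (χ : G → ℂ) (x * y) = c * (θ : (Subgroup.centralizer ({x} : Set G)) → ℂ) y := by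
      intro y hy
      have h := congrFun hc y
      simp only [Pi.smul_apply, smul_eq_mul, pRegularPart_apply, if_neg hy] at h
      exact h.symm
    -- `c` is a difference of multiplicities
    set res : (Subgroup.centralizer ({x} : Set G)) → ℂ := fun y => (χ : G → ℂ) y
    have hres : Cfsg.IsCharacter (Subgroup.centralizer ({x} : Set G)) res := isCharacter_comp (Subgroup.centralizer ({x} : Set G)).subtype (isCharacter_irr χ)
    haveI := Fintype.ofFinite (Subgroup.centralizer ({z} : Set (Subgroup.centralizer ({x} : Set G))))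
    have htop : Subgroup.centralizer ({z} : Set (Subgroup.centralizer ({x} : Set G))) = ⊤ := eq_top_iff.2 fun g _ =>
      Subgroup.mem_centralizer_singleton_iff.2 (Subgroup.mem_center_iff.1 hzc g)
    have hip : ∀ φ : Cfsg.IrrCharacter (Subgroup.centralizer ({x} : Set G)), φ ∈ b → ∀ s : ℂ,
        (∀ y : (Subgroup.centralizer ({x} : Set G)), ¬ 2 ∣ orderOf y → (φ : (Subgroup.centralizer ({x} : Set G)) → ℂ) y = (θ : (Subgroup.centralizer ({x} : Set G)) → ℂ) y) →
        (∀ y : (Subgroup.centralizer ({x} : Set G)), (φ : (Subgroup.centralizer ({x} : Set G)) → ℂ) (z * y) = s * (φ : (Subgroup.centralizer ({x} : Set G)) → ℂ) y) →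
        (Nat.card (Subgroup.centralizer ({x} : Set G)) : ℂ) * Cfsg.classInner res φ =
          (∑ y ∈ Finset.univ.filter (fun y : (Subgroup.centralizer ({x} : Set G)) => ¬ 2 ∣ orderOf y), res y * conj ((θ : (Subgroup.centralizer ({x} : Set G)) → ℂ) y)) +
            c * conj s * ∑ y ∈ Finset.univ.filter (fun y : (Subgroup.centralizer ({x} : Set G)) => ¬ 2 ∣ orderOf y),
              (θ : (Subgroup.centralizer ({x} : Set G)) → ℂ) y * conj ((θ : (Subgroup.centralizer ({x} : Set G)) → ℂ) y) := by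
      intro φ hφ s hreg hs
      have hz1 : z ≠ 1 := fun h => by rw [h, orderOf_one] at hzo; omega
      have h := DefectOne.section_sum Nat.prime_two ⟨1, by rw [hzo, pow_one]⟩ hz1
        (f := fun y => res y * conj ((φ : (Subgroup.centralizer ({x} : Set G)) → ℂ) y))
        (fun g h => by
          simp only [res, isClassFunction_irr φ g h, Subgroup.coe_mul, Subgroup.coe_inv,
            isClassFunction_irr χ (g : G) (h : G)])
        (fun g u hu h1 hnc => by
          rw [DefectOne.mul_conj_vanish hM hb.1 hzo hbD hφ g u hu h1 hnc, map_zero, mul_zero])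
      rw [Cfsg.classInner, mul_inv_cancel_left₀ natCard_ne_zero, h,
        show (Subgroup.centralizer ({z} : Set _)).index = 1 by rw [htop, Subgroup.index_top],
        Nat.cast_one, one_mul, Finset.mul_sum]
      refine congrArg₂ (· + ·) (Finset.sum_congr rfl fun y hy => by
        rw [hreg y (Finset.mem_filter.1 hy).2]) ?_
      refine Finset.sum_bij (fun y _ => (y : (Subgroup.centralizer ({x} : Set G)))) (fun y hy => ?_) (fun a _ b _ e => Subtype.ext e)
        (fun y hy => ⟨⟨y, htop ▸ Subgroup.mem_top y⟩, ?_, rfl⟩) (fun y hy => ?_)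
      · rw [Finset.mem_filter, Subgroup.orderOf_coe]
        exact ⟨Finset.mem_univ _, (Finset.mem_filter.1 hy).2⟩
      · rw [Finset.mem_filter, ← Subgroup.orderOf_coe]
        exact ⟨@Finset.mem_univ _ (_) _, (Finset.mem_filter.1 hy).2⟩
      · have hy' : ¬ 2 ∣ orderOf (y : (Subgroup.centralizer ({x} : Set G))) := by
          rw [Subgroup.orderOf_coe]; exact (Finset.mem_filter.1 hy).2
        show (χ : G → ℂ) (x * ((y : (Subgroup.centralizer ({x} : Set G))) : G)) * conj ((φ : (Subgroup.centralizer ({x} : Set G)) → ℂ) (z * y)) = _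
        rw [hcy _ hy', hs, map_mul, hreg _ hy']
        ring
    obtain ⟨m₁, hm₁⟩ := exists_classInner_nat hres (isCharacter_irr θ)
    obtain ⟨m₂, hm₂⟩ := exists_classInner_nat hres (isCharacter_irr θ')
    have e1 := hip θ hθ 1 (fun _ _ => rfl) (fun y => by rw [hθz, one_mul])
    have e2 := hip θ' hθ' (-1) hθreg (fun y => by rw [hθneg, neg_one_mul])
    rw [hm₁, map_one, mul_one] at e1
    rw [hm₂, map_neg, map_one] at e2
    refine ⟨(m₁ : ℤ) - m₂, fun y hy => ?_⟩
    have hceq : c = (((m₁ : ℤ) - m₂ : ℤ) : ℂ) := by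
      refine mul_left_cancel₀ (natCard_ne_zero (G := (Subgroup.centralizer ({x} : Set G)))) ?_
      push_cast
      linear_combination (e2 - e1) - c * hT
    rw [← hceq, hcy y hy]
  choose! c hc using hval
  -- the two characters
  obtain ⟨χ₁, hχ₁⟩ := isPBlock_nonempty hB
  obtain ⟨χ₂, hχ₂, hne12⟩ : ∃ χ₂ ∈ B, χ₂ ≠ χ₁ := by
    by_contra hcon
    push Not at hcon
    have : B = {χ₁} := Set.eq_singleton_iff_unique_mem.2 ⟨hχ₁, hcon⟩
    rw [this, Nat.card_unique] at hk
    omega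
  have hreg := fun g hg => DefectOne.regular_smul hM hB hd hχ₁ hχ₂ (g := g) hg
  obtain ⟨a, ha0, ha⟩ := exists_degree_pos χ₁
  obtain ⟨a', ha0', ha'⟩ := exists_degree_pos χ₂
  set ρ : ℝ := (a' : ℝ) / a with hρ
  have hρpos : 0 < ρ := div_pos (Nat.cast_pos.2 ha0') (Nat.cast_pos.2 ha0)
  have hρC : (χ₂ : G → ℂ) 1 / (χ₁ : G → ℂ) 1 = (ρ : ℂ) := by rw [ha, ha', hρ]; push_cast; rfl
  set S : ℝ := (∑ g ∈ Finset.univ.filter (fun g : G => ¬ 2 ∣ orderOf g),
    Complex.normSq ((χ₁ : G → ℂ) g)) / Nat.card G with hS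
  have hS0 : 0 ≤ S := div_nonneg (Finset.sum_nonneg fun g _ => Complex.normSq_nonneg _) (Nat.cast_nonneg _)
  have heqn : ∀ φ ψ : Cfsg.IrrCharacter G, φ ∈ B → ψ ∈ B → ∀ u v : ℝ,
      (∀ g, ¬ 2 ∣ orderOf g → (φ : G → ℂ) g = (u : ℂ) * (χ₁ : G → ℂ) g) →
      (∀ g, ¬ 2 ∣ orderOf g → (ψ : G → ℂ) g = (v : ℂ) * (χ₁ : G → ℂ) g) →
      u * v * S + (c φ : ℝ) * (c ψ : ℝ) / 2 = if φ = ψ then 1 else 0 := by
    intro φ ψ hφ hψ u v hu hv
    have h := DefectOne.section_sum Nat.prime_two ⟨1, by rw [hx, pow_one]⟩ hx1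
      (f := fun g => (φ : G → ℂ) g * conj ((ψ : G → ℂ) g))
      (fun g h => by simp only [isClassFunction_irr φ g h, isClassFunction_irr ψ g h])
      (fun g u hu h1 hnc => by
        rw [DefectOne.mul_conj_vanish hM hB hx hBD hφ g u hu h1 hnc, zero_mul])
    have e1 : ∑ g ∈ Finset.univ.filter (fun g : G => ¬ 2 ∣ orderOf g),
        (φ : G → ℂ) g * conj ((ψ : G → ℂ) g) = ((u * v * (S * Nat.card G) : ℝ) : ℂ) := by
      rw [hS, div_mul_cancel₀ _ (Nat.cast_ne_zero.2 Nat.card_pos.ne'), Finset.mul_sum]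
      push_cast
      refine Finset.sum_congr rfl fun g hg => ?_
      rw [hu g (Finset.mem_filter.1 hg).2, hv g (Finset.mem_filter.1 hg).2, map_mul,
        Complex.conj_ofReal, ← Complex.mul_conj]
      ring
    have e2 : 2 * ∑ y ∈ Finset.univ.filter (fun y : (Subgroup.centralizer ({x} : Set G)) => ¬ 2 ∣ orderOf y),
        (φ : G → ℂ) (x * y) * conj ((ψ : G → ℂ) (x * y)) = (c φ : ℂ) * (c ψ : ℂ) * (Nat.card (Subgroup.centralizer ({x} : Set G)) : ℂ) := by
      rw [← hT, mul_left_comm _ (2 : ℂ), Finset.mul_sum (a := (c φ : ℂ) * (c ψ : ℂ))]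
      refine congrArg (2 * ·) (Finset.sum_congr rfl fun y hy => ?_)
      rw [hc φ hφ y (Finset.mem_filter.1 hy).2, hc ψ hψ y (Finset.mem_filter.1 hy).2, map_mul,
        map_intCast]
      ring
    have h0 := classInner_irr φ ψ
    rw [Cfsg.classInner, h, e1, inv_mul_eq_iff_eq_mul₀ natCard_ne_zero] at h0
    have hidx : (((Subgroup.centralizer ({x} : Set G)).index : ℂ)) * (Nat.card (Subgroup.centralizer ({x} : Set G)) : ℂ) = (Nat.card G : ℂ) := by
      rw [← Nat.cast_mul, Subgroup.index_mul_card]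
    have h5 : ((u * v * S + (c φ : ℝ) * (c ψ : ℝ) / 2 : ℝ) : ℂ) =
        ((if φ = ψ then 1 else 0 : ℝ) : ℂ) := by
      refine mul_left_cancel₀ (natCard_ne_zero (G := G)) ?_
      rw [show (((if φ = ψ then 1 else 0 : ℝ)) : ℂ) = if φ = ψ then (1 : ℂ) else 0 by split_ifs <;> simp]
      push_cast at h0 ⊢
      linear_combination h0 - ((Subgroup.centralizer ({x} : Set G)).index : ℂ) / 2 * e2 - ((c φ : ℂ) * (c ψ : ℂ) / 2) * hidx
    exact_mod_cast h5
  have hu1 : ∀ g, ¬ 2 ∣ orderOf g → (χ₁ : G → ℂ) g = ((1 : ℝ) : ℂ) * (χ₁ : G → ℂ) g := fun g _ => by simp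
  have hu2 : ∀ g, ¬ 2 ∣ orderOf g → (χ₂ : G → ℂ) g = (ρ : ℂ) * (χ₁ : G → ℂ) g := fun g hg => by
    rw [← hρC]; exact hreg g hg
  have E11 := heqn χ₁ χ₁ hχ₁ hχ₁ 1 1 hu1 hu1
  have E12 := heqn χ₁ χ₂ hχ₁ hχ₂ 1 ρ hu1 hu2
  have E22 := heqn χ₂ χ₂ hχ₂ hχ₂ ρ ρ hu2 hu2
  rw [if_pos rfl] at E11 E22
  rw [if_neg (Ne.symm hne12)] at E12
  simp only [one_mul] at E11 E12
  have hsmall : ∀ n : ℤ, (n : ℝ) * n / 2 ≤ 1 → n = 0 ∨ n = 1 ∨ n = -1 := by
    intro n hn
    have hn' : (n : ℝ) * n ≤ 2 := by linarith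
    have hn2 : n * n ≤ 2 := by exact_mod_cast hn'
    have hlo : -1 ≤ n := by nlinarith
    have hhi : n ≤ 1 := by nlinarith
    omega
  have hc1 : c χ₁ = 1 ∨ c χ₁ = -1 := by
    rcases hsmall (c χ₁) (by linarith) with h | h
    · exfalso
      rw [h] at E11 E12
      push_cast at E11 E12
      have : S = 1 := by linarith
      rw [this] at E12
      linarith
    · exact h
  have hc2 : c χ₂ = 1 ∨ c χ₂ = -1 := by
    rcases hsmall (c χ₂) (by nlinarith [mul_nonneg (mul_nonneg hρpos.le hρpos.le) hS0]) with h | h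
    · exfalso
      rw [h] at E12 E22
      push_cast at E12 E22
      have h2 : ρ * S = 0 := by linarith
      have h3 : ρ * ρ * S = 1 := by linarith
      rw [mul_assoc, h2, mul_zero] at h3
      exact zero_ne_one h3
    · exact h
  have hsq1 : (c χ₁ : ℝ) * c χ₁ = 1 := by rcases hc1 with h | h <;> simp [h]
  have hsq2 : (c χ₂ : ℝ) * c χ₂ = 1 := by rcases hc2 with h | h <;> simp [h]
  have hShalf : S = 1 / 2 := by linarith
  have hρ1 : ρ = 1 := by
    rw [hsq2, hShalf] at E22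
    have : ρ * ρ = 1 := by linarith
    rcases mul_self_eq_one_iff.1 this with h | h
    · exact h
    · linarith
  have hprod : c χ₁ * c χ₂ = -1 := by
    rw [hρ1, hShalf] at E12
    have : (c χ₁ : ℝ) * (c χ₂ : ℝ) = -1 := by linarith
    exact_mod_cast this
  have hall : ∀ χ ∈ B, χ = χ₁ ∨ χ = χ₂ := by
    intro χ hχ
    by_contra hcon
    push Not at hcon
    haveI := Fintype.ofFinite B
    have h3 : ({⟨χ, hχ⟩, ⟨χ₁, hχ₁⟩, ⟨χ₂, hχ₂⟩} : Finset B).card = 3 := by
      rw [Finset.card_eq_three]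
      exact ⟨_, _, _, fun e => hcon.1 (congrArg Subtype.val e), fun e => hcon.2 (congrArg Subtype.val e),
        fun e => hne12 (congrArg Subtype.val e).symm, rfl⟩
    have h4 := Finset.card_le_univ ({⟨χ, hχ⟩, ⟨χ₁, hχ₁⟩, ⟨χ₂, hχ₂⟩} : Finset B)
    rw [h3, ← Nat.card_eq_fintype_card, hk] at h4
    omega
  have hregeq : ∀ χ ∈ B, ∀ g : G, ¬ 2 ∣ orderOf g → (χ : G → ℂ) g = (χ₁ : G → ℂ) g := by
    intro χ hχ g hg
    rcases hall χ hχ with rfl | rfl
    · rfl
    · rw [hu2 g hg, hρ1, Complex.ofReal_one, one_mul]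
  exact ⟨hk, fun χ hχ ψ hψ g hg => by rw [hregeq χ hχ g hg, hregeq ψ hψ g hg], χ₁, hχ₁, χ₂, hχ₂,
    Ne.symm hne12, c χ₁, c χ₂, hc1, hc2, hprod, fun y hy => ⟨hc χ₁ hχ₁ y hy, hc χ₂ hχ₂ y hy⟩⟩

end Cfsg.Agent.S4513
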