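import Cfsg.Statements.S4514
import Cfsg.Agent.Lib.ConstDiff79.Main

set_option autoImplicit false
open Cfsg

namespace Cfsg.Agent.S4514

/-- Let G be a finite group, u an element of G, and fix a maximal ideal M of the algebraic integers containing 2 (defining the 2-blocks). There is a complex number k with χ(1) − χ(u) = k for every non-principal irreducible character χ in the principal 2-block if and only if one of the following holds: u lies in O(G); or G/O(G) has order 2 and u ∉ O(G); or G/O(G) ≅ PSL(2, 2ⁿ) for some n ≥ 2, u ∉ O(G) and u² ∈ O(G). -/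
theorem result {G : Type*} [Group G] [Finite G] (M : Ideal Cfsg.AlgInt) (hM : Cfsg.IsPModular 2 M) (u : G) :
    (∃ k : ℂ, ∀ χ : Cfsg.IrrCharacter G, χ ∈ Cfsg.principalBlock M G → (χ : G → ℂ) ≠ (fun _ => 1) →
        (χ : G → ℂ) 1 - (χ : G → ℂ) u = k) ↔
      (u ∈ Cfsg.oddCore G ∨ (Nat.card (G ⧸ Cfsg.oddCore G) = 2 ∧ u ∉ Cfsg.oddCore G) ∨
        (∃ (F : Type) (_ : Field F) (_ : Fintype F) (n : ℕ), 2 ≤ n ∧ Fintype.card F = 2 ^ n ∧
          Nonempty (G ⧸ Cfsg.oddCore G ≃* Matrix.ProjectiveSpecialLinearGroup (Fin 2) F) ∧ u ∉ Cfsg.oddCore G ∧ u ^ 2 ∈ Cfsg.oddCore G)) := by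
  haveI := hM.2.1
  rw [← Cfsg.Agent.Lib.ConstDiff79.isConst_iff hM u]
  refine exists_congr fun k => ⟨fun h χ hχ => ?_, fun h χ hB hne => ?_⟩
  · obtain ⟨hne, hB⟩ := Cfsg.Agent.Lib.ConstDiff79.mem_nontriv.1 hχ
    exact h χ hB fun e => hne (Subtype.ext e)
  · exact h χ (Cfsg.Agent.Lib.ConstDiff79.mem_nontriv.2
      ⟨fun e => hne (congrArg Subtype.val e), hB⟩)

end Cfsg.Agent.S4514
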