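import Cfsg.Statements.S4517
import Cfsg.Agent.Lib.BC78.FullDefect

set_option autoImplicit false
open Cfsg
open scoped ComplexConjugate
open Cfsg.Agent.Lib Cfsg.Agent.Lib.Characters Cfsg.Agent.Lib.Induced.Basic Cfsg.Agent.Lib.Characters.Basic
open Cfsg.Agent.Lib.BC78

namespace Cfsg.Agent.S4517

/-- Let G be a finite group, M a maximal ideal of the algebraic integers containing 2, and k a natural number coprime to the order of G with g ^ k = g⁻¹ for every element g of odd order (so that g ↦ g ^ k induces a field automorphism of the character values inverting the roots of unity of odd order). If B is a 2-block of full defect (its defect equals the exponent of 2 in the order of G) that is stable under χ ↦ χ ∘ (· ^ k), then B is the principal 2-block. -/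
theorem result {G : Type*} [Group G] [Finite G] (M : Ideal Cfsg.AlgInt) (hM : Cfsg.IsPModular 2 M) (k : ℕ) (hk : Nat.Coprime k (Nat.card G)) (hk₂ : ∀ g : G, Odd (orderOf g) → g ^ k = g⁻¹) (B : Set (Cfsg.IrrCharacter G)) (hB : Cfsg.IsPBlock M B) (hdef : Cfsg.blockDefect 2 B = (Nat.card G).factorization 2) (hstab : ∀ χ ∈ B, ∃ ψ ∈ B, ∀ g : G, (ψ : G → ℂ) g = (χ : G → ℂ) (g ^ k)) : B = Cfsg.principalBlock M G := by
  classical
  haveI := hM.2.1
  refine FullDefect.eq_principal_of_symm hM hB hdef fun g hg => ?_
  choose! f hf hfk using hstab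
  have hinj : Set.InjOn f B := by
    intro a ha b hb hab
    apply Subtype.ext
    funext x
    obtain ⟨m, rfl⟩ := (powCoprime (G := G) hk.symm).surjective x
    have h1 := hfk a ha m
    rw [hab, hfk b hb m] at h1
    exact h1.symm
  have hbij : Set.BijOn f B B := ((Set.toFinite B).injOn_iff_bijOn_of_mapsTo hf).1 hinj
  have key : Cfsg.blockCoeff B (g ^ k) = Cfsg.blockCoeff B g := by
    simp only [Cfsg.blockCoeff]
    congr 1
    refine finsum_mem_eq_of_bijOn f hbij fun χ hχ => ?_
    rw [hfk χ hχ g, hfk χ hχ 1, one_pow]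
  rwa [hk₂ g hg] at key

end Cfsg.Agent.S4517
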