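import Cfsg.Statements.S4518
import Cfsg.Agent.Lib.BC78.Clifford
import Cfsg.Agent.Lib.BC78.PowChar
import Mathlib.GroupTheory.GroupAction.Quotient
import Mathlib.GroupTheory.PGroup

set_option autoImplicit false
open Cfsg

namespace Cfsg.Agent.S4518

open scoped ComplexConjugate
open Cfsg.Agent.Lib.BC78.Clifford Cfsg.Agent.Lib.BC78.PowChar

theorem result {G : Type*} [Group G] [Fintype G] (p : ℕ) [Fact p.Prime] (N : Subgroup G) [N.Normal] [Fintype N] (hidx : ¬ p ∣ N.index) (k e : ℕ) (hk : Nat.Coprime k (Nat.card G)) (hke : k ^ (p ^ e) ≡ 1 [MOD Nat.card G]) (χ : Cfsg.IrrCharacter G) (hχ : ∀ g : G, (χ : G → ℂ) (g ^ k) = (χ : G → ℂ) g) (θ : Cfsg.IrrCharacter N) (hθ : Cfsg.classInner (fun n : N => (χ : G → ℂ) n) (θ : N → ℂ) ≠ 0) : ∀ n : N, (θ : N → ℂ) (n ^ k) = (θ : N → ℂ) n := by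
  classical
  have hkN : k.Coprime (Nat.card N) :=
    Nat.Coprime.coprime_dvd_right (Subgroup.card_subgroup_dvd_card N) hk
  let s : Cfsg.IrrCharacter N → Cfsg.IrrCharacter N := fun φ =>
    ⟨fun n => (φ : N → ℂ) (n ^ k), isIrrCharacter_pow φ.2 hkN⟩
  -- constituents
  let O := {φ : Cfsg.IrrCharacter N // Cfsg.classInner (fun n : N => (χ : G → ℂ) n) φ ≠ 0}
  have hs : ∀ φ : Cfsg.IrrCharacter N, Cfsg.classInner (fun n : N => (χ : G → ℂ) n) (s φ) =
      Cfsg.classInner (fun n : N => (χ : G → ℂ) n) φ := by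
    intro φ
    simp only [Cfsg.classInner]
    congr 1
    refine Fintype.sum_bijective _ (powCoprime (G := N) hkN.symm).bijective _ _ fun n => ?_
    have h1 : ((powCoprime (G := N) hkN.symm n : N) : G) = (n : G) ^ k := by simp
    rw [h1, hχ]
    rfl
  have hcomm : ∀ (φ : Cfsg.IrrCharacter N) (g : G), s (conjIrr N φ g) = conjIrr N (s φ) g := by
    intro φ g
    apply Subtype.ext
    funext n
    exact congrArg (φ : N → ℂ) (Subtype.ext (by simp [conj_pow]))
  have hinj : Function.Injective s := by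
    intro a b hab
    apply Subtype.ext
    funext n
    obtain ⟨m, rfl⟩ := (powCoprime (G := N) hkN.symm).surjective n
    exact congrFun (congrArg Subtype.val hab) m
  haveI : Finite (Cfsg.IrrCharacter N) := Cfsg.Agent.Lib.Characters.Basic.irrCharacterFinite
  let σ : Equiv.Perm O := Equiv.ofBijective (fun φ => ⟨s φ.1, by rw [hs]; exact φ.2⟩)
    (Finite.injective_iff_bijective.1 fun a b hab => Subtype.ext (hinj (congrArg Subtype.val hab)))
  have hσpow : ∀ (j : ℕ) (φ : O) (n : N),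
      (((σ ^ j) φ).1 : N → ℂ) n = (φ.1 : N → ℂ) (n ^ k ^ j) := by
    intro j
    induction j with
    | zero => simp
    | succ j ih =>
      intro φ n
      rw [pow_succ' σ, Equiv.Perm.mul_apply]
      change (((σ ^ j) φ).1 : N → ℂ) (n ^ k) = _
      rw [ih, ← pow_mul, ← pow_succ']
  have hσ : σ ^ p ^ e = 1 := by
    ext φ : 2
    apply Subtype.ext
    funext n
    rw [hσpow]
    change (φ.1 : N → ℂ) _ = (φ.1 : N → ℂ) n
    suffices hn' : n ^ k ^ p ^ e = n by rw [hn']
    apply Subtype.ext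
    have h : (k ^ p ^ e) ≡ 1 [MOD orderOf (n : G)] := hke.of_dvd (orderOf_dvd_natCard _)
    rw [SubmonoidClass.coe_pow]
    simpa using (pow_eq_pow_iff_modEq (x := (n : G))).2 h
  have hpg : IsPGroup p (Subgroup.zpowers σ) := by
    apply IsPGroup.of_card_dvd_pow (n := e)
    rw [Nat.card_zpowers]
    exact orderOf_dvd_of_pow_eq_one hσ
  -- the conjugation action
  let act : MulAction G O :=
    { smul := fun g φ => ⟨conjIrr N φ.1 g⁻¹, by rw [classInner_conjIrr]; exact φ.2⟩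
      one_smul := fun φ => Subtype.ext (by
        change conjIrr N φ.1 1⁻¹ = φ.1
        rw [inv_one, conjIrr_one])
      mul_smul := fun a b φ => Subtype.ext (by
        change conjIrr N φ.1 (a * b)⁻¹ = conjIrr N (conjIrr N φ.1 b⁻¹) a⁻¹
        rw [conjIrr_conjIrr, mul_inv_rev]) }
  haveI : MulAction.IsPretransitive G O := ⟨fun a b => by
    obtain ⟨g, hg⟩ := exists_conj_eq N χ a.1 b.1 a.2 b.2
    exact ⟨g⁻¹, Subtype.ext (by change conjIrr N a.1 g⁻¹⁻¹ = b.1; rw [inv_inv, hg])⟩⟩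
  have hnd : ¬ p ∣ Nat.card O := by
    intro hdvd
    apply hidx
    rw [← MulAction.index_stabilizer_of_transitive G (⟨θ, hθ⟩ : O)] at hdvd
    refine hdvd.trans (Subgroup.index_dvd_of_le ?_)
    intro n hn
    exact Subtype.ext (conjIrr_mem N θ (inv_mem hn))
  obtain ⟨φ, hφ⟩ := hpg.nonempty_fixed_point_of_prime_not_dvd_card O hnd
  have hfix : s φ.1 = φ.1 := congrArg Subtype.val (hφ ⟨σ, Subgroup.mem_zpowers σ⟩)
  obtain ⟨g, hg⟩ := exists_conj_eq N χ φ.1 θ φ.2 hθ
  have : s θ = θ := by rw [← hg, hcomm, hfix]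
  exact fun n => congrFun (congrArg Subtype.val this) n

end Cfsg.Agent.S4518
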