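import Cfsg.Statements.S4520
import Cfsg.Agent.Lib.BC78.SigmaFixed
import Cfsg.Agent.Lib.BC78.PBRestrict

set_option autoImplicit false
open Cfsg
open Cfsg.Agent.Lib Cfsg.Agent.Lib.Blocks Cfsg.Agent.Lib.Blocks.Contrib
open Cfsg.Agent.Lib.Characters.Basic Cfsg.Agent.Lib.BC78

namespace Cfsg.Agent.S4520

/-- Let N be a normal subgroup of odd index in the finite group G, M a maximal ideal of the algebraic integers containing 2, and k coprime to the order of G with k ^ (2 ^ e) ≡ 1 modulo the order of G for some e and g ^ k = g⁻¹ for every element g of odd order. Let θ be an irreducible character of N and χ an irreducible character of G over θ, both unchanged by composing with g ↦ g ^ k. Then χ lies in the principal 2-block of G if and only if θ lies in the principal 2-block of N. -/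
theorem result {G : Type*} [Group G] [Fintype G] (M : Ideal Cfsg.AlgInt) (hM : Cfsg.IsPModular 2 M) (N : Subgroup G) [N.Normal] [Fintype N] (hidx : Odd N.index) (k e : ℕ) (hk : Nat.Coprime k (Nat.card G)) (hke : k ^ (2 ^ e) ≡ 1 [MOD Nat.card G]) (hk₂ : ∀ g : G, Odd (orderOf g) → g ^ k = g⁻¹) (θ : Cfsg.IrrCharacter N) (hθ : ∀ n : N, (θ : N → ℂ) (n ^ k) = (θ : N → ℂ) n) (χ : Cfsg.IrrCharacter G) (hχ : ∀ g : G, (χ : G → ℂ) (g ^ k) = (χ : G → ℂ) g) (hover : Cfsg.classInner (fun n : N => (χ : G → ℂ) n) (θ : N → ℂ) ≠ 0) : χ ∈ Cfsg.principalBlock M G ↔ θ ∈ Cfsg.principalBlock M N := by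
  classical
  haveI := hM.2.1
  haveI : Fact (Nat.Prime 2) := ⟨Nat.prime_two⟩
  haveI := Fintype.ofFinite (Cfsg.IrrCharacter G)
  constructor
  · intro hχB
    obtain ⟨g, hg⟩ := BrauerMap.Covering.exists_conj_mem_of_constituents (M := M) N
      (χ := oneChar G) (χ' := χ) (θ := oneChar N) hχB
      (by
        rw [show BrauerMap.Normal.resFun N (oneChar G : G → ℂ) = (oneChar N : N → ℂ) from rfl,
          classInner_self_irr]
        exact one_ne_zero) hover
    have hg' : BrauerMap.Normal.conjIrr N g θ ∈ Cfsg.principalBlock M N := hg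
    refine PBRestrict.mem_principalBlock_comp (MulAut.conjNormal g⁻¹ : N ≃* N) hg' fun n => ?_
    rw [BrauerMap.Normal.conjIrr_apply]
    refine congrArg (θ : N → ℂ) (Subtype.ext ?_)
    show (n : G) = g * (MulAut.conjNormal g⁻¹ n : G) * g⁻¹
    rw [MulAut.conjNormal_apply]
    group
  · intro hθB
    by_contra hχB
    have huniq : ∀ φ : Cfsg.IrrCharacter G,
        Cfsg.classInner (fun n : N => (φ : G → ℂ) n) (θ : N → ℂ) ≠ 0 →
        (∀ g : G, (φ : G → ℂ) (g ^ k) = (φ : G → ℂ) g) → φ = χ := by
      obtain ⟨χ₀, -, -, -, h⟩ :=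
        SigmaFixed.exists_unique_over (G := G) (k := k) ⟨hk, hk₂⟩ N hidx (θ := θ) hθ
      exact fun φ h1 h2 => (h φ h1 h2).trans (h χ hover hχ).symm
    -- the permutation of the characters
    let sp : Cfsg.IrrCharacter G → Cfsg.IrrCharacter G := fun φ =>
      ⟨fun g => (φ : G → ℂ) (g ^ k), PowChar.isIrrCharacter_pow φ.2 hk⟩
    have hsurj : ∀ g : G, ∃ m : G, m ^ k = g := (powCoprime (G := G) hk.symm).surjective
    have hspi : Function.Injective sp := fun a b hab => Subtype.ext (funext fun g => by
      obtain ⟨m, rfl⟩ := hsurj g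
      exact congrFun (congrArg Subtype.val hab) m)
    let σ : Equiv.Perm (Cfsg.IrrCharacter G) :=
      Equiv.ofBijective sp (Finite.injective_iff_bijective.1 hspi)
    have hσpow : ∀ (j : ℕ) (φ : Cfsg.IrrCharacter G) (g : G),
        ((σ ^ j) φ : G → ℂ) g = (φ : G → ℂ) (g ^ k ^ j) := by
      intro j
      induction j with
      | zero => simp
      | succ j ih =>
        intro φ g
        rw [pow_succ' σ, Equiv.Perm.mul_apply]
        change ((σ ^ j) φ : G → ℂ) (g ^ k) = _
        rw [ih, ← pow_mul, ← pow_succ']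
    have hσ : σ ^ 2 ^ e = 1 := by
      ext φ : 1
      apply Subtype.ext
      funext g
      rw [hσpow]
      refine congrArg (φ : G → ℂ) ?_
      conv_rhs => rw [← pow_one g]
      rw [pow_eq_pow_iff_modEq]
      exact hke.of_dvd (orderOf_dvd_natCard g)
    have hpg : IsPGroup 2 (Subgroup.zpowers σ) := by
      apply IsPGroup.of_card_dvd_pow (n := e)
      rw [Nat.card_zpowers]
      exact orderOf_dvd_of_pow_eq_one hσ
    have hcen : ∀ g : G, Subgroup.centralizer ({g ^ k} : Set G) = Subgroup.centralizer ({g} : Set G) := by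
      intro g
      ext u
      rw [Subgroup.mem_centralizer_singleton_iff, Subgroup.mem_centralizer_singleton_iff]
      refine ⟨fun h => ?_, fun h => (show Commute u g from h).pow_right k⟩
      obtain ⟨m, hm⟩ := exists_pow_eq_self_of_coprime (x := g)
        (Nat.Coprime.coprime_dvd_right (orderOf_dvd_natCard g) hk)
      have := (show Commute u (g ^ k) from h).pow_right m
      rwa [hm] at this
    have hmem : ∀ φ, sp φ ∈ Cfsg.principalBlock M G ↔ φ ∈ Cfsg.principalBlock M G := by
      intro φ
      rw [Chars82.PrincipalBlock.mem_principalBlock_iff, Chars82.PrincipalBlock.mem_principalBlock_iff]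
      refine ⟨fun h g => ?_, fun h g => ?_⟩
      · obtain ⟨m, rfl⟩ := hsurj g
        have := h m
        simp only [Cfsg.centralChar, hcen, sp, one_pow] at this ⊢
        exact this
      · have := h (g ^ k)
        simp only [Cfsg.centralChar, hcen, sp, one_pow] at this ⊢
        exact this
    have hinner : ∀ φ : Cfsg.IrrCharacter G,
        Cfsg.classInner (fun n : N => (sp φ : G → ℂ) n) (θ : N → ℂ) =
          Cfsg.classInner (fun n : N => (φ : G → ℂ) n) (θ : N → ℂ) := fun φ => by
      simp only [Cfsg.classInner]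
      congr 1
      refine Fintype.sum_bijective (fun n : N => n ^ k) (powCoprime (G := N)
        (hk.coprime_dvd_right N.card_subgroup_dvd_card).symm).bijective _ _ fun n => ?_
      show (φ : G → ℂ) ((n : G) ^ k) * _ = (φ : G → ℂ) ((n ^ k : N) : G) * _
      rw [Subgroup.coe_pow, hθ]
    -- the terms of the weighted sum
    let t : Cfsg.IrrCharacter G → ℂ := fun φ => if φ ∈ Cfsg.principalBlock M G then
      Cfsg.classInner (fun n : N => (φ : G → ℂ) n) (θ : N → ℂ) * (φ : G → ℂ) 1 / (θ : N → ℂ) 1 else 0
    have ht : ∀ φ, t φ ∈ localRing M := by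
      intro φ
      simp only [t]
      split_ifs with h
      · obtain ⟨a, ha⟩ := exists_classInner_nat (G := N)
          (isCharacter_comp N.subtype (isCharacter_irr φ)) (isCharacter_irr θ)
        change Cfsg.classInner (fun n : N => (φ : G → ℂ) n) (θ : N → ℂ) = a at ha
        by_cases h0 : Cfsg.classInner (fun n : N => (φ : G → ℂ) n) (θ : N → ℂ) = 0
        · rw [h0, zero_mul, zero_div]; exact zero_mem _
        · rw [Lib.Clifford.Basic.clifford_degree N φ.2 θ h0, ha, mul_div_assoc,
            mul_div_cancel_right₀ _ (char_one_ne_zero θ)]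
          exact mul_mem (natCast_mem _ _) (mul_mem (natCast_mem _ _) (natCast_mem _ _))
      · exact zero_mem _
    let F : Cfsg.IrrCharacter G → Cfsg.AlgInt ⧸ M := fun φ => residue M (⟨t φ, ht φ⟩ : localRing M)
    have hFinv : ∀ (u : Subgroup.zpowers σ) (φ : Cfsg.IrrCharacter G), F (u • φ) = F φ := by
      rintro ⟨u, hu⟩ φ
      obtain ⟨j, rfl⟩ := (isOfFinOrder_of_finite σ).mem_powers_iff_mem_zpowers.2 hu
      change F ((σ ^ j) φ) = F φ
      clear hu
      induction j with
      | zero => rfl
      | succ j ih =>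
        rw [pow_succ' σ, Equiv.Perm.mul_apply]
        refine Eq.trans (congrArg (residue M) (Subtype.ext ?_)) ih
        show t (sp ((σ ^ j) φ)) = t ((σ ^ j) φ)
        simp only [t, hmem, hinner]
        simp only [sp, one_pow]
    haveI := charP_residue hM
    have hsum : ∑ φ, F φ = 0 := by
      rw [BrauerMap.Basic.sum_eq_sum_fixed hpg F hFinv]
      refine Finset.sum_eq_zero fun φ hφ => ?_
      have hfix : sp φ = φ := (Finset.mem_filter.1 hφ).2 ⟨σ, Subgroup.mem_zpowers σ⟩
      rw [residue_eq_zero_iff]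
      show Cfsg.MemLocalIdeal M (t φ)
      simp only [t]
      split_ifs with h
      · by_cases h0 : Cfsg.classInner (fun n : N => (φ : G → ℂ) n) (θ : N → ℂ) = 0
        · rw [h0, zero_mul, zero_div]; exact memLocalIdeal_zero
        · exact absurd (huniq φ h0 (fun g => congrFun (congrArg Subtype.val hfix) g) ▸ h) hχB
      · exact memLocalIdeal_zero
    rw [← map_sum, residue_eq_zero_iff] at hsum
    push_cast at hsum
    refine Local.not_memLocalIdeal_sum_mul hM N hθB ?_
    have hw := Local.weighted_eq hM N (Cfsg.principalBlock M G) θ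
    have heq : ∑ φ, t φ = (N.index : ℂ) *
        ((∑ n : N, Cfsg.blockCoeff (Cfsg.principalBlock M G) (n : G) * (θ : N → ℂ) n) /
          (θ : N → ℂ) 1) := by
      rw [← mul_div_assoc, ← hw, Finset.sum_div, ← Finset.sum_subset (Finset.subset_univ (bset _))
        (fun φ _ hφ => if_neg (fun h => hφ (mem_bset.2 h)))]
      exact Finset.sum_congr rfl fun φ hφ => if_pos (mem_bset.1 hφ)
    rw [heq] at hsum
    have h2 : ¬ 2 ∣ N.index := fun h => (Nat.not_even_iff_odd.2 hidx) (even_iff_two_dvd.2 h)
    have := memLocalIdeal_mul_left (natCast_inv_mem_localRing hM h2) hsum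
    rwa [inv_mul_cancel_left₀ (Nat.cast_ne_zero.2 Subgroup.index_ne_zero_of_finite)] at this

end Cfsg.Agent.S4520
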