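import Cfsg.Statements.S4521
import Cfsg.Agent.Lib.BC78.RegClasses
import Cfsg.Agent.Lib.Clifford.Basic
import Cfsg.Agent.Lib.Blocks.Orthogonality

set_option autoImplicit false
open Cfsg
open Cfsg.Agent.Lib Cfsg.Agent.Lib.Blocks Cfsg.Agent.Lib.Induced.Basic Cfsg.Agent.Lib.Characters.Basic
open Cfsg.Agent.Lib.BC78

namespace Cfsg.Agent.S4521

/-- Let the finite group G be generated by subgroups U₁ and U₂ that commute elementwise and whose intersection is a p-group, and let M be a maximal ideal of the algebraic integers containing the prime p. If the irreducible character χ of G has the irreducible constituents ψ₁ on U₁ and ψ₂ on U₂, then χ lies in the principal block of G if and only if ψ₁ and ψ₂ lie in the principal blocks of U₁ and U₂. -/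
theorem result {G : Type*} [Group G] [Fintype G] (p : ℕ) [Fact p.Prime] (M : Ideal Cfsg.AlgInt) (hM : Cfsg.IsPModular p M) (U₁ U₂ : Subgroup G) [Fintype U₁] [Fintype U₂] (hcomm : ∀ u ∈ U₁, ∀ v ∈ U₂, u * v = v * u) (hgen : U₁ ⊔ U₂ = ⊤) (hZ : IsPGroup p ↥(U₁ ⊓ U₂)) (χ : Cfsg.IrrCharacter G) (ψ₁ : Cfsg.IrrCharacter U₁) (ψ₂ : Cfsg.IrrCharacter U₂) (h₁ : Cfsg.classInner (fun u : U₁ => (χ : G → ℂ) u) (ψ₁ : U₁ → ℂ) ≠ 0) (h₂ : Cfsg.classInner (fun u : U₂ => (χ : G → ℂ) u) (ψ₂ : U₂ → ℂ) ≠ 0) : χ ∈ Cfsg.principalBlock M G ↔ (ψ₁ ∈ Cfsg.principalBlock M U₁ ∧ ψ₂ ∈ Cfsg.principalBlock M U₂) := by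
  classical
  haveI := hM.2.1
  have hp : p.Prime := Fact.out
  have hsplit : ∀ g : G, ∃ u : U₁, ∃ v : U₂, (u : G) * v = g := by
    intro g
    let S : Subgroup G :=
      { carrier := {g | ∃ u : U₁, ∃ v : U₂, (u : G) * v = g}
        one_mem' := ⟨1, 1, by simp⟩
        mul_mem' := by
          rintro _ _ ⟨u, v, rfl⟩ ⟨u', v', rfl⟩
          refine ⟨u * u', v * v', ?_⟩
          rw [Subgroup.coe_mul, Subgroup.coe_mul, mul_assoc, ← mul_assoc (u' : G),
            hcomm u' u'.2 v v.2]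
          group
        inv_mem' := by
          rintro _ ⟨u, v, rfl⟩
          refine ⟨u⁻¹, v⁻¹, ?_⟩
          rw [Subgroup.coe_inv, Subgroup.coe_inv, mul_inv_rev]
          exact hcomm _ (inv_mem u.2) _ (inv_mem v.2) }
    have h : U₁ ⊔ U₂ ≤ S := sup_le (fun x hx => ⟨⟨x, hx⟩, 1, by simp⟩) fun x hx => ⟨1, ⟨x, hx⟩, by simp⟩
    exact h (hgen ▸ Subgroup.mem_top g)
  have hconj₁ : ∀ (a : U₁) (b : U₂) (u : U₁),
      (a : G) * b * u * ((a : G) * b)⁻¹ = (a : G) * u * (a : G)⁻¹ := fun a b u => by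
    rw [mul_inv_rev, mul_assoc (a : G) b, ← hcomm u u.2 b b.2]; group
  have hconj₂ : ∀ (a : U₁) (b : U₂) (v : U₂),
      (a : G) * b * v * ((a : G) * b)⁻¹ = (b : G) * v * (b : G)⁻¹ := fun a b v => by
    have h := hcomm a a.2 _ (mul_mem (mul_mem b.2 v.2) (inv_mem b.2))
    calc (a : G) * b * v * ((a : G) * b)⁻¹ = (a : G) * ((b : G) * v * (b : G)⁻¹) * (a : G)⁻¹ := by group
      _ = _ := by rw [h, mul_inv_cancel_right]
  haveI hn₁ : U₁.Normal := ⟨fun u hu g => by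
    obtain ⟨a, b, rfl⟩ := hsplit g
    rw [show (a : G) * b * u * ((a : G) * b)⁻¹ = _ from hconj₁ a b ⟨u, hu⟩]
    exact mul_mem (mul_mem a.2 hu) (inv_mem a.2)⟩
  haveI hn₂ : U₂.Normal := ⟨fun v hv g => by
    obtain ⟨a, b, rfl⟩ := hsplit g
    rw [show (a : G) * b * v * ((a : G) * b)⁻¹ = _ from hconj₂ a b ⟨v, hv⟩]
    exact mul_mem (mul_mem b.2 hv) (inv_mem b.2)⟩
  -- multiplicativity
  have hmul : ∀ (u : U₁) (v : U₂),
      (χ : G → ℂ) (u * v) = (χ : G → ℂ) u * (χ : G → ℂ) v / (χ : G → ℂ) 1 := by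
    intro u v
    have h := sum_char_conj_mul χ (v : G) (u : G)
    rw [Finset.sum_congr rfl (g := fun _ => (χ : G → ℂ) (u * v)) fun g _ => by
      obtain ⟨a, b, rfl⟩ := hsplit g
      rw [hconj₁ a b u, ← isClassFunction_irr χ ((u : G) * v) (a : G)]
      congr 1
      rw [mul_assoc ((a : G) * u), hcomm _ (inv_mem a.2) v v.2]
      group, Finset.sum_const, Finset.card_univ, nsmul_eq_mul, ← Nat.card_eq_fintype_card] at h
    refine mul_left_cancel₀ natCard_ne_zero (h.trans ?_)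
    ring
  have hres : ∀ (U : Subgroup G) [U.Normal] [Fintype U] (ψ : Cfsg.IrrCharacter U),
      Cfsg.classInner (fun u : U => (χ : G → ℂ) u) (ψ : U → ℂ) ≠ 0 →
      (∀ g, Lib.Clifford.Basic.conjC U g (ψ : U → ℂ) = (ψ : U → ℂ)) →
      ∀ u : U, (χ : G → ℂ) u / (χ : G → ℂ) 1 = (ψ : U → ℂ) u / (ψ : U → ℂ) 1 := by
    intro U _ _ ψ hne hinv u
    have h := Lib.Clifford.Basic.restrict_eq_smul U χ.2 ψ hne hinv
    have h1 := congrFun h 1
    simp only [Pi.smul_apply, smul_eq_mul, OneMemClass.coe_one] at h1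
    have hu := congrFun h u
    simp only [Pi.smul_apply, smul_eq_mul] at hu
    rw [hu, h1, mul_div_mul_left _ _ hne]
  have hinv₁ : ∀ g, Lib.Clifford.Basic.conjC U₁ g (ψ₁ : U₁ → ℂ) = (ψ₁ : U₁ → ℂ) := fun g => by
    obtain ⟨a, b, rfl⟩ := hsplit g
    funext u
    rw [Lib.Clifford.Basic.conjC_apply]
    refine Eq.trans (congrArg (ψ₁ : U₁ → ℂ) (Subtype.ext ?_)) (isClassFunction_irr ψ₁ u a)
    exact hconj₁ a b u
  have hinv₂ : ∀ g, Lib.Clifford.Basic.conjC U₂ g (ψ₂ : U₂ → ℂ) = (ψ₂ : U₂ → ℂ) := fun g => by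
    obtain ⟨a, b, rfl⟩ := hsplit g
    funext v
    rw [Lib.Clifford.Basic.conjC_apply]
    refine Eq.trans (congrArg (ψ₂ : U₂ → ℂ) (Subtype.ext ?_)) (isClassFunction_irr ψ₂ v b)
    exact hconj₂ a b v
  -- regular parts
  have hfac : ∀ g : G, ¬ p ∣ orderOf g → ∃ u : U₁, ∃ v : U₂,
      ¬ p ∣ orderOf (u : G) ∧ ¬ p ∣ orderOf (v : G) ∧ (u : G) * v = g := by
    intro g hg
    obtain ⟨u, v, huv⟩ := hsplit g
    have hc : Commute (u : G) v := hcomm u u.2 v v.2
    -- a multiple of `p ^ a` fixing `g`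
    set N := Nat.card G with hN
    obtain ⟨a, o, ho, hao⟩ := Nat.exists_eq_pow_mul_and_not_dvd (Nat.card_pos (α := G)).ne' p hp.ne_one
    obtain ⟨e, he1, he2⟩ := Nat.chineseRemainder
      (Nat.Coprime.pow_right a ((Nat.Prime.coprime_iff_not_dvd hp).2 hg).symm :
        Nat.Coprime (orderOf g) (p ^ a)) 1 0
    have hpow : ∀ x : G, ¬ p ∣ orderOf (x ^ e) := by
      intro x hd
      refine ho (hd.trans (orderOf_dvd_of_pow_eq_one ?_))
      obtain ⟨c, hc⟩ := Nat.modEq_zero_iff_dvd.1 he2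
      rw [← pow_mul, hc, mul_right_comm, ← hao, pow_mul, pow_card_eq_one', one_pow]
    refine ⟨u ^ e, v ^ e, by rw [Subgroup.coe_pow]; exact hpow _, by rw [Subgroup.coe_pow]; exact hpow _, ?_⟩
    rw [Subgroup.coe_pow, Subgroup.coe_pow, ← hc.mul_pow, huv]
    conv_rhs => rw [← pow_one g]
    exact pow_eq_pow_iff_modEq.2 he1
  have huniq : ∀ (u u' : U₁) (v v' : U₂), ¬ p ∣ orderOf (u : G) → ¬ p ∣ orderOf (u' : G) →
      (u : G) * v = (u' : G) * v' → u = u' ∧ v = v' := by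
    intro u u' v v' hu hu' he
    have hmem : (u : G)⁻¹ * u' ∈ U₁ ⊓ U₂ := by
      refine Subgroup.mem_inf.2 ⟨mul_mem (inv_mem u.2) u'.2, ?_⟩
      rw [show (u : G)⁻¹ * u' = (v : G) * (v' : G)⁻¹ by
        rw [inv_mul_eq_iff_eq_mul, ← mul_assoc, he, mul_inv_cancel_right]]
      exact mul_mem v.2 (inv_mem v'.2)
    obtain ⟨j, hj⟩ := hZ ⟨_, hmem⟩
    have h1 : ((u : G)⁻¹ * u') ^ p ^ j = 1 := congrArg Subtype.val hj
    have hc : Commute (u : G) ((u : G)⁻¹ * u') := hcomm u u.2 _ hmem.2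
    have h2 : ((u : G)⁻¹ * u') ^ (orderOf (u : G) * orderOf (u' : G)) = 1 := by
      have h3 : ((u : G) * ((u : G)⁻¹ * u')) ^ (orderOf (u : G) * orderOf (u' : G)) = 1 := by
        rw [mul_inv_cancel_left, mul_comm, pow_mul, pow_orderOf_eq_one, one_pow]
      rwa [hc.mul_pow, pow_mul (u : G), pow_orderOf_eq_one, one_pow, one_mul] at h3
    have h4 := pow_gcd_eq_one.2 ⟨h1, h2⟩
    rw [(Nat.Coprime.pow_left j (((Nat.Prime.coprime_iff_not_dvd hp).2 hu).mul_right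
      ((Nat.Prime.coprime_iff_not_dvd hp).2 hu'))).gcd_eq_one, pow_one, inv_mul_eq_one] at h4
    rw [← h4] at he
    exact ⟨Subtype.ext h4, Subtype.ext (mul_left_cancel he)⟩
  have hidx : ∀ (u : U₁) (v : U₂), ¬ p ∣ orderOf (u : G) → ¬ p ∣ orderOf (v : G) →
      (Subgroup.centralizer ({(u : G) * v} : Set G)).index =
        (Subgroup.centralizer ({u} : Set U₁)).index * (Subgroup.centralizer ({v} : Set U₂)).index := by
    intro u v hu hv
    rw [← BrauerMap.ClassSum.card_isConj, ← BrauerMap.ClassSum.card_isConj,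
      ← BrauerMap.ClassSum.card_isConj, ← Nat.card_prod]
    symm
    have hconjmem : ∀ (a : {a : U₁ // IsConj u a}) (b : {b : U₂ // IsConj v b}),
        IsConj ((u : G) * v) ((a.1 : G) * b.1) := by
      intro a b
      obtain ⟨c, hc⟩ := isConj_iff.1 a.2
      obtain ⟨d, hd⟩ := isConj_iff.1 b.2
      refine isConj_iff.2 ⟨(c : G) * d, ?_⟩
      rw [← hc, ← hd]
      simp only [Subgroup.coe_mul, Subgroup.coe_inv]
      rw [← hconj₁ c d u, ← hconj₂ c d v]
      group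
    refine Nat.card_eq_of_bijective (fun ab => ⟨_, hconjmem ab.1 ab.2⟩) ⟨?_, ?_⟩
    · rintro ⟨a, b⟩ ⟨a', b'⟩ he
      have ho : ∀ a : {a : U₁ // IsConj u a}, ¬ p ∣ orderOf (a.1 : G) := by
        intro a
        obtain ⟨c, hc⟩ := isConj_iff.1 a.2
        rw [← hc]
        simp only [Subgroup.coe_mul, Subgroup.coe_inv]
        rw [show orderOf ((c : G) * u * (c : G)⁻¹) = orderOf (u : G) from
          orderOf_injective (MulAut.conj (c : G)).toMonoidHom (MulAut.conj (c : G)).injective _]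
        exact hu
      obtain ⟨h1, h2⟩ := huniq a.1 a'.1 b.1 b'.1 (ho a) (ho a') (congrArg Subtype.val he)
      exact Prod.ext (Subtype.ext h1) (Subtype.ext h2)
    · rintro ⟨w, hw⟩
      obtain ⟨g, hg⟩ := isConj_iff.1 hw
      obtain ⟨c, d, rfl⟩ := hsplit g
      refine ⟨(⟨c * u * c⁻¹, isConj_iff.2 ⟨c, rfl⟩⟩, ⟨d * v * d⁻¹, isConj_iff.2 ⟨d, rfl⟩⟩), ?_⟩
      apply Subtype.ext
      refine Eq.trans ?_ hg
      simp only [Subgroup.coe_mul, Subgroup.coe_inv]
      rw [← hconj₁ c d u, ← hconj₂ c d v]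
      group
  have hcc : ∀ (u : U₁) (v : U₂), ¬ p ∣ orderOf (u : G) → ¬ p ∣ orderOf (v : G) →
      Cfsg.centralChar (χ : G → ℂ) ((u : G) * v) =
        Cfsg.centralChar (ψ₁ : U₁ → ℂ) u * Cfsg.centralChar (ψ₂ : U₂ → ℂ) v := by
    intro u v hu hv
    simp only [Cfsg.centralChar, hidx u v hu hv, hmul, Nat.cast_mul, mul_div_assoc,
      ← hres U₁ ψ₁ h₁ hinv₁ u, ← hres U₂ ψ₂ h₂ hinv₂ v]
    ring
  have hone : ∀ {A : Type _} [Group A] [Finite A] (g : A),
      Cfsg.centralChar (oneChar A : A → ℂ) g = ((Subgroup.centralizer ({g} : Set A)).index : ℂ) :=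
    fun g => by simp [Cfsg.centralChar, oneChar_apply]
  have hle : ∀ (U : Subgroup G) (u : U), orderOf u = orderOf (u : G) := fun U u =>
    (Subgroup.orderOf_coe u).symm
  have hone_idx : ∀ U : Subgroup G, (Subgroup.centralizer ({1} : Set U)).index = 1 := fun U => by
    rw [Subgroup.index_eq_one, eq_top_iff]
    intro x _
    rw [Subgroup.mem_centralizer_singleton_iff, one_mul, mul_one]
  constructor
  · intro hχ
    constructor
    · refine RegClasses.sameBlock_of_regular hM (oneChar U₁) ψ₁ fun u hu => ?_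
      have h1 : ¬ p ∣ orderOf ((1 : U₂) : G) := by simp [hp.ne_one]
      have h := hχ ((u : G) * (1 : U₂))
      rw [hcc u 1 (hle U₁ u ▸ hu) h1, centralChar_one, mul_one] at h
      rw [hone]
      change Cfsg.MemLocalIdeal M (Cfsg.centralChar (oneChar G : G → ℂ) _ - _) at h
      rw [hone, hidx u 1 (hle U₁ u ▸ hu) h1, hone_idx U₂, mul_one] at h
      exact h
    · refine RegClasses.sameBlock_of_regular hM (oneChar U₂) ψ₂ fun v hv => ?_
      have h1 : ¬ p ∣ orderOf ((1 : U₁) : G) := by simp [hp.ne_one]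
      have h := hχ (((1 : U₁) : G) * v)
      rw [hcc 1 v h1 (hle U₂ v ▸ hv), centralChar_one, one_mul] at h
      rw [hone]
      change Cfsg.MemLocalIdeal M (Cfsg.centralChar (oneChar G : G → ℂ) _ - _) at h
      rw [hone, hidx 1 v h1 (hle U₂ v ▸ hv), hone_idx U₁, one_mul] at h
      exact h
  · rintro ⟨hψ₁, hψ₂⟩
    refine RegClasses.sameBlock_of_regular hM (oneChar G) χ fun g hg => ?_
    obtain ⟨u, v, hu, hv, rfl⟩ := hfac g hg
    rw [hone, hidx u v hu hv, Nat.cast_mul, hcc u v hu hv, ← hone u, ← hone v,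
      show ∀ a b c d : ℂ, a * b - c * d = a * (b - d) + (a - c) * d from fun a b c d => by ring]
    exact memLocalIdeal_add
      (memLocalIdeal_mul_left (centralChar_mem_localRing (oneChar U₁) u) (hψ₂ v))
      (memLocalIdeal_mul_right (hψ₁ u) (centralChar_mem_localRing ψ₂ v))

end Cfsg.Agent.S4521
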