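import Cfsg.Statements.S4528
import Cfsg.Agent.Lib.DihedralDefect.Main

set_option autoImplicit false
open Cfsg

namespace Cfsg.Agent.S4528

open Cfsg.Agent.Lib.BrauerPairs.Center Cfsg.Agent.Lib.BrauerPairs.Bridge
open Cfsg.Agent.Lib.BrauerPairs.Maximal Cfsg.Agent.Lib.DihedralDefect

attribute [local instance] Ideal.Quotient.field

/-- Let B be a 2-block of the finite group G (relative to a maximal ideal M of the algebraic integers containing 2) whose defect group D is dihedral of order 2 ^ n with n ≥ 3. Then B contains exactly 2 ^ (n - 2) + 3 irreducible characters, its 2-regular rank (the number of irreducible Brauer characters) is between 1 and 3, exactly four of its members have height zero, and every member has height at most one. -/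
theorem result {G : Type*} [Group G] [Finite G] (M : Ideal Cfsg.AlgInt) (hM : Cfsg.IsPModular 2 M) (B : Set (Cfsg.IrrCharacter G)) (hB : Cfsg.IsPBlock M B) (D : Subgroup G) (hD : Cfsg.IsDefectGroup 2 M B D) (n : ℕ) (hn : 3 ≤ n) (hdih : Nonempty (D ≃* DihedralGroup (2 ^ (n - 1)))) : Nat.card B = 2 ^ (n - 2) + 3 ∧ 1 ≤ Cfsg.blockRank 2 B ∧ Cfsg.blockRank 2 B ≤ 3 ∧ Nat.card {χ : Cfsg.IrrCharacter G // χ ∈ B ∧ Cfsg.blockHeight 2 B (χ : G → ℂ) = 0} = 4 ∧ ∀ χ ∈ B, Cfsg.blockHeight 2 B (χ : G → ℂ) ≤ 1 := by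
  classical
  haveI : M.IsMaximal := hM.2.1
  haveI : Fact (Nat.Prime 2) := ⟨Nat.prime_two⟩
  haveI : CharP (Res M) 2 := charP_res hM
  haveI := Fintype.ofFinite G
  obtain ⟨e⟩ := hdih
  have hm : 2 * 2 ^ (n - 2) = 2 ^ (n - 1) := by
    rw [← pow_succ', show n - 2 + 1 = n - 1 by omega]
  obtain ⟨x, hx⟩ := Main.exists_dih (D := D) (m := 2 ^ (n - 2)) (k := n - 2) rfl
    (by calc 2 = 2 ^ 1 := rfl
          _ ≤ 2 ^ (n - 2) := Nat.pow_le_pow_right (by norm_num) (by omega))
    (hm.symm ▸ e)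
  have hDef : IsDef 2 (blk hB) D := (isDefectGroup_iff hB D).mp hD
  obtain ⟨c, hc⟩ := exists_pairOf_isDef hDef
  have S : Local.Cfg (blk hB) D c (2 ^ (n - 2)) x := ⟨hx, top_of_isDef hc hDef, hc⟩
  have h := Main.invariants hM S
  rw [toSet_blk hB] at h
  exact h

end Cfsg.Agent.S4528
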