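import Cfsg.Statements.S4530
import Cfsg.Agent.Lib.SemiQuatDefect.Main

set_option autoImplicit false
set_option linter.style.haveILetI false
open Cfsg

namespace Cfsg.Agent.S4530

open Cfsg.Agent.Lib.BrauerPairs.Center Cfsg.Agent.Lib.BrauerPairs.Bridge
open Cfsg.Agent.Lib.BrauerPairs.Maximal Cfsg.Agent.Lib.SemiQuatDefect

attribute [local instance] Ideal.Quotient.field

/-- Let B be a 2-block of the finite group G (relative to a maximal ideal M of the algebraic integers containing 2) whose defect group D is generalized quaternion of order 2 ^ n, n ≥ 3. Then its 2-regular rank l is between 1 and 3, the number of irreducible characters in B is l + 2 ^ (n - 2) + 2, exactly four members have height zero, and every other member has height one or height n - 2; when n ≥ 4 exactly 2 ^ (n - 2) - 1 members have height one. -/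
theorem result {G : Type*} [Group G] [Finite G] (M : Ideal Cfsg.AlgInt) (hM : Cfsg.IsPModular 2 M) (B : Set (Cfsg.IrrCharacter G)) (hB : Cfsg.IsPBlock M B) (D : Subgroup G) (hD : Cfsg.IsDefectGroup 2 M B D) (n : ℕ) (hn : 3 ≤ n) (hq : Nonempty (D ≃* QuaternionGroup (2 ^ (n - 2)))) : 1 ≤ Cfsg.blockRank 2 B ∧ Cfsg.blockRank 2 B ≤ 3 ∧ Nat.card B = Cfsg.blockRank 2 B + 2 ^ (n - 2) + 2 ∧ Nat.card {χ : Cfsg.IrrCharacter G // χ ∈ B ∧ Cfsg.blockHeight 2 B (χ : G → ℂ) = 0} = 4 ∧ (∀ χ ∈ B, Cfsg.blockHeight 2 B (χ : G → ℂ) = 0 ∨ Cfsg.blockHeight 2 B (χ : G → ℂ) = 1 ∨ Cfsg.blockHeight 2 B (χ : G → ℂ) = n - 2) ∧ (4 ≤ n → Nat.card {χ : Cfsg.IrrCharacter G // χ ∈ B ∧ Cfsg.blockHeight 2 B (χ : G → ℂ) = 1} = 2 ^ (n - 2) - 1) := by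
  classical
  haveI : M.IsMaximal := hM.2.1
  haveI : Fact (Nat.Prime 2) := ⟨Nat.prime_two⟩
  haveI : CharP (Res M) 2 := charP_res hM
  haveI := Fintype.ofFinite G
  have hDef : IsDef 2 (blk hB) D := (isDefectGroup_iff hB D).mp hD
  obtain ⟨c, hc⟩ := exists_pairOf_isDef hDef
  obtain ⟨e⟩ := hq
  have h2m : 2 ≤ 2 ^ (n - 2) :=
    calc 2 = 2 ^ 1 := rfl
      _ ≤ _ := Nat.pow_le_pow_right (by norm_num) (by omega)
  obtain ⟨x, hx, hQ⟩ := Main.exists_ext_quat (D := D) (k := n - 2) rfl h2m e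
  have S : Local.Cfg (blk hB) D c (2 ^ (n - 2)) x (2 * 2 ^ (n - 2) - 1) :=
    ⟨hx, top_of_isDef hc hDef, hc⟩
  obtain ⟨h1, h2, h3, hH⟩ := Main.invariants_quat S hM hQ
  obtain ⟨z0, za, z1⟩ := hH
  rw [toSet_blk hB] at h1 h2 h3 z0 za z1
  refine ⟨h1, h2, h3, z0, fun χ hχ => (za χ hχ).imp_right (Or.imp_right fun e' => ?_),
    fun h4 => z1 ?_⟩
  · exact Nat.pow_right_injective (le_refl 2) e'
  · calc 4 = 2 ^ 2 := rfl
      _ ≤ _ := Nat.pow_le_pow_right (by norm_num) (by omega)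

end Cfsg.Agent.S4530
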