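import Cfsg.Statements.S4534
import Cfsg.Agent.Lib.SymChar81.Rank
import Cfsg.Agent.Lib.SymChar81.Defect

set_option autoImplicit false
open Cfsg
open Cfsg.Agent.Lib.SymChar81

namespace Cfsg.Agent.S4534

/-- Let B be a p-block of a finite symmetric group (relative to a maximal ideal M of the algebraic integers containing p) with a nontrivial defect group D all of whose sections have p-rank at most s. Then the p-regular rank of B is less than p ^ s. -/
theorem result (n : ℕ) (p : ℕ) [Fact p.Prime] (M : Ideal Cfsg.AlgInt) (hM : Cfsg.IsPModular p M) (B : Set (Cfsg.IrrCharacter (Equiv.Perm (Fin n)))) (hB : Cfsg.IsPBlock M B) (D : Subgroup (Equiv.Perm (Fin n))) (hD : Cfsg.IsDefectGroup p M B D) (hD1 : D ≠ ⊥) (s : ℕ) (hs : Cfsg.SectionalPRankLE p s D) : Cfsg.blockRank p B < p ^ s := by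
  haveI := hM.2.1
  have hp : p.Prime := Fact.out
  obtain ⟨χ, hχ⟩ := Cfsg.Agent.Lib.Blocks.isPBlock_nonempty hB
  obtain ⟨b, hb⟩ := exists_hasBead (N := n) le_rfl χ
  have hrank := blockRank_le_weight le_rfl hM hB hχ hb
  set w := Cfsg.Agent.Lib.SymChar81.wt p (beadSet b) with hw
  have hgp : ∑ i, gp p b i = w := (wt_occ_eq_sum_gp hp.pos hb.1.1 hb.1.2.1).symm
  obtain ⟨m, K, hnm, hK, hcore, hgz, hchi⟩ := chi_replicate hp.pos w n b hb.1 hgp
  rcases Nat.eq_zero_or_pos w with hw0 | hwpos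
  · rw [if_pos hw0] at hrank
    have hs1 : 1 ≤ s := by
      obtain ⟨a, ha, ha1⟩ := D.bot_or_exists_ne_one.resolve_left hD1
      obtain ⟨g, hg, S, hS⟩ := hD
      have hPD : IsPGroup p D := hS ▸ S.2.map _
      obtain ⟨k, hk⟩ := IsPGroup.iff_orderOf.mp hPD ⟨a, ha⟩
      rw [Subgroup.orderOf_mk] at hk
      have hk0 : k ≠ 0 := fun h => ha1 (orderOf_eq_one_iff.mp (by rw [hk, h, pow_zero]))
      have hz : orderOf (a ^ (p ^ (k - 1))) = p := by
        rw [orderOf_pow' a (pow_ne_zero _ hp.ne_zero), hk,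
          Nat.gcd_eq_right (pow_dvd_pow p (Nat.sub_le k 1)), Nat.pow_div (Nat.sub_le k 1) hp.pos,
          show k - (k - 1) = 1 by omega, pow_one]
      refine le_of_elementary (V := Subgroup.zpowers (a ^ (p ^ (k - 1)))) hs
        (Subgroup.zpowers_le.mpr (D.pow_mem ha _)) ?_ ?_ (by rw [Nat.card_zpowers, hz, pow_one])
      · rintro _ ⟨i, rfl⟩
        show ((a ^ (p ^ (k - 1))) ^ i) ^ p = 1
        rw [← zpow_natCast, ← zpow_mul, mul_comm, zpow_mul, zpow_natCast]
        have h := pow_orderOf_eq_one (a ^ (p ^ (k - 1)))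
        rw [hz] at h
        rw [h, one_zpow]
      · rintro _ ⟨i, rfl⟩ _ ⟨j, rfl⟩
        exact ((Commute.refl _).zpow_zpow i j).eq
    calc Cfsg.blockRank p B ≤ 1 := hrank
      _ < p ^ s := Nat.one_lt_pow (by omega) hp.one_lt
  · rw [if_neg (by omega)] at hrank
    obtain ⟨σ, hσ, hσp⟩ := exists_chi_core_ne_zero hp.pos hcore hgz
    obtain ⟨x, y, V, hx, hy, hxy, htype, hVC, hVn, hVp, hVc, hVcard⟩ :=
      exists_model hwpos hnm σ ((isPRegular_iff σ).mpr hσp)
    have hne : (χ : Equiv.Perm (Fin n) → ℂ) (x * y) ≠ 0 := by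
      obtain ⟨-, e, he, hχb⟩ := hb
      have hm : (otype σ).sum = m := by rw [otype_sum, Fintype.card_fin]
      have hv : theta n b (x * y) ≠ 0 := by
        rw [theta, htype, hchi _ hm, Int.cast_ne_zero]
        exact mul_ne_zero (by exact_mod_cast hK.ne') hσ
      rw [hχb, Pi.smul_apply, smul_eq_mul]
      rcases he with rfl | rfl <;> simpa using hv
    have hVpg : IsPGroup p V := IsPGroup.of_card hVcard
    obtain ⟨g, hg⟩ := exists_conj_le_defect hM hB hχ (k := 1) (by rw [hx, pow_one]) hy hxy hne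
      hVpg hVC hD
    have hws : w ≤ s := by
      refine le_of_elementary hs hg ?_ ?_ ?_
      · rintro _ ⟨a, ha, rfl⟩
        rw [← map_pow, hVp a ha, map_one]
      · rintro _ ⟨a, ha, rfl⟩ _ ⟨c, hc, rfl⟩
        rw [← map_mul, ← map_mul, hVc a ha c hc]
      · rw [Nat.card_congr (V.equivMapOfInjective _ (MulAut.conj g).injective).toEquiv.symm, hVcard]
    calc Cfsg.blockRank p B ≤ (p - 1) * p ^ (w - 1) := hrank
      _ < p * p ^ (w - 1) := Nat.mul_lt_mul_of_pos_right (Nat.sub_lt hp.pos one_pos) (pow_pos hp.pos _)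
      _ = p ^ w := by rw [← pow_succ', Nat.sub_add_cancel hwpos]
      _ ≤ p ^ s := Nat.pow_le_pow_right hp.pos hws

end Cfsg.Agent.S4534
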