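import Cfsg.Statements.S4539
import Cfsg.Agent.Lib.BC78.RankTwo
import Cfsg.Agent.Lib.Blocks.FirstMain

set_option autoImplicit false
open Cfsg

namespace Cfsg.Agent.S4539

/-- Let B be a p-block of the finite group G (relative to a maximal ideal M of the algebraic integers containing p) of defect d with defect group D. Let z be an element of D commuting with every element of D, and let b be a block of the centralizer C of z with defect group D that induces B (a major subsection (z, b)). If b has p-regular rank at most two, then B contains at most p ^ d irreducible characters. -/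
theorem result {G : Type*} [Group G] [Finite G] (p : ℕ) [Fact p.Prime] (M : Ideal Cfsg.AlgInt) (hM : Cfsg.IsPModular p M) (B : Set (Cfsg.IrrCharacter G)) (hB : Cfsg.IsPBlock M B) (D : Subgroup G) (hD : Cfsg.IsDefectGroup p M B D) (z : G) (hzD : z ∈ D) (hzc : ∀ d ∈ D, d * z = z * d) (b : Set (Cfsg.IrrCharacter ↥(Subgroup.centralizer ({z} : Set G)))) (hb : Cfsg.IsInducedBlock M (Subgroup.centralizer ({z} : Set G)) b B) (hbD : Cfsg.IsDefectGroup p M b (D.subgroupOf (Subgroup.centralizer ({z} : Set G)))) (hl : Cfsg.blockRank p b ≤ 2) : Nat.card B ≤ p ^ Cfsg.blockDefect p B := by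
  classical
  haveI := hM.2.1
  haveI := Fintype.ofFinite G
  haveI := Fintype.ofFinite (Subgroup.centralizer ({z} : Set G))
  have hp : p.Prime := Fact.out
  have hDcard : Nat.card D = p ^ Cfsg.blockDefect p B :=
    Cfsg.Agent.Lib.Blocks.card_isDefectGroup hM hB hD
  have hDle : D ≤ Subgroup.centralizer ({z} : Set G) := fun d hd =>
    Subgroup.mem_centralizer_singleton_iff.mpr (hzc d hd)
  have hd : Cfsg.blockDefect p b = Cfsg.blockDefect p B := by
    have h := Cfsg.Agent.Lib.Blocks.card_isDefectGroup hM hb.1 hbD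
    rw [Nat.card_congr (Subgroup.subgroupOfEquivOfLe hDle).toEquiv, hDcard] at h
    exact (Nat.pow_right_injective hp.two_le h).symm
  obtain ⟨j, hj⟩ : ∃ j, orderOf z = p ^ j := by
    obtain ⟨j, hj⟩ := IsPGroup.iff_orderOf.mp (IsPGroup.of_card hDcard) ⟨z, hzD⟩
    exact ⟨j, by rw [← hj, Subgroup.orderOf_mk]⟩
  let x : Subgroup.centralizer ({z} : Set G) :=
    ⟨z, Subgroup.mem_centralizer_singleton_iff.mpr rfl⟩
  have hx : Cfsg.Agent.Lib.Blocks.SectionMatrix.Pelt p x :=
    ⟨⟨j, hj⟩, (Cfsg.Agent.Lib.BrauerMap.PrincipalSection.centralizer_zpowers_eq z).symm⟩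
  rw [← hd]
  rcases Nat.lt_or_ge (Cfsg.blockRank p b) 2 with h | h
  · refine (Cfsg.Agent.Lib.Blocks.MajorSection.card_le hM hx hb hd).trans ?_
    exact (Nat.mul_le_mul_left _ (show Cfsg.blockRank p b ≤ 1 by omega)).trans (Nat.mul_one _).le
  · exact Cfsg.Agent.Lib.BC78.RankTwo.card_le hM hx hb hd (le_antisymm hl h)

end Cfsg.Agent.S4539
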