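import Cfsg.Statements.S4541
import Cfsg.Agent.Lib.BC78.SectionMeans

set_option autoImplicit false
open Cfsg

namespace Cfsg.Agent.S4541

/-- Let B be a 2-block of the finite group G (relative to a maximal ideal M of the algebraic integers containing 2), u a 2-element, and b a block of the centralizer of u inducing B (a subsection (u, b)), of defect q and 2-regular rank l; write s for the integer square root of l and k₀(B) for the number of members of B of height zero. If s is odd then k₀(B) ≤ s·2 ^ q, and otherwise (s + 1)·k₀(B) ≤ l·2 ^ q; in particular k₀(B) ≤ 2 ^ q when l ≤ 3. -/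
theorem result {G : Type*} [Group G] [Finite G] (M : Ideal Cfsg.AlgInt) (hM : Cfsg.IsPModular 2 M) (B : Set (Cfsg.IrrCharacter G)) (hB : Cfsg.IsPBlock M B) (u : G) (hu : ∃ j : ℕ, orderOf u = 2 ^ j) (b : Set (Cfsg.IrrCharacter ↥(Subgroup.centralizer ({u} : Set G)))) (hb : Cfsg.IsInducedBlock M (Subgroup.centralizer ({u} : Set G)) b B) : (Odd (Nat.sqrt (Cfsg.blockRank 2 b)) → Nat.card {χ : Cfsg.IrrCharacter G // χ ∈ B ∧ Cfsg.blockHeight 2 B (χ : G → ℂ) = 0} ≤ Nat.sqrt (Cfsg.blockRank 2 b) * 2 ^ Cfsg.blockDefect 2 b) ∧ (¬ Odd (Nat.sqrt (Cfsg.blockRank 2 b)) → (Nat.sqrt (Cfsg.blockRank 2 b) + 1) * Nat.card {χ : Cfsg.IrrCharacter G // χ ∈ B ∧ Cfsg.blockHeight 2 B (χ : G → ℂ) = 0} ≤ Cfsg.blockRank 2 b * 2 ^ Cfsg.blockDefect 2 b) ∧ (Cfsg.blockRank 2 b ≤ 3 → Nat.card {χ : Cfsg.IrrCharacter G // χ ∈ B ∧ Cfsg.blockHeight 2 B (χ : G → ℂ) = 0} ≤ 2 ^ Cfsg.blockDefect 2 b) := by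
  classical
  haveI := hM.2.1
  haveI : Fact (Nat.Prime 2) := ⟨Nat.prime_two⟩
  haveI := Fintype.ofFinite G
  haveI := Fintype.ofFinite (Subgroup.centralizer ({u} : Set G))
  let x : Subgroup.centralizer ({u} : Set G) := ⟨u, Subgroup.mem_centralizer_singleton_iff.mpr rfl⟩
  have hx : Cfsg.Agent.Lib.Blocks.SectionMatrix.Pelt 2 x :=
    ⟨hu, (Cfsg.Agent.Lib.BrauerMap.PrincipalSection.centralizer_zpowers_eq u).symm⟩
  obtain ⟨j, hj⟩ := hu
  obtain ⟨Z, a, hmem, hrow, htot⟩ := Cfsg.Agent.Lib.BC78.SectionMeans.exists_means hM hx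
    (j := j) (by rw [← Subgroup.orderOf_coe]; exact hj) hb
  have hk : Nat.card {χ : Cfsg.IrrCharacter G // χ ∈ B ∧ Cfsg.blockHeight 2 B (χ : G → ℂ) = 0} =
      Z.card := by
    rw [← Nat.card_eq_finsetCard]
    refine Nat.card_congr (Equiv.subtypeEquivRight fun χ => ?_)
    rw [hmem]
    exact ⟨fun h => ⟨h.1, (Cfsg.Agent.Lib.Blocks.Contrib.blockHeight_eq_zero_iff h.1).mp h.2⟩,
      fun h => ⟨h.1, (Cfsg.Agent.Lib.Blocks.Contrib.blockHeight_eq_zero_iff h.1).mpr h.2⟩⟩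
  rw [hk]
  set l := Cfsg.blockRank 2 b with hl
  set s := Nat.sqrt l with hs
  set Q := 2 ^ Cfsg.blockDefect 2 b with hQ
  have hQ' : (2 : ℤ) ^ Cfsg.blockDefect 2 b = (Q : ℤ) := by rw [hQ]; norm_num
  rw [hQ'] at htot
  simp only [hQ'] at hrow
  have hsl : s * s ≤ l := Nat.sqrt_le l
  have hls : l < (s + 1) * (s + 1) := Nat.lt_succ_sqrt l
  have hodd_case : Odd s → Z.card ≤ s * Q := by
    intro hso
    by_contra hcon
    push Not at hcon
    have hlow : ∀ χ ∈ Z, ((s : ℤ) + 2) ≤ a χ := by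
      intro χ hχ
      obtain ⟨ho, h1, h2⟩ := hrow χ hχ
      have hgt : (s : ℤ) < a χ := by
        by_contra hle
        push Not at hle
        have h3 : (Q : ℤ) * a χ ≤ (Q : ℤ) * s := mul_le_mul_of_nonneg_left hle (Int.natCast_nonneg Q)
        have h4 : ((s * Q : ℕ) : ℤ) < (Z.card : ℤ) := by exact_mod_cast hcon
        push_cast at h4
        nlinarith
      have : a χ ≠ (s : ℤ) + 1 := fun h => by
        obtain ⟨t, ht⟩ := ho
        obtain ⟨r, hr⟩ := hso
        omega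
      omega
    have h5 := Finset.sum_le_sum hlow
    rw [Finset.sum_const, nsmul_eq_mul] at h5
    have h6 : ((Z.card : ℤ)) * ((s : ℤ) + 2) ≤ (Q : ℤ) * l := h5.trans htot
    have h7 : Z.card * (s + 2) ≤ Q * l := by exact_mod_cast h6
    have h8 : Q * l ≤ Q * (s * (s + 2)) := Nat.mul_le_mul_left Q (by nlinarith)
    have h9 : Z.card ≤ s * Q :=
      Nat.le_of_mul_le_mul_right (by nlinarith : Z.card * (s + 2) ≤ s * Q * (s + 2)) (by omega)
    omega
  have heven_case : ¬ Odd s → (s + 1) * Z.card ≤ l * Q := by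
    intro hso
    by_cases hall : ∀ χ ∈ Z, ((s : ℤ) + 1) ≤ a χ
    · have h5 := Finset.sum_le_sum hall
      rw [Finset.sum_const, nsmul_eq_mul] at h5
      have h6 : ((Z.card : ℤ)) * ((s : ℤ) + 1) ≤ (Q : ℤ) * l := h5.trans htot
      have h7 : Z.card * (s + 1) ≤ Q * l := by exact_mod_cast h6
      rw [mul_comm, mul_comm l]
      exact h7
    · push Not at hall
      obtain ⟨χ, hχ, hlt⟩ := hall
      obtain ⟨ho, h1, h2⟩ := hrow χ hχ
      have hle : a χ ≤ (s : ℤ) - 1 := by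
        obtain ⟨t, ht⟩ := ho
        rw [Nat.not_odd_iff_even] at hso
        obtain ⟨r, hr⟩ := hso
        omega
      have h3 : (Q : ℤ) * a χ ≤ (Q : ℤ) * ((s : ℤ) - 1) :=
        mul_le_mul_of_nonneg_left hle (Int.natCast_nonneg Q)
      have h4 : (Z.card : ℤ) ≤ (Q : ℤ) * ((s : ℤ) - 1) := by nlinarith
      have h5 : ((s : ℤ) + 1) * Z.card ≤ ((s : ℤ) + 1) * ((Q : ℤ) * ((s : ℤ) - 1)) :=
        mul_le_mul_of_nonneg_left h4 (by omega)
      have h6 : ((s : ℤ) * s) * Q ≤ (l : ℤ) * Q :=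
        mul_le_mul_of_nonneg_right (by exact_mod_cast hsl) (Int.natCast_nonneg Q)
      have h7 : ((s : ℤ) + 1) * Z.card ≤ (l : ℤ) * Q := by nlinarith [Int.natCast_nonneg Q]
      exact_mod_cast h7
  refine ⟨hodd_case, heven_case, fun hl3 => ?_⟩
  rcases Nat.eq_zero_or_pos l with h0 | hpos
  · have hs0 : s = 0 := by rw [hs, h0, Nat.sqrt_zero]
    have h := heven_case (by rw [hs0]; decide)
    rw [h0, hs0, zero_mul, zero_add, one_mul] at h
    exact h.trans (Nat.zero_le _)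
  · have hs1 : s = 1 := by
      have h1 : s ≤ 1 := by nlinarith
      have h2 : s ≠ 0 := fun h => by
        rw [h] at hls
        omega
      omega
    have h := hodd_case (by rw [hs1]; decide)
    rw [hs1, one_mul] at h
    exact h

end Cfsg.Agent.S4541
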