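import Cfsg.Statements.S4551
import Cfsg.Agent.Lib.BC78.PBRestrict

set_option autoImplicit false
open Cfsg

namespace Cfsg.Agent.S4551

/-- Let N be a normal subgroup of the finite group G of index prime to p, P a Sylow p-subgroup of G with G = N·C_G(P), and M a maximal ideal of the algebraic integers containing p. Then restriction to N is a bijection from the principal p-block of G onto the principal p-block of N: every member of the principal block of G restricts to a member of the principal block of N, and every member of the principal block of N is the restriction of exactly one member of the principal block of G. -/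
theorem result {G : Type*} [Group G] [Finite G] (p : ℕ) [Fact p.Prime] (M : Ideal Cfsg.AlgInt) (hM : Cfsg.IsPModular p M) (N : Subgroup G) [N.Normal] (hidx : ¬ p ∣ N.index) (P : Sylow p G) (hsup : N ⊔ Subgroup.centralizer ((P : Subgroup G) : Set G) = ⊤) : (∀ χ ∈ Cfsg.principalBlock M G, ∃ θ ∈ Cfsg.principalBlock M ↥N, ∀ n : N, (χ : G → ℂ) n = (θ : N → ℂ) n) ∧ ∀ θ ∈ Cfsg.principalBlock M ↥N, ∃! χ : Cfsg.IrrCharacter G, χ ∈ Cfsg.principalBlock M G ∧ ∀ n : N, (χ : G → ℂ) n = (θ : N → ℂ) n := by
  classical
  haveI := hM.2.1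
  haveI := Fintype.ofFinite G
  letI : Fintype N := Fintype.ofFinite N
  have hext := fun θ hθ => Lib.BC78.PBRestrict.exists_ext hM N P hidx hsup (θ := θ) hθ
  refine ⟨fun χ hχ => ?_, fun θ hθ => ?_⟩
  · obtain ⟨ψ, hψ⟩ := Lib.BrauerMap.Covering.exists_constituent_restrict N χ
    obtain ⟨g, hg⟩ := Lib.BrauerMap.Covering.exists_conj_mem_of_constituents (M := M) N
      (χ := Lib.Characters.Basic.oneChar G) (χ' := χ) (θ := Lib.Characters.Basic.oneChar N) hχ
      (by
        rw [show Lib.BrauerMap.Normal.resFun N (Lib.Characters.Basic.oneChar G : G → ℂ) =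
          (Lib.Characters.Basic.oneChar N : N → ℂ) from rfl, Lib.Characters.Basic.classInner_self_irr]
        exact one_ne_zero) hψ
    have hθ : Lib.BrauerMap.Normal.conjIrr N g ψ ∈ Cfsg.principalBlock M N := hg
    obtain ⟨η, -, hηN, huniq⟩ := hext _ hθ
    refine ⟨_, hθ, fun n => ?_⟩
    have h2 := huniq χ hχ ?_
    · rw [h2]; exact hηN n
    · have h3 := Lib.BrauerMap.Normal.classInner_conjIrr N
      refine fun h0 => hψ ?_
      rw [← h3 χ g ψ]
      exact h0
  · obtain ⟨η, hη, hηN, huniq⟩ := hext θ hθ
    refine ⟨η, ⟨hη, hηN⟩, fun χ hχ => huniq χ hχ.1 ?_⟩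
    rw [show (fun n : N => (χ : G → ℂ) n) = (θ : N → ℂ) from funext hχ.2,
      Lib.Characters.Basic.classInner_self_irr]
    exact one_ne_zero

end Cfsg.Agent.S4551
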