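import Cfsg.Statements.S4552
import Cfsg.Agent.Lib.HomocyclicFree.Block
import Cfsg.Agent.Lib.BrauerPairs.RankAbelian
import Cfsg.Agent.S4633

set_option autoImplicit false
open Cfsg

namespace Cfsg.Agent.S4552

open Cfsg.Agent.Lib.Blocks Cfsg.Agent.Lib.Blocks.Contrib
open Cfsg.Agent.Lib.BrauerPairs
open Cfsg.Agent.Lib.BrauerPairs.Center Cfsg.Agent.Lib.BrauerPairs.Pairs
open Cfsg.Agent.Lib.BrauerPairs.Maximal Cfsg.Agent.Lib.BrauerPairs.Bridge
open Cfsg.Agent.Lib.BrauerPairs.Fusion Cfsg.Agent.Lib.BrauerPairs.Local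

attribute [local instance] Ideal.Quotient.field


/-- Let B be a 2-block of the finite group G (relative to a maximal ideal M of the algebraic integers containing 2) whose defect group D is the direct product of two cyclic groups of the same order 2 ^ m, m ≥ 2. Then either B has 2-regular rank one and exactly 4 ^ m irreducible characters, or B has 2-regular rank three and exactly (4 ^ m + 8) / 3 irreducible characters. -/
theorem result {G : Type*} [Group G] [Finite G] (M : Ideal Cfsg.AlgInt) (hM : Cfsg.IsPModular 2 M) (B : Set (Cfsg.IrrCharacter G)) (hB : Cfsg.IsPBlock M B) (D : Subgroup G) (hD : Cfsg.IsDefectGroup 2 M B D) (m : ℕ) (hm : 2 ≤ m) (hiso : Nonempty (D ≃* Multiplicative (ZMod (2 ^ m) × ZMod (2 ^ m)))) : (Cfsg.blockRank 2 B = 1 ∧ Nat.card B = 4 ^ m) ∨ (Cfsg.blockRank 2 B = 3 ∧ 3 * Nat.card B = 4 ^ m + 8) := by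
  classical
  haveI : Fact (Nat.Prime 2) := ⟨Nat.prime_two⟩
  haveI : M.IsMaximal := hM.2.1
  haveI : CharP (Res M) 2 := charP_res hM
  haveI := Fintype.ofFinite G
  obtain ⟨e⟩ := hiso
  have hd := (isDefectGroup_iff hB D).mp hD
  obtain ⟨ω, hω⟩ := exists_pairOf_isDef hd
  have htop : Top 2 (⟨D, ω⟩ : Idx (Res M) G) := top_of_isDef hω hd
  have hab : ∀ x ∈ D, ∀ y ∈ D, x * y = y * x := fun x hx y hy => by
    have h : (⟨x, hx⟩ : D) * ⟨y, hy⟩ = ⟨y, hy⟩ * ⟨x, hx⟩ :=
      e.injective (by rw [map_mul, map_mul, mul_comm])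
    exact congrArg Subtype.val h
  have hBs : toSet (blk hB) = B := toSet_blk hB
  set b : Idx (Res M) G := ⟨D, ω⟩ with hbdef
  letI : CommGroup b.1 :=
    { (inferInstance : Group b.1) with mul_comm := fun a c => Subtype.ext (hab a a.2 c c.2) }
  haveI := Fintype.ofFinite b.1
  have hN : stab b ≤ Subgroup.normalizer (b.1 : Set G) := stab_le_normalizer b
  have hodd : Odd (Nat.card (autHom b).range) := by
    rw [Nat.odd_iff, ← Nat.two_dvd_ne_zero]
    exact Cfsg.Agent.S4633.range_not_dvd (p := 2) (a := b) htop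
      (fun x hx => Subgroup.mem_centralizer_iff.mpr fun y hy => hab y hy x hx) (stab b) hN
      fun u hu => (mem_stab_iff.mp hu).2
  rw [← hBs]
  rcases Lib.HomocyclicFree.Aut.eq_bot_or_data (by omega : 1 ≤ m) e (autHom b).range hodd with
    h | ⟨h3, g, hg, hdata, hfree⟩
  · left
    have h' := RankAbelian.good hM (G := G) D ω (blk hB) htop hω hab fun x hx => by
      have hk : (⟨x, hx⟩ : stab b) ∈ (autHom b).ker :=
        MonoidHom.mem_ker.mpr (Subgroup.mem_bot.mp (h ▸ ⟨_, rfl⟩))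
      rw [autHom_ker] at hk
      exact hk
    refine ⟨h'.1, h'.2.trans ?_⟩
    exact Lib.HomocyclicFree.Aut.card_eq_pow e
  · right
    exact Lib.HomocyclicFree.Block.blockRank_eq_three hM htop hω hab hm e hg h3 hfree hdata.fix

end Cfsg.Agent.S4552
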