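import Cfsg.Statements.S4553
import Cfsg.Agent.Lib.PIndexBlock.SigmaCount

set_option autoImplicit false
open Cfsg Cfsg.Agent.Lib.PIndexBlock.SigmaCount Cfsg.Agent.Lib.BC78

namespace Cfsg.Agent.S4553

/-- Let G be a finite group, p a prime, P a Sylow p-subgroup, N the p-residual of G (the subgroup generated by the elements of order prime to p, the smallest normal subgroup with G/N a p-group), and M a maximal ideal of the algebraic integers containing p; suppose G/N is cyclic and nontrivial. Let k be a natural number with g ^ k = g ^ (1 + p) for every p-element g and g ^ k = g for every element g of order prime to p (so that χ (g ^ k) is the image of χ g under the field automorphism that raises p-power roots of unity to the power 1 + p and fixes the roots of unity of order prime to p). Then the number of members χ of the principal block of G of degree prime to p with χ (g ^ k) = χ g for all g equals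 p times the number of members θ of the principal block of N of degree prime to p that are invariant under conjugation by P and satisfy θ (n ^ k) = θ n for all n. -/
theorem result {G : Type*} [Group G] [Finite G] (p : ℕ) [Fact p.Prime] (M : Ideal Cfsg.AlgInt) (hM : Cfsg.IsPModular p M) (P : Sylow p G) (N : Subgroup G) [hN : N.Normal] (hNres : N = Cfsg.pResidual p G) (hcyc : IsCyclic (G ⧸ N)) (hnt : N ≠ ⊤) (k : ℕ) (hk₁ : ∀ g : G, (∃ j : ℕ, orderOf g = p ^ j) → g ^ k = g ^ (1 + p)) (hk₂ : ∀ g : G, Nat.Coprime (orderOf g) p → g ^ k = g) : Nat.card {χ : Cfsg.IrrCharacter G // χ ∈ Cfsg.principalBlock M G ∧ ¬ p ∣ Cfsg.charDegree (χ : G → ℂ) ∧ ∀ g : G, (χ : G → ℂ) (g ^ k) = (χ : G → ℂ) g} = p * Nat.card {θ : Cfsg.IrrCharacter ↥N // θ ∈ Cfsg.principalBlock M ↥N ∧ ¬ p ∣ Cfsg.charDegree (θ : ↥N → ℂ) ∧ (∀ x ∈ (P : Subgroup G), ∀ n : ↥N, (θ : ↥N → ℂ) ⟨x * n * x⁻¹, hN.conj_mem n n.2 x⟩ = (θ : ↥N → ℂ) n) ∧ ∀ n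 : ↥N, (θ : ↥N → ℂ) (n ^ k) = (θ : ↥N → ℂ) n} := by
  classical
  haveI := hcyc
  haveI := Fintype.ofFinite G
  haveI := Fintype.ofFinite ↥N
  have hp : p.Prime := Fact.out
  have hcop := coprime_of_exponent hk₁ hk₂
  obtain ⟨m, hm⟩ := index_eq_pow N hNres (p := p)
  have hirr : ∀ χ : Cfsg.IrrCharacter G, ¬ p ∣ Cfsg.charDegree (χ : G → ℂ) →
      Cfsg.IsIrrCharacter ↥N (fun n : ↥N => (χ : G → ℂ) n) := fun χ h =>
    Cfsg.Agent.Lib.BlocksChars5.Restrict.restrict_irr_of_coprime N χ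
      (by rw [hm]; exact Nat.Coprime.pow_right m ((hp.coprime_iff_not_dvd.mpr h).symm))
  have hdeg : ∀ (χ : Cfsg.IrrCharacter G) (θ : Cfsg.IrrCharacter ↥N),
      (∀ n : ↥N, (χ : G → ℂ) n = (θ : ↥N → ℂ) n) →
      Cfsg.charDegree (χ : G → ℂ) = Cfsg.charDegree (θ : ↥N → ℂ) := fun χ θ h => by
    have h1 := h 1
    rw [OneMemClass.coe_one] at h1
    simp only [Cfsg.charDegree, h1]
  let S := {θ : Cfsg.IrrCharacter ↥N // θ ∈ Cfsg.principalBlock M ↥N ∧
    ¬ p ∣ Cfsg.charDegree (θ : ↥N → ℂ) ∧ (∀ x ∈ (P : Subgroup G), ∀ n : ↥N,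
      (θ : ↥N → ℂ) ⟨x * n * x⁻¹, hN.conj_mem n n.2 x⟩ = (θ : ↥N → ℂ) n) ∧
    ∀ n : ↥N, (θ : ↥N → ℂ) (n ^ k) = (θ : ↥N → ℂ) n}
  let T := {χ : Cfsg.IrrCharacter G // χ ∈ Cfsg.principalBlock M G ∧
    ¬ p ∣ Cfsg.charDegree (χ : G → ℂ) ∧ ∀ g : G, (χ : G → ℂ) (g ^ k) = (χ : G → ℂ) g}
  let L := {l : G →* ℂˣ // (∀ x ∈ N, l x = 1) ∧ ∀ y, l y ^ p = 1}
  have hinv : ∀ (θ : Cfsg.IrrCharacter ↥N), (∀ x ∈ (P : Subgroup G), ∀ n : ↥N,
      (θ : ↥N → ℂ) ⟨x * n * x⁻¹, hN.conj_mem n n.2 x⟩ = (θ : ↥N → ℂ) n) →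
      ∀ g : G, Cfsg.Agent.Lib.BC78.Clifford.conjIrr N θ g = θ := fun θ h g => by
    have hg : g ∈ N ⊔ (P : Subgroup G) := by
      rw [hNres, Cfsg.Agent.Lib.Transfer.PResidual.sup_sylow_eq_top P]; trivial
    obtain ⟨a, ha, b, hb, rfl⟩ := Subgroup.mem_sup_of_normal_left.mp hg
    rw [← Cfsg.Agent.Lib.BC78.Clifford.conjIrr_conjIrr, Cfsg.Agent.Lib.BC78.Clifford.conjIrr_mem N θ ha]
    exact Subtype.ext (funext fun n => h b hb n)
  have hex : ∀ θ : S, ∃ χ : Cfsg.IrrCharacter G,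
      (∀ n : ↥N, (χ : G → ℂ) n = (θ.1 : ↥N → ℂ) n) ∧ ∀ g, (χ : G → ℂ) (g ^ k) = (χ : G → ℂ) g :=
    fun θ => exists_fixed_extension N hNres P hk₁ hk₂ θ.1 θ.2.2.1 (hinv θ.1 θ.2.2.2.1) θ.2.2.2.2
  choose E hE hEf using hex
  have hext : ∀ (θ : S) (l : L) (n : ↥N),
      (LinTwist.twist l.1 (E θ) : G → ℂ) n = (θ.1 : ↥N → ℂ) n := fun θ l n => by
    rw [LinTwist.twist_apply, l.2.1 n n.2, Units.val_one, one_mul, hE]
  let f : S × L → T := fun z => ⟨LinTwist.twist z.2.1 (E z.1),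
    (mem_block_iff N hNres hM _ z.1.1 (hext z.1 z.2)).mpr z.1.2.1,
    (hdeg _ z.1.1 (hext z.1 z.2)).symm ▸ z.1.2.2.1,
    (twist_fix_iff N hNres P hk₁ z.1.1 (E z.1) (hE z.1) (hEf z.1) z.2.1 z.2.2.1).mpr z.2.2.2⟩
  have hf : Function.Bijective f := by
    constructor
    · rintro ⟨θ, l⟩ ⟨θ', l'⟩ h
      have h' : LinTwist.twist l.1 (E θ) = LinTwist.twist l'.1 (E θ') := congrArg Subtype.val h
      have hθ : θ = θ' := Subtype.ext (Subtype.ext (funext fun n => by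
        rw [← hext θ l n, h', hext θ' l' n]))
      subst hθ
      refine Prod.ext rfl (Subtype.ext (MonoidHom.ext fun y => ?_))
      obtain ⟨x, hx⟩ : ∃ x : ↥N, (E θ : G → ℂ) ((x : G) * y) ≠ 0 := by
        by_contra hcon
        push Not at hcon
        have h1 := LinTwist.coset_norm N LinTwist.isCyclic_comm (E θ) θ.1 (hE θ) y
        simp only [hcon, zero_mul, Finset.sum_const_zero] at h1
        exact Cfsg.Agent.Lib.Induced.Basic.subgroup_card_ne_zero N h1.symm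
      have h2 := congrArg (fun φ : Cfsg.IrrCharacter G => (φ : G → ℂ) ((x : G) * y)) h'
      simp only [LinTwist.twist_apply, map_mul, l.2.1 x x.2, l'.2.1 x x.2, one_mul] at h2
      exact Units.ext (mul_right_cancel₀ hx h2)
    · rintro ⟨χ, hχB, hχd, hχf⟩
      let θ₀ : Cfsg.IrrCharacter ↥N := ⟨fun n : ↥N => (χ : G → ℂ) n, hirr χ hχd⟩
      have hθ₀ : ∀ n : ↥N, (χ : G → ℂ) n = (θ₀ : ↥N → ℂ) n := fun _ => rfl
      let θ : S := ⟨θ₀, (mem_block_iff N hNres hM χ θ₀ hθ₀).mp hχB, hdeg χ θ₀ hθ₀ ▸ hχd,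
        fun x _ n => Cfsg.Agent.Lib.Characters.Basic.isClassFunction_irr χ (n : G) x,
        fun n => by show (χ : G → ℂ) ((n ^ k : ↥N) : G) = _; rw [Subgroup.coe_pow, hχf]⟩
      obtain ⟨l, hl, hlχ⟩ := LinTwist.exists_twist N LinTwist.isCyclic_comm (E θ) χ (by
        rw [show (fun n : ↥N => (E θ : G → ℂ) n) = (θ₀ : ↥N → ℂ) from funext (hE θ)]
        show Cfsg.classInner (θ₀ : ↥N → ℂ) (θ₀ : ↥N → ℂ) ≠ 0
        rw [Cfsg.Agent.Lib.Characters.Basic.classInner_self_irr]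
        exact one_ne_zero)
      have hlp : ∀ y, l y ^ p = 1 :=
        (twist_fix_iff N hNres P hk₁ θ₀ (E θ) (hE θ) (hEf θ) l hl).mp (hlχ ▸ hχf)
      exact ⟨⟨θ, ⟨l, hl, hlp⟩⟩, Subtype.ext hlχ⟩
  show Nat.card T = p * Nat.card S
  rw [← Nat.card_eq_of_bijective f hf, Nat.card_prod, card_torsion_dual N hNres hnt, mul_comm]

end Cfsg.Agent.S4553
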