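import Cfsg.Statements.S4560
import Cfsg.Agent.Lib.BC78.LowPermChars
import Mathlib.GroupTheory.Perm.Cycle.PossibleTypes

set_option autoImplicit false
open Cfsg

namespace Cfsg.Agent.S4560

open Equiv Equiv.Perm MulAction
open Cfsg.Agent.Lib.BC78

variable {n : ℕ}

theorem fixN_eq (x : alternatingGroup (Fin n)) :
    LowPermChars.fixN (Fin n) x = n - (x : Perm (Fin n)).cycleType.sum := by
  rw [sum_cycleType, LowPermChars.fixN, Nat.card_eq_fintype_card,
    show Fintype.card (fixedBy (Fin n) x) = ((x : Perm (Fin n)).supportᶜ).card from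
      Fintype.card_of_finset' _ fun a => by
        rw [Finset.mem_compl, Perm.mem_support, not_not, mem_fixedBy]; rfl,
    Finset.card_compl, Fintype.card_fin]

theorem swapN_eq (x : alternatingGroup (Fin n)) :
    LowPermChars.swapN (Fin n) x = 2 * (x : Perm (Fin n)).cycleType.count 2 := by
  classical
  set g : Perm (Fin n) := ↑x with hg
  let P := g.support.filter fun a => g (g a) = a
  have hP : P = (g.cycleFactorsFinset.filter fun c => c.support.card = 2).biUnion
      fun c => c.support := by
    ext a
    simp only [P, Finset.mem_filter, Finset.mem_biUnion]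
    constructor
    · rintro ⟨ha, hga⟩
      refine ⟨g.cycleOf a, ⟨cycleOf_mem_cycleFactorsFinset_iff.2 ha, ?_⟩,
        mem_support_cycleOf_iff.2 ⟨SameCycle.refl _ _, ha⟩⟩
      have hc := g.isCycle_cycleOf (Perm.mem_support.1 ha)
      have h2 : g.cycleOf a ^ 2 = 1 := by
        refine (hc.pow_eq_one_iff' (x := a) (by rw [cycleOf_apply_self]; exact Perm.mem_support.1 ha)).2 ?_
        rw [cycleOf_pow_apply_self, pow_two]
        exact hga
      have hd : (g.cycleOf a).support.card ∣ 2 := by
        rw [← hc.orderOf]; exact orderOf_dvd_of_pow_eq_one h2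
      have := Nat.le_of_dvd two_pos hd
      have := hc.two_le_card_support
      omega
    · rintro ⟨c, ⟨hc, hc2⟩, hac⟩
      have hcyc := (mem_cycleFactorsFinset_iff.1 hc).1
      have ha := mem_cycleFactorsFinset_support_le hc hac
      have h : c ^ 2 = 1 := by rw [← hc2, ← hcyc.orderOf]; exact pow_orderOf_eq_one c
      rw [cycle_is_cycleOf hac hc] at h
      have := congrArg (fun f : Perm (Fin n) => f a) h
      simp only [cycleOf_pow_apply_self, Perm.one_apply] at this
      rw [pow_two, Perm.mul_apply] at this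
      exact ⟨ha, this⟩
  have hcard : P.card = 2 * g.cycleType.count 2 := by
    rw [hP, Finset.card_biUnion, Finset.sum_congr rfl fun c hc => (Finset.mem_filter.1 hc).2,
      Finset.sum_const, smul_eq_mul, mul_comm, cycleType_def, Multiset.count_map]
    · congr 1
      rw [Finset.card_def, Finset.filter_val]
      exact congrArg Multiset.card (Multiset.filter_congr fun c _ => eq_comm)
    · intro c hc d hd hne
      exact (g.cycleFactorsFinset_pairwise_disjoint (Finset.mem_filter.1 hc).1
        (Finset.mem_filter.1 hd).1 hne).disjoint_support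
  rw [← hcard, LowPermChars.swapN, ← Nat.card_eq_finsetCard]
  refine Nat.card_congr
    { toFun := fun e => ⟨e.1 0, ?_⟩
      invFun := fun a => ⟨⟨![(a : Fin n), g a], ?_⟩, ?_⟩
      left_inv := fun e => ?_
      right_inv := fun a => rfl }
  · have h0 : g (e.1 0) = e.1 1 := e.2.1
    have h1 : g (e.1 1) = e.1 0 := e.2.2
    refine Finset.mem_filter.2 ⟨Perm.mem_support.2 ?_, by rw [h0, h1]⟩
    rw [h0]
    exact fun h => absurd (e.1.injective h) (by decide)
  · have ha := (Finset.mem_filter.1 a.2)
    have hne : (a : Fin n) ≠ g a := (Perm.mem_support.1 ha.1).symm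
    intro i j h
    fin_cases i <;> fin_cases j <;>
      first
        | rfl
        | exact absurd h hne
        | exact absurd h hne.symm
  · exact ⟨rfl, (Finset.mem_filter.1 a.2).2⟩
  · refine Subtype.ext (Function.Embedding.ext fun i => ?_)
    fin_cases i
    · rfl
    · exact e.2.1

/-- An even permutation of given cycle type. -/
theorem exists_elt (m : Multiset ℕ) (hm : ∀ i ∈ m, 2 ≤ i) (hs : m.sum ≤ n)
    (he : Even (m.sum + Multiset.card m)) :
    ∃ x : alternatingGroup (Fin n), (x : Perm (Fin n)).cycleType = m := by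
  obtain ⟨g, hg⟩ := (exists_with_cycleType_iff (Fin n)).2 ⟨by rwa [Fintype.card_fin], hm⟩
  exact ⟨⟨g, mem_alternatingGroup.2 (by rw [sign_of_cycleType, hg, he.neg_one_pow])⟩, hg⟩

theorem orderOf_two {x : alternatingGroup (Fin n)} {m : Multiset ℕ}
    (hx : (x : Perm (Fin n)).cycleType = m) (hm : ∀ i ∈ m, i ∣ 8) :
    ∃ j : ℕ, orderOf x = 2 ^ j := by
  have h : orderOf x ∣ 2 ^ 3 := by
    rw [← Subgroup.orderOf_coe, ← lcm_cycleType, hx]
    exact Multiset.lcm_dvd.2 hm
  obtain ⟨j, -, hj⟩ := (Nat.dvd_prime_pow Nat.prime_two).1 h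
  exact ⟨j, hj⟩

theorem pretrans_alt (hn : 7 ≤ n) : IsMultiplyPretransitive (alternatingGroup (Fin n)) (Fin n) 4 := by
  haveI := alternatingGroup.isMultiplyPretransitive (Fin n)
  exact isMultiplyPretransitive_of_le' (n := Nat.card (Fin n) - 2) (by rw [Nat.card_fin]; omega)
    (by rw [ENat.card_eq_coe_natCard]; exact_mod_cast Nat.sub_le _ _)

theorem pretrans_sym : IsMultiplyPretransitive (Perm (Fin n)) (Fin n) 4 :=
  Equiv.Perm.isMultiplyPretransitive (Fin n) 4


/-- For n ≥ 7 the alternating group on n letters has an irreducible character that vanishes at some 2-element and is the restriction of an irreducible character of the symmetric group, and an irreducible character that vanishes at some element of order 3 and is the restriction of an irreducible character of the symmetric group. -/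
theorem result (n : ℕ) (hn : 7 ≤ n) : (∃ χ : Cfsg.IrrCharacter (alternatingGroup (Fin n)), (∃ x : alternatingGroup (Fin n), (∃ j : ℕ, orderOf x = 2 ^ j) ∧ (χ : alternatingGroup (Fin n) → ℂ) x = 0) ∧ ∃ ψ : Cfsg.IrrCharacter (Equiv.Perm (Fin n)), ∀ x : alternatingGroup (Fin n), (ψ : Equiv.Perm (Fin n) → ℂ) x = (χ : alternatingGroup (Fin n) → ℂ) x) ∧ (∃ χ : Cfsg.IrrCharacter (alternatingGroup (Fin n)), (∃ y : alternatingGroup (Fin n), orderOf y = 3 ∧ (χ : alternatingGroup (Fin n) → ℂ) y = 0) ∧ ∃ ψ : Cfsg.IrrCharacter (Equiv.Perm (Fin n)), ∀ x : alternatingGroup (Fin n), (ψ : Equiv.Perm (Fin n) → ℂ) x = (χ : alternatingGroup (Fin n) → ℂ) x) := by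
  classical
  have hA := pretrans_alt hn
  have hS := pretrans_sym (n := n)
  have h4 : 4 ≤ Nat.card (Fin n) := by rw [Nat.card_fin]; omega
  have h5 : 5 ≤ Nat.card (Fin n) := by rw [Nat.card_fin]; omega
  constructor
  · rcases Nat.even_or_odd n with he | ho
    · -- `n` is even
      rw [Nat.even_iff] at he
      obtain ⟨a, ha, ha'⟩ : ∃ a, 1 ≤ a ∧ (n = 4 * a + 4 ∨ n = 4 * a + 2) :=
        if h : n % 4 = 0 then ⟨n / 4 - 1, by omega, Or.inl (by omega)⟩
        else ⟨n / 4, by omega, Or.inr (by omega)⟩
      obtain ⟨m, hm8, hm2, hsum, hev, hcount⟩ : ∃ m : Multiset ℕ, (∀ i ∈ m, i ∣ 8) ∧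
          (∀ i ∈ m, 2 ≤ i) ∧ m.sum = 4 * a + 2 ∧ Even (m.sum + Multiset.card m) ∧
          m.count 2 = 1 := by
        rcases Nat.even_or_odd a with ⟨t, ht⟩ | ⟨t, ht⟩
        · refine ⟨2 ::ₘ 8 ::ₘ Multiset.replicate (a - 2) 4, ?_, ?_, ?_, ?_, ?_⟩
          · intro i hi
            simp only [Multiset.mem_cons, Multiset.mem_replicate] at hi
            rcases hi with rfl | rfl | ⟨-, rfl⟩ <;> norm_num
          · intro i hi
            simp only [Multiset.mem_cons, Multiset.mem_replicate] at hi
            rcases hi with rfl | rfl | ⟨-, rfl⟩ <;> norm_num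
          · simp only [Multiset.sum_cons, Multiset.sum_replicate, smul_eq_mul]; omega
          · simp only [Multiset.sum_cons, Multiset.sum_replicate, smul_eq_mul, Multiset.card_cons,
              Multiset.card_replicate, Nat.even_iff]
            omega
          · simp [Multiset.count_replicate]
        · refine ⟨2 ::ₘ Multiset.replicate a 4, ?_, ?_, ?_, ?_, ?_⟩
          · intro i hi
            simp only [Multiset.mem_cons, Multiset.mem_replicate] at hi
            rcases hi with rfl | ⟨-, rfl⟩ <;> norm_num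
          · intro i hi
            simp only [Multiset.mem_cons, Multiset.mem_replicate] at hi
            rcases hi with rfl | ⟨-, rfl⟩ <;> norm_num
          · simp only [Multiset.sum_cons, Multiset.sum_replicate, smul_eq_mul]; omega
          · simp only [Multiset.sum_cons, Multiset.sum_replicate, smul_eq_mul, Multiset.card_cons,
              Multiset.card_replicate, Nat.even_iff]
            omega
          · simp [Multiset.count_replicate]
      obtain ⟨x, hx⟩ := exists_elt (n := n) m hm2 (by omega) hev
      have hf := fixN_eq x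
      have hs := swapN_eq x
      rw [hx, hsum] at hf
      rw [hx, hcount] at hs
      rcases ha' with hn' | hn'
      · refine ⟨⟨_, LowPermChars.isIrr_chi2 hA h4 h5⟩, ⟨x, orderOf_two hx hm8, ?_⟩,
          ⟨_, LowPermChars.isIrr_chi2 hS h4 h5⟩, fun _ => rfl⟩
        rw [show n - (4 * a + 2) = 2 by omega] at hf
        show LowPermChars.chi2 (Fin n) x = 0
        simp [LowPermChars.chi2, LowPermChars.fC, LowPermChars.sC, hf, hs]
        norm_num
      · refine ⟨⟨_, LowPermChars.isIrr_chi11 hA h4⟩, ⟨x, orderOf_two hx hm8, ?_⟩,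
          ⟨_, LowPermChars.isIrr_chi11 hS h4⟩, fun _ => rfl⟩
        rw [show n - (4 * a + 2) = 0 by omega] at hf
        show LowPermChars.chi11 (Fin n) x = 0
        simp [LowPermChars.chi11, LowPermChars.fC, LowPermChars.sC, hf, hs]
    · -- `n` is odd
      rw [Nat.odd_iff] at ho
      obtain ⟨m, hm8, hm2, hsum, hev⟩ : ∃ m : Multiset ℕ, (∀ i ∈ m, i ∣ 8) ∧ (∀ i ∈ m, 2 ≤ i) ∧
          m.sum = n - 1 ∧ Even (m.sum + Multiset.card m) := by
        by_cases h : n % 4 = 1
        · refine ⟨Multiset.replicate ((n - 1) / 2) 2, ?_, ?_, ?_, ?_⟩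
          · intro i hi; rw [Multiset.eq_of_mem_replicate hi]; norm_num
          · intro i hi; rw [Multiset.eq_of_mem_replicate hi]
          · rw [Multiset.sum_replicate, smul_eq_mul]; omega
          · rw [Multiset.sum_replicate, smul_eq_mul, Multiset.card_replicate, Nat.even_iff]; omega
        · refine ⟨4 ::ₘ Multiset.replicate ((n - 5) / 2) 2, ?_, ?_, ?_, ?_⟩
          · intro i hi
            simp only [Multiset.mem_cons, Multiset.mem_replicate] at hi
            rcases hi with rfl | ⟨-, rfl⟩ <;> norm_num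
          · intro i hi
            simp only [Multiset.mem_cons, Multiset.mem_replicate] at hi
            rcases hi with rfl | ⟨-, rfl⟩ <;> norm_num
          · simp only [Multiset.sum_cons, Multiset.sum_replicate, smul_eq_mul]; omega
          · simp only [Multiset.sum_cons, Multiset.sum_replicate, smul_eq_mul, Multiset.card_cons,
              Multiset.card_replicate, Nat.even_iff]
            omega
      obtain ⟨x, hx⟩ := exists_elt (n := n) m hm2 (by omega) hev
      have hf := fixN_eq x
      rw [hx, hsum, show n - (n - 1) = 1 by omega] at hf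
      refine ⟨⟨_, LowPermChars.isIrr_chi1 hA h4⟩, ⟨x, orderOf_two hx hm8, ?_⟩,
        ⟨_, LowPermChars.isIrr_chi1 hS h4⟩, fun _ => rfl⟩
      show LowPermChars.chi1 (Fin n) x = 0
      simp [LowPermChars.chi1, LowPermChars.fC, hf]
  · -- elements of order three
    obtain ⟨x, hx⟩ := exists_elt (n := n) (Multiset.replicate (n / 3) 3)
      (fun i hi => by rw [Multiset.eq_of_mem_replicate hi]; norm_num)
      (by rw [Multiset.sum_replicate, smul_eq_mul]; omega)
      (by rw [Multiset.sum_replicate, smul_eq_mul, Multiset.card_replicate, Nat.even_iff]; omega)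
    have ho : orderOf x = 3 := by
      have : orderOf x ∣ 3 := by
        rw [← Subgroup.orderOf_coe, ← lcm_cycleType, hx]
        exact Multiset.lcm_dvd.2 fun i hi => by rw [Multiset.eq_of_mem_replicate hi]
      refine ((Nat.dvd_prime Nat.prime_three).1 this).resolve_left fun h => ?_
      have h0 := congrArg Multiset.card hx
      rw [orderOf_eq_one_iff.1 h, OneMemClass.coe_one, cycleType_one, Multiset.card_zero,
        Multiset.card_replicate] at h0
      omega
    have hf := fixN_eq x
    have hs := swapN_eq x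
    rw [hx, Multiset.sum_replicate, smul_eq_mul] at hf
    rw [hx, Multiset.count_replicate, if_neg (by norm_num), mul_zero] at hs
    have h3 : n % 3 = 0 ∨ n % 3 = 1 ∨ n % 3 = 2 := by omega
    rcases h3 with h3 | h3 | h3 <;>
      rw [show n - n / 3 * 3 = n % 3 by omega, h3] at hf
    · refine ⟨⟨_, LowPermChars.isIrr_chi2 hA h4 h5⟩, ⟨x, ho, ?_⟩,
        ⟨_, LowPermChars.isIrr_chi2 hS h4 h5⟩, fun _ => rfl⟩
      show LowPermChars.chi2 (Fin n) x = 0
      simp [LowPermChars.chi2, LowPermChars.fC, LowPermChars.sC, hf, hs]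
    · refine ⟨⟨_, LowPermChars.isIrr_chi1 hA h4⟩, ⟨x, ho, ?_⟩,
        ⟨_, LowPermChars.isIrr_chi1 hS h4⟩, fun _ => rfl⟩
      show LowPermChars.chi1 (Fin n) x = 0
      simp [LowPermChars.chi1, LowPermChars.fC, hf]
    · refine ⟨⟨_, LowPermChars.isIrr_chi11 hA h4⟩, ⟨x, ho, ?_⟩,
        ⟨_, LowPermChars.isIrr_chi11 hS h4⟩, fun _ => rfl⟩
      show LowPermChars.chi11 (Fin n) x = 0
      simp [LowPermChars.chi11, LowPermChars.fC, LowPermChars.sC, hf, hs]

end Cfsg.Agent.S4560
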