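import Cfsg.Statements.S4561
import Cfsg.Agent.Lib.BC78.CentralTypeEmb

set_option autoImplicit false
universe u
open Cfsg

namespace Cfsg.Agent.S4561

/-- For every finite solvable group G there is a finite group H with a faithful irreducible character χ whose degree squared equals the index of the centre Z(H) (so χ is fully ramified over the centre), such that G is isomorphic to a subgroup of H/Z(H), the primes dividing the orders of H, of Z(H) and of G are the same, and the order of Z(H) is squarefree. -/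
theorem result {G : Type u} [Group G] [Finite G] (hsolv : Group.IsSolvable G) : ∃ (H : Type u) (_ : Group H) (_ : Finite H) (χ : Cfsg.IrrCharacter H), (∀ h : H, (χ : H → ℂ) h = (χ : H → ℂ) 1 → h = 1) ∧ (Cfsg.charDegree (χ : H → ℂ)) ^ 2 = (Subgroup.center H).index ∧ (∃ f : G →* H ⧸ Subgroup.center H, Function.Injective f) ∧ (∀ p : ℕ, p.Prime → ((p ∣ Nat.card H ↔ p ∣ Nat.card G) ∧ (p ∣ Nat.card (Subgroup.center H) ↔ p ∣ Nat.card G))) ∧ Squarefree (Nat.card (Subgroup.center H)) := by
  classical
  set m := (Nat.card G).primeFactors.prod id with hm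
  have hmem : ∀ p : ℕ, p.Prime → (p ∣ m ↔ p ∣ Nat.card G) := fun p hp => by
    rw [hm, Prime.dvd_finsetProd_iff hp.prime]
    constructor
    · rintro ⟨q, hq, hpq⟩
      have hqp := Nat.prime_of_mem_primeFactors hq
      rw [(Nat.prime_dvd_prime_iff_eq hp hqp).mp hpq]
      exact Nat.dvd_of_mem_primeFactors hq
    · exact fun h => ⟨p, Nat.mem_primeFactors.mpr ⟨hp, h, Nat.card_pos.ne'⟩, dvd_rfl⟩
  haveI : NeZero m := ⟨Finset.prod_ne_zero_iff.mpr fun q hq =>
    (Nat.prime_of_mem_primeFactors hq).ne_zero⟩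
  obtain ⟨K, _, _, ι, _, _, D, hK, f, hf⟩ :=
    Lib.BC78.CentralTypeEmb.exists_data m (Nat.card G) G hsolv rfl fun p hp h => (hmem p hp).mpr h
  haveI := Lib.BC78.CentralTypeEmb.finite_model D
  refine ⟨Lib.BC78.CentralTypeEmb.model D, inferInstance, inferInstance,
    ⟨_, Lib.BC78.CentralTypeEmb.isIrr_chi D⟩, Lib.BC78.CentralTypeEmb.faithful_chi D, ?_, ?_, ?_, ?_⟩
  · rw [Lib.BC78.CentralTypeEmb.index_center D, Lib.BC78.CentralTypeEmb.charDegree_chi D]
  · let e := (QuotientGroup.quotientMulEquivOfEq (Lib.BC78.CentralTypeEmb.center_model D)).trans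
      (QuotientGroup.quotientKerEquivOfSurjective _ (Lib.BC78.CentralTypeEmb.proj_surjective D))
    exact ⟨e.symm.toMonoidHom.comp f, e.symm.injective.comp hf⟩
  · intro p hp
    rw [Lib.BC78.CentralTypeEmb.card_model D, Lib.BC78.CentralTypeEmb.card_center D,
      hp.dvd_mul, hmem p hp]
    exact ⟨⟨fun h => h.elim id (hK p hp), Or.inl⟩, Iff.rfl⟩
  · rw [Lib.BC78.CentralTypeEmb.card_center D, hm]
    exact Finset.squarefree_prod_of_pairwise_isCoprime
      (fun a ha b hb hab => Nat.coprime_iff_isRelPrime.mp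
        ((Nat.coprime_primes (Nat.prime_of_mem_primeFactors ha)
          (Nat.prime_of_mem_primeFactors hb)).mpr hab))
      (fun a ha => (Nat.prime_of_mem_primeFactors ha).squarefree)

end Cfsg.Agent.S4561
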