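import Cfsg.Statements.S4563
import Cfsg.Agent.Lib.BC78.RamifiedComplement
import Cfsg.Agent.Lib.Hall.Converse

set_option autoImplicit false
open Cfsg
open Cfsg.Agent.Lib.Induced.Basic Cfsg.Agent.Lib.Characters.Basic Cfsg.Agent.Lib.BC78
  Cfsg.Agent.Lib.BC78.CoprimeFix Cfsg.Agent.Lib.BC78.Clifford Cfsg.Agent.Lib.BC78.RamifiedComplement

namespace Cfsg.Agent.S4563

universe u

theorem over_of {A Z : Type u} [Group A] [Group Z] [Fintype A] [Fintype Z] (f : Z →* A) {χA : A → ℂ}
    (hχA : Cfsg.IsCharacter A χA) {θ : Cfsg.IrrCharacter Z} {a : ℂ}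
    (h : χA ∘ f = a • (θ : Z → ℂ)) (η : Cfsg.IrrCharacter A) (hη : Cfsg.classInner χA η ≠ 0) :
    ∃ b : ℂ, b ≠ 0 ∧ (η : A → ℂ) ∘ f = b • (θ : Z → ℂ) ∧
      Cfsg.classInner ((η : A → ℂ) ∘ f) θ = b := by
  have hd := character_eq_finsum (isCharacter_comp f (isCharacter_irr η))
  have hrest : ∀ θ₁ : Cfsg.IrrCharacter Z, θ₁ ≠ θ →
      Cfsg.classInner ((η : A → ℂ) ∘ f) θ₁ = 0 := fun θ₁ hne => by
    by_contra h0
    apply inner_ne_zero_comp f hχA η (isCharacter_irr θ₁) hη h0
    rw [h, classInner_smul_left, classInner_irr_of_ne hne.symm, mul_zero]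
  have heq : (η : A → ℂ) ∘ f = Cfsg.classInner ((η : A → ℂ) ∘ f) θ • (θ : Z → ℂ) := by
    conv_lhs => rw [hd]
    rw [finsum_eq_single _ θ]
    intro θ₁ hne
    rw [hrest θ₁ hne, zero_smul]
  refine ⟨_, fun h0 => ?_, heq, rfl⟩
  have h1 := congrFun heq 1
  rw [h0, zero_smul, Pi.zero_apply, Function.comp_apply, map_one] at h1
  exact apply_one_ne_zero η h1

/-- Let χ be an irreducible character of the finite group H that is fully ramified over the normal subgroup Z: the restriction of χ to Z is e times an irreducible character of Z with e ^ 2 equal to the index of Z. If K is a proper normal subgroup of H containing Z and χ is induced from a character of K, then H/K is solvable; in particular, if K is solvable then so is H. -/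
theorem result {H : Type*} [Group H] [Fintype H] (Z : Subgroup H) [Z.Normal] (χ : Cfsg.IrrCharacter H) (hfr : ∃ (θ : Cfsg.IrrCharacter ↥Z) (e : ℕ), e ^ 2 = Z.index ∧ ∀ z : ↥Z, (χ : H → ℂ) z = (e : ℂ) * (θ : ↥Z → ℂ) z) (K : Subgroup H) [K.Normal] [Fintype K] (hZK : Z ≤ K) (hK : K ≠ ⊤) (φ : ↥K → ℂ) (hφ : Cfsg.IsCharacter ↥K φ) (hind : Cfsg.indFun K φ = (χ : H → ℂ)) : Group.IsSolvable (H ⧸ K) ∧ (Group.IsSolvable ↥K → Group.IsSolvable H) := by
  classical
  obtain ⟨θ, e, he, hres⟩ := hfr
  haveI := Fintype.ofFinite Z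
  haveI := Fintype.ofFinite (Cfsg.IrrCharacter K)
  have huH : ∀ φ' : Cfsg.IrrCharacter H,
      Cfsg.classInner ((φ' : H → ℂ) ∘ Z.subtype) θ ≠ 0 → φ' = χ :=
    fun φ' h => Ramified.over_unique he hres φ' h
  have hχZ : ((χ : H → ℂ) ∘ K.subtype) ∘ Subgroup.inclusion hZK = (e : ℂ) • (θ : Z → ℂ) :=
    funext hres
  -- an irreducible constituent inducing χ
  choose a ha using fun η : Cfsg.IrrCharacter K => exists_classInner_nat hφ (isCharacter_irr η)
  have hd := character_eq_finsum hφ
  rw [finsum_eq_sum_of_fintype] at hd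
  have hone : Cfsg.classInner φ ((χ : H → ℂ) ∘ K.subtype) ≠ 0 := by
    have := frobenius_reciprocity K φ (isClassFunction_irr χ)
    rw [hind, classInner_self_irr] at this
    exact fun h0 => one_ne_zero (this.trans h0)
  obtain ⟨φ₁, hφ₁a, hφ₁χ⟩ : ∃ φ₁ : Cfsg.IrrCharacter K, a φ₁ ≠ 0 ∧
      Cfsg.classInner ((χ : H → ℂ) ∘ K.subtype) φ₁ ≠ 0 := by
    by_contra hno
    push Not at hno
    apply hone
    conv_lhs => arg 1; rw [hd]
    rw [classInner_sum_left]
    refine Finset.sum_eq_zero fun η _ => ?_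
    rw [classInner_smul_left, ha]
    by_cases h0 : a η = 0
    · rw [h0, Nat.cast_zero, zero_mul]
    · rw [← classInner_conj_symm, hno η h0, map_zero, mul_zero]
  obtain ⟨b, hb0, hbres, hbin⟩ := over_of (Subgroup.inclusion hZK)
    (isCharacter_comp K.subtype (isCharacter_irr χ)) hχZ φ₁ hφ₁χ
  have hover₁ : Cfsg.classInner ((φ₁ : K → ℂ) ∘ Subgroup.inclusion hZK) θ ≠ 0 := hbin ▸ hb0
  have hdegle : deg φ₁ * K.index ≤ deg χ := by
    have h1 : φ 1 = ((∑ η : Cfsg.IrrCharacter K, a η * deg η : ℕ) : ℂ) := by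
      rw [congrFun hd 1, Finset.sum_apply, Nat.cast_sum]
      refine Finset.sum_congr rfl fun η _ => ?_
      rw [Pi.smul_apply, smul_eq_mul, ha, apply_one_eq_deg, Nat.cast_mul]
    have h2 := congrFun hind 1
    rw [indFun_one, h1, apply_one_eq_deg] at h2
    have h3 : K.index * (∑ η : Cfsg.IrrCharacter K, a η * deg η) = deg χ := by exact_mod_cast h2
    rw [← h3, mul_comm]
    refine Nat.mul_le_mul_left _ (le_trans ?_
      (Finset.single_le_sum (fun η _ => Nat.zero_le _) (Finset.mem_univ φ₁)))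
    exact Nat.le_mul_of_pos_left _ (Nat.pos_of_ne_zero hφ₁a)
  obtain ⟨d, hd0, -, hdeq⟩ := eq_smul (T := H) Z (ψ := χ) (θ := θ) huH K hZK φ₁ hover₁
  have hdeg : K.index * deg φ₁ = e * deg θ := by
    have h := congrFun hdeq 1
    rw [indFun_one, Pi.smul_apply, smul_eq_mul, apply_one_eq_deg, apply_one_eq_deg] at h
    have h' : K.index * deg φ₁ = d * deg χ := by exact_mod_cast h
    have hχ1 : (χ : H → ℂ) 1 = (e : ℂ) * (θ : Z → ℂ) 1 := by rw [← hres 1, Subgroup.coe_one]
    rw [apply_one_eq_deg, apply_one_eq_deg] at hχ1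
    have hχd : deg χ = e * deg θ := by exact_mod_cast hχ1
    have : d * deg χ ≤ 1 * deg χ := by rw [one_mul, ← h', mul_comm]; exact hdegle
    have hd1 : d = 1 := by
      have hpos : 0 < deg χ := Nat.pos_of_ne_zero fun h0 => apply_one_ne_zero χ (by
        rw [apply_one_eq_deg, h0, Nat.cast_zero])
      have := Nat.le_of_mul_le_mul_right this hpos
      omega
    rw [h', hd1, one_mul, hχd]
  have hθpos : 0 < deg θ := Nat.pos_of_ne_zero fun h0 => apply_one_ne_zero θ (by
    rw [apply_one_eq_deg, h0, Nat.cast_zero])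
  have hsolv : Group.IsSolvable (H ⧸ K) := by
    refine Cfsg.Agent.Lib.Hall.Converse.isSolvable_of_complements fun p hp => ?_
    haveI := Fact.mk hp
    obtain ⟨M, hM, -⟩ := exists_index_eq he hres K hZK p
      (fun T hZT m e' _ _ ψ η huniq _ hk hee he' hψ hη t ht => by
      let Z'' : Subgroup T := Z.subgroupOf T
      let P'' : Subgroup T := K.subgroupOf T
      haveI : Z''.Normal := Subgroup.Normal.subgroupOf inferInstance T
      haveI : P''.Normal := Subgroup.Normal.subgroupOf inferInstance T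
      haveI := Fintype.ofFinite Z''
      haveI := Fintype.ofFinite (Cfsg.IrrCharacter P'')
      let iz : Z'' ≃* Z := Subgroup.subgroupOfEquivOfLe hZT
      have hZP'' : Z'' ≤ P'' := fun z hz => hZK hz
      have huniq'' : ∀ φ : Cfsg.IrrCharacter T,
          Cfsg.classInner ((φ : T → ℂ) ∘ Z''.subtype) (pull iz.toMonoidHom iz.surjective θ) ≠ 0 →
          φ = ψ := fun φ h => huniq φ (by
        rw [← classInner_comp_equiv iz]
        exact h)
      have hη'' : Cfsg.classInner ((η : P'' → ℂ) ∘ Subgroup.inclusion hZP'')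
          (pull iz.toMonoidHom iz.surjective θ : Z'' → ℂ) ≠ 0 := by
        rw [← classInner_comp_equiv iz] at hη
        exact hη
      obtain ⟨c, hc0, -, hcd, hcsq⟩ := sq_mult Z'' P'' hZP'' huniq'' η hη''
      -- the degree of η divides that of φ₁
      let j : P'' →* K :=
        { toFun := fun x => ⟨x.1.1, x.2⟩
          map_one' := rfl
          map_mul' := fun _ _ => rfl }
      have hdd : deg η ∣ deg φ₁ := by
        have hj : Cfsg.IsCharacter P'' ((φ₁ : K → ℂ) ∘ j) := isCharacter_comp j (isCharacter_irr φ₁)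
        choose g hg using fun x : Cfsg.IrrCharacter P'' => exists_classInner_nat hj (isCharacter_irr x)
        have hdj := character_eq_finsum hj
        rw [finsum_eq_sum_of_fintype] at hdj
        have heach : ∀ x, g x ≠ 0 → deg x = deg η := by
          intro x hx
          obtain ⟨b', hb', -, hb''⟩ := over_of ((Subgroup.inclusion hZT).codRestrict P'' fun z => hZK z.2)
            hj (θ := θ) (a := b) hbres x (by rw [hg]; exact_mod_cast hx)
          have hx'' : Cfsg.classInner ((x : P'' → ℂ) ∘ Subgroup.inclusion hZP'')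
              (pull iz.toMonoidHom iz.surjective θ : Z'' → ℂ) ≠ 0 := by
            rw [← hb'', ← classInner_comp_equiv iz] at hb'
            exact hb'
          obtain ⟨s, hs⟩ := exists_conj Z'' P'' hZP'' huniq'' η x hη'' hx''
          rw [← hs, deg_conjIrr]
        have h1 : (deg φ₁ : ℂ) = ((∑ x, g x * deg η : ℕ) : ℂ) := by
          have h := congrFun hdj 1
          rw [Function.comp_apply, map_one, apply_one_eq_deg, Finset.sum_apply] at h
          rw [h, Nat.cast_sum]
          refine Finset.sum_congr rfl fun x _ => ?_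
          rw [Pi.smul_apply, smul_eq_mul, hg, apply_one_eq_deg, Nat.cast_mul]
          by_cases hx : g x = 0
          · rw [hx]; simp
          · rw [heach x hx]
        rw [show deg φ₁ = ∑ x, g x * deg η by exact_mod_cast h1]
        exact Finset.dvd_sum fun x _ => dvd_mul_left _ _
      have hidx : P''.index ∣ K.index := Subgroup.relIndex_dvd_index_of_normal K T
      have hce : c ∣ e' := by
        have h : c * (p ^ m * deg θ) ∣ e' * (p ^ m * deg θ) := by
          rw [show e' * (p ^ m * deg θ) = K.index * deg φ₁ by rw [hdeg, hee]; ring, ← hψ, hcd]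
          exact mul_dvd_mul hidx hdd
        exact Nat.dvd_of_mul_dvd_mul_right (Nat.mul_pos (pow_pos hp.pos m) hθpos) h
      obtain ⟨k, hk⟩ := hk
      have hPI := Cfsg.Agent.Lib.Clifford.Basic.le_inertia P'' (isClassFunction_irr η)
      have hcpow : c ^ 2 ∣ p ^ k := by
        rw [← hk]
        refine dvd_trans ?_ (Subgroup.index_dvd_of_le hZP'')
        refine Nat.dvd_of_mul_dvd_mul_right (Nat.card_pos (α := P'')) ?_
        rw [hcsq, mul_comm P''.index, Subgroup.card_mul_index]
        exact Subgroup.card_subgroup_dvd_card _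
      have hc1 : c = 1 := Nat.eq_one_of_dvd_coprimes
        (Nat.Coprime.pow_left k (hp.coprime_iff_not_dvd.2 he'))
        (dvd_trans (dvd_pow_self c two_ne_zero) hcpow) hce
      rw [hc1, one_pow, one_mul] at hcsq
      have hPIeq := Subgroup.eq_of_le_of_card_ge hPI hcsq.ge
      have : t ∈ P'' := by rw [hPIeq]; exact congrArg Subtype.val ht
      exact this)
    exact ⟨M, hM⟩
  refine ⟨hsolv, fun hKs => ?_⟩
  haveI := hsolv
  haveI := hKs
  exact solvable_of_ker_le_range K.subtype (QuotientGroup.mk' K) (by simp)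

end Cfsg.Agent.S4563
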