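import Cfsg.Statements.S4564
import Cfsg.Agent.Lib.BC78.RamifiedComplement

set_option autoImplicit false
open Cfsg
open Cfsg.Agent.Lib.BC78 Cfsg.Agent.Lib.BC78.CoprimeFix Cfsg.Agent.Lib.BC78.Clifford
  Cfsg.Agent.Lib.BC78.RamifiedComplement

namespace Cfsg.Agent.S4564

/-- Let χ be an irreducible character of the finite group H that is fully ramified over the normal subgroup Z: the restriction of χ to Z is e times an irreducible character of Z with e ^ 2 equal to the index of Z. Let K be a normal subgroup of H containing Z and P a cyclic Sylow p-subgroup of H/K. Then P has a complement in H/K: a subgroup meeting P trivially whose product with P is the whole group. -/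
theorem result {H : Type*} [Group H] [Finite H] (Z : Subgroup H) [Z.Normal] (χ : Cfsg.IrrCharacter H) (hfr : ∃ (θ : Cfsg.IrrCharacter ↥Z) (e : ℕ), e ^ 2 = Z.index ∧ ∀ z : ↥Z, (χ : H → ℂ) z = (e : ℂ) * (θ : ↥Z → ℂ) z) (K : Subgroup H) [K.Normal] (hZK : Z ≤ K) (p : ℕ) [Fact p.Prime] (P : Sylow p (H ⧸ K)) (hcyc : IsCyclic P) : ∃ M : Subgroup (H ⧸ K), M.IsComplement' (P : Subgroup (H ⧸ K)) := by
  classical
  haveI := Fintype.ofFinite H
  haveI := Fintype.ofFinite Z
  obtain ⟨θ, e, he, hres⟩ := hfr
  obtain ⟨M, hM, hMp⟩ := exists_index_eq he hres K hZK p (fun T hZT m e' _ _ ψ η huniq hTidx hk _ _ _ hη t ht => by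
    obtain ⟨k, hk⟩ := hk
    let Z'' : Subgroup T := Z.subgroupOf T
    let P'' : Subgroup T := K.subgroupOf T
    haveI : Z''.Normal := Subgroup.Normal.subgroupOf inferInstance T
    haveI : P''.Normal := Subgroup.Normal.subgroupOf inferInstance T
    haveI := Fintype.ofFinite Z''
    let iz : Z'' ≃* Z := Subgroup.subgroupOfEquivOfLe hZT
    let f : T →* H ⧸ K := (QuotientGroup.mk' K).comp T.subtype
    have hker : f.ker = P'' := by
      ext x
      simp [f, P'', MonoidHom.mem_ker, Subgroup.mem_subgroupOf]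
    have hp' : IsPGroup p f.range := by
      rintro ⟨_, x, rfl⟩
      refine ⟨k, Subtype.ext ?_⟩
      have hx : x ^ (p ^ k) ∈ Z'' := by rw [← hk]; exact Z''.pow_index_mem x
      change f x ^ (p ^ k) = 1
      rw [← map_pow, ← MonoidHom.mem_ker, hker]
      exact hZK hx
    obtain ⟨Q, hQ⟩ := hp'.exists_le_sylow
    haveI : IsCyclic P := hcyc
    haveI : IsCyclic Q := isCyclic_of_surjective _ (Sylow.equiv P Q).surjective
    haveI : IsCyclic f.range := isCyclic_of_injective (Subgroup.inclusion hQ) (Subgroup.inclusion_injective hQ)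
    haveI : IsCyclic (T ⧸ P'') :=
      isCyclic_of_injective ((QuotientGroup.quotientKerEquivRange f).toMonoidHom.comp
        (QuotientGroup.quotientMulEquivOfEq hker.symm).toMonoidHom)
        ((QuotientGroup.quotientKerEquivRange f).injective.comp
          (QuotientGroup.quotientMulEquivOfEq hker.symm).injective)
    have hZP'' : Z'' ≤ P'' := fun z hz => hZK hz
    have huniq'' : ∀ φ : Cfsg.IrrCharacter T,
        Cfsg.classInner ((φ : T → ℂ) ∘ Z''.subtype) (pull iz.toMonoidHom iz.surjective θ) ≠ 0 →
        φ = ψ := fun φ h => huniq φ (by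
      rw [← classInner_comp_equiv iz]
      exact h)
    exact inertia_eq_of_cyclic Z'' P'' hZP'' huniq'' η
      (by rw [← classInner_comp_equiv iz] at hη; exact hη) t ht)
  refine ⟨M, Subgroup.isComplement'_of_coprime ?_ ?_⟩
  · rw [Sylow.card_eq_multiplicity, ← hM, Subgroup.card_mul_index]
  · rw [Sylow.card_eq_multiplicity]
    exact Nat.Coprime.pow_right _ ((Fact.out : p.Prime).coprime_iff_not_dvd.2 hMp).symm

end Cfsg.Agent.S4564
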