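import Cfsg.Statements.S4566
import Cfsg.Agent.Lib.BC78.Central

set_option autoImplicit false
open Cfsg

namespace Cfsg.Agent.S4566

theorem result {G : Type*} [Group G] [Fintype G] (N : Subgroup G) [Fintype N] (hN : N ≤ Subgroup.center G) (ψ : Cfsg.IrrCharacter ↥N) (hfaith : ∀ n : ↥N, (ψ : ↥N → ℂ) n = (ψ : ↥N → ℂ) 1 → n = 1) (χ : Cfsg.IrrCharacter G) (hover : Cfsg.classInner (fun n : ↥N => (χ : G → ℂ) n) (ψ : ↥N → ℂ) ≠ 0) (g x : G) (hcomm : x⁻¹ * g⁻¹ * x * g ∈ N) (hne : x⁻¹ * g⁻¹ * x * g ≠ 1) : (χ : G → ℂ) g = 0 := by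
  by_contra hg
  let n : N := ⟨_, hcomm⟩
  have hz := Subgroup.mem_center_iff.1 (hN n.2)
  have hconj : x⁻¹ * g * x = ((n⁻¹ : N) : G) * g := by
    have h1 : x⁻¹ * g⁻¹ * x = (n : G) * g⁻¹ := by
      simp [n, mul_assoc]
    have h2 := congrArg Inv.inv h1
    simp only [mul_inv_rev, inv_inv] at h2
    rw [Subgroup.coe_inv, ← Subgroup.mem_center_iff.1 (inv_mem (hN n.2)) g, ← h2, mul_assoc]
  have hcl : (χ : G → ℂ) (x⁻¹ * g * x) = (χ : G → ℂ) g := by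
    obtain ⟨m, ρ, -, hρ⟩ := χ.2
    rw [← hρ]
    simpa using ρ.char_conj g x⁻¹
  rw [hconj, Lib.BC78.Central.char_mul_of_over χ.2 N hN ψ.2 hover] at hcl
  have h1 : (ψ : N → ℂ) n⁻¹ = (ψ : N → ℂ) 1 := by
    rw [Lib.BC78.Central.irr_of_comm_degree
      (fun a b => Subtype.ext (Subgroup.mem_center_iff.1 (hN b.2) a)) ψ.2]
    exact mul_right_cancel₀ hg (hcl.trans (one_mul _).symm)
  have := hfaith _ h1
  exact hne (congrArg Subtype.val (inv_eq_one.1 this))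

end Cfsg.Agent.S4566
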