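import Cfsg.Statements.S4567
import Cfsg.Agent.Lib.BC78.Central
import Cfsg.Agent.Lib.Characters.Complete
import Cfsg.Agent.Lib.Induced.Basic

set_option autoImplicit false
open Cfsg
open scoped ComplexConjugate
open Cfsg.Agent.Lib Cfsg.Agent.Lib.Induced.Basic Cfsg.Agent.Lib.Characters.Basic
open Cfsg.Agent.Lib.BC78

namespace Cfsg.Agent.S4567

/-- Let N be a central subgroup of the finite group G and ψ a faithful irreducible (hence degree-one) character of N. Call a coset g N special when every x ∈ G whose commutator x⁻¹ g⁻¹ x g lies in N actually commutes with g (this depends only on the coset). Then the number of irreducible characters of G whose restriction to N contains ψ equals the number of conjugacy classes of G/N consisting of special cosets. -/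
theorem result {G : Type*} [Group G] [Fintype G] (N : Subgroup G) [N.Normal] [Fintype N] (hN : N ≤ Subgroup.center G) (ψ : Cfsg.IrrCharacter ↥N) (hfaith : ∀ n : ↥N, (ψ : ↥N → ℂ) n = (ψ : ↥N → ℂ) 1 → n = 1) : Nat.card {χ : Cfsg.IrrCharacter G // Cfsg.classInner (fun n : ↥N => (χ : G → ℂ) n) (ψ : ↥N → ℂ) ≠ 0} = Nat.card {C : ConjClasses (G ⧸ N) // ∃ g : G, ConjClasses.mk (g : G ⧸ N) = C ∧ ∀ x : G, x⁻¹ * g⁻¹ * x * g ∈ N → x * g = g * x} := by
  classical
  haveI : Finite (ConjClasses (G ⧸ N)) := Quotient.finite _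
  have hcommN : ∀ a b : N, a * b = b * a := fun a b =>
    Subtype.ext (Subgroup.mem_center_iff.1 (hN b.2) a)
  have hψ1 : (ψ : N → ℂ) 1 = 1 := Central.irr_of_comm_degree hcommN ψ.2
  have hψmul : ∀ a b : N, (ψ : N → ℂ) (a * b) = (ψ : N → ℂ) a * (ψ : N → ℂ) b := fun a b => by
    rw [Central.char_mul_central ψ.2 (Subgroup.mem_center_iff.2 fun c => hcommN c a) b, hψ1, div_one]
  -- the space
  let F : Submodule ℂ (G → ℂ) :=
    { carrier := {f | Cfsg.IsClassFunction G f ∧ ∀ (n : N) (g : G), f ((n : G) * g) = (ψ : N → ℂ) n * f g}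
      zero_mem' := ⟨fun _ _ => rfl, fun _ _ => by simp⟩
      add_mem' := fun {a b} ha hb => ⟨fun g h => by rw [Pi.add_apply, Pi.add_apply, ha.1, hb.1],
        fun n g => by rw [Pi.add_apply, Pi.add_apply, ha.2, hb.2, mul_add]⟩
      smul_mem' := fun r a ha => ⟨fun g h => by rw [Pi.smul_apply, Pi.smul_apply, ha.1],
        fun n g => by rw [Pi.smul_apply, Pi.smul_apply, ha.2, smul_eq_mul, smul_eq_mul, mul_left_comm]⟩ }
  set A := {χ : Cfsg.IrrCharacter G // Cfsg.classInner (fun n : ↥N => (χ : G → ℂ) n) (ψ : ↥N → ℂ) ≠ 0}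
  haveI := Fintype.ofFinite A
  have hA : Nat.card A = Module.finrank ℂ F := by
    have hli : LinearIndependent ℂ (fun χ : A => ((χ.1 : Cfsg.IrrCharacter G) : G → ℂ)) :=
      linearIndependent_irr.comp _ Subtype.val_injective
    rw [Nat.card_eq_fintype_card, ← finrank_span_eq_card hli]
    rw [show Submodule.span ℂ (Set.range fun χ : A => ((χ.1 : Cfsg.IrrCharacter G) : G → ℂ)) = F from ?_]
    refine le_antisymm (Submodule.span_le.2 ?_) fun f hf => ?_
    · rintro _ ⟨χ, rfl⟩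
      exact ⟨isClassFunction_irr χ.1, Central.char_mul_of_over χ.1.2 N hN ψ.2 χ.2⟩
    · haveI := Fintype.ofFinite (Cfsg.IrrCharacter G)
      have h := Characters.Complete.classFunction_eq_finsum hf.1
      rw [finsum_eq_sum_of_fintype] at h
      rw [h]
      refine sum_mem fun χ _ => ?_
      by_cases hχ : Cfsg.classInner (fun n : ↥N => (χ : G → ℂ) n) (ψ : ↥N → ℂ) ≠ 0
      · exact Submodule.smul_mem _ _ (Submodule.subset_span ⟨⟨χ, hχ⟩, rfl⟩)
      · rw [not_not] at hχ
        obtain ⟨n, hn⟩ : ∃ n : N, (χ : G → ℂ) n / (χ : G → ℂ) 1 ≠ (ψ : N → ℂ) n := by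
          by_contra hcon
          push Not at hcon
          have e : (fun n : N => (χ : G → ℂ) n) = (χ : G → ℂ) 1 • (ψ : N → ℂ) := funext fun n => by
            rw [Pi.smul_apply, smul_eq_mul, ← hcon n, mul_div_cancel₀ _ (Central.irr_degree_ne_zero χ.2)]
          rw [e, classInner_smul_left, classInner_self_irr, mul_one] at hχ
          exact Central.irr_degree_ne_zero χ.2 hχ
        rw [show Cfsg.classInner f (χ : G → ℂ) = 0 from ?_, zero_smul]
        · exact zero_mem _
        have h1 : Cfsg.classInner f (χ : G → ℂ) =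
            (ψ : N → ℂ) n * conj ((χ : G → ℂ) n / (χ : G → ℂ) 1) * Cfsg.classInner f (χ : G → ℂ) := by
          simp only [Cfsg.classInner, Finset.mul_sum]
          refine (Fintype.sum_equiv (Equiv.mulLeft (n : G)) _ _ fun g => ?_).symm
          rw [Equiv.coe_mulLeft, hf.2, Central.char_mul_central χ.2 (hN n.2) g, map_mul]
          ring
        have hcn : (ψ : N → ℂ) n * conj ((χ : G → ℂ) n / (χ : G → ℂ) 1) ≠ 1 := by
          intro hc
          have hu : (ψ : N → ℂ) n * conj ((ψ : N → ℂ) n) = 1 := by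
            rw [← apply_inv (isCharacter_irr ψ), ← hψmul, mul_inv_cancel, hψ1]
          have h2 := mul_left_cancel₀ (left_ne_zero_of_mul (hc ▸ one_ne_zero)) (hc.trans hu.symm)
          exact hn (by simpa using congrArg conj h2)
        by_contra h0
        exact hcn (mul_right_cancel₀ h0 (h1.symm.trans (one_mul _).symm))
  rw [hA]
  -- special cosets
  set S := {C : ConjClasses (G ⧸ N) // ∃ g : G, ConjClasses.mk (g : G ⧸ N) = C ∧ ∀ x : G, x⁻¹ * g⁻¹ * x * g ∈ N → x * g = g * x}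
  haveI := Fintype.ofFinite S
  have hrep : ∀ C : S, ∃ g : G, ConjClasses.mk (g : G ⧸ N) = C.1 ∧
      ∀ x : G, x⁻¹ * g⁻¹ * x * g ∈ N → x * g = g * x := fun C => C.2
  choose r hr hrs using hrep
  have hconjN : ∀ (g h : G), ConjClasses.mk (g : G ⧸ N) = ConjClasses.mk (h : G ⧸ N) →
      ∃ (n : N) (c : G), g = (n : G) * (c * h * c⁻¹) := by
    intro g h e
    obtain ⟨q, hq⟩ := isConj_iff.1 (ConjClasses.mk_eq_mk_iff_isConj.1 e.symm)
    obtain ⟨c, rfl⟩ := QuotientGroup.mk_surjective q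
    refine ⟨⟨g * (c * h * c⁻¹)⁻¹, ?_⟩, c, (inv_mul_cancel_right g _).symm⟩
    rw [← QuotientGroup.eq_one_iff, QuotientGroup.mk_mul, QuotientGroup.mk_inv]
    simp only [QuotientGroup.mk_mul, QuotientGroup.mk_inv]
    rw [hq, mul_inv_cancel]
  let ev : F →ₗ[ℂ] (S → ℂ) :=
    { toFun := fun f C => (f : G → ℂ) (r C), map_add' := fun _ _ => rfl, map_smul' := fun _ _ => rfl }
  have hspec : ∀ f ∈ F, ∀ g : G, f g ≠ 0 → ∀ x : G, x⁻¹ * g⁻¹ * x * g ∈ N → x * g = g * x := by
    intro f hf g hg x hx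
    set n : N := ⟨_, hx⟩ with hn
    have h2 : f g = (ψ : N → ℂ) n * f g := by
      have e : x⁻¹ * g * x⁻¹⁻¹ = g * (n : G)⁻¹ := by
        show _ = g * (x⁻¹ * g⁻¹ * x * g)⁻¹
        group
      have h3 := hf.1 g x⁻¹
      rw [e, Subgroup.mem_center_iff.1 (inv_mem (hN n.2)) g, ← Subgroup.coe_inv, hf.2] at h3
      calc f g = (ψ : N → ℂ) (n * n⁻¹) * f g := by rw [mul_inv_cancel, hψ1, one_mul]
        _ = (ψ : N → ℂ) n * f g := by rw [hψmul, mul_assoc, h3]
    have h4 : (ψ : N → ℂ) n = 1 := mul_right_cancel₀ hg (h2.symm.trans (one_mul _).symm)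
    have h5 : n = 1 := hfaith n (h4.trans hψ1.symm)
    have h6 : x⁻¹ * g⁻¹ * x * g = 1 := congrArg Subtype.val h5
    calc x * g = g * x * (x⁻¹ * g⁻¹ * x * g) := by group
      _ = g * x := by rw [h6, mul_one]
  have hinj : Function.Injective ev := by
    rw [← LinearMap.ker_eq_bot, LinearMap.ker_eq_bot']
    intro f hf
    apply Subtype.ext
    funext g
    by_contra hg
    have hC : ∃ g' : G, ConjClasses.mk (g' : G ⧸ N) = ConjClasses.mk (g : G ⧸ N) ∧
        ∀ x : G, x⁻¹ * g'⁻¹ * x * g' ∈ N → x * g' = g' * x := ⟨g, rfl, hspec _ f.2 g hg⟩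
    obtain ⟨n, c, hnc⟩ := hconjN g (r ⟨_, hC⟩) (hr ⟨_, hC⟩).symm
    apply hg
    rw [hnc, f.2.2, f.2.1, show (f : G → ℂ) (r ⟨_, hC⟩) = 0 from congrFun hf _, mul_zero]
    rfl
  have hwd : ∀ (C : S) (g : G) (n n' : N) (c c' : G), g = (n : G) * (c * r C * c⁻¹) →
      g = (n' : G) * (c' * r C * c'⁻¹) → n = n' := by
    intro C g n n' c c' h h'
    set x := c'⁻¹ * c with hx
    have hm : x * r C * x⁻¹ = ((n : G)⁻¹ * n') * r C := by
      have hz : ∀ y : G, y * ((n : G)⁻¹ * n') = (n : G)⁻¹ * n' * y := fun y =>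
        Subgroup.mem_center_iff.1 (mul_mem (inv_mem (hN n.2)) (hN n'.2)) y
      have e2 : c * r C * c⁻¹ = ((n : G)⁻¹ * n') * (c' * r C * c'⁻¹) := by
        rw [mul_assoc ((n : G)⁻¹), ← h', h, inv_mul_cancel_left]
      calc x * r C * x⁻¹ = c'⁻¹ * (c * r C * c⁻¹) * c' := by rw [hx]; group
        _ = (c'⁻¹ * ((n : G)⁻¹ * n')) * (c' * r C * c'⁻¹ * c') := by rw [e2]; group
        _ = _ := by rw [hz]; group
    have hmem : x⁻¹⁻¹ * (r C)⁻¹ * x⁻¹ * r C ∈ N := by
      have e : x⁻¹⁻¹ * (r C)⁻¹ * x⁻¹ * r C = (x * r C * x⁻¹)⁻¹ * r C := by group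
      rw [e, hm, mul_inv_rev, show (r C)⁻¹ * ((n : G)⁻¹ * n')⁻¹ * r C =
        (r C)⁻¹ * ((n : G)⁻¹ * n')⁻¹ * (r C)⁻¹⁻¹ by rw [inv_inv]]
      exact Subgroup.Normal.conj_mem ‹_› _ (inv_mem (mul_mem (inv_mem n.2) n'.2)) _
    have hcomm := hrs C x⁻¹ hmem
    have hxx : x * r C * x⁻¹ = r C := by
      rw [mul_assoc, ← hcomm, mul_inv_cancel_left]
    rw [hxx, eq_comm, mul_eq_right, inv_mul_eq_one] at hm
    exact Subtype.ext hm
  have hsurj : Function.Surjective ev := by
    intro d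
    let f : G → ℂ := fun g =>
      if h : ∃ (C : S) (n : N) (c : G), g = (n : G) * (c * r C * c⁻¹) then
        (ψ : N → ℂ) h.choose_spec.choose * d h.choose else 0
    have hval : ∀ (C : S) (n : N) (c g : G), g = (n : G) * (c * r C * c⁻¹) → f g = (ψ : N → ℂ) n * d C := by
      intro C n c g hg
      have h : ∃ (C : S) (n : N) (c : G), g = (n : G) * (c * r C * c⁻¹) := ⟨C, n, c, hg⟩
      simp only [f, dif_pos h]
      obtain ⟨c', hc'⟩ := h.choose_spec.choose_spec
      have hCC : h.choose = C := by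
        have key : ∀ (C : S) (n : N) (c : G),
            ConjClasses.mk (((n : G) * (c * r C * c⁻¹) : G) : G ⧸ N) = C.1 := by
          intro C n c
          rw [← hr C, ConjClasses.mk_eq_mk_iff_isConj]
          refine isConj_comm.1 (isConj_iff.2 ⟨(c : G ⧸ N), ?_⟩)
          simp [(QuotientGroup.eq_one_iff (n : G)).2 n.2]
        apply Subtype.ext
        rw [← key C n c, ← hg]
        conv_rhs => rw [hc']
        exact (key _ _ _).symm
      have key2 : ∀ (C' : S) (n' : N) (c' : G), C' = C → g = (n' : G) * (c' * r C' * c'⁻¹) → n' = n := by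
        rintro _ n' c' rfl e
        exact hwd _ g _ _ c' c e hg
      rw [key2 _ _ c' hCC hc', hCC]
    have hno : ∀ g, (¬ ∃ (C : S) (n : N) (c : G), g = (n : G) * (c * r C * c⁻¹)) → f g = 0 :=
      fun g h => dif_neg h
    have hfF : f ∈ F := by
      refine ⟨fun g u => ?_, fun m g => ?_⟩
      · by_cases h : ∃ (C : S) (n : N) (c : G), g = (n : G) * (c * r C * c⁻¹)
        · obtain ⟨C, n, c, hg⟩ := h
          rw [hval C n c g hg, hval C n (u * c) (u * g * u⁻¹) ?_]
          rw [hg, mul_inv_rev]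
          simp only [← mul_assoc]
          rw [Subgroup.mem_center_iff.1 (hN n.2) u]
        · rw [hno g h, hno]
          rintro ⟨C, n, c, hg⟩
          refine h ⟨C, n, u⁻¹ * c, ?_⟩
          calc g = u⁻¹ * (u * g * u⁻¹) * u := by group
            _ = u⁻¹ * n * (c * r C * c⁻¹ * u) := by rw [hg]; group
            _ = (n : G) * u⁻¹ * (c * r C * c⁻¹ * u) := by rw [Subgroup.mem_center_iff.1 (hN n.2) u⁻¹]
            _ = _ := by group
      · by_cases h : ∃ (C : S) (n : N) (c : G), g = (n : G) * (c * r C * c⁻¹)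
        · obtain ⟨C, n, c, hg⟩ := h
          rw [hval C n c g hg, hval C (m * n) c ((m : G) * g) (by rw [hg, Subgroup.coe_mul]; simp only [mul_assoc]),
            hψmul, mul_assoc]
        · rw [hno g h, mul_zero, hno]
          rintro ⟨C, n, c, hg⟩
          exact h ⟨C, m⁻¹ * n, c, by rw [Subgroup.coe_mul, Subgroup.coe_inv, mul_assoc, ← hg, inv_mul_cancel_left]⟩
    refine ⟨⟨f, hfF⟩, funext fun C => ?_⟩
    show f (r C) = d C
    rw [hval C 1 1 (r C) (by simp), hψ1, one_mul]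
  rw [(LinearEquiv.ofBijective ev ⟨hinj, hsurj⟩).finrank_eq, Module.finrank_fintype_fun_eq_card,
    Nat.card_eq_fintype_card]

end Cfsg.Agent.S4567
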