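import Cfsg.Statements.S4570
import Cfsg.Agent.Lib.InvolutionFree.Cases

set_option autoImplicit false
open Cfsg

namespace Cfsg.Agent.S4570

/-- Let G be a finite group with a commutative Sylow 2-subgroup P and M a maximal ideal of the algebraic integers containing 2, and suppose some involution x of G has the property that the principal 2-block of its centralizer has 2-regular rank one. If P has order 8 then the principal 2-block of G contains exactly 8 irreducible characters, and if P has order 16 it contains 8 or 16. -/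
theorem result {G : Type*} [Group G] [Finite G] (M : Ideal Cfsg.AlgInt) (hM : Cfsg.IsPModular 2 M) (P : Sylow 2 G) (hab : IsMulCommutative P) (x : G) (hx : orderOf x = 2) (hl : Cfsg.blockRank 2 (Cfsg.principalBlock M ↥(Subgroup.centralizer ({x} : Set G))) = 1) : (Nat.card P = 8 → Nat.card (Cfsg.principalBlock M G) = 8) ∧ (Nat.card P = 16 → Nat.card (Cfsg.principalBlock M G) = 8 ∨ Nat.card (Cfsg.principalBlock M G) = 16) := by
  haveI : Fact (Nat.Prime 2) := ⟨Nat.prime_two⟩
  haveI : M.IsMaximal := hM.2.1
  haveI := Cfsg.Agent.Lib.BrauerPairs.Bridge.charP_res hM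
  obtain ⟨Q, hQ⟩ := (IsPGroup.of_card (n := 1) (by rw [Nat.card_zpowers, hx, pow_one]) :
    IsPGroup 2 (Subgroup.zpowers x)).exists_le_sylow
  obtain ⟨g, rfl⟩ := MulAction.exists_smul_eq G P Q
  have hab' : ∀ a ∈ g • P, ∀ b ∈ g • P, a * b = b * a := by
    intro a ha b hb
    change a ∈ ((g • P : Sylow 2 G) : Subgroup G) at ha
    change b ∈ ((g • P : Sylow 2 G) : Subgroup G) at hb
    rw [Sylow.coe_subgroup_smul, Subgroup.mem_pointwise_smul_iff_inv_smul_mem] at ha hb
    have h := hab.is_comm.comm (⟨_, ha⟩ : (P : Subgroup G)) ⟨_, hb⟩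
    have h' := congrArg Subtype.val h
    simp only [Subgroup.coe_mul, MulAut.smul_def] at h'
    rw [← map_mul, ← map_mul] at h'
    exact ((MulAut.conj g)⁻¹).injective h'
  have hcard : Nat.card (g • P : Sylow 2 G) = Nat.card P := by
    rw [Sylow.card_eq_multiplicity, Sylow.card_eq_multiplicity]
  have h := Cfsg.Agent.Lib.InvolutionFree.Cases.counts hM (g • P) hab'
    (hQ (Subgroup.mem_zpowers x)) hx hl
  rwa [hcard] at h

end Cfsg.Agent.S4570
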