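import Cfsg.Statements.S4574
import Cfsg.Agent.Lib.BC78.Galois
import Cfsg.Agent.Lib.BC78.Norm
import Mathlib.RingTheory.Polynomial.Cyclotomic.Roots

set_option autoImplicit false
open Cfsg

namespace Cfsg.Agent.S4574

open scoped ComplexConjugate

theorem char_pow_ne {G : Type*} [Group G] [Fintype G] {χ : G → ℂ} (hχ : Cfsg.IsCharacter G χ)
    {g : G} {k : ℕ} (hk : k.Coprime (Nat.card G)) :
    (χ g = 0 → χ (g ^ k) = 0) ∧
      (‖χ g‖ = (Cfsg.charDegree χ : ℝ) → ‖χ (g ^ k)‖ = (Cfsg.charDegree χ : ℝ)) := by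
  obtain ⟨n, ρ, rfl⟩ := hχ
  have hn : Cfsg.charDegree ρ.character = n := by simp [Cfsg.charDegree]
  refine ⟨fun h => ?_, fun h => ?_⟩
  · obtain ⟨ι, hι, b, ζ, hb, -, hchar⟩ :=
      Cfsg.Agent.Lib.Characters.Diag.exists_eigenbasis_card ρ g
    -- the Galois automorphism moving a primitive root to its `k`-th power
    classical
    haveI : NeZero (Nat.card G) := ⟨Nat.card_pos.ne'⟩
    have hζ := Complex.isPrimitiveRoot_exp (Nat.card G) Nat.card_pos.ne'
    have hζ' := hζ.pow_of_coprime k hk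
    have hmin : minpoly ℚ (Complex.exp (2 * Real.pi * Complex.I / Nat.card G)) =
        minpoly ℚ (Complex.exp (2 * Real.pi * Complex.I / Nat.card G) ^ k) := by
      rw [← Polynomial.cyclotomic_eq_minpoly_rat hζ Nat.card_pos,
        ← Polynomial.cyclotomic_eq_minpoly_rat hζ' Nat.card_pos]
    have he : ∀ i, ∃ j, Complex.exp (2 * Real.pi * Complex.I / Nat.card G) ^ j = ζ i := fun i =>
      let ⟨j, _, hj⟩ := hζ.eq_pow_of_pow_eq_one (hb i).2
      ⟨j, hj⟩
    choose e he using he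
    have h2 : ∀ i, (ρ (g ^ k)) (b i) = ζ i ^ k • b i := by
      intro i
      rw [map_pow]
      clear hζ' hmin hk
      induction k with
      | zero => simp
      | succ k ih =>
        rw [pow_succ, Module.End.mul_apply, (hb i).1, map_smul, ih, smul_smul, pow_succ']
    show LinearMap.trace ℂ (Fin n → ℂ) (ρ (g ^ k)) = 0
    rw [Cfsg.Agent.Lib.Characters.Diag.trace_eq_sum_eigenvalues b _ _ h2]
    let P : Polynomial ℚ := ∑ i, Polynomial.X ^ e i
    have hP : ∀ z : ℂ, Polynomial.aeval z P = ∑ i, z ^ e i := fun z => by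
      simp [P, map_sum]
    have h0 : Polynomial.aeval (Complex.exp (2 * Real.pi * Complex.I / Nat.card G)) P = 0 := by
      rw [hP]
      simp only [he]
      rw [← hchar]
      exact h
    have hdvd := minpoly.dvd ℚ _ h0
    rw [hmin] at hdvd
    have h3 := Polynomial.aeval_eq_zero_of_dvd_aeval_eq_zero hdvd
      (minpoly.aeval ℚ _)
    rw [hP] at h3
    rw [← h3]
    exact Finset.sum_congr rfl fun i _ => by rw [← he i, ← pow_mul, ← pow_mul, Nat.mul_comm (e i)]
  · rw [hn] at h ⊢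
    have hfin : (Module.finrank ℂ (Fin n → ℂ) : ℝ) = n := by simp
    rw [← hfin] at h ⊢
    obtain ⟨ω, hω⟩ := (Cfsg.Agent.Lib.Characters.Diag.norm_char_eq_finrank_iff ρ g).1 h
    exact (Cfsg.Agent.Lib.Characters.Diag.norm_char_eq_finrank_iff ρ _).2
      ⟨ω ^ k, by rw [map_pow, hω, smul_pow, ← Module.End.one_eq_id, one_pow]⟩

theorem result {G : Type*} [Group G] [Fintype G] [DecidableEq G] (χ : G → ℂ) (hχ : Cfsg.IsIrrCharacter G χ) : (Cfsg.charDegree χ ^ 2 - 1) * (Finset.univ.filter (fun g : G => ‖χ g‖ = (Cfsg.charDegree χ : ℝ))).card ≤ (Finset.univ.filter (fun g : G => χ g = 0)).card ∧ ((∀ g : G, ‖χ g‖ = 0 ∨ ‖χ g‖ = 1 ∨ ‖χ g‖ = (Cfsg.charDegree χ : ℝ)) → (Cfsg.charDegree χ ^ 2 - 1) * (Finset.univ.filter (fun g : G => ‖χ g‖ = (Cfsg.charDegree χ : ℝ))).card = (Finset.univ.filter (fun g : G => χ g = 0)).card) := by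
  classical
  obtain ⟨n, ρ, hρ, hρχ⟩ := id hχ
  have hc : Cfsg.IsCharacter G χ := ⟨n, ρ, hρχ⟩
  set d : ℝ := (Cfsg.charDegree χ : ℝ) with hd
  set Z := Finset.univ.filter (fun g : G => ‖χ g‖ = d) with hZ
  set N0 := Finset.univ.filter (fun g : G => χ g = 0) with hN0
  set S := Finset.univ.filter (fun g : G => ¬ ‖χ g‖ = d ∧ χ g ≠ 0) with hS
  have hdn : Cfsg.charDegree χ = n := by rw [← hρχ]; simp [Cfsg.charDegree]
  have hd1 : 1 ≤ Cfsg.charDegree χ := by
    rw [hdn, Nat.one_le_iff_ne_zero]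
    rintro rfl
    haveI := hρ
    obtain ⟨a, b, hab⟩ :=
      (IsSimpleOrder.toNontrivial : Nontrivial (Subrepresentation ρ)).exists_pair_ne
    exact hab (Subrepresentation.toSubmodule_injective (Subsingleton.elim _ _))
  have hdpos : 0 < d := by rw [hd]; exact_mod_cast hd1
  have hsplit : ∀ f : G → ℝ, ∑ g, f g = ∑ g ∈ Z, f g + ∑ g ∈ N0, f g + ∑ g ∈ S, f g := by
    intro f
    simp only [hZ, hN0, hS, Finset.sum_filter, ← Finset.sum_add_distrib]
    refine Finset.sum_congr rfl fun g _ => ?_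
    by_cases h1 : ‖χ g‖ = d
    · have h2 : χ g ≠ 0 := fun h => by rw [h, norm_zero] at h1; exact hdpos.ne h1
      simp [h1, h2]
    · by_cases h2 : χ g = 0
      · simp [h2, hdpos.ne]
      · simp [h1, h2]
  have hcard := hsplit (fun _ => 1)
  simp only [Finset.sum_const, Finset.card_univ, nsmul_one] at hcard
  have hsq := Cfsg.Agent.Lib.BC78.Norm.sum_normSq hχ
  rw [Nat.card_eq_fintype_card, hsplit] at hsq
  have hZs : ∑ g ∈ Z, Complex.normSq (χ g) = Z.card * d ^ 2 := by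
    rw [Finset.sum_congr rfl (g := fun _ => d ^ 2) (fun g hg => by
      rw [Complex.normSq_eq_norm_sq, (Finset.mem_filter.1 hg).2]), Finset.sum_const, nsmul_eq_mul]
  have hNs : ∑ g ∈ N0, Complex.normSq (χ g) = 0 :=
    Finset.sum_eq_zero fun g hg => by rw [(Finset.mem_filter.1 hg).2, map_zero]
  have hSle : (S.card : ℝ) ≤ ∑ g ∈ S, Complex.normSq (χ g) := by
    refine Cfsg.Agent.Lib.BC78.Galois.card_le_sum_normSq hc S ?_
      (fun g hg => (Finset.mem_filter.1 hg).2.2)
    intro g hg k hk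
    obtain ⟨k', hk'⟩ : ∃ k', k'.Coprime (Nat.card G) ∧ (g ^ k) ^ k' = g := by
      rcases Nat.eq_zero_or_pos (Nat.card G) with h0 | h0
      · exact absurd h0 Nat.card_pos.ne'
      by_cases h1 : Nat.card G = 1
      · haveI := (Nat.card_eq_one_iff_unique.1 h1).1
        exact ⟨1, Nat.coprime_one_left _, Subsingleton.elim _ _⟩
      obtain ⟨k', hk'⟩ := Nat.exists_mul_mod_eq_one_of_coprime hk
        (lt_of_le_of_ne h0 (Ne.symm h1))
      refine ⟨k', ?_, ?_⟩
      · apply Nat.coprime_of_dvd'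
        intro q _ hq1 hq2
        have h2 : q ∣ k * k' := hq1.mul_left k
        have h3 : q ∣ k * k' % Nat.card G := (Nat.dvd_mod_iff hq2).2 h2
        rwa [hk'.2] at h3
      · rw [← pow_mul]
        conv_rhs => rw [← pow_one g]
        rw [← Nat.mod_add_div (k * k') (Nat.card G), hk'.2, pow_add, pow_mul, pow_card_eq_one',
          one_pow, mul_one]
    obtain ⟨-, hg1, hg2⟩ := Finset.mem_filter.1 hg
    refine Finset.mem_filter.2 ⟨Finset.mem_univ _, fun h => hg1 ?_, fun h => hg2 ?_⟩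
    · have := (char_pow_ne hc hk'.1).2 h
      rwa [hk'.2] at this
    · have := (char_pow_ne hc hk'.1).1 h
      rwa [hk'.2] at this
  rw [hZs, hNs] at hsq
  have hcast : ∀ z : ℕ, (((Cfsg.charDegree χ ^ 2 - 1) * z : ℕ) : ℝ) = (d ^ 2 - 1) * z := by
    intro z
    rw [Nat.cast_mul, Nat.cast_sub (Nat.one_le_pow _ _ hd1)]
    push_cast
    rfl
  constructor
  · have : (((Cfsg.charDegree χ ^ 2 - 1) * Z.card : ℕ) : ℝ) ≤ (N0.card : ℝ) := by
      rw [hcast]
      nlinarith
    exact_mod_cast this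
  · intro hall
    have hSeq : ∑ g ∈ S, Complex.normSq (χ g) = (S.card : ℝ) := by
      rw [Finset.sum_congr rfl (g := fun _ => (1 : ℝ)) (fun g hg => ?_), Finset.sum_const, nsmul_one]
      obtain ⟨-, hg1, hg2⟩ := Finset.mem_filter.1 hg
      rcases hall g with h | h | h
      · exact absurd (norm_eq_zero.1 h) hg2
      · rw [Complex.normSq_eq_norm_sq, h, one_pow]
      · exact absurd h hg1
    rw [hSeq] at hsq
    have : (((Cfsg.charDegree χ ^ 2 - 1) * Z.card : ℕ) : ℝ) = (N0.card : ℝ) := by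
      rw [hcast]
      nlinarith
    exact_mod_cast this

end Cfsg.Agent.S4574
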