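import Cfsg.Statements.S4580
import Cfsg.Agent.Lib.BC78.FullDefect
import Cfsg.Agent.Lib.Clifford.Gallagher

set_option autoImplicit false
open Cfsg
open scoped ComplexConjugate
open Cfsg.Agent.Lib Cfsg.Agent.Lib.Characters Cfsg.Agent.Lib.Induced.Basic Cfsg.Agent.Lib.Characters.Basic
open Cfsg.Agent.Lib.BC78

namespace Cfsg.Agent.S4580

/-- Let N be a normal subgroup of the finite group G, M a maximal ideal of the algebraic integers containing 2, and θ a real-valued irreducible character of N of odd degree that extends to G (some irreducible character of G restricts to θ). Then θ has an extension to G lying in the principal 2-block of G. -/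
theorem result {G : Type*} [Group G] [Finite G] (N : Subgroup G) [N.Normal] (M : Ideal Cfsg.AlgInt) (hM : Cfsg.IsPModular 2 M) (θ : Cfsg.IrrCharacter N) (hreal : ∀ n : N, ((θ : N → ℂ) n).im = 0) (hodd : Odd (Cfsg.charDegree (θ : N → ℂ))) (hext : ∃ η : Cfsg.IrrCharacter G, ∀ n : N, (η : G → ℂ) n = (θ : N → ℂ) n) :
    ∃ η : Cfsg.IrrCharacter G, (∀ n : N, (η : G → ℂ) n = (θ : N → ℂ) n) ∧ η ∈ Cfsg.principalBlock M G := by
  classical
  haveI := hM.2.1
  haveI : Fact (Nat.Prime 2) := ⟨Nat.prime_two⟩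
  haveI := Fintype.ofFinite G
  haveI := Fintype.ofFinite N
  obtain ⟨η, hη⟩ := hext
  -- the conjugate extension differs by a linear character
  have hηb : ∀ n : N, (Linear.conjChar η : G → ℂ) n = (θ : N → ℂ) n := fun n => by
    rw [Linear.conjChar_apply, hη, Complex.conj_eq_iff_im.2 (hreal n)]
  have hinv : ∀ g, Clifford.Basic.conjC N g (θ : N → ℂ) = (θ : N → ℂ) := fun g => by
    have := Clifford.Basic.conjC_restrict N (isClassFunction_irr η) g
    rwa [show (fun n : N => (η : G → ℂ) n) = (θ : N → ℂ) from funext hη] at this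
  have hmul1 : (fun _ : N => (1 : ℂ)) * (θ : N → ℂ) = θ := funext fun n => one_mul _
  obtain ⟨-, -, hG⟩ := Clifford.Gallagher.gallagher N (fun _ : N => (1 : ℂ)) (θ : N → ℂ) (oneChar N).2
    (fun g => rfl) hinv (by rw [hmul1]; exact θ.2)
    η.2 hη
  obtain ⟨β, hβ, hβη⟩ := hG (Linear.conjChar η) (by
    rw [hmul1,
      frobenius_reciprocity N _ (isClassFunction_irr (Linear.conjChar η)),
      show (fun n : N => (Linear.conjChar η : G → ℂ) n) = (θ : N → ℂ) from funext hηb, classInner_self_irr]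
    exact one_ne_zero)
  have hβ1 : (β : G → ℂ) 1 = 1 := by
    have h := congrFun hβη 1
    rw [Linear.conjChar_apply, conj_apply_one (isCharacter_irr η), Pi.mul_apply] at h
    exact (mul_eq_right₀ (Cfsg.Agent.Lib.Blocks.char_one_ne_zero η)).1 h.symm
  let lam : G →* ℂˣ := Linear.degOneHom (isCharacter_irr β) hβ1
  have hlam : ∀ g, conj ((η : G → ℂ) g) = (lam g : ℂ) * (η : G → ℂ) g := fun g => by
    rw [← Linear.conjChar_apply, Linear.degOneHom_apply]; exact congrFun hβη g
  have hlamN : ∀ n : N, lam n = 1 := fun n => by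
    have h := Clifford.Gallagher.apply_mul_of_over_one N β hβ n 1
    apply Units.ext
    rw [Linear.degOneHom_apply, Units.val_one, ← hβ1]
    simpa using h
  -- split off the odd part
  haveI : Finite (G →* ℂˣ) := Finite.of_equiv _ (Linear.linEquiv G).symm
  obtain ⟨a, m, hm, ham⟩ := Nat.exists_eq_two_pow_mul_odd (orderOf_pos lam).ne'
  obtain ⟨i, rfl⟩ := hm
  let μ : G →* ℂˣ := lam ^ (i + 1)
  let ρ : G →* ℂˣ := (lam ^ (2 * i + 1))⁻¹
  have hρ : ∀ g, ρ g ^ 2 ^ a = 1 := fun g => by
    simp only [ρ, MonoidHom.inv_apply, MonoidHom.pow_apply, inv_pow, ← pow_mul]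
    rw [mul_comm, ← ham, ← MonoidHom.pow_apply, pow_orderOf_eq_one, MonoidHom.one_apply, inv_one]
  let η' : Cfsg.IrrCharacter G := ⟨(Linear.linChar μ : G → ℂ) * (η : G → ℂ),
    Linear.isIrrCharacter_linear_mul (isCharacter_irr _)
      (by rw [Linear.linChar_apply, map_one, Units.val_one]) η.2⟩
  refine ⟨η', fun n => ?_, ?_⟩
  · change (Linear.linChar μ : G → ℂ) n * (η : G → ℂ) n = _
    rw [Linear.linChar_apply]
    simp [μ, hlamN n, hη]
  set B := Cfsg.blockOf M (η' : G → ℂ) with hBdef
  suffices h : B = Cfsg.principalBlock M G by rw [← h]; exact Cfsg.Agent.Lib.Blocks.mem_blockOf_self η'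
  have hB := Cfsg.Agent.Lib.Blocks.isPBlock_blockOf (M := M) η'
  have hconj : ∀ g, conj ((η' : G → ℂ) g) = (ρ g : ℂ) * (η' : G → ℂ) g := fun g => by
    change conj ((μ g : ℂ) * (η : G → ℂ) g) = (ρ g : ℂ) * ((μ g : ℂ) * (η : G → ℂ) g)
    have hμn : conj ((μ g : ℂˣ) : ℂ) = ((μ g)⁻¹ : ℂˣ) := by
      rw [← Linear.linChar_apply, ← apply_inv (isCharacter_irr _), Linear.linChar_apply, map_inv]
    rw [map_mul, hμn, hlam, ← mul_assoc, ← mul_assoc, ← Units.val_mul, ← Units.val_mul]
    congr 2
    simp only [μ, ρ, MonoidHom.inv_apply, MonoidHom.pow_apply]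
    rw [eq_inv_mul_iff_mul_eq, mul_left_comm, inv_mul_eq_iff_eq_mul, ← pow_succ, ← pow_add]
    congr 1
    omega
  have hs : Cfsg.SameBlock M (Linear.conjChar η' : G → ℂ) (η' : G → ℂ) := fun g => by
    simp only [Cfsg.centralChar, Linear.conjChar_apply, hconj, map_one, Units.val_one, one_mul]
    rw [show ((Subgroup.centralizer ({g} : Set G)).index : ℂ) * ((ρ g : ℂ) * (η' : G → ℂ) g) / (η' : G → ℂ) 1
        - ((Subgroup.centralizer ({g} : Set G)).index : ℂ) * (η' : G → ℂ) g / (η' : G → ℂ) 1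
        = ((ρ g : ℂ) - 1) * Cfsg.centralChar (η' : G → ℂ) g by rw [Cfsg.centralChar]; ring]
    refine Blocks.memLocalIdeal_mul_right ?_ (Blocks.centralChar_mem_localRing η' g)
    have hint : ((ρ g : ℂˣ) : ℂ) ∈ Blocks.localRing M := by
      rw [← Linear.linChar_apply]
      exact Blocks.mem_localRing_of_isIntegral (isIntegral_apply (isCharacter_irr _) g)
    have hz : (⟨(ρ g : ℂ), hint⟩ : Blocks.localRing M) ^ 2 ^ a = 1 := Subtype.ext (by
      show (ρ g : ℂ) ^ 2 ^ a = 1
      rw [← Units.val_pow_eq_pow_val, hρ, Units.val_one])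
    exact (Blocks.memLocalIdeal_sub_iff (x := ⟨(ρ g : ℂ), hint⟩) (y := 1)).mpr
      (by rw [Blocks.residue_eq_one_of_pow_eq_one hM hz, map_one])
  have hclosed : ∀ χ ∈ B, Linear.conjChar χ ∈ B := fun χ hχ => by
    refine Blocks.sameBlock_trans (Blocks.sameBlock_symm hs) fun g => ?_
    have h := hχ g⁻¹
    have hc : Subgroup.centralizer ({g⁻¹} : Set G) = Subgroup.centralizer ({g} : Set G) := by
      ext u
      rw [Subgroup.mem_centralizer_singleton_iff, Subgroup.mem_centralizer_singleton_iff]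
      exact ⟨fun e => by have := (show Commute u g⁻¹ from e).inv_right; rwa [inv_inv] at this,
        fun e => (show Commute u g from e).inv_right⟩
    simp only [Cfsg.centralChar, hc, apply_inv (isCharacter_irr _)] at h
    simp only [Cfsg.centralChar, Linear.conjChar_apply, conj_apply_one (isCharacter_irr _)]
    exact h
  refine FullDefect.eq_principal_of_symm hM hB
    (FullDefect.blockDefect_of_not_dvd (Blocks.mem_blockOf_self η') ?_) fun g _ => ?_
  · have : Cfsg.charDegree (η' : G → ℂ) = Cfsg.charDegree (θ : N → ℂ) := by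
      simp only [Cfsg.charDegree]
      congr 2
      change (Linear.linChar μ : G → ℂ) 1 * (η : G → ℂ) 1 = (θ : N → ℂ) 1
      rw [Linear.linChar_apply, map_one, Units.val_one, one_mul, ← hη 1, OneMemClass.coe_one]
    rw [this]
    exact fun h2 => Nat.not_even_iff_odd.2 hodd (even_iff_two_dvd.2 h2)
  · simp only [Cfsg.blockCoeff]
    congr 1
    refine finsum_mem_eq_of_bijOn (fun χ => Linear.conjChar χ)
      ⟨hclosed, fun a _ b _ h => by
        rw [← Linear.conjChar_conjChar a, ← Linear.conjChar_conjChar b]; exact congrArg _ h,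
        fun χ hχ => ⟨_, hclosed χ hχ, Linear.conjChar_conjChar χ⟩⟩ fun χ _ => ?_
    rw [Linear.conjChar_apply, Linear.conjChar_apply, conj_apply_one (isCharacter_irr χ),
      apply_inv (isCharacter_irr χ)]

end Cfsg.Agent.S4580
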