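import Cfsg.Statements.S4581
import Cfsg.Agent.Lib.BC78.RealOdd.Main

set_option autoImplicit false
open Cfsg
open scoped ComplexConjugate
open Cfsg.Agent.Lib.Induced.Basic Cfsg.Agent.Lib.Characters.Basic Cfsg.Agent.Lib.Characters
open Cfsg.Agent.Lib.BC78.CoprimeFix Cfsg.Agent.Lib.BC78.RealOdd
open scoped Cfsg.Agent.Lib.BC78.RealOdd

namespace Cfsg.Agent.S4581

universe u

theorem mem_iff {G : Type u} [Group G] [Fintype G] (χ : Cfsg.IrrCharacter G) :
    ((∀ g : G, ((χ : G → ℂ) g).im = 0) ∧ Odd (Cfsg.charDegree (χ : G → ℂ))) ↔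
      Good true (⊥ : Subgroup G) 1 χ := by
  rw [good_bot, charDegree_eq_deg, ok_iff_im, ← Nat.not_even_iff_odd, even_iff_two_dvd]
  exact ⟨fun h => ⟨h.2, fun _ => h.1⟩, fun h => ⟨h.2 rfl, h.1⟩⟩

/-- Let G be a finite solvable group, P a Sylow 2-subgroup and N its normalizer. Then G and N have the same number of real-valued irreducible characters of odd degree; and every odd-degree irreducible character of G is real-valued exactly when the derived subgroup of P equals the Frattini subgroup of P and P is its own normalizer in G. -/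
theorem result {G : Type*} [Group G] [Finite G] [Group.IsSolvable G] (P : Sylow 2 G) :
    Nat.card {χ : Cfsg.IrrCharacter G // (∀ g : G, ((χ : G → ℂ) g).im = 0) ∧ Odd (Cfsg.charDegree (χ : G → ℂ))} =
      Nat.card {ψ : Cfsg.IrrCharacter (Subgroup.normalizer ((P : Subgroup G) : Set G)) // (∀ g, ((ψ : Subgroup.normalizer ((P : Subgroup G) : Set G) → ℂ) g).im = 0) ∧ Odd (Cfsg.charDegree (ψ : Subgroup.normalizer ((P : Subgroup G) : Set G) → ℂ))} ∧
    ((∀ χ : Cfsg.IrrCharacter G, Odd (Cfsg.charDegree (χ : G → ℂ)) → ∀ g : G, ((χ : G → ℂ) g).im = 0) ↔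
      (commutator (P : Subgroup G) = frattini (P : Subgroup G) ∧ Subgroup.normalizer ((P : Subgroup G) : Set G) = (P : Subgroup G))) := by
  classical
  haveI : Fact (Nat.Prime 2) := ⟨Nat.prime_two⟩
  haveI : Fintype G := Fintype.ofFinite G
  set N : Subgroup G := Subgroup.normalizer ((P : Subgroup G) : Set G)
  have hle : (P : Subgroup G) ≤ N := Subgroup.le_normalizer
  let PN : Sylow 2 N := P.subtype hle
  let i : (PN : Subgroup N) ≃* (P : Subgroup G) := Subgroup.subgroupOfEquivOfLe hle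
  have htrue : Hyp true P := fun h => absurd h (by decide)
  have htrue' : Hyp true PN := fun h => absurd h (by decide)
  have hG := claim_bot true P htrue
  have hN := claim_bot true PN htrue'
  refine ⟨?_, ?_⟩
  · let RG := fun η : (PN : Subgroup N) →* ℂˣ => η.comp i.symm.toMonoidHom
    have hok : ∀ η : (P : Subgroup G) →* ℂˣ, InR true P ⊥ 1 η →
        InR true PN ⊥ 1 (η.comp i.toMonoidHom) := fun η h => by
      rw [inR_bot] at h ⊢
      exact fun hb x => h hb (i x)
    have hok' : ∀ η : (PN : Subgroup N) →* ℂˣ, InR true PN ⊥ 1 η → InR true P ⊥ 1 (RG η) :=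
      fun η h => by
        rw [inR_bot] at h ⊢
        exact fun hb x => h hb (i.symm x)
    have exη : ∀ χ, Good true (⊥ : Subgroup G) 1 χ → ∃ η, InR true P ⊥ 1 η ∧ Rel P χ η :=
      fun χ h => by
        obtain ⟨η, h1, h2⟩ := exists_rel true P h.1 h.2.1
        exact ⟨η, (inR_bot true P η).2 h1, h2⟩
    have exη' : ∀ ψ, Good true (⊥ : Subgroup N) 1 ψ → ∃ η, InR true PN ⊥ 1 η ∧ Rel PN ψ η :=
      fun χ h => by
        obtain ⟨η, h1, h2⟩ := exists_rel true PN h.1 h.2.1
        exact ⟨η, (inR_bot true PN η).2 h1, h2⟩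
    -- conjugate parameters belong to the same characters
    have hcls : ∀ (X : Type u_1) [Group X] [Fintype X] (Q : Sylow 2 X) (ψ : Cfsg.IrrCharacter X) (n : X),
        n ∈ Subgroup.normalizer ((Q : Subgroup X) : Set X) → ∀ η η', ConjBy Q n η η' →
        Rel Q ψ η → Rel Q ψ η' := by
      intro X _ _ Q ψ n hn η η' hc hr
      obtain ⟨m, hm, hme⟩ := hr
      refine ⟨m, hm, hme ▸ ?_⟩
      let c : (Q : Subgroup X) ≃* (Q : Subgroup X) :=
        { toFun := fun x => ⟨n * x * n⁻¹, (Subgroup.mem_normalizer_iff.1 hn x).1 x.2⟩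
          invFun := fun x => ⟨n⁻¹ * x * n, by
            have := (Subgroup.mem_normalizer_iff.1 (inv_mem hn) x).1 x.2
            rwa [inv_inv] at this⟩
          left_inv := fun x => Subtype.ext (by simp [mul_assoc])
          right_inv := fun x => Subtype.ext (by simp [mul_assoc])
          map_mul' := fun a b => Subtype.ext (by simp [mul_assoc]) }
      rw [← inner_equiv c ((ψ : X → ℂ) ∘ (Q : Subgroup X).subtype) (Linear.linChar η : _ → ℂ)]
      congr 1
      · funext x
        exact (isClassFunction_irr ψ (x : X) n).symm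
      · funext x
        exact congrArg Units.val (hc x (c x) rfl)
    have fwd : ∀ χ : {χ : Cfsg.IrrCharacter G // Good true (⊥ : Subgroup G) 1 χ},
        ∃ ψ : {ψ : Cfsg.IrrCharacter N // Good true (⊥ : Subgroup N) 1 ψ},
          ∀ η, InR true P ⊥ 1 η → Rel P χ.1 η → Rel PN ψ.1 (η.comp i.toMonoidHom) := by
      intro χ
      obtain ⟨η, hη, hr⟩ := exη χ.1 χ.2
      obtain ⟨ψ, hψ, hrψ⟩ := hN.exists_char _ (hok η hη)
      refine ⟨⟨ψ, hψ⟩, fun η' hη' hr' => ?_⟩
      obtain ⟨n, hn, hc⟩ := hG.conj_of_rel χ.1 χ.2 η η' hη hη' hr hr'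
      refine hcls N PN ψ ⟨n, hn⟩ ?_ (η.comp i.toMonoidHom) (η'.comp i.toMonoidHom)
        (fun x y hxy => hc (i x) (i y) (congrArg Subtype.val hxy)) hrψ
      refine mem_normalizer_of_conj _ _ fun x hx => ?_
      have := (Subgroup.mem_normalizer_iff.1 (inv_mem hn) (x : G)).1 hx
      rw [inv_inv] at this
      exact this
    have bwd : ∀ ψ : {ψ : Cfsg.IrrCharacter N // Good true (⊥ : Subgroup N) 1 ψ},
        ∃ χ : {χ : Cfsg.IrrCharacter G // Good true (⊥ : Subgroup G) 1 χ},
          ∀ η, InR true PN ⊥ 1 η → Rel PN ψ.1 η → Rel P χ.1 (RG η) := by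
      intro ψ
      obtain ⟨η, hη, hr⟩ := exη' ψ.1 ψ.2
      obtain ⟨χ, hχ, hrχ⟩ := hG.exists_char _ (hok' η hη)
      refine ⟨⟨χ, hχ⟩, fun η' hη' hr' => ?_⟩
      obtain ⟨n, -, hc⟩ := hN.conj_of_rel ψ.1 ψ.2 η η' hη hη' hr hr'
      exact hcls G P χ (n : G) n.2 (RG η) (RG η')
        (fun x y hxy => hc (i.symm x) (i.symm y) (Subtype.ext hxy)) hrχ
    choose f hf using fwd
    choose g hg using bwd
    have hiP : ∀ η : (P : Subgroup G) →* ℂˣ, RG (η.comp i.toMonoidHom) = η := fun η =>
      MonoidHom.ext fun x => congrArg η (i.apply_symm_apply x)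
    have hiN : ∀ η : (PN : Subgroup N) →* ℂˣ, (RG η).comp i.toMonoidHom = η := fun η =>
      MonoidHom.ext fun x => congrArg η (i.symm_apply_apply x)
    refine Nat.card_congr (((Equiv.subtypeEquivRight fun χ => mem_iff χ).trans
      ⟨f, g, fun χ => ?_, fun ψ => ?_⟩).trans (Equiv.subtypeEquivRight fun ψ => mem_iff ψ).symm)
    · obtain ⟨η, hη, hr⟩ := exη χ.1 χ.2
      have h := hg (f χ) _ (hok η hη) (hf χ η hη hr)
      rw [hiP] at h
      exact Subtype.ext (hG.unique η hη _ _ (g (f χ)).2 χ.2 h hr)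
    · obtain ⟨η, hη, hr⟩ := exη' ψ.1 ψ.2
      have h := hf (g ψ) _ (hok' η hη) (hg ψ η hη hr)
      rw [hiN] at h
      exact Subtype.ext (hN.unique η hη _ _ (f (g ψ)).2 ψ.2 h hr)
  · rw [commutator_eq_frattini_iff P.isPGroup']
    constructor
    · intro hall
      have hreal : ∀ χ : Cfsg.IrrCharacter G, ¬ 2 ∣ deg χ →
          ∀ g, conj ((χ : G → ℂ) g) = (χ : G → ℂ) g := fun χ hχ => ok_iff_im.1 (hall χ (by
        rw [charDegree_eq_deg, ← Nat.not_even_iff_odd, even_iff_two_dvd]; exact hχ))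
      have hself := normalizer_eq_self (Nat.card G) G P rfl hreal
      refine ⟨fun η x => ?_, hself⟩
      have hF := claim_bot false P (fun _ => hself)
      have hη : InR false P ⊥ 1 η := (inR_bot false P η).2 (fun h => absurd h (by decide))
      obtain ⟨χ, hχ, hr⟩ := hF.exists_char η hη
      let ηb : (P : Subgroup G) →* ℂˣ := (Units.map (starRingEnd ℂ).toMonoidHom).comp η
      have hηb : InR false P ⊥ 1 ηb := (inR_bot false P ηb).2 (fun h => absurd h (by decide))
      have hrb : Rel P χ ηb := by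
        obtain ⟨m, hm, hme⟩ := hr
        refine ⟨m, hm, ?_⟩
        rw [← Complex.conj_natCast, ← hme]
        simp [Cfsg.classInner, Linear.linChar_apply, ηb, hreal χ hχ.1]
      obtain ⟨n, hn, hc⟩ := hF.conj_of_rel χ hχ η ηb hη hηb hr hrb
      rw [hself] at hn
      have h := hc x (⟨n, hn⟩ * x * ⟨n, hn⟩⁻¹) (by simp)
      rw [map_mul, map_mul, map_inv, mul_inv_cancel_comm] at h
      exact (sq_eq_one_iff_real η x).2 (congrArg Units.val h)
    · rintro ⟨hsq, hself⟩ χ hχ
      rw [charDegree_eq_deg, ← Nat.not_even_iff_odd, even_iff_two_dvd] at hχ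
      obtain ⟨η, -, hr⟩ := exists_rel false P (χ := χ) hχ (fun h => absurd h (by decide))
      have hηr : Ok true (fun x => ((η x : ℂˣ) : ℂ)) := fun _ x =>
        (sq_eq_one_iff_real η x).1 (hsq η x)
      obtain ⟨χ', hχ', hr'⟩ := hG.exists_char η ((inR_bot true P η).2 hηr)
      have hF := claim_bot false P (fun _ => hself)
      have heq : χ = χ' := hF.unique η ((inR_bot false P η).2 (fun h => absurd h (by decide))) χ χ'
        ((good_bot false χ).2 ⟨hχ, fun h => absurd h (by decide)⟩)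
        ((good_bot false χ').2 ⟨hχ'.1, fun h => absurd h (by decide)⟩) hr hr'
      exact ok_iff_im.2 (heq ▸ hχ'.2.1 rfl)

end Cfsg.Agent.S4581
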