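import Cfsg.Statements.S4582
import Mathlib.GroupTheory.Transfer
import Mathlib.GroupTheory.Abelianization.Finite
import Mathlib.GroupTheory.PGroup

set_option autoImplicit false
open Cfsg

namespace Cfsg.Agent.S4582

theorem result {G : Type*} [Group G] [Finite G] (N : Subgroup G) [N.Normal] (P : Sylow 2 G)
    (hP : ∀ x ∈ (P : Subgroup G), x ^ 2 ∈ ((P : Subgroup G) ⊓ N) ⊔ ⁅(P : Subgroup G), (P : Subgroup G)⁆)
    (hQ : ∀ x ∈ (P : Subgroup G) ⊓ N, x ^ 2 ∈ ⁅(P : Subgroup G) ⊓ N, (P : Subgroup G) ⊓ N⁆)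
    (hodd : Odd (Nat.card (Abelianization N))) :
    ∀ x ∈ (P : Subgroup G), x ^ 2 ∈ ⁅(P : Subgroup G), (P : Subgroup G)⁆ := by
  classical
  intro x hx
  let S : Subgroup G := (P : Subgroup G)
  have hPp : IsPGroup 2 S := P.isPGroup'
  have hmapS : ⁅S, S⁆ = (commutator S).map S.subtype := (Subgroup.map_subtype_commutator S).symm
  have hx' : x ∈ S := hx
  let H : Subgroup G := N ⊔ S
  have hSH : S ≤ H := le_sup_right
  have hNH : N ≤ H := le_sup_left
  let φ : S.subgroupOf H →* Abelianization S :=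
    Abelianization.of.comp (Subgroup.subgroupOfEquivOfLe hSH).toMonoidHom
  haveI : (S.subgroupOf H).FiniteIndex := inferInstance
  let V : H →* Abelianization S := MonoidHom.transfer φ
  have hA : IsPGroup 2 (Abelianization S) := hPp.to_quotient _
  -- the transfer kills N
  have hVN : ∀ q (hq : q ∈ H), q ∈ N → V ⟨q, hq⟩ = 1 := by
    intro q hq hqN
    let f : Abelianization N →* Abelianization S :=
      Abelianization.lift (V.comp (Subgroup.inclusion hNH))
    have h1 : V ⟨q, hq⟩ = f (Abelianization.of ⟨q, hqN⟩) := by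
      simp only [f, Abelianization.lift_apply_of, MonoidHom.comp_apply]
      rfl
    have h2 : orderOf (V ⟨q, hq⟩) ∣ Nat.card (Abelianization N) := by
      rw [h1]
      exact (orderOf_map_dvd f _).trans (orderOf_dvd_natCard _)
    obtain ⟨k, hk⟩ := IsPGroup.iff_orderOf.1 hA (V ⟨q, hq⟩)
    rw [hk] at h2
    rcases k with _ | k
    · exact orderOf_eq_one_iff.1 (by rw [hk, pow_zero])
    · exact absurd ((dvd_pow_self 2 k.succ_ne_zero).trans h2) hodd.not_two_dvd_nat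
  -- the squares
  have hsq : ∀ q ∈ S ⊓ N, ∀ hq : q ∈ S, Abelianization.of (⟨q, hq⟩ : S) ^ 2 = 1 := by
    intro q hq hqS
    have h1 : q ^ 2 ∈ ⁅S, S⁆ := Subgroup.commutator_mono inf_le_left inf_le_left (hQ q hq)
    rw [hmapS] at h1
    obtain ⟨c, hc, hcq⟩ := h1
    rw [← map_pow, ← MonoidHom.mem_ker, Abelianization.ker_of]
    have : c = (⟨q, hqS⟩ : S) ^ 2 := Subtype.ext (by simpa using hcq)
    rwa [← this]
  -- images of conjugates of powers
  have hconj : ∀ (y : S.subgroupOf H) (g₀ : H) (r : ℕ),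
      (y : H) = g₀⁻¹ * (⟨x, hSH hx'⟩ : H) ^ r * g₀ →
      (φ y * (Abelianization.of (⟨x, hx'⟩ : S) ^ r)⁻¹) ^ 2 = 1 := by
    intro y g₀ r hy
    have hg₀ : (g₀ : G) ∈ ((S ⊔ N : Subgroup G) : Set G) := by
      rw [sup_comm]; exact g₀.2
    rw [Subgroup.mul_normal] at hg₀
    obtain ⟨π, hπ, n, hn, hπn⟩ := Set.mem_mul.1 hg₀
    have hπ' : π ∈ S := hπ
    let w : S := (⟨π, hπ'⟩ : S)⁻¹ * (⟨x, hx'⟩ : S) ^ r * ⟨π, hπ'⟩
    let ys : S := Subgroup.subgroupOfEquivOfLe hSH y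
    have hys : (ys : G) = n⁻¹ * (w : G) * n := by
      have := congrArg Subtype.val hy
      simp only [Subgroup.coe_mul, Subgroup.coe_inv, SubgroupClass.coe_pow, ← hπn] at this
      simp [ys, w, this, Subgroup.subgroupOfEquivOfLe, mul_assoc]
    have hb : (((w⁻¹ * ys : S)) : G) ∈ N := by
      rw [Subgroup.coe_mul, Subgroup.coe_inv, hys]
      have : (w : G)⁻¹ * n⁻¹ * ((w : G)⁻¹)⁻¹ ∈ N :=
        Subgroup.Normal.conj_mem inferInstance _ (inv_mem hn) _
      simpa [mul_assoc] using N.mul_mem this hn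
    have h1 : φ y * (Abelianization.of (⟨x, hx'⟩ : S) ^ r)⁻¹ = Abelianization.of (w⁻¹ * ys) := by
      have hw : Abelianization.of w = Abelianization.of (⟨x, hx'⟩ : S) ^ r := by
        simp only [w, map_mul, map_inv, map_pow]
        rw [mul_right_comm, inv_mul_cancel, one_mul]
      rw [map_mul, map_inv, hw, mul_comm]
      rfl
    rw [h1]
    exact hsq _ ⟨(w⁻¹ * ys).2, hb⟩ (w⁻¹ * ys).2
  let u : Abelianization S := Abelianization.of ⟨x, hx'⟩
  let m := (S.subgroupOf H).index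
  -- explicit transfer
  have hVx : V ⟨x, hSH hx'⟩ ^ 2 = (u ^ 2) ^ m := by
    haveI := Fintype.ofFinite (Quotient (MulAction.orbitRel (Subgroup.zpowers (⟨x, hSH hx'⟩ : H))
      (↥H ⧸ S.subgroupOf H)))
    haveI := Fintype.ofFinite (MulAction.orbitRel.Quotient (Subgroup.zpowers (⟨x, hSH hx'⟩ : H))
      (↥H ⧸ S.subgroupOf H))
    change MonoidHom.transfer φ _ ^ 2 = _
    rw [MonoidHom.transfer_eq_prod_quotient_orbitRel_zpowers_quot, ← Finset.prod_pow]
    simp only [m]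
    rw [Subgroup.index_eq_sum_minimalPeriod (S.subgroupOf H) (⟨x, hSH hx'⟩ : H),
      ← Finset.prod_pow_eq_pow_sum]
    refine Finset.prod_congr (by ext; simp) fun q _ => ?_
    have := hconj ⟨_, QuotientGroup.out_conj_pow_minimalPeriod_mem (S.subgroupOf H)
      (⟨x, hSH hx'⟩ : H) q.out⟩ q.out.out _ rfl
    rw [mul_pow, inv_pow, mul_inv_eq_one, ← pow_mul] at this
    rw [← pow_mul, mul_comm 2]
    exact this
  -- x² ∈ Q P'
  have hV2 : V ⟨x, hSH hx'⟩ ^ 2 = 1 := by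
    have h1 : (x ^ 2 : G) ∈ (((S ⊓ N) ⊔ ⁅S, S⁆ : Subgroup G)) := hP x hx
    have hle : ((S ⊓ N) ⊔ ⁅S, S⁆ : Subgroup G) ≤ (V.ker).map H.subtype := by
      refine sup_le (fun q hq => ⟨⟨q, hSH hq.1⟩, hVN q (hSH hq.1) hq.2, rfl⟩) ?_
      rw [hmapS]
      rintro _ ⟨c, hc, rfl⟩
      refine ⟨⟨c, hSH c.2⟩, ?_, rfl⟩
      exact Abelianization.commutator_subset_ker (V.comp (Subgroup.inclusion hSH)) hc
    obtain ⟨z, hz, hzx⟩ := hle h1
    rw [← map_pow]
    have : z = (⟨x, hSH hx'⟩ : H) ^ 2 := Subtype.ext (by simpa using hzx)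
    rw [← this]
    exact hz
  -- u² is killed by 2 and by m
  have hu4 : (u ^ 2) ^ 2 = 1 := by
    have h1 : (x ^ 2 : G) ∈ (((S ⊓ N) ⊔ ⁅S, S⁆ : Subgroup G)) := hP x hx
    let K : Subgroup S := ((powMonoidHom 2).comp Abelianization.of : S →* Abelianization S).ker
    have hle : ((S ⊓ N) ⊔ ⁅S, S⁆ : Subgroup G) ≤ K.map S.subtype := by
      refine sup_le (fun q hq => ⟨⟨q, hq.1⟩, hsq q hq hq.1, rfl⟩) ?_
      rw [hmapS]
      exact Subgroup.map_mono (Abelianization.commutator_subset_ker _)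
    obtain ⟨z, hz, hzx⟩ := hle h1
    have hz2 : z = (⟨x, hx'⟩ : S) ^ 2 := Subtype.ext (by simpa using hzx)
    have hz' : Abelianization.of z ^ 2 = 1 := hz
    rw [hz2, map_pow] at hz'
    exact hz'
  have hm : Odd m := by
    have h1 : m = S.relIndex H := rfl
    have h2 : S.relIndex H ∣ S.index := Subgroup.relIndex_dvd_index_of_le hSH
    rw [Nat.odd_iff, ← Nat.two_dvd_ne_zero]
    exact fun h => P.not_dvd_index (h.trans (h1 ▸ h2))
  have hu2 : u ^ 2 = 1 := by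
    obtain ⟨j, hj⟩ := hm
    have h := hVx.symm.trans hV2
    rw [hj, pow_succ, pow_mul, hu4, one_pow, one_mul] at h
    exact h
  rw [hmapS]
  refine ⟨(⟨x, hx'⟩ : S) ^ 2, ?_, by simp⟩
  rw [← Abelianization.ker_of]
  change Abelianization.of ((⟨x, hx'⟩ : S) ^ 2) = 1
  rw [map_pow]
  exact hu2

end Cfsg.Agent.S4582
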