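import Cfsg.Statements.S4583
import Cfsg.Agent.Lib.BC78.Local
import Cfsg.Agent.Lib.BC78.CoprimeFix

set_option autoImplicit false
open Cfsg

namespace Cfsg.Agent.S4583

/-- Let N be a normal subgroup of the finite group G, p a prime, M a maximal ideal of the algebraic integers containing p, and P a Sylow p-subgroup of G. Let θ be an irreducible character of N of degree prime to p lying in the principal p-block of N, and suppose θ extends to the subgroup NP (some irreducible character of NP restricts to θ). Then some irreducible character χ of G of degree prime to p in the principal p-block of G lies over θ (θ is a constituent of the restriction of χ to N). -/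
theorem result {G : Type*} [Group G] [Finite G] (N : Subgroup G) [N.Normal] (p : ℕ) [Fact p.Prime] (M : Ideal Cfsg.AlgInt) (hM : Cfsg.IsPModular p M) (P : Sylow p G)
    (θ : Cfsg.IrrCharacter N) (hθ : θ ∈ Cfsg.principalBlock M N) (hdeg : ¬ p ∣ Cfsg.charDegree (θ : N → ℂ))
    (hext : ∃ η : Cfsg.IrrCharacter ↥(N ⊔ (P : Subgroup G)), ∀ n : N, (η : ↥(N ⊔ (P : Subgroup G)) → ℂ) (Subgroup.inclusion le_sup_left n) = (θ : N → ℂ) n) :
    ∃ χ : Cfsg.IrrCharacter G, χ ∈ Cfsg.principalBlock M G ∧ ¬ p ∣ Cfsg.charDegree (χ : G → ℂ) ∧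
      haveI := Fintype.ofFinite N; Cfsg.classInner (fun n : N => (χ : G → ℂ) n) (θ : N → ℂ) ≠ 0 := by
  classical
  haveI := Fintype.ofFinite G
  haveI := Fintype.ofFinite N
  haveI := hM.2.1
  set H := N ⊔ (P : Subgroup G) with hH
  haveI := Fintype.ofFinite H
  obtain ⟨η, hη⟩ := hext
  have hpG : H.index ∣ (P : Subgroup G).index := Subgroup.index_dvd_of_le le_sup_right
  have hpH : ¬ p ∣ H.index := fun h => P.not_dvd_index (h.trans hpG)
  -- elements of order prime to `p` in `H` lie in `N`
  have hreg : ∀ x : G, x ∈ H → ¬ p ∣ orderOf x → x ∈ N := by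
    intro x hx hxo
    rw [hH, ← SetLike.mem_coe, Subgroup.normal_mul] at hx
    obtain ⟨n, hn, u, hu, rfl⟩ := hx
    obtain ⟨i, hi⟩ := P.isPGroup' ⟨u, hu⟩
    have hui : u ^ p ^ i = 1 := congrArg Subtype.val hi
    have h1 : ((n * u : G) : G ⧸ N) = (u : G ⧸ N) := by
      rw [QuotientGroup.mk_mul, (QuotientGroup.eq_one_iff n).2 hn, one_mul]
    have h2 : ((n * u : G) : G ⧸ N) ^ (p ^ i) = 1 := by
      rw [h1, ← QuotientGroup.mk_pow, hui, QuotientGroup.mk_one]
    have h3 : ((n * u : G) : G ⧸ N) ^ orderOf (n * u) = 1 := by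
      rw [← QuotientGroup.mk_pow, pow_orderOf_eq_one, QuotientGroup.mk_one]
    have hcop : Nat.Coprime (p ^ i) (orderOf (n * u)) :=
      Nat.Coprime.pow_left i ((Fact.out (p := p.Prime)).coprime_iff_not_dvd.2 hxo)
    have h4 := pow_gcd_eq_one.2 ⟨h2, h3⟩
    rw [hcop.gcd_eq_one, pow_one, QuotientGroup.eq_one_iff] at h4
    exact h4
  let a : G → ℂ := fun g => Cfsg.blockCoeff (Cfsg.principalBlock M G) g
  have hsum : ∑ x : H, a x * (η : H → ℂ) x = ∑ n : N, a n * (θ : N → ℂ) n := by
    rw [← Finset.sum_subset (Finset.subset_univ (Finset.univ.image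
      (Subgroup.inclusion (le_sup_left : N ≤ H))))]
    · rw [Finset.sum_image fun x _ y _ h => Subgroup.inclusion_injective _ h]
      exact Finset.sum_congr rfl fun n _ => by rw [← hη n]; rfl
    · intro x _ hx
      have hxN : (x : G) ∉ N := fun h => hx (Finset.mem_image.2
        ⟨⟨x, h⟩, Finset.mem_univ _, Subtype.ext rfl⟩)
      have hdvd : p ∣ orderOf (x : G) := by
        by_contra h
        exact hxN (hreg x x.2 h)
      simp only [a]
      rw [Lib.Blocks.blockCoeff_eq_zero_of_dvd hM Lib.Blocks.isPBlock_principalBlock hdvd, zero_mul]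
  -- otherwise the weighted sum is in the maximal ideal
  by_contra hcon
  push Not at hcon
  have hall : ∀ χ ∈ Lib.Blocks.Contrib.bset (Cfsg.principalBlock M G), Cfsg.MemLocalIdeal M
      (Cfsg.classInner (fun x : H => (χ : G → ℂ) x) η * (χ : G → ℂ) 1) := by
    intro χ hχ
    by_cases h0 : Cfsg.classInner (fun x : H => (χ : G → ℂ) x) η = 0
    · rw [h0, zero_mul]; exact Lib.Blocks.memLocalIdeal_zero
    · obtain ⟨m, hm⟩ := Lib.Characters.Basic.exists_classInner_nat (G := H)
        (Lib.Characters.Basic.isCharacter_comp H.subtype (Lib.Characters.Basic.isCharacter_irr χ))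
        (Lib.Characters.Basic.isCharacter_irr η)
      have hp' : p ∣ Cfsg.charDegree (χ : G → ℂ) := by
        by_contra hd
        have := hcon χ (Lib.Blocks.Contrib.mem_bset.1 hχ) hd
        refine Lib.BC78.CoprimeFix.inner_ne_zero_comp (Subgroup.inclusion (le_sup_left : N ≤ H))
          (Lib.Characters.Basic.isCharacter_comp H.subtype (Lib.Characters.Basic.isCharacter_irr χ))
          η (Lib.Characters.Basic.isCharacter_irr θ) h0 ?_ ?_
        · rw [show ((η : H → ℂ) ∘ Subgroup.inclusion (le_sup_left : N ≤ H)) = (θ : N → ℂ) from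
            funext hη]
          rw [Lib.Characters.Basic.classInner_irr, if_pos rfl]
          exact one_ne_zero
        · convert this using 2
          rfl
      have h1 : (χ : G → ℂ) 1 = (Cfsg.charDegree (χ : G → ℂ) : ℂ) :=
        Lib.BC78.CoprimeFix.apply_one_eq_deg χ
      rw [h1]
      refine Lib.Blocks.memLocalIdeal_mul_left ?_ ((Lib.Blocks.memLocalIdeal_natCast_iff hM _).2 hp')
      change Cfsg.classInner ((χ : G → ℂ) ∘ H.subtype) η ∈ _
      rw [hm]
      exact natCast_mem _ _
  have h := Lib.Blocks.memLocalIdeal_sum _ hall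
  rw [Lib.BC78.Local.weighted_eq hM, hsum] at h
  have hθ1 : (θ : N → ℂ) 1 = (Cfsg.charDegree (θ : N → ℂ) : ℂ) :=
    Lib.BC78.CoprimeFix.apply_one_eq_deg θ
  refine Lib.BC78.Local.not_memLocalIdeal_sum_mul hM N hθ ?_
  have hd0 : ((H.index * Cfsg.charDegree (θ : N → ℂ) : ℕ) : ℂ) ≠ 0 := Nat.cast_ne_zero.2 (fun h0 => by
    rcases mul_eq_zero.1 h0 with h0 | h0
    · exact hpH (h0 ▸ dvd_zero p)
    · exact hdeg (h0 ▸ dvd_zero p))
  have hmul := Lib.Blocks.memLocalIdeal_mul_left
    (Lib.Blocks.natCast_inv_mem_localRing hM (n := H.index * Cfsg.charDegree (θ : N → ℂ))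
      (fun hd => by rcases (Fact.out (p := p.Prime)).dvd_mul.1 hd with hd | hd
                    exacts [hpH hd, hdeg hd])) h
  convert hmul using 1
  rw [hθ1]
  push_cast at hd0 ⊢
  rw [mul_inv, mul_mul_mul_comm, inv_mul_cancel₀ (left_ne_zero_of_mul hd0), one_mul, mul_comm,
    div_eq_inv_mul, mul_comm]

end Cfsg.Agent.S4583
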