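import Cfsg.Statements.S4585
import Cfsg.Agent.S4584

set_option autoImplicit false
open Cfsg

namespace Cfsg.Agent.S4585

theorem class_le_two_iff {P : Type*} [Group P] [Group.IsNilpotent P] :
    Group.nilpotencyClass P ≤ 2 ↔ commutator P ≤ Subgroup.center P := by
  rw [← lowerCentralSeries_eq_bot_iff_nilpotencyClass_le, Subgroup.lowerCentralSeries_succ,
    Subgroup.top_lowerCentralSeries_one, Subgroup.commutator_eq_bot_iff_le_centralizer]
  simp only [Subgroup.coe_top, Subgroup.centralizer_univ]

theorem result {P : Type*} [Group P] [Finite P] (p : ℕ) [Fact p.Prime] (hP : Nat.card P = p ^ 4) :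
    (commutator P).index = p ^ 2 ↔ Group.nilpotencyClass P = 3 := by
  have hp : p.Prime := Fact.out
  have hpg : IsPGroup p P := IsPGroup.of_card hP
  haveI := hpg.isNilpotent
  obtain ⟨d, hd4, hd, hdi⟩ := Cfsg.Agent.S4584.pow_of_subgroup hP (commutator P)
  have h3 : Group.nilpotencyClass P ≤ 3 := by
    by_cases hab : ∀ a b : P, a * b = b * a
    · have h0 : commutator P = ⊥ := Cfsg.Agent.S4584.commutator_eq_bot_of_comm hab
      have := class_le_two_iff.2 (h0.le.trans bot_le)
      omega
    obtain ⟨k, hk1, hk2, hk⟩ := Cfsg.Agent.S4584.center_index_ge hP hab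
    have hq : Nat.card (P ⧸ Subgroup.center P) = p ^ (4 - k) := by
      apply Nat.eq_of_mul_eq_mul_left (pow_pos hp.pos k)
      rw [← Subgroup.index_eq_card, ← hk, Subgroup.card_mul_index, hP, hk, ← pow_add]
      congr 1; omega
    have hq2 : Group.nilpotencyClass (P ⧸ Subgroup.center P) ≤ 2 := by
      rw [class_le_two_iff]
      have hk' : k = 1 ∨ k = 2 := by omega
      by_cases hab' : ∀ a b : P ⧸ Subgroup.center P, a * b = b * a
      · exact (Cfsg.Agent.S4584.commutator_eq_bot_of_comm hab').le.trans bot_le
      rw [commutator_def, Subgroup.commutator_le]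
      intro a _ b _
      let Z := Subgroup.center (P ⧸ Subgroup.center P)
      have hZ : Nat.card ((P ⧸ Subgroup.center P) ⧸ Z) * Nat.card Z = p ^ (4 - k) := by
        rw [← hq, ← Subgroup.index_eq_card, Subgroup.index_mul_card]
      have hnt : Nontrivial (P ⧸ Subgroup.center P) := Finite.one_lt_card_iff_nontrivial.1
        (hq ▸ Nat.one_lt_pow (by omega) hp.one_lt)
      have hZ1 : 1 < Nat.card Z :=
        Finite.one_lt_card_iff_nontrivial.2 (hpg.to_quotient _).center_nontrivial
      obtain ⟨j, hj, hj'⟩ := (Nat.dvd_prime_pow hp).1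
        (Dvd.intro_left _ hZ : Nat.card Z ∣ p ^ (4 - k))
      have hj1 : 1 ≤ j := by
        rcases j with _ | j
        · rw [pow_zero] at hj'; omega
        · omega
      have hqq : Nat.card ((P ⧸ Subgroup.center P) ⧸ Z) = p ^ (4 - k - j) := by
        apply Nat.eq_of_mul_eq_mul_right (Nat.card_pos (α := Z))
        rw [hZ, hj', ← pow_add]; congr 1; omega
      have hc := Cfsg.Agent.S4584.comm_of_order_p_sq (by omega) hqq
      rw [← QuotientGroup.eq_one_iff]
      change QuotientGroup.mk' Z _ = 1
      rw [map_commutatorElement, commutatorElement_eq_one_iff_mul_comm]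
      exact hc _ _
    rw [nilpotencyClass_quotient_center] at hq2
    omega
  constructor
  · intro h
    by_contra hne
    have hc := class_le_two_iff.1 (show Group.nilpotencyClass P ≤ 2 by omega)
    have hd2 : d = 2 := by
      have := Nat.pow_right_injective hp.two_le (h.symm.trans hdi)
      omega
    subst hd2
    have hna : ¬ ∀ a b : P, a * b = b * a := fun hab => by
      rw [Cfsg.Agent.S4584.commutator_eq_bot_of_comm hab, Subgroup.card_bot] at hd
      exact absurd hd (Nat.ne_of_lt (Nat.one_lt_pow (by norm_num) hp.one_lt))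
    obtain ⟨k, hk1, hk2, hk⟩ := Cfsg.Agent.S4584.center_index_ge hP hna
    have hk' : p ^ 2 ≤ p ^ k := hd ▸ hk ▸ Subgroup.card_le_of_le hc
    have := (Nat.pow_le_pow_iff_right hp.one_lt).1 hk'
    obtain rfl : k = 2 := by omega
    have hi : (Subgroup.center P).index = p ^ 2 := by
      apply Nat.eq_of_mul_eq_mul_left (Nat.card_pos (α := Subgroup.center P))
      rw [Subgroup.card_mul_index, hP, hk, ← pow_add]
    have := (Cfsg.Agent.S4584.card_commutator_of_center_index hP hi).symm.trans hd
    nlinarith [hp.two_le]
  · intro hcl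
    have hc : ¬ commutator P ≤ Subgroup.center P := fun h => by
      have := class_le_two_iff.2 h; omega
    have h0 : d ≠ 0 := by
      rintro rfl
      rw [pow_zero] at hd
      exact hc ((Subgroup.card_eq_one.1 hd).le.trans bot_le)
    have h1 : d ≠ 1 := by
      rintro rfl
      rw [pow_one] at hd
      exact hc (Cfsg.Agent.S4584.le_center_of_card_eq_prime hpg _ hd)
    have h2 : d ≤ 2 := by
      by_contra hd2
      have hq : Nat.card (P ⧸ commutator P) = p ^ (4 - d) := by
        rw [← Subgroup.index_eq_card, hdi]
      haveI : IsCyclic (P ⧸ commutator P) := by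
        have : d = 3 ∨ d = 4 := by omega
        rcases this with rfl | rfl
        · exact isCyclic_of_prime_card (by simpa using hq)
        · haveI := (Nat.card_eq_one_iff_unique.1 (by simpa using hq)).1
          infer_instance
      obtain ⟨q, hq'⟩ := IsCyclic.exists_generator (α := P ⧸ commutator P)
      obtain ⟨x, rfl⟩ := QuotientGroup.mk'_surjective (commutator P) q
      have htop : Subgroup.zpowers x ⊔ commutator P = ⊤ := by
        rw [Subgroup.eq_top_iff']
        intro y
        obtain ⟨i, hi⟩ := Subgroup.mem_zpowers_iff.1 (hq' (QuotientGroup.mk' _ y))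
        rw [← map_zpow] at hi
        have hy := QuotientGroup.eq.1 hi
        have := Subgroup.mul_mem_sup (Subgroup.zpow_mem _ (Subgroup.mem_zpowers x) i) hy
        simpa using this
      have hab := Cfsg.Agent.S4584.comm_of_cyclic_abelianization hpg x htop
      exact hc ((Cfsg.Agent.S4584.commutator_eq_bot_of_comm hab).le.trans bot_le)
    rw [hdi, show d = 2 by omega]

end Cfsg.Agent.S4585
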