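import Cfsg.Statements.S4586
import Mathlib.GroupTheory.Abelianization.Defs
import Mathlib.GroupTheory.Index

set_option autoImplicit false
open Cfsg

namespace Cfsg.Agent.S4586

section
variable {P : Type*} [Group P] [Finite P] (N : Subgroup P) [hNn : N.Normal] (x : P)

/-- `n ↦ x n x⁻¹ n⁻¹` as a homomorphism into the abelianization of `N`. -/
noncomputable def commHom : N →* Abelianization N :=
  MonoidHom.mk' (fun n => Abelianization.of
      (⟨x * n * x⁻¹, hNn.conj_mem n n.2 x⟩ * n⁻¹ : N)) (by
    intro a b
    have h : (⟨x * (a * b : N) * x⁻¹, hNn.conj_mem _ (a * b).2 x⟩ : N) =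
        ⟨x * a * x⁻¹, hNn.conj_mem _ a.2 x⟩ * ⟨x * b * x⁻¹, hNn.conj_mem _ b.2 x⟩ := by
      ext; simp [mul_assoc]
    simp only [h, map_mul, map_inv, mul_inv_rev]
    exact mul_mul_mul_comm _ _ _ _ |>.trans (by simp only [mul_comm, mul_left_comm, mul_assoc]))

theorem commHom_apply (n : N) :
    commHom N x n = Abelianization.of (⟨x * n * x⁻¹, hNn.conj_mem n n.2 x⟩ * n⁻¹ : N) := rfl

theorem card_count_mul_index (p : ℕ) [Fact p.Prime] (hN : N.index = p) (hx : x ∉ N) :
    Nat.card {n : N // x * n * x⁻¹ * (n : P)⁻¹ ∈ (commutator N).map N.subtype} * p =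
      Nat.card (commutator N) * (commutator P).index := by
  classical
  have hker : ∀ n : N, x * n * x⁻¹ * (n : P)⁻¹ ∈ (commutator N).map N.subtype ↔
      n ∈ (commHom N x).ker := by
    intro n
    rw [MonoidHom.mem_ker, commHom_apply, ← MonoidHom.mem_ker, Abelianization.ker_of]
    exact (Subgroup.mem_map_iff_mem N.subtype_injective (K := commutator N)
      (x := ⟨x * n * x⁻¹, hNn.conj_mem n n.2 x⟩ * n⁻¹))
  rw [Nat.card_congr (Equiv.subtypeEquivRight hker)]
  -- the preimage of the range
  let S : Subgroup N := (commHom N x).range.comap Abelianization.of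
  let T : Subgroup P := S.map N.subtype
  have hS : commutator N ≤ S := by
    rw [← Abelianization.ker_of]
    intro a ha
    have : Abelianization.of a = 1 := ha
    simp [S, this]
  have hgenS : ∀ n : N, (⟨x * n * x⁻¹, hNn.conj_mem n n.2 x⟩ * n⁻¹ : N) ∈ S :=
    fun n => ⟨n, rfl⟩
  have hSn : S.Normal := ⟨fun a ha b => by
    have : Abelianization.of (b * a * b⁻¹) = Abelianization.of a := by
      simp [mul_comm]
    simpa [S, this] using ha⟩
  have hTN : T ≤ N := Subgroup.map_subtype_le S
  -- conjugation by `x` preserves `S`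
  let c : N → N := fun a => ⟨x * a * x⁻¹, hNn.conj_mem a a.2 x⟩
  have hconj : ∀ a ∈ S, c a ∈ S := by
    intro a ha
    have : c a = (c a * a⁻¹) * a := by group
    rw [this]
    exact S.mul_mem (hgenS a) ha
  have hxT : ∀ t ∈ T, x * t * x⁻¹ ∈ T := by
    rintro _ ⟨a, ha, rfl⟩
    exact ⟨c a, hconj a ha, rfl⟩
  have hNT : N ≤ Subgroup.normalizer (T : Set P) := by
    intro m hm
    rw [Subgroup.mem_normalizer_iff]
    intro t
    constructor
    · rintro ⟨a, ha, rfl⟩
      exact ⟨⟨m, hm⟩ * a * ⟨m, hm⟩⁻¹, hSn.conj_mem a ha _, rfl⟩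
    · rintro ⟨a, ha, h⟩
      refine ⟨⟨m, hm⟩⁻¹ * a * ⟨m, hm⟩⁻¹⁻¹, hSn.conj_mem a ha _, ?_⟩
      have h2 : (a : P) = m * t * m⁻¹ := h
      simp [h2, mul_assoc]
  have hxN : x ∈ Subgroup.normalizer (T : Set P) := by
    rw [Subgroup.mem_normalizer_iff]
    intro t
    refine ⟨hxT t, fun ht => ?_⟩
    let f : T → T := fun u => ⟨x * u * x⁻¹, hxT u u.2⟩
    have hinj : Function.Injective f := fun u v huv => by
      have h' : x * (u : P) * x⁻¹ = x * v * x⁻¹ := congrArg Subtype.val huv
      exact Subtype.ext (mul_left_cancel (mul_right_cancel h'))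
    obtain ⟨u, hu⟩ := (Finite.injective_iff_surjective.1 hinj) ⟨_, ht⟩
    have h' : x * (u : P) * x⁻¹ = x * t * x⁻¹ := congrArg Subtype.val hu
    have hu' : (u : P) = t := mul_left_cancel (mul_right_cancel h')
    exact hu' ▸ u.2
  have hgen : ∀ H : Subgroup P, N ≤ H → x ∈ H → H = ⊤ := by
    intro H h1 h2
    have hdvd : H.index ∣ p := hN ▸ Subgroup.index_dvd_of_le h1
    rcases (Nat.dvd_prime (Fact.out : p.Prime)).1 hdvd with h | h
    · exact Subgroup.index_eq_one.1 h
    · exfalso
      apply hx
      have hle : H ≤ N := by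
        intro y hy
        by_contra hyN
        have h3 := Subgroup.relIndex_mul_index h1
        rw [h, hN] at h3
        have h4 : N.relIndex H = 1 :=
          Nat.eq_of_mul_eq_mul_right (Fact.out : p.Prime).pos (by rw [one_mul]; exact h3)
        exact hyN (Subgroup.relIndex_eq_one.1 h4 hy)
      exact hle h2
  have hTnorm : T.Normal :=
    Subgroup.normalizer_eq_top_iff.1 (hgen _ hNT hxN)
  -- T = P'
  have h1 : T ≤ commutator P := by
    rintro _ ⟨a, ha, rfl⟩
    obtain ⟨n, hn⟩ := ha
    have h2 : (c n * n⁻¹)⁻¹ * a ∈ commutator N := by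
      rw [← Abelianization.ker_of, MonoidHom.mem_ker, map_mul, map_inv]
      rw [commHom_apply] at hn
      rw [← hn]
      simp [c]
    have h3 : (N.subtype ((c n * n⁻¹)⁻¹ * a)) ∈ commutator P := by
      have : (commutator N).map N.subtype ≤ commutator P := by
        rw [Subgroup.map_subtype_commutator]
        exact Subgroup.commutator_mono le_top le_top
      exact this ⟨_, h2, rfl⟩
    have h4 : (N.subtype (c n * n⁻¹)) ∈ commutator P := by
      have := Subgroup.commutator_mem_commutator (Subgroup.mem_top x) (Subgroup.mem_top (n : P))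
      simpa [c, commutatorElement_def, commutator_def] using this
    have := (commutator P).mul_mem h4 h3
    simpa [mul_assoc] using this
  have h2 : commutator P ≤ T := by
    have hq : ∀ n ∈ N, ∀ y : P, QuotientGroup.mk' T (y * n) = QuotientGroup.mk' T (n * y) := by
      intro n hn y
      let K : Subgroup (P ⧸ T) := Subgroup.centralizer {QuotientGroup.mk' T n}
      suffices K.comap (QuotientGroup.mk' T) = ⊤ by
        have hy : y ∈ K.comap (QuotientGroup.mk' T) := this ▸ Subgroup.mem_top y
        rw [Subgroup.mem_comap, Subgroup.mem_centralizer_singleton_iff] at hy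
        simpa using hy
      apply hgen
      · intro m hm
        rw [Subgroup.mem_comap, Subgroup.mem_centralizer_singleton_iff, ← map_mul, ← map_mul]
        apply QuotientGroup.eq.2
        refine ⟨((⟨m, hm⟩ : N) * ⟨n, hn⟩)⁻¹ * (⟨n, hn⟩ * ⟨m, hm⟩), hS ?_, by simp⟩
        rw [← Abelianization.ker_of, MonoidHom.mem_ker, map_mul, map_inv, map_mul, map_mul]
        rw [mul_comm (Abelianization.of (⟨n, hn⟩ : N)), inv_mul_cancel]
      · rw [Subgroup.mem_comap, Subgroup.mem_centralizer_singleton_iff, ← map_mul, ← map_mul]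
        symm
        apply QuotientGroup.eq.2
        have e : (n * x)⁻¹ * (x * n) = n⁻¹ ^ 0 * (x⁻¹ * (n⁻¹ * (x * n * x⁻¹)) * x) := by group
        rw [e, pow_zero, one_mul]
        have h5 : n⁻¹ * (x * n * x⁻¹) ∈ T := by
          have h6 : N.subtype (c ⟨n, hn⟩ * (⟨n, hn⟩ : N)⁻¹) ∈ T := ⟨_, hgenS _, rfl⟩
          have := hTnorm.conj_mem _ h6 n⁻¹
          simpa [c, mul_assoc] using this
        simpa using hTnorm.conj_mem _ h5 x⁻¹
    have hc : ∀ a b : P ⧸ T, a * b = b * a := by
      intro a b
      obtain ⟨a, rfl⟩ := QuotientGroup.mk'_surjective T a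
      obtain ⟨b, rfl⟩ := QuotientGroup.mk'_surjective T b
      let K : Subgroup (P ⧸ T) := Subgroup.centralizer {QuotientGroup.mk' T b}
      suffices K.comap (QuotientGroup.mk' T) = ⊤ by
        have hy : a ∈ K.comap (QuotientGroup.mk' T) := this ▸ Subgroup.mem_top a
        rw [Subgroup.mem_comap, Subgroup.mem_centralizer_singleton_iff] at hy
        exact hy
      apply hgen
      · intro m hm
        rw [Subgroup.mem_comap, Subgroup.mem_centralizer_singleton_iff, ← map_mul, ← map_mul]
        exact (hq m hm b).symm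
      · rw [Subgroup.mem_comap, Subgroup.mem_centralizer_singleton_iff]
        let K' : Subgroup (P ⧸ T) := Subgroup.centralizer {QuotientGroup.mk' T x}
        suffices K'.comap (QuotientGroup.mk' T) = ⊤ by
          have hy : b ∈ K'.comap (QuotientGroup.mk' T) := this ▸ Subgroup.mem_top b
          rw [Subgroup.mem_comap, Subgroup.mem_centralizer_singleton_iff] at hy
          exact hy.symm
        apply hgen
        · intro m hm
          rw [Subgroup.mem_comap, Subgroup.mem_centralizer_singleton_iff, ← map_mul, ← map_mul]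
          exact (hq m hm x).symm
        · rw [Subgroup.mem_comap, Subgroup.mem_centralizer_singleton_iff]
    rw [commutator_def, Subgroup.commutator_le]
    intro a _ b _
    rw [← QuotientGroup.eq_one_iff]
    change QuotientGroup.mk' T _ = 1
    rw [map_commutatorElement, commutatorElement_eq_one_iff_mul_comm]
    exact hc _ _
  have hT : T = commutator P := le_antisymm h1 h2
  rw [← hT, show T.index = S.index * N.index from Subgroup.index_map_subtype S, hN]
  -- counting
  have h3 : Nat.card S = Nat.card (commHom N x).range * Nat.card (commutator N) := by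
    have h4 := Subgroup.relIndex_mul_relIndex ⊥ (commutator N) S bot_le hS
    rw [Subgroup.relIndex_bot_left, Subgroup.relIndex_bot_left] at h4
    have h5 : (commutator N).relIndex S = Nat.card (commHom N x).range := by
      rw [← Abelianization.ker_of]
      have hmap : S.map Abelianization.of = (commHom N x).range :=
        Subgroup.map_comap_eq_self_of_surjective (QuotientGroup.mk'_surjective (commutator N)) _
      rw [Subgroup.relIndex_ker, hmap]
    rw [h5, mul_comm] at h4
    exact h4.symm
  have h4 := Subgroup.card_mul_index S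
  have h5 := Subgroup.card_mul_index (commHom N x).ker
  rw [Subgroup.index_ker] at h5
  haveI : Finite (commHom N x).range :=
    Finite.of_surjective (commHom N x).rangeRestrict (commHom N x).rangeRestrict_surjective
  have hpos : 0 < Nat.card (commHom N x).range := Nat.card_pos
  apply Nat.eq_of_mul_eq_mul_right hpos
  calc Nat.card (commHom N x).ker * p * Nat.card (commHom N x).range
      = (Nat.card (commHom N x).ker * Nat.card (commHom N x).range) * p := by ring
    _ = Nat.card N * p := by rw [h5]
    _ = Nat.card S * S.index * p := by rw [h4]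
    _ = Nat.card (commutator N) * (S.index * p) * Nat.card (commHom N x).range := by
          rw [h3]; ring

end

theorem result {P : Type*} [Group P] [Finite P] (p : ℕ) [Fact p.Prime] (hP : IsPGroup p P) (N : Subgroup P) [N.Normal] (hN : N.index = p) :
    ((commutator P).index = p ^ 2 ↔ ∀ x : P, x ∉ N →
        Nat.card {n : N // x * n * x⁻¹ * (n : P)⁻¹ ∈ (commutator N).map N.subtype} = p * Nat.card (commutator N)) ∧
    ((commutator P).index = p ^ 2 ↔ ∃ x : P, x ∉ N ∧
        Nat.card {n : N // x * n * x⁻¹ * (n : P)⁻¹ ∈ (commutator N).map N.subtype} = p * Nat.card (commutator N)) := by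
  have hp : p.Prime := Fact.out
  have key : ∀ x : P, x ∉ N →
      ((commutator P).index = p ^ 2 ↔ Nat.card {n : N // x * n * x⁻¹ * (n : P)⁻¹ ∈
        (commutator N).map N.subtype} = p * Nat.card (commutator N)) := by
    intro x hx
    have h := card_count_mul_index N x p hN hx
    constructor
    · intro hi
      rw [hi] at h
      exact Nat.eq_of_mul_eq_mul_right hp.pos (h.trans (by ring))
    · intro hc
      rw [hc] at h
      exact Nat.eq_of_mul_eq_mul_left Nat.card_pos (h.symm.trans (by ring))
  have hne : ∃ x : P, x ∉ N := by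
    by_contra hcon
    have : N = ⊤ := (Subgroup.eq_top_iff' N).2 (by simpa using hcon)
    rw [this, Subgroup.index_top] at hN
    exact hp.ne_one hN.symm
  obtain ⟨x₀, hx₀⟩ := hne
  exact ⟨⟨fun h x hx => (key x hx).1 h, fun h => (key x₀ hx₀).2 (h x₀ hx₀)⟩,
    ⟨fun h => ⟨x₀, hx₀, (key x₀ hx₀).1 h⟩, fun ⟨x, hx, h⟩ => (key x hx).2 h⟩⟩

end Cfsg.Agent.S4586
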