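import Mathlib
import Cfsg.Statements.S4587
import Cfsg.Agent.Lib.ChrP2.Components
import Cfsg.Agent.Lib.Transfer.Tate
import Cfsg.Agent.Lib.CompLength.Factors
import Cfsg.Agent.Lib.Balance.LBalance

set_option autoImplicit false
open Cfsg Subgroup
set_option linter.style.haveILetI false

namespace Cfsg.Agent.S4587

open scoped commutatorElement
open Cfsg.Agent.Lib.ChrP2 Cfsg.Agent.Lib.CompLength.Factors Cfsg.Agent.Lib.RecogThree.MinNormalFactors
open Cfsg.Agent.Lib.Transfer

variable {G : Type*} [Group G] [Finite G] {p : ℕ} [hp : Fact p.Prime]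

omit [Finite G] hp in
theorem relIndex_eq (P : Subgroup G) : (⁅P, P⁆).relIndex P = (commutator P).index := by
  show ((⁅P, P⁆).subgroupOf P).index = _
  rw [← map_subtype_commutator]
  exact congrArg Subgroup.index (comap_map_eq_self_of_injective P.subtype_injective _)

/-- A normal subgroup meeting `P` inside `P'` is trivial. -/
theorem eq_bot_of_inf_le (P : Sylow p G) (hcore : pPrimeCore p G = ⊥)
    (hcore' : (⁅(P : Subgroup G), (P : Subgroup G)⁆).normalCore = ⊥) (N : Subgroup G) [N.Normal]
    (h : N.subgroupOf (P : Subgroup G) ≤ commutator ↥(P : Subgroup G)) : N = ⊥ := by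
  have hfr : commutator ↥(P : Subgroup G) ≤ frattini ↥(P : Subgroup G) := by
    refine le_iInf₂ fun M hM => ?_
    by_contra hle
    exact hM.1 (PGroup.sup_commutator_eq_top P.2 (hM.2 _ (left_lt_sup.2 hle)))
  have hc := Tate.hasNormalPComplement_of_inf_le_frattini P N fun x hx =>
    ⟨⟨x, hx.2⟩, hfr (h (show (⟨x, hx.2⟩ : ↥(P : Subgroup G)) ∈ N.subgroupOf _ from hx.1)), rfl⟩
  rw [PResidual.hasNormalPComplement_iff_not_dvd] at hc
  have h1 : (Cfsg.pResidual p N).map N.subtype ≤ pPrimeCore p G := by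
    refine le_sSup ⟨inferInstance, ?_⟩
    rw [card_map_of_injective N.subtype_injective]
    exact Nat.Coprime.symm (hp.out.coprime_iff_not_dvd.2 hc)
  rw [hcore, le_bot_iff, map_eq_bot_iff_of_injective _ N.subtype_injective,
    PResidual.pResidual_eq_bot_iff] at h1
  obtain ⟨R, hR⟩ := h1.exists_le_sylow
  have hNP : N ≤ (P : Subgroup G) := by
    obtain ⟨g, hg⟩ := MulAction.exists_smul_eq G R P
    intro x hx
    rw [← hg]
    have h2 : g⁻¹ * x * g ∈ N := by simpa using Normal.conj_mem ‹N.Normal› x hx g⁻¹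
    exact ⟨g⁻¹ * x * g, hR h2, by simp [mul_assoc]⟩
  have h3 : N ≤ ⁅(P : Subgroup G), (P : Subgroup G)⁆ := by
    rw [← map_subtype_commutator]
    exact fun x hx => ⟨⟨x, hNP hx⟩, h (show (⟨x, hNP hx⟩ : ↥(P : Subgroup G)) ∈ N.subgroupOf _ from hx), rfl⟩
  exact le_bot_iff.1 (hcore' ▸ normal_le_normalCore.2 h3)

/-- Some element has centraliser of `p`-part `p²` when all its conjugates in `P` have small
centralisers in `P`. -/
theorem factorization_eq_two (P : Sylow p G) (hD : (commutator ↥(P : Subgroup G)).index = p ^ 2)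
    (y : ↥(P : Subgroup G))
    (h : ∀ z : ↥(P : Subgroup G), IsConj (y : G) (z : G) →
      Nat.card (centralizer ({z} : Set ↥(P : Subgroup G))) ≤ p ^ 2) :
    (Nat.card (centralizer ({(y : G)} : Set G))).factorization p = 2 := by
  set C := centralizer ({(y : G)} : Set G)
  obtain ⟨R⟩ := (inferInstance : Nonempty (Sylow p C))
  have hR : Nat.card R = p ^ (Nat.card C).factorization p := R.card_eq_multiplicity
  have hlow : p ^ 2 ≤ p ^ (Nat.card C).factorization p := by
    let Q : Subgroup C :=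
      ((centralizer ({y} : Set ↥(P : Subgroup G))).map (P : Subgroup G).subtype).subgroupOf C
    have hQp : IsPGroup p Q := by
      refine IsPGroup.comap_of_injective ?_ _ C.subtype_injective
      exact (P.2.to_subgroup _).map _
    obtain ⟨R', hR'⟩ := hQp.exists_le_sylow
    rw [← R'.card_eq_multiplicity]
    refine le_trans (hD ▸ PGroup.index_le_card_centralizer y) (le_trans (le_of_eq ?_)
      (card_le_of_le hR'))
    rw [← card_map_of_injective (K := centralizer ({y} : Set ↥(P : Subgroup G)))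
      (P : Subgroup G).subtype_injective]
    refine (Nat.card_congr (subgroupOfEquivOfLe ?_).toEquiv).symm
    rintro _ ⟨c, hc, rfl⟩
    exact mem_centralizer_singleton_iff.2
      (congrArg Subtype.val (mem_centralizer_singleton_iff.1 hc))
  have hhigh : p ^ (Nat.card C).factorization p ≤ p ^ 2 := by
    rw [← hR]
    let yC : C := ⟨(y : G), mem_centralizer_singleton_iff.2 rfl⟩
    have hyR : yC ∈ (R : Subgroup C) := by
      have hcen : ∀ c : C, c * yC = yC * c := fun c =>
        Subtype.ext (mem_centralizer_singleton_iff.1 c.2)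
      have hn : (zpowers yC).Normal := ⟨fun n hn c => by
        obtain ⟨k, rfl⟩ := mem_zpowers_iff.1 hn
        rw [((show Commute c yC from hcen c).zpow_right k).eq, mul_inv_cancel_right]
        exact zpow_mem (mem_zpowers yC) k⟩
      have hpz : IsPGroup p (zpowers yC) := by
        obtain ⟨k, hk⟩ := P.2 y
        intro w
        obtain ⟨j, hj⟩ := mem_zpowers_iff.1 w.2
        refine ⟨k, Subtype.ext ?_⟩
        have hy1 : yC ^ p ^ k = 1 := Subtype.ext (by simpa [yC] using congrArg Subtype.val hk)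
        simp only [SubgroupClass.coe_pow, OneMemClass.coe_one, ← hj]
        rw [← zpow_natCast (yC ^ j), ← zpow_mul, mul_comm, zpow_mul, zpow_natCast, hy1, one_zpow]
      exact hpz.le_sylow_of_normal R (mem_zpowers yC)
    obtain ⟨T, hT⟩ := (R.2.map C.subtype).exists_le_sylow
    obtain ⟨g, hg⟩ := MulAction.exists_smul_eq G T P
    have hmem : ∀ r ∈ (R : Subgroup C), g * (r : G) * g⁻¹ ∈ (P : Subgroup G) := fun r hr => by
      rw [← hg]
      exact ⟨r, hT ⟨r, hr, rfl⟩, rfl⟩
    let z : ↥(P : Subgroup G) := ⟨g * (y : G) * g⁻¹, hmem yC hyR⟩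
    refine le_trans ?_ (h z (isConj_iff.2 ⟨g, rfl⟩))
    refine Nat.card_le_card_of_injective
      (fun r => (⟨⟨g * ((r : C) : G) * g⁻¹, hmem r r.2⟩, ?_⟩ :
        centralizer ({z} : Set ↥(P : Subgroup G)))) fun a b hab => ?_
    · refine mem_centralizer_singleton_iff.2 (Subtype.ext ?_)
      show g * ((r : C) : G) * g⁻¹ * (g * (y : G) * g⁻¹) = g * (y : G) * g⁻¹ * (g * ((r : C) : G) * g⁻¹)
      calc g * ((r : C) : G) * g⁻¹ * (g * (y : G) * g⁻¹) = g * (((r : C) : G) * y) * g⁻¹ := by group
        _ = g * ((y : G) * ((r : C) : G)) * g⁻¹ := by rw [mem_centralizer_singleton_iff.1 (r : C).2]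
        _ = _ := by group
    · have h1 : g * ((a : C) : G) * g⁻¹ = g * ((b : C) : G) * g⁻¹ :=
        congrArg (fun w : centralizer ({z} : Set ↥(P : Subgroup G)) => ((w : ↥(P : Subgroup G)) : G)) hab
      exact Subtype.ext (Subtype.ext (mul_left_cancel (mul_right_cancel h1)))
  exact le_antisymm ((Nat.pow_le_pow_iff_right hp.out.one_lt).1 hhigh)
    ((Nat.pow_le_pow_iff_right hp.out.one_lt).1 hlow)

theorem inf_mem_sylow (P : Sylow p G) {N : Subgroup G} [N.Normal] {M : Subgroup G}
    (S : Setting N M) (F : Fac M) {q : N} (hq : (q : G) ∈ (P : Subgroup G)) :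
    (S.proj F q : G) ∈ (P : Subgroup G) := by
  have hP : IsPGroup p (P : Subgroup G) := P.2
  haveI hFn : (F.1.subgroupOf N).Normal := ⟨fun m hm n => S.normalized F n.2 hm⟩
  obtain ⟨U, hU⟩ := Cfsg.Agent.Lib.Balance.exists_sylow_inf_normal P N
  obtain ⟨V, hV⟩ := Cfsg.Agent.Lib.Balance.exists_sylow_inf_normal U (F.1.subgroupOf N)
  let i : F.1.subgroupOf N →* F.1 := (subgroupOfEquivOfLe (S.le F)).toMonoidHom
  have hisurj : Function.Surjective i := (subgroupOfEquivOfLe (S.le F)).surjective
  let W : Sylow p F.1 := V.mapSurjective hisurj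
  have hWP : ∀ w ∈ (W : Subgroup F.1), (w : G) ∈ (P : Subgroup G) := by
    intro w hw
    rw [Sylow.coe_mapSurjective] at hw
    obtain ⟨v, hv, rfl⟩ := hw
    rw [hV] at hv
    exact hU.le (show ((v : N)) ∈ (U : Subgroup N) from hv)
  have hPN : IsPGroup p (((P : Subgroup G).subgroupOf N).map (S.proj F)) :=
    (hP.comap_of_injective _ N.subtype_injective).map _
  have hle : (W : Subgroup F.1) ≤ ((P : Subgroup G).subgroupOf N).map (S.proj F) := by
    intro w hw
    exact ⟨⟨w, S.le F w.2⟩, hWP w hw, S.proj_self F w.2⟩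
  have := W.3 hPN hle
  exact hWP _ (this ▸ ⟨q, hq, rfl⟩)

/-- For a minimal normal subgroup with trivial centraliser that is not simple, `P ∩ N` is abelian. -/
theorem comm_of_min_normal (P : Sylow p G) (hcore : pPrimeCore p G = ⊥)
    (hcore' : (⁅(P : Subgroup G), (P : Subgroup G)⁆).normalCore = ⊥)
    (hD : (commutator ↥(P : Subgroup G)).index = p ^ 2)
    (hnas : ¬ ∃ S : Subgroup G, S.Normal ∧ IsSimpleGroup S ∧ ¬ IsMulCommutative S ∧
      Subgroup.centralizer (S : Set G) = ⊥)
    (N : Subgroup G) [N.Normal] (hN : N ≠ ⊥)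
    (hmin : ∀ X : Subgroup G, X.Normal → X ≤ N → X = ⊥ ∨ X = N)
    (hcent : centralizer (N : Set G) = ⊥) :
    ∀ a ∈ N.subgroupOf (P : Subgroup G), ∀ b ∈ N.subgroupOf (P : Subgroup G), a * b = b * a := by
  have hce : N ⊓ centralizer (N : Set G) = ⊥ := by rw [hcent, inf_bot_eq]
  obtain ⟨M, hF⟩ := exists_factor ‹N.Normal› hN hmin hce
  have S : Setting N M := ⟨‹_›, hce, hF⟩
  haveI : Nontrivial (Fac M) := by
    rw [← not_subsingleton_iff_nontrivial]
    intro hs
    have hMN : M = N := le_antisymm hF.le fun n hn => by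
      obtain ⟨m, hm, c, hc, rfl⟩ := hF.decomp n hn
      have : others M = ⊥ := by
        rw [others, closure_eq_bot_iff]
        rintro z ⟨g, hg, _⟩
        exact absurd (congrArg Subtype.val
          (Subsingleton.elim (⟨cj M g, g, rfl⟩ : Fac M) (base M))) hg
      rw [this, mem_bot] at hc
      rw [hc, mul_one]
      exact hm
    refine hnas ⟨N, inferInstance, ?_, ?_, hcent⟩
    · haveI : Nontrivial N := (nontrivial_iff_ne_bot N).2 hN
      refine ⟨fun H hH => ?_⟩
      rcases hF.minimal (H.map N.subtype) (hMN ▸ map_subtype_le H) (by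
        rintro m hm _ ⟨x, hx, rfl⟩
        exact ⟨⟨m, hMN ▸ hm⟩ * x * ⟨m, hMN ▸ hm⟩⁻¹, hH.conj_mem x hx _, rfl⟩) with h | h
      · exact Or.inl ((map_eq_bot_iff_of_injective _ N.subtype_injective).1 h)
      · exact Or.inr (map_injective N.subtype_injective (by
          rw [h, hMN, ← MonoidHom.range_eq_map, range_subtype]))
    · intro hc
      refine hN (le_bot_iff.1 (hcent ▸ ?_))
      intro x hx
      exact mem_centralizer_iff.2 fun y hy =>
        congrArg Subtype.val (hc.is_comm.comm (⟨y, hy⟩ : N) ⟨x, hx⟩)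
  set Q : Subgroup ↥(P : Subgroup G) := N.subgroupOf _ with hQ
  let inQ : Q →* N := MonoidHom.mk' (fun q => ⟨((q : ↥(P : Subgroup G)) : G), q.2⟩) fun _ _ => rfl
  let π : Fac M → Q →* Q := fun F => MonoidHom.mk'
    (fun q => ⟨⟨(S.proj F (inQ q) : G), inf_mem_sylow P S F (q : ↥(P : Subgroup G)).2⟩,
      S.le F (S.proj F (inQ q)).2⟩)
    fun a b => Subtype.ext (Subtype.ext (by simp))
  have hπ : ∀ F q, ((π F q : ↥(P : Subgroup G)) : G) = (S.proj F (inQ q) : G) := fun _ _ => rfl
  have hinQ : ∀ F q, inQ (π F q) = ⟨(S.proj F (inQ q) : G), S.le F (S.proj F (inQ q)).2⟩ :=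
    fun _ _ => rfl
  have hext : ∀ {u v : Q}, ((u : ↥(P : Subgroup G)) : G) = ((v : ↥(P : Subgroup G)) : G) → u = v :=
    fun h => Subtype.ext (Subtype.ext h)
  have c : Components.Comps Q (fun z F => mapFac (z : G) F) π := by
    refine ⟨fun F => Subtype.ext (cj_one _), fun a b F => Subtype.ext (cj_cj _ _ _).symm,
      fun q hq F => ?_, fun F q => hext ?_, fun F E q h => hext ?_, fun q h => hext ?_, fun f => ?_,
      fun z q q' F h => Subtype.ext ?_, fun F => ?_⟩
    · refine Subtype.ext (Subgroup.ext fun w => ?_)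
      show w ∈ cj F.1 (q : G) ↔ w ∈ F.1
      rw [mem_cj]
      constructor
      · intro hw
        simpa [mul_assoc] using S.normalized F hq hw
      · intro hw
        simpa [mul_assoc] using S.normalized F (N.inv_mem hq) hw
    · rw [hπ, hinQ, S.proj_self F (S.proj F (inQ q)).2]
      rfl
    · rw [hπ, hinQ, S.proj_other F E h (S.proj E (inQ q)).2]
      rfl
    · have := S.ext_one (n := inQ q) fun F => Subtype.ext (by
        rw [← hπ, h F]
        rfl)
      exact congrArg (fun w : N => (w : G)) this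
    · classical
      haveI := Fintype.ofFinite (Fac M)
      suffices key : ∀ s : Finset (Fac M), ∃ q, (∀ F ∈ s, π F q = π F (f F)) ∧ ∀ F ∉ s, π F q = 1 by
        obtain ⟨q, hq, -⟩ := key Finset.univ
        exact ⟨q, fun F => hq F (Finset.mem_univ F)⟩
      intro s
      induction s using Finset.induction_on with
      | empty => exact ⟨1, by simp, fun F _ => map_one _⟩
      | @insert E t hE ih =>
        obtain ⟨q, h1, h2⟩ := ih
        have ho : ∀ F, F ≠ E → π F (π E (f E)) = 1 := fun F h => hext (by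
          rw [hπ, hinQ, S.proj_other F E h (S.proj E (inQ (f E))).2]
          rfl)
        refine ⟨π E (f E) * q, fun F hF => ?_, fun F hF => ?_⟩
        · rcases Finset.mem_insert.1 hF with rfl | hF
          · rw [map_mul, h2 _ hE, mul_one]
            refine hext ?_
            rw [hπ, hinQ, S.proj_self F (S.proj F (inQ (f F))).2]
            rfl
          · rw [map_mul, ho F (fun e => hE (e ▸ hF)), one_mul, h1 F hF]
        · rw [map_mul, ho F (fun e => hF (e ▸ Finset.mem_insert_self _ _)), one_mul,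
            h2 F fun h => hF (Finset.mem_insert_of_mem h)]
    · exact S.proj_conj F (z : G) (inQ q) (inQ q') (congrArg Subtype.val h)
    · -- `p` divides the order of each factor
      by_contra! hall
      obtain ⟨U, hU⟩ := Cfsg.Agent.Lib.Balance.exists_sylow_inf_normal P N
      let W : Sylow p F.1 := U.mapSurjective (S.proj_surjective F)
      have hW : Nat.card (W : Subgroup F.1) = 1 := by
        rw [Sylow.coe_mapSurjective, card_eq_one, eq_bot_iff]
        rintro _ ⟨u, hu, rfl⟩
        replace hu : (u : G) ∈ (P : Subgroup G) := hU.le (show u ∈ (U : Subgroup N) from hu)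
        refine mem_bot.2 (Subtype.ext ?_)
        have := congrArg (fun w : Q => ((w : ↥(P : Subgroup G)) : G))
          (hall ⟨⟨(u : G), hu⟩, u.2⟩)
        exact this
      have hndvd : ¬ p ∣ Nat.card F.1 := fun hd => by
        have := W.dvd_card_of_dvd_card hd
        rw [show Nat.card W = 1 from hW] at this
        exact hp.out.one_lt.ne' (Nat.dvd_one.1 this)
      -- then `N ∩ P` is trivial
      refine hN (eq_bot_of_inf_le P hcore hcore' N fun q hq => ?_)
      suffices hq1 : q = 1 by rw [hq1]; exact one_mem _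
      refine Subtype.ext ?_
      refine congrArg (fun w : N => (w : G)) (S.ext_one (n := inQ ⟨q, hq⟩) fun E => ?_)
      obtain ⟨a, ha⟩ := E.2
      obtain ⟨b, hb⟩ := F.2
      have hcard : Nat.card E.1 = Nat.card F.1 := by
        rw [← ha, ← hb]
        exact (card_map_of_injective (MulAut.conj a).injective).trans
          (card_map_of_injective (MulAut.conj b).injective).symm
      obtain ⟨k, hk⟩ := P.2 q
      refine orderOf_eq_one_iff.1 (Nat.eq_one_of_dvd_coprimes
        ((hp.out.coprime_iff_not_dvd.2 hndvd).pow_left k) ?_ (hcard ▸ orderOf_dvd_natCard _))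
      refine orderOf_dvd_of_pow_eq_one ?_
      rw [← map_pow, ← map_pow, show (⟨q, hq⟩ : Q) ^ p ^ k = 1 from Subtype.ext hk, map_one, map_one]
  by_cases hle : Q ≤ commutator ↥(P : Subgroup G)
  · exact absurd (eq_bot_of_inf_le P hcore hcore' N hle) hN
  rcases PGroup.dichotomy P.2 hD Q hle with h | ⟨hi, hDQ, hrel⟩
  · exact c.comm_of_top P.2 hD h
  · exact c.comm_of_proper P.2 hi hDQ hrel

/-- The hard direction. -/
theorem exists_of_index (P : Sylow p G) (hcore : pPrimeCore p G = ⊥)
    (hcore' : (⁅(P : Subgroup G), (P : Subgroup G)⁆).normalCore = ⊥)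
    (hnas : ¬ ∃ S : Subgroup G, S.Normal ∧ IsSimpleGroup S ∧ ¬ IsMulCommutative S ∧
      Subgroup.centralizer (S : Set G) = ⊥)
    (hD : (commutator ↥(P : Subgroup G)).index = p ^ 2) :
    ∃ x : G, (∃ k : ℕ, orderOf x = p ^ k) ∧
      (Nat.card (Subgroup.centralizer ({x} : Set G))).factorization p = 2 := by
  suffices h : ∃ y : ↥(P : Subgroup G), ∀ z : ↥(P : Subgroup G), IsConj (y : G) (z : G) →
      Nat.card (centralizer ({z} : Set ↥(P : Subgroup G))) ≤ p ^ 2 by
    obtain ⟨y, hy⟩ := h
    obtain ⟨k, hk⟩ := IsPGroup.iff_orderOf.1 P.2 y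
    exact ⟨y, ⟨k, by rw [Subgroup.orderOf_coe, hk]⟩, factorization_eq_two P hD y hy⟩
  by_cases hDbot : commutator ↥(P : Subgroup G) = ⊥
  · refine ⟨1, fun z _ => (Finite.card_subtype_le _).trans ?_⟩
    rw [← hD, hDbot, index_bot]
  have hP2 : ∀ N : Subgroup G, N.Normal → N ≠ ⊥ →
      commutator ↥(P : Subgroup G) ≤ N.subgroupOf _ := by
    intro N _ hN
    rcases PGroup.dichotomy P.2 hD (N.subgroupOf _)
      (fun h => hN (eq_bot_of_inf_le P hcore hcore' N h)) with h | h
    · exact le_of_le_of_eq le_top h.symm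
    · exact h.2.1
  have hdisj : ∀ A B : Subgroup G, A.Normal → B.Normal → A ⊓ B = ⊥ → A = ⊥ ∨ B = ⊥ := by
    intro A B hA hB hAB
    by_contra! hc
    refine hDbot (le_bot_iff.1 fun x hx => mem_bot.2 (Subtype.ext ?_))
    exact mem_bot.1 (hAB.le ⟨hP2 A hA hc.1 hx, hP2 B hB hc.2 hx⟩)
  haveI : Nontrivial G := by
    rw [← not_subsingleton_iff_nontrivial]
    intro hs
    haveI : Subsingleton ↥(P : Subgroup G) := Subtype.val_injective.subsingleton
    exact hDbot (Subsingleton.elim _ _)
  obtain ⟨N, hNn, hN, hmin⟩ : ∃ N : Subgroup G, N.Normal ∧ N ≠ ⊥ ∧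
      ∀ X : Subgroup G, X.Normal → X ≤ N → X = ⊥ ∨ X = N := by
    obtain ⟨N, ⟨hNn, hN⟩, hm⟩ := (Set.toFinite {N : Subgroup G | N.Normal ∧ N ≠ ⊥}).exists_minimal
      ⟨⊤, inferInstance, top_ne_bot⟩
    exact ⟨N, hNn, hN, fun X hX hXN => or_iff_not_imp_left.2 fun h =>
      le_antisymm hXN (hm ⟨hX, h⟩ hXN)⟩
  have hab : ∀ a ∈ N.subgroupOf (P : Subgroup G), ∀ b ∈ N.subgroupOf (P : Subgroup G),
      a * b = b * a := by
    by_cases hc : N ≤ centralizer (N : Set G)
    · intro a ha b hb
      exact Subtype.ext (mem_centralizer_iff.1 (hc (show (b : G) ∈ N from hb)) a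
        (show (a : G) ∈ N from ha))
    · have hi : N ⊓ centralizer (N : Set G) = ⊥ :=
        (hmin _ inferInstance inf_le_left).resolve_right fun h => hc (inf_eq_left.1 h)
      exact comm_of_min_normal P hcore hcore' hD hnas N hN hmin
        ((hdisj N _ hNn inferInstance hi).resolve_left hN)
  rcases PGroup.dichotomy P.2 hD (N.subgroupOf _)
      (fun h => hN (eq_bot_of_inf_le P hcore hcore' N h)) with h | ⟨hi, -, -⟩
  · refine absurd ?_ hDbot
    rw [commutator_eq_closure, closure_eq_bot_iff]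
    rintro _ ⟨a, b, rfl⟩
    exact commutatorElement_eq_one_iff_mul_comm.2
      (hab a (h ▸ mem_top a) b (h ▸ mem_top b))
  · obtain ⟨y, hy⟩ : ∃ y, y ∉ N.subgroupOf (P : Subgroup G) := by
      by_contra! hc
      rw [index_eq_one.2 (eq_top_iff.2 fun x _ => hc x)] at hi
      exact hp.out.one_lt.ne hi
    refine ⟨y, fun z hz => PGroup.card_centralizer_le hD _ hi hab fun hzN => hy ?_⟩
    obtain ⟨g, hg⟩ := isConj_iff.1 hz
    have := hNn.conj_mem _ (show (z : G) ∈ N from hzN) g⁻¹
    show (y : G) ∈ N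
    rw [← hg] at this
    simpa [mul_assoc] using this

/-- The easy direction. -/
theorem index_of_exists (P : Sylow p G) (hbig : p ^ 2 ∣ Nat.card G) {x : G} {k : ℕ}
    (hx : orderOf x = p ^ k) (h : (Nat.card (centralizer ({x} : Set G))).factorization p = 2) :
    (commutator ↥(P : Subgroup G)).index = p ^ 2 := by
  have hcard : p ^ 2 ≤ Nat.card ↥(P : Subgroup G) :=
    Nat.le_of_dvd Nat.card_pos (P.pow_dvd_card_of_pow_dvd_card hbig)
  obtain ⟨T, hT⟩ := (IsPGroup.of_card (n := k) (G := zpowers x) (by rw [Nat.card_zpowers, hx])).exists_le_sylow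
  obtain ⟨g, hg⟩ := MulAction.exists_smul_eq G T P
  have hxP : g * x * g⁻¹ ∈ (P : Subgroup G) := hg ▸ ⟨x, hT (mem_zpowers x), rfl⟩
  refine le_antisymm (le_trans (PGroup.index_le_card_centralizer ⟨_, hxP⟩) ?_)
    (PGroup.index_commutator_ge P.2 hcard)
  set C := centralizer ({x} : Set G)
  let f : centralizer ({⟨_, hxP⟩} : Set ↥(P : Subgroup G)) →* C := MonoidHom.mk'
    (fun c => ⟨g⁻¹ * ((c : ↥(P : Subgroup G)) : G) * g, mem_centralizer_singleton_iff.2 (by
      have h1 : ((c : ↥(P : Subgroup G)) : G) * (g * x * g⁻¹) = g * x * g⁻¹ * ((c : ↥(P : Subgroup G)) : G) :=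
        congrArg Subtype.val (mem_centralizer_singleton_iff.1 c.2)
      calc g⁻¹ * ((c : ↥(P : Subgroup G)) : G) * g * x
          = g⁻¹ * (((c : ↥(P : Subgroup G)) : G) * (g * x * g⁻¹)) * g := by group
        _ = _ := by rw [h1]; group)⟩)
    fun a b => Subtype.ext (by simp [mul_assoc])
  have hf : Function.Injective f := fun a b hab => by
    have h1 : g⁻¹ * ((a : ↥(P : Subgroup G)) : G) * g = g⁻¹ * ((b : ↥(P : Subgroup G)) : G) * g :=
      congrArg Subtype.val hab
    exact Subtype.ext (Subtype.ext (mul_left_cancel (mul_right_cancel h1)))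
  have hp' : IsPGroup p f.range := (P.2.to_subgroup _).of_surjective f.rangeRestrict
    f.rangeRestrict_surjective
  obtain ⟨R, hR⟩ := hp'.exists_le_sylow
  rw [← h, ← R.card_eq_multiplicity]
  refine le_trans (le_of_eq ?_) (card_le_of_le hR)
  exact Nat.card_congr (MonoidHom.ofInjective hf).toEquiv


/-- Let G be a finite group, p a prime and P a Sylow p-subgroup of order at least p². Assume that G has no nontrivial normal subgroup of order prime to p, that the derived subgroup P' of P contains no nontrivial normal subgroup of G, and that G is not almost simple (there is no non-abelian simple normal subgroup of G with trivial centralizer). Then [P : P'] = p² if and only if some p-element x of G has centralizer whose order has p-part exactly p². -/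
theorem result {G : Type*} [Group G] [Finite G] (p : ℕ) [Fact p.Prime] (P : Sylow p G) (hbig : p ^ 2 ∣ Nat.card G) (hcore : Cfsg.pPrimeCore p G = ⊥)
    (hcore' : (⁅(P : Subgroup G), (P : Subgroup G)⁆).normalCore = ⊥) (hnas : ¬ ∃ S : Subgroup G, S.Normal ∧ IsSimpleGroup S ∧ ¬ IsMulCommutative S ∧ Subgroup.centralizer (S : Set G) = ⊥) :
    (⁅(P : Subgroup G), (P : Subgroup G)⁆).relIndex (P : Subgroup G) = p ^ 2 ↔
      ∃ x : G, (∃ k : ℕ, orderOf x = p ^ k) ∧ (Nat.card (Subgroup.centralizer ({x} : Set G))).factorization p = 2 := by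
  rw [relIndex_eq]
  exact ⟨exists_of_index P hcore hcore' hnas, fun ⟨_, ⟨_, hx⟩, h⟩ => index_of_exists P hbig hx h⟩

end Cfsg.Agent.S4587
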