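import Cfsg.Statements.S4591
import Cfsg.Agent.Lib.BC78.CoprimeFix
import Cfsg.Agent.Lib.Characters.Linear
import Cfsg.Agent.Lib.Transfer.Tate
import Cfsg.Agent.Lib.PGroups.Frattini
import Mathlib.GroupTheory.FiniteAbelian.Duality

set_option autoImplicit false
open Cfsg

namespace Cfsg.Agent.S4591

open scoped ComplexConjugate commutatorElement
open Cfsg.Agent.Lib.Induced.Basic Cfsg.Agent.Lib.Characters.Basic Cfsg.Agent.Lib.BC78.Clifford
  Cfsg.Agent.Lib.BC78.CoprimeFix Cfsg.Agent.Lib.Characters.Kernel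

universe u

variable {G : Type u} [Group G]

theorem eq_oneChar [Finite G] (θ : Cfsg.IrrCharacter G)
    (h : ∀ g, (θ : G → ℂ) g = (θ : G → ℂ) 1) : θ = oneChar G := by
  classical
  haveI := Fintype.ofFinite G
  by_contra hne
  have h1 := classInner_irr_of_ne hne
  simp only [Cfsg.classInner, oneChar_apply, h, map_one, mul_one, Finset.sum_const,
    Finset.card_univ, nsmul_eq_mul, mul_eq_zero, inv_eq_zero, Nat.cast_eq_zero,
    Nat.card_pos.ne', Fintype.card_ne_zero, false_or] at h1
  exact apply_one_ne_zero θ h1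

theorem classInner_one_self [Fintype G] :
    Cfsg.classInner (1 : G → ℂ) (1 : G → ℂ) ≠ 0 := by
  have h := classInner_self_irr (oneChar G)
  have e : (oneChar G : G → ℂ) = 1 := funext oneChar_apply
  rw [e] at h
  rw [h]
  exact one_ne_zero

/-- A subgroup's character of degree prime to `p` lies under one of the group of degree prime to
`p`, if the index is prime to `p`. -/
theorem exists_over [Fintype G] (H : Subgroup G) [Fintype H] {p : ℕ} (hp : p.Prime)
    (hidx : ¬ p ∣ H.index) (η : Cfsg.IrrCharacter H) (hη : ¬ p ∣ deg η) :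
    ∃ ψ : Cfsg.IrrCharacter G, ¬ p ∣ deg ψ ∧
      Cfsg.classInner ((ψ : G → ℂ) ∘ H.subtype) η ≠ 0 := by
  have hξ := Cfsg.Agent.Lib.Induced.Character.isCharacter_indFun H (isCharacter_irr η)
  obtain ⟨ψ, h1, h2⟩ := exists_constituent_not_dvd hξ (p := p) (n := H.index * deg η)
    (by rw [indFun_one, apply_one_eq_deg, Nat.cast_mul])
    (fun h => (hp.dvd_mul.1 h).elim hidx hη)
  refine ⟨ψ, h2, fun h => h1 ?_⟩
  rw [frobenius_reciprocity H _ (isClassFunction_irr ψ), ← classInner_conj_symm]
  change conj (Cfsg.classInner ((ψ : G → ℂ) ∘ H.subtype) η) = 0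
  rw [h, map_zero]

theorem result {G : Type*} [Group G] [Finite G] (p : ℕ) [Fact p.Prime] (P : Sylow p G) (N : Subgroup G) [N.Normal]
    (hN : N ⊓ Subgroup.centralizer ((P : Subgroup G) : Set G) = ⊥)
    (hmax : ∀ L : Subgroup G, L.Normal → L ⊓ Subgroup.centralizer ((P : Subgroup G) : Set G) = ⊥ → L ≤ N) :
    {g : G | ∀ χ : Cfsg.IrrCharacter G, ¬ p ∣ Cfsg.charDegree (χ : G → ℂ) → (χ : G → ℂ) g = (χ : G → ℂ) 1} =
      ((N ⊔ ⁅(P : Subgroup G), (P : Subgroup G)⁆).normalCore : Set G) := by
  classical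
  haveI := Fintype.ofFinite G
  haveI : ∀ H : Subgroup G, Fintype H := fun H => Fintype.ofFinite H
  have hp : p.Prime := Fact.out
  let S : Subgroup G := (P : Subgroup G)
  have hS : IsPGroup p S := P.isPGroup'
  have hmapS : ⁅S, S⁆ = (commutator S).map S.subtype := (Subgroup.map_subtype_commutator S).symm
  let K : Subgroup G :=
    ⨅ χ : {χ : Cfsg.IrrCharacter G // ¬ p ∣ deg χ}, charKer (isCharacter_irr χ.1)
  have hKset : {g : G | ∀ χ : Cfsg.IrrCharacter G, ¬ p ∣ Cfsg.charDegree (χ : G → ℂ) →
      (χ : G → ℂ) g = (χ : G → ℂ) 1} = (K : Set G) := by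
    ext g
    simp only [Set.mem_setOf_eq, SetLike.mem_coe, K, Subgroup.mem_iInf]
    exact ⟨fun h χ => h χ.1 χ.2, fun h χ hχ => h ⟨χ, hχ⟩⟩
  rw [hKset]
  haveI hKn : K.Normal := Subgroup.normal_iInf_normal fun χ => charKer_normal _
  have hkerOf : ∀ x ∈ K, ∀ ψ : Cfsg.IrrCharacter G, ¬ p ∣ deg ψ →
      (ψ : G → ℂ) x = (ψ : G → ℂ) 1 := fun x hx ψ hψ =>
    Subgroup.mem_iInf.1 hx ⟨ψ, hψ⟩
  congr 1
  apply le_antisymm
  · rw [Subgroup.normal_le_normalCore]
    -- K meets the Sylow subgroup in its derived subgroup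
    have hKP : K ⊓ S ≤ ⁅S, S⁆ := by
      rintro x ⟨hxK, hxS⟩
      rw [hmapS]
      refine ⟨⟨x, hxS⟩, ?_, rfl⟩
      rw [← Abelianization.ker_of]
      by_contra hne
      haveI : Finite (Abelianization S) := inferInstance
      obtain ⟨l, hl⟩ := CommGroup.exists_apply_ne_one_of_hasEnoughRootsOfUnity
        (Abelianization S) ℂ hne
      let η := Cfsg.Agent.Lib.Characters.Linear.linChar (l.comp (Abelianization.of (G := S)))
      have hη : deg η = 1 := by
        have h := apply_one_eq_deg η
        rw [Cfsg.Agent.Lib.Characters.Linear.linChar_apply, map_one, Units.val_one] at h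
        exact_mod_cast h.symm
      obtain ⟨ψ, hψ, hψη⟩ := exists_over S hp P.not_dvd_index η (by rw [hη]; exact hp.not_dvd_one)
      have h := constituent_ker (isCharacter_comp S.subtype (isCharacter_irr ψ)) η hψη
        (g := ⟨x, hxS⟩) (hkerOf x hxK ψ hψ)
      rw [apply_one_eq_deg, hη, Nat.cast_one,
        Cfsg.Agent.Lib.Characters.Linear.linChar_apply] at h
      exact hl (Units.ext h)
    have hnil : HasNormalPComplement p K :=
      Cfsg.Agent.Lib.Transfer.Tate.hasNormalPComplement_of_inf_le_frattini P K (hKP.trans (by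
        rw [hmapS]
        exact Subgroup.map_mono (Cfsg.Agent.Lib.PGroups.commutator_le_frattini hS)))
    let L : Subgroup G := (pResidual p K).map K.subtype
    haveI : (pResidual p K).Characteristic := Subgroup.characteristic_iff_map_eq.2
      fun φ => Cfsg.Agent.Lib.Transfer.PResidual.map_pResidual_equiv φ
    haveI hLn : L.Normal := ConjAct.normal_of_characteristic_of_normal
    have hLK : L ≤ K := Subgroup.map_subtype_le _
    have hLcard : ¬ p ∣ Nat.card L := by
      rw [Subgroup.card_map_of_injective K.subtype_injective]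
      exact Cfsg.Agent.Lib.Transfer.PResidual.hasNormalPComplement_iff_not_dvd.1 hnil
    have hsup : K ≤ L ⊔ (K ⊓ S) := by
      obtain ⟨Q, hQ⟩ := Cfsg.Agent.Lib.Transfer.Fusion.exists_sylow_map_eq_inf K P
      have h := congrArg (Subgroup.map K.subtype)
        (Cfsg.Agent.Lib.Transfer.PResidual.sup_sylow_eq_top Q)
      rw [Subgroup.map_sup, hQ, ← MonoidHom.range_eq_map, Subgroup.range_subtype] at h
      exact h.ge
    have hLC : L ⊓ Subgroup.centralizer (S : Set G) = ⊥ := by
      rw [Subgroup.eq_bot_iff_forall]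
      rintro c ⟨hcL, hcC⟩
      by_contra hc1
      let H : Subgroup G := L ⊔ S
      let L' : Subgroup H := L.subgroupOf H
      let S' : Subgroup H := S.subgroupOf H
      haveI : L'.Normal := hLn.subgroupOf H
      haveI : Fintype L' := Fintype.ofFinite _
      have hS' : IsPGroup p S' := hS.comap_subtype
      let c' : L' := ⟨⟨c, (le_sup_left : L ≤ H) hcL⟩, hcL⟩
      obtain ⟨θ, hfix, hdeg, hne⟩ := exists_fixed_ne_one L' S' hS' (c := c')
        (fun h => hc1 (congrArg (fun z : L' => ((z : H) : G)) h))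
        (Subgroup.mem_centralizer_iff.2 fun u hu =>
          Subtype.ext (Subgroup.mem_centralizer_iff.1 hcC (u : G) hu))
      have hinv : ∀ g : H, conjIrr L' θ g = θ := by
        intro g
        have hg : (g : G) ∈ ((L ⊔ S : Subgroup G) : Set G) := g.2
        rw [Subgroup.normal_mul] at hg
        obtain ⟨l, hl, s, hs, hls⟩ := Set.mem_mul.1 hg
        have hge : g = (⟨l, (le_sup_left : L ≤ H) hl⟩ : H) * ⟨s, (le_sup_right : S ≤ H) hs⟩ :=
          Subtype.ext hls.symm
        rw [hge, ← conjIrr_conjIrr]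
        rw [conjIrr_mem L' θ (g := (⟨l, (le_sup_left : L ≤ H) hl⟩ : H)) hl]
        exact hfix _ hs
      obtain ⟨k, hk⟩ : ∃ k, L'.index = p ^ k := by
        have h1 : L'.index = L.relIndex S := Subgroup.relIndex_sup_left (K := L) (H := S)
        obtain ⟨m, hm⟩ := IsPGroup.iff_card.1 hS
        have h2 : L.relIndex S ∣ p ^ m := hm ▸ (Subgroup.index_dvd_card (L.subgroupOf S))
        obtain ⟨k, -, hk⟩ := (Nat.dvd_prime_pow hp).1 h2
        exact ⟨k, h1.trans hk⟩
      have hcard' : ¬ p ∣ Nat.card L' := by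
        rw [Nat.card_congr (Subgroup.subgroupOfEquivOfLe (le_sup_left : L ≤ H)).toEquiv]
        exact hLcard
      obtain ⟨η, hη⟩ := exists_extension L' hk hcard' θ hinv hdeg
      have hηdeg : deg η = deg θ := by
        have h := hη 1
        rw [Subgroup.coe_one, apply_one_eq_deg, apply_one_eq_deg] at h
        exact_mod_cast h
      obtain ⟨ψ, hψ, hψη⟩ := exists_over H hp
        (fun h => P.not_dvd_index (h.trans (Subgroup.index_dvd_of_le (le_sup_right : S ≤ H))))
        η (hηdeg ▸ hdeg)
      have hηθ : Cfsg.classInner ((η : H → ℂ) ∘ L'.subtype) θ ≠ 0 := by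
        rw [show ((η : H → ℂ) ∘ L'.subtype) = (θ : L' → ℂ) from funext hη, classInner_self_irr]
        exact one_ne_zero
      have h3 := inner_ne_zero_comp L'.subtype (isCharacter_comp H.subtype (isCharacter_irr ψ)) η
        (isCharacter_irr θ) hψη hηθ
      apply hne
      refine eq_oneChar θ fun x => constituent_ker
        (isCharacter_comp L'.subtype (isCharacter_comp H.subtype (isCharacter_irr ψ))) θ h3 ?_
      exact hkerOf _ (hLK x.2) ψ hψ
    exact hsup.trans (sup_le ((hmax L hLn hLC).trans le_sup_left) (hKP.trans le_sup_right))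
  · intro x hx
    simp only [K, Subgroup.mem_iInf]
    rintro ⟨χ, hχ⟩
    rw [mem_charKer]
    change (χ : G → ℂ) x = (χ : G → ℂ) 1
    let X : Subgroup G := (N ⊔ ⁅S, S⁆).normalCore
    haveI : X.Normal := Subgroup.normalCore_normal _
    have hxX : x ∈ X := hx
    have hNX : N ≤ X := Subgroup.normal_le_normalCore.2 le_sup_left
    -- N is in the kernel
    have hNker : ∀ n ∈ N, (χ : G → ℂ) n = (χ : G → ℂ) 1 := by
      obtain ⟨θ, hfix, hdeg, hcon⟩ := exists_fixed_constituent N S hS χ hχ
      have hθ := fixed_eq_one N S hS hN θ hfix hdeg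
      subst hθ
      obtain ⟨e, -, -, he⟩ := restrict_eq_mul N χ _ (fun g => Subtype.ext (funext fun n => rfl)) hcon
      intro n hn
      have h1 := he ⟨n, hn⟩
      have h2 := he 1
      rw [oneChar_apply] at h1 h2
      simpa using h1.trans h2.symm
    let D : Subgroup G := X ⊓ ⁅S, S⁆
    have hDS : D ≤ S := inf_le_right.trans (Subgroup.commutator_le_self S)
    have hdec : ∀ z ∈ X, ∃ n ∈ N, ∃ d ∈ D, n * d = z := by
      intro z hz
      have hz' : z ∈ ((N ⊔ ⁅S, S⁆ : Subgroup G) : Set G) := Subgroup.normalCore_le _ hz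
      rw [Subgroup.normal_mul] at hz'
      obtain ⟨n, hn, d, hd, hnd⟩ := Set.mem_mul.1 hz'
      refine ⟨n, hn, d, ⟨?_, hd⟩, hnd⟩
      have : d = n⁻¹ * z := by rw [← hnd, inv_mul_cancel_left]
      rw [this]
      exact X.mul_mem (X.inv_mem (hNX hn)) hz
    -- the trivial character of D occurs
    have h1D : Cfsg.classInner ((χ : G → ℂ) ∘ D.subtype) (1 : D → ℂ) ≠ 0 := by
      obtain ⟨ν, hν1, hν2⟩ := exists_constituent_not_dvd (p := p)
        (isCharacter_comp S.subtype (isCharacter_irr χ)) (n := deg χ)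
        (by simp [apply_one_eq_deg]) hχ
      obtain ⟨d, hd0, hdvd, hdν⟩ := Cfsg.Agent.Lib.Characters.Degree.exists_degree_dvd ν
      have hd1 : (ν : S → ℂ) 1 = 1 := by
        obtain ⟨m, hm⟩ := IsPGroup.iff_card.1 hS
        rw [hm] at hdvd
        obtain ⟨i, -, rfl⟩ := (Nat.dvd_prime_pow hp).1 hdvd
        have hde : deg ν = p ^ i := by
          have := apply_one_eq_deg ν
          rw [hdν] at this
          exact_mod_cast this.symm
        rcases i with _ | i
        · simp [hdν]
        · exact absurd (hde ▸ dvd_pow_self p i.succ_ne_zero) hν2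
      let l := Cfsg.Agent.Lib.Characters.Linear.degOneHom (isCharacter_irr ν) hd1
      have hker : ∀ y : D, (ν : S → ℂ) (Subgroup.inclusion hDS y) = 1 := by
        intro y
        have hy : Subgroup.inclusion hDS y ∈ commutator S := by
          rw [← Subgroup.mem_map_iff_mem S.subtype_injective, ← hmapS]
          exact y.2.2
        have := Abelianization.commutator_subset_ker l hy
        rw [MonoidHom.mem_ker] at this
        rw [← Cfsg.Agent.Lib.Characters.Linear.degOneHom_apply (isCharacter_irr ν) hd1]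
        rw [show Cfsg.Agent.Lib.Characters.Linear.degOneHom (isCharacter_irr ν) hd1 = l from rfl,
          this, Units.val_one]
      have h2 : Cfsg.classInner ((ν : S → ℂ) ∘ Subgroup.inclusion hDS) (1 : D → ℂ) ≠ 0 := by
        rw [show ((ν : S → ℂ) ∘ Subgroup.inclusion hDS) = (1 : D → ℂ) from funext hker]
        exact classInner_one_self
      exact inner_ne_zero_comp (Subgroup.inclusion hDS)
        (isCharacter_comp S.subtype (isCharacter_irr χ)) ν isCharacter_one hν1 h2
    -- a constituent on X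
    let f : D →* X := Subgroup.inclusion inf_le_left
    obtain ⟨φ, hφ1, hφ2⟩ : ∃ φ : Cfsg.IrrCharacter X,
        Cfsg.classInner ((χ : G → ℂ) ∘ X.subtype) φ ≠ 0 ∧
        Cfsg.classInner ((φ : X → ℂ) ∘ f) (1 : D → ℂ) ≠ 0 := by
      haveI := Fintype.ofFinite (Cfsg.IrrCharacter X)
      by_contra hcon
      push Not at hcon
      apply h1D
      have hd := character_eq_finsum (isCharacter_comp X.subtype (isCharacter_irr χ))
      rw [finsum_eq_sum_of_fintype] at hd
      have e : (χ : G → ℂ) ∘ D.subtype = ∑ η : Cfsg.IrrCharacter X,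
          Cfsg.classInner ((χ : G → ℂ) ∘ X.subtype) η • ((η : X → ℂ) ∘ f) := by
        funext k
        have := congrFun hd (f k)
        simpa [Finset.sum_apply, f] using this
      rw [e, classInner_sum_left]
      refine Finset.sum_eq_zero fun η _ => ?_
      rw [classInner_smul_left]
      by_cases h0 : Cfsg.classInner ((χ : G → ℂ) ∘ X.subtype) η = 0
      · rw [h0, zero_mul]
      · rw [hcon η h0, mul_zero]
    let N' : Subgroup X := N.subgroupOf X
    have hφN : ∀ n ∈ N', (φ : X → ℂ) n = (φ : X → ℂ) 1 := fun n hn =>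
      constituent_ker (isCharacter_comp X.subtype (isCharacter_irr χ)) φ hφ1
        (hNker _ (Subgroup.mem_subgroupOf.1 hn))
    haveI : N'.Normal := (inferInstance : N.Normal).subgroupOf X
    obtain ⟨φq, -, hφq, hirr⟩ := exists_descend N' (isCharacter_irr φ) hφN
    have hsurj : Function.Surjective ((QuotientGroup.mk' N').comp f) := by
      intro q
      obtain ⟨z, rfl⟩ := QuotientGroup.mk'_surjective N' q
      obtain ⟨n, hn, d, hd, hnd⟩ := hdec z z.2
      refine ⟨⟨d, hd⟩, ?_⟩
      apply QuotientGroup.eq.2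
      have : d⁻¹ * (z : G) = d⁻¹ * n * d := by rw [← hnd]; group
      change d⁻¹ * (z : G) ∈ N
      rw [this]
      simpa using (inferInstance : N.Normal).conj_mem n hn d⁻¹
    have hφD : Cfsg.IsIrrCharacter D ((φ : X → ℂ) ∘ f) := by
      rw [← hφq]
      exact isIrrCharacter_comp ((QuotientGroup.mk' N').comp f) hsurj (hirr φ.2)
    have hφf : (⟨_, hφD⟩ : Cfsg.IrrCharacter D) = oneChar D := by
      by_contra hne
      apply hφ2
      have := classInner_irr_of_ne hne
      rwa [show ((oneChar D : Cfsg.IrrCharacter D) : D → ℂ) = 1 from funext oneChar_apply] at this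
    have hφone : φ = oneChar X := by
      refine eq_oneChar φ fun z => ?_
      obtain ⟨n, hn, d, hd, hnd⟩ := hdec z z.2
      have hz : z = (⟨n, hNX hn⟩ : X) * f ⟨d, hd⟩ := Subtype.ext hnd.symm
      have h1 := congrFun (congrArg Subtype.val hφf)
      rw [hz, (apply_mul_of_apply_eq_one (isCharacter_irr φ) (hφN ⟨n, hNX hn⟩ hn) _).1]
      have h2 := h1 ⟨d, hd⟩
      have h3 := h1 1
      simp only [Function.comp_apply, oneChar_apply, map_one] at h2 h3
      rw [h2, h3]
    subst hφone
    obtain ⟨e, -, -, he⟩ := restrict_eq_mul X χ _ (fun g => Subtype.ext (funext fun n => rfl)) hφ1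
    have h2 := he ⟨x, hxX⟩
    have h3 := he 1
    rw [oneChar_apply] at h2 h3
    simpa using h2.trans h3.symm

end Cfsg.Agent.S4591
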