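import Cfsg.Statements.S4604
import Cfsg.Agent.Lib.BrauerPairs.Separate

set_option autoImplicit false
open Cfsg

namespace Cfsg.Agent.S4604

open Cfsg.Agent.Lib.BrauerPairs.Separate

variable {G : Type*} [Group G] [Finite G] {p : ℕ} [hp : Fact p.Prime]

theorem pow_eq {x x' : G}
    (hx : (∃ k : ℕ, orderOf (x * x'⁻¹) = p ^ k) ∧ Commute (x * x'⁻¹) x' ∧ ¬ p ∣ orderOf x') :
    x ^ p ^ (Nat.card G).factorization p = x' ^ p ^ (Nat.card G).factorization p := by
  obtain ⟨⟨k, hk⟩, hc, -⟩ := hx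
  have hle : p ^ k ∣ p ^ (Nat.card G).factorization p :=
    pow_dvd_pow p ((hp.out.pow_dvd_iff_le_factorization Nat.card_pos.ne').mp
      (hk ▸ orderOf_dvd_natCard _))
  have h1 := hc.mul_pow (p ^ (Nat.card G).factorization p)
  rw [← hk] at hle
  rwa [inv_mul_cancel_right, orderOf_dvd_iff_pow_eq_one.mp hle, one_mul] at h1

theorem not_dvd_pow {x : G} (n : ℕ) (h : ¬ p ∣ orderOf x) : ¬ p ∣ orderOf (x ^ n) :=
  fun h' => h (h'.trans (orderOf_pow_dvd n))

theorem isConj_of_pow {x y : G} {n : ℕ} (hx : ¬ p ∣ orderOf x) (hy : ¬ p ∣ orderOf y)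
    (h : IsConj (x ^ p ^ n) (y ^ p ^ n)) : IsConj x y := by
  have hcop : (p ^ n).Coprime (orderOf x * orderOf y) :=
    ((hp.out.coprime_iff_not_dvd.mpr hx).pow_left n).mul_right
      ((hp.out.coprime_iff_not_dvd.mpr hy).pow_left n)
  have hL : 0 < (orderOf x * orderOf y).totient :=
    Nat.totient_pos.mpr (Nat.mul_pos (orderOf_pos x) (orderOf_pos y))
  have hk : p ^ n * (p ^ n) ^ ((orderOf x * orderOf y).totient - 1) ≡ 1
      [MOD orderOf x * orderOf y] := by
    rw [← pow_succ', Nat.sub_add_cancel hL]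
    exact Nat.ModEq.pow_totient hcop
  let k := (p ^ n) ^ ((orderOf x * orderOf y).totient - 1)
  have e : ∀ z : G, orderOf z ∣ orderOf x * orderOf y → (z ^ p ^ n) ^ k = z := fun z hz => by
    conv_rhs => rw [← pow_one z]
    rw [← pow_mul, pow_eq_pow_iff_modEq]
    exact hk.of_dvd hz
  have h2 := h.pow k
  rwa [e x (dvd_mul_right _ _), e y (dvd_mul_left _ _)] at h2


/-- Let G be a finite group, p a prime and p^a the p-part of the order of G. Let x, y ∈ G and let x′, y′ be their p-regular parts: x′ has order prime to p, commutes with x·x′⁻¹, and x·x′⁻¹ has p-power order (likewise for y). Then x′ and y′ are conjugate in G if and only if for every irreducible character χ of G the algebraic integer χ(x)^(p^a) − χ(y)^(p^a) is p times an algebraic integer. -/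
theorem result {G : Type*} [Group G] [Finite G] (p : ℕ) [Fact p.Prime] (x y x' y' : G)
    (hx : (∃ k : ℕ, orderOf (x * x'⁻¹) = p ^ k) ∧ Commute (x * x'⁻¹) x' ∧ ¬ p ∣ orderOf x')
    (hy : (∃ k : ℕ, orderOf (y * y'⁻¹) = p ^ k) ∧ Commute (y * y'⁻¹) y' ∧ ¬ p ∣ orderOf y') :
    IsConj x' y' ↔ ∀ χ : Cfsg.IrrCharacter G, ∃ γ : Cfsg.AlgInt,
      (χ : G → ℂ) x ^ (p ^ (Nat.card G).factorization p) - (χ : G → ℂ) y ^ (p ^ (Nat.card G).factorization p) = (p : ℂ) * (γ : ℂ) := by
  classical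
  have hxe := pow_eq hx
  have hye := pow_eq hy
  set N := (Nat.card G).factorization p
  constructor
  · intro hc χ
    have h1 := pow_sub_apply_pow_mem (p := p) χ x N
    have h2 := pow_sub_apply_pow_mem (p := p) χ y N
    rw [hxe] at h1
    rw [hye, ← Cfsg.Agent.Lib.Characters.Basic.classFunction_apply_of_isConj
      (Cfsg.Agent.Lib.Characters.Basic.isClassFunction_irr χ) (hc.pow (p ^ N))] at h2
    have h3 := sub_mem h1 h2
    rw [sub_sub_sub_cancel_right] at h3
    exact h3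
  · intro h
    refine isConj_of_pow (n := N) hx.2.2 hy.2.2
      (isConj_of_congr (not_dvd_pow _ hx.2.2) (not_dvd_pow _ hy.2.2) fun χ => ?_)
    have h1 := pow_sub_apply_pow_mem (p := p) χ x N
    have h2 := pow_sub_apply_pow_mem (p := p) χ y N
    rw [hxe] at h1
    rw [hye] at h2
    have h3 := sub_mem (show _ ∈ pMul p from h χ) (sub_mem h1 h2)
    rwa [show (χ : G → ℂ) x ^ p ^ N - (χ : G → ℂ) y ^ p ^ N -
      (((χ : G → ℂ) x ^ p ^ N - (χ : G → ℂ) (x' ^ p ^ N)) -
        ((χ : G → ℂ) y ^ p ^ N - (χ : G → ℂ) (y' ^ p ^ N))) =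
      (χ : G → ℂ) (x' ^ p ^ N) - (χ : G → ℂ) (y' ^ p ^ N) by ring] at h3

end Cfsg.Agent.S4604
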