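import Cfsg.Statements.S4606
import Cfsg.Agent.Lib.OneSection.Abelian
-- import your own Cfsg.Agent.* helpers here

set_option autoImplicit false
open Cfsg
open Cfsg.Agent.Lib.BrauerPairs.Bridge Cfsg.Agent.Lib.BrauerPairs.Principal Cfsg.Agent.Lib.OneSection
  Cfsg.Agent.Lib.BrauerPairs.Center Cfsg.Agent.Lib.BrauerPairs.Pairs

namespace Cfsg.Agent.S4606

/-- Let G be a finite group, p a prime, M a maximal ideal of the algebraic integers containing p, and B a p-block of G with defect group D. Suppose the number of irreducible characters in B exceeds the p-regular rank of B (the number of irreducible Brauer characters in B) by exactly one. If B is the principal block, or if G is p-solvable, then D is elementary abelian. -/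
theorem result {G : Type*} [Group G] [Finite G] (p : ℕ) [Fact p.Prime] (M : Ideal Cfsg.AlgInt) (hM : Cfsg.IsPModular p M) (B : Set (Cfsg.IrrCharacter G)) (hB : Cfsg.IsPBlock M B) (D : Subgroup G) (hD : Cfsg.IsDefectGroup p M B D)
    (hk : Nat.card B = Cfsg.blockRank p B + 1) (hB0 : B = Cfsg.principalBlock M G ∨ Cfsg.IsPSolvable p G) :
    Cfsg.IsElementaryAbelian p D := by
  haveI : M.IsMaximal := hM.2.1
  letI := Ideal.Quotient.field M
  haveI := charP_res hM
  have hk' : Nat.card (toSet (blk hB)) = Cfsg.blockRank p (toSet (blk hB)) + 1 := by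
    rw [toSet_blk hB]; exact hk
  have hDdef := (isDefectGroup_iff hB D).mp hD
  have hconj : ∀ x ∈ D, ∀ y ∈ D, x ≠ 1 → y ≠ 1 → IsConj x y := fun x hx y hy hx1 hy1 =>
    isConj_of_mem hM hk' hDdef hx hy hx1 hy1
  have hDp : IsPGroup p D := hDdef.isPGroup
  have hexp : ∀ a ∈ D, a ^ p = 1 := fun a ha => pow_eq_one_of_isConj hDp hconj ha
  suffices hc : ∀ x ∈ D, ∀ y ∈ D, x * y = y * x from
    ⟨⟨⟨fun a b => Subtype.ext (hc a a.2 b b.2)⟩⟩, hexp⟩
  rcases hB0 with rfl | hsolv
  swap
  · exact commute_of_pSolvable hsolv hDp hconj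
  rw [blk_principalBlock] at hDdef hk'
  obtain ⟨S, rfl⟩ := (isDef_princ_iff D).mp hDdef
  refine commute_of_centralizers S hconj fun x hx hx1 g hg hgx R hR hRx hgR r hr => ?_
  have hxp : IsPGroup p (Subgroup.zpowers x) := S.2.to_le (Subgroup.zpowers_le.mpr hx)
  have h1 := (class_and_rank hM hk' hx1 hx1 rfl rfl (pairOf_princ hxp) (pairOf_princ hxp)).2
  set C := Subgroup.centralizer ((Subgroup.zpowers x : Subgroup G) : Set G) with hC
  have hB0C : toSet (princ (Res M) C) = Cfsg.principalBlock M C := by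
    rw [← blk_principalBlock, toSet_blk]
  rw [hB0C] at h1
  have hmem : ∀ y : G, y * x = x * y → y ∈ C := fun y hy =>
    (hC.trans (Cfsg.Agent.Lib.BrauerMap.PrincipalSection.centralizer_zpowers_eq x)).symm ▸
      Subgroup.mem_centralizer_singleton_iff.mpr hy
  have := commutes_of_rankOne (G := C) hM h1 (g := ⟨g, hmem g hgx⟩)
    (by rwa [Subgroup.orderOf_mk]) (R := R.subgroupOf C)
    (hR.comap_of_injective _ C.subtype_injective)
    (fun r' hr' => hgR _ hr') (r := ⟨r, hmem r (hRx r hr)⟩) hr
  exact congrArg Subtype.val this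

end Cfsg.Agent.S4606
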