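import Cfsg.Statements.S4649
import Cfsg.Agent.Lib.CyclicBlocks.Theorem
import Cfsg.Agent.Lib.BrauerPairs.Abelian

set_option autoImplicit false
open Cfsg

namespace Cfsg.Agent.S4649

open Cfsg.Agent.Lib.BrauerPairs Cfsg.Agent.Lib.BrauerPairs.Center Cfsg.Agent.Lib.BrauerPairs.Bridge
open Cfsg.Agent.Lib.CyclicBlocks Cfsg.Agent.Lib.CyclicBlocks.Main

attribute [local instance] Ideal.Quotient.field

/-- A block with cyclic defect group, of a finite group relative to a maximal ideal M of the algebraic integers containing the prime p, is nilpotent if and only if its p-regular rank is 1 (it has a unique irreducible Brauer character). -/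
theorem result {G : Type*} [Group G] [Finite G] (p : ℕ) [Fact p.Prime] (M : Ideal Cfsg.AlgInt) (hM : Cfsg.IsPModular p M) (B : Set (Cfsg.IrrCharacter G)) (hB : Cfsg.IsPBlock M B) (P : Subgroup G) (hPD : Cfsg.IsDefectGroup p M B P) (hcyc : IsCyclic P) : Cfsg.IsNilpotentBlock p M B ↔ Cfsg.blockRank p B = 1 := by
  haveI : M.IsMaximal := hM.2.1
  haveI : CharP (Res M) p := charP_res hM
  classical
  have hD := (isDefectGroup_iff hB P).mp hPD
  obtain ⟨ω, hpair⟩ := Maximal.exists_pairOf_isDef hD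
  have htop := Maximal.top_of_isDef (a := (⟨P, ω⟩ : Pairs.Idx (Res M) G)) hpair hD
  have hab : ∀ x ∈ P, ∀ y ∈ P, x * y = y * x := fun x hx y hy => by
    haveI := hcyc
    letI : CommGroup P := IsCyclic.commGroup
    exact congrArg Subtype.val (mul_comm (⟨x, hx⟩ : P) ⟨y, hy⟩)
  have hnilp : (∀ x ∈ Local.stab (⟨P, ω⟩ : Pairs.Idx (Res M) G),
      x ∈ Subgroup.centralizer (P : Set G)) →
      Cfsg.IsNilpotentBlock p M B ∧ Cfsg.blockRank p B = 1 := fun hst => by
    refine ⟨(Fusion.isNilpotentBlock_iff hB).mpr (Abelian.nilp_of_stab_le htop hpair hab hst), ?_⟩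
    have h1 := (RankAbelian.good hM P ω (blk hB) htop hpair hab hst).1
    rwa [toSet_blk] at h1
  by_cases hP1 : P = ⊥
  · have hst : ∀ x ∈ Local.stab (⟨P, ω⟩ : Pairs.Idx (Res M) G),
        x ∈ Subgroup.centralizer (P : Set G) := fun x _ u hu => by
      rw [SetLike.mem_coe, hP1, Subgroup.mem_bot] at hu
      rw [hu, one_mul, mul_one]
    exact iff_of_true (hnilp hst).1 (hnilp hst).2
  obtain ⟨z, hz⟩ := Cfsg.Agent.Lib.CyclicBlocks.Local.exists_cyc htop hpair hcyc hP1
  obtain ⟨X, Y, δ, δ₀, hs⟩ := Main.exists_cyclicStruct hM hz (Rank.le_blockRank hM hz)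
  have hrank : Cfsg.blockRank p B = Cfsg.Agent.Lib.CyclicBlocks.Local.eIdx hz := by
    have := hs.rank
    rwa [toSet_blk] at this
  obtain ⟨hfree, hdvd, h, hh, hgen, hiff⟩ := hz.inertial hM
  constructor
  · intro hnil
    rw [hrank]
    have hN := (Fusion.isNilpotentBlock_iff hB).mp hnil
    obtain ⟨m, q, hq, hord⟩ :=
      Nat.exists_eq_pow_mul_and_not_dvd (orderOf_pos h).ne' p (Fact.out : p.Prime).ne_one
    have h2 : h ^ p ^ m ∈ Subgroup.centralizer (P : Set G) := by
      refine hN _ hpair _ (pow_mem hh _) ?_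
      rw [orderOf_pow' h (pow_ne_zero m (Fact.out : p.Prime).ne_zero), hord,
        Nat.gcd_mul_right_left, Nat.mul_div_cancel_left _ (pow_pos (Fact.out : p.Prime).pos m)]
      exact hq
    obtain ⟨j, -, hj⟩ := (Nat.dvd_prime_pow Fact.out).mp ((hiff _).mp h2)
    rcases Nat.eq_zero_or_pos j with h0 | h0
    · exact hj.trans (by rw [h0, pow_zero])
    · refine absurd ?_ (hz.not_dvd_eIdx hM)
      show p ∣ (Subgroup.centralizer (P : Set G)).relIndex _
      rw [hj]
      exact dvd_pow_self p h0.ne'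
  · intro h1
    rw [hrank] at h1
    refine (hnilp fun x hx => ?_).1
    obtain ⟨i, hi, hi'⟩ := hgen x hx
    have h0 : i = 0 := by
      have : i < 1 := h1 ▸ hi
      omega
    simpa [h0] using hi'

end Cfsg.Agent.S4649
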