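import Cfsg.Statements.S4608
import Cfsg.Agent.S4648
import Cfsg.Agent.S4649
import Cfsg.Agent.Lib.LocalFive79.Corner
import Cfsg.Agent.Lib.LocalFive79.Eight

set_option autoImplicit false
open Cfsg

namespace Cfsg.Agent.S4608

open Cfsg.Agent.Lib Cfsg.Agent.Lib.BrauerPairs Cfsg.Agent.Lib.BrauerPairs.Center
open Cfsg.Agent.Lib.BrauerPairs.Trunc Cfsg.Agent.Lib.BrauerPairs.Conj
open Cfsg.Agent.Lib.BrauerPairs.Pairs Cfsg.Agent.Lib.BrauerPairs.Transport
open Cfsg.Agent.Lib.BrauerPairs.Maximal Cfsg.Agent.Lib.BrauerPairs.Bridge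
open Cfsg.Agent.Lib.BrauerPairs.Local Cfsg.Agent.Lib.BrauerPairs.Fusion
open Cfsg.Agent.Lib.BrauerPairs.BlockAlgebra Cfsg.Agent.Lib.BrauerPairs.CornerAlgebra
open Cfsg.Agent.Lib.Blocks.Contrib
open MonoidAlgebra Module

attribute [local instance] Ideal.Quotient.field

universe u

variable {G : Type u} [Group G] [Fintype G] {M : Ideal Cfsg.AlgInt} [M.IsMaximal]

open scoped Classical in
/-- A block with regular rank one and five characters. -/
theorem exists_dim {p : ℕ} [Fact p.Prime] (hM : Cfsg.IsPModular p M)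
    {B : Set (Cfsg.IrrCharacter G)} (hB : Cfsg.IsPBlock M B)
    (hl : Cfsg.blockRank p B = 1) (h5 : Nat.card B ≤ 5) :
    ∃ n m : ℕ, 0 < n ∧ 0 < m ∧ m ≤ 14 ∧ ∑ χ ∈ (Set.toFinite B).toFinset,
      Cfsg.charDegree (χ : G → ℂ) ^ 2 = m * n ^ 2 ∧
      p ^ (Nat.card G).factorization p ∣ n * m := by
  classical
  haveI : CharP (Bridge.Res M) p := Bridge.charP_res hM
  set e := eBar hB with he
  have hne : e ≠ 0 := fun h => Blocks.blockIdemBar_ne_zero hB (Subtype.ext h)
  obtain ⟨n, hn, π, hπ, hπe⟩ :=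
    SimpleRep.exists_rep (k := Bridge.Res M) (eBar_mul_self hB) (eBar_comm hB) hne
  obtain ⟨N, hN⟩ := SimpleRep.exists_prod_eq_zero (k := Bridge.Res M) (eBar_mul_self hB)
    (eBar_comm hB) (S := (kerPart π e : Set (MonoidAlgebra (Bridge.Res M) G)))
    (fun x hx => (mem_kerPart.mp hx).1) (fun m ρ hρ hρe x hx => by
      rcases Nat.eq_zero_or_pos m with rfl | hm
      · exact Subsingleton.elim _ _
      obtain ⟨y, hy⟩ := hπ (Matrix.single ⟨0, hn⟩ ⟨0, hn⟩ 1)
      refine SimpleRep.eq_zero_of_trace fun Y => ?_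
      obtain ⟨a, rfl⟩ := hρ Y
      rw [← map_mul]
      have h := trace_mul_trace hM hB hl hn hm π ρ hπe hρe y (a * x)
      rw [hy, Matrix.trace_single_eq_same, one_mul, map_mul π, (mem_kerPart.mp hx).2, mul_zero,
        Matrix.trace_zero, zero_mul] at h
      exact h)
  rw [Submodule.span_eq] at hN
  obtain ⟨U⟩ := exists_units (eBar_mul_self hB) (eBar_comm hB) hπ hπe hN ⟨0, hn⟩
  have h1 := finrank_leftFix_eq (eBar_mul_self hB) (eBar_comm hB) hπe hN U
  have h2 := LocalFive79.Corner.finrank_corner_le (eBar_mul_self hB) (eBar_comm hB) hπe hN U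
    S4648.lamOne S4648.lamOne_comm S4648.eq_zero_of_lamOne (by rw [finrank_traceForms]; exact h5)
  have h3 := CornerSmall.finrank_rightFix_eq (eBar_mul_self hB) (eBar_comm hB) hπe hN U
  set m := finrank (Bridge.Res M) (corner (Bridge.Res M) U.f) with hm
  have hm0 : 0 < m := by
    refine Nat.pos_of_ne_zero fun h0 => ?_
    rw [hm, Submodule.finrank_eq_zero] at h0
    have hf : U.f ∈ (⊥ : Submodule (Bridge.Res M) (MonoidAlgebra (Bridge.Res M) G)) :=
      h0 ▸ mem_corner.mpr ⟨U.f_idem, U.f_idem⟩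
    have h4 := congrArg π ((Submodule.mem_bot _).mp hf)
    rw [U.pi_f, map_zero] at h4
    simpa using congrFun (congrFun h4 ⟨0, hn⟩) ⟨0, hn⟩
  refine ⟨n, m, hn, hm0, h2, ?_, h3 ▸ S4648.pow_dvd_finrank_rightFix hM U.f_idem⟩
  have h4 := finrank_eA hB
  rw [h1] at h4
  have h6 : ((∑ χ ∈ (Set.toFinite B).toFinset, Cfsg.charDegree (χ : G → ℂ) ^ 2 : ℕ) : ℂ) =
      ((n * n * m : ℕ) : ℂ) := by
    rw [h4]
    push_cast
    exact Finset.sum_congr rfl fun χ _ => by rw [BlocksChars5.Basic.apply_one]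
  rw [Nat.cast_inj] at h6
  rw [h6]
  ring

open scoped Classical in
/-- The defect. -/
theorem card_defect {p : ℕ} [Fact p.Prime] (hM : Cfsg.IsPModular p M)
    {B : Set (Cfsg.IrrCharacter G)} (hB : Cfsg.IsPBlock M B)
    (hl : Cfsg.blockRank p B = 1) (hk : Nat.card B = 5) :
    p ^ Cfsg.blockDefect p B = 5 ∨ p ^ Cfsg.blockDefect p B = 8 ∨
      (p ^ Cfsg.blockDefect p B).Prime := by
  classical
  have hp : p.Prime := Fact.out
  haveI : Nonempty B := (Blocks.isPBlock_nonempty hB).to_subtype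
  obtain ⟨n, m, hn, hm, hm14, hsum, hdvd⟩ := exists_dim hM hB hl hk.le
  obtain ⟨g, -, d, hg, hd, -, hd2⟩ := RankOne.exists_phi hM hB hl
  set q := p ^ Cfsg.blockDefect p B with hq
  have hsum' : g ^ 2 * q = m * n ^ 2 := by
    rw [← hd2, ← hsum, Finset.mul_sum]
    refine Finset.sum_congr rfl fun χ hχ => ?_
    rw [hd χ (mem_bset.mp hχ), mul_pow]
  have hdpos : ∀ χ ∈ bset B, 1 ≤ d χ := fun χ hχ => Nat.pos_of_ne_zero fun h => by
    have h1 := BlocksChars5.Basic.degree_pos χ
    rw [hd χ (mem_bset.mp hχ), h, mul_zero] at h1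
    exact lt_irrefl 0 h1
  obtain ⟨χ₀, hχ₀, h₀⟩ := exists_height_zero (p := p) hB
  have hvg : g.factorization p ≤ minVdeg p B := by
    rw [← h₀]
    refine (Nat.factorization_le_iff_dvd hg.ne' (BlocksChars5.Basic.degree_pos χ₀).ne').mpr
      (Dvd.intro _ (hd χ₀ hχ₀).symm) p
  have ha := minVdeg_add_blockDefect (p := p) hB
  have hv := congrArg (fun t : ℕ => t.factorization p) hsum'
  rw [Nat.factorization_mul (pow_ne_zero _ hg.ne') (pow_ne_zero _ hp.ne_zero),
    Nat.factorization_mul hm.ne' (pow_ne_zero _ hn.ne'), Nat.factorization_pow,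
    Nat.factorization_pow, Nat.factorization_pow, Finsupp.add_apply, Finsupp.add_apply,
    Finsupp.smul_apply, Finsupp.smul_apply, Finsupp.smul_apply, hp.factorization_self] at hv
  simp only [smul_eq_mul, mul_one] at hv
  have hv2 := (hp.pow_dvd_iff_le_factorization (mul_ne_zero hn.ne' hm.ne')).mp hdvd
  rw [Nat.factorization_mul hn.ne' hm.ne', Finsupp.add_apply] at hv2
  have hle : q ≤ 14 := (Nat.le_of_dvd hm
    ((hp.pow_dvd_iff_le_factorization hm.ne').mpr (by omega))).trans hm14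
  have h5 : (bset B).card = 5 := by rw [card_bset, hk]
  have hq5 : 5 ≤ q := by
    rw [← hd2, ← h5, Finset.card_eq_sum_ones]
    exact Finset.sum_le_sum fun χ hχ => Nat.one_le_pow _ _ (hdpos χ hχ)
  -- five squares
  have hmod : q ≤ 12 → q % 3 = 2 := by
    intro h12
    have hd3 : ∀ χ ∈ bset B, d χ ^ 2 = 1 ∨ d χ ^ 2 = 4 := by
      intro χ hχ
      have h1 : d χ ^ 2 + ∑ ψ ∈ (bset B).erase χ, d ψ ^ 2 = q :=
        (Finset.add_sum_erase (bset B) (fun ψ => d ψ ^ 2) hχ).trans hd2
      have h2 : ∑ _ψ ∈ (bset B).erase χ, 1 ≤ ∑ ψ ∈ (bset B).erase χ, d ψ ^ 2 :=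
        Finset.sum_le_sum fun ψ hψ =>
          Nat.one_le_pow _ _ (hdpos ψ (Finset.mem_of_mem_erase hψ))
      rw [Finset.sum_const, Finset.card_erase_of_mem hχ, h5, smul_eq_mul, mul_one] at h2
      have h3 : d χ ≤ 2 := by
        by_contra hcon
        have := Nat.pow_le_pow_left (show 3 ≤ d χ by omega) 2
        omega
      rcases (show d χ = 1 ∨ d χ = 2 by have := hdpos χ hχ; omega) with h | h <;> simp [h]
    rw [← hd2, Finset.sum_nat_mod, Finset.sum_congr rfl (g := fun _ => 1) fun χ hχ => by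
      rcases hd3 χ hχ with h | h <;> rw [h], Finset.sum_const, h5]
    norm_num
  have hcases : q = 5 ∨ q = 8 ∨ q = 11 ∨ q = 13 := by
    rcases Nat.lt_or_ge 12 q with h | h
    · rcases (show q = 13 ∨ q = 14 by omega) with h1 | h1
      · omega
      · exfalso
        rw [hq] at h1
        have h2 := (Nat.prime_dvd_prime_iff_eq Nat.prime_two hp).mp
          (Nat.prime_two.dvd_of_dvd_pow (h1 ▸ by norm_num : 2 ∣ p ^ Cfsg.blockDefect p B))
        have h7 := (Nat.prime_dvd_prime_iff_eq (by norm_num : Nat.Prime 7) hp).mp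
          ((by norm_num : Nat.Prime 7).dvd_of_dvd_pow
            (h1 ▸ by norm_num : 7 ∣ p ^ Cfsg.blockDefect p B))
        omega
    · have := hmod h
      omega
  rcases hcases with h | h | h | h
  · exact Or.inl h
  · exact Or.inr (Or.inl h)
  · exact Or.inr (Or.inr (h ▸ by norm_num))
  · exact Or.inr (Or.inr (h ▸ by norm_num))

/-- Let G be a finite group, p a prime, M a maximal ideal of the algebraic integers containing p, and B a p-block of G with defect group D. If B has p-regular rank one and exactly five irreducible characters, then D is cyclic of order 5, or D has order 8 and is non-abelian (dihedral or quaternion). -/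
theorem result {G : Type*} [Group G] [Finite G] (p : ℕ) [Fact p.Prime] (M : Ideal Cfsg.AlgInt) (hM : Cfsg.IsPModular p M) (B : Set (Cfsg.IrrCharacter G)) (hB : Cfsg.IsPBlock M B) (D : Subgroup G) (hD : Cfsg.IsDefectGroup p M B D)
    (hl : Cfsg.blockRank p B = 1) (hk : Nat.card B = 5) :
    (Nat.card D = 5) ∨ (Nat.card D = 8 ∧ ¬ IsMulCommutative D) := by
  classical
  haveI : M.IsMaximal := hM.2.1
  haveI : CharP (Res M) p := charP_res hM
  haveI := Fintype.ofFinite G
  have hp : p.Prime := Fact.out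
  have hIs := (isDefectGroup_iff hB D).mp hD
  have hDq : Nat.card D = p ^ Cfsg.blockDefect p B := Blocks.card_isDefectGroup hM hB hD
  obtain ⟨c, hpair⟩ := exists_pairOf_isDef hIs
  have htop : Top p (⟨D, c⟩ : Idx (Res M) G) := top_of_isDef hpair hIs
  rcases card_defect hM hB hl hk with h | h | h
  · exact Or.inl (hDq.trans h)
  · refine Or.inr ⟨hDq.trans h, fun hab => ?_⟩
    have hab' : ∀ x ∈ D, ∀ y ∈ D, x * y = y * x := fun x hx y hy =>
      congrArg Subtype.val (hab.is_comm.comm (⟨x, hx⟩ : D) ⟨y, hy⟩)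
    have hp2 : p = 2 := ((Nat.prime_dvd_prime_iff_eq Nat.prime_two hp).mp
      (Nat.prime_two.dvd_of_dvd_pow (h ▸ by norm_num : 2 ∣ p ^ Cfsg.blockDefect p B))).symm
    exact LocalFive79.Eight.false_of_eight hM hp2 htop hpair hab' (hDq.trans h)
      (by rw [toSet_blk]; exact hl) (by rw [toSet_blk]; exact hk)
  · -- prime order: nilpotent
    left
    haveI : Fact (Nat.card D).Prime := ⟨hDq ▸ h⟩
    have hcyc : IsCyclic D := isCyclic_of_prime_card rfl
    have hab : ∀ x ∈ D, ∀ y ∈ D, x * y = y * x := fun x hx y hy => by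
      haveI := hcyc
      letI : CommGroup D := IsCyclic.commGroup
      exact congrArg Subtype.val (mul_comm (⟨x, hx⟩ : D) ⟨y, hy⟩)
    have hN := (Fusion.isNilpotentBlock_iff hB).mp
      ((S4649.result p M hM B hB D hD hcyc).mpr hl)
    set b : Idx (Res M) G := ⟨D, c⟩
    have hA := Cfsg.Agent.S4633.range_not_dvd (p := p) (a := b) htop
      (fun x hx => Subgroup.mem_centralizer_iff.mpr fun y hy => hab y hy x hx) (stab b)
      (stab_le_normalizer b) (fun x hx => (mem_stab_iff.mp hx).2)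
    have hst : ∀ x ∈ stab b, x ∈ Subgroup.centralizer (D : Set G) := by
      intro x hx
      obtain ⟨j, q, hq, hord⟩ :=
        Nat.exists_eq_pow_mul_and_not_dvd (orderOf_pos x).ne' p hp.ne_one
      have h2 : x ^ p ^ j ∈ Subgroup.centralizer (D : Set G) := by
        refine hN _ hpair _ (pow_mem hx _) ?_
        rw [orderOf_pow' x (pow_ne_zero j hp.ne_zero), hord, Nat.gcd_mul_right_left,
          Nat.mul_div_cancel_left _ (pow_pos hp.pos j)]
        exact hq
      have h3 : autHom b ⟨x, hx⟩ ^ p ^ j = 1 := by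
        rw [← map_pow]
        have : (⟨x, hx⟩ : stab b) ^ p ^ j ∈ (autHom b).ker := by
          rw [autHom_ker, Subgroup.mem_subgroupOf]
          exact h2
        exact this
      obtain ⟨i, -, hi⟩ := (Nat.dvd_prime_pow hp).mp (orderOf_dvd_of_pow_eq_one h3)
      have hdvd : orderOf (autHom b ⟨x, hx⟩) ∣ Nat.card (autHom b).range := by
        have := orderOf_dvd_natCard (⟨_, ⟨x, hx⟩, rfl⟩ : (autHom b).range)
        rwa [← Subgroup.orderOf_coe] at this
      have hi0 : i = 0 := by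
        by_contra hne
        exact hA ((dvd_pow_self p hne).trans (hi ▸ hdvd))
      rw [hi0, pow_zero, orderOf_eq_one_iff] at hi
      have h4 : (⟨x, hx⟩ : stab b) ∈ (autHom b).ker := hi
      rwa [autHom_ker, Subgroup.mem_subgroupOf] at h4
    have := (RankAbelian.good hM D c (blk hB) htop hpair hab hst).2
    rw [toSet_blk, hk] at this
    exact this.symm

end Cfsg.Agent.S4608
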