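import Cfsg.Statements.S4609
import Cfsg.Agent.Lib.NormalThree79.Block
import Cfsg.Agent.Lib.BC77.QuotientBlock
import Cfsg.Agent.Lib.Clifford.Ito

set_option autoImplicit false
open Cfsg

namespace Cfsg.Agent.S4609

open Cfsg.Agent.Lib
open scoped commutatorElement

set_option linter.style.haveILetI false

universe u

attribute [local instance] Ideal.Quotient.field

/-- A finite `p`-group with abelianisation of order at most three is abelian. -/
theorem commute_of_small_abelianisation {P : Type u} [Group P] [Finite P] {p : ℕ} [Fact p.Prime]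
    (hP : IsPGroup p P) (h : Nat.card (P ⧸ commutator P) ≤ 3) (x y : P) : x * y = y * x := by
  haveI : Group.IsNilpotent P := hP.isNilpotent
  have hcyc : IsCyclic (P ⧸ commutator P) := by
    rcases (show Nat.card (P ⧸ commutator P) = 1 ∨ Nat.card (P ⧸ commutator P) = 2 ∨
        Nat.card (P ⧸ commutator P) = 3 by
      have : 0 < Nat.card (P ⧸ commutator P) := Nat.card_pos
      omega) with h1 | h1 | h1
    · haveI : Subsingleton (P ⧸ commutator P) := (Nat.card_eq_one_iff_unique.mp h1).1
      exact isCyclic_of_subsingleton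
    · haveI := Fact.mk Nat.prime_two
      exact isCyclic_of_prime_card h1
    · haveI := Fact.mk Nat.prime_three
      exact isCyclic_of_prime_card h1
  obtain ⟨g, hg⟩ := hcyc.exists_generator
  obtain ⟨g, rfl⟩ := QuotientGroup.mk_surjective g
  have htop : Subgroup.zpowers g = ⊤ := by
    by_contra hne
    obtain ⟨m, hm, hle⟩ := (eq_top_or_exists_le_coatom (Subgroup.zpowers g)).resolve_left hne
    haveI : m.Normal := Subgroup.NormalizerCondition.normal_of_coatom m Group.normalizerCondition_of_isNilpotent hm
    have hcomm : commutator P ≤ m := by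
      have habel : ∀ a b : P ⧸ m, a * b = b * a := by
        intro a b
        by_cases ha : a = 1
        · rw [ha, one_mul, mul_one]
        have hz : Subgroup.zpowers a = ⊤ := by
          have hmin : ∀ K : Subgroup (P ⧸ m), K ≠ ⊥ → K = ⊤ := by
            intro K hK
            have hlt : m < K.comap (QuotientGroup.mk' m) := by
              refine lt_of_le_of_ne (fun z hz => ?_) fun e => hK ?_
              · rw [Subgroup.mem_comap, QuotientGroup.mk'_apply, (QuotientGroup.eq_one_iff z).mpr hz]
                exact one_mem _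
              · rw [eq_bot_iff]
                intro q hq
                obtain ⟨z, rfl⟩ := QuotientGroup.mk_surjective q
                exact (QuotientGroup.eq_one_iff z).mpr (e.symm ▸ hq : z ∈ m)
            exact Subgroup.comap_injective (QuotientGroup.mk'_surjective m)
              ((hm.2 _ hlt).trans (Subgroup.comap_top _).symm)
          exact hmin _ (fun e => ha (by rw [← Subgroup.mem_bot, ← e]; exact Subgroup.mem_zpowers a))
        obtain ⟨i, rfl⟩ : b ∈ Subgroup.zpowers a := by rw [hz]; trivial
        exact (Commute.zpow_right (Commute.refl a) i).eq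
      rw [commutator_def, Subgroup.commutator_le]
      intro a _ b _
      rw [← QuotientGroup.eq_one_iff, commutatorElement_def, QuotientGroup.mk_mul,
        QuotientGroup.mk_mul, QuotientGroup.mk_mul, QuotientGroup.mk_inv, QuotientGroup.mk_inv,
        habel (a : P ⧸ m) b, mul_inv_cancel_right, mul_inv_cancel]
    refine hm.1 (eq_top_iff.mpr fun z _ => ?_)
    obtain ⟨i, hi⟩ := hg (z : P ⧸ commutator P)
    have hi' : ((g ^ i : P) : P ⧸ commutator P) = z := hi
    rw [QuotientGroup.eq] at hi'
    rw [show z = g ^ i * ((g ^ i)⁻¹ * z) from (mul_inv_cancel_left _ _).symm]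
    exact mul_mem (hle (Subgroup.zpow_mem_zpowers g i)) (hcomm hi')
  obtain ⟨i, rfl⟩ : x ∈ Subgroup.zpowers g := by rw [htop]; trivial
  obtain ⟨j, rfl⟩ : y ∈ Subgroup.zpowers g := by rw [htop]; trivial
  exact (Commute.zpow_zpow_self g i j).eq

/-- A block with a normal defect group and at most three characters of height zero. -/
theorem card_le_three {N : Type u} [Group N] [Finite N] {p : ℕ} [Fact p.Prime]
    {M : Ideal Cfsg.AlgInt} (hM : Cfsg.IsPModular p M) {b : Set (Cfsg.IrrCharacter N)}
    (hb : Cfsg.IsPBlock M b) {D : Subgroup N} [D.Normal] (hD : Cfsg.IsDefectGroup p M b D)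
    (hk : Nat.card {ψ : Cfsg.IrrCharacter N // ψ ∈ b ∧ Cfsg.blockHeight p b (ψ : N → ℂ) = 0} ≤ 3) :
    Nat.card D ≤ 3 := by
  classical
  haveI : M.IsMaximal := hM.2.1
  have hDp : IsPGroup p D := Blocks.isPGroup_isDefectGroup hD
  set Q : Subgroup N := ⁅D, D⁆ with hQ
  have hQD : Q ≤ D := Subgroup.commutator_le_right D D
  haveI : Q.Normal := inferInstance
  set f := QuotientGroup.mk' Q with hf
  have hfs : Function.Surjective f := QuotientGroup.mk'_surjective Q
  have hkerQ : f.ker = Q := QuotientGroup.ker_mk' Q
  have hkerp : IsPGroup p f.ker := by rw [hkerQ]; exact hDp.to_le hQD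
  obtain ⟨Bb, hBb, hsub, hdef⟩ := BC77.QuotientBlock.exists_block_image hM f hfs hkerp hb
  have hA : Cfsg.IsDefectGroup p M Bb (D.map f) := (hdef _).mpr ⟨D, hD, rfl⟩
  haveI : (D.map f).Normal := Subgroup.Normal.map inferInstance f hfs
  have hab : ∀ x ∈ D.map f, ∀ y ∈ D.map f, x * y = y * x := by
    rintro _ ⟨x, hx, rfl⟩ _ ⟨y, hy, rfl⟩
    have h1 : f ⁅x, y⁆ = 1 := MonoidHom.mem_ker.mp (hkerQ.symm ▸ Subgroup.commutator_mem_commutator hx hy)
    rw [map_commutatorElement, commutatorElement_eq_one_iff_mul_comm] at h1
    exact h1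
  have hindex : (D.map f).index = D.index := by
    exact Subgroup.index_map_eq _ hfs (hkerQ.le.trans hQD)
  have hcardb := Blocks.card_isDefectGroup hM hb hD
  have hheight : ∀ χ ∈ Bb,
      Cfsg.blockHeight p b (BrauerMap.Inflation.infl f hfs χ : N → ℂ) = 0 := by
    intro χ hχ
    have hmem := hsub χ hχ
    rw [Blocks.Contrib.blockHeight_eq_zero_iff hmem]
    refine le_antisymm ?_ (Blocks.Contrib.minVdeg_le hmem)
    obtain ⟨d, hd, hdvd⟩ := Clifford.Ito.degree_dvd_index (D.map f) hab χ
    rw [hindex] at hdvd
    have hdeg : Cfsg.charDegree (BrauerMap.Inflation.infl f hfs χ : N → ℂ) = d := by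
      have h1 : (BrauerMap.Inflation.infl f hfs χ : N → ℂ) 1 = (d : ℂ) := by
        rw [BrauerMap.Inflation.infl_apply, map_one, hd]
      rw [Cfsg.charDegree, h1]
      simp
    have hmin := Blocks.Contrib.minVdeg_add_blockDefect (p := p) hb
    have hD' : D.index.factorization p + Cfsg.blockDefect p b = (Nat.card N).factorization p := by
      rw [← D.index_mul_card, Nat.factorization_mul Subgroup.index_ne_zero_of_finite
        Nat.card_pos.ne', Finsupp.add_apply, hcardb, (Fact.out : p.Prime).factorization_pow,
        Finsupp.single_eq_same]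
    have hd0 : d ≠ 0 := fun h => Subgroup.index_ne_zero_of_finite (H := D)
      (Nat.eq_zero_of_zero_dvd (h ▸ hdvd))
    have hle : d.factorization p ≤ D.index.factorization p :=
      (Nat.factorization_le_iff_dvd hd0 Subgroup.index_ne_zero_of_finite).mpr hdvd p
    show (Cfsg.charDegree (BrauerMap.Inflation.infl f hfs χ : N → ℂ)).factorization p ≤ _
    rw [hdeg]
    omega
  have hcard : Nat.card Bb ≤ 3 := by
    refine le_trans (Nat.card_le_card_of_injective
      (fun χ => (⟨_, hsub χ.1 χ.2, hheight χ.1 χ.2⟩ :
        {ψ : Cfsg.IrrCharacter N // ψ ∈ b ∧ Cfsg.blockHeight p b (ψ : N → ℂ) = 0}))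
      fun χ χ' h => ?_) hk
    refine Subtype.ext (Subtype.ext (funext fun q => ?_))
    obtain ⟨g, rfl⟩ := hfs q
    exact congrFun (congrArg (fun z => (z.1 : N → ℂ)) h) g
  haveI := Fintype.ofFinite (N ⧸ Q)
  have hA3 := NormalThree79.Block.card_le_three hM hBb hA hab hcard
  -- the defect group is abelian
  have hQeq : Q.subgroupOf D = commutator D := by
    apply Subgroup.map_injective D.subtype_injective
    rw [Subgroup.map_subgroupOf_eq_of_le hQD, Subgroup.map_subtype_commutator]
  haveI : (Q.subgroupOf D).Normal := Subgroup.Normal.subgroupOf inferInstance D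
  have hquot : Nat.card (D ⧸ commutator D) ≤ 3 := by
    have h1 : Nat.card (D.map f) * Nat.card (Q.subgroupOf D) = Nat.card D := by
      have h2 := (f.comp D.subtype).ker.index_mul_card
      rw [Subgroup.index_ker, MonoidHom.range_comp, D.range_subtype, ← MonoidHom.comap_ker, hkerQ] at h2
      exact h2
    have h3 := Subgroup.card_eq_card_quotient_mul_card_subgroup (commutator D)
    rw [← h1, hQeq] at h3
    have := Nat.eq_of_mul_eq_mul_right Nat.card_pos h3
    omega
  have hDab := commute_of_small_abelianisation hDp hquot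
  have hQbot : Q = ⊥ := by
    rw [hQ, Subgroup.commutator_eq_bot_iff_le_centralizer]
    intro x hx
    rw [Subgroup.mem_centralizer_iff]
    intro y hy
    exact congrArg Subtype.val (hDab ⟨y, hy⟩ ⟨x, hx⟩)
  have hinj : Function.Injective f := by
    rw [← MonoidHom.ker_eq_bot_iff, hkerQ, hQbot]
  rwa [Subgroup.card_map_of_injective hinj] at hA3


/-- Let G be a finite group, p a prime, M a maximal ideal of the algebraic integers containing p, and B a p-block of G with defect group D containing exactly three irreducible characters. Suppose the number of height-zero characters of B equals the number of height-zero characters of its Brauer correspondent b, the block of N_G(D) with defect group D inducing B (as the Alperin–McKay conjecture predicts). Then D has order 3. -/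
theorem result {G : Type*} [Group G] [Finite G] (p : ℕ) [Fact p.Prime] (M : Ideal Cfsg.AlgInt) (hM : Cfsg.IsPModular p M) (B : Set (Cfsg.IrrCharacter G)) (hB : Cfsg.IsPBlock M B) (D : Subgroup G) (hD : Cfsg.IsDefectGroup p M B D) (hk : Nat.card B = 3)
    (b : Set (Cfsg.IrrCharacter (Subgroup.normalizer (D : Set G)))) (hbB : Cfsg.IsInducedBlock M (Subgroup.normalizer (D : Set G)) b B)
    (hbD : Cfsg.IsDefectGroup p M b (D.subgroupOf (Subgroup.normalizer (D : Set G))))
    (hAM : Nat.card {χ : Cfsg.IrrCharacter G // χ ∈ B ∧ Cfsg.blockHeight p B (χ : G → ℂ) = 0} =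
           Nat.card {ψ : Cfsg.IrrCharacter (Subgroup.normalizer (D : Set G)) // ψ ∈ b ∧ Cfsg.blockHeight p b (ψ : Subgroup.normalizer (D : Set G) → ℂ) = 0}) :
    Nat.card D = 3 := by
  classical
  haveI : M.IsMaximal := hM.2.1
  haveI : (D.subgroupOf (Subgroup.normalizer (D : Set G))).Normal := Subgroup.normal_in_normalizer
  have hk0 : Nat.card {χ : Cfsg.IrrCharacter G // χ ∈ B ∧ Cfsg.blockHeight p B (χ : G → ℂ) = 0} ≤ 3 := by
    rw [← hk]
    exact Nat.card_le_card_of_injective (fun χ => (⟨χ.1, χ.2.1⟩ : B)) fun χ χ' h =>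
      Subtype.ext (congrArg Subtype.val h :)
  have hle := card_le_three hM hbB.1 hbD (hAM ▸ hk0)
  rw [Nat.card_congr (Subgroup.subgroupOfEquivOfLe Subgroup.le_normalizer).toEquiv] at hle
  have hcard := Cfsg.Agent.Lib.Blocks.card_isDefectGroup hM hB hD
  have h1 : Nat.card D ≠ 1 := fun h => by
    rw [h] at hcard
    have hd : Cfsg.blockDefect p B = 0 := (Nat.pow_eq_one.mp hcard.symm).resolve_left (Fact.out : p.Prime).ne_one
    haveI := Fintype.ofFinite G
    have := (Cfsg.Agent.Lib.Blocks.Contrib.card_eq_one_iff hM hB).mpr hd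
    omega
  have h2 : Nat.card D ≠ 2 := fun h => by
    have := (Cfsg.Agent.S4607.result p M hM B hB D hD).mpr h
    omega
  have h0 : 0 < Nat.card D := Nat.card_pos
  omega

end Cfsg.Agent.S4609
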