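import Cfsg.Statements.S4611
import Cfsg.Agent.Lib.PrincipalCore.Basic
import Cfsg.Agent.Lib.Characters.Kernel

set_option autoImplicit false
open Cfsg

namespace Cfsg.Agent.S4611

/-- Let G be a finite solvable group and π a nonempty set of primes, each dividing the order of G; fix for each p in π a maximal ideal M p of the algebraic integers containing p. Then the only irreducible character lying in the principal p-block for every p in π is the principal character if and only if G is generated by the subgroups O_{p'}(G), p in π (the largest normal subgroups of order prime to p). -/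
theorem result {G : Type*} [Group G] [Finite G] [Group.IsSolvable G] (π : Set ℕ) (hπ : ∀ p ∈ π, p.Prime ∧ p ∣ Nat.card G) (hne : π.Nonempty) (M : ℕ → Ideal Cfsg.AlgInt) (hM : ∀ p ∈ π, Cfsg.IsPModular p (M p)) :
    (∀ χ : Cfsg.IrrCharacter G, (∀ p ∈ π, χ ∈ Cfsg.principalBlock (M p) G) → (χ : G → ℂ) = fun _ => 1) ↔
      ⨆ p ∈ π, Cfsg.pPrimeCore p G = ⊤ := by
  classical
  haveI hcn : ∀ p, (Cfsg.pPrimeCore p G).Normal := fun p => inferInstance
  set K := ⨆ p ∈ π, Cfsg.pPrimeCore p G with hK
  haveI hKn : K.Normal := inferInstance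
  have hmem : ∀ χ : Cfsg.IrrCharacter G, (∀ p ∈ π, χ ∈ Cfsg.principalBlock (M p) G) ↔
      ∀ g ∈ K, (χ : G → ℂ) g = (χ : G → ℂ) 1 := by
    intro χ
    have hc := Cfsg.Agent.Lib.Characters.Basic.isCharacter_irr χ
    constructor
    · intro h
      have hle : K ≤ Cfsg.Agent.Lib.Characters.Kernel.charKer hc := by
        refine iSup₂_le fun p hp g hg => ?_
        haveI : Fact p.Prime := ⟨(hπ p hp).1⟩
        exact Cfsg.Agent.Lib.PrincipalCore.Basic.trivialOn_core (hM p hp) (h p hp) g hg
      exact fun g hg => hle hg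
    · intro h p hp
      haveI : Fact p.Prime := ⟨(hπ p hp).1⟩
      exact (Cfsg.Agent.Lib.PrincipalCore.Basic.mem_iff_of_solvable (hM p hp)
        (Cfsg.Agent.Lib.PSolvable.isPSolvable_of_isSolvable (p := p))).mpr
          fun g hg => h g (Subgroup.mem_iSup_of_mem p (Subgroup.mem_iSup_of_mem hp hg))
  constructor
  · intro h
    refine Subgroup.index_eq_one.mp ?_
    have hs := Cfsg.Agent.Lib.BrauerMap.PrincipalSection.sum_sq_trivialOn K
    have hset : {θ : Cfsg.IrrCharacter G | ∀ n ∈ K, (θ : G → ℂ) n = (θ : G → ℂ) 1} =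
        {Cfsg.Agent.Lib.Characters.Basic.oneChar G} := by
      refine Set.eq_singleton_iff_unique_mem.mpr ⟨fun _ _ => rfl, fun θ hθ => ?_⟩
      exact Subtype.ext (h θ ((hmem θ).mpr hθ))
    rw [hset, finsum_mem_singleton, Cfsg.Agent.Lib.Characters.Basic.oneChar_apply, one_mul] at hs
    exact_mod_cast hs.symm
  · intro h χ hχ
    have := Cfsg.Agent.Lib.PrincipalCore.Basic.eq_oneChar_of_const
      (fun g => (hmem χ).mp hχ g (h ▸ Subgroup.mem_top g))
    rw [this]
    rfl

end Cfsg.Agent.S4611
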