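import Cfsg.Statements.S4614
import Cfsg.Agent.Lib.PrincipalFew.SingularConst
import Cfsg.Agent.Lib.PrincipalFew.Basic
import Cfsg.Agent.Lib.BrauerPairs.Principal
import Cfsg.Agent.S4607

set_option autoImplicit false
open Cfsg

namespace Cfsg.Agent.S4614

open Cfsg.Agent.Lib Cfsg.Agent.Lib.Blocks Cfsg.Agent.Lib.Blocks.Contrib
open Cfsg.Agent.Lib.Characters.Basic Cfsg.Agent.Lib.PrincipalFew
open Cfsg.Agent.Lib.Chars82.RealChars
open scoped ComplexConjugate

attribute [local instance] Ideal.Quotient.field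

/-- Arithmetic of the one-modular case. -/
theorem pow_eq_three {p n i j : ℕ} (hp : p.Prime) (h : 1 + (p ^ i) ^ 2 + (p ^ j) ^ 2 = p ^ n) :
    p ^ n = 3 := by
  rcases Nat.eq_zero_or_pos i with rfl | hi <;> rcases Nat.eq_zero_or_pos j with rfl | hj
  · simpa using h.symm
  all_goals exfalso
  · -- 2 + p^(2j) = p^n
    have hn : n ≠ 0 := fun e => by subst e; simp at h; try omega
    obtain ⟨t, ht⟩ : p ∣ 2 := by
      have h1 : p ∣ p ^ n := dvd_pow_self p hn
      rw [← h] at h1
      have h2 : p ∣ (p ^ j) ^ 2 := dvd_pow (dvd_pow_self p hj.ne') two_ne_zero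
      simpa using (Nat.dvd_add_left h2).mp h1
    obtain rfl : p = 2 := (Nat.prime_dvd_prime_iff_eq hp Nat.prime_two).mp ⟨t, ht⟩
    obtain ⟨j, rfl⟩ : ∃ t, j = t + 1 := ⟨j - 1, by omega⟩
    rcases n with - | - | n
    · exact absurd rfl hn
    · have : (1 : ℕ) ≤ (2 ^ (j + 1)) ^ 2 := Nat.one_le_pow _ _ (by positivity)
      simp at h
    · have e : (2 ^ (j + 1)) ^ 2 = 4 * (2 ^ j) ^ 2 := by ring
      have e' : 2 ^ (n + 2) = 4 * 2 ^ n := by ring
      simp only [pow_zero, one_pow, e, e'] at h
      omega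
  · have hn : n ≠ 0 := fun e => by subst e; simp at h; try omega
    obtain ⟨t, ht⟩ : p ∣ 2 := by
      have h1 : p ∣ p ^ n := dvd_pow_self p hn
      rw [← h, show 1 + (p ^ i) ^ 2 + (p ^ 0) ^ 2 = 2 + (p ^ i) ^ 2 by simp; omega] at h1
      have h2 : p ∣ (p ^ i) ^ 2 := dvd_pow (dvd_pow_self p hi.ne') two_ne_zero
      exact (Nat.dvd_add_left h2).mp h1
    obtain rfl : p = 2 := (Nat.prime_dvd_prime_iff_eq hp Nat.prime_two).mp ⟨t, ht⟩
    obtain ⟨i, rfl⟩ : ∃ t, i = t + 1 := ⟨i - 1, by omega⟩
    rcases n with - | - | n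
    · exact absurd rfl hn
    · have : (1 : ℕ) ≤ (2 ^ (i + 1)) ^ 2 := Nat.one_le_pow _ _ (by positivity)
      simp at h
    · have e : (2 ^ (i + 1)) ^ 2 = 4 * (2 ^ i) ^ 2 := by ring
      have e' : 2 ^ (n + 2) = 4 * 2 ^ n := by ring
      simp only [pow_zero, one_pow, e, e'] at h
      omega
  · have hn : n ≠ 0 := fun e => by
      subst e
      have : 0 < (p ^ i) ^ 2 := pow_pos (pow_pos hp.pos _) _
      simp at h
      omega
    have h1 : p ∣ p ^ n := dvd_pow_self p hn
    rw [← h, add_assoc] at h1
    have h2 : p ∣ (p ^ i) ^ 2 + (p ^ j) ^ 2 :=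
      dvd_add (dvd_pow (dvd_pow_self p hi.ne') two_ne_zero)
        (dvd_pow (dvd_pow_self p hj.ne') two_ne_zero)
    exact hp.not_dvd_one ((Nat.dvd_add_left h2).mp h1)

/-- The orders allowed by the singular values. -/
theorem dvd_three {N a b x y : ℤ} (h0 : 1 + x * a + y * b = 0) (hx : N ∣ x - a) (hy : N ∣ y - b) :
    N ∣ 1 + a ^ 2 + b ^ 2 := by
  have : 1 + a ^ 2 + b ^ 2 = (1 + x * a + y * b) - (x - a) * a - (y - b) * b := by ring
  rw [this, h0]
  exact dvd_sub (dvd_sub (dvd_zero N) (hx.mul_right a)) (hy.mul_right b)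


/-- Let G be a finite group, p a prime and M a maximal ideal of the algebraic integers containing p. If the principal p-block of G contains exactly three irreducible characters, then a Sylow p-subgroup of G has order 3 (so p = 3). -/
theorem result {G : Type*} [Group G] [Finite G] (p : ℕ) [Fact p.Prime] (M : Ideal Cfsg.AlgInt) (hM : Cfsg.IsPModular p M) (hk : Nat.card (Cfsg.principalBlock M G) = 3) (D : Sylow p G) : Nat.card (D : Subgroup G) = 3 := by
  classical
  haveI : M.IsMaximal := hM.2.1
  haveI := Fintype.ofFinite G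
  haveI := BrauerPairs.Bridge.charP_res hM
  have hp : p.Prime := Fact.out
  have hB : Cfsg.IsPBlock M (Cfsg.principalBlock M G) := isPBlock_principalBlock
  have hDef : Cfsg.IsDefectGroup p M (Cfsg.principalBlock M G) (D : Subgroup G) := by
    rw [BrauerPairs.Bridge.isDefectGroup_iff hB, BrauerPairs.Bridge.blk_principalBlock]
    exact (BrauerPairs.Principal.isDef_princ_iff _).mpr ⟨D, rfl⟩
  have hDcard : Nat.card (D : Subgroup G) = p ^ Cfsg.blockDefect p (Cfsg.principalBlock M G) :=
    card_isDefectGroup hM hB hDef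
  set S := bset (Cfsg.principalBlock M G) with hS
  have hone : oneChar G ∈ S := mem_bset.mpr oneChar_mem_principalBlock
  have hcard : S.card = 3 := (card_bset _).trans hk
  obtain ⟨χ, ψ, hne, hpair⟩ := Finset.card_eq_two.mp
    (show (S.erase (oneChar G)).card = 2 by rw [Finset.card_erase_of_mem hone, hcard])
  have hχ : χ ∈ S.erase (oneChar G) := by rw [hpair]; simp
  have hψ : ψ ∈ S.erase (oneChar G) := by rw [hpair]; simp
  have hsum : ∀ F : Cfsg.IrrCharacter G → ℂ, ∑ φ ∈ S, F φ = F (oneChar G) + (F χ + F ψ) :=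
    fun F => by rw [← Finset.add_sum_erase _ _ hone, hpair, Finset.sum_pair hne]
  have hdeg1 : Cfsg.charDegree (oneChar G : G → ℂ) = 1 := by
    simp [Cfsg.charDegree, oneChar_apply]
  have hl0 := BrauerPairs.RankAbelian.one_le_blockRank hM hB
  have hl3 : Cfsg.blockRank p (Cfsg.principalBlock M G) ≤ 3 := hk ▸ blockRank_le
  have hl : Cfsg.blockRank p (Cfsg.principalBlock M G) ≠ 3 := fun h => by
    have h0 := (blockRank_eq_card_iff hM hB).mp (h.trans hk.symm)
    have := (card_eq_one_iff hM hB).mpr h0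
    omega
  rcases (show Cfsg.blockRank p (Cfsg.principalBlock M G) = 1 ∨
      Cfsg.blockRank p (Cfsg.principalBlock M G) = 2 by omega) with h1 | h2
  · -- one modular character
    obtain ⟨n, hnv, hn, hdvd⟩ := rank_one_degrees hM h1
    rw [← Finset.add_sum_erase _ _ hone, hdeg1, hpair, Finset.sum_pair hne] at hn
    obtain ⟨i, -, hi⟩ := (Nat.dvd_prime_pow hp).mp
      (hdvd χ (mem_bset.mp (Finset.mem_of_mem_erase hχ)))
    obtain ⟨j, -, hj⟩ := (Nat.dvd_prime_pow hp).mp
      (hdvd ψ (mem_bset.mp (Finset.mem_of_mem_erase hψ)))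
    rw [hi, hj, one_pow, ← add_assoc] at hn
    have h3 := pow_eq_three hp hn
    rw [D.card_eq_multiplicity, ← hnv]
    exact h3
  · -- two modular characters
    have hk' : Nat.card (Cfsg.principalBlock M G) =
        Cfsg.blockRank p (Cfsg.principalBlock M G) + 1 := by omega
    obtain ⟨a, ha, ha1, hpG⟩ := exists_values hM hk'
    have hDp : p ∣ Nat.card (D : Subgroup G) :=
      hp.dvd_iff_one_le_factorization Nat.card_pos.ne' |>.mpr (by
        rw [D.card_eq_multiplicity, hp.factorization_pow, Finsupp.single_eq_same]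
        exact (hp.dvd_iff_one_le_factorization Nat.card_pos.ne').mp hpG)
    set N : ℤ := ((Nat.card (D : Subgroup G) : ℕ) : ℤ) with hN
    have hcong : ∀ φ ∈ S, N ∣ (Cfsg.charDegree (φ : G → ℂ) : ℤ) - a φ := fun φ hφ =>
      dvd_degree_sub hM ha D.isPGroup' (mem_bset.mp hφ)
    have h0 := sum_degree_mul hM ha hpG
    rw [← Finset.add_sum_erase _ _ hone, hdeg1, ha1, hpair, Finset.sum_pair hne] at h0
    have hdvd := dvd_three (N := N) (a := a χ) (b := a ψ) (x := Cfsg.charDegree (χ : G → ℂ))
      (y := Cfsg.charDegree (ψ : G → ℂ)) (by push_cast at h0; linarith)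
      (hcong χ (Finset.mem_of_mem_erase hχ)) (hcong ψ (Finset.mem_of_mem_erase hψ))
    by_cases hp2 : p = 2
    · subst hp2
      exfalso
      obtain ⟨t, ht⟩ := hDp
      have h2N : Nat.card (D : Subgroup G) = 2 := by
        obtain ⟨e, he⟩ := IsPGroup.iff_card.mp D.isPGroup'
        rcases e with - | - | e
        · rw [he, pow_zero] at ht; omega
        · simpa using he
        · exfalso
          have h4 : (4 : ℤ) ∣ 1 + a χ ^ 2 + a ψ ^ 2 := dvd_trans ⟨2 ^ e, by
            rw [hN, he]; push_cast; ring⟩ hdvd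
          have h4' : ((1 + a χ ^ 2 + a ψ ^ 2 : ℤ) : ZMod 4) = 0 :=
            (ZMod.intCast_zmod_eq_zero_iff_dvd _ 4).mpr h4
          push_cast at h4'
          revert h4'
          generalize (a χ : ZMod 4) = x
          generalize (a ψ : ZMod 4) = y
          revert x y
          decide
      have := (S4607.result 2 M hM _ hB _ hDef).mpr h2N
      omega
    · have hnu := sum_nu_mul hM ha hp2 hpG ha1
      rw [hsum, ha1, Int.cast_one, one_mul, nu_oneChar] at hnu
      have hrel : (a χ : ℂ) * nu (χ : G → ℂ) + (a ψ : ℂ) * nu (ψ : G → ℂ) = 0 := by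
        linear_combination hnu
      obtain ⟨w, hw⟩ := exists_prime_orderOf_dvd_card' p hpG
      have hswap : ∀ φ φ' : Cfsg.IrrCharacter G, S.erase (oneChar G) = {φ, φ'} →
          φ ∈ S.erase (oneChar G) → nu (φ : G → ℂ) = 0 → a φ = a φ' := by
        intro φ φ' hp' hφ h0φ
        have hnr : ¬ ∀ g, ((φ : G → ℂ) g).im = 0 := fun h => by
          rcases (Characters.Indicator.indicator_spec φ).1 h with e | e <;>
            · unfold nu at h0φ; rw [e] at h0φ; norm_num at h0φ
        have hmem : conjIrr φ ∈ S.erase (oneChar G) := Finset.mem_erase.mpr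
          ⟨fun e => hnr fun g => by
            have := congrFun (congrArg Subtype.val e) g
            rw [conjIrr_apply, oneChar_apply] at this
            have h' := congrArg Complex.im this
            rwa [Complex.conj_im, Complex.one_im, neg_eq_zero] at h',
          mem_bset.mpr (conjIrr_mem (mem_bset.mp (Finset.mem_of_mem_erase hφ)))⟩
        rw [hp'] at hmem
        simp only [Finset.mem_insert, Finset.mem_singleton] at hmem
        rcases hmem with e | e
        · exact absurd (fun g => Complex.conj_eq_iff_im.mp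
            (congrFun (congrArg Subtype.val e) g)) hnr
        · have h1 := congrFun (congrArg Subtype.val e) w
          rw [conjIrr_apply, ha φ (mem_bset.mp (Finset.mem_of_mem_erase hφ)) w (hw ▸ dvd_rfl),
            map_intCast, ha φ' ?_ w (hw ▸ dvd_rfl)] at h1
          · exact_mod_cast h1
          · rw [← e]
            exact conjIrr_mem (mem_bset.mp (Finset.mem_of_mem_erase hφ))
      have hab : a χ = a ψ ∨ a χ = -a ψ := by
        rcases nu_eq_zero_or χ with hx | hx | hx
        · exact Or.inl (hswap χ ψ hpair hχ hx)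
        all_goals
          rcases nu_eq_zero_or ψ with hy | hy | hy
          · exact Or.inl (hswap ψ χ (hpair.trans (Finset.pair_comm χ ψ)) hψ hy).symm
          all_goals
            rw [hx, hy] at hrel
            first
              | exact Or.inr (by exact_mod_cast (show (a χ : ℂ) = -(a ψ : ℂ) by linear_combination hrel))
              | exact Or.inr (by exact_mod_cast (show (a χ : ℂ) = -(a ψ : ℂ) by linear_combination -hrel))
              | exact Or.inl (by exact_mod_cast (show (a χ : ℂ) = (a ψ : ℂ) by linear_combination hrel))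
              | exact Or.inl (by exact_mod_cast (show (a χ : ℂ) = (a ψ : ℂ) by linear_combination -hrel))
      have hsq : a χ ^ 2 = 1 ∧ a ψ ^ 2 = 1 := by
        push_cast at h0
        rcases hab with e | e
        · rw [e] at h0 ⊢
          have : a ψ = 1 ∨ a ψ = -1 := Int.eq_one_or_neg_one_of_mul_eq_one
            (show a ψ * -((Cfsg.charDegree (χ : G → ℂ) : ℤ) + Cfsg.charDegree (ψ : G → ℂ)) = 1 by
              linear_combination -h0)
          rcases this with h | h <;> simp [h]
        · rw [e] at h0 ⊢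
          have : a ψ = 1 ∨ a ψ = -1 := Int.eq_one_or_neg_one_of_mul_eq_one
            (show a ψ * ((Cfsg.charDegree (χ : G → ℂ) : ℤ) - Cfsg.charDegree (ψ : G → ℂ)) = 1 by
              linear_combination -h0)
          rcases this with h | h <;> simp [h]
      rw [hsq.1, hsq.2] at hdvd
      have h3 : Nat.card (D : Subgroup G) ∣ 3 := by
        rw [hN] at hdvd
        exact_mod_cast hdvd
      rcases (Nat.dvd_prime Nat.prime_three).mp h3 with h | h
      · rw [h] at hDp
        exact absurd hDp hp.not_dvd_one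
      · exact h

end Cfsg.Agent.S4614
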