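import Cfsg.Statements.S4620
-- import your own Cfsg.Agent.* helpers here

set_option autoImplicit false
open scoped Pointwise
open Cfsg

namespace Cfsg.Agent.S4620

theorem conj_map_eq {H : Type*} [Group H] (N : Subgroup H) [hN : N.Normal] (g : H) :
    N.map (MulAut.conj g).toMonoidHom = N :=
  Subgroup.normal_iff_map_conj_eq.mp hN g

theorem exists_normal_ne_bot_minimal {H : Type*} [Group H] [Finite H]
    (s : Set (Subgroup H)) (K : Subgroup H) (hK : K ∈ s) :
    ∃ M, M ∈ s ∧ M ≤ K ∧ ∀ L ∈ s, L ≤ M → L = M := by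
  obtain ⟨M, hMK, hM⟩ := Finite.exists_le_minimal (p := fun L : Subgroup H => L ∈ s) hK
  exact ⟨M, hM.prop, hMK, fun L hL hLM => le_antisymm hLM (hM.le_of_le hL hLM)⟩

section
variable {H : Type*} [Group H] [Finite H] {p : ℕ} [Fact p.Prime]
  (hOp : Cfsg.pCore p H = ⊥) (hOp' : Cfsg.pPrimeCore p H = ⊥) (P : Sylow p H)
  (hTI : ∀ g : H, g ∉ Subgroup.normalizer ((P : Subgroup H) : Set H) →
      (P : Subgroup H) ⊓ (MulAut.conj g • (P : Subgroup H)) = ⊥)

theorem mem_of_mem_normalizer (g : H) (hg : ∃ k : ℕ, g ^ p ^ k = 1)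
    (hgn : g ∈ Subgroup.normalizer ((P : Subgroup H) : Set H)) : g ∈ (P : Subgroup H) := by
  have hz : IsPGroup p (Subgroup.zpowers g) := by
    obtain ⟨k, hk⟩ := hg
    rintro ⟨x, hx⟩
    obtain ⟨n, rfl⟩ := Subgroup.mem_zpowers_iff.mp hx
    refine ⟨k, Subtype.ext ?_⟩
    show (g ^ n) ^ p ^ k = 1
    rw [← zpow_natCast, ← zpow_mul, mul_comm, zpow_mul, zpow_natCast, hk, one_zpow]
  have h := IsPGroup.to_sup_of_normal_right' hz P.2 (Subgroup.zpowers_le.mpr hgn)
  have := P.3 h le_sup_right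
  exact this ▸ Subgroup.mem_sup_left (Subgroup.mem_zpowers g)

theorem conj_mem_sylow (g : H) (hg : ∃ k : ℕ, g ^ p ^ k = 1) :
    ∃ c : H, c * g * c⁻¹ ∈ (P : Subgroup H) := by
  have hz : IsPGroup p (Subgroup.zpowers g) := by
    obtain ⟨k, hk⟩ := hg
    rintro ⟨x, hx⟩
    obtain ⟨n, rfl⟩ := Subgroup.mem_zpowers_iff.mp hx
    refine ⟨k, Subtype.ext ?_⟩
    show (g ^ n) ^ p ^ k = 1
    rw [← zpow_natCast, ← zpow_mul, mul_comm, zpow_mul, zpow_natCast, hk, one_zpow]
  obtain ⟨Q, hQ⟩ := hz.exists_le_sylow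
  obtain ⟨c, hc⟩ := MulAction.exists_smul_eq H Q P
  refine ⟨c, ?_⟩
  rw [← hc, Sylow.coe_subgroup_smul]
  exact ⟨g, hQ (Subgroup.mem_zpowers g), rfl⟩

include hOp' in
theorem exists_order_p {K N : Subgroup H} [N.Normal] (hKN : K ≤ N)
    (hNK : N ≤ Subgroup.normalizer (K : Set H)) (hK : K ≠ ⊥) :
    ∃ x ∈ K, orderOf x = p := by
  by_cases hdvd : p ∣ Nat.card K
  · obtain ⟨x, hx⟩ := exists_prime_orderOf_dvd_card' (G := K) p hdvd
    exact ⟨x, x.2, by rw [Subgroup.orderOf_coe, hx]⟩
  exfalso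
  apply hK
  set s : Set (Subgroup H) :=
    {L | L ≤ N ∧ N ≤ Subgroup.normalizer (L : Set H) ∧ ¬ p ∣ Nat.card L} with hs
  have hKs : K ∈ s := ⟨hKN, hNK, hdvd⟩
  obtain ⟨M, hKM, hM⟩ := Finite.exists_le_maximal (p := fun L : Subgroup H => L ∈ s) hKs
  obtain ⟨hMN, hNM, hMp⟩ := hM.prop
  have hsup : ∀ L ∈ s, L ≤ M := by
    rintro L ⟨hLN, hNL, hLp⟩
    have h1 : L ⊔ M ∈ s := by
      refine ⟨sup_le hLN hMN, ?_, ?_⟩
      · intro n hn
        rw [Subgroup.mem_normalizer_iff_map_conj_eq, Subgroup.map_sup,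
          Subgroup.mem_normalizer_iff_map_conj_eq.mp (hNL hn),
          Subgroup.mem_normalizer_iff_map_conj_eq.mp (hNM hn)]
      · have e := Subgroup.relIndex_mul_relIndex ⊥ M (L ⊔ M) bot_le le_sup_right
        simp only [Subgroup.relIndex_bot_left] at e
        have hr : M.relIndex (L ⊔ M) ∣ Nat.card L := by
          have h3 : ((M.subgroupOf N).relIndex (L.subgroupOf N ⊔ M.subgroupOf N)) =
              (M.subgroupOf N).relIndex (L.subgroupOf N) := by
            haveI : (M.subgroupOf N).Normal := Subgroup.normal_subgroupOf_of_le_normalizer hNM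
            rw [Subgroup.relIndex_sup_right]
          rw [← Subgroup.subgroupOf_sup hLN hMN, Subgroup.relIndex_subgroupOf (sup_le hLN hMN),
            Subgroup.relIndex_subgroupOf hLN] at h3
          rw [h3]
          exact Subgroup.relIndex_dvd_card M L
        intro hd
        rw [← e] at hd
        rcases (Nat.Prime.dvd_mul (Fact.out : p.Prime)).mp hd with h | h
        · exact hMp h
        · exact hLp (h.trans hr)
    exact le_sup_left.trans (hM.le_of_ge h1 le_sup_right)
  have hMnorm : M.Normal := by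
    constructor
    intro m hm g
    have h1 : M.map (MulAut.conj g).toMonoidHom ∈ s := by
      refine ⟨?_, ?_, ?_⟩
      · exact (Subgroup.map_mono hMN).trans (conj_map_eq N g).le
      · refine le_trans (conj_map_eq N g).ge ?_
        refine le_trans (Subgroup.map_mono hNM) ?_
        exact Subgroup.le_normalizer_map _
      · rw [← Nat.card_congr (M.equivMapOfInjective _ (MulAut.conj g).injective).toEquiv]
        exact hMp
    exact hsup _ h1 ⟨m, hm, rfl⟩
  have : M ≤ Cfsg.pPrimeCore p H :=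
    le_sSup ⟨hMnorm, Nat.coprime_comm.mp ((Fact.out : p.Prime).coprime_iff_not_dvd.mpr hMp)⟩
  rw [hOp', le_bot_iff] at this
  exact le_bot_iff.mp (this ▸ hKM)

include hOp hOp' in
theorem le_normalizer_bot (M : Subgroup H) [hMn : M.Normal]
    (h : M ≤ Subgroup.normalizer ((P : Subgroup H) : Set H)) : M = ⊥ := by
  by_contra hM
  obtain ⟨x, hxM, hx⟩ := exists_order_p hOp' (le_refl M) M.le_normalizer hM
  have hxp : ∃ k : ℕ, x ^ p ^ k = 1 := ⟨1, by rw [pow_one, ← hx, pow_orderOf_eq_one]⟩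
  have hR : ((M ⊓ P : Subgroup H)).Normal := by
    constructor
    rintro y ⟨hyM, hyP⟩ g
    refine ⟨hMn.conj_mem y hyM g, ?_⟩
    refine mem_of_mem_normalizer P _ ?_ (h (hMn.conj_mem y hyM g))
    obtain ⟨k, hk⟩ := P.2 ⟨y, hyP⟩
    refine ⟨k, ?_⟩
    rw [conj_pow]
    have : y ^ p ^ k = 1 := congrArg Subtype.val hk
    simp [this]
  have hRp : IsPGroup p ((M ⊓ P : Subgroup H)) := P.2.to_le inf_le_right
  have hle : (M ⊓ P : Subgroup H) ≤ Cfsg.pCore p H := le_sSup ⟨hR, hRp⟩
  rw [hOp] at hle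
  have : x = 1 := Subgroup.mem_bot.mp (hle ⟨hxM, mem_of_mem_normalizer P x hxp (h hxM)⟩)
  rw [this, orderOf_one] at hx
  exact (Fact.out : p.Prime).ne_one hx.symm

include hTI in
theorem commute_mem_normalizer (g x : H) (hx : x ∈ (P : Subgroup H)) (hx1 : x ≠ 1)
    (hc : g * x = x * g) : g ∈ Subgroup.normalizer ((P : Subgroup H) : Set H) := by
  by_contra h
  apply hx1
  rw [← Subgroup.mem_bot, ← hTI g h]
  refine ⟨hx, ⟨x, hx, ?_⟩⟩
  show g * x * g⁻¹ = x
  rw [hc, mul_inv_cancel_right]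

end

/-- Let H be a finite group with no nontrivial normal p-subgroup and no nontrivial normal subgroup of order prime to p, whose Sylow p-subgroup P is nontrivial and a trivial-intersection set (P meets its conjugates by elements outside N_H(P) trivially). Then H has a unique minimal normal subgroup N; N is non-abelian simple with trivial centralizer in H (so H embeds in Aut(N)), and a Sylow p-subgroup of N is again a nontrivial trivial-intersection set in N. -/
theorem result {H : Type*} [Group H] [Finite H] (p : ℕ) [Fact p.Prime] (hOp : Cfsg.pCore p H = ⊥) (hOp' : Cfsg.pPrimeCore p H = ⊥) (P : Sylow p H) (hP1 : (P : Subgroup H) ≠ ⊥)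
    (hTI : ∀ g : H, g ∉ Subgroup.normalizer ((P : Subgroup H) : Set H) → (P : Subgroup H) ⊓ (MulAut.conj g • (P : Subgroup H)) = ⊥) :
    ∃ N : Subgroup H, N.Normal ∧ N ≠ ⊥ ∧ (∀ K : Subgroup H, K.Normal → K ≠ ⊥ → N ≤ K) ∧
      IsSimpleGroup N ∧ ¬ IsMulCommutative N ∧ Subgroup.centralizer (N : Set H) = ⊥ ∧
      ∀ Q : Sylow p N, (Q : Subgroup N) ≠ ⊥ ∧
        ∀ n : N, n ∉ Subgroup.normalizer ((Q : Subgroup N) : Set N) → (Q : Subgroup N) ⊓ (MulAut.conj n • (Q : Subgroup N)) = ⊥ := by
  classical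
  have hp1 : p ≠ 1 := (Fact.out : p.Prime).ne_one
  have htop : (⊤ : Subgroup H) ≠ ⊥ := fun h => hP1 (le_bot_iff.mp (h ▸ le_top))
  obtain ⟨N, ⟨hNn, hN1⟩, -, hNmin⟩ :=
    exists_normal_ne_bot_minimal {L : Subgroup H | L.Normal ∧ L ≠ ⊥} ⊤ ⟨inferInstance, htop⟩
  haveI := hNn
  have hordp : ∀ x : H, orderOf x = p → x ≠ 1 ∧ ∃ k : ℕ, x ^ p ^ k = 1 := fun x hx =>
    ⟨fun h => hp1 (by rw [← hx, h, orderOf_one]), 1, by rw [pow_one, ← hx, pow_orderOf_eq_one]⟩
  -- every nontrivial normal subgroup meets P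
  have hmeet : ∀ M : Subgroup H, M.Normal → M ≠ ⊥ → ∃ z ∈ M, z ∈ (P : Subgroup H) ∧ z ≠ 1 := by
    intro M hMn hM
    obtain ⟨x, hxM, hx⟩ := exists_order_p hOp' (le_refl M) M.le_normalizer hM
    obtain ⟨c, hc⟩ := conj_mem_sylow P x (hordp x hx).2
    refine ⟨_, hMn.conj_mem x hxM c, hc, fun h => (hordp x hx).1 ?_⟩
    simpa [mul_inv_eq_one] using h
  have hcent : ∀ M L : Subgroup H, M.Normal → L.Normal → L ≠ ⊥ →
      (∀ a ∈ M, ∀ b ∈ L, a * b = b * a) → M = ⊥ := by
    intro M L hMn hLn hL hc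
    haveI := hMn
    obtain ⟨z, hzL, hzP, hz⟩ := hmeet L hLn hL
    exact le_normalizer_bot hOp hOp' P M
      fun a ha => commute_mem_normalizer P hTI a z hzP hz (hc a ha z hzL)
  have huniq : ∀ K : Subgroup H, K.Normal → K ≠ ⊥ → N ≤ K := by
    intro K hKn hK
    haveI := hKn
    by_contra h
    apply hN1
    refine hcent N K hNn hKn hK ?_
    have hd : Disjoint N K := by
      rw [disjoint_iff]
      by_contra h2
      exact h (inf_eq_left.mp (hNmin _ ⟨inferInstance, h2⟩ inf_le_left))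
    intro a ha b hb
    exact (Subgroup.commute_of_normal_of_disjoint N K hNn hKn hd a b ha hb).eq
  have hC : Subgroup.centralizer (N : Set H) = ⊥ :=
    hcent _ N inferInstance hNn hN1 fun a ha b hb => (ha b hb).symm
  have hnc : ¬ IsMulCommutative N := by
    intro hcomm
    apply hN1
    rw [← le_bot_iff, ← hC]
    intro a ha b hb
    exact congrArg Subtype.val (hcomm.is_comm.comm (⟨b, hb⟩ : N) ⟨a, ha⟩)
  haveI : Nontrivial N := (Subgroup.nontrivial_iff_ne_bot N).mpr hN1
  have hsimple : ∀ K : Subgroup H, K ≤ N → N ≤ Subgroup.normalizer (K : Set H) → K ≠ ⊥ → K = N := by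
    intro K hKN hNK hK
    obtain ⟨K0, ⟨hK0N, hNK0, hK0⟩, hK0K, hK0min⟩ := exists_normal_ne_bot_minimal
      {L : Subgroup H | L ≤ N ∧ N ≤ Subgroup.normalizer (L : Set H) ∧ L ≠ ⊥} K ⟨hKN, hNK, hK⟩
    set s : H → Subgroup H := fun g => K0.map (MulAut.conj g).toMonoidHom with hs
    have hsN : ∀ g, s g ≤ N := fun g => (Subgroup.map_mono hK0N).trans (conj_map_eq N g).le
    have hNs : ∀ g, N ≤ Subgroup.normalizer (s g : Set H) := fun g =>
      ((conj_map_eq N g).ge.trans (Subgroup.map_mono hNK0)).trans (Subgroup.le_normalizer_map _)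
    have hscard : ∀ g, Nat.card (s g) = Nat.card K0 := fun g =>
      (Nat.card_congr (K0.equivMapOfInjective _ (MulAut.conj g).injective).toEquiv).symm
    have hs0 : ∀ g, s g ≠ ⊥ := fun g h => hK0 (by
      apply Subgroup.eq_bot_of_card_eq
      rw [← hscard g, h, Subgroup.card_bot])
    have hstrans : ∀ a g : H, (s g).map (MulAut.conj a).toMonoidHom = s (a * g) := by
      intro a g
      rw [hs]
      simp only [Subgroup.map_map]
      congr 1
      ext x
      simp [mul_assoc]
    have hsmin : ∀ g, ∀ L : Subgroup H, L ≤ N → N ≤ Subgroup.normalizer (L : Set H) → L ≠ ⊥ →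
        L ≤ s g → L = s g := by
      intro g L hLN hNL hL hLs
      have h1 : L.map (MulAut.conj g⁻¹).toMonoidHom ≤ K0 := by
        refine le_trans (Subgroup.map_mono hLs) ?_
        rw [hstrans, inv_mul_cancel, hs]
        rintro _ ⟨y, hy, rfl⟩
        simpa using hy
      have h2 := hK0min _ ⟨(Subgroup.map_mono hLN).trans (conj_map_eq N g⁻¹).le,
          ((conj_map_eq N g⁻¹).ge.trans (Subgroup.map_mono hNL)).trans (Subgroup.le_normalizer_map _),
          fun h => hL (by
            apply Subgroup.eq_bot_of_card_eq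
            rw [Nat.card_congr (L.equivMapOfInjective (MulAut.conj g⁻¹).toMonoidHom (MulAut.conj g⁻¹).injective).toEquiv, h,
              Subgroup.card_bot])⟩ h1
      apply Subgroup.eq_of_le_of_card_ge hLs
      rw [hscard g, ← h2, ← Nat.card_congr (L.equivMapOfInjective _ (MulAut.conj g⁻¹).injective).toEquiv]
    have hdisj : ∀ g h, s g ≠ s h → ∀ a ∈ s g, ∀ b ∈ s h, a * b = b * a := by
      intro g h hne a ha b hb
      have hbot : s g ⊓ s h = ⊥ := by
        by_contra h0
        have hn : N ≤ Subgroup.normalizer ((s g ⊓ s h : Subgroup H) : Set H) := by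
          intro n hn
          rw [Subgroup.mem_normalizer_iff]
          intro y
          simp only [Subgroup.mem_inf]
          exact and_congr (Subgroup.mem_normalizer_iff.mp (hNs g hn) y)
            (Subgroup.mem_normalizer_iff.mp (hNs h hn) y)
        have e1 := hsmin g _ (inf_le_left.trans (hsN g)) hn h0 inf_le_left
        have e2 := hsmin h _ (inf_le_left.trans (hsN g)) hn h0 inf_le_right
        exact hne (e1.symm.trans e2)
      have : a * b * a⁻¹ * b⁻¹ ∈ s g ⊓ s h := by
        refine ⟨?_, ?_⟩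
        · have hai : a⁻¹ ∈ s g := inv_mem ha
          have : a * (b * a⁻¹ * b⁻¹) ∈ s g :=
            mul_mem ha ((Subgroup.mem_normalizer_iff.mp (hNs g (hsN h hb)) _).mp hai)
          simpa [mul_assoc] using this
        · exact mul_mem ((Subgroup.mem_normalizer_iff.mp (hNs h (hsN g ha)) _).mp hb) ((s h).inv_mem hb)
      rw [hbot, Subgroup.mem_bot, mul_inv_eq_one, mul_inv_eq_iff_eq_mul] at this
      exact this
    obtain ⟨x, hxK, hx⟩ := exists_order_p hOp' hK0N hNK0 hK0
    obtain ⟨c, hc⟩ := conj_mem_sylow P x (hordp x hx).2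
    have hz : c * x * c⁻¹ ∈ s c := ⟨x, hxK, rfl⟩
    have hz1 : c * x * c⁻¹ ≠ 1 := fun h => (hordp x hx).1 (by simpa [mul_inv_eq_one] using h)
    by_cases hall : ∀ g, s g = s c
    · have hn : (s c).Normal := by
        constructor
        intro y hy a
        rw [← hall (a * c), ← hstrans]
        exact ⟨y, hy, rfl⟩
      have he : N ≤ s c := huniq _ hn (hs0 c)
      refine le_antisymm hKN ?_
      have hcard : K0 = N := Subgroup.eq_of_le_of_card_ge hK0N (by
        rw [← hscard c]
        exact Nat.card_le_card_of_injective _ (Subgroup.inclusion_injective he))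
      exact hcard ▸ hK0K
    · exfalso
      obtain ⟨g, hg⟩ := not_forall.mp hall
      have hgn : s g ≤ Subgroup.normalizer ((P : Subgroup H) : Set H) := fun a ha =>
        commute_mem_normalizer P hTI a _ hc hz1 (hdisj g c hg a ha _ hz)
      obtain ⟨y, hyK, hy⟩ := exists_order_p hOp' (hsN g) (hNs g) (hs0 g)
      have hyP : y ∈ (P : Subgroup H) := mem_of_mem_normalizer P y (hordp y hy).2 (hgn hyK)
      have hcn : s c ≤ Subgroup.normalizer ((P : Subgroup H) : Set H) := fun a ha =>
        commute_mem_normalizer P hTI a y hyP (hordp y hy).1 (hdisj c g (Ne.symm hg) a ha y hyK)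
      have hM : (⨆ a, s a).Normal := by
        constructor
        intro w hw b
        have h1 : (⨆ a, s a).map (MulAut.conj b).toMonoidHom ≤ ⨆ a, s a := by
          rw [Subgroup.map_iSup]
          exact iSup_le fun a => (hstrans b a).le.trans (le_iSup s (b * a))
        exact h1 ⟨w, hw, rfl⟩
      have hMP : (⨆ a, s a) ≤ Subgroup.normalizer ((P : Subgroup H) : Set H) := by
        refine iSup_le fun a => ?_
        by_cases ha : s a = s c
        · exact ha ▸ hcn
        · exact fun b hb => commute_mem_normalizer P hTI b _ hc hz1 (hdisj a c ha b hb _ hz)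
      exact hs0 c (le_bot_iff.mp ((le_iSup s c).trans (le_normalizer_bot hOp hOp' P _ hMP).le))
  refine ⟨N, hNn, hN1, huniq, ⟨fun A hA => ?_⟩, hnc, hC, fun Q => ?_⟩
  · by_cases hA1 : A = ⊥
    · exact Or.inl hA1
    refine Or.inr ?_
    have h1 : N ≤ Subgroup.normalizer (A.map N.subtype : Set H) := by
      intro n hn
      rw [Subgroup.mem_normalizer_iff_map_conj_eq, Subgroup.map_map]
      have h2 : (MulAut.conj n).toMonoidHom.comp N.subtype =
          N.subtype.comp (MulAut.conj (⟨n, hn⟩ : N)).toMonoidHom := by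
        ext x; simp
      show A.map ((MulAut.conj n).toMonoidHom.comp N.subtype) = A.map N.subtype
      rw [h2, ← Subgroup.map_map]
      have hA' := Subgroup.normal_iff_map_conj_eq.mp hA (⟨n, hn⟩ : N)
      exact congrArg (Subgroup.map N.subtype) hA' 
    have h3 := hsimple (A.map N.subtype) (Subgroup.map_subtype_le A) h1 (fun h => hA1 (by
      rwa [Subgroup.map_eq_bot_iff_of_injective _ N.subtype_injective] at h))
    apply Subgroup.map_injective N.subtype_injective
    rw [h3, ← MonoidHom.range_eq_map, Subgroup.range_subtype]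
  · obtain ⟨x, hxN, hx⟩ := exists_order_p hOp' (le_refl N) N.le_normalizer hN1
    refine ⟨Q.ne_bot_of_dvd_card ?_, fun n hn => ?_⟩
    · rw [← hx, ← Subgroup.orderOf_mk x hxN]
      exact orderOf_dvd_natCard _
    have hQp : IsPGroup p ((Q : Subgroup N).map N.subtype) := Q.2.map _
    obtain ⟨P', hP'⟩ := hQp.exists_le_sylow
    obtain ⟨c, hc⟩ := MulAction.exists_smul_eq H P P'
    have hQ : ∀ a : N, (a : H) ∈ (P' : Subgroup H) ↔ a ∈ (Q : Subgroup N) := by
      have h4 : (P' : Subgroup H).comap N.subtype = (Q : Subgroup N) :=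
        Q.3 (P'.2.comap_of_injective _ N.subtype_injective) (fun a ha => hP' ⟨a, ha, rfl⟩)
      intro a
      rw [← h4]
      rfl
    rw [eq_bot_iff]
    rintro y ⟨hy1, ⟨y', hy', hyy'⟩⟩
    rw [Subgroup.mem_bot]
    by_contra hy
    apply hn
    have hPmem : ∀ w : H, w ∈ (P' : Subgroup H) ↔ c⁻¹ * w * c ∈ (P : Subgroup H) := by
      intro w
      rw [← hc, Sylow.coe_subgroup_smul]
      constructor
      · rintro ⟨u, hu, rfl⟩
        simpa [mul_assoc, SetLike.mem_coe] using (show u ∈ (P : Subgroup H) from hu)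
      · intro hu
        exact ⟨_, hu, by simp [mul_assoc]⟩
    have hnP : c⁻¹ * (n : H) * c ∈ Subgroup.normalizer ((P : Subgroup H) : Set H) := by
      by_contra hcon
      apply hy
      have hb : c⁻¹ * (y : H) * c ∈ (P : Subgroup H) ⊓ MulAut.conj (c⁻¹ * (n : H) * c) • (P : Subgroup H) := by
        refine ⟨(hPmem _).mp ((hQ y).mpr hy1), c⁻¹ * (y' : H) * c, (hPmem _).mp ((hQ y').mpr hy'), ?_⟩
        show c⁻¹ * (n : H) * c * (c⁻¹ * (y' : H) * c) * (c⁻¹ * (n : H) * c)⁻¹ = c⁻¹ * (y : H) * c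
        rw [← hyy']
        simp [mul_assoc]
      rw [hTI _ hcon, Subgroup.mem_bot] at hb
      apply Subtype.ext
      show (y : H) = 1
      have hb' : c⁻¹ * (y : H) * c = c⁻¹ * 1 * c := by simpa using hb
      exact mul_left_cancel (mul_right_cancel hb')
    rw [Subgroup.mem_normalizer_iff]
    intro a
    rw [← hQ, ← hQ, hPmem, hPmem]
    rw [Subgroup.mem_normalizer_iff.mp hnP]
    simp [mul_assoc]

end Cfsg.Agent.S4620
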