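import Cfsg.Statements.S4625
import Cfsg.Agent.Lib.SylowAb92.Classical
import Cfsg.Agent.Lib.SylowAb92.Linear
import Cfsg.Agent.Lib.SylowAb92.Exceptional
import Cfsg.Agent.Lib.ChevStructure.Order.CertG2
import Cfsg.Agent.Lib.ChevStructure.Order.CertF4
import Cfsg.Agent.Lib.ChevStructure.Order.CertE6
import Cfsg.Agent.Lib.ChevStructure.Order.CertE7
import Cfsg.Agent.Lib.ChevStructure.Order.CertE8
-- import your own Cfsg.Agent.* helpers here

set_option autoImplicit false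
open Cfsg

namespace Cfsg.Agent.S4625

/-- Let G be a finite simple group of Lie type in characteristic 2, not counting the Tits group ²F₄(2)′. Then a Sylow 2-subgroup P of G has P/P' elementary abelian: the square of every element of P lies in the derived subgroup of P. -/
theorem result {G : Type*} [Group G] [Finite G] [IsSimpleGroup G] (hG : Cfsg.IsLieTypeChar 2 G) (P : Sylow 2 G) :
    ∀ x : (P : Subgroup G), x ^ 2 ∈ commutator (P : Subgroup G) := by
  refine Lib.SylowAb92.SqDer.sq_mem_commutator ?_ P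
  have hp := Nat.prime_two
  rcases hG with ⟨F, _, _, _, n, hn, -, ⟨e⟩⟩ | ⟨F, _, _, _, m, hm, -, ⟨e⟩⟩ | ⟨F, _, _, _, n, q, hF, hn, -, ⟨e⟩⟩ |
    ⟨F, _, _, _, m, hm, hodd, ⟨e⟩⟩ | ⟨F, _, _, _, m, hm, ⟨e⟩⟩ | ⟨F, _, _, _, m, a, b, hm, hab, ⟨e⟩⟩ |
    ⟨F, iF, iF', iC, h⟩ | ⟨K, iK, iK', iC, q, hq, h⟩ | ⟨-, F, _, _, m, hm, hF, ⟨e⟩⟩ | ⟨-, K, _, _, m, hm, hK, ⟨e⟩⟩ |
    ⟨h, -⟩
  · exact .of_equiv e (Lib.SylowAb92.Linear.sqDer_psl hn)
  · exact .of_equiv e (Lib.SylowAb92.Classical.sqDer_psp m)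
  · exact .of_equiv e (Lib.SylowAb92.Classical.sqDer_psu hF n)
  · obtain ⟨k, -, hk⟩ := FiniteField.card F 2
    rw [hk] at hodd
    exact absurd ((Nat.odd_pow_iff (by simp : (k : ℕ) ≠ 0)).1 hodd) (by decide)
  · exact .of_equiv e (Lib.SylowAb92.Classical.sqDer_plus (by omega) (Or.inr (by simp; omega)))
  · exact .of_equiv e (Lib.SylowAb92.Classical.sqDer_minus (by omega) hab)
  · have hq := Cfsg.Agent.S2363.fieldpow F 2 (pow_one _).symm one_ne_zero
    obtain ⟨f, -, hf⟩ := id hq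
    rw [← Nat.card_eq_fintype_card] at hf
    have hd : ∀ (n : ℕ) (g : Fin n → ℕ), (∏ i, Nat.gcd (Fintype.card F - 1) (g i)).Coprime 2 := fun n g =>
      Nat.Coprime.prod_left fun i _ => Cfsg.Agent.S2363.cop_gcd hp hq (g i)
    rcases h with ⟨-, ⟨e⟩⟩ | ⟨⟨e⟩⟩ | ⟨⟨e⟩⟩ | ⟨⟨e⟩⟩ | ⟨⟨e⟩⟩
    · exact .of_equiv e (Lib.SylowAb92.Exceptional.sqDer_chev Lib.ChevStructure.commOK_G2 hf
        (by rw [Nat.card_eq_fintype_card (α := F)]; exact Lib.ChevStructure.Order.CertG2.card_group rfl)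
        (hd _ _) (Cfsg.Agent.S2363.cop_list hp hq _ (by decide)))
    · exact .of_equiv e (Lib.SylowAb92.Exceptional.sqDer_chev
        (Lib.ChevStructure.Cert.F4.core.commOK_mild Lib.ChevStructure.mildF4) hf
        (by rw [Nat.card_eq_fintype_card (α := F)]; exact Lib.ChevStructure.Order.CertF4.card_group rfl)
        (hd _ _) (Cfsg.Agent.S2363.cop_list hp hq _ (by decide)))
    · exact .of_equiv e (Lib.SylowAb92.Exceptional.sqDer_chev
        (Lib.ChevStructure.Cert.E6.core.commOK_mild Lib.ChevStructure.mildE6) hf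
        (by rw [Nat.card_eq_fintype_card (α := F)]; exact Lib.ChevStructure.Order.CertE6.card_group rfl)
        (hd _ _) (Cfsg.Agent.S2363.cop_list hp hq _ (by decide)))
    · exact .of_equiv e (Lib.SylowAb92.Exceptional.sqDer_chev
        (Lib.ChevStructure.Cert.E7.core.commOK_mild Lib.ChevStructure.mildE7) hf
        (by rw [Nat.card_eq_fintype_card (α := F)]; exact Lib.ChevStructure.Order.CertE7.card_group rfl)
        (hd _ _) (Cfsg.Agent.S2363.cop_list hp hq _ (by decide)))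
    · exact .of_equiv e (Lib.SylowAb92.Exceptional.sqDer_chev
        (Lib.ChevStructure.Cert.E8.core.commOK_mild Lib.ChevStructure.mildE8) hf
        (by rw [Nat.card_eq_fintype_card (α := F)]; exact Lib.ChevStructure.Order.CertE8.card_group rfl)
        (hd _ _) (Cfsg.Agent.S2363.cop_list hp hq _ (by decide)))
  · rcases h with ⟨hK, ⟨e⟩⟩ | ⟨hK, ⟨e⟩⟩
    · exact .of_equiv e (Lib.SylowAb92.Exceptional.sqDer_e6 hq hK)
    · exact .of_equiv e (Lib.SylowAb92.Exceptional.sqDer_d4 hq hK)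
  · exact .of_equiv e (Lib.SylowAb92.Exceptional.sqDer_sz hm hF)
  · exact .of_equiv e (Lib.SylowAb92.Exceptional.sqDer_f4 hm hK)
  · omega

end Cfsg.Agent.S4625
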