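import Cfsg.Statements.S4629
import Cfsg.Agent.Lib.SylowOrth52.Forms
-- import your own Cfsg.Agent.* helpers here

set_option autoImplicit false
open Cfsg

namespace Cfsg.Agent.S4629

/-- Let F be a finite field of odd order and m ≥ 3. For the commutator subgroup Ω of the isometry group of the non-singular quadratic form x₀² + Σ x_i y_i in dimension 2m + 1 over F, a Sylow 2-subgroup P of Ω has P/P' elementary abelian: the square of every element of P lies in the derived subgroup of P. -/
theorem result {F : Type*} [Field F] [Fintype F] (hF : Odd (Fintype.card F)) (m : ℕ) (hm : 3 ≤ m) (P : Sylow 2 (Cfsg.Omega F (Cfsg.quadFormOdd m F))) : ∀ x : (P : Subgroup (Cfsg.Omega F (Cfsg.quadFormOdd m F))), x ^ 2 ∈ commutator (P : Subgroup (Cfsg.Omega F (Cfsg.quadFormOdd m F))) := by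
  classical
  intro x
  open Cfsg.Agent.Lib.Forms Cfsg.Agent.Lib.OrthStd Cfsg.Agent.Lib.SylowOrth52 in
  exact (by
    have hq := Nat.odd_iff.1 hF
    have h2 : (2 : F) ≠ 0 :=
      Ring.two_ne_zero (Cfsg.Agent.Lib.Orth52.ringChar_ne_two rfl hF)
    have h1 : 1 < Fintype.card F := Fintype.one_lt_card
    let eo := (isoOrth (qOddC m F) (quadFormOdd_eq m)).trans (orthCongr (oddIso m F))
    refine sylow_square rfl hq ((qPlus (F := F) m).prod (qOne 1))
      (prod_nondeg (qPlus_nondeg m) (qOne_nondeg one_ne_zero h2))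
      ((Pi.basisFun F (Fin m ⊕ Fin m)).prod (Module.Basis.singleton Unit F)) m 1
      (fun _ => (-1) ^ m) (fun _ => pow_ne_zero _ (neg_ne_zero.2 one_ne_zero)) (by omega)
      (by simp; omega) ?_ ?_ (omegaEquiv eo) P x
    · rw [gdet_prod, gdet, gdet]
      simp only [Pi.basisFun_apply]
      rw [Cfsg.Agent.Lib.Orth52.gram_plus, Cfsg.Agent.Lib.Orth52.det_swap_blocks,
        Matrix.det_unique]
      simp only [Matrix.of_apply, Module.Basis.singleton_apply, polar_self', qOne_apply,
        Fin.prod_univ_one, mul_one]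
      exact ⟨2 * (-1) ^ m, by ring⟩
    · rw [← Nat.card_congr eo.toEquiv, card_orth_odd rfl hF m,
        v2_mul (Nat.mul_ne_zero two_ne_zero (pow_ne_zero _ (by omega))) (prod_pow_ne_zero h1 m),
        v2_mul two_ne_zero (pow_ne_zero _ (by omega)), v2_pow_odd hq, v2_two, v2_prod h1 hq]
      omega)

end Cfsg.Agent.S4629
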