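import Cfsg.Statements.S4630
import Cfsg.Agent.Lib.SylowOrth52.Forms
-- import your own Cfsg.Agent.* helpers here

set_option autoImplicit false
open Cfsg

namespace Cfsg.Agent.S4630

/-- Let F be a finite field of odd order and m ≥ 1 with m even or m ≥ 4. For the commutator subgroup Ω of the isometry group of the plus-type quadratic form Σ_{i<m} x_i y_i in dimension 2m over F, a Sylow 2-subgroup P of Ω has P/P' elementary abelian: the square of every element of P lies in the derived subgroup of P. -/
theorem result {F : Type*} [Field F] [Fintype F] (hF : Odd (Fintype.card F)) (m : ℕ) (hm : 1 ≤ m) (hm' : Even m ∨ 4 ≤ m) (P : Sylow 2 (Cfsg.Omega F (Cfsg.quadFormPlus m F))) : ∀ x : (P : Subgroup (Cfsg.Omega F (Cfsg.quadFormPlus m F))), x ^ 2 ∈ commutator (P : Subgroup (Cfsg.Omega F (Cfsg.quadFormPlus m F))) := by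
  classical
  intro x
  open Cfsg.Agent.Lib.Forms Cfsg.Agent.Lib.OrthStd Cfsg.Agent.Lib.SylowOrth52 in
  exact (by
    have hq := Nat.odd_iff.1 hF
    have h2 : (2 : F) ≠ 0 :=
      Ring.two_ne_zero (Cfsg.Agent.Lib.Orth52.ringChar_ne_two rfl hF)
    have h1 : 1 < Fintype.card F := Fintype.one_lt_card
    let eo := isoOrth (qPlus (F := F) m) (quadFormPlus_eq m)
    have hsign := isSquare_sign_iff (F := F) rfl hq m
    have hadd := v2_pow_sub_add h1 hq (show m ≠ 0 by omega)
    have hle : Fintype.card F ≤ Fintype.card F ^ m := Nat.le_self_pow (by omega) _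
    have hodd : Fintype.card F ^ m % 2 = 1 := by rw [Nat.pow_mod, hq, one_pow, Nat.one_mod]
    have hfac : m.factorial.factorization 2 =
        m.factorization 2 + (m - 1).factorial.factorization 2 := by
      rw [← v2_mul (by omega) (Nat.factorial_ne_zero _), Nat.mul_factorial_pred (by omega)]
    have hcard : (Nat.card (orth (qPlus (F := F) m))).factorization 2 =
        1 + (Fintype.card F ^ m - 1).factorization 2 + (m - 1) * tq (Fintype.card F) +
          (m - 1).factorial.factorization 2 := by
      rw [← Nat.card_congr eo.toEquiv, card_orth_plus rfl m hm,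
        v2_mul (Nat.mul_ne_zero (Nat.mul_ne_zero two_ne_zero (pow_ne_zero _ (by omega))) (by omega))
          (prod_pow_ne_zero h1 _),
        v2_mul (Nat.mul_ne_zero two_ne_zero (pow_ne_zero _ (by omega))) (by omega),
        v2_mul two_ne_zero (pow_ne_zero _ (by omega)), v2_pow_odd hq, v2_two, v2_prod h1 hq]
      omega
    have hmt : m * tq (Fintype.card F) = (m - 1) * tq (Fintype.card F) + tq (Fintype.card F) := by
      rw [← Nat.succ_mul, Nat.succ_eq_add_one, Nat.sub_add_cancel hm]
    have hgd : gdet (qPlus (F := F) m) (Pi.basisFun F (Fin m ⊕ Fin m)) = (-1) ^ m := by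
      rw [gdet]
      simp only [Pi.basisFun_apply]
      rw [Cfsg.Agent.Lib.Orth52.gram_plus, Cfsg.Agent.Lib.Orth52.det_swap_blocks]
    by_cases hs : IsSquare ((-1 : F) ^ m)
    · have hm2 : 2 ≤ m := by
        rcases hm' with ⟨k, hk⟩ | h <;> omega
      have h4 := v2_of_mod_four (n := Fintype.card F ^ m + 1) (by have := hsign.1 hs; omega)
      refine sylow_square rfl hq (qPlus m) (qPlus_nondeg m) (Pi.basisFun F (Fin m ⊕ Fin m)) m 0
        (fun j => j.elim0) (fun j => j.elim0) hm2 (by simp; omega) ?_ ?_ (omegaEquiv eo) P x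
      · simpa [hgd] using hs
      · omega
    · have hm4 : 4 ≤ m := by
        rcases hm' with h | h
        · exact absurd (by rw [h.neg_one_pow]; exact IsSquare.one) hs
        · exact h
      have h3 : Fintype.card F ^ m % 4 = 3 := by
        have := mt hsign.2 hs; omega
      have h4 := v2_of_mod_four (n := Fintype.card F ^ m - 1) (by omega)
      refine sylow_square rfl hq (qPlus m) (qPlus_nondeg m) (Pi.basisFun F (Fin m ⊕ Fin m))
        (m - 1) 2 ![2⁻¹, (-1) ^ m / 2] ?_ (by omega) (by simp; omega) ?_ ?_ (omegaEquiv eo) P x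
      · intro j
        fin_cases j
        · exact inv_ne_zero h2
        · exact div_ne_zero (pow_ne_zero _ (neg_ne_zero.2 one_ne_zero)) h2
      · rw [hgd, Fin.prod_univ_two]
        simp only [Matrix.cons_val_zero, Matrix.cons_val_one]
        exact ⟨(-1) ^ m, by field_simp⟩
      · omega)

end Cfsg.Agent.S4630
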