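import Cfsg.Statements.S4631
import Cfsg.Agent.Lib.SylowOrth52.Forms
-- import your own Cfsg.Agent.* helpers here

set_option autoImplicit false
open Cfsg

namespace Cfsg.Agent.S4631

/-- Let F be a finite field of odd order, m ≥ 4, and a, b ∈ F with z₁² + a z₁ z₂ + b z₂² anisotropic. For the commutator subgroup Ω of the isometry group of the minus-type quadratic form Σ_{i<m−1} x_i y_i + (z₁² + a z₁ z₂ + b z₂²) in dimension 2m over F, a Sylow 2-subgroup P of Ω has P/P' elementary abelian: the square of every element of P lies in the derived subgroup of P. -/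
theorem result {F : Type*} [Field F] [Fintype F] (hF : Odd (Fintype.card F)) (m : ℕ) (hm : 4 ≤ m) (a b : F) (hab : ∀ z₁ z₂ : F, z₁ ^ 2 + a * z₁ * z₂ + b * z₂ ^ 2 = 0 → z₁ = 0 ∧ z₂ = 0) (P : Sylow 2 (Cfsg.Omega F (Cfsg.quadFormMinus (m - 1) F a b))) : ∀ x : (P : Subgroup (Cfsg.Omega F (Cfsg.quadFormMinus (m - 1) F a b))), x ^ 2 ∈ commutator (P : Subgroup (Cfsg.Omega F (Cfsg.quadFormMinus (m - 1) F a b))) := by
  classical
  intro x
  open Cfsg.Agent.Lib.Forms Cfsg.Agent.Lib.OrthStd Cfsg.Agent.Lib.SylowOrth52 in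
  exact (by
    have hq := Nat.odd_iff.1 hF
    have hch := Cfsg.Agent.Lib.Orth52.ringChar_ne_two (F := F) rfl hF
    have h2 : (2 : F) ≠ 0 := Ring.two_ne_zero hch
    have h1 : 1 < Fintype.card F := Fintype.one_lt_card
    let eo := (isoOrth (qMinusC (m - 1) a b) (quadFormMinus_eq (m - 1) a b)).trans
      (orthCongr (minusIso (m - 1) a b))
    have hnd := prod_nondeg (qPlus_nondeg (F := F) (m - 1)) (qBin_nondeg hab)
    have hsign := isSquare_sign_iff (F := F) rfl hq m
    have hadd := v2_pow_sub_add h1 hq (show m ≠ 0 by omega)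
    have hle : Fintype.card F ≤ Fintype.card F ^ m := Nat.le_self_pow (by omega) _
    have hodd : Fintype.card F ^ m % 2 = 1 := by rw [Nat.pow_mod, hq, one_pow, Nat.one_mod]
    have hfac : m.factorial.factorization 2 =
        m.factorization 2 + (m - 1).factorial.factorization 2 := by
      rw [← v2_mul (by omega) (Nat.factorial_ne_zero _), Nat.mul_factorial_pred (by omega)]
    have hcard : (Nat.card (orth ((qPlus (F := F) (m - 1)).prod (qBin a b)))).factorization 2 =
        1 + (Fintype.card F ^ m + 1).factorization 2 + (m - 1) * tq (Fintype.card F) +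
          (m - 1).factorial.factorization 2 := by
      rw [← Nat.card_congr eo.toEquiv, card_orth_minus rfl m (by omega) hab,
        v2_mul (Nat.mul_ne_zero (Nat.mul_ne_zero two_ne_zero (pow_ne_zero _ (by omega))) (by omega))
          (prod_pow_ne_zero h1 _),
        v2_mul (Nat.mul_ne_zero two_ne_zero (pow_ne_zero _ (by omega))) (by omega),
        v2_mul two_ne_zero (pow_ne_zero _ (by omega)), v2_pow_odd hq, v2_two, v2_prod h1 hq]
      omega
    have hmt : m * tq (Fintype.card F) = (m - 1) * tq (Fintype.card F) + tq (Fintype.card F) := by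
      rw [← Nat.succ_mul, Nat.succ_eq_add_one, Nat.sub_add_cancel (by omega)]
    let bQ := (Pi.basisFun F (Fin (m - 1) ⊕ Fin (m - 1))).prod (Pi.basisFun F (Fin 2))
    have hgd : gdet ((qPlus (F := F) (m - 1)).prod (qBin a b)) bQ =
        (-1) ^ m * (a ^ 2 - 4 * b) := by
      rw [gdet_prod, gdet, gdet]
      simp only [Pi.basisFun_apply]
      rw [Cfsg.Agent.Lib.Orth52.gram_plus, Cfsg.Agent.Lib.Orth52.det_swap_blocks, Matrix.det_fin_two,
        show m = m - 1 + 1 by omega, pow_succ, Nat.add_sub_cancel]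
      simp [QuadraticMap.polar, qBin_apply]
      ring
    have hns := Cfsg.Agent.Lib.Orth52.binary_disc_not_square h2 hab
    have hd0 : a ^ 2 - 4 * b ≠ 0 := fun h => hns (h ▸ IsSquare.zero)
    have hD := Cfsg.Agent.Lib.Orth52.isSquare_mul_nonsquare hch
      (pow_ne_zero m (neg_ne_zero.2 (one_ne_zero (α := F)))) hd0 hns
    by_cases hs : IsSquare ((-1 : F) ^ m)
    · have h4 := v2_of_mod_four (n := Fintype.card F ^ m + 1) (by have := hsign.1 hs; omega)
      refine sylow_square rfl hq _ hnd bQ (m - 1) 2 ![2⁻¹, (-1) ^ m * (a ^ 2 - 4 * b) / 2] ?_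
        (by omega) (by simp; omega) ?_ ?_ (omegaEquiv eo) P x
      · intro j
        fin_cases j
        · exact inv_ne_zero h2
        · exact div_ne_zero (mul_ne_zero (pow_ne_zero _ (neg_ne_zero.2 one_ne_zero)) hd0) h2
      · rw [hgd, Fin.prod_univ_two]
        simp only [Matrix.cons_val_zero, Matrix.cons_val_one]
        exact ⟨(-1) ^ m * (a ^ 2 - 4 * b), by field_simp⟩
      · omega
    · have h3 : Fintype.card F ^ m % 4 = 3 := by
        have := mt hsign.2 hs; omega
      have h4 := v2_of_mod_four (n := Fintype.card F ^ m - 1) (by omega)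
      refine sylow_square rfl hq _ hnd bQ m 0 (fun j => j.elim0) (fun j => j.elim0)
        (by omega) (by simp; omega) ?_ ?_ (omegaEquiv eo) P x
      · rw [hgd]
        simpa using hD.2 hs
      · omega)

end Cfsg.Agent.S4631
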