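import Cfsg.Statements.S4632
import Cfsg.Agent.Lib.SylowOrth52.GTwo
-- import your own Cfsg.Agent.* helpers here

set_option autoImplicit false
open Cfsg

namespace Cfsg.Agent.S4632

/-- Let F be a finite field of odd order and G₂(F) the automorphism group of the split octonion algebra over F (realized on F⁸ with the Zorn vector-matrix multiplication). A Sylow 2-subgroup P of G₂(F) has P/P' elementary abelian: the square of every element of P lies in the derived subgroup of P. -/
theorem result {F : Type*} [Field F] [Fintype F] (hF : Odd (Fintype.card F)) (P : Sylow 2 (Cfsg.Lie.G2 F)) : ∀ x : (P : Subgroup (Cfsg.Lie.G2 F)), x ^ 2 ∈ commutator (P : Subgroup (Cfsg.Lie.G2 F)) := by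
  classical
  intro x
  open Cfsg.Agent.Lib.SylowOrth52 in
  exact (by
    haveI : Fact (Nat.Prime 2) := ⟨Nat.prime_two⟩
    have h2 : (2 : F) ≠ 0 :=
      Ring.two_ne_zero (Cfsg.Agent.Lib.Orth52.ringChar_ne_two rfl hF)
    let e := g2Equiv F
    let S : Sylow 2 (oAut F) := P.mapSurjective (f := e.toMonoidHom) e.surjective
    let E : (S : Subgroup (oAut F)) ≃* (P : Subgroup (Cfsg.Lie.G2 F)) :=
      (e.subgroupMap (P : Subgroup (Cfsg.Lie.G2 F))).symm
    obtain ⟨y, rfl⟩ := E.surjective x
    rw [← map_pow]
    have h := Subgroup.mem_map_of_mem E.toMonoidHom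
      (sylow_oAut h2 rfl (Nat.odd_iff.1 hF) S y)
    rwa [Cfsg.Agent.Lib.Forms.map_commutator_equiv E] at h)

end Cfsg.Agent.S4632
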