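import Cfsg.Statements.S4634
import Cfsg.Agent.Lib.CyclicBlocks.Frobenius
import Mathlib.GroupTheory.SpecificGroups.Cyclic
import Mathlib.RingTheory.ZMod.UnitsCyclic

set_option autoImplicit false
open Cfsg

namespace Cfsg.Agent.S4634

open Cfsg.Agent.Lib.BrauerPairs Cfsg.Agent.Lib.BrauerPairs.Center Cfsg.Agent.Lib.BrauerPairs.Bridge
open Cfsg.Agent.Lib.BrauerPairs.Pairs Cfsg.Agent.Lib.BrauerPairs.Maximal
open Cfsg.Agent.Lib.BrauerPairs.Local Cfsg.Agent.Lib.BrauerPairs.SubsectionCount
open Cfsg.Agent.Lib.CyclicBlocks Cfsg.Agent.Lib.CyclicBlocks.Local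
open Cfsg.Agent.Lib.CyclicBlocks.Chars Cfsg.Agent.Lib.CyclicBlocks.Family
open Cfsg.Agent.Lib.Characters.Basic

attribute [local instance] Ideal.Quotient.field

universe u v

/-- Automorphism groups of cyclic groups of odd prime power order are cyclic. -/
theorem isCyclic_mulAut {A : Type u} [Group A] [Finite A] [IsCyclic A] {p k : ℕ} (hp : p.Prime)
    (hp2 : p ≠ 2) (hA : Nat.card A = p ^ k) : IsCyclic (MulAut A) := by
  haveI : IsCyclic (ZMod (Nat.card A))ˣ := by
    rw [hA]
    exact ZMod.isCyclic_units_of_prime_pow p hp hp2 k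
  exact (IsCyclic.mulAutMulEquiv A).isCyclic.mpr inferInstance

/-- Conjugation by an element of the normalizer, read in a larger subgroup. -/
def autOf {G : Type u} [Group G] {P C : Subgroup G} (hPC : P ≤ C) {x : G}
    (hx : x ∈ Subgroup.normalizer (P : Set G)) : (P.subgroupOf C) ≃* (P.subgroupOf C) where
  toFun v := ⟨⟨x * ((v : C) : G) * x⁻¹, hPC ((Subgroup.mem_normalizer_iff.mp hx _).mp v.2)⟩,
    (Subgroup.mem_normalizer_iff.mp hx _).mp v.2⟩
  invFun v := ⟨⟨x⁻¹ * ((v : C) : G) * x, hPC ((Subgroup.mem_normalizer_iff''.mp hx _).mp v.2)⟩,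
    (Subgroup.mem_normalizer_iff''.mp hx _).mp v.2⟩
  left_inv v := Subtype.ext (Subtype.ext (by simp [mul_assoc]))
  right_inv v := Subtype.ext (Subtype.ext (by simp [mul_assoc]))
  map_mul' a b := Subtype.ext (Subtype.ext (by simp [mul_assoc]))

theorem coe_autOf {G : Type u} [Group G] {P C : Subgroup G} (hPC : P ≤ C) {x : G}
    (hx : x ∈ Subgroup.normalizer (P : Set G)) (v : P.subgroupOf C) :
    ((autOf hPC hx v : C) : G) = x * ((v : C) : G) * x⁻¹ := rfl

theorem coe_autOf_pow {G : Type u} [Group G] {P C : Subgroup G} (hPC : P ≤ C) {x : G}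
    (hx : x ∈ Subgroup.normalizer (P : Set G)) (i : ℕ) (v : P.subgroupOf C) :
    ((((autOf hPC hx : MulAut (P.subgroupOf C)) ^ i) v : C) : G) =
      x ^ i * ((v : C) : G) * (x ^ i)⁻¹ := by
  induction i with
  | zero => simp
  | succ i ih =>
    rw [pow_succ', MulAut.mul_apply]
    show x * _ * x⁻¹ = _
    rw [ih, pow_succ']
    group

/-- Pulling back along an isomorphism. -/
noncomputable def pull {A : Type u} [Group A] {A' : Type v} [Group A'] (θ : A ≃* A')
    (l : Cfsg.IrrCharacter A') : Cfsg.IrrCharacter A :=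
  ⟨(l : A' → ℂ) ∘ θ.toMonoidHom, isIrrCharacter_comp _ θ.surjective l.2⟩

theorem pull_apply {A : Type u} [Group A] {A' : Type v} [Group A'] (θ : A ≃* A')
    (l : Cfsg.IrrCharacter A') (a : A) : (pull θ l : A → ℂ) a = (l : A' → ℂ) (θ a) := rfl

/-- Let B be a block of the finite group G relative to a maximal ideal M of the algebraic integers containing the prime p, with a nontrivial cyclic defect group P, let c be a block of C_G(P) inducing B, T the stabilizer of c in N_G(P) and e the index of C_G(P) in T. Let F be any finite group of order #P · e having a cyclic subgroup Q of order #P that is its own centralizer (F is then the semidirect product of Q by a cyclic group of order e acting faithfully). Then there is a perfect isometry from the set of all irreducible characters of F onto B whose signs agree on all the characters of F that do not contain Q in their kernel. -/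
theorem result {G : Type*} [Group G] [Finite G] (p : ℕ) [Fact p.Prime] (M : Ideal Cfsg.AlgInt) (hM : Cfsg.IsPModular p M) (B : Set (Cfsg.IrrCharacter G)) (hB : Cfsg.IsPBlock M B) (P : Subgroup G) (hPD : Cfsg.IsDefectGroup p M B P) (hP1 : P ≠ ⊥) (hcyc : IsCyclic P) (c : Set (Cfsg.IrrCharacter (Subgroup.centralizer (P : Set G)))) (hc : Cfsg.IsInducedBlock M (Subgroup.centralizer (P : Set G)) c B) (T : Subgroup G) (hT : ∀ g : G, g ∈ T ↔ (g ∈ Subgroup.normalizer (P : Set G) ∧ Cfsg.StabilizesBlock (Subgroup.centralizer (P : Set G)) c g)) (e : ℕ) (he : (Subgroup.centralizer (P : Set G)).relIndex T = e) (F : Type*) [Group F] [Finite F] (hF : Nat.card F = Nat.card P * e) (Q : Subgroup F) (hQ : IsCyclic Q) (hQcard : Nat.card Q = Nat.card P) (hQC : Subgroup.centralizer (Q : Set F) = Q) : ∃ (I : Cfsg.IrrCharacter F → Cfsg.IrrCharacter G) (ε : Cfsg.IrrCharacter F → ℤ), Cfsg.IsPerfectIsometry p M (Set.univ : Set (Cfsg.IrrCharacter F)) B I ε ∧ ∀ η η' : Cfsg.IrrCharacter F, (∃ x ∈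 Q, (η : F → ℂ) x ≠ (η : F → ℂ) 1) → (∃ x ∈ Q, (η' : F → ℂ) x ≠ (η' : F → ℂ) 1) → ε η = ε η' := by
  classical
  haveI : M.IsMaximal := hM.2.1
  haveI : CharP (Res M) p := charP_res hM
  haveI := Fintype.ofFinite G
  haveI := Fintype.ofFinite F
  have hp : p.Prime := Fact.out
  obtain ⟨z, hcy, hee⟩ := Theorem.exists_data hB hPD hP1 hcyc hc hT he
  obtain ⟨ξ₀, hξ₀, hst⟩ := exists_stable hM hcy
  obtain ⟨h, hh, Qs, hO, hhP⟩ := exists_orbits_of hM hcy ξ₀ hξ₀ hst
  have hinert := hcy.inertial hM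
  have hnorm : h ∈ Subgroup.normalizer (P : Set G) := stab_le_normalizer _ hhP
  have hepos : 0 < e := hee ▸ hcy.eIdx_pos hM
  have hpe : ¬ p ∣ e := hee ▸ hcy.not_dvd_eIdx hM
  have hdvd : e ∣ p - 1 := by
    rw [← hee]
    exact hinert.2.1
  set P' := (localPair (blk hc.1) hcy.comm hcy.mem).1 with hP'
  have hP'card : Nat.card P' = Nat.card P :=
    Nat.card_congr (Subgroup.subgroupOfEquivOfLe hcy.le_centralizer).toEquiv
  haveI := Fintype.ofFinite (Cfsg.IrrCharacter P')
  obtain ⟨Φ, hΦ1, hΦeq, hΦpair⟩ := Star.exists_star hM hcy hξ₀ hst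
  -- the subgroup `Q`
  obtain ⟨k, hk⟩ := IsPGroup.iff_card.mp hcy.top.1
  have hQp : IsPGroup p Q := IsPGroup.of_card (hQcard.trans hk)
  have hQi : Q.index = e := by
    have h1 := Q.card_mul_index
    rw [hF, hQcard] at h1
    exact Nat.eq_of_mul_eq_mul_left Nat.card_pos h1
  haveI hQn : Q.Normal := by
    let S : Sylow p F := hQp.toSylow (by rw [hQi]; exact hpe)
    have hS : (S : Subgroup F) = Q := rfl
    have h1 := card_sylow_modEq_one p F
    have h2 : Nat.card (Sylow p F) ∣ e := by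
      rw [← hQi, ← hS]
      exact Sylow.card_dvd_index S
    have h3 : Nat.card (Sylow p F) ≤ e := Nat.le_of_dvd hepos h2
    have h4 : e ≤ p - 1 := Nat.le_of_dvd (by have := hp.two_le; omega) hdvd
    have h5 : Nat.card (Sylow p F) = 1 := by
      have hlt : Nat.card (Sylow p F) < p := by have := hp.two_le; omega
      have := h1
      rw [Nat.ModEq, Nat.mod_eq_of_lt hlt, Nat.mod_eq_of_lt hp.one_lt] at this
      exact this
    haveI : Subsingleton (Sylow p F) := (Nat.card_eq_one_iff_unique.mp h5).1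
    rw [← hS]
    exact S.normal_of_subsingleton
  haveI : IsCyclic P' :=
    (Subgroup.subgroupOfEquivOfLe hcy.le_centralizer).isCyclic.mpr hcyc
  haveI := hQ
  let σ : Q ≃* P' := mulEquivOfCyclicCardEq (hQcard.trans hP'card.symm)
  -- the two groups of automorphisms
  let αP : MulAut P' := autOf hcy.le_centralizer hnorm
  let αG : MulAut Q := (MulAut.congr σ).symm αP
  have hαG : ∀ (i : ℕ) (u : Q), σ ((αG ^ i) u) = (αP ^ i) (σ u) := by
    intro i u
    show σ (((MulAut.congr σ).symm αP ^ i) u) = _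
    rw [← map_pow]
    simp [MulAut.congr]
  have hαP : ∀ (i : ℕ) (v : P'), ((((αP ^ i) v : P') : Subgroup.centralizer
      (Subgroup.zpowers z : Set G)) : G) =
      h ^ i * ((v : Subgroup.centralizer (Subgroup.zpowers z : Set G)) : G) * (h ^ i)⁻¹ :=
    fun i v => coe_autOf_pow hcy.le_centralizer hnorm i v
  have hiff : ∀ i : ℕ, ∀ u : Q, u ≠ 1 → (αG ^ i) u = u → e ∣ i := by
    intro i u hu hfix
    rw [← hee]
    refine (hO.pow_mem_iff i).mp (hcy.centralizer_le' ?_)
    have h1 := hαP i (σ u)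
    rw [← hαG, hfix] at h1
    refine hinert.1 _ (pow_mem hhP i) _ (σ u).2 (fun e1 => hu ?_)
      (mul_inv_eq_iff_eq_mul.mp h1.symm)
    exact σ.injective (Subtype.ext (Subtype.ext (by rw [map_one]; exact e1)))
  have hpow : ∀ i : ℕ, αG ^ i = 1 ↔ e ∣ i := by
    intro i
    constructor
    · intro h1
      haveI : Nontrivial Q := by
        rw [← Finite.one_lt_card_iff_nontrivial, hQcard]
        haveI : Nontrivial P := (Subgroup.nontrivial_iff_ne_bot P).mpr hP1
        exact Finite.one_lt_card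
      obtain ⟨u, hu⟩ := exists_ne (1 : Q)
      exact hiff i u hu (by rw [h1]; rfl)
    · intro hi
      have hc' : h ^ i ∈ Subgroup.centralizer (P : Set G) :=
        hinert.1 _ (pow_mem hhP i) z hcy.mem hcy.ne_one
          (Subgroup.mem_centralizer_iff.mp ((hO.pow_mem_iff i).mpr (hee ▸ hi)) z
            (Subgroup.mem_zpowers z)).symm
      refine MulEquiv.ext fun u => σ.injective (Subtype.ext (Subtype.ext ?_))
      rw [hαG, hαP]
      show _ = ((σ u : P') : G)
      exact mul_inv_eq_iff_eq_mul.mpr (Subgroup.mem_centralizer_iff.mp hc' _ (σ u).2).symm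
  have hord : orderOf αG = e :=
    Nat.dvd_antisymm (orderOf_dvd_of_pow_eq_one ((hpow e).mpr dvd_rfl))
      ((hpow _).mp (pow_orderOf_eq_one _))
  let φF : F →* MulAut Q := MulAut.conjNormal
  have hker : ∀ f : F, φF f = 1 ↔ f ∈ Q := by
    intro f
    constructor
    · intro h1
      rw [← hQC, Subgroup.mem_centralizer_iff]
      intro u hu
      have h2 : f * u * f⁻¹ = u := by
        have := congrArg (fun a : MulAut Q => ((a ⟨u, hu⟩ : Q) : F)) h1
        simpa [φF] using this
      exact (mul_inv_eq_iff_eq_mul.mp h2).symm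
    · intro hf
      refine MulEquiv.ext fun u => Subtype.ext ?_
      show f * u * f⁻¹ = u
      rw [← hQC] at hf
      rw [← Subgroup.mem_centralizer_iff.mp hf u u.2, mul_inv_cancel_right]
  have hrange : φF.range = Subgroup.zpowers αG := by
    have hcardR : Nat.card φF.range = e := by
      rw [← Subgroup.index_ker, show φF.ker = Q from Subgroup.ext fun f => hker f, hQi]
    by_cases hp2 : p = 2
    · have he1 : e = 1 := Nat.dvd_one.mp (by rw [hp2] at hdvd; exact hdvd)
      rw [Subgroup.eq_bot_of_card_eq _ (hcardR.trans he1),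
        Subgroup.eq_bot_of_card_eq _ ((Nat.card_zpowers αG).trans (hord.trans he1))]
    · haveI : IsCyclic (MulAut Q) := isCyclic_mulAut hp hp2 (hQcard.trans hk)
      exact Cfsg.Agent.S4645.eq_of_card_eq_of_cyclic (Subgroup.topEquiv.isCyclic.mpr inferInstance)
        le_top le_top (hcardR.trans ((Nat.card_zpowers αG).trans hord).symm)
  obtain ⟨f₀, hf₀⟩ : ∃ f₀, φF f₀ = αG := by
    have : αG ∈ φF.range := hrange ▸ Subgroup.mem_zpowers αG
    exact MonoidHom.mem_range.mp this
  have himg : ∀ f : F, ∃ i : ℕ, φF f = αG ^ i := by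
    intro f
    have : φF f ∈ Subgroup.zpowers αG := hrange ▸ ⟨f, rfl⟩
    obtain ⟨i, hi⟩ := (Submonoid.mem_powers_iff _ _).mp
      ((isOfFinOrder_of_finite αG).mem_powers_iff_mem_zpowers.mpr this)
    exact ⟨i, hi.symm⟩
  have hfrob : Frobenius.Frob p Q e f₀ :=
    { pgroup := hQp
      comm := fun a b => by
        letI : CommGroup Q := IsCyclic.commGroup
        exact mul_comm a b
      card := by rw [hQcard, hF]
      not_dvd := hpe
      pos := hepos
      cover := fun f => by
        obtain ⟨i, hi⟩ := himg f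
        exact ⟨i, (hker _).mp (by rw [map_mul, map_inv, map_pow, hf₀, hi, inv_mul_cancel])⟩
      free := fun f u hu hu1 hcomm => by
        obtain ⟨i, hi⟩ := himg f
        have h1 : (αG ^ i) ⟨u, hu⟩ = ⟨u, hu⟩ := by
          rw [← hi]
          exact Subtype.ext (mul_inv_eq_iff_eq_mul.mpr hcomm)
        exact (hker f).mp (hi.trans
          ((hpow i).mpr (hiff i ⟨u, hu⟩ (fun e => hu1 (congrArg Subtype.val e)) h1)))
      nontrivial := by
        rw [hQcard]
        haveI : Nontrivial P := (Subgroup.nontrivial_iff_ne_bot P).mpr hP1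
        exact Finite.one_lt_card }
  -- the action on the linear characters
  let act : ℕ → Cfsg.IrrCharacter P' → Cfsg.IrrCharacter P' := fun i l => pull (αP ^ i).symm l
  have hact : ∀ (i : ℕ) (l : Cfsg.IrrCharacter P'),
      cj hcy (pow_mem hh i) (Φ l : Cfsg.IrrCharacter _) = Φ (act i l) := fun i l =>
    hΦeq (h ^ i) (pow_mem hh i) (pow_mem hhP i) l (act i l) fun v v' hv => by
      show (l : P' → ℂ) ((αP ^ i).symm v') = _
      refine congrArg _ ((MulEquiv.symm_apply_eq _).mpr (Subtype.ext (Subtype.ext ?_)))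
      rw [hαP, hv]
  -- the indices
  haveI := Fintype.ofFinite (toSet (bz hcy))
  obtain ⟨r, hr, hfib, hJ, hne⟩ := Sides.exists_map hM hO
  rw [hee] at hfib hJ
  set j₀ : Cfsg.IrrCharacter P' := oneChar P' with hj₀
  have hΦj₀ : Φ j₀ = ⟨ξ₀, hO.mem₀⟩ := Subtype.ext hΦ1
  have hne₀ : ∀ j, j ≠ j₀ → Φ j ≠ ⟨ξ₀, hO.mem₀⟩ := fun j hj e => hj (Φ.injective (e.trans hΦj₀.symm))
  have hfib' : ∀ A : Qs → ℂ, ∑ j ∈ Finset.univ.erase j₀, A (r (Φ j)) = (e : ℂ) * ∑ q, A q := by
    intro A
    rw [← hfib A]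
    refine Finset.sum_bij (fun j _ => Φ j) (fun j hj => Finset.mem_erase.mpr
      ⟨hne₀ j (Finset.ne_of_mem_erase hj), Finset.mem_univ _⟩)
      (fun a _ b _ e => Φ.injective e) (fun x hx => ⟨Φ.symm x, Finset.mem_erase.mpr
        ⟨fun e => Finset.ne_of_mem_erase hx (by rw [← hΦj₀, ← e, Φ.apply_symm_apply]),
          Finset.mem_univ _⟩, Φ.apply_symm_apply x⟩) fun j _ => rfl
  have hJ' : Fintype.card (Cfsg.IrrCharacter P') = e * Fintype.card Qs + 1 :=
    (Fintype.card_congr Φ).trans hJ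
  obtain ⟨X, Y, δ, δ₀, y, hG⟩ := Sides.exists_side hM hO j₀ (fun j => r (Φ j))
    (fun j => (Φ j : Cfsg.IrrCharacter _))
    ⟨fun j _ => (Φ j).2, fun a _ b _ e => Φ.injective (Subtype.ext e),
      fun x hx => ⟨Φ.symm ⟨x, hx⟩, trivial, by simp⟩⟩ hΦ1 (Equiv.refl _)
    fun j hj => hr (Φ j) (hne₀ j hj)
  rw [hee] at hG
  let qF : Qs → Cfsg.IrrCharacter P' := fun q => Φ.symm ⟨q, hO.subset q q.2⟩
  have hqF : ∀ q : Qs, (Φ (qF q)).1 = q.1 := fun q => by
    simp only [qF, Equiv.apply_symm_apply]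
  have huniq : ∀ (a b : Qs) (i : ℕ), cj hcy (pow_mem hh i) (a : _) = b → e ∣ i ∧ a = b := by
    intro a b i hi
    obtain ⟨k, hk, hkC⟩ := hO.cover _ (pow_mem hh i)
    rw [cj_eq_of_cover hcy hh (pow_mem hh i) hkC] at hi
    obtain ⟨rfl, h2⟩ := hO.unique a a.2 b b.2 k hk hi
    rw [pow_zero, inv_one, one_mul] at hkC
    exact ⟨hee ▸ (hO.pow_mem_iff i).mp hkC, Subtype.ext h2⟩
  obtain ⟨X', Y', δ', δ₀', y', hH, hsgn⟩ := Frobenius.exists_side hM hfrob j₀ (fun j => r (Φ j)) qF
    (fun j => pull σ j)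
    ⟨fun a b e => Subtype.ext (funext fun v => by
      simpa [pull_apply] using congrArg (fun χ : Cfsg.IrrCharacter Q => (χ : Q → ℂ) (σ.symm v)) e),
      fun l => ⟨pull σ.symm l, Subtype.ext (funext fun u => by simp [pull_apply])⟩⟩
    (Subtype.ext (funext fun u => by rw [pull_apply]; rfl))
    (fun q => by
      have hne' : Φ (qF q) ≠ ⟨ξ₀, hO.mem₀⟩ := fun e => hO.notMem₀ (by
        have := congrArg Subtype.val e
        rw [hqF] at this
        have e' : q.1 = ξ₀ := this
        exact e' ▸ q.2)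
      obtain ⟨i, hi⟩ := hr (Φ (qF q)) hne'
      rw [hqF] at hi
      exact (huniq _ q i hi.symm).2)
    (fun q e => hO.notMem₀ (by
      have := hqF q
      rw [e, hΦj₀] at this
      have e' : ξ₀ = q.1 := this
      exact e'.symm ▸ q.2))
    (fun j hj => by
      obtain ⟨i, hi⟩ := hr (Φ j) (hne₀ j hj)
      have hj' : j = act i (qF (r (Φ j))) :=
        Φ.injective (Subtype.ext (by rw [← hact, hqF, ← hi]))
      refine ⟨(f₀ ^ i)⁻¹, funext fun u => ?_⟩
      conv_rhs => rw [hj']
      show (qF (r (Φ j)) : P' → ℂ) (σ (φF (f₀ ^ i)⁻¹ u)) =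
        (qF (r (Φ j)) : P' → ℂ) ((αP ^ i).symm (σ u))
      refine congrArg _ ((MulEquiv.eq_symm_apply _).mpr ?_)
      rw [← hαG, map_inv, map_pow, hf₀]
      exact congrArg σ (MulEquiv.apply_symm_apply (αG ^ i) u))
    (fun a b f hf => by
      obtain ⟨i, hi⟩ := himg f
      have ha : qF a = act i (qF b) := Subtype.ext (funext fun v => by
        obtain ⟨u, rfl⟩ := (αP ^ i).surjective v
        obtain ⟨u, rfl⟩ := σ.surjective u
        show _ = (qF b : P' → ℂ) ((αP ^ i).symm ((αP ^ i) (σ u)))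
        rw [MulEquiv.symm_apply_apply]
        refine Eq.trans ?_ (congrFun hf u)
        show _ = (qF a : P' → ℂ) (σ (φF f u))
        rw [hi, hαG])
      have h1 : cj hcy (pow_mem hh i) (b : _) = a := by
        rw [← hqF b, hact, ← ha, hqF]
      obtain ⟨h2, h3⟩ := huniq b a i h1
      exact ⟨h3.symm, (hker f).mp (hi.trans ((hpow i).mpr h2))⟩)
    hfib' hJ'
  obtain ⟨I, ε, hiso, hε⟩ := Isometry.exists_isometry hM hpe hfib' hJ' hG hH (by
    intro t s _ _
    simp only [pull_apply]
    refine ⟨(hΦpair t (σ s)).1, ?_⟩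
    rw [show Nat.card (Subgroup.centralizer ({s} : Set Q)) = Nat.card P from ?_]
    · exact (hΦpair t (σ s)).2
    · rw [show Subgroup.centralizer ({s} : Set Q) = ⊤ from eq_top_iff.mpr fun a _ =>
        Subgroup.mem_centralizer_singleton_iff.mpr (hfrob.comm a s),
        Subgroup.card_top, hQcard])
  rw [toSet_blk] at hiso
  exact ⟨I, ε, hiso, fun η η' hη hη' => by rw [hε η (hsgn η hη), hε η' (hsgn η' hη')]⟩

end Cfsg.Agent.S4634
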