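import Cfsg.Statements.S4635
import Cfsg.Agent.Lib.CyclicBlocks.Normalizer
import Cfsg.Agent.Lib.BrauerPairs.Kernel

set_option autoImplicit false
open Cfsg

namespace Cfsg.Agent.S4635

open Cfsg.Agent.Lib.BrauerPairs Cfsg.Agent.Lib.BrauerPairs.Center Cfsg.Agent.Lib.BrauerPairs.Bridge
open Cfsg.Agent.Lib.BrauerPairs.Pairs Cfsg.Agent.Lib.BrauerPairs.Maximal
open Cfsg.Agent.Lib.BrauerPairs.Trunc Cfsg.Agent.Lib.BrauerPairs.Transport
open Cfsg.Agent.Lib.BrauerPairs.Embed Cfsg.Agent.Lib.BrauerPairs.Abelian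
open Cfsg.Agent.Lib.BrauerMap.Basic
open Cfsg.Agent.Lib.BrauerPairs.Local
open Cfsg.Agent.Lib.CyclicBlocks Cfsg.Agent.Lib.CyclicBlocks.Local

attribute [local instance] Ideal.Quotient.field

/-- Let B be a block of the finite group G relative to a maximal ideal M of the algebraic integers containing the prime p, with a nontrivial cyclic defect group P; let Z be the subgroup of order p of P and H = N_G(Z), which contains N_G(P). Let c be the block of H with defect group P that induces B. Then B and c contain the same number of irreducible characters, have the same p-regular rank, and there is a perfect isometry from c onto B. -/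
theorem result {G : Type*} [Group G] [Finite G] (p : ℕ) [Fact p.Prime] (M : Ideal Cfsg.AlgInt) (hM : Cfsg.IsPModular p M) (B : Set (Cfsg.IrrCharacter G)) (hB : Cfsg.IsPBlock M B) (P : Subgroup G) (hPD : Cfsg.IsDefectGroup p M B P) (hP1 : P ≠ ⊥) (hcyc : IsCyclic P) (Z : Subgroup G) (hZ : Z ≤ P) (hZcard : Nat.card Z = p) (H : Subgroup G) (hH : H = Subgroup.normalizer (Z : Set G)) (c : Set (Cfsg.IrrCharacter H)) (hcD : Cfsg.IsDefectGroup p M c (P.subgroupOf H)) (hc : Cfsg.IsInducedBlock M H c B) : Nat.card c = Nat.card B ∧ Cfsg.blockRank p c = Cfsg.blockRank p B ∧ ∃ (I : Cfsg.IrrCharacter H → Cfsg.IrrCharacter G) (ε : Cfsg.IrrCharacter H → ℤ), Cfsg.IsPerfectIsometry p M c B I ε := by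
  classical
  haveI : M.IsMaximal := hM.2.1
  haveI : CharP (Res M) p := charP_res hM
  haveI := Fintype.ofFinite G
  haveI := Fintype.ofFinite H
  have hp : p.Prime := Fact.out
  haveI : Nontrivial Z := Finite.one_lt_card_iff_nontrivial.mp (hZcard ▸ hp.one_lt)
  obtain ⟨z₁, hz₁⟩ := exists_prime_orderOf_dvd_card' (G := Z) p hZcard.symm.dvd
  obtain ⟨z, hzdef⟩ : ∃ z : G, z = (z₁ : G) := ⟨_, rfl⟩
  have hzo : orderOf z = p := by rw [hzdef, Subgroup.orderOf_coe, hz₁]
  obtain rfl : Z = Subgroup.zpowers z :=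
    (Subgroup.eq_of_le_of_card_ge (Subgroup.zpowers_le.mpr (hzdef ▸ z₁.2))
      (by rw [Nat.card_zpowers, hzo, hZcard])).symm
  have hcomm : ∀ x ∈ P, ∀ y ∈ P, x * y = y * x := fun x hx y hy => by
    haveI := hcyc
    letI : CommGroup P := IsCyclic.commGroup
    exact congrArg Subtype.val (mul_comm (⟨x, hx⟩ : P) ⟨y, hy⟩)
  have hzP : z ∈ P := hZ (Subgroup.mem_zpowers z)
  have hPH : P ≤ H := by
    rw [hH]
    exact (le_centralizer_of_le_abelian hcomm hZ).trans (Subgroup.centralizer_le_normalizer _)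
  have hCP : Subgroup.centralizer (P : Set G) ≤ H := by
    rw [hH]
    exact (centralizer_anti hZ).trans (Subgroup.centralizer_le_normalizer _)
  have hmap : (P.subgroupOf H).map H.subtype = P := Subgroup.map_subgroupOf_eq_of_le hPH
  have hval := Kernel.exists_val_isDef hc.1 hcD (by rw [hmap]; exact hCP)
  rw [hmap] at hval
  obtain ⟨ν, hν⟩ := hval
  have hD := (isDefectGroup_iff hB P).mp hPD
  have hpairG := Kernel.pairOf_of_induced hD.isPGroup hPH hCP hc hν
  have hD' := (isDefectGroup_iff hc.1 _).mp hcD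
  have hpairH : PairOf p (blk hc.1)
      (⟨P.subgroupOf H, down hPH hCP ν⟩ : Idx (Res M) H) :=
    ⟨hD'.isPGroup,
      (val_down hPH hCP ν (isFixedBy_of_mem_center _ (bidem_mem _))).trans hν⟩
  have hzH : z ∈ H := hPH hzP
  have hcy : Cyc p (blk hB) P ν z := ⟨top_of_isDef hpairG hD, hpairG, hcyc, hzP, hzo⟩
  have hcy' : Cyc p (blk hc.1) (P.subgroupOf H) (down hPH hCP ν) (⟨z, hzH⟩ : H) :=
    ⟨top_of_isDef hpairH hD', hpairH,
      (Subgroup.subgroupOfEquivOfLe hPH).isCyclic.mpr hcyc, hzP,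
      (Subgroup.orderOf_coe (⟨z, hzH⟩ : H)).symm.trans hzo⟩
  have h := Normalizer.exists_isometry hM hcy hcy' rfl hPH hCP hH rfl
  rwa [toSet_blk, toSet_blk] at h

end Cfsg.Agent.S4635
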