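import Cfsg.Statements.S4636

set_option autoImplicit false
open scoped Pointwise
open Cfsg

namespace Cfsg.Agent.S4636

theorem eq_of_card {G : Type*} [Group G] [Finite G] (P S Z : Subgroup G) [IsCyclic P]
    (hS : S ≤ P) (hZ : Z ≤ P) (h : Nat.card S = Nat.card Z) : S = Z := by
  have h' : Nat.card (S.subgroupOf P) = Nat.card (Z.subgroupOf P) := by
    rw [Nat.card_congr (Subgroup.subgroupOfEquivOfLe hS).toEquiv,
      Nat.card_congr (Subgroup.subgroupOfEquivOfLe hZ).toEquiv, h]
  classical
  haveI := Fintype.ofFinite P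
  have key : ∀ A : Subgroup P, (A : Set P).toFinset =
      Finset.univ.filter (fun a : P => a ^ Nat.card A = 1) := by
    intro A
    refine Finset.eq_of_subset_of_card_le ?_ ?_
    · intro a ha
      rw [Set.mem_toFinset] at ha
      refine Finset.mem_filter.mpr ⟨Finset.mem_univ _, ?_⟩
      exact orderOf_dvd_iff_pow_eq_one.mp (A.orderOf_dvd_natCard ha)
    · refine le_trans (IsCyclic.card_pow_eq_one_le Nat.card_pos) ?_
      rw [Set.toFinset_card, Nat.card_eq_fintype_card]
      exact le_rfl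
  have this : S.subgroupOf P = Z.subgroupOf P :=
    SetLike.coe_injective (Set.toFinset_inj.mp (by rw [key, key, h']))
  have h2 := congrArg (Subgroup.map P.subtype) this
  rwa [Subgroup.map_subgroupOf_eq_of_le hS, Subgroup.map_subgroupOf_eq_of_le hZ] at h2

theorem exists_card_eq_prime {G : Type*} [Group G] [Finite G] (p : ℕ) [Fact p.Prime]
    (D : Subgroup G) (hD : IsPGroup p D) (h : D ≠ ⊥) :
    ∃ S : Subgroup G, S ≤ D ∧ Nat.card S = p := by
  haveI : Nontrivial D := (Subgroup.nontrivial_iff_ne_bot D).mpr h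
  obtain ⟨n, hn, hc⟩ := hD.nontrivial_iff_card.mp inferInstance
  obtain ⟨y, hy⟩ := exists_prime_orderOf_dvd_card' (G := D) p (hc ▸ dvd_pow_self p hn.ne')
  refine ⟨Subgroup.zpowers (y : G), Subgroup.zpowers_le.mpr y.2, ?_⟩
  rw [Nat.card_zpowers, Subgroup.orderOf_coe, hy]

/-- Let P be a nontrivial cyclic p-subgroup of the finite group G and Z its subgroup of order p. For every x outside N_G(Z), P meets its conjugate xPx⁻¹ trivially; consequently N_G(Q) ≤ N_G(Z) for every nontrivial subgroup Q of P. -/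
theorem result {G : Type*} [Group G] [Finite G] (p : ℕ) [Fact p.Prime] (P : Subgroup G) (hP : IsPGroup p P) (hP1 : P ≠ ⊥) (hcyc : IsCyclic P) (Z : Subgroup G) (hZ : Z ≤ P) (hZcard : Nat.card Z = p) : (∀ x : G, x ∉ Subgroup.normalizer (Z : Set G) → P ⊓ MulAut.conj x • P = ⊥) ∧ ∀ Q : Subgroup G, Q ≤ P → Q ≠ ⊥ → Subgroup.normalizer (Q : Set G) ≤ Subgroup.normalizer (Z : Set G) := by
  haveI : IsCyclic P := hcyc
  have key : ∀ x : G, P ⊓ MulAut.conj x • P ≠ ⊥ →
      x ∈ Subgroup.normalizer (Z : Set G) := by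
    intro x hx
    obtain ⟨S, hS, hSc⟩ := exists_card_eq_prime p (P ⊓ MulAut.conj x • P)
      (hP.to_le inf_le_left) hx
    have h1 : S = Z := eq_of_card P S Z (hS.trans inf_le_left) hZ (hSc.trans hZcard.symm)
    have h2 : MulAut.conj x • Z = Z := by
      have h3 : (MulAut.conj x)⁻¹ • S = Z := by
        refine eq_of_card P _ Z ?_ hZ ?_
        · rw [Subgroup.subset_pointwise_smul_iff.symm]
          exact hS.trans inf_le_right
        · rw [← Nat.card_congr (Subgroup.equivSMul (MulAut.conj x)⁻¹ S).toEquiv, hSc, hZcard]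
      rw [h1, inv_smul_eq_iff] at h3
      exact h3.symm
    rw [Subgroup.mem_normalizer_iff]
    intro z
    constructor
    · intro hz
      rw [← h2]
      exact ⟨z, hz, rfl⟩
    · intro hz
      rw [← h2] at hz
      obtain ⟨y, hy, hye⟩ := hz
      have : y = z := (MulAut.conj x).injective hye
      exact this ▸ hy
  refine ⟨fun x hx => Classical.byContradiction fun h => hx (key x h), fun Q hQ hQ1 g hg => key g ?_⟩
  intro h
  apply hQ1
  rw [eq_bot_iff]
  refine le_trans (le_inf hQ ?_) h.le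
  intro q hq
  exact ⟨g⁻¹ * q * g, hQ ((Subgroup.mem_normalizer_iff.mp hg _).mpr (by simpa [mul_assoc] using hq)),
    by simp [mul_assoc]⟩

end Cfsg.Agent.S4636
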