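import Cfsg.Statements.S4638
import Cfsg.Agent.Lib.PerfectIso.Klein
import Cfsg.Agent.Lib.PerfectIso.Match
import Cfsg.Agent.Lib.Blocks.FirstMain
import Cfsg.Agent.Lib.BrauerPairs.LocalAbelian

set_option autoImplicit false
set_option linter.style.haveILetI false
open Cfsg

namespace Cfsg.Agent.S4638

open Cfsg.Agent.Lib.PerfectIso
open Cfsg.Agent.Lib.BrauerPairs Cfsg.Agent.Lib.BrauerPairs.Center
open Cfsg.Agent.Lib.BrauerPairs.Trunc Cfsg.Agent.Lib.BrauerPairs.Conj
open Cfsg.Agent.Lib.BrauerPairs.Pairs Cfsg.Agent.Lib.BrauerPairs.Transport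
open Cfsg.Agent.Lib.BrauerPairs.Maximal Cfsg.Agent.Lib.BrauerPairs.Bridge
open Cfsg.Agent.Lib.BrauerPairs.Embed Cfsg.Agent.Lib.BrauerPairs.Local
open Cfsg.Agent.Lib.BrauerPairs.Fusion Cfsg.Agent.Lib.BrauerPairs.LocalAbelian
open Cfsg.Agent.Lib.BrauerPairs.SubsectionCount Cfsg.Agent.Lib.BrauerPairs.RankAbelian
open Cfsg.Agent.Lib.Blocks

attribute [local instance] Ideal.Quotient.field


/-- Let B be a block of the finite group G relative to a maximal ideal M of the algebraic integers containing 2, with a Klein four defect group P, and let c be its Brauer correspondent: the block of N_G(P) with defect group P that induces B. Then there is a perfect isometry from c onto B. -/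
theorem result {G : Type*} [Group G] [Finite G] (M : Ideal Cfsg.AlgInt) (hM : Cfsg.IsPModular 2 M) (B : Set (Cfsg.IrrCharacter G)) (hB : Cfsg.IsPBlock M B) (P : Subgroup G) (hPD : Cfsg.IsDefectGroup 2 M B P) (hV : IsKleinFour P) (c : Set (Cfsg.IrrCharacter (Subgroup.normalizer (P : Set G)))) (hcD : Cfsg.IsDefectGroup 2 M c (P.subgroupOf (Subgroup.normalizer (P : Set G)))) (hc : Cfsg.IsInducedBlock M (Subgroup.normalizer (P : Set G)) c B) : ∃ (I : Cfsg.IrrCharacter (Subgroup.normalizer (P : Set G)) → Cfsg.IrrCharacter G) (ε : Cfsg.IrrCharacter (Subgroup.normalizer (P : Set G)) → ℤ), Cfsg.IsPerfectIsometry 2 M c B I ε := by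
  classical
  haveI : Fact (Nat.Prime 2) := ⟨Nat.prime_two⟩
  haveI : M.IsMaximal := hM.2.1
  haveI : CharP (Res M) 2 := charP_res hM
  haveI := Fintype.ofFinite G
  haveI := Fintype.ofFinite (Subgroup.normalizer (P : Set G))
  haveI := hV
  have hP : IsPGroup 2 P := ((isDefectGroup_iff hB P).mp hPD).isPGroup
  have hc1 := hc.1
  obtain ⟨f, hf, htop⟩ := exists_pair_of_isDef ((isDefectGroup_iff hc1 _).mp hcD)
  have hind := isInducedBlock_toSet_pairBlk hP hf
  rw [toSet_blk] at hind
  obtain ⟨ψ, hψ, rfl⟩ : ∃ ψ : Blk (Res M) G, PairOf 2 ψ (⟨P, f⟩ : Idx (Res M) G) ∧ B = toSet ψ :=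
    ⟨_, pairOf_iff.mpr ⟨hP, rfl⟩, eq_of_isInducedBlock hc hind⟩
  obtain ⟨φ, hφ, rfl⟩ : ∃ φ : Blk (Res M) (Subgroup.normalizer (P : Set G)),
      PairOf 2 φ (⟨P.subgroupOf (Subgroup.normalizer (P : Set G)),
        down Subgroup.le_normalizer (Subgroup.centralizer_le_normalizer _) f⟩ :
          Idx (Res M) (Subgroup.normalizer (P : Set G))) ∧ c = toSet φ :=
    ⟨blk hc1, hf, (toSet_blk hc1).symm⟩
  have htop' : Top 2 (⟨P.subgroupOf (Subgroup.normalizer (P : Set G)),
      down Subgroup.le_normalizer (Subgroup.centralizer_le_normalizer _) f⟩ :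
        Idx (Res M) (Subgroup.normalizer (P : Set G))) :=
    (top_down_iff Subgroup.le_normalizer le_rfl f).mpr htop
  let θ := Subgroup.subgroupOfEquivOfLe (Subgroup.le_normalizer (H := P))
  have hV' : IsKleinFour (P.subgroupOf (Subgroup.normalizer (P : Set G))) :=
    ⟨(Nat.card_congr θ.toEquiv).trans IsKleinFour.card_four,
      (Monoid.exponent_eq_of_mulEquiv θ).trans IsKleinFour.exponent_two⟩
  obtain ⟨R, hR⟩ := exists_orbitReps (p := 2) (⟨P, f⟩ : Idx (Res M) G)
  obtain ⟨R', hR'⟩ := exists_orbitReps (p := 2) (⟨P.subgroupOf (Subgroup.normalizer (P : Set G)),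
      down Subgroup.le_normalizer (Subgroup.centralizer_le_normalizer _) f⟩ :
        Idx (Res M) (Subgroup.normalizer (P : Set G)))
  obtain ⟨hfree, hR13, hR3⟩ := klein_stab htop hV hR
  obtain ⟨hfree', hR13', hR3'⟩ := klein_stab htop' hV' hR'
  have hiff : R.card = 3 ↔ R'.card = 3 := by
    rw [hR3, hR3']
    refine ⟨fun h x hx => (mem_centralizer_subgroupOf_iff Subgroup.le_normalizer x).mpr
      (h _ ((mem_stab_down_iff Subgroup.le_normalizer (Subgroup.centralizer_le_normalizer _) f
        x).mp hx)), fun h x hx => ?_⟩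
    have hxN : x ∈ Subgroup.normalizer (P : Set G) := stab_le_normalizer _ hx
    exact (mem_centralizer_subgroupOf_iff Subgroup.le_normalizer ⟨x, hxN⟩).mp (h _
      ((mem_stab_down_iff Subgroup.le_normalizer (Subgroup.centralizer_le_normalizer _) f
        ⟨x, hxN⟩).mpr hx))
  obtain ⟨d, hd, hpm⟩ := klein_data hM htop hψ hV hR
  obtain ⟨d', hd', hpm'⟩ := klein_data hM htop' hφ hV' hR'
  have hk := klein_card hM htop hψ hV hR
  have hk' := klein_card hM htop' hφ hV' hR'
  haveI : Nonempty (Cfsg.IrrCharacter G) := ⟨⟨_, (Lib.Characters.Basic.oneChar G).2⟩⟩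
  suffices ∃ (I : Cfsg.IrrCharacter (Subgroup.normalizer (P : Set G)) → Cfsg.IrrCharacter G)
      (ε : Cfsg.IrrCharacter (Subgroup.normalizer (P : Set G)) → ℤ),
      Matches (toSet ψ) (toSet φ) d d' I ε by
    obtain ⟨I, ε, h⟩ := this
    exact ⟨I, ε, isPerfectIsometry_of_match h (isPBlock_toSet ψ) (isPBlock_toSet φ) hd hd'⟩
  rcases hR13 with h1 | h3
  · have h1' : R'.card = 1 := hR13'.resolve_right fun h => by have := hiff.mpr h; omega
    obtain ⟨r, rfl⟩ := Finset.card_eq_one.mp h1
    obtain ⟨r', rfl⟩ := Finset.card_eq_one.mp h1'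
    exact exists_match_one (r := ⟨r, Finset.mem_singleton_self r⟩)
      (r' := ⟨r', Finset.mem_singleton_self r'⟩)
      (fun s => Subtype.ext (Finset.mem_singleton.mp s.2))
      (fun s => Subtype.ext (Finset.mem_singleton.mp s.2))
      (hpm _) (hpm' _) (hk'.trans hk.symm)
  · have h3' := hiff.mp h3
    have hdef : Cfsg.blockDefect 2 (toSet ψ) = 2 := by
      have h := card_top hM htop hψ
      rw [IsKleinFour.card_four] at h
      exact Nat.pow_right_injective le_rfl (show 2 ^ _ = 2 ^ 2 from h.symm)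
    have hdef' : Cfsg.blockDefect 2 (toSet φ) = 2 := by
      have h := card_top hM htop' hφ
      rw [hV'.card_four] at h
      exact Nat.pow_right_injective le_rfl (show 2 ^ _ = 2 ^ 2 from h.symm)
    have hl : Cfsg.blockRank 2 (toSet ψ) = 1 := by
      have h := card_eq_of_free hM htop hψ (comm_of_klein hV) hfree hR
      omega
    have hl' : Cfsg.blockRank 2 (toSet φ) = 1 := by
      have h := card_eq_of_free hM htop' hφ (comm_of_klein hV') hfree' hR'
      omega
    let σ := (Finset.equivFinOfCardEq h3).symm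
    let σ' := (Finset.equivFinOfCardEq h3').symm
    exact exists_match_three σ σ'
      (exists_frame_of_data hd (isPBlock_toSet ψ) hl (by rw [hk, hdef]; norm_num) hk hpm σ)
      (exists_frame_of_data hd' (isPBlock_toSet φ) hl' (by rw [hk', hdef']; norm_num) hk' hpm' σ')

end Cfsg.Agent.S4638
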