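import Cfsg.Statements.S4639
import Cfsg.Agent.Lib.FreeAbelian.Block

set_option autoImplicit false
open Cfsg
open Cfsg.Agent.Lib.BrauerPairs Cfsg.Agent.Lib.BrauerPairs.Center Cfsg.Agent.Lib.BrauerPairs.Pairs
  Cfsg.Agent.Lib.BrauerPairs.Maximal Cfsg.Agent.Lib.BrauerPairs.Bridge Cfsg.Agent.Lib.BrauerPairs.Fusion
  Cfsg.Agent.Lib.BrauerPairs.Local

attribute [local instance] Ideal.Quotient.field

namespace Cfsg.Agent.S4639

/-- Let B be a block of the finite group G relative to a maximal ideal M of the algebraic integers containing the prime p, with a nontrivial commutative defect group P. Let c be a block of C_G(P) inducing B, T the stabilizer of c in N_G(P) and e the index of C_G(P) in T. Suppose that T/C_G(P) is commutative (all commutators of elements of T lie in C_G(P)) and acts freely on the non-identity elements of P (an element of T fixing a non-identity element of P under conjugation lies in C_G(P)). Then B has at most e + (#P − 1)/e irreducible characters and p-regular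 rank at most e; equality holds in the first bound exactly when it holds in the second; and both equalities hold when e ≤ 3. -/
theorem result {G : Type*} [Group G] [Finite G] (p : ℕ) [Fact p.Prime] (M : Ideal Cfsg.AlgInt) (hM : Cfsg.IsPModular p M) (B : Set (Cfsg.IrrCharacter G)) (hB : Cfsg.IsPBlock M B) (P : Subgroup G) (hPD : Cfsg.IsDefectGroup p M B P) (hP1 : P ≠ ⊥) (hPab : ∀ x ∈ P, ∀ y ∈ P, x * y = y * x) (c : Set (Cfsg.IrrCharacter (Subgroup.centralizer (P : Set G)))) (hc : Cfsg.IsInducedBlock M (Subgroup.centralizer (P : Set G)) c B) (T : Subgroup G) (hT : ∀ g : G, g ∈ T ↔ (g ∈ Subgroup.normalizer (P : Set G) ∧ Cfsg.StabilizesBlock (Subgroup.centralizer (P : Set G)) c g)) (e : ℕ) (he : (Subgroup.centralizer (P : Set G)).relIndex T = e) (hEab : ∀ g ∈ T, ∀ h ∈ T, g * h * g⁻¹ * h⁻¹ ∈ Subgroup.centralizer (P : Set G)) (hfree : ∀ g ∈ T, ∀ x ∈ P, x ≠ 1 → g * x * g⁻¹ = x → g ∈ Subgroup.centralizer (P : Set G)) : Nat.card B ≤ e + (Nat.card P - 1) / e ∧ Cfsg.blockRank p B ≤ e ∧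 (Nat.card B = e + (Nat.card P - 1) / e ↔ Cfsg.blockRank p B = e) ∧ (e ≤ 3 → Nat.card B = e + (Nat.card P - 1) / e ∧ Cfsg.blockRank p B = e) := by
  haveI : M.IsMaximal := hM.2.1
  haveI : CharP (Res M) p := charP_res hM
  haveI := Fintype.ofFinite G
  have hP : IsPGroup p P :=
    ((isDefectGroup_iff hB P).mp hPD).isPGroup
  have hcb : Cfsg.IsPBlock M c := hc.1
  have hψ : PairOf p (blk hB) (⟨P, blk hcb⟩ : Idx (Res M) G) :=
    (InducedPair.isInducedBlock_iff hP hcb hB).mp hc
  have htop : Top p (⟨P, blk hcb⟩ : Idx (Res M) G) :=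
    top_of_isDef hψ ((isDefectGroup_iff hB P).mp hPD)
  have hTs : T = stab (⟨P, blk hcb⟩ : Idx (Res M) G) := by
    ext g
    rw [hT, mem_stab_iff]
    constructor
    · rintro ⟨hg, hs⟩
      exact ⟨hg, (act_eq_iff hg _).mp ((stabilizesBlock_iff hcb hg).mp hs)⟩
    · rintro ⟨hg, hs⟩
      exact ⟨hg, (stabilizesBlock_iff hcb hg).mpr ((act_eq_iff hg _).mpr hs)⟩
  subst hTs
  have hfree' : ∀ x ∈ stab (⟨P, blk hcb⟩ : Idx (Res M) G), ∀ u ∈ P, u ≠ 1 → x * u = u * x →
      x ∈ Subgroup.centralizer (P : Set G) := fun x hx u hu hu1 h =>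
    hfree x hx u hu hu1 (by rw [h, mul_inv_cancel_right])
  obtain ⟨m, hm, hq, hkl, hle, h3⟩ :=
    Cfsg.Agent.Lib.FreeAbelian.Block.counts hM htop hψ hPab hfree' hP1
  rw [Cfsg.Agent.Lib.FreeAbelian.Block.card_autHom_range, he] at hq hle h3
  rw [toSet_blk hB] at hkl hle h3
  have he0 : 0 < e := by
    rcases Nat.eq_zero_or_pos e with h | h
    · exfalso
      rw [← Cfsg.Agent.Lib.FreeAbelian.Block.card_autHom_range] at he
      rw [h] at he
      exact Nat.card_pos.ne' he
    · exact h
  have hdiv : (Nat.card P - 1) / e = m := by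
    rw [← hq, Nat.add_sub_cancel, Nat.mul_div_cancel_left m he0]
  rw [hdiv]
  refine ⟨hle, by omega, by omega, fun h => ?_⟩
  have := h3 h
  omega

end Cfsg.Agent.S4639
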