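import Cfsg.Statements.S4640
import Cfsg.Agent.Lib.BrauerPairs.PIndex
import Cfsg.Agent.S4672
import Cfsg.Agent.S4432
import Cfsg.Agent.Lib.BrauerPairs.SubsectionCount
import Cfsg.Agent.Lib.Blocks.MajorSection
import Cfsg.Agent.Lib.Isometry.Clifford
import Cfsg.Agent.Lib.BlocksChars5.Restrict

set_option autoImplicit false
open Cfsg

namespace Cfsg.Agent.S4640

open Cfsg.Agent.Lib.BrauerPairs Cfsg.Agent.Lib.BrauerPairs.Center
open Cfsg.Agent.Lib.BrauerPairs.Trunc Cfsg.Agent.Lib.BrauerPairs.Conj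
open Cfsg.Agent.Lib.BrauerPairs.Pairs Cfsg.Agent.Lib.BrauerPairs.Transport
open Cfsg.Agent.Lib.BrauerPairs.Maximal Cfsg.Agent.Lib.BrauerPairs.Bridge
open Cfsg.Agent.Lib.BrauerPairs.Local
open Cfsg.Agent.Lib Cfsg.Agent.Lib.Blocks.Contrib Cfsg.Agent.Lib.Blocks.SectionMatrix
open scoped ComplexConjugate

attribute [local instance] Ideal.Quotient.field

universe u

/-- A character vanishing on a section has contribution zero there. -/
theorem cX_self_eq_zero {G : Type u} [Group G] [Fintype G] {p : ℕ} [Fact p.Prime]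
    {M : Ideal Cfsg.AlgInt} [M.IsMaximal] {H : Subgroup G} [Fintype H] (hM : Cfsg.IsPModular p M)
    {b : Set (Cfsg.IrrCharacter H)} (hb : Cfsg.IsPBlock M b) {x : H} (hx : Pelt p x)
    (χ : Cfsg.IrrCharacter G)
    (h : ∀ s : H, ¬ p ∣ orderOf s → (χ : G → ℂ) ((x : G) * (s : G)) = 0) :
    cX p b x χ χ = 0 := by
  classical
  haveI := Fintype.ofFinite (Cfsg.IrrCharacter H)
  rw [cX]
  refine Finset.sum_eq_zero fun ζ hζ => ?_
  have h1 := mul_row hM hb hx χ (Lib.Blocks.Contrib.mem_bset.mp hζ)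
  rw [Finset.sum_eq_zero (fun s _ => by
    by_cases hs : p ∣ orderOf s
    · rw [if_pos hs]
    · rw [if_neg hs, h s hs, zero_mul]), mul_eq_zero] at h1
  have h2 := h1.resolve_left (Nat.cast_ne_zero.mpr (primeToCard_pos p).ne')
  rw [← pow_mul_rowq hM hb, mul_eq_zero] at h2
  rw [h2.resolve_left (pow_ne_zero _ (Nat.cast_ne_zero.mpr (Fact.out : p.Prime).ne_zero)),
    zero_mul]

/-- Blocks covering a block whose idempotent is a block idempotent of the whole group. -/
theorem covering_unique {G : Type u} [Group G] [Fintype G] {p : ℕ} [Fact p.Prime]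
    {M : Ideal Cfsg.AlgInt} [M.IsMaximal] [CharP (Res M) p] {N : Subgroup G} [N.Normal] [Fintype N]
    {B B' : Set (Cfsg.IrrCharacter G)} (hB : Cfsg.IsPBlock M B) (hB' : Cfsg.IsPBlock M B')
    {b : Set (Cfsg.IrrCharacter N)} (hb : Cfsg.IsPBlock M b)
    (hco : ∀ g : G, Cfsg.blockCoeff B g = Cfsg.subgroupBlockCoeff N b g)
    (hcov : ∃ χ ∈ B', ∃ θ ∈ b, Cfsg.classInner (fun n : N => (χ : G → ℂ) n) (θ : N → ℂ) ≠ 0) :
    B' = B := by
  have hBe : bidem (blk hB) = bext N (blk hb) := by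
    ext g
    rw [coeff_bidem hB g, coeff_bext hb g]
    exact congrArg _ (Subtype.ext (hco g))
  have h := (NormalCover.covers_iff_constituent N hB' hb).mp hcov
  rw [NormalCover.Covers, ← hBe] at h
  have he : blk hB' = blk hB := by
    by_contra hne
    exact h (congrArg Subtype.val (idem_mul_idem hne))
  rw [← toSet_blk hB', ← toSet_blk hB, he]

/-- Off the kernel of a nontrivial linear character of `G/N` a member of `B` does not vanish. -/
theorem mul_hom_ne {G : Type u} [Group G] [Fintype G] {p : ℕ} [Fact p.Prime]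
    {M : Ideal Cfsg.AlgInt} [M.IsMaximal] [CharP (Res M) p] (hM : Cfsg.IsPModular p M)
    {N : Subgroup G} [N.Normal] (hidx : ∃ k : ℕ, N.index = p ^ k)
    {B : Set (Cfsg.IrrCharacter G)} (hB : Cfsg.IsPBlock M B) {P : Subgroup G}
    (hD : IsDef p (blk hB) P) (hab : ∀ x ∈ P, ∀ y ∈ P, x * y = y * x) (htop : N ⊔ P = ⊤)
    {χ : Cfsg.IrrCharacter G} (hχ : χ ∈ B) {l : G →* ℂˣ} (hl : ∀ n ∈ N, l n = 1)
    (hχl : ∀ g, (l g : ℂ) * (χ : G → ℂ) g = (χ : G → ℂ) g) : l = 1 := by
  by_contra hne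
  obtain ⟨u, hu, hlu⟩ : ∃ u ∈ P, l u ≠ 1 := by
    by_contra h
    push Not at h
    apply hne
    refine MonoidHom.ext fun g => ?_
    have hle : N ⊔ P ≤ l.ker := sup_le (fun n hn => hl n hn) (fun u hu => h u hu)
    exact hle (htop ▸ Subgroup.mem_top g)
  obtain ⟨c, hc⟩ := exists_pairOf_isDef hD
  have htp : Top p (⟨P, c⟩ : Idx (Res M) G) := top_of_isDef hc hD
  haveI := Fintype.ofFinite (Subgroup.centralizer (Subgroup.zpowers u : Set G))
  have hdd := SubsectionCount.blockDefect_localBlk hM htp hc hab hu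
  have hind := SubsectionCount.isInducedBlock_localBlk hM htp.1 hc hab hu
  rw [toSet_blk] at hdd hind
  have hx : Pelt p (⟨u, SubsectionCount.le_centralizer_zpowers hab hu hu⟩ :
      Subgroup.centralizer (Subgroup.zpowers u : Set G)) := ⟨by
    obtain ⟨k, hk⟩ := IsPGroup.iff_orderOf.mp htp.1 ⟨u, hu⟩
    exact ⟨k, (Subgroup.orderOf_coe (⟨u, hu⟩ : P)).trans hk⟩, rfl⟩
  refine Lib.Blocks.MajorSection.cX_self_ne_zero hM hx hind hdd hχ
    (cX_self_eq_zero hM hind.1 hx χ fun s hs => ?_)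
  have hsN : (s : G) ∈ N := PIndex.mem_of_regular N hidx (by rwa [Subgroup.orderOf_coe])
  have h1 := hχl (u * (s : G))
  rw [map_mul, hl _ hsN, mul_one] at h1
  by_contra h2
  exact hlu (Units.ext ((mul_eq_right₀ h2).mp h1))

/-- Extension by zero from a subgroup, as a linear map. -/
noncomputable def extZero {G : Type u} [Group G] (N : Subgroup G) : (N → ℂ) →ₗ[ℂ] (G → ℂ) where
  toFun f := Function.extend (fun n : N => (n : G)) f 0
  map_add' f g := by
    classical
    funext x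
    by_cases h : ∃ n : N, (n : G) = x
    · obtain ⟨n, rfl⟩ := h
      simp [Subtype.val_injective.extend_apply]
    · simp [Function.extend_apply' _ _ _ h]
  map_smul' c f := by
    classical
    funext x
    by_cases h : ∃ n : N, (n : G) = x
    · obtain ⟨n, rfl⟩ := h
      simp [Subtype.val_injective.extend_apply]
    · simp [Function.extend_apply' _ _ _ h]

theorem extZero_injective {G : Type u} [Group G] (N : Subgroup G) :
    Function.Injective (extZero N) := fun f g h => funext fun n => by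
  have := congrFun h (n : G)
  simpa [extZero, Subtype.val_injective.extend_apply] using this

theorem extZero_regular {G : Type u} [Group G] {p : ℕ} {N : Subgroup G} {χ : G → ℂ} {θ : N → ℂ}
    (hN : ∀ g : G, ¬ p ∣ orderOf g → g ∈ N) (h : ∀ n : N, χ n = θ n) :
    extZero N (Cfsg.pRegularPart p θ) = Cfsg.pRegularPart p χ := by
  classical
  funext x
  by_cases hx : x ∈ N
  · show Function.extend (fun n : N => (n : G)) (Cfsg.pRegularPart p θ) 0 ((⟨x, hx⟩ : N) : G) = _
    rw [Subtype.val_injective.extend_apply]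
    simp only [Cfsg.pRegularPart, Cfsg.IsPRegular, Subgroup.orderOf_mk, ← h ⟨x, hx⟩]
    congr 1
  · show Function.extend (fun n : N => (n : G)) (Cfsg.pRegularPart p θ) 0 x = _
    rw [Function.extend_apply' _ _ _ (fun ⟨n, hn⟩ => hx (hn ▸ n.2))]
    simp only [Cfsg.pRegularPart, Cfsg.IsPRegular, Pi.zero_apply]
    by_cases h1 : p ∣ orderOf x
    · simp [h1]
    · exact absurd (hN x h1) hx


/-- Let N be a normal subgroup of the finite group G of index a power of the prime p, M a maximal ideal of the algebraic integers containing p, b a block of N stabilized by every element of G, and B a block of G covering b (some member of B has a member of b as a constituent of its restriction to N). Suppose that B has a commutative defect group P. Then G = NP and P ∩ N is a defect group of b; every member of B restricts to a member of b; every member of b is the restriction of exactly [G : N] members of B; B contains exactly [G : N] times as many irreducible characters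 as b; and B and b have the same p-regular rank. -/
theorem result {G : Type*} [Group G] [Fintype G] (p : ℕ) [Fact p.Prime] (M : Ideal Cfsg.AlgInt) (hM : Cfsg.IsPModular p M) (N : Subgroup G) [N.Normal] [Fintype N] (hNi : ∃ k : ℕ, N.index = p ^ k) (b : Set (Cfsg.IrrCharacter N)) (hb : Cfsg.IsPBlock M b) (hstab : ∀ g : G, Cfsg.StabilizesBlock N b g) (B : Set (Cfsg.IrrCharacter G)) (hB : Cfsg.IsPBlock M B) (hcov : ∃ χ ∈ B, ∃ θ ∈ b, Cfsg.classInner (fun n : N => (χ : G → ℂ) n) (θ : N → ℂ) ≠ 0) (P : Subgroup G) (hPD : Cfsg.IsDefectGroup p M B P) (hPab : ∀ x ∈ P, ∀ y ∈ P, x * y = y * x) : N ⊔ P = ⊤ ∧ Cfsg.IsDefectGroup p M b ((P ⊓ N).subgroupOf N) ∧ (∀ χ ∈ B, ∃ θ ∈ b, ∀ n : N, (χ : G → ℂ) n = (θ : N → ℂ) n) ∧ (∀ θ ∈ b, Nat.card {χ : Cfsg.IrrCharacter G // χ ∈ B ∧ ∀ n : N, (χ : G → ℂ) n = (θ : N → ℂ) n} = N.index) ∧ Nat.card B = N.index * Nat.card b ∧ Cfsg.blockRank p B = Cfsg.blockRank p b := by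
  classical
  haveI : M.IsMaximal := hM.2.1
  haveI : CharP (Res M) p := charP_res hM
  obtain ⟨⟨B₀, hB₀, hco⟩, hdef⟩ := Cfsg.Agent.S4672.result p M hM N hNi b hb hstab
  obtain rfl : B = B₀ := covering_unique hB₀ hB hb hco hcov
  obtain ⟨htop, hPN⟩ := hdef B hB hco P hPD
  refine ⟨htop, hPN, ?_⟩
  have hD := (isDefectGroup_iff hB P).mp hPD
  have hcomm : ∀ x y : G, x * y * x⁻¹ * y⁻¹ ∈ N := by
    intro x y
    rw [← QuotientGroup.eq_one_iff]
    have hq : ∀ g : G, ∃ u ∈ P, (QuotientGroup.mk u : G ⧸ N) = QuotientGroup.mk g := by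
      intro g
      obtain ⟨n, hn, u, hu, rfl⟩ := Subgroup.mem_sup_of_normal_left.mp (htop ▸ Subgroup.mem_top g)
      exact ⟨u, hu, by rw [QuotientGroup.mk_mul, (QuotientGroup.eq_one_iff n).mpr hn, one_mul]⟩
    obtain ⟨u, hu, hux⟩ := hq x
    obtain ⟨v, hv, hvy⟩ := hq y
    simp only [QuotientGroup.mk_mul, QuotientGroup.mk_inv, ← hux, ← hvy]
    simp only [← QuotientGroup.mk_mul, ← QuotientGroup.mk_inv]
    rw [hPab u hu v hv, show v * u * u⁻¹ * v⁻¹ = 1 by group]
    rfl
  obtain ⟨Λ, hΛc, hΛN, hΛs⟩ := Isometry.Clifford.exists_dual N hcomm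
  have hreg : ∀ g : G, ¬ p ∣ orderOf g → g ∈ N := fun g hg => PIndex.mem_of_regular N hNi hg
  have hlmul : ∀ (l : G →* ℂˣ) (χ : Cfsg.IrrCharacter G),
      Cfsg.IsIrrCharacter G (fun g => (l g : ℂ) * (χ : G → ℂ) g) := by
    intro l χ
    have hc : Cfsg.IsCharacter G (fun g => (l g : ℂ) * (χ : G → ℂ) g) :=
      Characters.Basic.isCharacter_mul
        (Characters.Basic.isCharacter_irr ⟨_, BlocksChars5.Basic.isIrr_of_hom l⟩)
        (Characters.Basic.isCharacter_irr χ)
    refine Characters.Basic.isIrrCharacter_of_classInner_self hc ?_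
    have h := Characters.Basic.classInner_self_irr χ
    rw [Cfsg.classInner] at h ⊢
    rw [← h]
    congr 1
    refine Finset.sum_congr rfl fun g _ => ?_
    have hnorm : (l g : ℂ) * conj (l g : ℂ) = 1 := by
      rw [Complex.mul_conj, Complex.normSq_eq_norm_sq, Complex.norm_eq_one_of_pow_eq_one
        (show (l g : ℂ) ^ orderOf g = 1 by
          rw [← Units.val_pow_eq_pow_val, ← map_pow, pow_orderOf_eq_one, map_one, Units.val_one])
        (orderOf_pos g).ne']
      norm_num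
    rw [map_mul]
    linear_combination ((χ : G → ℂ) g * conj ((χ : G → ℂ) g)) * hnorm
  have hne : ∀ χ ∈ B, ∀ l ∈ Λ, (∀ g, (l g : ℂ) * (χ : G → ℂ) g = (χ : G → ℂ) g) → l = 1 :=
    fun χ hχ l hl h => mul_hom_ne hM hNi hB hD hPab htop hχ (hΛN l hl) h
  have hGN : (Fintype.card G : ℂ) = N.index * (Fintype.card N : ℂ) := by
    rw [← Nat.card_eq_fintype_card, ← Nat.card_eq_fintype_card, ← N.index_mul_card, Nat.cast_mul]
  have hresN : ∀ f : G → ℂ, ∑ l ∈ Λ, ∑ g : G, (l g : ℂ) * f g =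
      (N.index : ℂ) * ∑ n : N, f n := by
    intro f
    rw [Finset.sum_comm, Finset.mul_sum]
    simp only [← Finset.sum_mul, hΛs, ite_mul, zero_mul]
    rw [← Finset.sum_filter]
    exact Finset.sum_subtype _ (fun g => by simp) fun g => (N.index : ℂ) * f g
  have h1Λ : (1 : G →* ℂˣ) ∈ Λ := by
    by_contra h
    obtain ⟨χ₀, hχ₀⟩ := Lib.Blocks.isPBlock_nonempty hB
    have hz : ∀ l ∈ Λ, ∑ g : G, (l g : ℂ) * ((χ₀ : G → ℂ) g * conj ((χ₀ : G → ℂ) g)) = 0 := by
      intro l hl
      have hl1 : l ≠ 1 := fun e => h (e ▸ hl)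
      have hd : (⟨_, hlmul l χ₀⟩ : Cfsg.IrrCharacter G) ≠ χ₀ := fun e =>
        hl1 (hne χ₀ hχ₀ l hl fun g => congrFun (congrArg Subtype.val e) g)
      have h0 := Characters.Basic.classInner_irr_of_ne hd
      rw [Cfsg.classInner, mul_eq_zero, inv_eq_zero, Nat.cast_eq_zero] at h0
      rw [← h0.resolve_left Nat.card_pos.ne']
      exact Finset.sum_congr rfl fun g _ => by ring
    have h2 := hresN fun g => (χ₀ : G → ℂ) g * conj ((χ₀ : G → ℂ) g)
    rw [Finset.sum_eq_zero hz, eq_comm, mul_eq_zero, Nat.cast_eq_zero] at h2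
    have h3 := h2.resolve_left Subgroup.index_ne_zero_of_finite
    simp only [Complex.mul_conj] at h3
    norm_cast at h3
    have h4 := (Finset.sum_eq_zero_iff_of_nonneg fun n _ => Complex.normSq_nonneg _).mp h3 1
      (Finset.mem_univ _)
    exact Characters.Basic.apply_one_ne_zero χ₀ (Complex.normSq_eq_zero.mp h4)
  have hortho : ∀ χ ∈ B, ∀ l ∈ Λ, ∑ g : G, (l g : ℂ) * ((χ : G → ℂ) g * conj ((χ : G → ℂ) g)) =
      if l = 1 then (Fintype.card G : ℂ) else 0 := by
    intro χ hχ l hl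
    split_ifs with h1
    · subst h1
      have h := Characters.Basic.classInner_self_irr χ
      rw [Cfsg.classInner, Nat.card_eq_fintype_card,
        inv_mul_eq_one₀ (Nat.cast_ne_zero.mpr Fintype.card_ne_zero)] at h
      rw [h]
      exact Finset.sum_congr rfl fun g _ => by simp
    · have hd : (⟨_, hlmul l χ⟩ : Cfsg.IrrCharacter G) ≠ χ := fun e =>
        h1 (hne χ hχ l hl fun g => congrFun (congrArg Subtype.val e) g)
      have h0 := Characters.Basic.classInner_irr_of_ne hd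
      rw [Cfsg.classInner, mul_eq_zero, inv_eq_zero, Nat.cast_eq_zero] at h0
      rw [← h0.resolve_left Nat.card_pos.ne']
      exact Finset.sum_congr rfl fun g _ => by ring
  have hirr : ∀ χ ∈ B, Cfsg.IsIrrCharacter N (fun n : N => (χ : G → ℂ) n) := by
    intro χ hχ
    refine Characters.Basic.isIrrCharacter_of_classInner_self
      (Characters.Basic.isCharacter_comp N.subtype (Characters.Basic.isCharacter_irr χ)) ?_
    rw [Cfsg.classInner, Nat.card_eq_fintype_card,
      inv_mul_eq_one₀ (Nat.cast_ne_zero.mpr Fintype.card_ne_zero)]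
    have h2 := hresN fun g => (χ : G → ℂ) g * conj ((χ : G → ℂ) g)
    rw [Finset.sum_congr rfl (hortho χ hχ), Finset.sum_ite_eq', if_pos h1Λ, hGN] at h2
    exact (mul_left_cancel₀ (Nat.cast_ne_zero.mpr Subgroup.index_ne_zero_of_finite) h2)
  have hunique : ∀ χ : Cfsg.IrrCharacter G, ∀ θ ∈ b,
      (∀ n : N, (χ : G → ℂ) n = (θ : N → ℂ) n) → χ ∈ B := by
    intro χ θ hθ h
    rw [← covering_unique hB (Lib.Blocks.isPBlock_blockOf (M := M) χ) hb hco
      ⟨χ, Lib.Blocks.mem_blockOf_self χ, θ, hθ, by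
        rw [funext h, Characters.Basic.classInner_self_irr]; exact one_ne_zero⟩]
    exact Lib.Blocks.mem_blockOf_self χ
  have hrestr : ∀ χ ∈ B, ∃ θ ∈ b, ∀ n : N, (χ : G → ℂ) n = (θ : N → ℂ) n := by
    intro χ hχ
    set φ : Cfsg.IrrCharacter N := ⟨_, hirr χ hχ⟩ with hφ
    refine ⟨φ, ?_, fun n => rfl⟩
    have hcb := (NormalCover.covers_iff_constituent N hB
      (Lib.Blocks.isPBlock_blockOf (M := M) φ)).mp ⟨χ, hχ, φ, Lib.Blocks.mem_blockOf_self φ, by
        show Cfsg.classInner (φ : N → ℂ) φ ≠ 0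
        rw [Characters.Basic.classInner_self_irr]; exact one_ne_zero⟩
    have hBe : bidem (blk hB) = bext N (blk hb) := by
      ext g
      rw [coeff_bidem hB g, coeff_bext hb g]
      exact congrArg _ (Subtype.ext (hco g))
    rw [NormalCover.Covers, hBe] at hcb
    by_contra hφb
    refine hcb (bext_mul_bext N fun e => hφb ?_)
    rw [← toSet_blk hb, e, toSet_blk]
    exact Lib.Blocks.mem_blockOf_self φ
  have hext : ∀ θ ∈ b, ∃ χ ∈ B, ∀ n : N, (χ : G → ℂ) n = (θ : N → ℂ) n := by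
    intro θ hθ
    obtain ⟨χ, hχ, hne'⟩ := Cfsg.Agent.S4432.result p M hM N B hB b hb hcov θ hθ
    obtain ⟨θ', -, h'⟩ := hrestr χ hχ
    refine ⟨χ, hχ, ?_⟩
    rw [funext h'] at hne'
    have he : θ' = θ := by
      by_contra hd
      exact hne' (Characters.Basic.classInner_irr_of_ne hd)
    exact he ▸ h'
  have hcount : ∀ θ ∈ b, Nat.card {χ : Cfsg.IrrCharacter G //
      χ ∈ B ∧ ∀ n : N, (χ : G → ℂ) n = (θ : N → ℂ) n} = N.index := by
    intro θ hθ
    obtain ⟨χ, hχ, hχθ⟩ := hext θ hθ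
    have hlθ : ∀ l ∈ Λ, ∀ n : N, (l (n : G) : ℂ) * (χ : G → ℂ) n = (θ : N → ℂ) n := fun l hl n => by
      rw [hΛN l hl n n.2, Units.val_one, one_mul, hχθ]
    have hsum : ∀ χ' : Cfsg.IrrCharacter G, (∀ n : N, (χ' : G → ℂ) n = (θ : N → ℂ) n) →
        ∃ l ∈ Λ, (⟨_, hlmul l χ⟩ : Cfsg.IrrCharacter G) = χ' := by
      intro χ' h'
      by_contra hno
      push Not at hno
      have hz : ∀ l ∈ Λ, ∑ g : G, (l g : ℂ) * ((χ : G → ℂ) g * conj ((χ' : G → ℂ) g)) = 0 := by
        intro l hl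
        have h0 := Characters.Basic.classInner_irr_of_ne (hno l hl)
        rw [Cfsg.classInner, mul_eq_zero, inv_eq_zero, Nat.cast_eq_zero] at h0
        rw [← h0.resolve_left Nat.card_pos.ne']
        exact Finset.sum_congr rfl fun g _ => by ring
      have h2 := hresN fun g => (χ : G → ℂ) g * conj ((χ' : G → ℂ) g)
      rw [Finset.sum_eq_zero hz, eq_comm, mul_eq_zero, Nat.cast_eq_zero] at h2
      have h3 := h2.resolve_left Subgroup.index_ne_zero_of_finite
      simp only [hχθ, h'] at h3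
      have h4 := Characters.Basic.classInner_self_irr θ
      rw [Cfsg.classInner, h3, mul_zero] at h4
      exact zero_ne_one h4
    let f : Λ → {χ' : Cfsg.IrrCharacter G // χ' ∈ B ∧ ∀ n : N, (χ' : G → ℂ) n = (θ : N → ℂ) n} :=
      fun l => ⟨⟨_, hlmul l.1 χ⟩, hunique _ θ hθ (hlθ l.1 l.2), hlθ l.1 l.2⟩
    have hf : Function.Bijective f := by
      refine ⟨fun l l' h => ?_, fun ⟨χ', hB', h'⟩ => ?_⟩
      · have h' : ∀ g, (l.1 g : ℂ) * (χ : G → ℂ) g = (l'.1 g : ℂ) * (χ : G → ℂ) g := fun g =>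
          congrFun (congrArg Subtype.val (congrArg Subtype.val h)) g
        have h1 : l'.1⁻¹ * l.1 = 1 := mul_hom_ne hM hNi hB hD hPab htop hχ
          (fun n hn => by rw [MonoidHom.mul_apply, MonoidHom.inv_apply, hΛN _ l.2 n hn,
            hΛN _ l'.2 n hn, inv_one, one_mul]) fun g => by
          rw [MonoidHom.mul_apply, MonoidHom.inv_apply, Units.val_mul, mul_assoc, h' g,
            ← mul_assoc, Units.inv_mul, one_mul]
        exact Subtype.ext (inv_mul_eq_one.mp h1).symm
      · obtain ⟨l, hl, he⟩ := hsum χ' h'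
        exact ⟨⟨l, hl⟩, Subtype.ext he⟩
    rw [← Nat.card_eq_of_bijective f hf, Nat.card_eq_fintype_card, Fintype.card_coe, hΛc]
  refine ⟨hrestr, hcount, ?_, ?_⟩
  · haveI : Nonempty (Cfsg.IrrCharacter N) := ⟨(Lib.Blocks.isPBlock_nonempty hb).some⟩
    choose! res hres1 hres2 using hrestr
    haveI : Fintype (Cfsg.IrrCharacter G) := Fintype.ofFinite _
    rw [← Lib.Blocks.Contrib.card_bset, ← Lib.Blocks.Contrib.card_bset b,
      Finset.card_eq_sum_card_fiberwise (f := res) (t := bset b)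
        (fun χ hχ => mem_bset.mpr (hres1 χ (mem_bset.mp hχ))),
      Finset.sum_congr rfl (g := fun _ => N.index), Finset.sum_const, smul_eq_mul, mul_comm]
    intro θ hθ
    rw [← hcount θ (mem_bset.mp hθ), ← Nat.card_eq_finsetCard]
    refine Nat.card_congr (Equiv.subtypeEquivRight fun χ => ?_)
    rw [Finset.mem_filter, mem_bset]
    constructor
    · rintro ⟨h1, rfl⟩
      exact ⟨h1, hres2 χ h1⟩
    · rintro ⟨h1, h2⟩
      exact ⟨h1, Subtype.ext (funext fun n => (hres2 χ h1 n).symm.trans (h2 n))⟩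
  · unfold Cfsg.blockRank
    have himg : (fun χ : Cfsg.IrrCharacter G => Cfsg.pRegularPart p (χ : G → ℂ)) '' B =
        extZero N '' ((fun θ : Cfsg.IrrCharacter N => Cfsg.pRegularPart p (θ : N → ℂ)) '' b) := by
      rw [Set.image_image]
      refine Set.Subset.antisymm ?_ ?_
      · rintro _ ⟨χ, hχ, rfl⟩
        obtain ⟨θ, hθ, h⟩ := hrestr χ hχ
        exact ⟨θ, hθ, extZero_regular hreg h⟩
      · rintro _ ⟨θ, hθ, rfl⟩
        obtain ⟨χ, hχ, h⟩ := hext θ hθ
        exact ⟨χ, hχ, (extZero_regular hreg h).symm⟩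
    rw [himg, Submodule.span_image]
    exact (Submodule.equivMapOfInjective _ (extZero_injective N) _).finrank_eq.symm

end Cfsg.Agent.S4640
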