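import Cfsg.Statements.S4641
-- import your own Cfsg.Agent.* helpers here
import Cfsg.Agent.Lib.BrauerChar.Main
import Cfsg.Agent.Lib.Blocks.DefectGroup

set_option autoImplicit false
open Cfsg

namespace Cfsg.Agent.S4641

open Cfsg.Agent.Lib.BrauerChar Cfsg.Agent.Lib.Blocks Cfsg.Agent.Lib.Characters.Basic

/-- Let B be a block of the finite group G relative to a maximal ideal M of the algebraic integers containing the prime p, let p^a be the p-part of the order of G and p^d the order of a defect group D of B, and let g be the greatest common divisor of the degrees of the members of B. Then the p-part of g is exactly p^(a−d), and writing g = p^(a−d)·u there is a positive integer v, prime to p and at least the p-regular rank of B (its number of irreducible Brauer characters), with Σ_{χ ∈ B} χ(1)² = p^(2a−d)·u²·v. -/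
theorem result {G : Type*} [Group G] [Finite G] (p : ℕ) [Fact p.Prime] (M : Ideal Cfsg.AlgInt) (hM : Cfsg.IsPModular p M) (B : Set (Cfsg.IrrCharacter G)) (hB : Cfsg.IsPBlock M B) (D : Subgroup G) (hD : Cfsg.IsDefectGroup p M B D) (a d : ℕ) (ha : (Nat.card G).factorization p = a) (hd : Nat.card D = p ^ d) (g : ℕ) (hg1 : ∀ χ ∈ B, g ∣ Cfsg.charDegree (χ : G → ℂ)) (hg2 : ∀ g' : ℕ, (∀ χ ∈ B, g' ∣ Cfsg.charDegree (χ : G → ℂ)) → g' ∣ g) : g.factorization p = a - d ∧ ∃ v : ℕ, 0 < v ∧ ¬ p ∣ v ∧ Cfsg.blockRank p B ≤ v ∧ ∑ᶠ χ ∈ B, Cfsg.charDegree (χ : G → ℂ) ^ 2 = p ^ (2 * a - d) * (g / p ^ (a - d)) ^ 2 * v := by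
  classical
  haveI := hM.1
  have hp : p.Prime := Fact.out
  haveI : M.IsMaximal := hM.2.1
  have hd' : d = Cfsg.blockDefect p B :=
    Nat.pow_right_injective hp.two_le
      (hd.symm.trans (Lib.Blocks.card_isDefectGroup hM hB hD))
  have hde : Contrib.minVdeg p B + d = a := by
    rw [hd', Contrib.minVdeg_add_blockDefect hB, ha]
  have hae : a - d = Contrib.minVdeg p B := by omega
  obtain ⟨χ₀, hχ₀, h0⟩ := Contrib.exists_height_zero (p := p) hB
  have hg0 : g ≠ 0 := fun h => (charDegree_pos χ₀).ne' (Nat.eq_zero_of_zero_dvd (h ▸ hg1 χ₀ hχ₀))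
  have hge : g.factorization p = Contrib.minVdeg p B := by
    apply le_antisymm
    · rw [← h0]
      exact (Nat.factorization_le_iff_dvd hg0 (charDegree_pos χ₀).ne').2 (hg1 χ₀ hχ₀) p
    · refine (hp.pow_dvd_iff_le_factorization hg0).1 (hg2 _ fun χ hχ => ?_)
      exact (pow_dvd_pow p (Contrib.minVdeg_le hχ)).trans ⟨_, (Contrib.pow_vdeg_mul_udeg p χ).symm⟩
  refine ⟨hge.trans hae.symm, ?_⟩
  set u := g / p ^ Contrib.minVdeg p B with hu
  have hgu : g = p ^ Contrib.minVdeg p B * u := by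
    rw [hu, ← hge]; exact (Nat.ordProj_mul_ordCompl_eq_self g p).symm
  have hpu : ¬ p ∣ u := by rw [hu, ← hge]; exact Nat.not_dvd_ordCompl hp hg0
  haveI := finite_ibr (G := G) hM
  haveI := Fintype.ofFinite (IBr M p G)
  let I := {f : IBr M p G // InBlock B f}
  haveI : Fintype I := Fintype.ofFinite I
  have hfd : ∀ f : I, g ∣ f.1.deg := by
    intro f
    have key : ∀ φ ∈ Submodule.span ℤ ((fun χ : Cfsg.IrrCharacter G =>
        Cfsg.pRegularPart p (χ : G → ℂ)) '' B), ∃ z : ℤ, φ 1 = (((g : ℤ) * z : ℤ) : ℂ) := by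
      intro φ hφ
      induction hφ using Submodule.span_induction with
      | mem x hx =>
        obtain ⟨χ, hχ, rfl⟩ := hx
        obtain ⟨c, hc⟩ := hg1 χ hχ
        refine ⟨c, ?_⟩
        simp only [Contrib.pRegularPart_apply]
        rw [if_neg (by rw [orderOf_one]; exact hp.not_dvd_one), char_one_eq_degree, hc]
        push_cast; rfl
      | zero => exact ⟨0, by simp⟩
      | add x y _ _ hx hy =>
        obtain ⟨i, hi⟩ := hx; obtain ⟨j, hj⟩ := hy
        exact ⟨i + j, by rw [Pi.add_apply, hi, hj]; push_cast; ring⟩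
      | smul r x _ hx =>
        obtain ⟨i, hi⟩ := hx
        exact ⟨r * i, by rw [Pi.smul_apply, hi, zsmul_eq_mul]; push_cast; ring⟩
    obtain ⟨z, hz⟩ := key _ (mem_span_int hM hB f.2)
    rw [← f.1.bchar_rep, bchar_one hM, Fintype.card_fin] at hz
    have hz' : (f.1.deg : ℤ) = (g : ℤ) * z := by exact_mod_cast hz
    exact Int.natCast_dvd_natCast.1 ⟨z, hz'⟩
  have hPg : ∀ f : I, p ^ a * u ∣ projDeg hM B f.1 := by
    intro f
    refine Nat.Coprime.mul_dvd_of_dvd_of_dvd ((hp.coprime_iff_not_dvd.2 hpu).pow_left a)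
      (ha ▸ pow_dvd_projDeg hM hB f.1) ?_
    exact (Dvd.intro_left _ hgu.symm).trans
      (Finset.dvd_sum fun χ hχ => (hg1 χ (Contrib.mem_bset.1 hχ)).mul_left _)
  have hPpos : ∀ f : I, 0 < projDeg hM B f.1 := by
    intro f
    by_contra hcon
    have hz : ∀ χ ∈ B, dnum hM χ f.1 = 0 := by
      intro χ hχ
      by_contra hne
      refine hcon (lt_of_lt_of_le (Nat.mul_pos (Nat.pos_of_ne_zero hne) (charDegree_pos χ)) ?_)
      exact Finset.single_le_sum (f := fun χ : Cfsg.IrrCharacter G =>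
        dnum hM χ f.1 * Cfsg.charDegree (χ : G → ℂ)) (fun _ _ => Nat.zero_le _)
        (Contrib.mem_bset.2 hχ)
    refine (linearIndependent_val hM).notMem_span_image (s := {e : IBr M p G | e ≠ f.1})
      (x := f.1) (by simp) ?_
    have h1 := Submodule.span_le_restrictScalars ℤ ℂ _ (mem_span_int hM hB f.2)
    refine (Submodule.span_le.2 ?_) h1
    rintro _ ⟨χ, hχ, rfl⟩
    show Cfsg.pRegularPart p (χ : G → ℂ) ∈ _
    rw [pRegularPart_eq hM χ]
    refine Submodule.sum_mem _ fun e _ => ?_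
    by_cases he : e = f.1
    · rw [he, hz χ hχ, Nat.cast_zero, zero_smul]; exact zero_mem _
    · exact Submodule.smul_mem _ _ (Submodule.subset_span ⟨e, he, rfl⟩)
  choose c hc using hfd
  choose b hb using hPg
  refine ⟨∑ f : I, c f * b f, ?_⟩
  have hsum : ∑ χ ∈ Contrib.bset B, Cfsg.charDegree (χ : G → ℂ) ^ 2 =
      p ^ (a + Contrib.minVdeg p B) * u ^ 2 * ∑ f : I, c f * b f := by
    rw [sum_degree_sq hM hB, Finset.mul_sum]
    refine Finset.sum_congr rfl fun f _ => ?_
    rw [hc f, hb f, hgu, pow_add]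
    ring
  have hpos : 0 < ∑ χ ∈ Contrib.bset B, Cfsg.charDegree (χ : G → ℂ) ^ 2 :=
    Finset.sum_pos (fun χ _ => pow_pos (charDegree_pos χ) 2) ⟨χ₀, Contrib.mem_bset.2 hχ₀⟩
  have hv : 0 < ∑ f : I, c f * b f := by
    rw [hsum] at hpos
    exact Nat.pos_of_mul_pos_left hpos
  refine ⟨hv, ?_, ?_, ?_⟩
  · have hu0 : u ≠ 0 := fun h => hpu (h.symm ▸ dvd_zero p)
    intro hdvd
    have h := Contrib.factorization_sum_sq hM hB
    rw [hsum, Nat.factorization_mul (mul_ne_zero (pow_ne_zero _ hp.ne_zero)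
      (pow_ne_zero _ hu0)) hv.ne', Nat.factorization_mul
      (pow_ne_zero _ hp.ne_zero) (pow_ne_zero _ hu0), ha] at h
    simp only [Finsupp.coe_add, Pi.add_apply, Nat.factorization_pow, Finsupp.coe_smul,
      Pi.smul_apply, smul_eq_mul, hp.factorization_self,
      Nat.factorization_eq_zero_of_not_dvd hpu] at h
    have := hp.factorization_pos_of_dvd hv.ne' hdvd
    omega
  · rw [← card_inBlock hM hB, Nat.card_eq_fintype_card, Fintype.card_eq_sum_ones]
    refine Finset.sum_le_sum fun f _ => ?_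
    have h1 : c f ≠ 0 := fun h => by
      have := f.1.deg_pos; rw [hc f, h, mul_zero] at this; exact lt_irrefl 0 this
    have h2 : b f ≠ 0 := fun h => by
      have := hPpos f; rw [hb f, h, mul_zero] at this; exact lt_irrefl 0 this
    exact Nat.mul_pos (Nat.pos_of_ne_zero h1) (Nat.pos_of_ne_zero h2)
  · rw [Contrib.finsum_mem_bset, hsum, hae, ← hu]
    congr 3
    omega

end Cfsg.Agent.S4641
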