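import Cfsg.Statements.S4642
import Cfsg.Agent.Lib.BrauerPairs.Bridge
import Cfsg.Agent.Lib.BrauerPairs.InducedPair
import Cfsg.Agent.Lib.BrauerPairs.PrincipalType
import Cfsg.Agent.Lib.Cores.Basic
import Cfsg.Agent.Lib.Blocks.ContribRank

set_option autoImplicit false
open Cfsg

namespace Cfsg.Agent.S4642

open Cfsg.Agent.Lib.BrauerPairs.Center Cfsg.Agent.Lib.BrauerPairs.Pairs
open Cfsg.Agent.Lib.BrauerPairs.Transport Cfsg.Agent.Lib.BrauerPairs.Maximal
open Cfsg.Agent.Lib.BrauerPairs.Principal Cfsg.Agent.Lib.BrauerPairs.Bridge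

attribute [local instance] Ideal.Quotient.field

open Cfsg.Agent.Lib.BrauerPairs Cfsg.Agent.Lib.BrauerPairs.Trunc Cfsg.Agent.Lib.BrauerPairs.Conj
open Cfsg.Agent.Lib.BrauerMap.Basic
open Cfsg.Agent.Lib.Blocks (localRing residue)

universe u v

section Groups

variable {G : Type u} [Group G] [Finite G] {p : ℕ} [Fact p.Prime]

theorem relIndex_pow (K : Subgroup G) [K.Normal] {L : Subgroup G}
    (hL : IsPGroup p (L.map (QuotientGroup.mk' K))) {X : Subgroup G} (hX : X ≤ L) :
    ∃ n : ℕ, K.relIndex X = p ^ n := by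
  obtain ⟨n, hn⟩ := IsPGroup.iff_card.mp (hL.to_le (Subgroup.map_mono hX))
  refine ⟨n, ?_⟩
  conv_lhs => rw [← QuotientGroup.ker_mk' K]
  rw [Subgroup.relIndex_ker, ← hn]

theorem mem_of_regular {K L : Subgroup G} [K.Normal]
    (hL : IsPGroup p (L.map (QuotientGroup.mk' K))) {x : G} (hx : x ∈ L) (hr : ¬ p ∣ orderOf x) :
    x ∈ K := by
  obtain ⟨j, hj⟩ := IsPGroup.iff_orderOf.mp hL
    ⟨QuotientGroup.mk' K x, Subgroup.mem_map_of_mem _ hx⟩
  rw [Subgroup.orderOf_mk] at hj
  have hd : p ^ j ∣ orderOf x := hj ▸ orderOf_map_dvd (QuotientGroup.mk' K) x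
  have hj0 : j = 0 := by
    by_contra h
    exact hr ((dvd_pow_self p h).trans hd)
  rw [hj0, pow_zero, orderOf_eq_one_iff] at hj
  exact (QuotientGroup.eq_one_iff x).mp hj

/-- An element of `G` acting trivially on `L/K` lies in `L`. -/
theorem mem_of_commute_mod {K L Q : Subgroup G} [K.Normal] [L.Normal] (hQL : Q ≤ L)
    (hsup : K ⊔ Q = L) (hQp : IsPGroup p Q) (hQS : ¬ p ∣ Q.relIndex L) (hdisj : Disjoint K Q)
    (hCQ : Subgroup.centralizer (Q : Set G) ≤ L) {x : G}
    (hx : ∀ l ∈ L, Commute (QuotientGroup.mk' K x) (QuotientGroup.mk' K l)) : x ∈ L := by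
  haveI : (Q.subgroupOf L).FiniteIndex := inferInstance
  set S : Sylow p L := (hQp.comap_of_injective L.subtype L.subtype_injective).toSylow hQS
  have hS : (S : Subgroup L).map L.subtype = Q := Subgroup.map_subgroupOf_eq_of_le hQL
  have h1 := Sylow.normalizer_sup_eq_top S
  rw [hS] at h1
  have h2 : Subgroup.normalizer (Q : Set G) ⊔ K = ⊤ := by
    rw [eq_top_iff, ← h1, ← hsup]
    exact sup_le le_sup_left (sup_le le_sup_right (Subgroup.le_normalizer.trans le_sup_left))
  obtain ⟨n, hn, k, hk, rfl⟩ := Subgroup.mem_sup_of_normal_right.mp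
    (h2 ▸ Subgroup.mem_top x : x ∈ Subgroup.normalizer (Q : Set G) ⊔ K)
  have hKL : K ≤ L := hsup ▸ le_sup_left
  refine mul_mem (hCQ ?_) (hKL hk)
  rw [Subgroup.mem_centralizer_iff]
  intro q hq
  have h3 : n * q * n⁻¹ * q⁻¹ ∈ Q :=
    mul_mem ((Subgroup.mem_normalizer_iff.mp hn q).mp hq) (inv_mem hq)
  have h4 : n * q * n⁻¹ * q⁻¹ ∈ K := by
    rw [← QuotientGroup.eq_one_iff]
    have h5 := hx q (hQL hq)
    rw [map_mul, QuotientGroup.mk'_apply, QuotientGroup.mk'_apply,
      (QuotientGroup.eq_one_iff k).mpr hk, mul_one] at h5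
    rw [QuotientGroup.mk_mul, QuotientGroup.mk_mul, QuotientGroup.mk_mul, QuotientGroup.mk_inv,
      QuotientGroup.mk_inv]
    rw [show (QuotientGroup.mk n : G ⧸ K) * QuotientGroup.mk q =
      QuotientGroup.mk q * QuotientGroup.mk n from h5.eq, mul_inv_cancel_right, mul_inv_cancel]
  have h6 : n * q * n⁻¹ * q⁻¹ = 1 := Subgroup.disjoint_def.mp hdisj h4 h3
  exact (mul_inv_eq_iff_eq_mul.mp (mul_inv_eq_one.mp h6)).symm

/-- A fixed element of `L/K` lifts to a fixed element of `L`. -/
theorem exists_fixed_lift {K : Subgroup G} [K.Normal] (hK : ¬ p ∣ Nat.card K) {R : Subgroup G}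
    (hR : IsPGroup p R) (l : G)
    (hl : ∀ r ∈ R, Commute (QuotientGroup.mk' K l) (QuotientGroup.mk' K r)) :
    ∃ l' ∈ Subgroup.centralizer (R : Set G), QuotientGroup.mk' K l' = QuotientGroup.mk' K l := by
  letI : MulAction R {g : G // QuotientGroup.mk' K g = QuotientGroup.mk' K l} :=
    { smul := fun r g => ⟨(r : G) * g.1 * (r : G)⁻¹, by
        rw [map_mul, map_mul, map_inv, g.2, (hl r r.2).symm.eq, mul_inv_cancel_right]⟩
      one_smul := fun g => Subtype.ext (by
        show ((1 : R) : G) * g.1 * ((1 : R) : G)⁻¹ = g.1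
        simp)
      mul_smul := fun r s g => Subtype.ext (by
        show ((r * s : R) : G) * g.1 * ((r * s : R) : G)⁻¹ =
          (r : G) * ((s : G) * g.1 * (s : G)⁻¹) * (r : G)⁻¹
        simp [mul_assoc]) }
  have e : K ≃ {g : G // QuotientGroup.mk' K g = QuotientGroup.mk' K l} :=
    { toFun := fun a => ⟨l * a, by
        rw [map_mul, show QuotientGroup.mk' K (a : G) = 1 from (QuotientGroup.eq_one_iff _).mpr a.2,
          mul_one]⟩
      invFun := fun g => ⟨l⁻¹ * g.1, by
        rw [← QuotientGroup.eq_one_iff, ← QuotientGroup.mk'_apply, map_mul, map_inv, g.2,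
          inv_mul_cancel]⟩
      left_inv := fun a => Subtype.ext (by simp)
      right_inv := fun g => Subtype.ext (by simp) }
  obtain ⟨g, hg⟩ := hR.nonempty_fixed_point_of_prime_not_dvd_card
    {g : G // QuotientGroup.mk' K g = QuotientGroup.mk' K l} (by rwa [← Nat.card_congr e])
  refine ⟨g.1, Subgroup.mem_centralizer_iff.mpr fun r hr => ?_, g.2⟩
  have h : r * g.1 * r⁻¹ = g.1 := congrArg Subtype.val (hg ⟨r, hr⟩)
  exact mul_inv_eq_iff_eq_mul.mp h

/-- The centralizer of a p-subgroup inherits the condition. -/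
theorem regular_mem_of_centralizer {K L Q : Subgroup G} [K.Normal] [L.Normal]
    (hK : ¬ p ∣ Nat.card K) (hLp : IsPGroup p (L.map (QuotientGroup.mk' K))) (hQL : Q ≤ L)
    (hsup : K ⊔ Q = L) (hQp : IsPGroup p Q) (hQS : ¬ p ∣ Q.relIndex L) (hdisj : Disjoint K Q)
    (hCQ : Subgroup.centralizer (Q : Set G) ≤ L) {R : Subgroup G} (hR : IsPGroup p R)
    (Q' : Subgroup (Subgroup.centralizer (R : Set G)))
    (hQ' : K.subgroupOf (Subgroup.centralizer (R : Set G)) ⊔ Q' =
      L.subgroupOf (Subgroup.centralizer (R : Set G)))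
    (x : Subgroup.centralizer (R : Set G))
    (hx : x ∈ Subgroup.centralizer (Q' : Set (Subgroup.centralizer (R : Set G))))
    (hr : ¬ p ∣ orderOf x) : (x : G) ∈ K := by
  have hp : p.Prime := Fact.out
  have hr' : ¬ p ∣ orderOf (x : G) := by rwa [Subgroup.orderOf_coe]
  refine mem_of_regular hLp (mem_of_commute_mod hQL hsup hQp hQS hdisj hCQ ?_) hr'
  intro l hl
  refine Cfsg.Agent.Lib.CharP.commute_of_axb (hR.map (QuotientGroup.mk' K)) ?_ ?_ hLp ?_ ?_ ?_ _
    (Subgroup.mem_map_of_mem _ hl)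
  · exact Nat.Coprime.of_dvd_left (orderOf_map_dvd _ _)
      ((Nat.Prime.coprime_iff_not_dvd hp).mpr hr').symm
  · rintro _ ⟨r, hrR, rfl⟩
    exact (show Commute (x : G) r from ((Subgroup.mem_centralizer_iff.mp x.2 r hrR)).symm).map _
  · haveI : (L.map (QuotientGroup.mk' K)).Normal :=
      Subgroup.Normal.map inferInstance _ (QuotientGroup.mk'_surjective K)
    rw [Subgroup.normalizer_eq_top]
    exact le_top
  · haveI : (L.map (QuotientGroup.mk' K)).Normal :=
      Subgroup.Normal.map inferInstance _ (QuotientGroup.mk'_surjective K)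
    rw [Subgroup.normalizer_eq_top]
    exact Subgroup.mem_top _
  rintro _ ⟨u, hu, rfl⟩ hcomm
  obtain ⟨l', hl', he⟩ := exists_fixed_lift hK hR u fun r hrR =>
    hcomm _ (Subgroup.mem_map_of_mem _ hrR)
  have hl'L : l' ∈ L := by
    have h1 : u⁻¹ * l' ∈ K := by
      rw [← QuotientGroup.eq_one_iff, ← QuotientGroup.mk'_apply, map_mul, map_inv, he,
        inv_mul_cancel]
    have := mul_mem hu ((hsup ▸ le_sup_left : K ≤ L) h1)
    rwa [mul_inv_cancel_left] at this
  have hmem : (⟨l', hl'⟩ : Subgroup.centralizer (R : Set G)) ∈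
      L.subgroupOf (Subgroup.centralizer (R : Set G)) := hl'L
  rw [← hQ'] at hmem
  obtain ⟨a, ha, q, hq, haq⟩ := Subgroup.mem_sup_of_normal_left.mp hmem
  have hl'' : l' = (a : G) * (q : G) := (congrArg Subtype.val haq).symm
  rw [← he, hl'', map_mul, show QuotientGroup.mk' K (a : G) = 1 from
    (QuotientGroup.eq_one_iff _).mpr ha, one_mul]
  exact (show Commute (x : G) (q : G) from
    (congrArg Subtype.val (Subgroup.mem_centralizer_iff.mp hx q hq)).symm).map _

end Groups


/-- Let G be a finite group, p a prime, M a maximal ideal of the algebraic integers containing p, K the largest normal subgroup of G of order prime to p, and L the preimage in G of the largest normal p-subgroup of G/K. Let Q be a Sylow p-subgroup of L and suppose C_G(Q) ≤ L. Let θ be an irreducible character of K invariant under conjugation by every element of G, and let B be the set of irreducible characters of G whose restriction to K contains θ. Then B is a block of G, every Sylow p-subgroup of G is a defect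 group of B, and B is of principal type: for every p-subgroup R of G exactly one block of C_G(R) induces B. -/
theorem result {G : Type*} [Group G] [Fintype G] (p : ℕ) [Fact p.Prime] (M : Ideal Cfsg.AlgInt) (hM : Cfsg.IsPModular p M) (K : Subgroup G) (hK : K = Cfsg.pPrimeCore p G) [Fintype K] (L : Subgroup G) (hL : L = Cfsg.pPrimePCore p G) (Q : Subgroup G) (hQL : Q ≤ L) (hQp : IsPGroup p Q) (hQS : ¬ p ∣ Q.relIndex L) (hCQ : Subgroup.centralizer (Q : Set G) ≤ L) (θ : Cfsg.IrrCharacter K) (hθ : ∀ g : G, Cfsg.IsConjCharOf K g (θ : K → ℂ) (θ : K → ℂ)) (B : Set (Cfsg.IrrCharacter G)) (hBdef : ∀ χ : Cfsg.IrrCharacter G, χ ∈ B ↔ Cfsg.classInner (fun k : K => (χ : G → ℂ) k) (θ : K → ℂ) ≠ 0) : Cfsg.IsPBlock M B ∧ (∀ S : Sylow p G, Cfsg.IsDefectGroup p M B S) ∧ ∀ R : Subgroup G, IsPGroup p R → ∃! f : Set (Cfsg.IrrCharacter (Subgroup.centralizer (R : Set G))), Cfsg.IsInducedBlock M (Subgroup.centralizer (R : Set G)) f B := by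
  haveI : M.IsMaximal := hM.2.1
  haveI : CharP (Res M) p := charP_res hM
  classical
  have hp : p.Prime := Fact.out
  haveI hKn : K.Normal := by rw [hK]; infer_instance
  have hK' : ¬ p ∣ Nat.card K := by
    rw [hK]; exact Cfsg.Agent.Lib.Cores.not_dvd_card_pPrimeCore p
  have hLcomap : L = (Cfsg.pCore p (G ⧸ K)).comap (QuotientGroup.mk' K) := by
    subst hK
    exact hL
  haveI hcn : (Cfsg.pCore p (G ⧸ K)).Normal := inferInstance
  haveI hLn : L.Normal := by rw [hLcomap]; infer_instance
  have hLmap : L.map (QuotientGroup.mk' K) = Cfsg.pCore p (G ⧸ K) := by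
    rw [hLcomap, Subgroup.map_comap_eq_self_of_surjective (QuotientGroup.mk'_surjective K)]
  have hLp : IsPGroup p (L.map (QuotientGroup.mk' K)) := by
    rw [hLmap]; exact Cfsg.Agent.Lib.Cores.pCore_isPGroup p
  have hKL : K ≤ L := fun a ha => by
    rw [hLcomap, Subgroup.mem_comap, QuotientGroup.mk'_apply, (QuotientGroup.eq_one_iff a).mpr ha]
    exact one_mem _
  have hidx := relIndex_pow K hLp (le_refl L)
  have hsup : K ⊔ Q = L := PrincipalType.sup_eq_of_indices hKL hQL hidx hQS
  have hdisj : Disjoint K Q := by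
    rw [disjoint_iff]
    obtain ⟨n, hn⟩ := IsPGroup.iff_card.mp hQp
    refine Cfsg.Agent.Lib.Coprime.inf_eq_bot_of_coprime ?_
    rw [hn]
    exact Nat.Coprime.pow_right _ ((Nat.Prime.coprime_iff_not_dvd hp).mpr hK').symm
  -- the block of `θ`
  set c : Set (Cfsg.IrrCharacter K) := Cfsg.blockOf M (θ : K → ℂ) with hcdef
  have hc : Cfsg.IsPBlock M c := ⟨θ, rfl⟩
  have hθc : θ ∈ c := Cfsg.Agent.Lib.Blocks.mem_blockOf_self θ
  have hc1 : ∀ θ' ∈ c, θ' = θ := by
    intro θ' h'
    have h1 : Cfsg.blockDefect p c = 0 := by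
      rw [Cfsg.blockDefect, Nat.factorization_eq_zero_of_not_dvd hK', Nat.zero_sub]
    have h2 := (Cfsg.Agent.Lib.Blocks.Contrib.card_eq_one_iff hM hc).mpr h1
    haveI : Subsingleton c := (Nat.card_eq_one_iff_unique.mp h2).1
    exact congrArg Subtype.val (Subsingleton.elim (⟨θ', h'⟩ : c) ⟨θ, hθc⟩)
  set ν := blk hc with hν
  have hst : ∀ x : G, conjA x (bext K ν) = bext K ν := by
    intro x
    rw [← NormalCover.stabilizesBlock_iff_normal K hc]
    refine ⟨Subgroup.mem_normalizer_iff.mpr (NormalCover.mem_conj_iff K x),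
      fun χ hχ => ⟨θ, hθc, ?_⟩⟩
    rw [hc1 χ hχ]
    exact hθ x
  obtain ⟨ψ, hψ⟩ := PrincipalType.exists_bidem_eq hM hK' hKL hidx hQp hQL
    (fun x hx hr => mem_of_regular hLp (hCQ hx) hr) ν hst
  have hBψ : B = toSet ψ := by
    ext χ
    rw [hBdef, mem_toSet]
    have hz : ∀ g, g ∉ K → (bidem ψ).coeff g = 0 := fun g hg => by
      rw [hψ]; exact NormalCover.coeff_bext_of_notMem K ν hg
    have hval : ∀ θ' : Cfsg.IrrCharacter K,
        Cfsg.classInner (fun k : K => (χ : G → ℂ) k) (θ' : K → ℂ) ≠ 0 →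
        (blkOf M χ (idem ψ) = 1 ↔ θ' = θ) := by
      intro θ' hne
      rw [NormalCover.blkOf_apply_supported K hne (idem ψ) hz]
      have e : (⟨NormalSub.res K ((idem ψ : ZAlg (Res M) G) : MonoidAlgebra (Res M) G),
          NormalSub.res_mem_center (isFixedBy_of_mem_center K (bidem_mem ψ))⟩ : ZAlg (Res M) K) =
          idem ν := by
        refine Subtype.ext (ext_injective K ?_)
        exact (NormalSub.ext_res hz).trans hψ
      rw [e]
      constructor
      · intro h1
        refine hc1 θ' ?_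
        rw [← toSet_blk hc, mem_toSet]
        exact eq_of_apply_idem_ne_zero (by rw [h1]; exact one_ne_zero)
      · rintro rfl
        rw [blkOf_of_mem hc hθc]
        exact apply_idem_self ν
    constructor
    · intro hne
      exact eq_of_apply_idem_ne_zero (by rw [(hval θ hne).mpr rfl]; exact one_ne_zero)
    · intro h
      obtain ⟨θ', hθ'⟩ := Cfsg.Agent.Lib.BrauerMap.Covering.exists_constituent_restrict K χ
      have h1 : blkOf M χ (idem ψ) = 1 := by rw [h]; exact apply_idem_self ψ
      rw [← (hval θ' hθ').mp h1]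
      exact hθ'
  have hB : Cfsg.IsPBlock M B := hBψ ▸ isPBlock_toSet ψ
  have hblk : blk hB = ψ := by
    subst hBψ
    exact blk_toSet ψ hB
  refine ⟨hB, fun S => ?_, fun R hR => ?_⟩
  · rw [isDefectGroup_iff hB, hblk]
    obtain ⟨g, hg, hgne⟩ := PrincipalType.exists_fixed_coeff hK' ν S.2
      ((isFixedBy_iff _ _).mpr fun u _ => hst u)
    have hne : (bidem ψ).coeff (g : G) ≠ 0 := by
      rw [hψ, bext, coeff_ext]; exact hgne
    obtain ⟨ω, hω⟩ := exists_pairOf (ψ := ψ) S.2 hg hne
    obtain ⟨P, hP⟩ := exists_isDef (p := p) ψ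
    obtain ⟨x, hx⟩ := exists_map_le_isDef hω hP
    have hSp : IsPGroup p ((S : Subgroup G).map (MulAut.conj x).toMonoidHom) := S.2.map _
    have heq : (S : Subgroup G).map (MulAut.conj x).toMonoidHom = P := by
      have h2 : (S : Subgroup G) ≤ P.map (MulAut.conj x⁻¹).toMonoidHom := by
        intro s hs
        exact ⟨x * s * x⁻¹, hx ⟨s, hs, rfl⟩, by simp [mul_assoc]⟩
      have h3 := S.3 (hP.isPGroup.map _) h2
      rw [← h3, map_conj_map_conj, mul_inv_cancel, map_conj_eq_of_mem (one_mem _)]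
    have h4 := hP.map_conj x⁻¹
    rwa [← heq, map_conj_map_conj, inv_mul_cancel, map_conj_eq_of_mem (one_mem _)] at h4
  · obtain ⟨ν', hν'⟩ := PrincipalType.br_eq_bext hM hK' ν hst hR
    have hKC : ¬ p ∣ Nat.card (K.subgroupOf (Subgroup.centralizer (R : Set G))) := fun hd => hK' <| by
      have h1 : Nat.card (K.subgroupOf (Subgroup.centralizer (R : Set G))) ∣ Nat.card K := by
        rw [Nat.card_congr ((K.subgroupOf (Subgroup.centralizer (R : Set G))).equivMapOfInjective (Subgroup.centralizer (R : Set G)).subtype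
          (Subgroup.subtype_injective (Subgroup.centralizer (R : Set G)))).toEquiv, Subgroup.subgroupOf_map_subtype]
        exact Subgroup.card_dvd_of_le inf_le_left
      exact hd.trans h1
    haveI : (K.subgroupOf (Subgroup.centralizer (R : Set G))).Normal := Subgroup.Normal.subgroupOf inferInstance (Subgroup.centralizer (R : Set G))
    haveI : (L.subgroupOf (Subgroup.centralizer (R : Set G))).Normal := Subgroup.Normal.subgroupOf inferInstance (Subgroup.centralizer (R : Set G))
    have hidx' : ∃ n : ℕ, (K.subgroupOf (Subgroup.centralizer (R : Set G))).relIndex (L.subgroupOf (Subgroup.centralizer (R : Set G))) = p ^ n := by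
      obtain ⟨n, hn⟩ := relIndex_pow K hLp (inf_le_left : L ⊓ (Subgroup.centralizer (R : Set G)) ≤ L)
      refine ⟨n, ?_⟩
      rw [← hn, ← Subgroup.subgroupOf_map_subtype]
      exact Subgroup.relIndex_comap K (Subgroup.centralizer (R : Set G)).subtype _
    obtain ⟨T⟩ : Nonempty (Sylow p (L.subgroupOf (Subgroup.centralizer (R : Set G)))) := inferInstance
    set Q' := (T : Subgroup (L.subgroupOf (Subgroup.centralizer (R : Set G)))).map (L.subgroupOf (Subgroup.centralizer (R : Set G))).subtype with hQ'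
    have hQ'L : Q' ≤ L.subgroupOf (Subgroup.centralizer (R : Set G)) := Subgroup.map_subtype_le _
    have hTidx : ¬ p ∣ Q'.relIndex (L.subgroupOf (Subgroup.centralizer (R : Set G))) := by
      rw [hQ', Subgroup.relIndex,
        show ((T : Subgroup (L.subgroupOf (Subgroup.centralizer (R : Set G)))).map (L.subgroupOf (Subgroup.centralizer (R : Set G))).subtype).subgroupOf
          (L.subgroupOf (Subgroup.centralizer (R : Set G))) = T from
          Subgroup.comap_map_eq_self_of_injective (Subgroup.subtype_injective _) _]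
      exact T.not_dvd_index
    have hsup' : K.subgroupOf (Subgroup.centralizer (R : Set G)) ⊔ Q' = L.subgroupOf (Subgroup.centralizer (R : Set G)) :=
      PrincipalType.sup_eq_of_indices (fun a ha => hKL ha) hQ'L hidx' hTidx
    obtain ⟨ψR, hψR⟩ := PrincipalType.exists_bidem_eq hM hKC (fun a ha => hKL ha) hidx'
      (T.2.map _) hQ'L
      (fun x hx hr => regular_mem_of_centralizer hK' hLp hQL hsup hQp hQS hdisj hCQ hR Q' hsup'
        x hx hr)
      ν' (fun x => by
        rw [hν']
        exact Transport.conjA_eq_of_mem_center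
          (br_mem_center ((isFixedBy_iff _ _).mpr fun u _ => hst u)) x)
    have hf : Cfsg.IsPBlock M (toSet ψR) := isPBlock_toSet ψR
    have hfix : IsFixedBy (Subgroup.centralizer (R : Set G)) (bidem ψ) := isFixedBy_of_mem_center _ (bidem_mem ψ)
    have hbr : (⟨br R (bidem ψ), br_mem_center hfix⟩ : ZAlg (Res M) (Subgroup.centralizer (R : Set G))) = idem ψR := by
      refine Subtype.ext ?_
      show br R (bidem ψ) = bidem ψR
      rw [hψR, hψ, hν']
    refine ⟨toSet ψR, ?_, fun f hf' => ?_⟩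
    · show Cfsg.IsInducedBlock M (Subgroup.centralizer (R : Set G)) (toSet ψR) B
      rw [InducedPair.isInducedBlock_iff hR hf hB, hblk, blk_toSet]
      exact ⟨hR, (val_eq ψR hfix).trans (by rw [hbr, apply_idem_self])⟩
    · replace hf' : Cfsg.IsInducedBlock M (Subgroup.centralizer (R : Set G)) f B := hf'
      have hfB : Cfsg.IsPBlock M f := hf'.1
      have h1 := (InducedPair.isInducedBlock_iff hR hfB hB).mp hf'
      rw [hblk] at h1
      have h2 := h1.2
      rw [val_eq _ hfix, hbr] at h2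
      have h3 : blk hfB = ψR :=
        eq_of_apply_idem_ne_zero (by rw [h2]; exact one_ne_zero : blk hfB (idem ψR) ≠ 0)
      rw [← toSet_blk hfB, h3]

end Cfsg.Agent.S4642
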