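import Cfsg.Statements.S4646
import Cfsg.Agent.Lib.BrauerPairs.Bridge
import Cfsg.Agent.Lib.BrauerPairs.Principal
import Cfsg.Agent.Lib.Transfer.Frobenius
import Cfsg.Agent.Lib.Transfer.PResidual
import Cfsg.Agent.Lib.Chars82.PrincipalBlock
import Cfsg.Agent.Lib.BlocksChars5.Basic
import Cfsg.Agent.Lib.Blocks.Orthogonality
import Cfsg.Agent.Lib.Blocks.ContribRank

set_option autoImplicit false
open Cfsg

namespace Cfsg.Agent.S4646

open Cfsg.Agent.Lib.BrauerPairs.Center Cfsg.Agent.Lib.BrauerPairs.Pairs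
open Cfsg.Agent.Lib.BrauerPairs.Transport Cfsg.Agent.Lib.BrauerPairs.Maximal
open Cfsg.Agent.Lib.BrauerPairs.Principal Cfsg.Agent.Lib.BrauerPairs.Bridge

attribute [local instance] Ideal.Quotient.field


/-- For a finite group G, a prime p and a maximal ideal M of the algebraic integers containing p: the principal block of G is nilpotent if and only if its p-regular rank is 1 (the trivial Brauer character is its only irreducible Brauer character). -/
theorem result {G : Type*} [Group G] [Finite G] (p : ℕ) [Fact p.Prime] (M : Ideal Cfsg.AlgInt) (hM : Cfsg.IsPModular p M) : Cfsg.IsNilpotentBlock p M (Cfsg.principalBlock M G) ↔ Cfsg.blockRank p (Cfsg.principalBlock M G) = 1 := by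
  haveI : M.IsMaximal := hM.2.1
  haveI : CharP (Res M) p := charP_res hM
  classical
  have hp : p.Prime := Fact.out
  have hB := isPBlock_principalBlock (M := M) (G := G)
  have hone : Cfsg.Agent.Lib.Characters.Basic.oneChar G ∈ Cfsg.principalBlock M G :=
    Cfsg.Agent.Lib.Blocks.mem_blockOf_self (Cfsg.Agent.Lib.Characters.Basic.oneChar G)
  have hreg : ∀ g : G, (orderOf g).Coprime p ↔ Cfsg.IsPRegular p g := fun g => by
    rw [Nat.coprime_comm, hp.coprime_iff_not_dvd, Cfsg.IsPRegular]
  -- nilpotency of the principal block means a normal p-complement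
  have key : Cfsg.IsNilpotentBlock p M (Cfsg.principalBlock M G) ↔
      Cfsg.HasNormalPComplement p G := by
    constructor
    · intro hnil
      refine Cfsg.Agent.Lib.Transfer.Frobenius.hasNormalPComplement_of_forall_centralizes
        fun Q hQ _ g hg hgp => ?_
      have he : Cfsg.IsPBlock M (toSet (princ (Res M) (Subgroup.centralizer (Q : Set G)))) :=
        isPBlock_toSet _
      refine hnil.2 Q _ ((isBrauerPairOf_iff hB he).mpr ?_) g hg ?_ ((hreg g).mp hgp)
      · rw [blk_toSet, blk_principalBlock]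
        exact pairOf_princ hQ
      · rw [stabilizesBlock_iff he hg, blk_toSet]
        exact cBlk_princ g _ _ (mem_centralizer_conj_iff hg)
    · exact fun h => ⟨hB, fun Q e hQe x hx _ hxp =>
        Cfsg.Agent.Lib.Transfer.Frobenius.mem_centralizer_of_hasNormalPComplement h hQe.1.1 hx
          ((hreg x).mpr hxp)⟩
  rw [key]
  set ind : G → ℂ := Cfsg.pRegularPart p (Cfsg.Agent.Lib.Characters.Basic.oneChar G : G → ℂ) with hind
  have hind_apply : ∀ g : G, ind g = if p ∣ orderOf g then 0 else 1 := fun g =>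
    Cfsg.Agent.Lib.Blocks.Contrib.pRegularPart_apply _ g
  have hind0 : ind ≠ 0 := fun h => by
    have h1 := congrFun h 1
    rw [hind_apply, if_neg (by simp [hp.ne_one])] at h1
    exact one_ne_zero h1
  have hmem : ind ∈ Submodule.span ℂ ((fun χ : Cfsg.IrrCharacter G =>
      Cfsg.pRegularPart p (χ : G → ℂ)) '' Cfsg.principalBlock M G) :=
    Submodule.subset_span ⟨_, hone, rfl⟩
  constructor
  · intro h
    have hN := Cfsg.Agent.Lib.Transfer.PResidual.hasNormalPComplement_iff_not_dvd.mp h
    rw [Cfsg.blockRank]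
    suffices e : Submodule.span ℂ ((fun χ : Cfsg.IrrCharacter G =>
        Cfsg.pRegularPart p (χ : G → ℂ)) '' Cfsg.principalBlock M G) = ℂ ∙ ind by
      rw [e, finrank_span_singleton hind0]
    refine le_antisymm (Submodule.span_le.mpr ?_)
      ((Submodule.span_singleton_le_iff_mem _ _).mpr hmem)
    rintro _ ⟨χ, hχ, rfl⟩
    refine Submodule.mem_span_singleton.mpr ⟨(χ : G → ℂ) 1, funext fun g => ?_⟩
    show _ = Cfsg.pRegularPart p (χ : G → ℂ) g
    rw [Pi.smul_apply, hind_apply, smul_eq_mul,
      Cfsg.Agent.Lib.Blocks.Contrib.pRegularPart_apply]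
    by_cases hg : p ∣ orderOf g
    · rw [if_pos hg, if_pos hg, mul_zero]
    · rw [if_neg hg, if_neg hg, mul_one]
      haveI : (Cfsg.pResidual p G).Normal := Cfsg.Agent.Lib.Transfer.PResidual.pResidual_normal
      exact (Cfsg.Agent.Lib.Chars82.PrincipalBlock.apply_eq_of_mem_principalBlock hM _ hN hχ
        ⟨g, Cfsg.Agent.Lib.Transfer.PResidual.mem_pResidual ((hreg g).mpr hg)⟩).symm
  · intro h
    rw [Cfsg.blockRank] at h
    -- on p-regular elements every member is constant
    have hconst : ∀ χ ∈ Cfsg.principalBlock M G, ∀ g : G, ¬ p ∣ orderOf g →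
        (χ : G → ℂ) g = (χ : G → ℂ) 1 := by
      intro χ hχ g hg
      obtain ⟨c, hc⟩ := exists_smul_eq_of_finrank_eq_one h (x := ⟨ind, hmem⟩)
        (fun e => hind0 (congrArg Subtype.val e))
        ⟨Cfsg.pRegularPart p (χ : G → ℂ), Submodule.subset_span ⟨_, hχ, rfl⟩⟩
      have h1 := congrArg Subtype.val hc
      have e : ∀ x : G, ¬ p ∣ orderOf x → (χ : G → ℂ) x = c := fun x hx => by
        have h2 := congrFun h1 x
        simp only [SetLike.val_smul, Pi.smul_apply, hind_apply, if_neg hx, smul_eq_mul, mul_one,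
          Cfsg.Agent.Lib.Blocks.Contrib.pRegularPart_apply] at h2
        exact h2.symm
      rw [e g hg, e 1 (by simp [hp.ne_one])]
    rw [Cfsg.Agent.Lib.Transfer.PResidual.hasNormalPComplement_iff_not_dvd]
    intro hdvd
    obtain ⟨x, hx⟩ := exists_prime_orderOf_dvd_card' p hdvd
    have hxd : p ∣ orderOf (x : G) := by rw [Subgroup.orderOf_coe, hx]
    have hker : ∀ χ ∈ Cfsg.principalBlock M G, (χ : G → ℂ) x = (χ : G → ℂ) 1 := fun χ hχ =>
      (Cfsg.Agent.Lib.Transfer.PResidual.pResidual_le_iff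
        (K := Cfsg.Agent.Lib.BlocksChars5.Basic.charKer χ)).mpr
        (fun g hg => hconst χ hχ g ((hreg g).mp hg)) x.2
    have hw := Cfsg.Agent.Lib.Blocks.weak_orthogonality hM hB (x := (1 : G))
      (by simp [hp.ne_one]) hxd
    rw [finsum_mem_congr rfl (fun χ hχ => by rw [hker χ hχ, Cfsg.Agent.Lib.BlocksChars5.Basic.apply_one χ,
        Complex.conj_natCast, ← Nat.cast_mul]),
      finsum_mem_eq_finite_toFinset_sum _ (Set.toFinite _), ← Nat.cast_sum, Nat.cast_eq_zero,
      Finset.sum_eq_zero_iff] at hw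
    have h0 := hw (Cfsg.Agent.Lib.Characters.Basic.oneChar G) ((Set.toFinite _).mem_toFinset.mpr hone)
    have hpos := Cfsg.Agent.Lib.BlocksChars5.Basic.degree_pos (Cfsg.Agent.Lib.Characters.Basic.oneChar G)
    exact absurd (Nat.mul_eq_zero.mp h0) (by omega)

end Cfsg.Agent.S4646
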