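import Cfsg.Statements.S4647
import Cfsg.Agent.Lib.MinSquare.Main
import Cfsg.Agent.Lib.BrauerPairs.Bridge
import Cfsg.Agent.Lib.BrauerPairs.BlockAlgebra
import Cfsg.Agent.Lib.BlocksChars5.Basic

set_option autoImplicit false
open Cfsg

namespace Cfsg.Agent.S4647

open Cfsg.Agent.Lib.BrauerPairs

/-- Let B be a block of the finite group G relative to a maximal ideal M of the algebraic integers containing the prime p, p^a the p-part of the order of G and p^d the order of a defect group D of B. If Σ_{χ ∈ B} χ(1)² = p^(2a−d) (the least possible value), then B is nilpotent. -/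
theorem result {G : Type*} [Group G] [Finite G] (p : ℕ) [Fact p.Prime] (M : Ideal Cfsg.AlgInt) (hM : Cfsg.IsPModular p M) (B : Set (Cfsg.IrrCharacter G)) (hB : Cfsg.IsPBlock M B) (D : Subgroup G) (hD : Cfsg.IsDefectGroup p M B D) (a d : ℕ) (ha : (Nat.card G).factorization p = a) (hd : Nat.card D = p ^ d) (hmin : ∑ᶠ χ ∈ B, Cfsg.charDegree (χ : G → ℂ) ^ 2 = p ^ (2 * a - d)) : Cfsg.IsNilpotentBlock p M B := by
  classical
  haveI : M.IsMaximal := hM.2.1
  letI := Fintype.ofFinite G
  letI : Field (Bridge.Res M) := Ideal.Quotient.field M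
  haveI := Bridge.charP_res hM
  refine ⟨hB, fun Q e hQe x hx _ hreg => ?_⟩
  have hpair := (Bridge.isBrauerPairOf_iff hB hQe.1.2).mp hQe
  have hdef := (Bridge.isDefectGroup_iff hB D).mp hD
  have hdim : Module.finrank (Bridge.Res M)
      (CornerAlgebra.leftFix (Bridge.Res M) (Center.bidem (Bridge.blk hB))) = p ^ (2 * a - d) := by
    have h := BlockAlgebra.finrank_eA hB
    rw [show BlockAlgebra.eBar hB = Center.bidem (Bridge.blk hB) from
      congrArg Subtype.val (Bridge.idem_eq_blockIdemBar hB).symm] at h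
    rw [← hmin, finsum_mem_eq_finite_toFinset_sum _ (Set.toFinite B)]
    have h' : ∀ φ : Cfsg.IrrCharacter G, (φ : G → ℂ) 1 ^ 2 =
        ((Cfsg.charDegree (φ : G → ℂ) ^ 2 : ℕ) : ℂ) := fun φ => by
      rw [Nat.cast_pow, Cfsg.Agent.Lib.BlocksChars5.Basic.charDegree_cast
        (Cfsg.Agent.Lib.Characters.Basic.isCharacter_irr φ)]
    rw [Finset.sum_congr rfl fun φ _ => h' φ, ← Nat.cast_sum, Nat.cast_inj] at h
    exact h
  obtain ⟨c, hc, hcb⟩ : ∃ c ∈ Subgroup.centralizer (Q : Set G),
      (Center.bidem (Bridge.blk hB)).coeff c ≠ 0 := by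
    by_contra hcon
    push Not at hcon
    apply one_ne_zero (α := Bridge.Res M)
    rw [← hpair.2, ← Trunc.val_zero Q (Bridge.blk hQe.1.2)]
    refine Trunc.val_congr _ (MonoidAlgebra.ext (Finsupp.ext fun h => ?_))
    rw [Trunc.coeff_br, Trunc.coeff_br, hcon h h.2]
    simp
  exact Cfsg.Agent.Lib.MinSquare.Main.centralizes_of_dim (Bridge.blk hB) hdef hd ha hdim
    hQe.1.1 hc hcb hx hreg

end Cfsg.Agent.S4647
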