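import Cfsg.Statements.S4650
import Cfsg.Agent.Lib.BrauerPairs.LocalAbelian

set_option autoImplicit false
open Cfsg

namespace Cfsg.Agent.S4650

open Cfsg.Agent.Lib.BrauerPairs Cfsg.Agent.Lib.BrauerPairs.Center
open Cfsg.Agent.Lib.BrauerPairs.Trunc Cfsg.Agent.Lib.BrauerPairs.Conj
open Cfsg.Agent.Lib.BrauerPairs.Pairs Cfsg.Agent.Lib.BrauerPairs.Transport
open Cfsg.Agent.Lib.BrauerPairs.Maximal Cfsg.Agent.Lib.BrauerPairs.Bridge
open Cfsg.Agent.Lib.BrauerPairs.Local Cfsg.Agent.Lib.BrauerPairs.Fusion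

attribute [local instance] Ideal.Quotient.field


/-- Let B be a block of the finite group G relative to a maximal ideal M of the algebraic integers containing the prime p, with a nontrivial commutative defect group P; let c be a block of C_G(P) inducing B and T the stabilizer of c in N_G(P). Then T/C_G(P) acts freely on the non-identity elements of P (an element of T fixing a non-identity element of P under conjugation lies in C_G(P)) if and only if, for every nontrivial subgroup Q of P, the block of C_G(Q) induced by c inside C_G(Q) is a nilpotent block of C_G(Q). -/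
theorem result {G : Type*} [Group G] [Finite G] (p : ℕ) [Fact p.Prime] (M : Ideal Cfsg.AlgInt) (hM : Cfsg.IsPModular p M) (B : Set (Cfsg.IrrCharacter G)) (hB : Cfsg.IsPBlock M B) (P : Subgroup G) (hPD : Cfsg.IsDefectGroup p M B P) (hPab : ∀ x ∈ P, ∀ y ∈ P, x * y = y * x) (hP1 : P ≠ ⊥) (c : Set (Cfsg.IrrCharacter (Subgroup.centralizer (P : Set G)))) (hc : Cfsg.IsInducedBlock M (Subgroup.centralizer (P : Set G)) c B) (T : Subgroup G) (hT : ∀ g : G, g ∈ T ↔ (g ∈ Subgroup.normalizer (P : Set G) ∧ Cfsg.StabilizesBlock (Subgroup.centralizer (P : Set G)) c g)) : (∀ g ∈ T, ∀ x ∈ P, x ≠ 1 → g * x * g⁻¹ = x → g ∈ Subgroup.centralizer (P : Set G)) ↔ ∀ Q : Subgroup G, Q ≤ P → Q ≠ ⊥ → ∀ f : Set (Cfsg.IrrCharacter (Subgroup.centralizer (Q : Set G))), Cfsg.IsInducedBlockIn M (Subgroup.centralizer (Q : Set G)) (Subgroup.centralizer (P : Set G)) c f → Cfsg.IsNilpotentBlock p M f := by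
  classical
  haveI : M.IsMaximal := hM.2.1
  haveI : CharP (Res M) p := charP_res hM
  have he := hc.1
  have hD := (isDefectGroup_iff hB P).mp hPD
  have hP : IsPGroup p P := hD.isPGroup
  have hpair := (InducedPair.isInducedBlock_iff hP he hB).mp hc
  have htop : Top p (⟨P, blk he⟩ : Idx (Res M) G) := top_of_isDef hpair hD
  have hmem : ∀ g : G, g ∈ T ↔ g ∈ stab (⟨P, blk he⟩ : Idx (Res M) G) := by
    intro g
    rw [hT g, mem_stab_iff]
    refine and_congr_right fun hN => ?_
    rw [stabilizesBlock_iff he hN, act_eq_iff]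
  have hPCQ : ∀ Q : Subgroup G, Q ≤ P → P ≤ Subgroup.centralizer (Q : Set G) :=
    fun Q hQ => Abelian.le_centralizer_of_le_abelian hPab hQ
  constructor
  · intro hfree Q hQP hQ1 f hf
    have hfb := hf.2.1
    rw [isNilpotentBlock_iff hfb, LocalAbelian.nilp_iff htop hPab (hPCQ Q hQP) hQP
      ((InducedPair.isInducedBlockIn_iff hP (hPCQ Q hQP) (centralizer_anti hQP) he hfb).mp hf)]
    intro x hx hxQ
    obtain ⟨q, hq, hq1⟩ := Q.ne_bot_iff_exists_ne_one.mp hQ1 |> fun ⟨a, ha⟩ =>
      (⟨a.1, a.2, fun e => ha (Subtype.ext e)⟩ : ∃ q, q ∈ Q ∧ q ≠ 1)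
    refine hfree x ((hmem x).mpr hx) q (hQP hq) hq1 ?_
    rw [← hxQ q hq, mul_inv_cancel_right]
  · intro hall g hg x hx hx1 hgx
    set Q := Subgroup.zpowers x with hQ
    have hQP : Q ≤ P := Subgroup.zpowers_le.mpr hx
    have hQ1 : Q ≠ ⊥ := fun h => hx1 (by
      have : x ∈ Q := Subgroup.mem_zpowers x
      rwa [h, Subgroup.mem_bot] at this)
    have hgQ : g ∈ Subgroup.centralizer (Q : Set G) := by
      rw [hQ, Subgroup.mem_centralizer_iff]
      intro y hy
      obtain ⟨i, rfl⟩ := Subgroup.mem_zpowers_iff.mp hy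
      exact (Commute.zpow_left (show Commute x g from (mul_inv_eq_iff_eq_mul.mp hgx).symm) i).eq
    obtain ⟨F, hF, -⟩ := existsUnique_pairOf (p := p)
      (⟨P.subgroupOf (Subgroup.centralizer (Q : Set G)),
        Embed.down (hPCQ Q hQP) (centralizer_anti hQP) (blk he)⟩ : Idx (Res M) _)
      (hP.of_equiv (Subgroup.subgroupOfEquivOfLe (hPCQ Q hQP)).symm)
    have hf := isPBlock_toSet (M := M) F
    have hnil := hall Q hQP hQ1 (toSet F) ((InducedPair.isInducedBlockIn_iff hP (hPCQ Q hQP)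
      (centralizer_anti hQP) he hf).mpr (by rwa [blk_toSet]))
    rw [isNilpotentBlock_iff hf, blk_toSet,
      LocalAbelian.nilp_iff htop hPab (hPCQ Q hQP) hQP hF] at hnil
    exact hnil g ((hmem g).mp hg) hgQ

end Cfsg.Agent.S4650
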