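import Cfsg.Statements.S4651
import Cfsg.Agent.Lib.ChainSum.Chains
import Cfsg.Agent.Lib.ChainSum.Count

set_option autoImplicit false
open Cfsg

namespace Cfsg.Agent.S4651

open Cfsg.Agent.Lib.ChainSum.Chains Cfsg.Agent.Lib.ChainSum.Count

universe u

/-- A chain without a bad member is empty or has a member that normalises all members. -/
theorem not_bad_iff {G : Type u} [Group G] [Finite G] {p : ℕ} {s : Finset (Subgroup G)}
    (hs : IsChainP p s) :
    (¬ ∃ Q, Bad s Q) ↔ s = ∅ ∨ (s.Nonempty ∧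
      ∃ T ∈ s, ∀ Q ∈ s, Q ≤ T ∧ T ≤ Subgroup.normalizer ((Q : Subgroup G) : Set G)) := by
  constructor
  · intro h
    rcases s.eq_empty_or_nonempty with h0 | h0
    · exact Or.inl h0
    refine Or.inr ⟨h0, ?_⟩
    obtain ⟨T, hT, hmax⟩ := Finset.exists_max_image s (fun Q => Nat.card Q) h0
    refine ⟨T, hT, fun Q hQ => ?_⟩
    have hle : Q ≤ T := by
      rcases hs.1 Q hQ T hT with h' | h'
      · exact h'
      · exact (Subgroup.eq_of_le_of_card_ge h' (hmax Q hQ)).ge
    refine ⟨hle, ?_⟩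
    by_contra hn
    exact h ⟨T, hT, Q, hQ, hle, hn⟩
  · rintro (rfl | ⟨-, T, -, hT⟩) ⟨Q, hQ, Q', hQ', -, hn⟩
    · simp at hQ
    · exact hn ((hT Q hQ).1.trans (hT Q' hQ').2)

/-- An alternating-sum identity over chains of p-subgroups (the character-count form behind the chain reformulation of Alperin's weight conjecture, which holds unconditionally for the difference k − l). Let b be a block of the finite group G relative to a maximal ideal M of the algebraic integers containing the prime p. Consider the nonempty chains s = {Q_0 < Q_1 < ⋯ < Q_m} of nontrivial p-subgroups of G in which every member is normal in the largest member; let N_G(s) be the intersection of the normalizers of the members (the stabilizer of the chain), and let b_s be the set of irreducible characters of N_G(s) lying in blocks of N_G(s) that induce b. Then #G · (k(b) − l(b)) equals the sum over all such chains s of (−1)^m · #N_G(s) · (k(b_s) − l(b_s)), where k counts irreducible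 characters and l is the p-regular rank; equivalently, k(b) − l(b) is the alternating sum of k(b_s) − l(b_s) over representatives of the conjugacy classes of such chains. -/
theorem result {G : Type*} [Group G] [Finite G] (p : ℕ) [Fact p.Prime] (M : Ideal Cfsg.AlgInt) (hM : Cfsg.IsPModular p M) (b : Set (Cfsg.IrrCharacter G)) (hb : Cfsg.IsPBlock M b) : (Nat.card G : ℤ) * ((Nat.card b : ℤ) - (Cfsg.blockRank p b : ℤ)) = ∑ᶠ s ∈ {s : Finset (Subgroup G) | s.Nonempty ∧ (∀ Q ∈ s, ∀ R ∈ s, Q ≤ R ∨ R ≤ Q) ∧ (∀ Q ∈ s, Q ≠ ⊥ ∧ IsPGroup p Q) ∧ ∃ T ∈ s, ∀ Q ∈ s, Q ≤ T ∧ T ≤ Subgroup.normalizer ((Q : Subgroup G) : Set G)}, (-1 : ℤ) ^ (s.card - 1) * (Nat.card (((⨅ Q ∈ s, Subgroup.normalizer ((Q : Subgroup G) : Set G) : Subgroup G))) : ℤ) * ((Nat.card {ψ : Cfsg.IrrCharacter (((⨅ Q ∈ s, Subgroup.normalizer ((Q : Subgroup G) : Set G) : Subgroup G))) | ∃ β : Set (Cfsg.IrrCharacter (((⨅ Q ∈ s, Subgroup.normalizer ((Q : Subgroup G) : Set G) : Subgroup G)))), ψ ∈ β ∧ Cfsg.IsInducedBlock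 M (((⨅ Q ∈ s, Subgroup.normalizer ((Q : Subgroup G) : Set G) : Subgroup G))) β b} : ℤ) - (Cfsg.blockRank p {ψ : Cfsg.IrrCharacter (((⨅ Q ∈ s, Subgroup.normalizer ((Q : Subgroup G) : Set G) : Subgroup G))) | ∃ β : Set (Cfsg.IrrCharacter (((⨅ Q ∈ s, Subgroup.normalizer ((Q : Subgroup G) : Set G) : Subgroup G)))), ψ ∈ β ∧ Cfsg.IsInducedBlock M (((⨅ Q ∈ s, Subgroup.normalizer ((Q : Subgroup G) : Set G) : Subgroup G))) β b} : ℤ)) := by
  classical
  haveI : M.IsMaximal := hM.2.1
  letI := Fintype.ofFinite G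
  letI := Fintype.ofFinite (Finset (Subgroup G))
  -- the summand
  let g : Subgroup G → ℤ := fun K => ((Nat.card K * L p M b K : ℕ) : ℤ)
  let F : Subgroup G → ℤ := fun H => (Nat.card H : ℤ) *
    ((Nat.card (chars (above M b H)) : ℤ) - (Cfsg.blockRank p (chars (above M b H)) : ℤ))
  have hF : ∀ H : Subgroup G, F H = ∑ u ∈ Finset.univ.filter (fun u : G => PNe p u ∧ u ∈ H),
      g (H ⊓ Subgroup.centralizer ({u} : Set G)) := fun H => count_subgroup hM hb H
  let C : Finset (Finset (Subgroup G)) :=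
    Finset.univ.filter fun s : Finset (Subgroup G) => IsChainP p s
  -- all chains
  have hall : ∑ s ∈ C, (-1 : ℤ) ^ s.card * F (stab s) = 0 := by
    simp only [hF, Finset.mul_sum]
    rw [Finset.sum_comm' (t' := Finset.univ.filter fun u : G => PNe p u)
      (s' := fun u => Finset.univ.filter fun s : Finset (Subgroup G) => IsChainP p s ∧ u ∈ stab s)
      (fun s u => by simp only [C, Finset.mem_filter, Finset.mem_univ, true_and]; tauto)]
    refine Finset.sum_eq_zero fun u hu => ?_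
    exact sum_fixed_eq_zero (Finset.mem_filter.mp hu).2.2 (Finset.mem_filter.mp hu).2.1 g
  have hsplit := Finset.sum_filter_add_sum_filter_not C (fun s => ∃ Q, Bad s Q)
    (fun s => (-1 : ℤ) ^ s.card * F (stab s))
  have hbad : ∑ s ∈ C.filter (fun s => ∃ Q, Bad s Q), (-1 : ℤ) ^ s.card * F (stab s) = 0 := by
    convert sum_bad_eq_zero (p := p) F using 1
    exact Finset.sum_congr (by ext s; simp [C]) fun _ _ => rfl
  rw [hall, hbad, zero_add] at hsplit
  -- the chains without bad member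
  have hset : ∀ s : Finset (Subgroup G), s ∈ {s : Finset (Subgroup G) | s.Nonempty ∧
      (∀ Q ∈ s, ∀ R ∈ s, Q ≤ R ∨ R ≤ Q) ∧ (∀ Q ∈ s, Q ≠ ⊥ ∧ IsPGroup p Q) ∧
      ∃ T ∈ s, ∀ Q ∈ s, Q ≤ T ∧ T ≤ Subgroup.normalizer ((Q : Subgroup G) : Set G)} ↔
      s ∈ (C.filter fun s => ¬ ∃ Q, Bad s Q).erase ∅ := by
    intro s
    simp only [C, Set.mem_setOf_eq, Finset.mem_erase, Finset.mem_filter, Finset.mem_univ, true_and]
    constructor
    · rintro ⟨h1, h2, h3, h4⟩
      exact ⟨h1.ne_empty, ⟨h2, h3⟩, (not_bad_iff ⟨h2, h3⟩).mpr (Or.inr ⟨h1, h4⟩)⟩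
    · rintro ⟨h1, h2, h3⟩
      obtain ⟨h4, h5⟩ := ((not_bad_iff h2).mp h3).resolve_left h1
      exact ⟨h4, h2.1, h2.2, h5⟩
  have hempty : (∅ : Finset (Subgroup G)) ∈ C.filter fun s => ¬ ∃ Q, Bad s Q := by
    refine Finset.mem_filter.mpr ⟨Finset.mem_filter.mpr ⟨Finset.mem_univ _,
      fun Q hQ => absurd hQ (Finset.notMem_empty Q), fun Q hQ => absurd hQ (Finset.notMem_empty Q)⟩,
      fun ⟨Q, hQ, _⟩ => Finset.notMem_empty Q hQ⟩
  have htop : F (stab (∅ : Finset (Subgroup G))) =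
      (Nat.card G : ℤ) * ((Nat.card b : ℤ) - (Cfsg.blockRank p b : ℤ)) := by
    rw [stab_empty, hF, count_top hM hb]
    refine Finset.sum_congr (by ext u; simp) fun u _ => ?_
    rw [top_inf_eq]
  rw [← Finset.add_sum_erase _ _ hempty, htop, Finset.card_empty, pow_zero, one_mul] at hsplit
  rw [finsum_mem_congr (Set.ext fun s => hset s) (fun s _ => rfl)]
  rw [finsum_mem_coe_finset, eq_neg_of_add_eq_zero_left hsplit, ← Finset.sum_neg_distrib]
  refine Finset.sum_congr rfl fun s hs => ?_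
  have hne : s.Nonempty := Finset.nonempty_iff_ne_empty.mpr (Finset.ne_of_mem_erase hs)
  have hchars : {ψ : Cfsg.IrrCharacter (stab s) | ∃ β : Set (Cfsg.IrrCharacter (stab s)),
      ψ ∈ β ∧ Cfsg.IsInducedBlock M (stab s) β b} = chars (above M b (stab s)) := by
    ext ψ
    exact ⟨fun ⟨β, h1, h2⟩ => ⟨β, mem_above.mpr h2, h1⟩,
      fun ⟨β, h1, h2⟩ => ⟨β, h2, mem_above.mp h1⟩⟩
  rw [hchars]
  conv_lhs => rw [← Nat.succ_pred_eq_of_pos hne.card_pos, pow_succ]
  rw [Nat.pred_eq_sub_one]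
  simp only [F]
  ring

end Cfsg.Agent.S4651
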