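import Cfsg.Statements.S4654
import Cfsg.Agent.Lib.BrauerPairs.Bridge
import Cfsg.Agent.Lib.BrauerPairs.Stabilizer

set_option autoImplicit false
open Cfsg

namespace Cfsg.Agent.S4654

open Cfsg.Agent.Lib.BrauerPairs.Center Cfsg.Agent.Lib.BrauerPairs.Pairs
open Cfsg.Agent.Lib.BrauerPairs.Transport Cfsg.Agent.Lib.BrauerPairs.Maximal
open Cfsg.Agent.Lib.BrauerPairs.Principal Cfsg.Agent.Lib.BrauerPairs.Bridge

attribute [local instance] Ideal.Quotient.field

open Cfsg.Agent.Lib.BrauerPairs Cfsg.Agent.Lib.BrauerPairs.Trunc Cfsg.Agent.Lib.BrauerPairs.Conj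
open Cfsg.Agent.Lib.BrauerPairs.Lift Cfsg.Agent.Lib.BrauerMap.Basic


/-- Fix a prime p and a maximal ideal M of the algebraic integers containing p. Let P be a normal p-subgroup of the finite group G, B a p-block of G and e a p-block of C_G(P) such that (P, e) is a Brauer pair of B (as P is normal, this says that e occurs in the idempotent of B, which is supported on C_G(P)). Let T be the stabilizer of e in G under conjugation. Then the idempotent of e is a block idempotent of T: some block E of T has, at every element of T, the same idempotent coefficient as e (zero off C_G(P)); and the idempotent of B is the sum of the distinct G-conjugates of the idempotent of e: its coefficient at g is the sum over all x in G of the coefficient of e at x⁻¹ g x, divided by the order of T. -/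
theorem result {G : Type*} [Group G] [Fintype G] (p : ℕ) [Fact p.Prime] (M : Ideal Cfsg.AlgInt) (hM : Cfsg.IsPModular p M) (P : Subgroup G) [P.Normal] (hP : IsPGroup p P) (B : Set (Cfsg.IrrCharacter G)) (e : Set (Cfsg.IrrCharacter (Subgroup.centralizer (P : Set G)))) (hBe : Cfsg.IsBrauerPairOf p M B P e) (T : Subgroup G) (hT : ∀ x : G, x ∈ T ↔ Cfsg.StabilizesBlock (Subgroup.centralizer (P : Set G)) e x) : (∃ E : Set (Cfsg.IrrCharacter T), Cfsg.IsPBlock M E ∧ ∀ t : T, Cfsg.blockCoeff E t = Cfsg.subgroupBlockCoeff (Subgroup.centralizer (P : Set G)) e (t : G)) ∧ ∀ g : G, Cfsg.blockCoeff B g = (Nat.card T : ℂ)⁻¹ * ∑ x : G, Cfsg.subgroupBlockCoeff (Subgroup.centralizer (P : Set G)) e (x⁻¹ * g * x) := by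
  haveI : M.IsMaximal := hM.2.1
  haveI : CharP (Res M) p := charP_res hM
  classical
  have hB := hBe.2.1
  have he := hBe.1.2
  have hpair := (isBrauerPairOf_iff hB he).mp hBe
  have hnorm : ∀ x : G, x ∈ Subgroup.normalizer (P : Set G) := fun x => by
    rw [Subgroup.normalizer_eq_top]; exact Subgroup.mem_top x
  set b := bext (Subgroup.centralizer (P : Set G)) (blk he) with hb
  have hT' : ∀ x : G, x ∈ T ↔ conjA x b = b := fun x => by
    rw [hT, stabilizesBlock_iff he (hnorm x), act_eq_iff]
  have hCT : (Subgroup.centralizer (P : Set G)) ≤ T := fun u hu => (hT' u).mpr ((isFixedBy_iff (Subgroup.centralizer (P : Set G)) b).mp (isFixedBy_bext _ _) u hu)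
  have hPT : P ≤ T := by
    intro u hu
    rw [hT']
    ext g
    rw [coeff_conjA]
    by_cases hg : g ∈ (Subgroup.centralizer (P : Set G))
    · have e2 : u⁻¹ * g * u = g := by
        rw [mul_assoc, (Subgroup.mem_centralizer_iff.mp hg u hu).symm, inv_mul_cancel_left]
      rw [e2]
    · rw [hb, bext, coeff_ext_of_notMem _ _ hg, coeff_ext_of_notMem _ _ (fun h => hg ?_)]
      have := (mem_centralizer_iff_of_normal P u _).mp h
      simpa [mul_assoc] using this
  refine ⟨?_, fun g => ?_⟩
  · obtain ⟨E, hE, hco, -, -⟩ := Stabilizer.exists_block_of_stable (p := p) hP hPT hCT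
      (fun x _ => hnorm x) he ((isFixedBy_iff T b).mpr fun u hu => (hT' u).mp hu)
    exact ⟨E, hE, hco⟩
  haveI := Fintype.ofFinite (Blk (Res M) (Subgroup.centralizer (P : Set G)))
  rw [blockCoeff_eq_sum_normal hB hP]
  set S := Finset.univ.filter (fun f : Blk (Res M) (Subgroup.centralizer (P : Set G)) => val P f (bidem (blk hB)) = 1) with hS
  set φ : G → Blk (Res M) (Subgroup.centralizer (P : Set G)) := fun x => act P (hnorm x) (blk he) with hφ
  have hmaps : ∀ x ∈ (Finset.univ : Finset G), φ x ∈ S := by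
    intro x _
    rw [hS, Finset.mem_filter]
    refine ⟨Finset.mem_univ _, ?_⟩
    have hz := bidem_mem (blk hB)
    have h1 := val_cBlk x P P (mem_centralizer_conj_iff (hnorm x)) (blk he) (bidem (blk hB))
      (isFixedBy_of_mem_center _ hz)
      (by rw [conjA_eq_of_mem_center hz]; exact isFixedBy_of_mem_center _ hz)
    rw [conjA_eq_of_mem_center hz] at h1
    exact h1.trans hpair.2
  have hcoef : ∀ x : G, Cfsg.subgroupBlockCoeff (Subgroup.centralizer (P : Set G)) e (x⁻¹ * g * x) =
      Cfsg.subgroupBlockCoeff (Subgroup.centralizer (P : Set G)) (toSet (φ x)) g := by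
    intro x
    have h := subgroupBlockCoeff_conj_normal (Subgroup.centralizer (P : Set G)) x (mem_centralizer_conj_iff (hnorm x)) (blk he)
      (x⁻¹ * g * x)
    rw [show x * (x⁻¹ * g * x) * x⁻¹ = g by simp [mul_assoc]] at h
    rw [toSet_blk] at h
    exact h.symm
  have hfib : ∀ f ∈ S, (Finset.univ.filter fun x => φ x = f).card = Nat.card T := by
    intro f hf
    rw [hS, Finset.mem_filter] at hf
    obtain ⟨x0, hx0⟩ := Stabilizer.exists_conj_of_normal hpair
      (⟨hP, hf.2⟩ : PairOf p (blk hB) ⟨P, f⟩)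
    rw [Nat.card_eq_fintype_card, ← Finset.card_univ]
    have hiff : ∀ x, φ x = f ↔ x0⁻¹ * x ∈ T := fun x => by
      rw [hT', conjA_mul, ← (bext_injective (Subgroup.centralizer (P : Set G))).eq_iff, ← hx0]
      simp only [hφ, bext_act]
      constructor
      · intro h; rw [hb, h, ← conjA_mul, inv_mul_cancel, conjA_one]
      · intro h
        have h2 := congrArg (conjA x0) h
        rwa [← conjA_mul, mul_inv_cancel, conjA_one] at h2
    refine Finset.card_bij (fun x hx => (⟨x0⁻¹ * x, (hiff x).mp (Finset.mem_filter.mp hx).2⟩ : T))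
      (fun _ _ => Finset.mem_univ _) (fun a _ c _ hac => mul_left_cancel (congrArg Subtype.val hac))
      fun t _ => ⟨x0 * t, Finset.mem_filter.mpr ⟨Finset.mem_univ _, (hiff _).mpr (by simp)⟩,
        Subtype.ext (by simp)⟩
  simp_rw [hcoef]
  rw [← Finset.sum_fiberwise_of_maps_to hmaps]
  have hinner : ∀ f ∈ S, ∑ x ∈ Finset.univ.filter (fun x => φ x = f),
      Cfsg.subgroupBlockCoeff (Subgroup.centralizer (P : Set G)) (toSet (φ x)) g =
      (Nat.card T : ℂ) * Cfsg.subgroupBlockCoeff (Subgroup.centralizer (P : Set G)) (toSet f) g := by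
    intro f hf
    rw [Finset.sum_congr rfl fun x hx => by rw [(Finset.mem_filter.mp hx).2], Finset.sum_const,
      hfib f hf, nsmul_eq_mul]
  rw [Finset.sum_congr rfl hinner, ← Finset.mul_sum, ← mul_assoc, inv_mul_cancel₀, one_mul]
  exact Nat.cast_ne_zero.mpr Nat.card_pos.ne'

end Cfsg.Agent.S4654
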