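import Cfsg.Statements.S4657
import Cfsg.Agent.Lib.BrauerPairs.Bridge

set_option autoImplicit false
open Cfsg

namespace Cfsg.Agent.S4657

open Cfsg.Agent.Lib.BrauerPairs.Center Cfsg.Agent.Lib.BrauerPairs.Pairs
open Cfsg.Agent.Lib.BrauerPairs.Transport Cfsg.Agent.Lib.BrauerPairs.Maximal
open Cfsg.Agent.Lib.BrauerPairs.Principal Cfsg.Agent.Lib.BrauerPairs.Bridge

attribute [local instance] Ideal.Quotient.field


/-- Fix a prime p and a maximal ideal M of the algebraic integers containing p. Every Brauer pair (P, e) of the finite group G is a Brauer pair of exactly one p-block B of G. -/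
theorem result {G : Type*} [Group G] [Fintype G] (p : ℕ) [Fact p.Prime] (M : Ideal Cfsg.AlgInt) (hM : Cfsg.IsPModular p M) (P : Subgroup G) (e : Set (Cfsg.IrrCharacter (Subgroup.centralizer (P : Set G)))) (hPe : Cfsg.IsBrauerPair p M P e) : ∃! B : Set (Cfsg.IrrCharacter G), Cfsg.IsBrauerPairOf p M B P e := by
  haveI : M.IsMaximal := hM.2.1
  haveI : CharP (Res M) p := charP_res hM
  obtain ⟨hP, he⟩ := hPe
  obtain ⟨ψ, hψ, huniq⟩ := existsUnique_pairOf (⟨P, blk he⟩ : Idx (Res M) G) hP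
  refine ⟨toSet ψ, ?_, fun B hB => ?_⟩
  · beta_reduce
    rw [isBrauerPairOf_iff (isPBlock_toSet ψ) he, blk_toSet]
    exact hψ
  · rw [← toSet_blk hB.2.1, huniq _ ((isBrauerPairOf_iff hB.2.1 he).mp hB)]

end Cfsg.Agent.S4657
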