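import Cfsg.Statements.S4661
import Cfsg.Agent.Lib.BrauerPairs.Bridge
import Cfsg.Agent.Lib.BrauerPairs.LocalDefect

set_option autoImplicit false
open Cfsg

namespace Cfsg.Agent.S4661

open Cfsg.Agent.Lib.BrauerPairs.Center Cfsg.Agent.Lib.BrauerPairs.Pairs
open Cfsg.Agent.Lib.BrauerPairs.Transport Cfsg.Agent.Lib.BrauerPairs.Maximal
open Cfsg.Agent.Lib.BrauerPairs.Principal Cfsg.Agent.Lib.BrauerPairs.Bridge

attribute [local instance] Ideal.Quotient.field

open Cfsg.Agent.Lib.BrauerMap.Basic Cfsg.Agent.Lib.BrauerPairs.Trunc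
open Cfsg.Agent.Lib.BrauerPairs.Conj

open Cfsg.Agent.Lib.BrauerPairs

universe u v

/-- A conjugate pair below the maximal pair with the largest local intersection. -/
theorem exists_maximal {k : Type v} [Field k] [IsAlgClosed k] {G : Type u} [Group G] [Finite G]
    {p : ℕ} [Fact p.Prime] [CharP k p] (c : Subgroup G → ℕ) {a b : Idx k G} (h : Le p a b) :
    ∃ x : G, Le p (cPair x a) b ∧ ∀ y : G, Le p (cPair y (cPair x a)) b →
      c (cPair y (cPair x a)).1 ≤ c (cPair x a).1 := by
  classical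
  haveI := Fintype.ofFinite G
  obtain ⟨x, hx, hmax⟩ := (Finset.univ.filter fun x : G => Le p (cPair x a) b).exists_max_image
    (fun x => c (cPair x a).1) ⟨1, by simp [cPair_one, h]⟩
  refine ⟨x, (Finset.mem_filter.mp hx).2, fun y hy => ?_⟩
  rw [← cPair_mul] at hy ⊢
  exact hmax _ (Finset.mem_filter.mpr ⟨Finset.mem_univ _, hy⟩)


/-- Fix a prime p and a maximal ideal M of the algebraic integers containing p. Let (P, e) be a maximal Brauer pair of the p-block B of the finite group G, Q ≤ P, and f the p-block of C_G(Q) with (Q, f) ≤ (P, e). Then C_P(Q) is contained in a defect group of f (as a block of the group C_G(Q)); and for some x in G the conjugate pair (x Q x⁻¹, conjugate of f) again lies below (P, e) and C_P(x Q x⁻¹) is a defect group of the conjugate of f in C_G(x Q x⁻¹). -/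
theorem result {G : Type*} [Group G] [Fintype G] (p : ℕ) [Fact p.Prime] (M : Ideal Cfsg.AlgInt) (hM : Cfsg.IsPModular p M) (B : Set (Cfsg.IrrCharacter G)) (P Q : Subgroup G) (e : Set (Cfsg.IrrCharacter (Subgroup.centralizer (P : Set G)))) (f : Set (Cfsg.IrrCharacter (Subgroup.centralizer (Q : Set G)))) (hmax : Cfsg.IsMaximalBrauerPair p M B P e) (hQP : Q ≤ P) (hf : Cfsg.IsPBlock M f) (hle : Cfsg.SubpairLE p M Q f P e) : (∃ D : Subgroup (Subgroup.centralizer (Q : Set G)), Cfsg.IsDefectGroup p M f D ∧ (P ⊓ Subgroup.centralizer (Q : Set G)).subgroupOf (Subgroup.centralizer (Q : Set G)) ≤ D) ∧ ∃ x : G, Cfsg.SubpairLE p M (Q.map (MulAut.conj x).toMonoidHom) (Cfsg.conjBlock Q x f) P e ∧ Cfsg.IsDefectGroup p M (Cfsg.conjBlock Q x f) ((P ⊓ Subgroup.centralizer ((Q.map (MulAut.conj x).toMonoidHom) : Set G)).subgroupOf (Subgroup.centralizer ((Q.map (MulAut.conj x).toMonoidHom) : Set G))) := by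
  haveI : M.IsMaximal := hM.2.1
  haveI : CharP (Res M) p := charP_res hM
  classical
  have hB : Cfsg.IsPBlock M B := hmax.1.2.1
  have he : Cfsg.IsPBlock M e := hmax.1.1.2
  obtain ⟨hψ, htop⟩ := (isMaximalBrauerPair_iff hB he).mp hmax
  have hab := (subpairLE_iff hf he).mp hle
  constructor
  · obtain ⟨D, hD, hle'⟩ := LocalDefect.exists_inf_le_isDef htop.1 hab
      (H := Subgroup.centralizer (Q : Set G)) (Subgroup.centralizer_le_normalizer _) (blk hf) rfl
      (R := P ⊓ Subgroup.centralizer (Q : Set G)) inf_le_left inf_le_right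
    exact ⟨D, (isDefectGroup_iff hf D).mpr hD, hle'⟩
  obtain ⟨x, hx, hmax'⟩ := exists_maximal (p := p)
    (fun R => Nat.card (P ⊓ Subgroup.centralizer (R : Set G) : Subgroup G)) hab
  refine ⟨x, ?_, ?_⟩
  · have key : ∀ a : Idx (Res M) G, Le p a ⟨P, blk he⟩ →
        Cfsg.SubpairLE p M a.1 (toSet a.2) P e := fun a ha =>
      (subpairLE_iff (isPBlock_toSet _) he).mpr (by rw [blk_toSet]; exact ha)
    rw [conjBlock_eq hf x]
    exact key _ hx
  rw [conjBlock_eq hf x]
  have key : ∀ (a : Idx (Res M) G) (D : Subgroup (Subgroup.centralizer (a.1 : Set G))),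
      IsDef p a.2 D → Cfsg.IsDefectGroup p M (toSet a.2) D := fun a D ha =>
    (isDefectGroup_iff (isPBlock_toSet _) D).mpr (by rw [blk_toSet]; exact ha)
  refine key (cPair x (⟨Q, blk hf⟩ : Idx (Res M) G)) _ ?_
  set a' := cPair x (⟨Q, blk hf⟩ : Idx (Res M) G) with ha'
  show IsDef p a'.2 ((P ⊓ Subgroup.centralizer (a'.1 : Set G)).subgroupOf
    (Subgroup.centralizer (a'.1 : Set G)))
  obtain ⟨D, hD, hle'⟩ := LocalDefect.exists_inf_le_isDef htop.1 hx
    (H := Subgroup.centralizer (a'.1 : Set G)) (Subgroup.centralizer_le_normalizer _) a'.2 rfl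
    (R := P ⊓ Subgroup.centralizer (a'.1 : Set G)) inf_le_left inf_le_right
  obtain ⟨y, hy, hyle⟩ := LocalDefect.exists_map_isDef_le htop hψ hx
    (H := Subgroup.centralizer (a'.1 : Set G)) (Subgroup.centralizer_le_normalizer _) a'.2 rfl
    (isFixedBy_bext _ _) hD
  have h1 : (D.map (Subgroup.centralizer (a'.1 : Set G)).subtype).map (MulAut.conj y).toMonoidHom ≤
      P ⊓ Subgroup.centralizer ((cPair y a').1 : Set G) := by
    refine le_inf hyle ?_
    rintro _ ⟨_, ⟨d, -, rfl⟩, rfl⟩
    exact (mem_centralizer_map_iff y a'.1 d).mp d.2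
  have hcard : Nat.card D ≤ Nat.card ((P ⊓ Subgroup.centralizer (a'.1 : Set G)).subgroupOf
      (Subgroup.centralizer (a'.1 : Set G))) := by
    refine (Subgroup.card_map_of_injective
      (Subgroup.centralizer (a'.1 : Set G)).subtype_injective).symm.le.trans ?_
    refine (card_map_conj y _).symm.le.trans ((Subgroup.card_le_of_le h1).trans ?_)
    refine (hmax' y hy).trans ?_
    exact (Nat.card_congr (Subgroup.subgroupOfEquivOfLe inf_le_right).toEquiv).symm.le
  exact (Subgroup.eq_of_le_of_card_ge hle' hcard) ▸ hD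

end Cfsg.Agent.S4661
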