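import Cfsg.Statements.S4662
import Cfsg.Agent.Lib.BrauerPairs.Bridge
import Cfsg.Agent.Lib.BrauerPairs.LocalDefect

set_option autoImplicit false
open Cfsg

namespace Cfsg.Agent.S4662

open Cfsg.Agent.Lib.BrauerPairs.Center Cfsg.Agent.Lib.BrauerPairs.Pairs
open Cfsg.Agent.Lib.BrauerPairs.Transport Cfsg.Agent.Lib.BrauerPairs.Maximal
open Cfsg.Agent.Lib.BrauerPairs.Principal Cfsg.Agent.Lib.BrauerPairs.Bridge

attribute [local instance] Ideal.Quotient.field

open Cfsg.Agent.Lib.BrauerMap.Basic Cfsg.Agent.Lib.BrauerPairs.Trunc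
open Cfsg.Agent.Lib.BrauerPairs.Conj

open Cfsg.Agent.Lib.BrauerPairs

universe u v

/-- A conjugate pair below the maximal pair with the largest local intersection. -/
theorem exists_maximal {k : Type v} [Field k] [IsAlgClosed k] {G : Type u} [Group G] [Finite G]
    {p : ℕ} [Fact p.Prime] [CharP k p] (c : Subgroup G → ℕ) {a b : Idx k G} (h : Le p a b) :
    ∃ x : G, Le p (cPair x a) b ∧ ∀ y : G, Le p (cPair y (cPair x a)) b →
      c (cPair y (cPair x a)).1 ≤ c (cPair x a).1 := by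
  classical
  haveI := Fintype.ofFinite G
  obtain ⟨x, hx, hmax⟩ := (Finset.univ.filter fun x : G => Le p (cPair x a) b).exists_max_image
    (fun x => c (cPair x a).1) ⟨1, by simp [cPair_one, h]⟩
  refine ⟨x, (Finset.mem_filter.mp hx).2, fun y hy => ?_⟩
  rw [← cPair_mul] at hy ⊢
  exact hmax _ (Finset.mem_filter.mpr ⟨Finset.mem_univ _, hy⟩)

theorem stab_facts {M : Ideal Cfsg.AlgInt} [M.IsMaximal] {G : Type u} [Group G] [Finite G] {p : ℕ}
    [Fact p.Prime] [CharP (Res M) p] {P Q : Subgroup G}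
    {e : Blk (Res M) (Subgroup.centralizer (P : Set G))}
    {f : Set (Cfsg.IrrCharacter (Subgroup.centralizer (Q : Set G)))} (hP : IsPGroup p P)
    (hf : Cfsg.IsPBlock M f) (hle : Le p (⟨Q, blk hf⟩ : Idx (Res M) G) ⟨P, e⟩) (T : Subgroup G)
    (hT : ∀ y : G, y ∈ T ↔ y ∈ Subgroup.normalizer (Q : Set G) ∧
      Cfsg.StabilizesBlock (Subgroup.centralizer (Q : Set G)) f y) :
    Q ≤ T ∧ Subgroup.centralizer (Q : Set G) ≤ T ∧ T ≤ Subgroup.normalizer (Q : Set G) ∧
      IsFixedBy T (bext (Subgroup.centralizer (Q : Set G)) (blk hf)) ∧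
      P ⊓ Subgroup.normalizer (Q : Set G) ≤ T := by
  have hmem : ∀ y, y ∈ T ↔ y ∈ Subgroup.normalizer (Q : Set G) ∧
      conjA y (bext (Subgroup.centralizer (Q : Set G)) (blk hf)) =
        bext (Subgroup.centralizer (Q : Set G)) (blk hf) := fun y => by
    rw [hT]
    exact and_congr_right fun hy => by rw [stabilizesBlock_iff hf hy, act_eq_iff]
  refine ⟨fun u hu => (hmem u).mpr ⟨Subgroup.le_normalizer hu, ?_⟩,
    fun u hu => (hmem u).mpr ⟨Subgroup.centralizer_le_normalizer _ hu, ?_⟩,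
    fun u hu => ((hmem u).mp hu).1, ?_, fun u hu => (hmem u).mpr ⟨hu.2, ?_⟩⟩
  · exact (isFixedBy_iff _ _).mp (LocalDefect.isFixedBy_self Q _) u hu
  · exact (isFixedBy_iff _ _).mp (isFixedBy_bext _ _) u hu
  · exact (isFixedBy_iff _ _).mpr fun u hu => ((hmem u).mp hu).2
  · obtain ⟨ν, -, -, -, hfix, -⟩ := LocalDefect.exists_step_inf hP hle
    exact (isFixedBy_iff _ _).mp hfix u hu


/-- Fix a prime p and a maximal ideal M of the algebraic integers containing p. Let (P, e) be a maximal Brauer pair of the p-block B of the finite group G, Q ≤ P, and f the p-block of C_G(Q) with (Q, f) ≤ (P, e). Let T be the stabilizer of f in N_G(Q). Then the idempotent of f is a block idempotent of T, and N_P(Q) is contained in a defect group of that block of T; moreover for some x in G the conjugate pair (x Q x⁻¹, conjugate of f) again lies below (P, e) and, with T' the stabilizer of the conjugate of f in N_G(x Q x⁻¹), N_P(x Q x⁻¹) is a defect group of the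 block of T' whose idempotent is that of the conjugate of f. -/
theorem result {G : Type*} [Group G] [Fintype G] (p : ℕ) [Fact p.Prime] (M : Ideal Cfsg.AlgInt) (hM : Cfsg.IsPModular p M) (B : Set (Cfsg.IrrCharacter G)) (P Q : Subgroup G) (e : Set (Cfsg.IrrCharacter (Subgroup.centralizer (P : Set G)))) (f : Set (Cfsg.IrrCharacter (Subgroup.centralizer (Q : Set G)))) (hmax : Cfsg.IsMaximalBrauerPair p M B P e) (hQP : Q ≤ P) (hf : Cfsg.IsPBlock M f) (hle : Cfsg.SubpairLE p M Q f P e) (T : Subgroup G) (hT : ∀ y : G, y ∈ T ↔ y ∈ Subgroup.normalizer (Q : Set G) ∧ Cfsg.StabilizesBlock (Subgroup.centralizer (Q : Set G)) f y) : (∃ F : Set (Cfsg.IrrCharacter T), Cfsg.IsPBlock M F ∧ (∀ t : T, Cfsg.blockCoeff F t = Cfsg.subgroupBlockCoeff (Subgroup.centralizer (Q : Set G)) f (t : G)) ∧ ∃ D : Subgroup T, Cfsg.IsDefectGroup p M F D ∧ (P ⊓ Subgroup.normalizer (Q : Set G)).subgroupOf T ≤ D) ∧ ∃ x : G, Cfsg.SubpairLE p M (Q.map (MulAut.conj x).toMonoidHom) (Cfsg.conjBlock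 Q x f) P e ∧ ∀ (T' : Subgroup G), (∀ y : G, y ∈ T' ↔ y ∈ Subgroup.normalizer ((Q.map (MulAut.conj x).toMonoidHom) : Set G) ∧ Cfsg.StabilizesBlock (Subgroup.centralizer ((Q.map (MulAut.conj x).toMonoidHom) : Set G)) (Cfsg.conjBlock Q x f) y) → ∃ F' : Set (Cfsg.IrrCharacter T'), Cfsg.IsPBlock M F' ∧ (∀ t : T', Cfsg.blockCoeff F' t = Cfsg.subgroupBlockCoeff (Subgroup.centralizer ((Q.map (MulAut.conj x).toMonoidHom) : Set G)) (Cfsg.conjBlock Q x f) (t : G)) ∧ Cfsg.IsDefectGroup p M F' ((P ⊓ Subgroup.normalizer ((Q.map (MulAut.conj x).toMonoidHom) : Set G)).subgroupOf T') := by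
  haveI : M.IsMaximal := hM.2.1
  haveI : CharP (Res M) p := charP_res hM
  classical
  have hB : Cfsg.IsPBlock M B := hmax.1.2.1
  have he : Cfsg.IsPBlock M e := hmax.1.1.2
  obtain ⟨hψ, htop⟩ := (isMaximalBrauerPair_iff hB he).mp hmax
  have hab := (subpairLE_iff hf he).mp hle
  constructor
  · have hQp : IsPGroup p Q := htop.1.to_le hQP
    obtain ⟨hQT, hCT, hTN, hfix, hNT⟩ := stab_facts htop.1 hf hab T hT
    obtain ⟨F, hF, hco, hext, -⟩ := Stabilizer.exists_block_of_stable hQp hQT hCT hTN hf hfix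
    obtain ⟨D, hD, hle'⟩ := LocalDefect.exists_inf_le_isDef htop.1 hab (H := T) hTN (blk hF) hext
      (R := P ⊓ Subgroup.normalizer (Q : Set G)) inf_le_left hNT
    exact ⟨F, hF, hco, D, (isDefectGroup_iff hF D).mpr hD, hle'⟩
  obtain ⟨x, hx, hmax'⟩ := exists_maximal (p := p)
    (fun R => Nat.card (P ⊓ Subgroup.normalizer (R : Set G) : Subgroup G)) hab
  refine ⟨x, ?_, fun T' hT' => ?_⟩
  · have key : ∀ a : Idx (Res M) G, Le p a ⟨P, blk he⟩ →
        Cfsg.SubpairLE p M a.1 (toSet a.2) P e := fun a ha =>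
      (subpairLE_iff (isPBlock_toSet _) he).mpr (by rw [blk_toSet]; exact ha)
    rw [conjBlock_eq hf x]
    exact key _ hx
  rw [conjBlock_eq hf x] at hT' ⊢
  set a' := cPair x (⟨Q, blk hf⟩ : Idx (Res M) G) with ha'
  have hQp : IsPGroup p a'.1 := htop.1.to_le hx.subgroup_le
  have hf' : Cfsg.IsPBlock M (toSet a'.2) := isPBlock_toSet _
  have hx' : Le p (⟨a'.1, blk hf'⟩ : Idx (Res M) G) ⟨P, blk he⟩ := by
    rw [blk_toSet]; exact hx
  obtain ⟨hQT, hCT, hTN, hfix, hNT⟩ := stab_facts htop.1 hf' hx' T' hT'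
  obtain ⟨F, hF, hco, hext, -⟩ := Stabilizer.exists_block_of_stable hQp hQT hCT hTN hf' hfix
  refine ⟨F, hF, hco, ?_⟩
  rw [isDefectGroup_iff hF]
  show IsDef p (blk hF) ((P ⊓ Subgroup.normalizer (a'.1 : Set G)).subgroupOf T')
  obtain ⟨D, hD, hle'⟩ := LocalDefect.exists_inf_le_isDef htop.1 hx' (H := T') hTN (blk hF) hext
    (R := P ⊓ Subgroup.normalizer (a'.1 : Set G)) inf_le_left hNT
  obtain ⟨y, hy, hyle⟩ := LocalDefect.exists_map_isDef_le htop hψ hx' (H := T') hTN (blk hF) hext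
    hfix hD
  have h1 : (D.map T'.subtype).map (MulAut.conj y).toMonoidHom ≤
      P ⊓ Subgroup.normalizer ((cPair y a').1 : Set G) := by
    refine le_inf hyle ?_
    rintro _ ⟨_, ⟨d, -, rfl⟩, rfl⟩
    exact conj_mem_normalizer (hTN d.2)
  have hy' : Le p (cPair y a') (⟨P, blk he⟩ : Idx (Res M) G) := by
    rw [blk_toSet] at hy; exact hy
  have hcard : Nat.card D ≤
      Nat.card ((P ⊓ Subgroup.normalizer (a'.1 : Set G)).subgroupOf T') := by
    refine (Subgroup.card_map_of_injective T'.subtype_injective).symm.le.trans ?_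
    refine (card_map_conj y _).symm.le.trans ((Subgroup.card_le_of_le h1).trans ?_)
    refine (hmax' y hy').trans ?_
    exact (Nat.card_congr (Subgroup.subgroupOfEquivOfLe hNT).toEquiv).symm.le
  exact (Subgroup.eq_of_le_of_card_ge hle' hcard) ▸ hD

end Cfsg.Agent.S4662
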