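import Cfsg.Statements.S4664
import Cfsg.Agent.Lib.Blocks.Orthogonality
import Cfsg.Agent.Lib.Induced.Integral

set_option autoImplicit false
open Cfsg

namespace Cfsg.Agent.S4664

open scoped ComplexConjugate
open Cfsg.Agent.Lib

theorem apply_mem_adjoin {G : Type*} [Group G] [Finite G] (χ : Cfsg.IrrCharacter G) {g : G}
    {m : ℕ} [NeZero m] (hg : orderOf g ∣ m) {ζ : ℂ} (hζ : IsPrimitiveRoot ζ m) :
    (χ : G → ℂ) g ∈ IntermediateField.adjoin ℚ ({ζ} : Set ℂ) := by
  obtain ⟨n, ρ, -, hρ⟩ := Characters.Basic.exists_rep χ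
  rw [← hρ, Representation.character, Induced.Integral.trace_eq_roots_sum]
  refine multiset_sum_mem _ fun x hx => ?_
  have hx1 : x ^ m = 1 := Induced.Integral.roots_pow_eq_one
    (by rw [← map_pow, orderOf_dvd_iff_pow_eq_one.mp hg, map_one]) x hx
  obtain ⟨i, -, rfl⟩ := hζ.eq_pow_of_pow_eq_one hx1
  exact pow_mem (IntermediateField.subset_adjoin ℚ _ (Set.mem_singleton ζ)) i


/-- Fix a prime p and a maximal ideal M of the algebraic integers containing p, and let B be a p-block of the finite group G. Let m be the p'-part of the order of G and η = exp(2πi/m). Then every coefficient of the idempotent of B lies in the cyclotomic field ℚ(η). -/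
theorem result {G : Type*} [Group G] [Fintype G] (p : ℕ) [Fact p.Prime] (M : Ideal Cfsg.AlgInt) (hM : Cfsg.IsPModular p M) (B : Set (Cfsg.IrrCharacter G)) (hB : Cfsg.IsPBlock M B) (g : G) : Cfsg.blockCoeff B g ∈ IntermediateField.adjoin ℚ ({Complex.exp (2 * Real.pi * Complex.I / ((Nat.card G / p ^ (Nat.card G).factorization p : ℕ) : ℂ))} : Set ℂ) := by
  classical
  haveI : M.IsMaximal := hM.2.1
  by_cases hg : p ∣ orderOf g
  · rw [Cfsg.Agent.Lib.Blocks.blockCoeff_eq_zero_of_dvd hM hB hg]
    exact zero_mem _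
  set m := Nat.card G / p ^ (Nat.card G).factorization p with hm
  have hm0 : m ≠ 0 := (Nat.ordCompl_pos p Nat.card_pos.ne').ne'
  haveI : NeZero m := ⟨hm0⟩
  have hζ := Complex.isPrimitiveRoot_exp m hm0
  have hdvd : orderOf g ∣ m := by
    have h1 : orderOf g ∣ p ^ (Nat.card G).factorization p * m := by
      rw [hm, Nat.ordProj_mul_ordCompl_eq_self]
      exact orderOf_dvd_natCard g
    exact ((((Fact.out : p.Prime).coprime_iff_not_dvd.mpr hg).pow_left _).symm).dvd_of_dvd_mul_left h1
  rw [Cfsg.blockCoeff, finsum_mem_eq_finite_toFinset_sum _ (Set.toFinite B)]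
  refine mul_mem (inv_mem (natCast_mem _ _)) (sum_mem fun χ _ => mul_mem ?_ ?_)
  · exact apply_mem_adjoin χ (by rw [orderOf_one]; exact one_dvd _) hζ
  · rw [← Characters.Basic.apply_inv (Characters.Basic.isCharacter_irr χ)]
    exact apply_mem_adjoin χ (by rwa [orderOf_inv]) hζ

end Cfsg.Agent.S4664
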