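import Cfsg.Statements.S4665
import Cfsg.Agent.Lib.Characters.Basic

set_option autoImplicit false
open Cfsg Cfsg.Agent.Lib.Characters.Basic

namespace Cfsg.Agent.S4665

/-- Fix a prime p, a maximal ideal M of the algebraic integers containing p, and a p-block B of the finite group G, and let p^a be the p-part of the order of G. Let χ be an integer combination of the irreducible characters in B. If the function that agrees with χ on p-regular elements and vanishes on p-singular elements is again an integer combination of the irreducible characters in B, then p^a divides χ(1). -/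
theorem result {G : Type*} [Group G] [Fintype G] (p : ℕ) [Fact p.Prime] (M : Ideal Cfsg.AlgInt) (hM : Cfsg.IsPModular p M) (B : Set (Cfsg.IrrCharacter G)) (hB : Cfsg.IsPBlock M B) (χ : G → ℂ) (hχ : (∃ n : Cfsg.IrrCharacter G → ℤ, ∀ g : G, χ g = ∑ᶠ ψ ∈ B, (n ψ : ℂ) * (ψ : G → ℂ) g)) (h0 : (∃ n : Cfsg.IrrCharacter G → ℤ, ∀ g : G, Cfsg.pRegularPart p χ g = ∑ᶠ ψ ∈ B, (n ψ : ℂ) * (ψ : G → ℂ) g)) : ∃ k : ℤ, χ 1 = (p ^ (Nat.card G).factorization p : ℂ) * k := by
  classical
  obtain ⟨n, hn⟩ := h0
  have hfinI : Finite (Cfsg.IrrCharacter G) := inferInstance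
  let P : Sylow p G := default
  haveI : Fintype (P : Subgroup G) := Fintype.ofFinite _
  have hcard : Nat.card (P : Subgroup G) = p ^ (Nat.card G).factorization p := P.card_eq_multiplicity
  have key : ∀ ψ : Cfsg.IrrCharacter G, ∃ m : ℕ,
      ∑ x : (P : Subgroup G), (ψ : G → ℂ) x = (Nat.card (P : Subgroup G) : ℂ) * m := by
    intro ψ
    obtain ⟨m, hm⟩ := exists_classInner_nat
      (isCharacter_comp (P : Subgroup G).subtype (isCharacter_irr ψ))
      (isCharacter_one (G := (P : Subgroup G)))
    refine ⟨m, ?_⟩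
    rw [← hm, Cfsg.classInner, ← mul_assoc, mul_inv_cancel₀ (by exact_mod_cast Nat.card_pos.ne'),
      one_mul]
    refine Finset.sum_congr rfl fun x _ => ?_
    simp
  choose m hm using key
  have hL : ∑ x : (P : Subgroup G), Cfsg.pRegularPart p χ x = χ 1 := by
    rw [Finset.sum_eq_single 1]
    · rw [OneMemClass.coe_one, Cfsg.pRegularPart, if_pos]
      show ¬ p ∣ orderOf (1 : G)
      rw [orderOf_one]
      exact (Fact.out : p.Prime).not_dvd_one
    · intro x _ hx
      rw [Cfsg.pRegularPart, if_neg]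
      show ¬ ¬ p ∣ orderOf (x : G)
      rw [not_not]
      obtain ⟨k, hk⟩ := IsPGroup.iff_orderOf.mp P.isPGroup' x
      rw [← Subgroup.orderOf_coe] at hk
      rcases k with _ | k
      · exfalso
        rw [pow_zero, orderOf_eq_one_iff] at hk
        exact hx (Subtype.ext hk)
      · rw [hk]
        exact dvd_pow_self p (Nat.succ_ne_zero k)
    · intro h
      exact absurd (Finset.mem_univ _) h
  refine ⟨∑ᶠ ψ ∈ B, n ψ * (m ψ : ℤ), ?_⟩
  rw [← hL]
  simp_rw [hn, finsum_mem_eq_finite_toFinset_sum _ (Set.toFinite B)]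
  rw [Finset.sum_comm]
  simp_rw [← Finset.mul_sum, hm, hcard]
  push_cast
  rw [Finset.mul_sum]
  refine Finset.sum_congr rfl fun ψ _ => ?_
  ring

end Cfsg.Agent.S4665
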