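import Cfsg.Statements.S4666
import Cfsg.Agent.Lib.Blocks.Contrib
import Cfsg.Agent.Lib.Blocks.ContribRank
-- import your own Cfsg.Agent.* helpers here

set_option autoImplicit false
open Cfsg

namespace Cfsg.Agent.S4666

open Cfsg.Agent.Lib.Blocks.Contrib

/-- Fix a prime p and a maximal ideal M of the algebraic integers containing p, and a p-block B of the finite group G of defect d. For every integer combination χ of the irreducible characters in B, p^d times the function that agrees with χ on p-regular elements and vanishes elsewhere is again an integer combination of the irreducible characters in B. -/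
theorem result {G : Type*} [Group G] [Fintype G] (p : ℕ) [Fact p.Prime] (M : Ideal Cfsg.AlgInt) (hM : Cfsg.IsPModular p M) (B : Set (Cfsg.IrrCharacter G)) (hB : Cfsg.IsPBlock M B) (χ : G → ℂ) (hχ : (∃ n : Cfsg.IrrCharacter G → ℤ, ∀ g : G, χ g = ∑ᶠ ψ ∈ B, (n ψ : ℂ) * (ψ : G → ℂ) g)) : (∃ n : Cfsg.IrrCharacter G → ℤ, ∀ g : G, (p ^ Cfsg.blockDefect p B : ℂ) * Cfsg.pRegularPart p χ g = ∑ᶠ ψ ∈ B, (n ψ : ℂ) * (ψ : G → ℂ) g) := by
  classical
  haveI := hM.2.1
  obtain ⟨n, hn⟩ := hχ
  have hp0 : (p : ℂ) ≠ 0 := Nat.cast_ne_zero.mpr (Fact.out : p.Prime).ne_zero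
  refine ⟨fun φ => ∑ ψ ∈ bset B, n ψ * (contribN p ψ φ / (p : ℤ) ^ minVdeg p B), fun g => ?_⟩
  rw [pRegularPart_apply, hn g, finsum_mem_bset, finsum_mem_bset]
  simp only [Int.cast_sum, Int.cast_mul, Finset.sum_mul]
  rw [Finset.sum_comm]
  have key : ∀ ψ ∈ bset B, ∑ φ ∈ bset B,
      (n ψ : ℂ) * ((contribN p ψ φ / (p : ℤ) ^ minVdeg p B : ℤ) : ℂ) * (φ : G → ℂ) g =
      (n ψ : ℂ) * ((p : ℂ) ^ Cfsg.blockDefect p B *
        (if p ∣ orderOf g then 0 else (ψ : G → ℂ) g)) := by
    intro ψ hψ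
    have hψB := mem_bset.mp hψ
    simp only [mul_assoc, ← Finset.mul_sum]
    refine congrArg _ (mul_left_cancel₀ (pow_ne_zero (minVdeg p B) hp0) ?_)
    rw [← mul_assoc, ← pow_add, minVdeg_add_blockDefect hB, ← sum_bset_apply hM hB hψB g,
      Finset.mul_sum]
    refine Finset.sum_congr rfl fun φ _ => ?_
    obtain ⟨c, hc⟩ := pow_minVdeg_dvd_contribN hM hψB φ
    rw [hc, Int.mul_ediv_cancel_left _
      (pow_ne_zero _ (by exact_mod_cast (Fact.out : p.Prime).ne_zero))]
    push_cast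
    ring
  rw [Finset.sum_congr rfl key]
  by_cases hg : p ∣ orderOf g
  · simp [hg]
  · simp only [if_neg hg, Finset.mul_sum]
    exact Finset.sum_congr rfl fun ψ _ => by ring

end Cfsg.Agent.S4666
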