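import Cfsg.Statements.S4668
import Cfsg.Agent.Lib.BrauerPairs.Bridge
import Cfsg.Agent.Lib.BrauerPairs.Lift
import Cfsg.Agent.Lib.Blocks.Orthogonality
import Cfsg.Agent.Lib.CharP.Basic

set_option autoImplicit false
open Cfsg

namespace Cfsg.Agent.S4668

open Cfsg.Agent.Lib.BrauerPairs.Center Cfsg.Agent.Lib.BrauerPairs.Pairs
open Cfsg.Agent.Lib.BrauerPairs.Transport Cfsg.Agent.Lib.BrauerPairs.Maximal
open Cfsg.Agent.Lib.BrauerPairs.Principal Cfsg.Agent.Lib.BrauerPairs.Bridge

attribute [local instance] Ideal.Quotient.field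

theorem mem_centralizer_top {G : Type*} [Group G] [Fintype G] {p : ℕ} [Fact p.Prime]
    {M : Ideal Cfsg.AlgInt} {m : ℕ} {Q : Fin (m + 1) → Subgroup G} (hQ : StrictMono Q)
    (hQp : ∀ i, IsPGroup p (Q i)) {N : Subgroup G}
    (hN : ∀ g : G, g ∈ N ↔ ∀ i, g ∈ Subgroup.normalizer (Q i : Set G))
    {E : Set (Cfsg.IrrCharacter N)} (hE : Cfsg.IsPBlock M E) (hM : Cfsg.IsPModular p M) {n : N}
    (hne : Cfsg.blockCoeff E n ≠ 0) :
    (n : G) ∈ Subgroup.centralizer (Q (Fin.last m) : Set G) := by
  haveI : M.IsMaximal := hM.2.1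
  haveI : CharP (Res M) p := charP_res hM
  have hp : p.Prime := Fact.out
  have hreg : (orderOf (n : G)).Coprime p := by
    rw [Subgroup.orderOf_coe, Nat.coprime_comm, hp.coprime_iff_not_dvd]
    exact fun hd => hne (Cfsg.Agent.Lib.Blocks.blockCoeff_eq_zero_of_dvd hM hE hd)
  have hnQ : ∀ i, (n : G) ∈ Subgroup.normalizer (Q i : Set G) := (hN n).1 n.2
  -- `n` centralises `Q_m ∩ N`, a normal p-subgroup of `N`
  haveI hnor : ((Q (Fin.last m)).subgroupOf N).Normal := by
    constructor
    intro a ha g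
    rw [Subgroup.mem_subgroupOf] at ha ⊢
    exact (Subgroup.mem_normalizer_iff.mp ((hN g).1 g.2 _) a).mp ha
  have hR : ∀ u : G, u ∈ Q (Fin.last m) → u ∈ N → Commute (n : G) u := by
    intro u hu huN
    by_contra hc
    refine hne (Cfsg.Agent.Lib.BrauerPairs.Lift.blockCoeff_eq_zero_of_normal (p := p) hE
      (P := (Q (Fin.last m)).subgroupOf N)
      ((hQp _).comap_of_injective N.subtype Subtype.val_injective) fun h => hc ?_)
    have h2 := Subgroup.mem_centralizer_iff.mp h ⟨u, huN⟩ hu
    exact (congrArg Subtype.val h2).symm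
  suffices h : ∀ i, ∀ u ∈ Q i, Commute (n : G) u by
    rw [Subgroup.mem_centralizer_iff]
    exact fun u hu => (h _ u hu).eq.symm
  intro i
  induction i using Fin.induction with
  | zero =>
    intro u hu
    refine hR u (hQ.monotone (Fin.zero_le _) hu) ((hN u).2 fun j => ?_)
    exact Subgroup.le_normalizer (hQ.monotone (Fin.zero_le j) hu)
  | succ i ih =>
    refine Cfsg.Agent.Lib.CharP.commute_of_axb (hQp i.castSucc) hreg ih (hQp _) ?_ (hnQ _) ?_
    · exact (hQ.monotone (Fin.castSucc_le_succ i)).trans Subgroup.le_normalizer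
    · intro u hu hcu
      refine hR u (hQ.monotone (Fin.le_last _) hu) ((hN u).2 fun j => ?_)
      rcases le_or_gt i.succ j with hj | hj
      · exact Subgroup.le_normalizer (hQ.monotone hj hu)
      · have hj' : Q j ≤ Q i.castSucc := hQ.monotone (Fin.le_castSucc_iff.mpr hj)
        refine Subgroup.centralizer_le_normalizer _ ?_
        rw [Subgroup.mem_centralizer_iff]
        exact fun b hb => (hcu b (hj' hb)).eq.symm


/-- Fix a prime p and a maximal ideal M of the algebraic integers containing p. Let Q₀ < Q₁ < ⋯ < Q_m be a strictly increasing chain of p-subgroups of the finite group G and N the intersection of their normalizers. Then every block idempotent of N is supported on C_G(Q_m): for every p-block E of N, the idempotent coefficient of E vanishes at every element of N outside C_G(Q_m). -/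
theorem result {G : Type*} [Group G] [Fintype G] (p : ℕ) [Fact p.Prime] (M : Ideal Cfsg.AlgInt) (hM : Cfsg.IsPModular p M) (m : ℕ) (Q : Fin (m + 1) → Subgroup G) (hQ : StrictMono Q) (hQp : ∀ i, IsPGroup p (Q i)) (N : Subgroup G) (hN : ∀ g : G, g ∈ N ↔ ∀ i, g ∈ Subgroup.normalizer (Q i : Set G)) (E : Set (Cfsg.IrrCharacter N)) (hE : Cfsg.IsPBlock M E) (n : N) (hn : (n : G) ∉ Subgroup.centralizer (Q (Fin.last m) : Set G)) : Cfsg.blockCoeff E n = 0 := by
  haveI : M.IsMaximal := hM.2.1
  haveI : CharP (Res M) p := charP_res hM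
  by_contra hne
  refine hn (Cfsg.Agent.S4668.mem_centralizer_top hQ hQp hN hE hM hne)

end Cfsg.Agent.S4668
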