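import Cfsg.Statements.S4670
import Cfsg.Agent.Lib.BrauerPairs.Bridge
import Cfsg.Agent.Lib.BrauerPairs.Embed

set_option autoImplicit false
open Cfsg

namespace Cfsg.Agent.S4670

open Cfsg.Agent.Lib.BrauerPairs.Center Cfsg.Agent.Lib.BrauerPairs.Pairs
open Cfsg.Agent.Lib.BrauerPairs.Transport Cfsg.Agent.Lib.BrauerPairs.Maximal
open Cfsg.Agent.Lib.BrauerPairs.Principal Cfsg.Agent.Lib.BrauerPairs.Bridge

attribute [local instance] Ideal.Quotient.field

open Cfsg.Agent.Lib.BrauerMap.Basic Cfsg.Agent.Lib.BrauerPairs.Trunc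
open Cfsg.Agent.Lib.BrauerPairs.Conj Cfsg.Agent.Lib.BrauerPairs.Embed
open Cfsg.Agent.Lib.Blocks (localRing residue)

universe u v

theorem ext_conjA {k : Type v} [Field k] {G : Type u} [Group G] [Finite G] {H : Subgroup G} (x : H)
    (a : MonoidAlgebra k H) : ext H (conjA x a) = conjA (x : G) (ext H a) := by
  ext g
  rw [coeff_conjA]
  by_cases hg : g ∈ H
  · refine (coeff_ext H _ ⟨g, hg⟩).trans ?_
    rw [coeff_conjA]
    exact (coeff_ext H a (x⁻¹ * ⟨g, hg⟩ * x)).symm
  · rw [coeff_ext_of_notMem H _ hg, coeff_ext_of_notMem H _ ?_]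
    intro h
    exact hg (by simpa [mul_assoc] using mul_mem (mul_mem x.2 h) (inv_mem x.2))

variable {k : Type v} [Field k] [IsAlgClosed k] {G : Type u} [Group G] [Finite G]
variable {p : ℕ} [Fact p.Prime] [CharP k p] {P H : Subgroup G}

theorem pairOf_down_iff (hQ : P ≤ H) (hC : Subgroup.centralizer (P : Set G) ≤ H)
    (hP : IsPGroup p P) (φ : Blk k H) (f : Blk k (Subgroup.centralizer (P : Set G))) :
    PairOf p φ ⟨P.subgroupOf H, down hQ hC f⟩ ↔ val P f (ext H (bidem φ)) = 1 := by
  show _ ∧ val (P.subgroupOf H) (down hQ hC f) (bidem φ) = 1 ↔ _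
  rw [val_down hQ hC f (isFixedBy_of_mem_center _ (bidem_mem φ))]
  exact ⟨fun h => h.2, fun h => ⟨hP.comap_of_injective H.subtype H.subtype_injective, h⟩⟩

/-- Two blocks with a maximal pair in common at `P` have the same truncation at `P`. -/
theorem br_eq_of_common (hQ : P ≤ H) (hN : Subgroup.normalizer (P : Set G) ≤ H)
    (hP : IsPGroup p P) (ψ : Blk k G) (φ : Blk k H)
    (f : Blk k (Subgroup.centralizer (P : Set G))) (htop : Top p (⟨P, f⟩ : Idx k G))
    (h1 : PairOf p ψ (⟨P, f⟩ : Idx k G)) (h2 : PairOf p φ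
      ⟨P.subgroupOf H, down hQ ((Subgroup.centralizer_le_normalizer _).trans hN) f⟩) :
    br P (bidem ψ) = br P (ext H (bidem φ)) := by
  classical
  have hC : Subgroup.centralizer (P : Set G) ≤ H :=
    (Subgroup.centralizer_le_normalizer _).trans hN
  have htop' : Top p (⟨P.subgroupOf H, down hQ hC f⟩ : Idx k H) :=
    (top_down_iff hQ hN f).mpr htop
  have hiff : ∀ f' : Blk k (Subgroup.centralizer (P : Set G)),
      val P f' (bidem ψ) = 1 ↔ val P f' (ext H (bidem φ)) = 1 := by
    intro f'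
    rw [← pairOf_down_iff hQ hC hP φ f']
    constructor
    · intro h
      obtain ⟨x, hx, hxe⟩ := (top_key htop h1).2 f' ⟨hP, h⟩
      have hb : bext _ f' = conjA x (bext _ f) := by
        have := congrArg (fun a : Idx k G => bext (Subgroup.centralizer (a.1 : Set G)) a.2) hxe
        simp only [bext_cPair] at this
        exact this.symm
      have hx' : (⟨x, hN hx⟩ : H) ∈
          Subgroup.normalizer ((P.subgroupOf H : Subgroup H) : Set H) := by
        rw [Subgroup.mem_normalizer_iff]
        intro a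
        exact Subgroup.mem_normalizer_iff.mp hx a
      convert pairOf_cPair h2 ⟨x, hN hx⟩ using 1
      refine sigma_ext_of_bext (map_conj_eq_of_mem hx').symm ?_
      apply ext_injective H
      rw [bext_cPair]
      exact (ext_bext_down hQ hC f').trans (by rw [ext_conjA, ext_bext_down, hb])
    · intro h
      obtain ⟨x, hx, hxe⟩ := (top_key htop' h2).2 _ h
      have hb : conjA (x : G) (bext _ f) = bext _ f' := by
        have := congrArg (fun a : Idx k H => ext H (bext (Subgroup.centralizer (a.1 : Set H)) a.2))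
          hxe
        simp only [bext_cPair] at this
        rwa [ext_conjA, ext_bext_down, ext_bext_down] at this
      have hx' : (x : G) ∈ Subgroup.normalizer (P : Set G) := by
        rw [Subgroup.mem_normalizer_iff]
        intro a
        constructor
        · intro ha
          exact (Subgroup.mem_normalizer_iff.mp hx ⟨a, hQ ha⟩).mp ha
        · intro ha
          have haH : a ∈ H := by
            simpa [mul_assoc] using mul_mem (mul_mem (inv_mem x.2) (hQ ha)) x.2
          exact (Subgroup.mem_normalizer_iff.mp hx ⟨a, haH⟩).mpr ha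
      have h3 := pairOf_cPair h1 (x : G)
      rw [show cPair (x : G) (⟨P, f⟩ : Idx k G) = ⟨P, f'⟩ from
        sigma_ext_of_bext (map_conj_eq_of_mem hx') (by rw [bext_cPair, hb])] at h3
      exact h3.2
  haveI := Fintype.ofFinite (Blk k (Subgroup.centralizer (P : Set G)))
  have hz := isFixedBy_of_mem_center (Subgroup.centralizer (P : Set G)) (bidem_mem ψ)
  have hw : IsFixedBy (Subgroup.centralizer (P : Set G)) (ext H (bidem φ)) :=
    isFixedBy_mono hC (isFixedBy_ext_of_center (bidem_mem φ))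
  have e1 := eq_sum_idem (k := k)
    (e := (⟨br P (bidem ψ), br_mem_center hz⟩ : ZAlg k (Subgroup.centralizer (P : Set G))))
    (Subtype.ext (br_isIdem hP (bidem_isIdem ψ) (isFixedBy_of_mem_center _ (bidem_mem ψ))).eq)
  have e2 := eq_sum_idem (k := k)
    (e := (⟨br P (ext H (bidem φ)), br_mem_center hw⟩ :
      ZAlg k (Subgroup.centralizer (P : Set G))))
    (Subtype.ext (br_isIdem hP ((bidem_isIdem φ).map (ext H))
      (isFixedBy_mono hQ (isFixedBy_ext_of_center (bidem_mem φ)))).eq)
  refine congrArg Subtype.val (e1.trans (Eq.trans ?_ e2.symm))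
  refine Finset.sum_congr ?_ fun _ _ => rfl
  ext f'
  simp only [Finset.mem_filter, Finset.mem_univ, true_and]
  rw [← val_eq f' hz, ← val_eq f' hw]
  exact hiff f'

theorem br_eq_iff_coeff (hC : Subgroup.centralizer (P : Set G) ≤ H) (a : MonoidAlgebra k G)
    (b : MonoidAlgebra k H) :
    br P a = br P (ext H b) ↔ ∀ x (hx : x ∈ Subgroup.centralizer (P : Set G)),
      a.coeff x = b.coeff ⟨x, hC hx⟩ := by
  constructor
  · intro h x hx
    have := congrArg (fun z : MonoidAlgebra k (Subgroup.centralizer (P : Set G)) => z.coeff ⟨x, hx⟩) h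
    simp only [coeff_br] at this
    exact this.trans (coeff_ext H b ⟨x, hC hx⟩)
  · intro h
    ext g
    rw [coeff_br, coeff_br, h g g.2]
    exact (coeff_ext H b ⟨(g : G), hC g.2⟩).symm

theorem congr_iff {M : Ideal Cfsg.AlgInt} [M.IsMaximal] {G : Type u} [Group G] [Finite G]
    {P H : Subgroup G} (hC : Subgroup.centralizer (P : Set G) ≤ H)
    {B : Set (Cfsg.IrrCharacter G)} (hB : Cfsg.IsPBlock M B) {c : Set (Cfsg.IrrCharacter H)}
    (hc : Cfsg.IsPBlock M c) :
    (∀ x : G, x ∈ Subgroup.centralizer (P : Set G) →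
      Cfsg.MemLocalIdeal M (Cfsg.blockCoeff B x - Cfsg.subgroupBlockCoeff H c x)) ↔
    br P (bidem (blk hB)) = br P (ext H (bidem (blk hc))) := by
  rw [br_eq_iff_coeff hC]
  refine forall_congr' fun x => ⟨fun h hx => ?_, fun h hx => ?_⟩
  · rw [coeff_bidem hB x, coeff_bidem hc ⟨x, hC hx⟩]
    have h2 := h hx
    rw [show Cfsg.subgroupBlockCoeff H c x = Cfsg.blockCoeff c ⟨x, hC hx⟩ from
      subgroupBlockCoeff_of_mem c ⟨x, hC hx⟩] at h2
    exact (Cfsg.Agent.Lib.Blocks.memLocalIdeal_sub_iff (x := ⟨_, blockCoeff_mem_localRing hB x⟩)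
      (y := ⟨_, blockCoeff_mem_localRing hc _⟩)).mp h2
  · rw [show Cfsg.subgroupBlockCoeff H c x = Cfsg.blockCoeff c ⟨x, hC hx⟩ from
      subgroupBlockCoeff_of_mem c ⟨x, hC hx⟩]
    refine (Cfsg.Agent.Lib.Blocks.memLocalIdeal_sub_iff (x := ⟨_, blockCoeff_mem_localRing hB x⟩)
      (y := ⟨_, blockCoeff_mem_localRing hc _⟩)).mpr ?_
    have h2 := h hx
    rw [coeff_bidem hB x, coeff_bidem hc ⟨x, hC hx⟩] at h2
    exact h2


/-- Fix a prime p and a maximal ideal M of the algebraic integers containing p. Let P be a p-subgroup of the finite group G and H a subgroup containing N_G(P). For every p-block B of G with defect group P there is exactly one p-block c of H with defect group P whose idempotent agrees with that of B, modulo the local ideal at M, at every element of C_G(P) (their Brauer-map images at P coincide); and every p-block c of H with defect group P arises in this way from exactly one such B. This is the Brauer correspondence over H. -/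
theorem result {G : Type*} [Group G] [Fintype G] (p : ℕ) [Fact p.Prime] (M : Ideal Cfsg.AlgInt) (hM : Cfsg.IsPModular p M) (P H : Subgroup G) (hP : IsPGroup p P) (hH : Subgroup.normalizer (P : Set G) ≤ H) : (∀ B : Set (Cfsg.IrrCharacter G), Cfsg.IsPBlock M B → Cfsg.IsDefectGroup p M B P → ∃! c : Set (Cfsg.IrrCharacter H), Cfsg.IsPBlock M c ∧ Cfsg.IsDefectGroup p M c (P.subgroupOf H) ∧ ∀ x : G, x ∈ Subgroup.centralizer (P : Set G) → Cfsg.MemLocalIdeal M (Cfsg.blockCoeff B x - Cfsg.subgroupBlockCoeff H c x)) ∧ (∀ c : Set (Cfsg.IrrCharacter H), Cfsg.IsPBlock M c → Cfsg.IsDefectGroup p M c (P.subgroupOf H) → ∃! B : Set (Cfsg.IrrCharacter G), Cfsg.IsPBlock M B ∧ Cfsg.IsDefectGroup p M B P ∧ ∀ x : G, x ∈ Subgroup.centralizer (P : Set G) → Cfsg.MemLocalIdeal M (Cfsg.blockCoeff B x - Cfsg.subgroupBlockCoeff H c x)) := by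
  haveI : M.IsMaximal := hM.2.1
  haveI : CharP (Res M) p := charP_res hM
  have hQ : P ≤ H := Subgroup.le_normalizer.trans hH
  have hC : Subgroup.centralizer (P : Set G) ≤ H :=
    (Subgroup.centralizer_le_normalizer _).trans hH
  refine ⟨fun B hB hdef => ?_, fun c hc hdef => ?_⟩
  · have hD := (isDefectGroup_iff hB P).mp hdef
    obtain ⟨f, hf⟩ := exists_pairOf_isDef hD
    have htop := top_of_isDef hf hD
    obtain ⟨φ, hφ, huniq⟩ := existsUnique_pairOf (p := p)
      (⟨P.subgroupOf H, down hQ hC f⟩ : Idx (Res M) H)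
      (hP.comap_of_injective H.subtype H.subtype_injective)
    have hφdef : IsDef p φ (P.subgroupOf H) :=
      isDef_of_top ((top_down_iff hQ hH f).mpr htop) hφ
    refine ⟨toSet φ, ⟨isPBlock_toSet φ, ?_, ?_⟩, ?_⟩
    · rw [isDefectGroup_iff (isPBlock_toSet φ), blk_toSet]; exact hφdef
    · rw [congr_iff hC hB (isPBlock_toSet φ), blk_toSet]
      exact br_eq_of_common hQ hH hP _ φ f htop hf hφ
    · rintro c ⟨hc, -, hcong⟩
      rw [congr_iff hC hB hc] at hcong
      have h2 : PairOf p (blk hc) (⟨P.subgroupOf H, down hQ hC f⟩ : Idx (Res M) H) :=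
        (pairOf_down_iff hQ hC hP _ f).mpr ((val_congr f hcong).symm.trans hf.2)
      rw [← toSet_blk hc, huniq _ h2]
  · have hD := (isDefectGroup_iff hc (P.subgroupOf H)).mp hdef
    obtain ⟨μ, hμ⟩ := exists_pairOf_isDef hD
    have htop' := top_of_isDef hμ hD
    rw [← down_up hQ hC μ] at hμ htop'
    set f := up hQ hC μ
    have htop := (top_down_iff hQ hH f).mp htop'
    obtain ⟨ψ, hψ, huniq⟩ := existsUnique_pairOf (p := p) (⟨P, f⟩ : Idx (Res M) G) hP
    refine ⟨toSet ψ, ⟨isPBlock_toSet ψ, ?_, ?_⟩, ?_⟩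
    · rw [isDefectGroup_iff (isPBlock_toSet ψ), blk_toSet]
      exact isDef_of_top htop hψ
    · rw [congr_iff hC (isPBlock_toSet ψ) hc, blk_toSet]
      exact br_eq_of_common hQ hH hP ψ _ f htop hψ hμ
    · rintro B ⟨hB, -, hcong⟩
      rw [congr_iff hC hB hc] at hcong
      have h2 : PairOf p (blk hB) (⟨P, f⟩ : Idx (Res M) G) :=
        ⟨hP, (val_congr f hcong).trans ((pairOf_down_iff hQ hC hP _ f).mp hμ)⟩
      rw [← toSet_blk hB, huniq _ h2]

end Cfsg.Agent.S4670
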