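import Cfsg.Statements.S4671
import Cfsg.Agent.Lib.BrauerPairs.Bridge
import Cfsg.Agent.Lib.BrauerPairs.NormalCover

set_option autoImplicit false
open Cfsg

namespace Cfsg.Agent.S4671

open Cfsg.Agent.Lib.BrauerPairs.Center Cfsg.Agent.Lib.BrauerPairs.Pairs
open Cfsg.Agent.Lib.BrauerPairs.Transport Cfsg.Agent.Lib.BrauerPairs.Maximal
open Cfsg.Agent.Lib.BrauerPairs.Principal Cfsg.Agent.Lib.BrauerPairs.Bridge

attribute [local instance] Ideal.Quotient.field

open Cfsg.Agent.Lib.BrauerPairs Cfsg.Agent.Lib.BrauerPairs.Trunc Cfsg.Agent.Lib.BrauerPairs.Conj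
open Cfsg.Agent.Lib.BrauerMap.Basic


/-- Fix a prime p and a maximal ideal M of the algebraic integers containing p. Let N be a normal subgroup of the finite group G, B a p-block of G and P a defect group of B. Then there is a p-block c of N, stable under conjugation by P and covered by B (some member of B has a constituent in c on restriction to N), such that P ∩ N is a defect group of c. -/
theorem result {G : Type*} [Group G] [Fintype G] (p : ℕ) [Fact p.Prime] (M : Ideal Cfsg.AlgInt) (hM : Cfsg.IsPModular p M) (N : Subgroup G) [N.Normal] [Fintype N] (B : Set (Cfsg.IrrCharacter G)) (hB : Cfsg.IsPBlock M B) (P : Subgroup G) (hP : Cfsg.IsDefectGroup p M B P) : ∃ c : Set (Cfsg.IrrCharacter N), Cfsg.IsPBlock M c ∧ (∀ x ∈ P, Cfsg.StabilizesBlock N c x) ∧ (∃ χ ∈ B, ∃ θ ∈ c, Cfsg.classInner (fun n : N => (χ : G → ℂ) n) (θ : N → ℂ) ≠ 0) ∧ Cfsg.IsDefectGroup p M c ((P ⊓ N).subgroupOf N) := by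
  haveI : M.IsMaximal := hM.2.1
  haveI : CharP (Res M) p := charP_res hM
  classical
  obtain ⟨f, hf⟩ := exists_pairOf_isDef ((isDefectGroup_iff hB P).mp hP)
  obtain ⟨ν, hcov, hfix, g, hg, hne⟩ := NormalCover.exists_covers_fixed N hf
  have hc : Cfsg.IsPBlock M (toSet ν) := isPBlock_toSet _
  refine ⟨toSet ν, hc, fun x hx => ?_, ?_, ?_⟩
  · rw [NormalCover.stabilizesBlock_iff_normal N hc, blk_toSet]
    exact (isFixedBy_iff _ _).mp hfix x hx
  · rw [NormalCover.covers_iff_constituent N hB hc, blk_toSet]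
    exact hcov
  · rw [isDefectGroup_iff hc, blk_toSet]
    exact NormalCover.isDef_inf N hcov ((isDefectGroup_iff hB P).mp hP) hg hne

end Cfsg.Agent.S4671
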