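import Cfsg.Statements.S4673
import Cfsg.Agent.Lib.BrauerPairs.Bridge
import Cfsg.Agent.Lib.BrauerPairs.NormalCover
import Cfsg.Agent.S4672

set_option autoImplicit false
open Cfsg

namespace Cfsg.Agent.S4673

open Cfsg.Agent.Lib.BrauerPairs.Center Cfsg.Agent.Lib.BrauerPairs.Pairs
open Cfsg.Agent.Lib.BrauerPairs.Transport Cfsg.Agent.Lib.BrauerPairs.Maximal
open Cfsg.Agent.Lib.BrauerPairs.Principal Cfsg.Agent.Lib.BrauerPairs.Bridge

attribute [local instance] Ideal.Quotient.field

open Cfsg.Agent.Lib.BrauerPairs Cfsg.Agent.Lib.BrauerPairs.Trunc Cfsg.Agent.Lib.BrauerPairs.Conj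
open Cfsg.Agent.Lib.BrauerMap.Basic MonoidAlgebra
open Cfsg.Agent.Lib.Blocks (localRing residue)

universe u v

section Push

variable {k : Type v} [Field k] [IsAlgClosed k] {G : Type u} [Group G] [Finite G]

/-- A block seen inside a larger subgroup. -/
noncomputable def pushDown {H K : Subgroup G} (h : H ≤ K) (f : Blk k H) : Blk k (H.subgroupOf K) :=
  f.comp (zMap (Subgroup.subgroupOfEquivOfLe h))

theorem ext_bext_pushDown {H K : Subgroup G} (h : H ≤ K) (f : Blk k H) :
    ext K (bext (H.subgroupOf K) (pushDown h f)) = bext H f := by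
  have key : ∀ z : MonoidAlgebra k (H.subgroupOf K), ext K (ext (H.subgroupOf K) z) =
      ext H (MonoidAlgebra.domCongr k k (Subgroup.subgroupOfEquivOfLe h) z) := by
    intro z
    induction z using MonoidAlgebra.induction_linear with
    | zero => simp
    | add a b ha hb => simp only [map_add, ha, hb]
    | single a r => rw [domCongr_single, ext_single, ext_single, ext_single]; rfl
  rw [bext, bext, key]
  congr 1
  show MonoidAlgebra.domCongr k k (Subgroup.subgroupOfEquivOfLe h)
    ((idem (pushDown h f) : ZAlg k _) : MonoidAlgebra k _) = ((idem f : ZAlg k H) : MonoidAlgebra k H)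
  rw [← coe_zMap, zMap_idem]
  refine congrArg (fun φ => ((idem φ : ZAlg k H) : MonoidAlgebra k H)) (AlgHom.ext fun z => ?_)
  show f (zMap _ (zMap (Subgroup.subgroupOfEquivOfLe h).symm z)) = f z
  have := zMap_symm (Subgroup.subgroupOfEquivOfLe h).symm z
  rw [MulEquiv.symm_symm] at this
  rw [this]

/-- A corner of the group algebra cut out by a block of `N` lives on the stabiliser. -/
theorem exists_ext_eq {N T : Subgroup G} [N.Normal] (ν : Blk k N) (hNT : N ≤ T)
    (hT : ∀ g : G, conjA g (bext N ν) = bext N ν → g ∈ T) (y : MonoidAlgebra k G) :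
    ∃ z : MonoidAlgebra k T, bext N ν * y * bext N ν = ext T z := by
  induction y using MonoidAlgebra.induction_linear with
  | zero => exact ⟨0, by simp⟩
  | add a b ha hb =>
    obtain ⟨za, hza⟩ := ha
    obtain ⟨zb, hzb⟩ := hb
    exact ⟨za + zb, by rw [map_add, ← hza, ← hzb, mul_add, add_mul]⟩
  | single g r =>
    have he : ext T (bext (N.subgroupOf T) (pushDown hNT ν)) = bext N ν := ext_bext_pushDown hNT ν
    by_cases hg : g ∈ T
    · refine ⟨bext (N.subgroupOf T) (pushDown hNT ν) * single ⟨g, hg⟩ r *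
        bext (N.subgroupOf T) (pushDown hNT ν), ?_⟩
      rw [map_mul, map_mul, he, ext_single]
    · refine ⟨0, ?_⟩
      rw [map_zero]
      have h1 : bext N ν * single g r = single g r * conjA g⁻¹ (bext N ν) := by
        have key : ∀ a : MonoidAlgebra k G,
            a * single g r = single g r * conjA g⁻¹ a := by
          intro a
          induction a using MonoidAlgebra.induction_linear with
          | zero => simp
          | add a b ha hb => rw [map_add, mul_add, add_mul, ha, hb]
          | single x s =>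
            rw [conjA, domCongr_single, single_mul_single, single_mul_single, MulAut.conj_apply,
              inv_inv, mul_comm s r]
            congr 1
            group
        exact key _
      rw [h1, mul_assoc, ← NormalCover.bext_conjN N g⁻¹ ν, bext_mul_bext N, mul_zero]
      intro he'
      refine hg (inv_inv g ▸ inv_mem (hT g⁻¹ ?_))
      rw [← NormalCover.bext_conjN N g⁻¹ ν, he']

end Push


/-- Fix a prime p and a maximal ideal M of the algebraic integers containing p. Let N ≤ L be normal subgroups of the finite group G with L/N a p-group, let B be a p-block of G covering the p-block c of N (some member of B has a constituent in c on restriction to N), and suppose that N contains a defect group of B. Then the stabilizer T of c in G satisfies T ∩ L = N. -/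
theorem result {G : Type*} [Group G] [Fintype G] (p : ℕ) [Fact p.Prime] (M : Ideal Cfsg.AlgInt) (hM : Cfsg.IsPModular p M) (N L : Subgroup G) [N.Normal] [L.Normal] [Fintype N] (hNL : N ≤ L) (hLN : ∃ k : ℕ, (N.subgroupOf L).index = p ^ k) (B : Set (Cfsg.IrrCharacter G)) (hB : Cfsg.IsPBlock M B) (c : Set (Cfsg.IrrCharacter N)) (hc : Cfsg.IsPBlock M c) (hcov : (∃ χ ∈ B, ∃ θ ∈ c, Cfsg.classInner (fun n : N => (χ : G → ℂ) n) (θ : N → ℂ) ≠ 0)) (hD : ∃ D : Subgroup G, Cfsg.IsDefectGroup p M B D ∧ D ≤ N) (T : Subgroup G) (hT : ∀ x : G, x ∈ T ↔ Cfsg.StabilizesBlock N c x) : T ⊓ L = N := by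
  haveI : M.IsMaximal := hM.2.1
  haveI : CharP (Res M) p := charP_res hM
  classical
  obtain ⟨D, hD, hDN⟩ := hD
  obtain ⟨n, hn⟩ := hLN
  have hcov := (NormalCover.covers_iff_constituent N hB hc).mp hcov
  set e := bext N (blk hc) with he
  have hT' : ∀ x : G, x ∈ T ↔ conjA x e = e := fun x => by
    rw [hT, NormalCover.stabilizesBlock_iff_normal N hc]
  have hNT : N ≤ T := fun x hx => (hT' x).mpr ((isFixedBy_iff N e).mp (isFixedBy_bext _ _) x hx)
  refine le_antisymm ?_ (le_inf hNT hNL)
  -- the group `T`, its normal subgroups `K` and `NT`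
  set NT := N.subgroupOf T with hNTdef
  set K := (T ⊓ L).subgroupOf T with hK
  haveI hKn : K.Normal := by
    constructor
    intro a ha g
    rw [Subgroup.mem_subgroupOf] at ha ⊢
    exact ⟨(g * a * g⁻¹).2, (inferInstance : L.Normal).conj_mem _ ha.2 g⟩
  set NK := NT.subgroupOf K with hNKdef
  have hNTK : NT ≤ K := fun x hx => ⟨x.2, hNL hx⟩
  haveI : NT.Normal := Subgroup.Normal.subgroupOf inferInstance T
  haveI : NK.Normal := Subgroup.Normal.subgroupOf inferInstance K
  set νT := pushDown hNT (blk hc) with hνT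
  set νK := pushDown hNTK νT with hνK
  have heT : ext T (bext NT νT) = e := ext_bext_pushDown hNT _
  have heK : ext K (bext NK νK) = bext NT νT := ext_bext_pushDown hNTK _
  have hfixT : ∀ x : T, conjA x (bext NT νT) = bext NT νT := fun x =>
    (isFixedBy_iff (T.subgroupOf T) _).mp
      ((Embed.isFixedBy_ext_iff le_rfl _).mpr (by
        rw [heT]; exact (isFixedBy_iff T e).mpr fun u hu => (hT' u).mp hu)) x x.2
  have hfixK : ∀ x : K, conjA x (bext NK νK) = bext NK νK := fun x =>
    (isFixedBy_iff (K.subgroupOf K) _).mp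
      ((Embed.isFixedBy_ext_iff le_rfl _).mpr (by
        rw [heK]; exact (isFixedBy_iff K _).mpr fun u _ => hfixT u)) x x.2
  have hidx : ∃ j : ℕ, NK.index = p ^ j := by
    have h1 : NK.index ∣ (N.subgroupOf L).index := by
      rw [hNKdef, hNTdef, hK]
      show (N.subgroupOf T).relIndex ((T ⊓ L).subgroupOf T) ∣ N.relIndex L
      rw [Subgroup.relIndex_subgroupOf inf_le_left]
      exact ⟨_, (Subgroup.relIndex_mul_relIndex N (T ⊓ L) L (le_inf hNT hNL) inf_le_right).symm⟩
    rw [hn] at h1
    exact ⟨_, ((Nat.dvd_prime_pow Fact.out).mp h1).choose_spec.2⟩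
  have hcK : Cfsg.IsPBlock M (toSet νK) := isPBlock_toSet _
  haveI : Fintype T := Fintype.ofFinite T
  haveI : Fintype K := Fintype.ofFinite K
  have h4672 := Cfsg.Agent.S4672.result p M hM NK hidx (toSet νK) hcK fun x => by
    rw [NormalCover.stabilizesBlock_iff_normal NK hcK, blk_toSet]
    exact hfixK x
  obtain ⟨⟨BK, hBK, hco⟩, h2⟩ := h4672
  obtain ⟨R, hR⟩ := exists_isDef (p := p) (blk hBK)
  have hRtop := (h2 BK hBK hco R ((isDefectGroup_iff hBK R).mpr hR)).1
  have hBKe : bidem (blk hBK) = bext NK νK := by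
    have h := fun g => coeff_bext hcK g
    rw [blk_toSet] at h
    ext g
    rw [coeff_bidem hBK g, h g]
    exact congrArg _ (Subtype.ext (hco g))
  obtain ⟨μ, hμ⟩ := exists_pairOf_isDef hR
  -- the corner of the block in `k[T]`
  set x := bidem (blk hB) * e with hx
  have hcomm : ∀ y : MonoidAlgebra (Res M) G, bidem (blk hB) * y = y * bidem (blk hB) := fun y =>
    (Subalgebra.mem_center_iff.mp (bidem_mem (blk hB)) y).symm
  have hei : e * e = e := bext_isIdem N _
  obtain ⟨z, hz⟩ := exists_ext_eq (blk hc) hNT (fun g h => (hT' g).mpr h) (bidem (blk hB))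
  have hxz : x = ext T z := by
    rw [← hz, hx, ← hcomm e, mul_assoc, hei]
  have hxfix : ∀ u : G, u ∈ T → conjA u x = x := fun u hu => by
    rw [hx, map_mul, conjA_eq_of_mem_center (bidem_mem _), (hT' u).mp hu]
  have hzc : z ∈ Subalgebra.center (Res M) (MonoidAlgebra (Res M) T) := by
    rw [mem_center_iff_coeff]
    intro u g
    rw [← coeff_ext T z, ← coeff_ext T z, ← hxz]
    conv_lhs => rw [← hxfix u u.2]
    exact coeff_conjA_conj _ _ _
  have hzi : IsIdempotentElem z := by
    refine ext_injective T ?_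
    rw [map_mul, ← hxz, hx]
    calc bidem (blk hB) * e * (bidem (blk hB) * e)
        = bidem (blk hB) * (e * bidem (blk hB)) * e := by simp only [mul_assoc]
      _ = bidem (blk hB) * bidem (blk hB) * (e * e) := by
          rw [← hcomm e]; simp only [mul_assoc]
      _ = bidem (blk hB) * e := by rw [(bidem_isIdem _).eq, hei]
  have hne : z * bext K (blk hBK) ≠ 0 := by
    intro h0
    have h1 : bext K (blk hBK) = bext NT νT := by rw [bext, hBKe, heK]
    rw [h1] at h0
    have h3 := congrArg (ext T) h0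
    rw [map_mul, map_zero, ← hxz, heT, hx, mul_assoc, hei] at h3
    exact hcov h3
  have hbr := NormalSub.br_ne_zero K hzc hzi hμ hne
  set RT := R.map K.subtype with hRT
  set RG := RT.map T.subtype with hRG
  have hRGp : IsPGroup p RG := (hμ.1.map _).map _
  obtain ⟨g, hg, hgne⟩ : ∃ g ∈ Subgroup.centralizer (RT : Set T), z.coeff g ≠ 0 := by
    by_contra h
    push Not at h
    exact hbr ((Embed.coeff_eq_zero_iff_br _).mpr h)
  have hgC : (g : G) ∈ Subgroup.centralizer (RG : Set G) := by
    rw [Subgroup.mem_centralizer_iff]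
    rintro _ ⟨d, hd, rfl⟩
    exact congrArg Subtype.val (Subgroup.mem_centralizer_iff.mp hg d hd)
  have hbrB : br RG (bidem (blk hB)) ≠ 0 := by
    intro h0
    apply hgne
    rw [← coeff_ext T z, ← hxz]
    have hbx : br RG x = 0 := by
      rw [hx, br_mul hRGp (isFixedBy_of_mem_center _ (bidem_mem _)) ((isFixedBy_iff _ _).mpr
        fun u hu => (hT' u).mp (Subgroup.map_subtype_le _ hu)), h0, zero_mul]
    exact (Embed.coeff_eq_zero_iff_br _).mp hbx _ hgC
  obtain ⟨g', hg', hg'ne⟩ : ∃ g' ∈ Subgroup.centralizer (RG : Set G),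
      (bidem (blk hB)).coeff g' ≠ 0 := by
    by_contra h
    push Not at h
    exact hbrB ((Embed.coeff_eq_zero_iff_br _).mpr h)
  obtain ⟨ω, hω⟩ := exists_pairOf (ψ := blk hB) hRGp hg' hg'ne
  obtain ⟨y, hy⟩ := exists_map_le_isDef hω ((isDefectGroup_iff hB D).mp hD)
  have hRN : R ≤ NK := by
    intro r hr
    have h1 : y * (((r : K) : T) : G) * y⁻¹ ∈ N :=
      hDN (hy ⟨_, ⟨(r : K), ⟨r, hr, rfl⟩, rfl⟩, rfl⟩)
    exact (NormalCover.mem_conj_iff N y _).mpr h1
  rw [sup_eq_left.mpr hRN] at hRtop
  intro g0 hg0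
  have h5 : (⟨⟨g0, hg0.1⟩, hg0⟩ : K) ∈ NK := hRtop ▸ Subgroup.mem_top _
  exact h5

end Cfsg.Agent.S4673
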