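import Cfsg.Statements.S4674
import Cfsg.Agent.Lib.BrauerPairs.Bridge
import Cfsg.Agent.Lib.BrauerPairs.HarrisKnorr
import Cfsg.Agent.Lib.BrauerMap.Induced

set_option autoImplicit false
open Cfsg

namespace Cfsg.Agent.S4674

open Cfsg.Agent.Lib.BrauerPairs.Center Cfsg.Agent.Lib.BrauerPairs.Pairs
open Cfsg.Agent.Lib.BrauerPairs.Transport Cfsg.Agent.Lib.BrauerPairs.Maximal
open Cfsg.Agent.Lib.BrauerPairs.Principal Cfsg.Agent.Lib.BrauerPairs.Bridge

attribute [local instance] Ideal.Quotient.field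

open Cfsg.Agent.Lib.BrauerPairs Cfsg.Agent.Lib.BrauerPairs.Trunc Cfsg.Agent.Lib.BrauerPairs.Conj
open Cfsg.Agent.Lib.BrauerPairs.HarrisKnorr
open Cfsg.Agent.Lib.BrauerMap.Basic Cfsg.Agent.Lib.BrauerMap.ClassSum Cfsg.Agent.Lib.BrauerMap.Induced
open Cfsg.Agent.Lib.Blocks (localRing residue omegaBar ccR)

universe u

section Bridge

variable {M : Ideal Cfsg.AlgInt} [M.IsMaximal] {G : Type u} [Group G] [Finite G]
variable {p : ℕ} [Fact p.Prime] [CharP (Res M) p]

theorem isInducedBlock_iff_comp {Q H : Subgroup G} (hQ : IsPGroup p Q) (hQH : Q ≤ H)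
    (hC : Subgroup.centralizer (Q : Set G) ≤ H) (hN : H ≤ Subgroup.normalizer (Q : Set G))
    {c : Set (Cfsg.IrrCharacter H)} (hc : Cfsg.IsPBlock M c)
    {B : Set (Cfsg.IrrCharacter G)} (hB : Cfsg.IsPBlock M B) :
    Cfsg.IsInducedBlock M H c B ↔ (blk hc).comp (brauerHom hQ hC hN) = blk hB := by
  have key : ∀ ξ ∈ c, ∀ χ ∈ B, (∀ g : G, Cfsg.MemLocalIdeal M
      (Cfsg.inducedCentralChar H (ξ : H → ℂ) g - Cfsg.centralChar (χ : G → ℂ) g)) ↔
      (blk hc).comp (brauerHom hQ hC hN) = blk hB := by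
    intro ξ hξ χ hχ
    rw [induced_congr_iff, ← blkOf_of_mem hc hξ, ← blkOf_of_mem hB hχ]
    have hr : ∀ g : G, residue M (icR M H ξ g) =
        ((blkOf M ξ).comp (brauerHom hQ hC hN)) (classSumC (Res M) g) := fun g => by
      rw [← inducedBar_classSumC, inducedBar_eq_brauer hQ hQH hC hN ξ]
      rfl
    constructor
    · intro h
      refine algHom_ext fun g => ?_
      rw [← hr g, h g, blkOf_classSumC]
    · intro h g
      rw [hr g, h, blkOf_classSumC]
  constructor
  · rintro ⟨-, -, h⟩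
    obtain ⟨ξ, hξ⟩ := exists_mem (blk hc)
    obtain ⟨χ, hχ⟩ := exists_mem (blk hB)
    rw [toSet_blk] at hξ hχ
    exact (key ξ hξ χ hχ).mp (h ξ hξ χ hχ)
  · exact fun h => ⟨hc, hB, fun ξ hξ χ hχ => (key ξ hξ χ hχ).mpr h⟩

theorem pushIrr_mem_pushDown {H K : Subgroup G} (h : K ≤ H) {e : Set (Cfsg.IrrCharacter K)}
    (he : Cfsg.IsPBlock M e) (ξ : Cfsg.IrrCharacter K) :
    pushIrr (Subgroup.subgroupOfEquivOfLe h).symm ξ ∈ toSet (pushDown h (blk he)) ↔ ξ ∈ e := by
  rw [mem_toSet, blkOf_pushIrr, MulEquiv.symm_symm]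
  constructor
  · intro h1
    have h2 : pullUp h (pushDown h (blkOf M ξ)) = pullUp h (pushDown h (blk he)) :=
      congrArg (pullUp h) h1
    rw [pullUp_pushDown, pullUp_pushDown] at h2
    rw [← toSet_blk he, mem_toSet]
    exact h2
  · intro hξ
    rw [blkOf_of_mem he hξ]
    rfl

theorem inducedCentralCharIn_eq_of_le {H K : Subgroup G} (h : K ≤ H) (ξ : Cfsg.IrrCharacter K)
    (x : H) : Cfsg.inducedCentralCharIn H K (ξ : K → ℂ) (x : G) =
      Cfsg.inducedCentralChar (K.subgroupOf H)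
        (pushIrr (Subgroup.subgroupOfEquivOfLe h).symm ξ : _ → ℂ) x := by
  unfold Cfsg.inducedCentralCharIn Cfsg.inducedCentralChar
  set θ := Subgroup.subgroupOfEquivOfLe h with hθ
  have himg : {a : K | ∃ y : H, (y : G) * (a : G) * (y : G)⁻¹ = (x : G)} =
      θ '' {a : K.subgroupOf H | IsConj x (a : H)} := by
    ext a
    constructor
    · rintro ⟨y, hy⟩
      refine ⟨θ.symm a, ?_, θ.apply_symm_apply a⟩
      exact isConj_comm.mp (isConj_iff.mpr ⟨y, Subtype.ext hy⟩)
    · rintro ⟨a', ha', rfl⟩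
      obtain ⟨y, hy⟩ := isConj_iff.mp (isConj_comm.mp ha')
      exact ⟨y, congrArg Subtype.val hy⟩
  rw [himg, finsum_mem_image θ.injective.injOn]
  refine finsum_mem_congr rfl fun a _ => ?_
  rw [pushIrr_apply, pushIrr_apply, MulEquiv.symm_symm, map_one]

theorem isInducedBlockIn_transport {H K : Subgroup G} (h : K ≤ H)
    {e : Set (Cfsg.IrrCharacter K)} (he : Cfsg.IsPBlock M e) {f : Set (Cfsg.IrrCharacter H)}
    (hind : Cfsg.IsInducedBlockIn M H K e f) :
    Cfsg.IsInducedBlock M (K.subgroupOf H) (toSet (pushDown h (blk he))) f := by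
  obtain ⟨-, hf, hi⟩ := hind
  refine ⟨isPBlock_toSet _, hf, fun ξ' hξ' χ hχ g => ?_⟩
  obtain ⟨ξ, hξ⟩ := exists_mem (blk he)
  rw [toSet_blk] at hξ
  have hmem := (pushIrr_mem_pushDown h he ξ).mpr hξ
  refine (induced_congr_iff ξ' χ).mpr (fun g => ?_) g
  have h3 := (induced_congr_iff (pushIrr (Subgroup.subgroupOfEquivOfLe h).symm ξ) χ).mp
    (fun g => by
      have h4 := hi ξ hξ χ hχ g
      rwa [inducedCentralCharIn_eq_of_le h] at h4) g
  rw [← h3]
  refine inducedCentralChar_congr ?_ g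
  rw [Cfsg.Agent.Lib.Blocks.sameBlock_iff_omegaBar]
  exact hξ'.trans hmem.symm

theorem classInner_transport {H K : Subgroup G} (h : K ≤ H) [Fintype K] [Fintype (K.subgroupOf H)]
    (ψ : H → ℂ) (ξ : Cfsg.IrrCharacter K) :
    Cfsg.classInner (fun a : K.subgroupOf H => ψ a)
      (pushIrr (Subgroup.subgroupOfEquivOfLe h).symm ξ : _ → ℂ) =
    Cfsg.classInner (fun l : K => ψ (Subgroup.inclusion h l)) (ξ : K → ℂ) := by
  unfold Cfsg.classInner
  rw [Nat.card_congr (Subgroup.subgroupOfEquivOfLe h).toEquiv]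
  congr 1
  refine Fintype.sum_equiv (Subgroup.subgroupOfEquivOfLe h).toEquiv _ _ fun a => ?_
  rw [pushIrr_apply, MulEquiv.symm_symm]
  rfl

end Bridge


/-- Fix a prime p and a maximal ideal M of the algebraic integers containing p. Let N be a normal subgroup of the finite group G, Q a p-subgroup of N, H = N_G(Q) and L = H ∩ N = N_N(Q). Let d be a p-block of N with defect group Q and e the p-block of L with defect group Q that induces d inside N (its Brauer correspondent). Then block induction from H to G is a bijection from the p-blocks of H covering e onto the p-blocks of G covering d: every block of H covering e induces exactly one block of G, and that block covers d; and every block of G covering d is induced by exactly one block of H covering e. -/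
theorem result {G : Type*} [Group G] [Fintype G] (p : ℕ) [Fact p.Prime] (M : Ideal Cfsg.AlgInt) (hM : Cfsg.IsPModular p M) (N : Subgroup G) [N.Normal] [Fintype N] (Q : Subgroup G) (hQ : IsPGroup p Q) (hQN : Q ≤ N) [Fintype ↥(Subgroup.normalizer (Q : Set G) ⊓ N)] (d : Set (Cfsg.IrrCharacter N)) (hd : Cfsg.IsPBlock M d) (hdQ : Cfsg.IsDefectGroup p M d (Q.subgroupOf N)) (e : Set (Cfsg.IrrCharacter ↥(Subgroup.normalizer (Q : Set G) ⊓ N))) (he : Cfsg.IsPBlock M e) (heQ : Cfsg.IsDefectGroup p M e (Q.subgroupOf (Subgroup.normalizer (Q : Set G) ⊓ N))) (hed : Cfsg.IsInducedBlockIn M N (Subgroup.normalizer (Q : Set G) ⊓ N) e d) : (∀ c : Set (Cfsg.IrrCharacter ↥(Subgroup.normalizer (Q : Set G))), Cfsg.IsPBlock M c → (∃ ψ ∈ c, ∃ ξ ∈ e, Cfsg.classInner (fun l : ↥(Subgroup.normalizer (Q : Set G) ⊓ N) => (ψ : ↥(Subgroup.normalizer (Q : Set G)) → ℂ) (Subgroup.inclusion inf_le_left l)) (ξ : ↥(Subgroup.normalizer (Q : Set G) ⊓ N) → ℂ) ≠ 0) → ∃! B : Set (Cfsg.IrrCharacter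 G), Cfsg.IsInducedBlock M (Subgroup.normalizer (Q : Set G)) c B ∧ (∃ χ ∈ B, ∃ θ ∈ d, Cfsg.classInner (fun n : N => (χ : G → ℂ) n) (θ : N → ℂ) ≠ 0)) ∧ (∀ B : Set (Cfsg.IrrCharacter G), Cfsg.IsPBlock M B → (∃ χ ∈ B, ∃ θ ∈ d, Cfsg.classInner (fun n : N => (χ : G → ℂ) n) (θ : N → ℂ) ≠ 0) → ∃! c : Set (Cfsg.IrrCharacter ↥(Subgroup.normalizer (Q : Set G))), (Cfsg.IsPBlock M c ∧ ∃ ψ ∈ c, ∃ ξ ∈ e, Cfsg.classInner (fun l : ↥(Subgroup.normalizer (Q : Set G) ⊓ N) => (ψ : ↥(Subgroup.normalizer (Q : Set G)) → ℂ) (Subgroup.inclusion inf_le_left l)) (ξ : ↥(Subgroup.normalizer (Q : Set G) ⊓ N) → ℂ) ≠ 0) ∧ Cfsg.IsInducedBlock M (Subgroup.normalizer (Q : Set G)) c B) := by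
  haveI : M.IsMaximal := hM.2.1
  haveI : CharP (Res M) p := charP_res hM
  classical
  have hQH : Q ≤ Subgroup.normalizer (Q : Set G) := Subgroup.le_normalizer
  have hC : Subgroup.centralizer (Q : Set G) ≤ Subgroup.normalizer (Q : Set G) :=
    Subgroup.centralizer_le_normalizer _
  have hν : IsDef p (blk hd) (Q.subgroupOf N) := (isDefectGroup_iff hd _).mp hdQ
  -- `e` induces `d`
  have hind : HarrisKnorr.Ind N Q (blk he) (blk hd) := by
    set L := (Subgroup.normalizer (Q : Set G) ⊓ N : Subgroup G)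
    set D := Q.subgroupOf N with hD
    set K := L.subgroupOf N with hK
    have hDp : IsPGroup p D := hQ.comap_of_injective N.subtype N.subtype_injective
    have hKN : K ≤ Subgroup.normalizer (D : Set N) := fun n hn => by
      rw [Subgroup.mem_normalizer_iff]
      exact fun a => Subgroup.mem_normalizer_iff.mp hn.1 (a : G)
    have hDK : D ≤ K := fun n hn => ⟨Subgroup.le_normalizer hn, n.2⟩
    have hCK : Subgroup.centralizer (D : Set N) ≤ K := fun n hn =>
      ⟨Subgroup.centralizer_le_normalizer _ ((Embed.mem_centralizer_subgroupOf_iff hQN n).mp hn),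
        n.2⟩
    have heK : Cfsg.IsPBlock M (toSet (pushDown (inf_le_right : L ≤ N) (blk he))) :=
      isPBlock_toSet _
    have h1 := (isInducedBlock_iff_comp hDp hDK hCK hKN heK hd).mp
      (isInducedBlockIn_transport inf_le_right he hed)
    rw [blk_toSet] at h1
    intro h0
    have h2 := congrArg (fun ψ : Blk (Res M) N => ψ (idem (blk hd))) h1
    simp only [apply_idem_self, AlgHom.comp_apply] at h2
    set eK := pushDown (inf_le_right : L ≤ N) (blk he) with heKdef
    set w := brauerHom hDp hCK hKN (idem (blk hd)) with hw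
    have hwi : IsIdempotentElem w := (idem_isIdem (blk hd)).map _
    have hne := (apply_eq_one_iff eK hwi).mp h2
    apply hne
    apply Subtype.ext
    apply ext_injective K
    apply ext_injective N
    have hβ : ext N (ext K (w : MonoidAlgebra (Res M) K)) = beta Q (bext N (blk hd)) := by
      rw [hw, brauerHom_apply, ext_brauerTo D hCK]
      ext g
      rw [coeff_beta]
      by_cases hgN : g ∈ N
      · refine (coeff_ext N _ ⟨g, hgN⟩).trans ?_
        rw [coeff_beta, bext, show (ext N (bidem (blk hd))).coeff g =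
          (bidem (blk hd)).coeff ⟨g, hgN⟩ from coeff_ext N _ ⟨g, hgN⟩]
        exact if_congr (Embed.mem_centralizer_subgroupOf_iff hQN _) rfl rfl
      · rw [coeff_ext_of_notMem N _ hgN, bext, coeff_ext_of_notMem N _ hgN]
        simp
    rw [Subalgebra.coe_mul, map_mul, map_mul, hβ, ZeroMemClass.coe_zero, map_zero, map_zero]
    rw [show ext N (ext K ((idem eK : ZAlg (Res M) K) : MonoidAlgebra (Res M) K)) = bext L (blk he) from
      ext_bext_pushDown inf_le_right (blk he)]
    exact h0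
  -- covering
  haveI : (((Subgroup.normalizer (Q : Set G)) ⊓ N).subgroupOf (Subgroup.normalizer (Q : Set G))).Normal := by
    constructor
    intro a ha g
    rw [Subgroup.mem_subgroupOf] at ha ⊢
    exact ⟨(g * a * g⁻¹).2, (inferInstance : N.Normal).conj_mem _ ha.2 g⟩
  haveI : Fintype (Subgroup.normalizer (Q : Set G)) := Fintype.ofFinite (Subgroup.normalizer (Q : Set G))
  haveI : Fintype (((Subgroup.normalizer (Q : Set G)) ⊓ N).subgroupOf (Subgroup.normalizer (Q : Set G))) := Fintype.ofFinite _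
  have hcov : ∀ {c : Set (Cfsg.IrrCharacter (Subgroup.normalizer (Q : Set G)))} (hc : Cfsg.IsPBlock M c),
      (∃ ψ ∈ c, ∃ ξ ∈ e, Cfsg.classInner (fun l : ↥((Subgroup.normalizer (Q : Set G)) ⊓ N) =>
        (ψ : (Subgroup.normalizer (Q : Set G)) → ℂ) (Subgroup.inclusion inf_le_left l)) (ξ : ↥((Subgroup.normalizer (Q : Set G)) ⊓ N) → ℂ) ≠ 0) ↔
      HarrisKnorr.Over N Q (blk hc) (blk he) := by
    intro c hc
    rw [HarrisKnorr.over_iff_covers]
    have he' : Cfsg.IsPBlock M (toSet (pushDown (inf_le_left : (Subgroup.normalizer (Q : Set G)) ⊓ N ≤ (Subgroup.normalizer (Q : Set G))) (blk he))) :=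
      isPBlock_toSet _
    have h1 := NormalCover.covers_iff_constituent (((Subgroup.normalizer (Q : Set G)) ⊓ N).subgroupOf (Subgroup.normalizer (Q : Set G))) hc he'
    rw [blk_toSet] at h1
    rw [← h1]
    constructor
    · rintro ⟨ψ, hψ, ξ, hξ, hne⟩
      refine ⟨ψ, hψ, _, (pushIrr_mem_pushDown inf_le_left he ξ).mpr hξ, ?_⟩
      rwa [classInner_transport inf_le_left]
    · rintro ⟨ψ, hψ, θ, hθ, hne⟩
      set t := Subgroup.subgroupOfEquivOfLe (inf_le_left : (Subgroup.normalizer (Q : Set G)) ⊓ N ≤ (Subgroup.normalizer (Q : Set G)))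
      have e1 : pushIrr t.symm (pushIrr t θ) = θ := by
        refine Subtype.ext (funext fun a => ?_)
        rw [pushIrr_apply, pushIrr_apply, MulEquiv.symm_symm, MulEquiv.symm_apply_apply]
      rw [← e1] at hθ hne
      refine ⟨ψ, hψ, pushIrr t θ, (pushIrr_mem_pushDown inf_le_left he _).mp hθ, ?_⟩
      rwa [classInner_transport inf_le_left] at hne
  refine ⟨fun c hc hover => ?_, fun B hB hcovB => ?_⟩
  · have ho := (hcov hc).mp hover
    have hB : Cfsg.IsPBlock M (toSet (indBlk hQ (blk hc))) := isPBlock_toSet _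
    refine ⟨toSet (indBlk hQ (blk hc)), ⟨?_, ?_⟩, ?_⟩
    · rw [isInducedBlock_iff_comp hQ hQH hC le_rfl hc hB, blk_toSet]
      rfl
    · rw [NormalCover.covers_iff_constituent N hB hd, blk_toSet]
      exact covers_indBlk N hQ hQN hind ho
    · rintro B ⟨hi, -⟩
      have h2 := (isInducedBlock_iff_comp hQ hQH hC le_rfl hc hi.2.1).mp hi
      rw [← toSet_blk hi.2.1, ← h2]
      rfl
  · have hψ := (NormalCover.covers_iff_constituent N hB hd).mp hcovB
    obtain ⟨φ, hφ, hover⟩ := exists_over N hQ hQN hν hind hψ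
    have hc : Cfsg.IsPBlock M (toSet φ) := isPBlock_toSet _
    refine ⟨toSet φ, ⟨⟨hc, ?_⟩, ?_⟩, ?_⟩
    · rw [hcov hc, blk_toSet]
      exact hover
    · rw [isInducedBlock_iff_comp hQ hQH hC le_rfl hc hB, blk_toSet]
      exact hφ
    · rintro c ⟨⟨hc', -⟩, hi⟩
      have h2 := (isInducedBlock_iff_comp hQ hQH hC le_rfl hc' hB).mp hi
      rw [← toSet_blk hc', indBlk_injective N hQ hQN hν hψ (φ₁ := blk hc') h2 hφ]

end Cfsg.Agent.S4674
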