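import Cfsg.Statements.S4679
import Cfsg.Agent.Lib.BrauerPairs.Fusion
-- import your own Cfsg.Agent.* helpers here

set_option autoImplicit false
open Cfsg

namespace Cfsg.Agent.S4679

open Cfsg.Agent.Lib.BrauerPairs.Center Cfsg.Agent.Lib.BrauerPairs.Conj Cfsg.Agent.Lib.BrauerPairs.Trunc Cfsg.Agent.Lib.BrauerPairs.Transport Cfsg.Agent.Lib.BrauerPairs.Pairs Cfsg.Agent.Lib.BrauerPairs.Maximal Cfsg.Agent.Lib.BrauerPairs.Bridge Cfsg.Agent.Lib.BrauerPairs.Local Cfsg.Agent.Lib.BrauerPairs.Fusion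
attribute [local instance] Ideal.Quotient.field

/-- Fix a prime p and a maximal ideal M of the algebraic integers containing p, a p-block B of the finite group G with maximal Brauer pair (P, e), its fusion system F on P, a Brauer pair (Q, f) ≤ (P, e), and let T be the stabilizer of f in N_G(Q). Then Q is fully normalized in F if and only if N_P(Q) is a defect group of the block of T whose idempotent is that of f. -/
theorem result {G : Type*} [Group G] [Fintype G] (p : ℕ) [Fact p.Prime] (M : Ideal Cfsg.AlgInt) (hM : Cfsg.IsPModular p M) (B : Set (Cfsg.IrrCharacter G)) (P : Subgroup G) (e : Set (Cfsg.IrrCharacter (Subgroup.centralizer (P : Set G)))) (hmax : Cfsg.IsMaximalBrauerPair p M B P e) (F : Cfsg.FusionSystem P) (hF : Cfsg.IsBlockFusionSystemOn p M B P e F) (Q : Subgroup G) (f : Set (Cfsg.IrrCharacter (Subgroup.centralizer (Q : Set G)))) (hQP : Q ≤ P) (hf : Cfsg.IsPBlock M f) (hle : Cfsg.SubpairLE p M Q f P e) (T : Subgroup G) (hT : ∀ y : G,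 y ∈ T ↔ y ∈ Subgroup.normalizer (Q : Set G) ∧ Cfsg.StabilizesBlock (Subgroup.centralizer (Q : Set G)) f y) : F.IsFullyNormalized Q ↔ ∃ F' : Set (Cfsg.IrrCharacter T), Cfsg.IsPBlock M F' ∧ (∀ t : T, Cfsg.blockCoeff F' t = Cfsg.subgroupBlockCoeff (Subgroup.centralizer (Q : Set G)) f (t : G)) ∧ Cfsg.IsDefectGroup p M F' ((P ⊓ Subgroup.normalizer (Q : Set G)).subgroupOf T) := by
  haveI := hM.2.1
  haveI := charP_res hM
  have hB := hmax.1.2.1
  have he := hmax.1.1.2
  obtain ⟨hψ, hb⟩ := (isMaximalBrauerPair_iff hB he).mp hmax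
  have hF' := isFusion_of_isBlockFusionSystemOn he hF
  set a : Idx (Res M) G := ⟨Q, blk hf⟩
  have ha : Le p a ⟨P, blk he⟩ := (subpairLE_iff hf he).mp hle
  obtain rfl : T = stab a := eq_stab hf hT
  have hQ : IsPGroup p Q := hb.1.to_le hQP
  have hQT : Q ≤ stab a := le_stab_self (a := a) hQ
  have hCT : Subgroup.centralizer (Q : Set G) ≤ stab a := centralizer_le_stab a
  have hcoeff : ∀ (F₁ : Blk (Res M) (stab a)),
      ext (stab a) (bidem F₁) = bext (Subgroup.centralizer (Q : Set G)) (blk hf) →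
      (F.IsFullyNormalized Q ↔ IsDef p F₁ ((P ⊓ Subgroup.normalizer (Q : Set G)).subgroupOf (stab a))) := by
    intro F₁ hF₁
    have S : Setup p a (stab a) F₁ := ⟨hQ, hCT, stab_le_normalizer a, Or.inl hQT, hF₁⟩
    have e : P ⊓ stab a = P ⊓ Subgroup.normalizer (Q : Set G) := inf_stab_eq hb.1 ha
    rw [isFullyNormalized_iff (a := a) hb.1 hF' ha, ← e, S.isDef_inf_iff hb ha]
    refine forall₂_congr fun g hg => ?_
    have e2 : P.map (MulAut.conj g⁻¹).toMonoidHom ⊓ stab a =
        P.map (MulAut.conj g⁻¹).toMonoidHom ⊓ Subgroup.normalizer (Q : Set G) :=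
      inf_stab_eq (c := cPair g⁻¹ ⟨P, blk he⟩) (hb.1.map _) (le_cPair_inv hg)
    simp only [show a.1 = Q from rfl, e, e2]
  constructor
  · intro hn
    obtain ⟨F₁, hF₁, hco, hext, -⟩ := Cfsg.Agent.Lib.BrauerPairs.Stabilizer.exists_block_of_stable
      hQ hQT hCT (stab_le_normalizer a) hf (isFixedBy_stab a)
    refine ⟨F₁, hF₁, hco, ?_⟩
    rw [isDefectGroup_iff hF₁]
    exact (hcoeff _ hext).mp hn
  · rintro ⟨F₁, hF₁, hco, hdef⟩
    rw [isDefectGroup_iff hF₁] at hdef
    exact (hcoeff _ (ext_bidem_of_coeff hCT hf hF₁ hco)).mpr hdef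

end Cfsg.Agent.S4679
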