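import Cfsg.Statements.S4680
import Cfsg.Agent.Lib.BrauerPairs.Fusion
-- import your own Cfsg.Agent.* helpers here

set_option autoImplicit false
open Cfsg

namespace Cfsg.Agent.S4680

open Cfsg.Agent.Lib.BrauerPairs.Center Cfsg.Agent.Lib.BrauerPairs.Conj Cfsg.Agent.Lib.BrauerPairs.Trunc Cfsg.Agent.Lib.BrauerPairs.Transport Cfsg.Agent.Lib.BrauerPairs.Pairs Cfsg.Agent.Lib.BrauerPairs.Maximal Cfsg.Agent.Lib.BrauerPairs.Bridge Cfsg.Agent.Lib.BrauerPairs.Local Cfsg.Agent.Lib.BrauerPairs.Fusion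
attribute [local instance] Ideal.Quotient.field

/-- Fix a prime p and a maximal ideal M of the algebraic integers containing p, a p-block B of the finite group G with maximal Brauer pair (P, e), its fusion system F on P, and a Brauer pair (Q, f) ≤ (P, e). Then Q is centric in F if and only if Z(Q) is a defect group of f as a block of C_G(Q). -/
theorem result {G : Type*} [Group G] [Fintype G] (p : ℕ) [Fact p.Prime] (M : Ideal Cfsg.AlgInt) (hM : Cfsg.IsPModular p M) (B : Set (Cfsg.IrrCharacter G)) (P : Subgroup G) (e : Set (Cfsg.IrrCharacter (Subgroup.centralizer (P : Set G)))) (hmax : Cfsg.IsMaximalBrauerPair p M B P e) (F : Cfsg.FusionSystem P) (hF : Cfsg.IsBlockFusionSystemOn p M B P e F) (Q : Subgroup G) (f : Set (Cfsg.IrrCharacter (Subgroup.centralizer (Q : Set G)))) (hQP : Q ≤ P) (hf : Cfsg.IsPBlock M f) (hle : Cfsg.SubpairLE p M Q f P e) : F.IsCentric Q ↔ Cfsg.IsDefectGroup p M f ((Q ⊓ Subgroup.centralizer (Q : Set G)).subgroupOf (Subgroup.centralizer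 (Q : Set G))) := by
  haveI := hM.2.1
  haveI := charP_res hM
  have hB := hmax.1.2.1
  have he := hmax.1.1.2
  obtain ⟨hψ, hb⟩ := (isMaximalBrauerPair_iff hB he).mp hmax
  have hF' := isFusion_of_isBlockFusionSystemOn he hF
  set a : Idx (Res M) G := ⟨Q, blk hf⟩
  have ha : Le p a ⟨P, blk he⟩ := (subpairLE_iff hf he).mp hle
  have S := setup_centralizer (a := a) (hb.1.to_le hQP : IsPGroup p a.1)
  rw [isDefectGroup_iff hf]
  have hsub : ∀ g : G, Le p (cPair g a) ⟨P, blk he⟩ →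
      Q ⊓ Subgroup.centralizer (Q : Set G) ≤
        P.map (MulAut.conj g⁻¹).toMonoidHom ⊓ Subgroup.centralizer (Q : Set G) := fun g hg =>
    inf_le_inf_right _ (le_cPair_inv hg).subgroup_le
  have hQ' : ∀ R : Subgroup G, R ≤ Subgroup.centralizer (Q : Set G) →
      Nat.card (R.subgroupOf (Subgroup.centralizer (Q : Set G))) = Nat.card R := fun R hR =>
    Nat.card_congr (Subgroup.subgroupOfEquivOfLe hR).toEquiv
  constructor
  · rintro ⟨-, hcen⟩
    obtain ⟨g, hg, hdef⟩ := S.exists_max hb ha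
    have h1 := hcen _ ((isConj_iff hb.1 hF' ha _).mpr ⟨g, hg, rfl⟩)
    have h2 : P.map (MulAut.conj g⁻¹).toMonoidHom ⊓ Subgroup.centralizer (Q : Set G) =
        Q ⊓ Subgroup.centralizer (Q : Set G) := by
      refine le_antisymm (le_inf ?_ inf_le_right) (hsub g hg)
      rintro x ⟨hx, hxC⟩
      obtain ⟨y, hy, rfl⟩ := hx
      have hyC : y ∈ P ⊓ Subgroup.centralizer ((Q.map (MulAut.conj g).toMonoidHom : Subgroup G) : Set G) := by
        refine ⟨hy, ?_⟩
        rw [← map_conj_centralizer]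
        exact ⟨_, hxC, by simp [mul_assoc]⟩
      obtain ⟨q, hq, hqy⟩ := h1 hyC
      have e : (MulAut.conj g⁻¹).toMonoidHom y = q := by rw [← hqy]; simp [mul_assoc]
      rw [e]
      exact hq
    rw [← h2]
    exact hdef
  · intro hdef
    refine ⟨hQP, fun R hR => ?_⟩
    obtain ⟨g, hg, rfl⟩ := (isConj_iff hb.1 hF' ha R).mp hR
    obtain ⟨D, hD, hDle⟩ := S.exists_isDef_ge (b := cPair g⁻¹ ⟨P, blk he⟩) (hb.1.map _)
      (le_cPair_inv hg)
    have hcard : Nat.card ↥(P.map (MulAut.conj g⁻¹).toMonoidHom ⊓ Subgroup.centralizer (Q : Set G)) ≤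
        Nat.card ↥(Q ⊓ Subgroup.centralizer (Q : Set G)) := by
      have := Nat.le_of_dvd Nat.card_pos (Subgroup.card_dvd_of_le hDle)
      rw [hQ' _ inf_le_right, card_isDef_eq hD hdef, hQ' _ inf_le_right] at this
      exact this
    have he2 := Subgroup.eq_of_le_of_card_ge (hsub g hg) hcard
    rintro y ⟨hy, hyC⟩
    refine ⟨g⁻¹ * y * g, ?_, by simp [mul_assoc]⟩
    have hm : g⁻¹ * y * g ∈
        P.map (MulAut.conj g⁻¹).toMonoidHom ⊓ Subgroup.centralizer (Q : Set G) := by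
      refine ⟨⟨y, hy, by simp⟩, ?_⟩
      rw [← map_conj_centralizer g Q] at hyC
      obtain ⟨z, hz, rfl⟩ := hyC
      simpa [mul_assoc] using hz
    rw [← he2] at hm
    exact hm.1

end Cfsg.Agent.S4680
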