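import Cfsg.Statements.S4681
import Cfsg.Agent.Lib.BrauerPairs.Bridge
import Cfsg.Agent.Lib.BrauerPairs.Principal
-- import your own Cfsg.Agent.* helpers here

set_option autoImplicit false
open Cfsg

namespace Cfsg.Agent.S4681

open Cfsg.Agent.Lib.BrauerPairs.Center Cfsg.Agent.Lib.BrauerPairs.Conj Cfsg.Agent.Lib.BrauerPairs.Trunc Cfsg.Agent.Lib.BrauerPairs.Transport Cfsg.Agent.Lib.BrauerPairs.Pairs Cfsg.Agent.Lib.BrauerPairs.Maximal Cfsg.Agent.Lib.BrauerPairs.Principal Cfsg.Agent.Lib.BrauerPairs.Bridge
attribute [local instance] Ideal.Quotient.field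

/-- Fix a prime p and a maximal ideal M of the algebraic integers containing p. Let B₀ be the principal p-block of the finite group G, P a Sylow p-subgroup and e₀ the principal p-block of C_G(P). Then (P, e₀) is a maximal Brauer pair of B₀, and the fusion system of B₀ on (P, e₀) is the fusion system of G on P: its maps from each subgroup of P are exactly the conjugation maps into P by elements of G. -/
theorem result {G : Type*} [Group G] [Fintype G] (p : ℕ) [Fact p.Prime] (M : Ideal Cfsg.AlgInt) (hM : Cfsg.IsPModular p M) (S : Sylow p G) : Cfsg.IsMaximalBrauerPair p M (Cfsg.principalBlock M G) (S : Subgroup G) (Cfsg.principalBlock M (Subgroup.centralizer ((S : Subgroup G) : Set G))) ∧ ∀ F : Cfsg.FusionSystem (S : Subgroup G), Cfsg.IsBlockFusionSystemOn p M (Cfsg.principalBlock M G) (S : Subgroup G) (Cfsg.principalBlock M (Subgroup.centralizer ((S : Subgroup G) : Set G))) F → ∀ Q : Subgroup G, F.Hom Q = (Cfsg.groupFusionSystem (S : Subgroup G)).Hom Q := by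
  haveI := hM.2.1
  haveI := charP_res hM
  have hmax : Cfsg.IsMaximalBrauerPair p M (Cfsg.principalBlock M G) (S : Subgroup G)
      (Cfsg.principalBlock M (Subgroup.centralizer ((S : Subgroup G) : Set G))) := by
    rw [isMaximalBrauerPair_iff isPBlock_principalBlock isPBlock_principalBlock,
      blk_principalBlock, blk_principalBlock]
    exact ⟨pairOf_princ S.2, top_princ S⟩
  refine ⟨hmax, fun F hF Q => ?_⟩
  ext φ
  rw [hF.2 Q φ]
  constructor
  · rintro ⟨hQ, g, hφ, himg, -⟩
    refine ⟨hQ, fun u => ?_, g, hφ⟩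
    rw [hφ u]
    exact himg ⟨u, u.2, rfl⟩
  · rintro ⟨hQ, himg, g, hφ⟩
    have himg' : Q.map (MulAut.conj g).toMonoidHom ≤ (S : Subgroup G) := by
      rintro _ ⟨u, hu, rfl⟩
      have := himg ⟨u, hu⟩
      rwa [hφ ⟨u, hu⟩] at this
    refine ⟨hQ, g, hφ, himg', Cfsg.principalBlock M (Subgroup.centralizer (Q : Set G)), ?_, ?_⟩
    · rw [subpairLE_iff isPBlock_principalBlock isPBlock_principalBlock, blk_principalBlock,
        blk_principalBlock]
      exact le_princ S.2 hQ
    · rw [conjBlock_eq isPBlock_principalBlock g, blk_principalBlock]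
      have h : Le p (cPair g (⟨Q, princ (Res M) _⟩ : Idx (Res M) G))
          ⟨(S : Subgroup G), princ (Res M) _⟩ := by
        rw [cPair_princ]
        exact le_princ S.2 himg'
      have h2 := subpairLE_of_le h
      have e : toSet (princ (Res M) ↥(Subgroup.centralizer ((S : Subgroup G) : Set G))) =
          Cfsg.principalBlock M (Subgroup.centralizer ((S : Subgroup G) : Set G)) := by
        rw [← blk_principalBlock, toSet_blk]
      rw [e] at h2
      exact h2

end Cfsg.Agent.S4681
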