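import Cfsg.Statements.S4682
import Cfsg.Agent.Lib.BrauerPairs.Abelian
-- import your own Cfsg.Agent.* helpers here

set_option autoImplicit false
open Cfsg

namespace Cfsg.Agent.S4682

open Cfsg.Agent.Lib.BrauerPairs.Center Cfsg.Agent.Lib.BrauerPairs.Conj Cfsg.Agent.Lib.BrauerPairs.Trunc Cfsg.Agent.Lib.BrauerPairs.Transport Cfsg.Agent.Lib.BrauerPairs.Pairs Cfsg.Agent.Lib.BrauerPairs.Maximal Cfsg.Agent.Lib.BrauerPairs.Bridge Cfsg.Agent.Lib.BrauerPairs.Local Cfsg.Agent.Lib.BrauerPairs.Fusion Cfsg.Agent.Lib.BrauerPairs.Abelian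
attribute [local instance] Ideal.Quotient.field

/-- Fix a prime p and a maximal ideal M of the algebraic integers containing p, a p-block B of the finite group G with maximal Brauer pair (P, e), P abelian, and a Brauer pair (Q, f) ≤ (P, e). Let T_Q be the stabilizer of f in N_G(Q) and T_P the stabilizer of e in N_G(P). Then every element of T_Q is a product of an element of T_P and an element of C_G(Q); and the index of C_G(Q) in T_Q equals the index of T_P ∩ C_G(Q) in T_P ∩ N_G(Q). -/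
theorem result {G : Type*} [Group G] [Fintype G] (p : ℕ) [Fact p.Prime] (M : Ideal Cfsg.AlgInt) (hM : Cfsg.IsPModular p M) (B : Set (Cfsg.IrrCharacter G)) (P : Subgroup G) (e : Set (Cfsg.IrrCharacter (Subgroup.centralizer (P : Set G)))) (hmax : Cfsg.IsMaximalBrauerPair p M B P e) (hab : ∀ x ∈ P, ∀ y ∈ P, x * y = y * x) (Q : Subgroup G) (f : Set (Cfsg.IrrCharacter (Subgroup.centralizer (Q : Set G)))) (hQP : Q ≤ P) (hf : Cfsg.IsPBlock M f) (hle : Cfsg.SubpairLE p M Q f P e) (TQ : Subgroup G) (hTQ : ∀ y : G, y ∈ TQ ↔ y ∈ Subgroup.normalizer (Q : Set G) ∧ Cfsg.StabilizesBlock (Subgroup.centralizer (Q : Set G)) f y) (TP : Subgroup G) (hTP : ∀ y : G, y ∈ TP ↔ y ∈ Subgroup.normalizer (P : Set G) ∧ Cfsg.StabilizesBlock (Subgroup.centralizer (P : Set G)) e y) : (∀ x ∈ TQ, ∃ y ∈ TP, ∃ c ∈ Subgroup.centralizer (Q : Set G), x = y * c) ∧ ((Subgroup.centralizer (Q : Set G)).subgroupOf TQ).index = ((TP ⊓ Subgroup.centralizer (Q : Set G)).subgroupOf (TP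 ⊓ Subgroup.normalizer (Q : Set G))).index := by
  haveI := hM.2.1
  haveI := charP_res hM
  have hB := hmax.1.2.1
  have he := hmax.1.1.2
  obtain ⟨hψ, hb⟩ := (isMaximalBrauerPair_iff hB he).mp hmax
  set a : Idx (Res M) G := ⟨Q, blk hf⟩
  set b : Idx (Res M) G := ⟨P, blk he⟩
  have ha : Le p a b := (subpairLE_iff hf he).mp hle
  obtain rfl : TQ = stab a := eq_stab hf hTQ
  obtain rfl : TP = stab b := eq_stab he hTP
  have hdec : ∀ x ∈ stab a, ∃ y ∈ stab b, ∃ c ∈ Subgroup.centralizer (Q : Set G), x = y * c :=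
    fun x hx => exists_stab_mul hb hab ha hx
  refine ⟨hdec, ?_⟩
  have hA : stab b ⊓ Subgroup.normalizer (Q : Set G) ≤ stab a := inf_stab_le hb.1 ha
  have h1 : (Subgroup.centralizer (Q : Set G)).subgroupOf (stab a) = (autHom a).ker :=
    (autHom_ker (a := a)).symm
  have h2 : (stab b ⊓ Subgroup.centralizer (Q : Set G)).subgroupOf
      (stab b ⊓ Subgroup.normalizer (Q : Set G)) =
        ((autHom a).comp (Subgroup.inclusion hA)).ker := by
    rw [← MonoidHom.comap_ker, autHom_ker]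
    ext x
    exact ⟨fun h => h.2, fun h => ⟨x.2.1, h⟩⟩
  rw [h1, h2, Subgroup.index_ker, Subgroup.index_ker]
  have hr : ((autHom a).comp (Subgroup.inclusion hA)).range = (autHom a).range := by
    refine le_antisymm (by rintro _ ⟨x, rfl⟩; exact ⟨_, rfl⟩) ?_
    rintro _ ⟨⟨x, hx⟩, rfl⟩
    obtain ⟨y, hy, c, hc, rfl⟩ := hdec x hx
    have hyN : y ∈ Subgroup.normalizer (Q : Set G) := by
      have := mul_mem (stab_le_normalizer a hx)
        (inv_mem (Subgroup.centralizer_le_normalizer _ hc))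
      rwa [mul_inv_cancel_right] at this
    refine ⟨⟨y, hy, hyN⟩, ?_⟩
    have hck : (⟨c, centralizer_le_stab a hc⟩ : stab a) ∈ (autHom a).ker := by
      rw [autHom_ker]
      exact hc
    show autHom a ⟨y, hA ⟨hy, hyN⟩⟩ = autHom a ⟨y * c, hx⟩
    rw [show (⟨y * c, hx⟩ : stab a) = ⟨y, hA ⟨hy, hyN⟩⟩ * ⟨c, centralizer_le_stab a hc⟩ from rfl,
      map_mul, MonoidHom.mem_ker.mp hck, mul_one]
  rw [hr]

end Cfsg.Agent.S4682
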