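import Cfsg.Statements.S4683
import Cfsg.Agent.Lib.Blocks.SectionPart
-- import your own Cfsg.Agent.* helpers here

set_option autoImplicit false
open Cfsg

namespace Cfsg.Agent.S4683

open Cfsg.Agent.Lib.BrauerPairs.Bridge
attribute [local instance] Ideal.Quotient.field

/-- Fix a prime p and a maximal ideal M of the algebraic integers containing p, a p-block B of the finite group G, a p-element u and a p-block e of C = C_G(u) such that (⟨u⟩, e) is a Brauer pair of B (a Brauer element of B). For χ ∈ B let χ_u be the e-part of the class function c ↦ χ(u c) on C and χ_u' the e-part of c ↦ χ(u⁻¹ c). Then the sum over χ ∈ B and over the p-regular elements s of C of χ_u(s)·χ_u'(s⁻¹) equals the order of C times the p-regular rank of e (the number of irreducible Brauer characters of e). -/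
theorem result {G : Type*} [Group G] [Fintype G] (p : ℕ) [Fact p.Prime] (M : Ideal Cfsg.AlgInt) (hM : Cfsg.IsPModular p M) (B : Set (Cfsg.IrrCharacter G)) (u : G) (hu : ∃ k : ℕ, orderOf u = p ^ k) (e : Set (Cfsg.IrrCharacter (Subgroup.centralizer (Subgroup.zpowers u : Set G)))) (hBe : Cfsg.IsBrauerPairOf p M B (Subgroup.zpowers u) e) : ∑ᶠ χ ∈ B, ∑ᶠ s : Subgroup.centralizer (Subgroup.zpowers u : Set G), Cfsg.pRegularPart p (Cfsg.blockPart e (fun c : Subgroup.centralizer (Subgroup.zpowers u : Set G) => (χ : G → ℂ) (u * c))) s * Cfsg.blockPart e (fun c : Subgroup.centralizer (Subgroup.zpowers u : Set G) => (χ : G → ℂ) (u⁻¹ * c)) s⁻¹ = (Nat.card (Subgroup.centralizer (Subgroup.zpowers u : Set G)) : ℂ) * (Cfsg.blockRank p e : ℂ) := by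
  classical
  haveI := hM.2.1
  haveI := charP_res hM
  haveI := Fintype.ofFinite (Cfsg.IrrCharacter G)
  haveI := Fintype.ofFinite (Subgroup.centralizer (Subgroup.zpowers u : Set G))
  have he := hBe.1.2
  have hB := hBe.2.1
  have hQ : IsPGroup p (Subgroup.zpowers u) := hBe.1.1
  have hind := (Cfsg.Agent.Lib.BrauerPairs.InducedPair.isInducedBlock_iff hQ he hB).mpr
    ((isBrauerPairOf_iff hB he).mp hBe)
  have hmain := Cfsg.Agent.Lib.Blocks.SectionPart.sum_regular_blockPart_mul hM hu rfl he (G := G)
  rw [finsum_mem_eq_finite_toFinset_sum _ (Set.toFinite B), ← hmain]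
  refine Eq.trans (Finset.sum_congr rfl fun χ _ => finsum_eq_sum_of_fintype _)
    (Finset.sum_subset (Finset.subset_univ _) fun χ _ hχ => ?_)
  refine Finset.sum_eq_zero fun s _ => ?_
  rw [Set.Finite.mem_toFinset] at hχ
  rw [Cfsg.Agent.Lib.Blocks.Contrib.pRegularPart_apply]
  by_cases hs : p ∣ orderOf s
  · rw [if_pos hs, zero_mul]
  · rw [if_neg hs]
    exact mul_eq_zero_of_left
      (Cfsg.Agent.Lib.Blocks.SectionPart.blockPart_sect_eq_zero hM hu rfl hind hχ hs) _

end Cfsg.Agent.S4683
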