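import Cfsg.Statements.S4686
import Cfsg.Agent.Lib.BrauerPairs.Abelian
-- import your own Cfsg.Agent.* helpers here

set_option autoImplicit false
open Cfsg

namespace Cfsg.Agent.S4686

open Cfsg.Agent.Lib.BrauerPairs.Center Cfsg.Agent.Lib.BrauerPairs.Conj Cfsg.Agent.Lib.BrauerPairs.Trunc Cfsg.Agent.Lib.BrauerPairs.Transport Cfsg.Agent.Lib.BrauerPairs.Pairs Cfsg.Agent.Lib.BrauerPairs.Maximal Cfsg.Agent.Lib.BrauerPairs.Bridge Cfsg.Agent.Lib.BrauerPairs.Local Cfsg.Agent.Lib.BrauerPairs.Fusion Cfsg.Agent.Lib.BrauerPairs.Abelian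
attribute [local instance] Ideal.Quotient.field

/-- Fix a prime p and a maximal ideal M of the algebraic integers containing p, a p-block B of the finite group G with maximal Brauer pair (P, e) and fusion system F on P. Then B is nilpotent (for every Brauer pair (Q, f) of B the stabilizer of f in N_G(Q) is C_G(Q) extended by a p-group) if and only if F is the inner fusion system of P: its maps from each subgroup of P are exactly the conjugations by elements of P. -/
theorem result {G : Type*} [Group G] [Fintype G] (p : ℕ) [Fact p.Prime] (M : Ideal Cfsg.AlgInt) (hM : Cfsg.IsPModular p M) (B : Set (Cfsg.IrrCharacter G)) (P : Subgroup G) (e : Set (Cfsg.IrrCharacter (Subgroup.centralizer (P : Set G)))) (hmax : Cfsg.IsMaximalBrauerPair p M B P e) (F : Cfsg.FusionSystem P) (hF : Cfsg.IsBlockFusionSystemOn p M B P e F) : Cfsg.IsNilpotentBlock p M B ↔ ∀ Q : Subgroup G, F.Hom Q = (Cfsg.innerFusionSystem P).Hom Q := by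
  haveI := hM.2.1
  haveI := charP_res hM
  have hB := hmax.1.2.1
  have he := hmax.1.1.2
  obtain ⟨hψ, hb⟩ := (isMaximalBrauerPair_iff hB he).mp hmax
  have hF' := isFusion_of_isBlockFusionSystemOn he hF
  rw [isNilpotentBlock_iff hB]
  constructor
  · intro hnil Q
    rw [hF' Q]
    ext φ
    constructor
    · rintro ⟨hQ, g, hφ, ω, hω, hω'⟩
      obtain ⟨u, hu, h⟩ := exists_inner_of_nilp hnil hb hψ ⟨Q, ω⟩ g hω hω'
      exact ⟨hQ, u, hu, fun x => (hφ x).trans (h x x.2)⟩
    · rintro ⟨hQ, u, hu, h⟩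
      have := F.conj_mem hQ hu
      rw [hF' Q] at this
      rwa [show φ = Cfsg.conjHom Q u from MonoidHom.ext h]
  · intro h
    refine nilp_of_inner hb hψ fun a g ha hga => ?_
    have hm : Cfsg.conjHom a.1 g ∈ F.Hom a.1 := by
      rw [hF' a.1]
      exact ⟨ha.subgroup_le, g, fun _ => rfl, a.2, ha, hga⟩
    rw [h a.1] at hm
    obtain ⟨-, u, hu, hh⟩ := hm
    exact ⟨u, hu, fun q hq => hh ⟨q, hq⟩⟩

end Cfsg.Agent.S4686
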