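import Cfsg.Statements.S4687
import Cfsg.Agent.Lib.BrauerPairs.Abelian
-- import your own Cfsg.Agent.* helpers here

set_option autoImplicit false
open Cfsg

namespace Cfsg.Agent.S4687

open Cfsg.Agent.Lib.BrauerPairs.Center Cfsg.Agent.Lib.BrauerPairs.Conj Cfsg.Agent.Lib.BrauerPairs.Trunc Cfsg.Agent.Lib.BrauerPairs.Transport Cfsg.Agent.Lib.BrauerPairs.Pairs Cfsg.Agent.Lib.BrauerPairs.Maximal Cfsg.Agent.Lib.BrauerPairs.Bridge Cfsg.Agent.Lib.BrauerPairs.Local Cfsg.Agent.Lib.BrauerPairs.Fusion Cfsg.Agent.Lib.BrauerPairs.Abelian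
attribute [local instance] Ideal.Quotient.field

/-- Fix a prime p and a maximal ideal M of the algebraic integers containing p, and a p-block B of the finite group G with maximal Brauer pair (P, e), P abelian. Then B is nilpotent if and only if its inertial quotient is trivial: every element of N_G(P) stabilizing e centralizes P. -/
theorem result {G : Type*} [Group G] [Fintype G] (p : ℕ) [Fact p.Prime] (M : Ideal Cfsg.AlgInt) (hM : Cfsg.IsPModular p M) (B : Set (Cfsg.IrrCharacter G)) (P : Subgroup G) (e : Set (Cfsg.IrrCharacter (Subgroup.centralizer (P : Set G)))) (hmax : Cfsg.IsMaximalBrauerPair p M B P e) (hab : ∀ x ∈ P, ∀ y ∈ P, x * y = y * x) : Cfsg.IsNilpotentBlock p M B ↔ ∀ x : G, x ∈ Subgroup.normalizer (P : Set G) → Cfsg.StabilizesBlock (Subgroup.centralizer (P : Set G)) e x → x ∈ Subgroup.centralizer (P : Set G) := by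
  haveI := hM.2.1
  haveI := charP_res hM
  have hB := hmax.1.2.1
  have he := hmax.1.1.2
  obtain ⟨hψ, hb⟩ := (isMaximalBrauerPair_iff hB he).mp hmax
  rw [isNilpotentBlock_iff hB]
  constructor
  · intro hnil x hxN hxs
    have hx : x ∈ stab (⟨P, blk he⟩ : Idx (Res M) G) := by
      refine mem_stab_iff.mpr ⟨hxN, ?_⟩
      rwa [stabilizesBlock_iff he hxN, act_eq_iff] at hxs
    obtain ⟨u, hu, h⟩ := exists_inner_of_nilp hnil hb hψ ⟨P, blk he⟩ x Relation.ReflTransGen.refl
      (by rw [mem_stab.mp hx]; exact Relation.ReflTransGen.refl)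
    intro q hq
    have h1 : x * q * x⁻¹ = q := by
      rw [h q hq, hab u hu q hq, mul_inv_cancel_right]
    calc q * x = x * q * x⁻¹ * x := by rw [h1]
      _ = x * q := inv_mul_cancel_right _ _
  · intro h
    refine nilp_of_stab_le hb hψ hab fun x hx => ?_
    obtain ⟨hxN, hxfix⟩ := mem_stab_iff.mp hx
    refine h x hxN ?_
    rwa [stabilizesBlock_iff he hxN, act_eq_iff]

end Cfsg.Agent.S4687
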