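import Cfsg.Statements.S4689
import Cfsg.Agent.Lib.StarChar.Nilpotent
import Cfsg.Agent.Lib.BrauerPairs.Fusion

set_option autoImplicit false
open Cfsg
open Cfsg.Agent.Lib.BrauerPairs.Center Cfsg.Agent.Lib.BrauerPairs.Pairs
open Cfsg.Agent.Lib.BrauerPairs.Maximal Cfsg.Agent.Lib.BrauerPairs.Bridge
open Cfsg.Agent.Lib.BrauerPairs.Fusion Cfsg.Agent.Lib.StarChar
open Cfsg.Agent.Lib.Blocks.Contrib Cfsg.Agent.Lib.Characters.Basic

attribute [local instance] Ideal.Quotient.field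

namespace Cfsg.Agent.S4689

/-- Fix a prime p and a maximal ideal M of the algebraic integers containing p, and a nilpotent p-block B of the finite group G. Then B has p-regular rank one (a single irreducible Brauer character), and some χ₀ ∈ B restricts to that Brauer character: every χ ∈ B agrees on the p-regular elements with a natural-number multiple of χ₀. -/
theorem result {G : Type*} [Group G] [Fintype G] (p : ℕ) [Fact p.Prime] (M : Ideal Cfsg.AlgInt) (hM : Cfsg.IsPModular p M) (B : Set (Cfsg.IrrCharacter G)) (hnil : Cfsg.IsNilpotentBlock p M B) : Cfsg.blockRank p B = 1 ∧ ∃ χ₀ ∈ B, ∀ χ ∈ B, ∃ d : ℕ, ∀ x : G, Cfsg.pRegularPart p (χ : G → ℂ) x = (d : ℂ) * Cfsg.pRegularPart p (χ₀ : G → ℂ) x := by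
  classical
  have := hM.2.1
  have := charP_res hM
  have hB := hnil.1
  have hn := (isNilpotentBlock_iff hB).mp hnil
  obtain ⟨χ₀, hχ₀, h0⟩ : ∃ χ₀ ∈ B, vdeg p χ₀ = minVdeg p B :=
    Nat.sInf_mem (s := vdeg p '' B)
      (Set.Nonempty.image _ (Cfsg.Agent.Lib.Blocks.isPBlock_nonempty hB))
  obtain ⟨P, hP⟩ := exists_isDef (p := p) (blk hB)
  obtain ⟨ω, hω⟩ := exists_pairOf_isDef hP
  have hb : Top p (⟨P, ω⟩ : Idx (Res M) G) := top_of_isDef hω hP
  obtain ⟨Φ, hΦ⟩ := Nilpotent.exists_equiv hM hb hω hn hχ₀ h0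
  have hreg : ∀ χ ∈ B, ∃ d : ℕ, ∀ x : G, Cfsg.pRegularPart p (χ : G → ℂ) x =
      (d : ℂ) * Cfsg.pRegularPart p (χ₀ : G → ℂ) x := by
    intro χ hχ
    obtain ⟨d, -, hd⟩ := exists_degree_pos (Φ.symm ⟨χ, hχ⟩)
    refine ⟨d, fun x => ?_⟩
    rw [pRegularPart_apply, pRegularPart_apply]
    split_ifs with hx
    · rw [mul_zero]
    · have h := hΦ (Φ.symm ⟨χ, hχ⟩)
      rw [Equiv.apply_symm_apply] at h
      rw [show (χ : G → ℂ) x = _ from congrFun h x, Nilpotent.star_regular χ₀ _ hx, hd]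
  refine ⟨?_, χ₀, hχ₀, hreg⟩
  rw [Cfsg.blockRank]
  have hspan : Submodule.span ℂ ((fun χ : Cfsg.IrrCharacter G =>
      Cfsg.pRegularPart p (χ : G → ℂ)) '' B) =
      Submodule.span ℂ {Cfsg.pRegularPart p (χ₀ : G → ℂ)} := by
    refine le_antisymm ?_ (Submodule.span_mono (Set.singleton_subset_iff.mpr ⟨χ₀, hχ₀, rfl⟩))
    rw [Submodule.span_le]
    rintro _ ⟨χ, hχ, rfl⟩
    obtain ⟨d, hd⟩ := hreg χ hχ
    rw [SetLike.mem_coe, Submodule.mem_span_singleton]
    exact ⟨(d : ℂ), funext fun x => (hd x).symm⟩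
  rw [hspan]
  refine finrank_span_singleton fun h => apply_one_ne_zero χ₀ ?_
  have := congrFun h 1
  rwa [pRegularPart_apply, if_neg (by rw [orderOf_one]; exact (Fact.out : p.Prime).not_dvd_one)]
    at this

end Cfsg.Agent.S4689
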