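import Cfsg.Statements.S4690
import Cfsg.Agent.Lib.StarChar.Nilpotent
import Cfsg.Agent.Lib.BrauerPairs.Fusion

set_option autoImplicit false
open Cfsg
open Cfsg.Agent.Lib.BrauerPairs.Center Cfsg.Agent.Lib.BrauerPairs.Pairs
open Cfsg.Agent.Lib.BrauerPairs.Maximal Cfsg.Agent.Lib.BrauerPairs.Bridge
open Cfsg.Agent.Lib.BrauerPairs.Fusion Cfsg.Agent.Lib.StarChar
open Cfsg.Agent.Lib.Blocks.Contrib Cfsg.Agent.Lib.Characters.Basic

attribute [local instance] Ideal.Quotient.field

namespace Cfsg.Agent.S4690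

/-- Fix a prime p and a maximal ideal M of the algebraic integers containing p, and a nilpotent p-block B of the finite group G with defect group P. Then there is a bijection from B onto the irreducible characters of P carrying the height of each χ ∈ B to the exponent of p in the degree of its image. -/
theorem result {G : Type*} [Group G] [Fintype G] (p : ℕ) [Fact p.Prime] (M : Ideal Cfsg.AlgInt) (hM : Cfsg.IsPModular p M) (B : Set (Cfsg.IrrCharacter G)) (hnil : Cfsg.IsNilpotentBlock p M B) (P : Subgroup G) (hP : Cfsg.IsDefectGroup p M B P) : ∃ Φ : B ≃ Cfsg.IrrCharacter P, ∀ χ : B, Cfsg.blockHeight p B ((χ : Cfsg.IrrCharacter G) : G → ℂ) = (Cfsg.charDegree ((Φ χ : Cfsg.IrrCharacter P) : P → ℂ)).factorization p := by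
  classical
  have := hM.2.1
  have := charP_res hM
  have hB := hnil.1
  have hn := (isNilpotentBlock_iff hB).mp hnil
  obtain ⟨χ₀, hχ₀, h0⟩ : ∃ χ₀ ∈ B, vdeg p χ₀ = minVdeg p B :=
    Nat.sInf_mem (s := vdeg p '' B)
      (Set.Nonempty.image _ (Cfsg.Agent.Lib.Blocks.isPBlock_nonempty hB))
  have hP' := (isDefectGroup_iff hB P).mp hP
  obtain ⟨ω, hω⟩ := exists_pairOf_isDef hP'
  have hb : Top p (⟨P, ω⟩ : Idx (Res M) G) := top_of_isDef hω hP'
  obtain ⟨Φ, hΦ⟩ := Nilpotent.exists_equiv hM hb hω hn hχ₀ h0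
  refine ⟨Φ.symm, fun χ => ?_⟩
  obtain ⟨ζ, rfl⟩ := Φ.surjective χ
  rw [Equiv.symm_apply_apply]
  obtain ⟨d, hd, hd'⟩ := exists_degree_pos χ₀
  obtain ⟨e, he, he'⟩ := exists_degree_pos ζ
  have hdeg : Cfsg.charDegree ((Φ ζ : Cfsg.IrrCharacter G) : G → ℂ) =
      Cfsg.charDegree (ζ : P → ℂ) * Cfsg.charDegree (χ₀ : G → ℂ) := by
    rw [Cfsg.charDegree, Cfsg.charDegree, Cfsg.charDegree, hΦ ζ,
      Nilpotent.star_regular χ₀ _
        (by rw [orderOf_one]; exact (Fact.out : p.Prime).not_dvd_one), hd']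
    rw [show (ζ : P → ℂ) 1 = e from he', ← Nat.cast_mul]
    simp only [Complex.natCast_re, Nat.floor_natCast]
  have hne : ∀ n : ℕ, 0 < n → ∀ {H : Type _} [Group H] (f : H → ℂ), f 1 = n →
      Cfsg.charDegree f ≠ 0 := by
    intro n hn H _ f hf
    rw [Cfsg.charDegree, hf, Complex.natCast_re, Nat.floor_natCast]
    exact hn.ne'
  show _ - minVdeg p B = _
  rw [← h0, hdeg, Nat.factorization_mul (hne e he _ he') (hne d hd _ hd'), Finsupp.add_apply]
  exact Nat.add_sub_cancel _ _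

end Cfsg.Agent.S4690
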