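import Cfsg.Statements.S4691
import Cfsg.Agent.Lib.BrauerPairs.Bridge
import Cfsg.Agent.Lib.BrauerPairs.Principal
import Cfsg.Agent.Lib.Transfer.Frobenius
-- import your own Cfsg.Agent.* helpers here

set_option autoImplicit false
open Cfsg

namespace Cfsg.Agent.S4691

open Cfsg.Agent.Lib.BrauerPairs.Center Cfsg.Agent.Lib.BrauerPairs.Conj Cfsg.Agent.Lib.BrauerPairs.Trunc Cfsg.Agent.Lib.BrauerPairs.Transport Cfsg.Agent.Lib.BrauerPairs.Pairs Cfsg.Agent.Lib.BrauerPairs.Maximal Cfsg.Agent.Lib.BrauerPairs.Principal Cfsg.Agent.Lib.BrauerPairs.Bridge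
attribute [local instance] Ideal.Quotient.field

/-- Fix a prime p and a maximal ideal M of the algebraic integers containing p. A finite group G has a normal p-complement if and only if its principal p-block is nilpotent. -/
theorem result {G : Type*} [Group G] [Fintype G] (p : ℕ) [Fact p.Prime] (M : Ideal Cfsg.AlgInt) (hM : Cfsg.IsPModular p M) : Cfsg.HasNormalPComplement p G ↔ Cfsg.IsNilpotentBlock p M (Cfsg.principalBlock M G) := by
  haveI := hM.2.1
  haveI := charP_res hM
  constructor
  · intro h
    refine ⟨isPBlock_principalBlock, fun Q e hQe x hx _ hreg => ?_⟩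
    exact Cfsg.Agent.Lib.Transfer.Frobenius.mem_centralizer_of_hasNormalPComplement h hQe.1.1 hx
      ((Fact.out : p.Prime).coprime_iff_not_dvd.mpr hreg).symm
  · intro h
    refine Cfsg.Agent.Lib.Transfer.Frobenius.hasNormalPComplement_of_forall_centralizes
      fun Q hQ _ g hg hgp => ?_
    refine h.2 Q (Cfsg.principalBlock M (Subgroup.centralizer (Q : Set G))) ?_ g hg ?_ ?_
    · rw [isBrauerPairOf_iff isPBlock_principalBlock isPBlock_principalBlock, blk_principalBlock,
        blk_principalBlock]
      exact pairOf_princ hQ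
    · rw [stabilizesBlock_iff isPBlock_principalBlock hg, blk_principalBlock]
      exact cBlk_princ g _ _ _
    · exact (Fact.out : p.Prime).coprime_iff_not_dvd.mp hgp.symm

end Cfsg.Agent.S4691
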