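import Cfsg.Statements.S4692
import Cfsg.Agent.Lib.BrauerPairs.PIndex
-- import your own Cfsg.Agent.* helpers here

set_option autoImplicit false
open Cfsg

namespace Cfsg.Agent.S4692

open Cfsg.Agent.Lib.BrauerPairs.Center Cfsg.Agent.Lib.BrauerPairs.Conj Cfsg.Agent.Lib.BrauerPairs.Trunc Cfsg.Agent.Lib.BrauerPairs.Transport Cfsg.Agent.Lib.BrauerPairs.Pairs Cfsg.Agent.Lib.BrauerPairs.Maximal Cfsg.Agent.Lib.BrauerPairs.Bridge Cfsg.Agent.Lib.BrauerPairs.Local Cfsg.Agent.Lib.BrauerPairs.Fusion
attribute [local instance] Ideal.Quotient.field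

/-- Fix a prime p and a maximal ideal M of the algebraic integers containing p. Let N be a normal subgroup of p-power index in the finite group G and c a p-block of N stable under conjugation by G, and let B be the p-block of G whose idempotent is that of c (it exists and is unique). Then c is nilpotent as a block of N if and only if B is nilpotent as a block of G. -/
theorem result {G : Type*} [Group G] [Fintype G] (p : ℕ) [Fact p.Prime] (M : Ideal Cfsg.AlgInt) (hM : Cfsg.IsPModular p M) (N : Subgroup G) [N.Normal] (hN : ∃ k : ℕ, N.index = p ^ k) (c : Set (Cfsg.IrrCharacter N)) (hc : Cfsg.IsPBlock M c) (hst : ∀ x : G, Cfsg.StabilizesBlock N c x) (B : Set (Cfsg.IrrCharacter G)) (hB : Cfsg.IsPBlock M B) (hBc : ∀ g : G, Cfsg.blockCoeff B g = Cfsg.subgroupBlockCoeff N c g) : Cfsg.IsNilpotentBlock p M c ↔ Cfsg.IsNilpotentBlock p M B := by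
  haveI := hM.2.1
  haveI := charP_res hM
  rw [isNilpotentBlock_iff hc, isNilpotentBlock_iff hB]
  have he : ext N (bidem (blk hc)) = bidem (blk hB) := by
    ext g
    rw [coeff_bidem hB g]
    refine (coeff_bext hc g).trans ?_
    exact congrArg (Cfsg.Agent.Lib.Blocks.residue M) (Subtype.ext (hBc g).symm)
  exact ⟨Cfsg.Agent.Lib.BrauerPairs.PIndex.nilp_of_super hM N hN he,
    Cfsg.Agent.Lib.BrauerPairs.PIndex.nilp_of_sub hM N hN he⟩

end Cfsg.Agent.S4692
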