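import Cfsg.Statements.S4693
import Cfsg.Agent.Lib.BrauerPairs.Fusion
import Cfsg.Agent.Lib.BlocksChars5.TopPair
-- import your own Cfsg.Agent.* helpers here

set_option autoImplicit false
open Cfsg

namespace Cfsg.Agent.S4693

open Cfsg.Agent.Lib.BrauerPairs.Center Cfsg.Agent.Lib.BrauerPairs.Conj Cfsg.Agent.Lib.BrauerPairs.Trunc Cfsg.Agent.Lib.BrauerPairs.Transport Cfsg.Agent.Lib.BrauerPairs.Pairs Cfsg.Agent.Lib.BrauerPairs.Maximal Cfsg.Agent.Lib.BrauerPairs.Bridge Cfsg.Agent.Lib.BrauerPairs.Local Cfsg.Agent.Lib.BrauerPairs.Fusion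
attribute [local instance] Ideal.Quotient.field

/-- Fix a prime p and a maximal ideal M of the algebraic integers containing p, a p-block B of the finite group G with maximal Brauer pair (P, e) and fusion system F on P, and a Brauer pair (Q, f) ≤ (P, e) with Q centric in F. Suppose every element of G normalizes Q and stabilizes f. Then the idempotent of B agrees with that of f modulo M at every element of G, and f is the idempotent of a nilpotent block of Q·C_G(Q): some p-block of Q·C_G(Q) has the idempotent coefficients of f and is nilpotent. -/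
theorem result {G : Type*} [Group G] [Fintype G] (p : ℕ) [Fact p.Prime] (M : Ideal Cfsg.AlgInt) (hM : Cfsg.IsPModular p M) (B : Set (Cfsg.IrrCharacter G)) (P : Subgroup G) (e : Set (Cfsg.IrrCharacter (Subgroup.centralizer (P : Set G)))) (hmax : Cfsg.IsMaximalBrauerPair p M B P e) (F : Cfsg.FusionSystem P) (hF : Cfsg.IsBlockFusionSystemOn p M B P e F) (Q : Subgroup G) (f : Set (Cfsg.IrrCharacter (Subgroup.centralizer (Q : Set G)))) (hQP : Q ≤ P) (hf : Cfsg.IsPBlock M f) (hle : Cfsg.SubpairLE p M Q f P e) (hcen : F.IsCentric Q) (hG : ∀ x : G, x ∈ Subgroup.normalizer (Q : Set G) ∧ Cfsg.StabilizesBlock (Subgroup.centralizer (Q : Set G)) f x) : (∀ g : G, Cfsg.MemLocalIdeal M (Cfsg.blockCoeff B g - Cfsg.subgroupBlockCoeff (Subgroup.centralizer (Q : Set G)) f g)) ∧ ∃ F' : Set (Cfsg.IrrCharacter ↥(Q ⊔ Subgroup.centralizer (Q : Set G))), Cfsg.IsPBlock M F' ∧ (∀ t : ↥(Q ⊔ Subgroup.centralizer (Q : Set G)), Cfsg.blockCoeff F' t = Cfsg.subgroupBlockCoeff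 (Subgroup.centralizer (Q : Set G)) f (t : G)) ∧ Cfsg.IsNilpotentBlock p M F' := by
  haveI := hM.2.1
  haveI := charP_res hM
  have hB := hmax.1.2.1
  have he := hmax.1.1.2
  obtain ⟨hψ, hb⟩ := (isMaximalBrauerPair_iff hB he).mp hmax
  classical
  have hF' := isFusion_of_isBlockFusionSystemOn he hF
  set a : Idx (Res M) G := ⟨Q, blk hf⟩
  set b : Idx (Res M) G := ⟨P, blk he⟩
  have ha : Le p a b := (subpairLE_iff hf he).mp hle
  have hQ : IsPGroup p Q := hb.1.to_le hQP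
  have hpair : PairOf p (blk hB) a := (pairOf_iff_of_le hb.1 ha _).mpr hψ
  have hst : ∀ x : G, x ∈ stab a := fun x => by
    refine mem_stab_iff.mpr ⟨(hG x).1, ?_⟩
    have h := (hG x).2
    rwa [stabilizesBlock_iff hf (hG x).1, act_eq_iff] at h
  haveI hQn : Q.Normal := Subgroup.normalizer_eq_top_iff.mp (eq_top_iff.mpr fun x _ => (hG x).1)
  refine ⟨fun g => ?_, ?_⟩
  · haveI := Fintype.ofFinite (Blk (Res M) (Subgroup.centralizer (Q : Set G)))
    have hS : Finset.univ.filter (fun c : Blk (Res M) (Subgroup.centralizer (Q : Set G)) =>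
        val Q c (bidem (blk hB)) = 1) = {blk hf} := by
      ext c
      simp only [Finset.mem_filter, Finset.mem_univ, true_and, Finset.mem_singleton]
      refine ⟨fun hc => ?_, fun hc => hc ▸ hpair.2⟩
      obtain ⟨x, hx⟩ := Cfsg.Agent.Lib.BrauerPairs.Stabilizer.exists_conj_of_normal hpair
        (⟨hQ, hc⟩ : PairOf p (blk hB) ⟨Q, c⟩)
      exact bext_injective _ (hx.symm.trans (mem_stab_iff.mp (hst x)).2)
    rw [Cfsg.Agent.Lib.BrauerPairs.Lift.blockCoeff_eq_sum_normal hB hQ, hS, Finset.sum_singleton,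
      toSet_blk, sub_self]
    exact Cfsg.Agent.Lib.Blocks.memLocalIdeal_zero
  set K := Q ⊔ Subgroup.centralizer (Q : Set G)
  have hQK : Q ≤ K := le_sup_left
  have hCK : Subgroup.centralizer (Q : Set G) ≤ K := le_sup_right
  have hKN : K ≤ Subgroup.normalizer (Q : Set G) := fun x _ => (hG x).1
  obtain ⟨F₁, hF₁, hco, hext, -⟩ := Cfsg.Agent.Lib.BrauerPairs.Stabilizer.exists_block_of_stable
    hQ hQK hCK hKN hf (isFixedBy_mono (fun x _ => hst x) (isFixedBy_stab a))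
  refine ⟨F₁, hF₁, hco, (isNilpotentBlock_iff hF₁).mpr ?_⟩
  have S : Setup p a K (blk hF₁) := ⟨hQ, hCK, hKN, Or.inl hQK, hext⟩
  obtain ⟨g, hg, hdef⟩ := S.exists_max hb ha
  have hga : cPair g a = a := mem_stab.mp (hst g)
  have hC : P ⊓ Subgroup.centralizer (Q : Set G) ≤ Q := by
    refine hcen.2 Q ((isConj_iff hb.1 hF' ha Q).mpr ⟨1, ?_, ?_⟩)
    · rw [cPair_one]; exact ha
    · exact map_conj_eq_of_mem (one_mem _)
  have hDQ : P.map (MulAut.conj g⁻¹).toMonoidHom ⊓ K ≤ Q := by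
    rintro _ ⟨⟨y, hy, rfl⟩, hyK⟩
    obtain ⟨q, hq, c, hc, hqc⟩ := Cfsg.Agent.Lib.BlocksChars5.TopPair.mem_sup_centralizer hyK
    have hyqc : g⁻¹ * y * g = q * c := by simpa using hqc
    have hcP : g * c * g⁻¹ ∈ P := by
      rw [show g * c * g⁻¹ = (g * q * g⁻¹)⁻¹ * y by
        rw [show c = q⁻¹ * (g⁻¹ * y * g) by rw [hyqc, inv_mul_cancel_left]]; group]
      exact mul_mem (inv_mem (hQP (hQn.conj_mem q hq g))) hy
    have hcC : g * c * g⁻¹ ∈ Subgroup.centralizer (Q : Set G) :=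
      (mem_centralizer_conj_iff (hG g).1 c).mp hc
    have hgc := hQn.conj_mem _ (hC ⟨hcP, hcC⟩) g⁻¹
    show g⁻¹ * y * g⁻¹⁻¹ ∈ Q
    rw [inv_inv, hyqc]
    refine mul_mem hq ?_
    simpa [mul_assoc] using hgc
  intro c hc x hx hreg
  obtain ⟨z, hz⟩ := exists_map_le_isDef hc hdef
  have hsub : ∀ s ∈ c.1, (s : G) ∈ Q := by
    intro s hs
    have h1 : ((z * s * z⁻¹ : K) : G) ∈ Q := hDQ (hz ⟨s, hs, rfl⟩)
    have h2 := hQn.conj_mem _ h1 (z : G)⁻¹
    simpa [mul_assoc] using h2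
  haveI : ((Subgroup.centralizer (Q : Set G)).subgroupOf K).Normal :=
    Subgroup.normal_subgroupOf_iff_le_normalizer hCK |>.mpr fun u _ => by
      rw [Subgroup.mem_normalizer_iff]
      exact fun h => mem_centralizer_conj_iff (hG u).1 h
  set π := QuotientGroup.mk' ((Subgroup.centralizer (Q : Set G)).subgroupOf K)
  obtain ⟨q, hq, cc, hcc, hxe⟩ := Cfsg.Agent.Lib.BlocksChars5.TopPair.mem_sup_centralizer x.2
  have hπ : π x = π ⟨q, hQK hq⟩ := by
    have hc1 : π ⟨cc, hCK hcc⟩ = 1 :=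
      (QuotientGroup.eq_one_iff (N := (Subgroup.centralizer (Q : Set G)).subgroupOf K)
        (⟨cc, hCK hcc⟩ : K)).mpr hcc
    rw [show x = ⟨q, hQK hq⟩ * ⟨cc, hCK hcc⟩ from Subtype.ext hxe, map_mul, hc1, mul_one]
  obtain ⟨j, hj⟩ := IsPGroup.iff_orderOf.mp hQ ⟨q, hq⟩
  rw [Subgroup.orderOf_mk] at hj
  have h1 : orderOf (π x) ∣ p ^ j := by
    rw [hπ, ← hj, ← Subgroup.orderOf_mk q (hQK hq)]
    exact orderOf_map_dvd _ _
  have h2 : π x = 1 := orderOf_eq_one_iff.mp (Nat.eq_one_of_dvd_coprimes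
    (((Fact.out : p.Prime).coprime_iff_not_dvd.mpr hreg).pow_left j) h1 (orderOf_map_dvd π x))
  have hxC : (x : G) ∈ Subgroup.centralizer (Q : Set G) :=
    (QuotientGroup.eq_one_iff x).mp h2
  intro s hs
  exact Subtype.ext (hxC _ (hsub s hs))

end Cfsg.Agent.S4693
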