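import Cfsg.Statements.S4694
import Cfsg.Agent.Lib.BrauerPairs.Weight
-- import your own Cfsg.Agent.* helpers here

set_option autoImplicit false
open Cfsg

namespace Cfsg.Agent.S4694

open Cfsg.Agent.Lib.BrauerPairs.Center Cfsg.Agent.Lib.BrauerPairs.Conj Cfsg.Agent.Lib.BrauerPairs.Trunc Cfsg.Agent.Lib.BrauerPairs.Transport Cfsg.Agent.Lib.BrauerPairs.Pairs Cfsg.Agent.Lib.BrauerPairs.Maximal Cfsg.Agent.Lib.BrauerPairs.Bridge Cfsg.Agent.Lib.BrauerPairs.Local Cfsg.Agent.Lib.BrauerPairs.Fusion
attribute [local instance] Ideal.Quotient.field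

/-- Fix a prime p and a maximal ideal M of the algebraic integers containing p, a p-block B of the finite group G and a Brauer pair (Q, e) of B. Let T be the stabilizer of e in N_G(Q) and suppose that (Q, e) carries a weight: the block of T whose idempotent is that of e contains an irreducible character χ that is constant on the cosets of Q and whose degree has p-part equal to the p-part of the index of Q in T. Then Z(Q) is a defect group of e as a block of C_G(Q), and Q is the largest normal p-subgroup of T: every p-subgroup of T normalized by T lies in Q. -/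
theorem result {G : Type*} [Group G] [Fintype G] (p : ℕ) [Fact p.Prime] (M : Ideal Cfsg.AlgInt) (hM : Cfsg.IsPModular p M) (B : Set (Cfsg.IrrCharacter G)) (Q : Subgroup G) (e : Set (Cfsg.IrrCharacter (Subgroup.centralizer (Q : Set G)))) (hQe : Cfsg.IsBrauerPairOf p M B Q e) (T : Subgroup G) (hT : ∀ y : G, y ∈ T ↔ y ∈ Subgroup.normalizer (Q : Set G) ∧ Cfsg.StabilizesBlock (Subgroup.centralizer (Q : Set G)) e y) (F' : Set (Cfsg.IrrCharacter T)) (hF' : Cfsg.IsPBlock M F') (hF'e : ∀ t : T, Cfsg.blockCoeff F' t = Cfsg.subgroupBlockCoeff (Subgroup.centralizer (Q : Set G)) e (t : G)) (χ : Cfsg.IrrCharacter T) (hχ : χ ∈ F') (hχQ : ∀ q : G, q ∈ Q → ∀ t : T, ∀ t' : T, (t' : G) = q * (t : G) → (χ : T → ℂ) t' = (χ : T → ℂ) t) (hdeg : (Cfsg.charDegree (χ : T → ℂ)).factorization p + (Nat.card Q).factorization p = (Nat.card T).factorization p) : Cfsg.IsDefectGroup p M e ((Q ⊓ Subgroup.centralizer (Q : Set G)).subgroupOf (Subgroup.centralizer (Q : Set G))) ∧ ∀ R : Subgroup G, R ≤ T → IsPGroup p R → (∀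 t ∈ T, t ∈ Subgroup.normalizer (R : Set G)) → R ≤ Q := by
  classical
  haveI := hM.2.1
  haveI := charP_res hM
  have he := hQe.1.2
  have hQ : IsPGroup p Q := hQe.1.1
  set a : Idx (Res M) G := ⟨Q, blk he⟩
  obtain rfl : T = stab a := Cfsg.Agent.Lib.BrauerPairs.Fusion.eq_stab he hT
  have hQT : Q ≤ stab a := le_stab_self (a := a) hQ
  have hCT : Subgroup.centralizer (Q : Set G) ≤ stab a := centralizer_le_stab a
  have hker : Q.subgroupOf (stab a) ≤ Cfsg.Agent.Lib.BlocksChars5.Basic.charKer χ := by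
    intro q hq
    rw [Cfsg.Agent.Lib.BlocksChars5.Basic.mem_charKer]
    exact hχQ q hq 1 q (by simp)
  obtain ⟨θ, hθe, hθk, hθd⟩ := Cfsg.Agent.Lib.BrauerPairs.Weight.exists_central_char hQT hCT
    (stab_le_normalizer a) e F' hF'e χ hχ hker hdeg
  refine ⟨?_, fun R hRT hR hRn => Cfsg.Agent.Lib.BrauerPairs.Weight.le_of_normal hQT
    (stab_le_normalizer a) hQ χ hker hdeg hRT hR fun t ht => hRn t ht⟩
  haveI hZn : (Q.subgroupOf (Subgroup.centralizer (Q : Set G))).Normal :=
    Subgroup.Normal.mk fun z hz g => by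
      rw [show g * z * g⁻¹ = z from Subtype.ext (by
        show (g : G) * z * (g : G)⁻¹ = z
        rw [← show (z : G) * g = g * z from g.2 _ hz, mul_inv_cancel_right])]
      exact hz
  have hZp : IsPGroup p (Q.subgroupOf (Subgroup.centralizer (Q : Set G))) :=
    hQ.comap_of_injective _ (Subgroup.subtype_injective _)
  have hle : (Cfsg.charDegree (θ : Subgroup.centralizer (Q : Set G) → ℂ)).factorization p +
      (Nat.card (Q.subgroupOf (Subgroup.centralizer (Q : Set G)))).factorization p ≤
        (Nat.card (Subgroup.centralizer (Q : Set G))).factorization p := by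
    obtain ⟨θ', hθ'⟩ := Cfsg.Agent.Lib.BlocksChars5.Basic.exists_deflate θ _ hθk
    have hdvd := Cfsg.Agent.Lib.BlocksChars5.Basic.degree_dvd_card θ'
    rw [← Cfsg.Agent.Lib.BlocksChars5.Basic.charDegree_congr
      (f := (θ : Subgroup.centralizer (Q : Set G) → ℂ)) (by
        rw [← hθ', Cfsg.Agent.Lib.BlocksChars5.Basic.inflate_apply, QuotientGroup.mk_one]),
      ← Subgroup.index_eq_card] at hdvd
    have h1 := (Nat.factorization_le_iff_dvd
      (Cfsg.Agent.Lib.BlocksChars5.Basic.degree_pos θ).ne' Subgroup.index_ne_zero_of_finite).mpr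
      hdvd p
    rw [Cfsg.Agent.Lib.BlocksChars5.CentralDefect.factorization_card (p := p)
      (Q.subgroupOf (Subgroup.centralizer (Q : Set G)))]
    omega
  obtain ⟨y, hy, hsmall⟩ := Cfsg.Agent.Lib.BlocksChars5.CentralDefect.exists_class hM
    (Q.subgroupOf (Subgroup.centralizer (Q : Set G))) hZp
    (fun z hz h => Subtype.ext (h.2 _ hz)) θ hθk (le_antisymm hle hθd)
  rw [blkOf_of_mem he hθe] at hy
  obtain ⟨D, hD, hDle⟩ := (setup_centralizer (a := a) hQ).exists_isDef_ge (b := a) hQ
    Relation.ReflTransGen.refl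
  obtain ⟨ν, hν⟩ := exists_pairOf_isDef hD
  obtain ⟨c, hc⟩ := exists_conj_mem hν hy
  have hDy : D.map (MulAut.conj c⁻¹).toMonoidHom ≤
      Subgroup.centralizer ({y} : Set (Subgroup.centralizer (Q : Set G))) := by
    apply mem_centralizer_singleton_of
    have := (mem_centralizer_map_iff c⁻¹ D (c * y * c⁻¹)).mp hc
    simpa [mul_assoc] using this
  have hcard := hsmall _ (hD.isPGroup.map _) hDy
  rw [card_map_conj] at hcard
  rw [isDefectGroup_iff he]
  have heq : (Q ⊓ Subgroup.centralizer (Q : Set G)).subgroupOf (Subgroup.centralizer (Q : Set G)) = D :=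
    Subgroup.eq_of_le_of_card_ge hDle (by rwa [Subgroup.inf_subgroupOf_right])
  rw [heq]
  exact hD

end Cfsg.Agent.S4694
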