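import Cfsg.Statements.S4696
import Cfsg.Agent.Lib.CyclicBlocks.Theorem

set_option autoImplicit false
open Cfsg

namespace Cfsg.Agent.S4696

open Cfsg.Agent.Lib.BrauerPairs Cfsg.Agent.Lib.BrauerPairs.Center Cfsg.Agent.Lib.BrauerPairs.Bridge
open Cfsg.Agent.Lib.CyclicBlocks Cfsg.Agent.Lib.CyclicBlocks.Main

attribute [local instance] Ideal.Quotient.field

/-- Let p be a prime, M a maximal ideal of the algebraic integers containing p, and B a p-block of the finite group G whose defect group D is cyclic of order p^a with a ≥ 1. Let C = C_G(D), let b be a block of C inducing B, let T be the stabilizer of b in N_G(D) (the elements g of N_G(D) such that the g-conjugate of every member of b is again in b), and let e be the index of C in T (the inertial index of B). Then e divides p − 1, every irreducible character in B has height zero, and B is the disjoint union of a set X of e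 characters and a set Y of (p^a − 1)/e characters, the members of Y agreeing on p-regular elements, for which there are signs δ_χ = ±1 (χ ∈ X) and δ₀ = ±1 such that: for every ψ ∈ Y and every p-regular g, δ₀ ψ(g) + Σ_{χ ∈ X} δ_χ χ(g) = 0; for all χ, χ' ∈ X the integers δ_χ χ(1) and δ_χ' χ'(1) are congruent modulo p^a; and for ψ ∈ Y and χ ∈ X, ψ(1) ≡ −e δ₀ δ_χ χ(1) modulo p^a. -/
theorem result {G : Type*} [Group G] [Finite G] (p : ℕ) [Fact p.Prime] (M : Ideal Cfsg.AlgInt) (hM : Cfsg.IsPModular p M) (D : Subgroup G) (hD : IsCyclic D) (a : ℕ) (ha : 1 ≤ a) (hDa : Nat.card D = p ^ a) (B : Set (Cfsg.IrrCharacter G)) (hB : Cfsg.IsPBlock M B) (hBD : Cfsg.IsDefectGroup p M B D) (b : Set (Cfsg.IrrCharacter (Subgroup.centralizer (D : Set G)))) (hind : Cfsg.IsInducedBlock M (Subgroup.centralizer (D : Set G)) b B) (T : Subgroup G) (hT : ∀ g : G, g ∈ T ↔ (g ∈ Subgroup.normalizer (D : Set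 G) ∧ ∀ θ ∈ b, ∀ θ' : Cfsg.IrrCharacter (Subgroup.centralizer (D : Set G)), (∀ h h' : Subgroup.centralizer (D : Set G), (h' : G) = g * h * g⁻¹ → (θ' : Subgroup.centralizer (D : Set G) → ℂ) h' = (θ : Subgroup.centralizer (D : Set G) → ℂ) h) → θ' ∈ b)) (e : ℕ) (he : (Subgroup.centralizer (D : Set G)).relIndex T = e) : e ∣ p - 1 ∧ (∀ χ ∈ B, Cfsg.blockHeight p B (χ : G → ℂ) = 0) ∧ ∃ X Y : Set (Cfsg.IrrCharacter G), B = X ∪ Y ∧ Disjoint X Y ∧ Nat.card X = e ∧ Nat.card Y = (p ^ a - 1) / e ∧ (∀ ψ ∈ Y, ∀ ψ' ∈ Y, ∀ g : G, ¬ p ∣ orderOf g → (ψ : G → ℂ) g = (ψ' : G → ℂ) g) ∧ ∃ (δ : Cfsg.IrrCharacter G → ℤ) (δ₀ : ℤ), (∀ χ ∈ X, δ χ = 1 ∨ δ χ = -1) ∧ (δ₀ = 1 ∨ δ₀ = -1) ∧ (∀ ψ ∈ Y, ∀ g : G, ¬ p ∣ orderOf g → (δ₀ : ℂ) * (ψ : G → ℂ) g + ∑ᶠ χ ∈ X, (δ χ : ℂ) * (χ : G → ℂ) g = 0) ∧ (∀ χ ∈ X, ∀ χ' ∈ X, δ χ * (Cfsg.charDegree (χ : G → ℂ) : ℤ) ≡ δ χ' * (Cfsg.charDegree (χ' : G → ℂ) : ℤ) [ZMOD (p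 : ℤ) ^ a]) ∧ (∀ ψ ∈ Y, ∀ χ ∈ X, (Cfsg.charDegree (ψ : G → ℂ) : ℤ) ≡ -((e : ℤ) * δ₀ * δ χ * (Cfsg.charDegree (χ : G → ℂ) : ℤ)) [ZMOD (p : ℤ) ^ a]) := by
  haveI : M.IsMaximal := hM.2.1
  haveI : CharP (Res M) p := charP_res hM
  classical
  have hp1 := (Fact.out : p.Prime).one_lt
  have hD1 : D ≠ ⊥ := fun h => by
    rw [h, Subgroup.card_bot] at hDa
    exact (Nat.one_lt_pow (by omega) hp1).ne hDa
  obtain ⟨hdvd, X, Y, δ, δ₀, h⟩ := Theorem.exists_struct hM hB hBD hD1 hD hind (T := T) (fun g => by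
    rw [hT]
    exact and_congr_right fun hg => (Theorem.stabilizes_iff_forall hg).symm) he
  rw [hDa] at h
  have hn : 1 < p ^ a := Nat.one_lt_pow (by omega) hp1
  have hX := Theorem.X_nonempty h hn
  have hY := Theorem.Y_nonempty h hn
  obtain ⟨χ₀, hχ₀⟩ := hX
  obtain ⟨η₀, hη₀⟩ := hY
  set v := (Nat.card G).factorization p with hv
  have hbd : Cfsg.blockDefect p B = a := by
    refine Nat.pow_right_injective (Fact.out : p.Prime).two_le ?_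
    show p ^ _ = p ^ a
    rw [← Theorem.card_eq_defect hM hB hBD hind, hDa]
  have hav : a ≤ v := by
    rw [← hbd, Cfsg.blockDefect]
    exact Nat.sub_le _ _
  set m := sInf ((fun φ : Cfsg.IrrCharacter G =>
    (Cfsg.charDegree (φ : G → ℂ)).factorization p) '' B) with hm
  have hmv : m < v := by
    have : v - m = a := hbd
    omega
  set d : Cfsg.IrrCharacter G → ℤ := fun φ => (Cfsg.charDegree (φ : G → ℂ) : ℤ) with hd
  have hpZ : Prime (p : ℤ) := Nat.prime_iff_prime_int.mp Fact.out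
  have hsign : ∀ {s : ℤ}, s = 1 ∨ s = -1 → ∀ (x : ℤ) (j : ℕ),
      ((p : ℤ) ^ j ∣ s * x ↔ (p : ℤ) ^ j ∣ x) := by
    rintro s (rfl | rfl) x j <;> simp
  have ht : ¬ (p : ℤ) ∣ (Y.card : ℤ) := by
    rw [Int.natCast_dvd_natCast]
    intro hd'
    have h2 : p ∣ e * Y.card := hd'.mul_left e
    have h3 : p ∣ e * Y.card + 1 := by rw [h.cardY]; exact dvd_pow_self p (by omega)
    exact (Fact.out : p.Prime).one_lt.ne' (Nat.dvd_one.mp ((Nat.dvd_add_right h2).mp h3))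
  -- the degree congruences
  have hXY : ∀ χ ∈ X, ∀ η ∈ Y, ∀ j ≤ v, ((p : ℤ) ^ j ∣ d χ ↔ (p : ℤ) ^ j ∣ d η) := by
    intro χ hχ η hη j hj
    have h1 := (pow_dvd_pow (p : ℤ) hj).trans (Theorem.degree_congrY h hχ hη).dvd
    rw [← hsign (h.sign χ hχ) (d χ), ← (dvd_iff_dvd_of_dvd_sub h1), mul_assoc, hsign h.sign₀]
    exact ⟨fun hh => hpZ.pow_dvd_of_dvd_mul_left j ht hh, fun hh => hh.mul_left _⟩
  have hall : ∀ φ ∈ B, ∀ φ' ∈ B, ∀ j ≤ v, (p : ℤ) ^ j ∣ d φ → (p : ℤ) ^ j ∣ d φ' := by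
    have key : ∀ φ ∈ B, ∀ j ≤ v, ((p : ℤ) ^ j ∣ d φ ↔ (p : ℤ) ^ j ∣ d η₀) := by
      intro φ hφ j hj
      rcases (h.mem_iff φ).mp hφ with h1 | h1
      · exact hXY φ h1 η₀ hη₀ j hj
      · exact ((hXY χ₀ hχ₀ φ h1 j hj).symm.trans (hXY χ₀ hχ₀ η₀ hη₀ j hj))
    exact fun φ hφ φ' hφ' j hj hh => (key φ' hφ' j hj).mpr ((key φ hφ j hj).mp hh)
  have hfac : ∀ (φ : Cfsg.IrrCharacter G) (j : ℕ),
      (p : ℤ) ^ j ∣ d φ ↔ j ≤ (Cfsg.charDegree (φ : G → ℂ)).factorization p := by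
    intro φ j
    rw [← Nat.cast_pow, Int.natCast_dvd_natCast]
    exact (Fact.out : p.Prime).pow_dvd_iff_le_factorization
      (Cfsg.Agent.Lib.BlocksChars5.Basic.degree_pos φ).ne'
  obtain ⟨φm, hφm, hφmv⟩ := Nat.sInf_mem (s := (fun φ : Cfsg.IrrCharacter G =>
    (Cfsg.charDegree (φ : G → ℂ)).factorization p) '' B)
    ⟨_, η₀, (h.mem_iff η₀).mpr (Or.inr hη₀), rfl⟩
  replace hφmv : (Cfsg.charDegree (φm : G → ℂ)).factorization p = m := hφmv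
  have hap : ((p : ℤ) ^ a) ∣ (p : ℤ) ^ v := pow_dvd_pow _ hav
  refine ⟨hdvd, fun χ hχ => ?_, (X : Set (Cfsg.IrrCharacter G)), (Y : Set (Cfsg.IrrCharacter G)),
    Set.ext h.mem_iff, Finset.disjoint_coe.mpr h.disjoint, ?_, ?_, h.exc_eq, δ, δ₀, h.sign,
    h.sign₀, fun ψ hψ g hg => ?_, fun χ hχ χ' hχ' =>
      (Theorem.degree_congrX h hχ hχ').of_dvd hap, fun ψ hψ χ hχ => ?_⟩
  · show (Cfsg.charDegree (χ : G → ℂ)).factorization p - m = 0
    by_contra hne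
    have h1 : (p : ℤ) ^ (m + 1) ∣ d χ := (hfac χ _).mpr (by omega)
    have h2 := (hfac φm _).mp (hall χ hχ φm hφm _ (by omega) h1)
    omega
  · rw [Nat.card_coe_set_eq, Set.ncard_coe_finset, h.cardX]
  · rw [Nat.card_coe_set_eq, Set.ncard_coe_finset, ← h.cardY, Nat.add_sub_cancel,
      Nat.mul_div_cancel_left]
    exact h.cardX ▸ Finset.card_pos.mpr ⟨χ₀, hχ₀⟩
  · rw [finsum_mem_coe_finset]
    exact h.relation ψ hψ g hg
  · have h1 : δ χ * d χ ≡ δ₀ * Y.card * d ψ [ZMOD (p : ℤ) ^ a] :=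
      (Theorem.degree_congrY h hχ hψ).of_dvd hap
    have h2 := (h1.mul_left ((e : ℤ) * δ₀)).neg
    have hδ : δ₀ * δ₀ = 1 := by rcases h.sign₀ with h0 | h0 <;> rw [h0] <;> rfl
    have hc : (e : ℤ) * (Y.card : ℤ) + 1 = (p : ℤ) ^ a := by exact_mod_cast h.cardY
    have h3 : -((e : ℤ) * δ₀ * (δ₀ * Y.card * d ψ)) ≡ d ψ [ZMOD (p : ℤ) ^ a] :=
      Int.modEq_iff_dvd.mpr ⟨d ψ, by linear_combination (d ψ) * hc + (e * Y.card * d ψ : ℤ) * hδ⟩
    exact (by simpa only [mul_assoc] using (h2.trans h3).symm)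

end Cfsg.Agent.S4696
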