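import Cfsg.Statements.S4699
import Cfsg.Agent.Lib.FirstPower.ModularTrace
import Mathlib.GroupTheory.SpecificGroups.Cyclic
import Mathlib.FieldTheory.Finite.Basic

set_option autoImplicit false
open Cfsg

namespace Cfsg.Agent.S4699

open Cfsg.Agent.Lib.FirstPower

/-- A sum over a set on which a cyclic group of order `M` acts freely is a norm. -/
theorem exists_norm_form {ι R : Type*} [Ring R] (σ : Equiv.Perm ι) {M : ℕ} (hM : 0 < M)
    (hσ : ∀ c, (σ ^ M) c = c) (Φ : ι → R) (X Y : R) (hΦ : ∀ c, Φ (σ c) = X * Φ c * Y)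
    (S : Finset ι) (hS : ∀ c ∈ S, σ c ∈ S)
    (hfree : ∀ c ∈ S, ∀ i, 0 < i → i < M → (σ ^ i) c ≠ c) :
    M ∣ S.card ∧ ∃ a : R, ∑ c ∈ S, Φ c = ∑ i ∈ Finset.range M, X ^ i * a * Y ^ i := by
  classical
  induction S using Finset.strongInduction with
  | _ S ih =>
    rcases S.eq_empty_or_nonempty with rfl | ⟨c, hc⟩
    · exact ⟨dvd_zero M, 0, by simp⟩
    have hpow : ∀ i : ℕ, (σ ^ i) c ∈ S := by
      intro i
      induction i with
      | zero => simpa using hc
      | succ i ih2 => rw [pow_succ', Equiv.Perm.mul_apply]; exact hS _ ih2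
    have hΦpow : ∀ i : ℕ, Φ ((σ ^ i) c) = X ^ i * Φ c * Y ^ i := by
      intro i
      induction i with
      | zero => simp
      | succ i ih2 =>
        rw [pow_succ' σ, Equiv.Perm.mul_apply, hΦ, ih2, pow_succ' X, pow_succ Y]
        simp only [mul_assoc]
    have key : ∀ i j, i < j → j < M → (σ ^ i) c ≠ (σ ^ j) c := by
      intro i j hij hj h
      refine hfree _ (hpow i) (j - i) (by omega) (by omega) ?_
      rw [← Equiv.Perm.mul_apply, ← pow_add, Nat.sub_add_cancel hij.le, ← h]
    have hinj : Set.InjOn (fun i : ℕ => (σ ^ i) c) (Finset.range M : Set ℕ) := by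
      intro i hi j hj h
      rw [Finset.coe_range, Set.mem_Iio] at hi hj
      rcases Nat.lt_trichotomy i j with h' | h' | h'
      · exact absurd h (key i j h' hj)
      · exact h'
      · exact absurd h.symm (key j i h' hi)
    set O := (Finset.range M).image (fun i : ℕ => (σ ^ i) c) with hO
    have hcard : O.card = M := by rw [hO, Finset.card_image_of_injOn hinj, Finset.card_range]
    have hOS : O ⊆ S := by
      intro c' hc'
      obtain ⟨i, -, rfl⟩ := Finset.mem_image.mp hc'
      exact hpow i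
    have hcO : c ∈ O := Finset.mem_image.mpr ⟨0, Finset.mem_range.mpr hM, rfl⟩
    have h4 : ∀ t, ((σ ^ M) ^ t) c = c := by
      intro t
      induction t with
      | zero => rfl
      | succ t ih3 => rw [pow_succ, Equiv.Perm.mul_apply, hσ, ih3]
    have hOinv : ∀ c', σ c' ∈ O → c' ∈ O := by
      intro c' h
      obtain ⟨i, hi, hi'⟩ := Finset.mem_image.mp h
      have h5 : c' = (σ ^ ((i + (M - 1)) % M)) c := by
        apply σ.injective
        have hp1 : i + (M - 1) + 1 = i + M := by omega
        have h6 : ∀ m, (σ ^ (m % M)) c = (σ ^ m) c := by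
          intro m
          conv_rhs => rw [← Nat.mod_add_div m M, pow_add, pow_mul, Equiv.Perm.mul_apply, h4]
        rw [← hi', h6, ← Equiv.Perm.mul_apply, ← pow_succ', hp1, pow_add, Equiv.Perm.mul_apply,
          hσ]
      rw [h5]
      exact Finset.mem_image.mpr ⟨_, Finset.mem_range.mpr (Nat.mod_lt _ hM), rfl⟩
    obtain ⟨hdvd, a, ha⟩ := ih (S \ O) (Finset.sdiff_ssubset hOS ⟨c, hcO⟩)
      (fun c' hc' => by
        rw [Finset.mem_sdiff] at hc' ⊢
        exact ⟨hS c' hc'.1, fun h => hc'.2 (hOinv c' h)⟩)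
      (fun c' hc' => hfree c' (Finset.mem_sdiff.mp hc').1)
    refine ⟨?_, a + Φ c, ?_⟩
    · rw [← Finset.card_sdiff_add_card_eq_card hOS, hcard]
      exact Nat.dvd_add hdvd dvd_rfl
    · rw [← Finset.sum_sdiff hOS, ha, hO, Finset.sum_image hinj, ← Finset.sum_add_distrib]
      refine Finset.sum_congr rfl fun i _ => ?_
      rw [hΦpow, mul_add, add_mul]

variable {k V : Type*} [Field k] [AddCommGroup V] [Module k V]

theorem pow_apply_eq_zero {d : Module.End k V} {a b : ℕ} (h : a ≤ b) {v : V}
    (hv : (d ^ a) v = 0) : (d ^ b) v = 0 := by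
  obtain ⟨c, rfl⟩ := Nat.exists_eq_add_of_le h
  rw [add_comm, pow_add, Module.End.mul_apply, hv, map_zero]

/-- A norm over `⟨X⟩` kills the vectors killed by a small power of `X - 1`. -/
theorem norm_apply_eq_zero {p n : ℕ} [Fact p.Prime] [CharP k p] (X Y a : Module.End k V)
    (hXY : X * Y = 1) (hYX : Y * X = 1) {δ : ℕ} (hδ : (X - 1) ^ δ = 0) (hle : δ + p ≤ p ^ n)
    {v : V} (hv : ((X - 1) ^ p) v = 0) :
    (∑ i ∈ Finset.range (p ^ n), X ^ i * a * Y ^ i) v = 0 := by
  set d := X - 1 with hd
  set M := p ^ n with hM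
  have hM0 : 0 < M := pow_pos (Fact.out : p.Prime).pos n
  set L : Module.End k (Module.End k V) := LinearMap.mulLeft k d
  set R : Module.End k (Module.End k V) := LinearMap.mulRight k d
  set J : Module.End k (Module.End k V) := LinearMap.mulRight k Y
  set C : Module.End k (Module.End k V) := LinearMap.mulLeft k X * J
  have hC : ∀ i : ℕ, (C ^ i) a = X ^ i * a * Y ^ i := by
    intro i
    induction i with
    | zero => simp
    | succ i ih =>
      rw [pow_succ', Module.End.mul_apply, ih, pow_succ' X, pow_succ Y]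
      show X * (X ^ i * a * Y ^ i * Y) = _
      simp only [mul_assoc]
  have hsplit : C - 1 = J * (L - R) := by
    refine LinearMap.ext fun f => ?_
    show X * (f * Y) - f = (d * f - f * d) * Y
    rw [hd]
    simp only [sub_mul, mul_sub, one_mul, mul_one, mul_assoc, hXY]
    abel
  have hdY : Commute d Y := (show Commute X Y from hXY.trans hYX.symm).sub_left (Commute.one_left _)
  have hJ : Commute J (L - R) := by
    refine LinearMap.ext fun f => ?_
    show (d * f - f * d) * Y = d * (f * Y) - f * Y * d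
    rw [sub_mul, mul_assoc, mul_assoc f d, hdY.eq, ← mul_assoc f]
  have hsum : ∑ i ∈ Finset.range M, C ^ i = (C - 1) ^ (M - 1) := by
    have h : ∑ i ∈ Finset.range M, (Polynomial.X : Polynomial k) ^ i =
        (Polynomial.X - 1) ^ (M - 1) := by
      have hne : (Polynomial.X : Polynomial k) - 1 ≠ 0 := by
        simpa using Polynomial.X_sub_C_ne_zero (1 : k)
      refine mul_right_cancel₀ hne ?_
      rw [geom_sum_mul, ← pow_succ, Nat.sub_add_cancel hM0, hM, sub_pow_char_pow, one_pow]
    have := congrArg (Polynomial.aeval C) h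
    simpa [map_sum] using this
  have hgoal : (∑ i ∈ Finset.range M, X ^ i * a * Y ^ i) =
      ((L - R) ^ (M - 1)) a * Y ^ (M - 1) := by
    have h := LinearMap.congr_fun hsum a
    rw [LinearMap.sum_apply] at h
    simp only [hC] at h
    rw [h, hsplit, hJ.mul_pow, Module.End.mul_apply, LinearMap.pow_mulRight,
      LinearMap.mulRight_apply]
  rw [hgoal, Module.End.mul_apply]
  have hw : (d ^ p) ((Y ^ (M - 1)) v) = 0 := by
    rw [← Module.End.mul_apply, ((hdY.pow_pow p (M - 1))).eq, Module.End.mul_apply, hv, map_zero]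
  set w := (Y ^ (M - 1)) v
  have hLR : Commute L (-R) := (LinearMap.commute_mulLeft_right d d).neg_right
  rw [show L - R = L + -R from sub_eq_add_neg L R, hLR.add_pow, LinearMap.sum_apply,
    LinearMap.sum_apply]
  refine Finset.sum_eq_zero fun i hi => ?_
  rw [Finset.mem_range] at hi
  rw [Module.End.mul_apply, Module.End.mul_apply, Module.End.natCast_apply]
  have hR : ∀ (j : ℕ) (f : Module.End k V), ((-R) ^ j) f = ((-1 : k) ^ j) • (f * d ^ j) := by
    intro j f
    induction j generalizing f with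
    | zero => simp
    | succ j ih =>
      rw [pow_succ, Module.End.mul_apply, ih, pow_succ' d, ← mul_assoc]
      show _ • (-(f * d) * d ^ j) = _
      rw [pow_succ, mul_smul, neg_mul, smul_neg, neg_smul, one_smul, smul_neg]
  rw [hR, map_smul, LinearMap.pow_mulLeft, LinearMap.mulLeft_apply]
  rw [LinearMap.smul_apply, Module.End.mul_apply, Module.End.mul_apply]
  by_cases hj : p ≤ M - 1 - i
  · rw [pow_apply_eq_zero hj hw, map_zero, map_zero, smul_zero]
  · have hi' : δ ≤ i := by omega
    rw [show (d ^ i) = 0 from pow_eq_zero_of_le hi' hδ, LinearMap.zero_apply, smul_zero]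

/-- Powers of `X ^ u - 1` on vectors killed by one more power of `X - 1`. -/
theorem pow_sub_one_apply (X : Module.End k V) (u : ℕ) :
    ∀ (j : ℕ) (v : V), ((X - 1) ^ (j + 1)) v = 0 →
      ((X ^ u - 1) ^ j) v = ((u : k) ^ j) • ((X - 1) ^ j) v := by
  intro j v hv
  have hc : Commute (∑ t ∈ Finset.range u, X ^ t) (X - 1) :=
    Commute.sum_left _ _ _ fun t _ => ((Commute.refl X).pow_left t).sub_right (Commute.one_right _)
  rw [← geom_sum_mul, hc.mul_pow, Module.End.mul_apply]
  set w := ((X - 1) ^ j) v with hw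
  have hw1 : X w = w := by
    have : (X - 1) w = 0 := by rw [hw, ← Module.End.mul_apply, ← pow_succ']; exact hv
    rwa [LinearMap.sub_apply, Module.End.one_apply, sub_eq_zero] at this
  have hA : (∑ t ∈ Finset.range u, X ^ t) w = (u : k) • w := by
    rw [LinearMap.sum_apply]
    have : ∀ t : ℕ, (X ^ t) w = w := by
      intro t
      induction t with
      | zero => simp
      | succ t ih => rw [pow_succ, Module.End.mul_apply, hw1, ih]
    simp only [this, Finset.sum_const, Finset.card_range, Nat.cast_smul_eq_nsmul]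
  clear hw hv hc
  clear_value w
  induction j with
  | zero => simp
  | succ j ih => rw [pow_succ, Module.End.mul_apply, hA, map_smul, ih, smul_smul, pow_succ']


/-- Let p be a prime and G a finite group whose Sylow p-subgroup P is cyclic of order p^n with n ≥ 2 and meets every other Sylow p-subgroup trivially. Then every faithful irreducible representation of G on a finite-dimensional space over a finite field of characteristic p has dimension at least p^n − (p − 1). -/
theorem result {G : Type*} [Group G] [Finite G] (p : ℕ) [Fact p.Prime] (P : Sylow p G) (hcyc : IsCyclic P) (n : ℕ) (hn : 2 ≤ n) (hPn : Nat.card P = p ^ n) (hTI : ∀ Q : Sylow p G, Q ≠ P → (P : Subgroup G) ⊓ (Q : Subgroup G) = ⊥) (F : Type*) [Field F] [Finite F] [CharP F p] (V : Type*) [AddCommGroup V] [Module F V] [FiniteDimensional F V] (ρ : Representation F G V) (hfaith : Function.Injective ρ) (hirr : ρ.IsIrreducible) : p ^ n - (p - 1) ≤ Module.finrank F V := by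
  classical
  have hp : p.Prime := Fact.out
  by_contra hlt
  push Not at hlt
  set δ := Module.finrank F V with hδdef
  have hδ : δ + p ≤ p ^ n := by have := hp.two_le; omega
  obtain ⟨x₀, hx₀⟩ := IsCyclic.exists_generator (α := (P : Subgroup G))
  set x : G := (x₀ : G) with hxdef
  have hPx : (P : Subgroup G) = Subgroup.zpowers x := by
    refine le_antisymm (fun y hy => ?_) (Subgroup.zpowers_le.mpr x₀.2)
    obtain ⟨i, hi⟩ := hx₀ ⟨y, hy⟩
    exact ⟨i, (Subgroup.coe_zpow _ _ _).symm.trans (congrArg Subtype.val hi)⟩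
  have hox : orderOf x = p ^ n := by rw [← Nat.card_zpowers, ← hPx, hPn]
  set X := ρ x with hX
  set Y := ρ x⁻¹
  set d := X - 1 with hd
  haveI : Nontrivial V := by
    by_contra h
    rw [not_nontrivial_iff_subsingleton] at h
    have h1 : ρ x = ρ 1 := LinearMap.ext fun v => Subsingleton.elim _ _
    rw [hfaith h1, orderOf_one] at hox
    exact absurd hox.symm (Nat.one_lt_pow (by omega) hp.one_lt).ne'
  haveI : CharP (Module.End F V) p :=
    charP_of_injective_algebraMap (R := F) (FaithfulSMul.algebraMap_injective F _) p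
  have hdn : d ^ δ = 0 := ModularTrace.pow_finrank_eq_zero ⟨p ^ n, by
    rw [hd, hX, sub_pow_char_pow_of_commute p n (Commute.one_right (ρ x)), one_pow, ← map_pow,
      ← hox, pow_orderOf_eq_one, map_one, sub_self]⟩
  have hdp : d ^ (p - 1) ≠ 0 := by
    intro h
    have h1 : d ^ p = 0 := pow_eq_zero_of_le (Nat.sub_le p 1) h
    rw [hd, hX, sub_pow_char_of_commute p (Commute.one_right (ρ x)), one_pow, ← map_pow,
      sub_eq_zero, ← map_one ρ] at h1
    have h2 := orderOf_dvd_of_pow_eq_one (hfaith h1)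
    rw [hox] at h2
    have h3 : p ^ n ≤ p := Nat.le_of_dvd hp.pos h2
    have h4 : p ^ 2 ≤ p ^ n := Nat.pow_le_pow_right hp.pos hn
    nlinarith [hp.two_le]
  -- a vector at level `p`
  obtain ⟨v, hv1, hv2⟩ : ∃ v, (d ^ p) v = 0 ∧ (d ^ (p - 1)) v ≠ 0 := by
    obtain ⟨w, hw⟩ : ∃ w, (d ^ (p - 1)) w ≠ 0 := by
      by_contra h
      push Not at h
      exact hdp (LinearMap.ext h)
    have hex : ∃ j, (d ^ j) w = 0 := ⟨δ, by rw [hdn]; rfl⟩
    have hjp : p ≤ Nat.find hex := by
      by_contra h
      exact hw (pow_apply_eq_zero (by omega) (Nat.find_spec hex))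
    refine ⟨(d ^ (Nat.find hex - p)) w, ?_, ?_⟩
    · rw [← Module.End.mul_apply, ← pow_add, Nat.add_sub_cancel' hjp]
      exact Nat.find_spec hex
    · rw [← Module.End.mul_apply, ← pow_add]
      exact Nat.find_min hex (by have := hp.pos; omega)
  set v₀ := (d ^ (p - 1)) v with hv₀
  have hdv₀ : d v₀ = 0 := by
    rw [hv₀, ← Module.End.mul_apply, ← pow_succ', Nat.sub_add_cancel hp.one_le]; exact hv1
  -- the transfer
  haveI := Fintype.ofFinite (G ⧸ (P : Subgroup G))
  set H := (P : Subgroup G) with hH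
  have hπ : ∀ g ∈ H, Commute (ρ g) (d ^ (p - 1)) := by
    intro g hg
    rw [hPx] at hg
    obtain ⟨i, rfl⟩ := mem_powers_iff_mem_zpowers.mpr hg
    rw [map_pow]
    exact (((Commute.refl X).sub_right (Commute.one_right _)).pow_left i).pow_right _
  let φ : G ⧸ H → Module.End F V := fun c =>
    Quotient.liftOn' c (fun g => ρ g * d ^ (p - 1) * ρ g⁻¹) (by
      intro a b hab
      rw [QuotientGroup.leftRel_apply] at hab
      show ρ a * d ^ (p - 1) * ρ a⁻¹ = ρ b * d ^ (p - 1) * ρ b⁻¹
      rw [show ρ b = ρ a * ρ (a⁻¹ * b) by rw [← map_mul, mul_inv_cancel_left],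
        mul_assoc (ρ a) (ρ _), (hπ _ hab).eq, ← mul_assoc,
        mul_assoc (ρ a * d ^ (p - 1)) (ρ (a⁻¹ * b)), ← map_mul,
        show a⁻¹ * b * b⁻¹ = a⁻¹ by group])
  have hφ : ∀ g : G, φ (g : G ⧸ H) = ρ g * d ^ (p - 1) * ρ g⁻¹ := fun g => rfl
  have hφsmul : ∀ (g : G) (c : G ⧸ H), φ (g • c) = ρ g * φ c * ρ g⁻¹ := by
    intro g c
    induction c using QuotientGroup.induction_on with
    | _ a =>
      rw [show g • (a : G ⧸ H) = ((g * a : G) : G ⧸ H) from rfl, hφ, hφ, mul_inv_rev, map_mul,
        map_mul]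
      simp only [mul_assoc]
  have hxH : x ∈ H := by rw [hPx]; exact Subgroup.mem_zpowers x
  set T := ∑ c : G ⧸ H, φ c with hT
  have hTcomm : ∀ g, Commute (ρ g) T := by
    intro g
    have h1 : ρ g * T * ρ g⁻¹ = T := by
      rw [hT, Finset.mul_sum, Finset.sum_mul]
      exact Fintype.sum_equiv (MulAction.toPerm g) _ _ fun c => (hφsmul g c).symm
    have := congrArg (· * ρ g) h1
    simp only [mul_assoc, ← map_mul, inv_mul_cancel, map_one, mul_one] at this
    exact this
  set S := Finset.univ.filter (fun c : G ⧸ H => ¬ x • c = c) with hS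
  set Fx := Finset.univ.filter (fun c : G ⧸ H => x • c = c) with hFx
  have hσpow : ∀ (i : ℕ) (c : G ⧸ H),
      ((MulAction.toPerm x : Equiv.Perm (G ⧸ H)) ^ i) c = (x ^ i) • c := by
    intro i c
    rw [show (MulAction.toPerm x : Equiv.Perm (G ⧸ H)) = MulAction.toPermHom G (G ⧸ H) x from rfl,
      ← map_pow]
    rfl
  have hnorm : ∀ (i : ℕ) (g : G), (x ^ i) • (g : G ⧸ H) = g → x ^ i ≠ 1 →
      ∀ y ∈ H, g * y * g⁻¹ ∈ H := by
    intro i g hg hne
    have h1 : g⁻¹ * x ^ i * g ∈ H := by
      have h := inv_mem (QuotientGroup.eq.mp (show ((x ^ i * g : G) : G ⧸ H) = g from hg))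
      rwa [mul_inv_rev, inv_inv, ← mul_assoc] at h
    by_contra hnot
    push Not at hnot
    obtain ⟨y, hy, hy'⟩ := hnot
    have hQ : (g • P : Sylow p G) ≠ P := by
      intro hQ
      apply hy'
      have hm : g * y * g⁻¹ ∈ ((g • P : Sylow p G) : Subgroup G) := by
        rw [Sylow.coe_subgroup_smul, Subgroup.mem_smul_pointwise_iff_exists]
        exact ⟨y, hy, rfl⟩
      rwa [hQ] at hm
    have hmem : x ^ i ∈ H ⊓ ((g • P : Sylow p G) : Subgroup G) := by
      refine Subgroup.mem_inf.mpr ⟨pow_mem hxH i, ?_⟩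
      rw [Sylow.coe_subgroup_smul, Subgroup.mem_smul_pointwise_iff_exists]
      exact ⟨g⁻¹ * x ^ i * g, h1, by show g * (g⁻¹ * x ^ i * g) * g⁻¹ = x ^ i; group⟩
    rw [hH, hTI _ hQ, Subgroup.mem_bot] at hmem
    exact hne hmem
  have hfree : ∀ c ∈ S, ∀ i, 0 < i → i < p ^ n →
      ((MulAction.toPerm x : Equiv.Perm (G ⧸ H)) ^ i) c ≠ c := by
    intro c hc i hi0 hiM
    rw [hσpow]
    intro hfix
    induction c using QuotientGroup.induction_on with
    | _ g =>
      have hne : x ^ i ≠ 1 := fun h => by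
        have := Nat.le_of_dvd hi0 (orderOf_dvd_of_pow_eq_one h)
        omega
      have hN := hnorm i g hfix hne
      simp only [hS, Finset.mem_filter, Finset.mem_univ, true_and] at hc
      refine hc (QuotientGroup.eq.mpr ?_)
      show (x * g)⁻¹ * g ∈ H
      have hmap : H.map (MulAut.conj g).toMonoidHom = H := by
        refine Subgroup.eq_of_le_of_card_ge ?_ (le_of_eq (Nat.card_congr
          (Subgroup.equivMapOfInjective H _ (MulAut.conj g).injective).toEquiv))
        rintro _ ⟨y, hy, rfl⟩
        exact hN y hy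
      obtain ⟨y, hy, hyx⟩ : x⁻¹ ∈ H.map (MulAut.conj g).toMonoidHom := by
        rw [hmap]; exact inv_mem hxH
      have hyx' : g * y * g⁻¹ = x⁻¹ := hyx
      rw [mul_inv_rev, ← hyx']
      simpa [mul_assoc] using hy
  obtain ⟨hdvd, a, ha⟩ := exists_norm_form (MulAction.toPerm x) (pow_pos hp.pos n)
    (fun c => by rw [hσpow, ← hox, pow_orderOf_eq_one, one_smul]) φ X Y (fun c => hφsmul x c) S
    (fun c hc => by
      simp only [hS, Finset.mem_filter, Finset.mem_univ, true_and] at hc ⊢
      exact fun h => hc (MulAction.injective x h))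
    hfree
  set m : F := (Fx.card : F) with hm
  have hm0 : m ≠ 0 := by
    rw [hm, Ne, CharP.cast_eq_zero_iff F p]
    intro hdiv
    apply P.not_dvd_index
    rw [Subgroup.index, Nat.card_eq_fintype_card, ← Finset.card_univ,
      ← Finset.card_filter_add_card_filter_not (fun c : G ⧸ H => x • c = c)]
    exact Nat.dvd_add hdiv ((dvd_pow_self p (by omega)).trans hdvd)
  have hfixed : ∀ c ∈ Fx, ∀ w, (d ^ p) w = 0 → φ c w = (d ^ (p - 1)) w := by
    intro c hc w hw
    simp only [hFx, Finset.mem_filter, Finset.mem_univ, true_and] at hc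
    induction c using QuotientGroup.induction_on with
    | _ g =>
      have hx1 : x ≠ 1 := fun h => by
        rw [h, orderOf_one] at hox
        exact absurd hox.symm (Nat.one_lt_pow (by omega) hp.one_lt).ne'
      have hN := hnorm 1 g (by rwa [pow_one]) (by rwa [pow_one]) x hxH
      rw [hPx] at hN
      obtain ⟨u, hu⟩ := mem_powers_iff_mem_zpowers.mpr hN
      have hu' : x ^ u = g * x * g⁻¹ := hu
      have hu0 : (u : F) ≠ 0 := by
        rw [Ne, CharP.cast_eq_zero_iff F p]
        rintro ⟨u', rfl⟩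
        have ho : orderOf (g * x * g⁻¹) = p ^ n := by
          rw [show g * x * g⁻¹ = MulAut.conj g x from rfl, MulEquiv.orderOf_eq, hox]
        have h1 : (x ^ (p * u')) ^ p ^ (n - 1) = 1 := by
          rw [← pow_mul, show p * u' * p ^ (n - 1) = p ^ n * u' by
            rw [show p ^ n = p ^ (n - 1) * p by rw [← pow_succ, Nat.sub_add_cancel (by omega)]]
            ring, ← hox, pow_mul, pow_orderOf_eq_one, one_pow]
        rw [hu'] at h1
        have h2 := orderOf_dvd_of_pow_eq_one h1
        rw [ho] at h2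
        have := (Nat.pow_dvd_pow_iff_le_right hp.one_lt).mp h2
        omega
      have hgg : ρ g⁻¹ * ρ g = 1 := by rw [← map_mul, inv_mul_cancel, map_one]
      have hgg' : ρ g * ρ g⁻¹ = 1 := by rw [← map_mul, mul_inv_cancel, map_one]
      have hconj : ∀ j : ℕ, ρ g * d ^ j * ρ g⁻¹ = (X ^ u - 1) ^ j := by
        intro j
        induction j with
        | zero => rw [pow_zero, mul_one, hgg', pow_zero]
        | succ j ih =>
          have h1 : X ^ u - 1 = ρ g * d * ρ g⁻¹ := by
            rw [hX, ← map_pow, hu', map_mul, map_mul, hd, mul_sub, sub_mul, mul_one, hgg']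
          rw [pow_succ (X ^ u - 1), ← ih, h1, pow_succ]
          simp only [mul_assoc]
          rw [← mul_assoc (ρ g⁻¹) (ρ g), hgg, one_mul]
      rw [hφ, hconj, pow_sub_one_apply X u (p - 1) w
        (by rw [Nat.sub_add_cancel hp.one_le]; exact hw)]
      have hF : ((u : F)) ^ (p - 1) = 1 := by
        obtain ⟨z, hz⟩ : ∃ z : ZMod p, ZMod.castHom dvd_rfl F z = (u : F) :=
          ⟨u, map_natCast _ _⟩
        have hz0 : z ≠ 0 := fun h => hu0 (by rw [← hz, h, map_zero])
        rw [← hz, ← map_pow, ZMod.pow_card_sub_one_eq_one hz0, map_one]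
      rw [hF, one_smul]
  have hTv : ∀ w, (d ^ p) w = 0 → T w = m • (d ^ (p - 1)) w := by
    intro w hw
    rw [hT, ← Finset.sum_filter_add_sum_filter_not Finset.univ (fun c : G ⧸ H => x • c = c),
      ha, LinearMap.add_apply, LinearMap.sum_apply, Finset.sum_congr rfl (fun c hc => hfixed c hc w hw),
      Finset.sum_const, hm, Nat.cast_smul_eq_nsmul,
      norm_apply_eq_zero X Y a (by rw [hX, ← map_mul, mul_inv_cancel, map_one])
        (by rw [hX, ← map_mul, inv_mul_cancel, map_one]) hdn hδ hw, add_zero]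
  let K : Subrepresentation ρ := ⟨LinearMap.ker T, fun g w hw => by
    rw [LinearMap.mem_ker] at hw ⊢
    rw [← Module.End.mul_apply, ← (hTcomm g).eq, Module.End.mul_apply, hw, map_zero]⟩
  have hTv₀ : T v₀ = 0 := by
    rw [hTv v₀ (pow_apply_eq_zero hp.one_le (by rwa [pow_one]))]
    rw [pow_apply_eq_zero (by have := hp.two_le; omega : 1 ≤ p - 1) (by rwa [pow_one]), smul_zero]
  rcases hirr.eq_bot_or_eq_top K with h | h
  · have hmem : v₀ ∈ K.toSubmodule := LinearMap.mem_ker.mpr hTv₀
    rw [h] at hmem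
    exact hv2 ((Submodule.mem_bot F).mp hmem)
  · have hT0 : ∀ w, T w = 0 := fun w => by
      have hmem : w ∈ K.toSubmodule := by rw [h]; exact Submodule.mem_top
      exact LinearMap.mem_ker.mp hmem
    have := hTv v hv1
    rw [hT0, eq_comm, smul_eq_zero] at this
    exact hv2 (this.resolve_left hm0)

end Cfsg.Agent.S4699
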