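import Cfsg.Statements.S4700
import Cfsg.Agent.Lib.FirstPower.PerfectFew.Main
import Cfsg.Agent.Lib.FirstPower.PerfectFew.SelfCentralizing
import Cfsg.Agent.Lib.SylowNumbers.Formula
import Cfsg.Agent.Lib.PrimeGraph.SL2

set_option autoImplicit false
open Cfsg

namespace Cfsg.Agent.S4700

/-- Let G be a finite perfect group and p a prime such that a Sylow p-subgroup of G has order p, and write the number of Sylow p-subgroups as 1 + np. Let H = O_p'(G). Then either p > 3 and G/H is isomorphic to PSL(2, p); or p = 2^m + 1 > 3 and G/H is isomorphic to SL(2, 2^m); or n = (hup + u^2 + u + h)/(u + 1) for some positive integers h and u. -/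
theorem result {G : Type*} [Group G] [Finite G] (hperf : commutator G = ⊤) (p : ℕ) [Fact p.Prime] (P : Sylow p G) (hP : Nat.card P = p) (n : ℕ) (hn : Nat.card (Sylow p G) = 1 + n * p) : (∃ (F : Type) (_ : Field F) (_ : Fintype F), Fintype.card F = p ∧ 3 < p ∧ Nonempty (G ⧸ Cfsg.pPrimeCore p G ≃* Matrix.ProjectiveSpecialLinearGroup (Fin 2) F)) ∨ (∃ (m : ℕ) (F : Type) (_ : Field F) (_ : Fintype F), Fintype.card F = 2 ^ m ∧ p = 2 ^ m + 1 ∧ 3 < p ∧ Nonempty (G ⧸ Cfsg.pPrimeCore p G ≃* Matrix.SpecialLinearGroup (Fin 2) F)) ∨ (∃ h u : ℕ, 0 < h ∧ 0 < u ∧ n * (u + 1) = h * u * p + u ^ 2 + u + h) := by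
  classical
  by_cases hform : ∃ h u : ℕ, 0 < h ∧ 0 < u ∧ n * (u + 1) = h * u * p + u ^ 2 + u + h
  · exact Or.inr (Or.inr hform)
  push Not at hform
  have hp : p.Prime := Fact.out
  have hF₀ := Lib.FirstPower.PerfectFew.Formula.noFactor_of_not_formula (r := n) hp.one_le
    fun k u hk hu => hform k u hk hu
  set H := Cfsg.pPrimeCore p G with hHdef
  haveI : H.Normal := inferInstance
  have hHp : ¬ p ∣ Nat.card H := Lib.Cores.not_dvd_card_pPrimeCore p
  have hperf' : commutator (G ⧸ H) = ⊤ := by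
    have h := Subgroup.map_commutator (⊤ : Subgroup G) ⊤ (QuotientGroup.mk' H)
    rw [Subgroup.map_top_of_surjective _ (QuotientGroup.mk'_surjective H), ← commutator_def,
      ← commutator_def, hperf, Subgroup.map_top_of_surjective _ (QuotientGroup.mk'_surjective H)] at h
    exact h.symm
  have hsq : ¬ p ^ 2 ∣ Nat.card (G ⧸ H) := fun h => by
    have := P.pow_dvd_card_of_pow_dvd_card (h.trans (Subgroup.card_quotient_dvd_card H))
    rw [hP] at this
    have := Nat.le_of_dvd hp.pos this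
    have := hp.two_le
    nlinarith
  have hdvd : p ∣ Nat.card (G ⧸ H) := by
    have h : p ∣ Nat.card G := hP ▸ Subgroup.card_subgroup_dvd_card _
    rw [Subgroup.card_eq_card_quotient_mul_card_subgroup H] at h
    exact (hp.dvd_mul.mp h).resolve_right hHp
  obtain ⟨x, hx⟩ := exists_prime_orderOf_dvd_card' p hdvd
  have hcore : Cfsg.pPrimeCore p (G ⧸ H) = ⊥ := Lib.Cores.pPrimeCore_quotient_pPrimeCore p
  have hF : ∀ r, Nat.card (Sylow p (G ⧸ H)) = r * p + 1 →
      Lib.FirstPower.PerfectFew.Formula.NoFactor p r := fun r hr => by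
    have hd : r * p + 1 ∣ n * p + 1 := by
      rw [← hr, show n * p + 1 = Nat.card (Sylow p G) by rw [hn, add_comm],
        Lib.SylowNumbers.Formula.card_sylow_mul H P]
      exact dvd_mul_right _ _
    refine hF₀.of_dvd ?_ hd
    have := Nat.le_of_dvd (by omega) hd
    exact Nat.le_of_mul_le_mul_right (by omega) hp.pos
  have hC := Lib.FirstPower.PerfectFew.self_centralizing_of_noFactor hperf' hcore hx hsq hF
  haveI : Nontrivial (G ⧸ H) := ⟨⟨x, 1, fun h => hp.ne_one (by rw [← hx, h, orderOf_one])⟩⟩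
  haveI : IsSimpleGroup (G ⧸ H) := ⟨fun S hS => by
    haveI := hS
    by_cases hpS : p ∣ Nat.card S
    · exact Or.inr (Lib.FirstPower.PerfectFew.eq_top_of_normal hx hC hperf' S hpS)
    · exact Or.inl (le_bot_iff.mp ((Lib.Cores.le_pPrimeCore_of_not_dvd hpS).trans hcore.le))⟩
  rcases Lib.FirstPower.PerfectFew.main_of_noFactor hperf' hx hC hF with
    h | ⟨m, F, i, j, hFc, hm, hp3, ⟨φ⟩⟩
  · exact Or.inl h
  · refine Or.inr (Or.inl ⟨m, F, i, j, hFc, hm, hp3, ?_⟩)
    obtain ⟨q, hq⟩ := CharP.exists F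
    obtain ⟨k, hqp, hk⟩ := FiniteField.card F q
    have h2 : q = 2 := by
      rw [hFc] at hk
      exact (Nat.prime_dvd_prime_iff_eq hqp Nat.prime_two).mp
        (hqp.dvd_of_dvd_pow (hk ▸ dvd_pow_self q k.ne_zero))
    subst h2
    exact ⟨φ.trans (Lib.PrimeGraph.SL2.slEquivPSL (F := F)).symm⟩

end Cfsg.Agent.S4700
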