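import Cfsg.Statements.S4701
import Cfsg.Agent.S0999
import Cfsg.Agent.Lib.Cores.Basic
import Cfsg.Agent.Lib.Linear.Order

set_option autoImplicit false
set_option linter.style.haveILetI false
open Cfsg

namespace Cfsg.Agent.S4701

open Cfsg.Agent.Lib

theorem commutator_quotient {G : Type*} [Group G] (hperf : commutator G = ⊤) (N : Subgroup G) [N.Normal] :
    commutator (G ⧸ N) = ⊤ := by
  rw [commutator_def] at hperf ⊢
  rw [← Subgroup.map_top_of_surjective _ (QuotientGroup.mk'_surjective N), ← Subgroup.map_commutator, hperf]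

/-- A perfect group has no normal Sylow subgroup of prime order. -/
theorem sylow_not_normal {G : Type*} [Group G] [Finite G] {p : ℕ} [Fact p.Prime] (hperf : commutator G = ⊤)
    (P : Sylow p G) (hP : Nat.card P = p) : ¬ (P : Subgroup G).Normal := by
  intro hn
  haveI : IsCyclic (P : Subgroup G) := isCyclic_of_prime_card hP
  have hker : commutator G ≤ (MulAut.conjNormal (H := (P : Subgroup G))).ker := by
    rw [commutator_def, Subgroup.commutator_le]
    intro a _ b _
    rw [MonoidHom.mem_ker, map_commutatorElement, commutatorElement_eq_one_iff_mul_comm]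
    let : CommGroup (MulAut (P : Subgroup G)) :=
      { (inferInstance : Group (MulAut (P : Subgroup G))) with
        mul_comm := fun x y => (IsCyclic.mulAutMulEquiv (P : Subgroup G)).injective (by
          rw [map_mul, map_mul, mul_comm]) }
    exact mul_comm _ _
  rw [hperf] at hker
  have hcen : Subgroup.normalizer ((P : Subgroup G) : Set G) ≤ Subgroup.centralizer ((P : Subgroup G) : Set G) := by
    intro g _
    refine Subgroup.mem_centralizer_iff.2 fun x hx => ?_
    have := congrArg (fun φ : MulAut (P : Subgroup G) => ((φ ⟨x, hx⟩ : (P : Subgroup G)) : G))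
      (MonoidHom.mem_ker.1 (hker (Subgroup.mem_top g)))
    simp only [MulAut.conjNormal_apply, MulAut.one_apply] at this
    exact (mul_inv_eq_iff_eq_mul.1 this).symm
  have hc := MonoidHom.ker_transferSylow_isComplement' P hcen
  have htop : (MonoidHom.transferSylow P hcen).ker = ⊤ := by
    rw [eq_top_iff, ← hperf, commutator_def, Subgroup.commutator_le]
    intro a _ b _
    rw [MonoidHom.mem_ker, map_commutatorElement, commutatorElement_eq_one_iff_mul_comm]
    exact IsCyclic.commGroup.mul_comm _ _
  have := hc.card_mul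
  rw [htop, Subgroup.card_top, hP] at this
  have h1 : 0 < Nat.card G := Nat.card_pos
  have h2 := (Fact.out : p.Prime).two_le
  nlinarith

/-- Let G be a finite perfect group and p a prime dividing the order of G with p^3 larger than the order of G. Suppose a Sylow p-subgroup of G is not normal and G has no normal subgroup of order 2. Then p > 3 and G is isomorphic to PSL(2, p), or to SL(2, 2^m) with p = 2^m + 1. -/
theorem result {G : Type*} [Group G] [Finite G] (hperf : commutator G = ⊤) (p : ℕ) [Fact p.Prime] (hdvd : p ∣ Nat.card G) (hbig : Nat.card G < p ^ 3) (P : Sylow p G) (hP : ¬ (P : Subgroup G).Normal) (h2 : ∀ N : Subgroup G, N.Normal → Nat.card N ≠ 2) : (∃ (F : Type) (_ : Field F) (_ : Fintype F), Fintype.card F = p ∧ 3 < p ∧ Nonempty (G ≃* Matrix.ProjectiveSpecialLinearGroup (Fin 2) F)) ∨ (∃ (m : ℕ) (F : Type) (_ : Field F) (_ : Fintype F), Fintype.card F = 2 ^ m ∧ p = 2 ^ m + 1 ∧ 3 < p ∧ Nonempty (G ≃* Matrix.SpecialLinearGroup (Fin 2) F)) := by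
  classical
  have hp : p.Prime := Fact.out
  -- the Sylow subgroups have order `p`
  have hPc : Nat.card P = p := by
    obtain ⟨k, hk⟩ := IsPGroup.iff_card.1 P.2
    have hk0 : k ≠ 0 := fun h => by
      have := P.dvd_card_of_dvd_card hdvd
      rw [hk, h, pow_zero] at this
      exact hp.not_dvd_one this
    have hn1 : Nat.card (Sylow p G) ≠ 1 := fun h1 => hP (by
      haveI := (Nat.card_eq_one_iff_unique.1 h1).1
      exact P.normal_of_subsingleton)
    have hmod := card_sylow_modEq_one p G
    have hpos : 0 < Nat.card (Sylow p G) := Nat.card_pos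
    have hge : p + 1 ≤ Nat.card (Sylow p G) := by
      by_contra hlt
      rw [Nat.ModEq, Nat.one_mod_eq_one.2 hp.ne_one] at hmod
      rcases Nat.lt_or_ge (Nat.card (Sylow p G)) p with h | h
      · exact hn1 (by rwa [Nat.mod_eq_of_lt h] at hmod)
      · rw [show Nat.card (Sylow p G) = p by omega, Nat.mod_self] at hmod
        exact zero_ne_one hmod
    have hle : p + 1 ≤ (P : Subgroup G).index :=
      hge.trans (Nat.le_of_dvd (Nat.pos_of_ne_zero Subgroup.index_ne_zero_of_finite) P.card_dvd_index)
    have h1 := (P : Subgroup G).card_mul_index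
    rcases k with _ | _ | k
    · exact absurd rfl hk0
    · simpa using hk
    · exfalso
      have h2' : p ^ 2 ≤ Nat.card P := by
        rw [hk]; exact Nat.pow_le_pow_right hp.pos (by omega)
      have h3 := Nat.mul_le_mul h2' hle
      rw [h1] at h3
      nlinarith
  set R := pPrimeCore p G with hR
  set π := QuotientGroup.mk' R with hπ
  have hπs : Function.Surjective π := QuotientGroup.mk'_surjective R
  have hperfQ := commutator_quotient hperf R
  let P' : Sylow p (G ⧸ R) := P.mapSurjective hπs
  have hRp : ¬ p ∣ Nat.card R := Cores.not_dvd_card_pPrimeCore p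
  have hP'c : Nat.card P' = p := by
    have h1 := Subgroup.card_map_dvd π (H := (P : Subgroup G))
    rw [hPc] at h1
    rcases (Nat.dvd_prime hp).1 h1 with h | h
    · exfalso
      have h4 : (P : Subgroup G) ≤ R := by
        have := Subgroup.card_eq_one.1 h
        rwa [Subgroup.map_eq_bot_iff, hπ, QuotientGroup.ker_mk'] at this
      exact hRp ((dvd_of_eq hPc.symm).trans (Subgroup.card_dvd_of_le h4))
    · exact h
  have hP'n := sylow_not_normal hperfQ P' hP'c
  set T := Subgroup.normalClosure ((P' : Subgroup (G ⧸ R)) : Set (G ⧸ R)) with hT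
  have hPT : (P' : Subgroup (G ⧸ R)) ≤ T := Subgroup.subset_normalClosure
  have hcore : pPrimeCore p (G ⧸ R) = ⊥ := Cores.pPrimeCore_quotient_pPrimeCore p
  haveI hTnt : Nontrivial T := by
    rw [Subgroup.nontrivial_iff_ne_bot]
    intro h
    have := Subgroup.card_eq_one.2 (le_bot_iff.1 (h ▸ hPT))
    rw [hP'c] at this
    exact hp.ne_one this
  haveI hTs : IsSimpleGroup T := by
    refine ⟨fun K hK => ?_⟩
    by_cases hd : p ∣ Nat.card K
    · right
      let S : Sylow p K := default
      have hS : (S : Subgroup K) ≠ ⊥ := S.ne_bot_of_dvd_card hd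
      let T₀ : Sylow p T := P'.subtype hPT
      obtain ⟨S₀, hS₀⟩ := (S.2.map K.subtype).exists_le_sylow
      have hT₀c : Nat.card T₀ = p := by
        show Nat.card ((P' : Subgroup (G ⧸ R)).subgroupOf T) = p
        rw [Nat.card_congr (Subgroup.subgroupOfEquivOfLe hPT).toEquiv, hP'c]
      have hS₀c : Nat.card S₀ = p := by
        exact (Nat.card_congr (Sylow.equiv S₀ T₀).toEquiv).trans hT₀c
      have hSK : (S₀ : Subgroup T) ≤ K := by
        have heq : (S : Subgroup K).map K.subtype = S₀ := by
          refine Subgroup.eq_of_le_of_card_ge hS₀ ?_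
          rw [hS₀c, Subgroup.card_map_of_injective K.subtype_injective]
          exact Nat.le_of_dvd Nat.card_pos (S.dvd_card_of_dvd_card hd)
        exact heq ▸ Subgroup.map_subtype_le _
      have hall : ∀ S' : Sylow p T, (S' : Subgroup T) ≤ K := by
        intro S'
        obtain ⟨g, rfl⟩ := MulAction.exists_smul_eq T S₀ S'
        rw [Sylow.coe_subgroup_smul]
        rintro _ ⟨s, hs, rfl⟩
        exact hK.conj_mem s (hSK hs) g
      refine eq_top_iff.2 fun t _ => ?_
      have hgen : T ≤ K.map T.subtype := by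
        refine (Subgroup.closure_le _).2 fun y hy => ?_
        obtain ⟨x, hx, hxy⟩ := Group.mem_conjugatesOfSet_iff.1 hy
        obtain ⟨c, hc⟩ := isConj_iff.1 hxy
        have hyT : y ∈ T := Subgroup.subset_closure hy
        have hyp : IsPGroup p (Subgroup.zpowers (⟨y, hyT⟩ : T)) := by
          have hyd : orderOf y ∣ p ^ 1 := by
            rw [pow_one, ← hc, ← MulAut.conj_apply, MulEquiv.orderOf_eq]
            exact (Subgroup.orderOf_mk x hx ▸ orderOf_dvd_natCard _ :).trans (dvd_of_eq hP'c)
          obtain ⟨k, -, hk⟩ := (Nat.dvd_prime_pow hp).1 hyd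
          refine IsPGroup.of_card (n := k) ?_
          rw [Nat.card_zpowers, ← Subgroup.orderOf_coe]
          exact hk
        obtain ⟨S', hS'⟩ := hyp.exists_le_sylow
        exact ⟨⟨y, hyT⟩, hall S' (hS' (Subgroup.mem_zpowers _)), rfl⟩
      obtain ⟨k, hk, hkt⟩ := hgen t.2
      exact (Subtype.ext hkt : k = t) ▸ hk
    · left
      have h1 : K ≤ pPrimeCore p T := Cores.le_pPrimeCore_of_not_dvd hd
      haveI : ((pPrimeCore p T).map T.subtype).Normal := Cores.normal_map_subtype T _
      have h3 : (pPrimeCore p T).map T.subtype ≤ pPrimeCore p (G ⧸ R) := by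
        refine Cores.le_pPrimeCore_of_not_dvd ?_
        rw [Subgroup.card_map_of_injective T.subtype_injective]
        exact Cores.not_dvd_card_pPrimeCore p
      rw [hcore, le_bot_iff, Subgroup.map_eq_bot_iff_of_injective _ T.subtype_injective] at h3
      exact le_bot_iff.1 (h3 ▸ h1)
  have hTc : ¬ IsCyclic T := by
    intro hc
    apply hP'n
    haveI := hc
    letI := IsCyclic.commGroup (α := T)
    rcases IsSimpleGroup.eq_bot_or_eq_top_of_normal ((P' : Subgroup (G ⧸ R)).subgroupOf T)
      (Subgroup.normal_of_comm _) with h | h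
    · exfalso
      have hb : (P' : Subgroup (G ⧸ R)) = ⊥ := disjoint_self.1
        ((Subgroup.subgroupOf_eq_bot.1 h).mono_right hPT)
      rw [hb, Subgroup.card_bot] at hP'c
      exact hp.ne_one hP'c.symm
    · have hle : T ≤ P' := Subgroup.subgroupOf_eq_top.1 h
      have : (P' : Subgroup (G ⧸ R)) = T := le_antisymm hPT hle
      rw [this]
      exact Subgroup.normalClosure_normal
  have hTQ : Nat.card T ≤ Nat.card (G ⧸ R) := T.card_le_card_group
  have hQG : Nat.card (G ⧸ R) ≤ Nat.card G := Nat.card_le_card_of_surjective _ hπs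
  have hpT : p ∣ Nat.card T := (dvd_of_eq hP'c.symm).trans (Subgroup.card_dvd_of_le hPT)
  have hres := Cfsg.Agent.S0999.result hTc p hp hpT (hTQ.trans_lt (hQG.trans_lt hbig))
  have hcardT : p * (p ^ 2 - 1) ≤ 2 * Nat.card T ∧ 3 < p := by
    rcases hres with ⟨F, _, _, hF, h3, ⟨e⟩⟩ | ⟨m, F, _, _, hF, hpm, h3, ⟨e⟩⟩
    · refine ⟨le_of_eq ?_, h3⟩
      rw [Nat.card_congr e.toEquiv,
        Linear.two_mul_card_PSL_two_of_odd (show Odd (Fintype.card F) by rw [hF]; exact hp.odd_of_ne_two (by omega)), hF,
        show p ^ 2 - 1 = (p - 1) * (p + 1) by rw [mul_comm, ← Nat.sq_sub_sq, one_pow], ← mul_assoc]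
    · refine ⟨?_, h3⟩
      have hm : m ≠ 0 := fun h => by rw [h] at hpm; omega
      rw [Nat.card_congr e.toEquiv,
        Linear.card_PSL_two_of_even (show Even (Fintype.card F) by rw [hF]; exact Nat.even_pow.2 ⟨even_two, hm⟩), hF, hpm]
      have h4 : 4 ≤ 2 ^ m := by
        rcases m with _ | _ | m
        · exact absurd rfl hm
        · omega
        · calc 4 = 2 ^ 2 := rfl
            _ ≤ _ := Nat.pow_le_pow_right two_pos (by omega)
      obtain ⟨t, ht⟩ : ∃ t, 2 ^ m = t + 4 := ⟨2 ^ m - 4, by omega⟩
      rw [ht, show (t + 4 + 1) ^ 2 - 1 = (t + 4) * (t + 6) by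
        rw [show (t + 4 + 1) ^ 2 = (t + 4) * (t + 6) + 1 by ring, Nat.add_sub_cancel],
        show t + 4 - 1 = t + 3 by omega]
      nlinarith [Nat.zero_le ((t + 5) * (t + 4) * t)]
  obtain ⟨hcardT, h3p⟩ := hcardT
  have hidx : T.index ≤ 2 := by
    by_contra h
    have h1 := T.card_mul_index
    have h2' : 3 * Nat.card T ≤ Nat.card (G ⧸ R) := by
      rw [← h1, mul_comm]
      exact Nat.mul_le_mul_left _ (by omega)
    have h3 : p ^ 2 - 1 + 1 = p ^ 2 := Nat.sub_add_cancel (Nat.one_le_pow _ _ hp.pos)
    nlinarith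
  haveI : T.Normal := Subgroup.normalClosure_normal
  have hTtop : T = ⊤ := by
    rcases Nat.lt_or_ge T.index 2 with h | h
    · exact Subgroup.index_eq_one.1 (by
        have := Nat.pos_of_ne_zero (T.index_ne_zero_of_finite)
        omega)
    · exfalso
      haveI : IsCyclic ((G ⧸ R) ⧸ T) := isCyclic_of_prime_card (p := 2) (show T.index = 2 by omega)
      letI := IsCyclic.commGroup (α := (G ⧸ R) ⧸ T)
      have h1 : commutator (G ⧸ R) ≤ T := by
        rw [commutator_def, Subgroup.commutator_le]
        intro a _ b _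
        refine (QuotientGroup.eq_one_iff _).1 ?_
        rw [← QuotientGroup.mk'_apply, map_commutatorElement, commutatorElement_eq_one_iff_mul_comm, mul_comm]
      rw [hperfQ, top_le_iff] at h1
      rw [h1, Subgroup.index_top] at h
      omega
  have hR1 : R = ⊥ := by
    have h1 := R.card_mul_index
    have hidxR : R.index = Nat.card T := by rw [hTtop, Subgroup.card_top]; rfl
    rw [hidxR] at h1
    refine Subgroup.card_eq_one.1 ?_
    have hR3 : Nat.card R < 3 := by
      by_contra h
      have h2' : 3 * Nat.card T ≤ Nat.card G := by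
        rw [← h1]; exact Nat.mul_le_mul_right _ (by omega)
      have h3 : p ^ 2 - 1 + 1 = p ^ 2 := Nat.sub_add_cancel (Nat.one_le_pow _ _ hp.pos)
      nlinarith
    have hne : Nat.card R ≠ 2 := h2 R inferInstance
    have hpos : 0 < Nat.card R := Nat.card_pos
    omega
  let e₀ : G ≃* T := (QuotientGroup.quotientBot.symm.trans (QuotientGroup.quotientMulEquivOfEq hR1.symm)).trans
    (Subgroup.topEquiv.symm.trans (MulEquiv.subgroupCongr hTtop.symm))
  rcases hres with ⟨F, _, _, hF, h3, ⟨e⟩⟩ | ⟨m, F, _, _, hF, hpm, h3, ⟨e⟩⟩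
  · exact Or.inl ⟨F, inferInstance, inferInstance, hF, h3, ⟨e₀.trans e⟩⟩
  · refine Or.inr ⟨m, F, inferInstance, inferInstance, hF, hpm, h3, ⟨(e₀.trans e).trans ?_⟩⟩
    have hm : m ≠ 0 := fun h => by rw [h] at hpm; omega
    have hbij : Function.Bijective (QuotientGroup.mk' (Subgroup.center (Matrix.SpecialLinearGroup (Fin 2) F))) := by
      refine ⟨?_, QuotientGroup.mk'_surjective _⟩
      rw [← MonoidHom.ker_eq_bot_iff, QuotientGroup.ker_mk', ← Subgroup.card_eq_one, Linear.card_center_SL,
        Fintype.card_fin, Nat.card_eq_fintype_card, hF]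
      rw [← Nat.coprime_iff_gcd_eq_one, Nat.coprime_two_left]
      obtain ⟨j, rfl⟩ := Nat.exists_eq_succ_of_ne_zero hm
      exact ⟨2 ^ j - 1, by have := Nat.one_le_two_pow (n := j); rw [pow_succ]; omega⟩
    exact (MulEquiv.ofBijective _ hbij).symm

end Cfsg.Agent.S4701
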