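import Cfsg.Statements.S4703
import Cfsg.Agent.Lib.FeitSmall.Entry
import Cfsg.Agent.Lib.FeitSmall.Main
import Cfsg.Agent.Lib.FeitSmall.Two

set_option autoImplicit false
open Cfsg

namespace Cfsg.Agent.S4703

open Cfsg.Agent.Lib.FeitSmall

/-- Let G be a finite group whose centre Z has odd order, p > 7 a prime, and suppose a Sylow p-subgroup of G has order p and is not normal. Let ζ be a faithful irreducible character of G (only the identity lies in its kernel). Then either G/Z is isomorphic to PSL(2, p) and ζ has degree (p + 1)/2 or (p − 1)/2, or ζ has degree at least p − 2. -/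
theorem result {G : Type*} [Group G] [Finite G] (hZ : Odd (Nat.card (Subgroup.center G))) (p : ℕ) [Fact p.Prime] (hp : 7 < p) (P : Sylow p G) (hP : Nat.card P = p) (hnn : ¬ (P : Subgroup G).Normal) (ζ : G → ℂ) (hζ : Cfsg.IsIrrCharacter G ζ) (hfaith : ∀ g : G, ζ g = ζ 1 → g = 1) : ((∃ (F : Type) (_ : Field F) (_ : Fintype F), Fintype.card F = p ∧ Nonempty (G ⧸ Subgroup.center G ≃* Matrix.ProjectiveSpecialLinearGroup (Fin 2) F)) ∧ (2 * Cfsg.charDegree ζ = p + 1 ∨ 2 * Cfsg.charDegree ζ = p - 1)) ∨ p - 2 ≤ Cfsg.charDegree ζ := by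
  classical
  by_cases hdeg : Cfsg.charDegree ζ + 1 < p
  swap
  · exact Or.inr (by omega)
  obtain ⟨x, h⟩ := Entry.exists_hyp hp P hP hnn (⟨ζ, hζ⟩ : Cfsg.IrrCharacter G) hfaith hdeg
  rcases (Spikes.two_le h).lt_or_eq with h3 | h2
  · obtain ⟨y, hy, hE, st⟩ := Eigen.exists_std h h3
    have he := Main.card_eq_two st hZ
    obtain ⟨κ₀, -, hsum, -⟩ := Spikes.exists_value hy st.three
    refine Or.inr ?_
    simp only at hsum
    omega
  · obtain ⟨hiso, hn⟩ := Two.psl_of_two h h2.symm
    refine Or.inl ⟨⟨ZMod p, inferInstance, inferInstance, ZMod.card p, hiso⟩, ?_⟩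
    simp only at hn
    omega

end Cfsg.Agent.S4703
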