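import Cfsg.Statements.S4704
import Cfsg.Agent.Lib.FeitSmall.Entry
import Cfsg.Agent.Lib.FeitSmall.Classes

set_option autoImplicit false
open Cfsg

namespace Cfsg.Agent.S4704

open Cfsg.Agent.Lib Cfsg.Agent.Lib.FirstPower Average Periods
open Cfsg.Agent.Lib.FeitSmall
open FeitSmall.Setup

/-- The classes of elements of order `p` are the cosets of the exponents fusing `x`. -/
theorem card_classes {p : ℕ} [Fact p.Prime] {G : Type*} [Group G] [Finite G] {x : G}
    {ζ : Cfsg.IrrCharacter G} (h : Hyp p x ζ) :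
    Nat.card {c : ConjClasses G // ∃ g : G, ConjClasses.mk g = c ∧ orderOf g = p} =
      Fintype.card (Cls h) := by
  classical
  have hxp : x ^ p = 1 := by rw [← h.ord, pow_orderOf_eq_one]
  rw [← Nat.card_eq_fintype_card]
  refine (Nat.card_congr (Equiv.ofBijective
    (fun κ : Cls h => (⟨Quotient.liftOn' κ
        (fun u : (ZMod p)ˣ => ConjClasses.mk (x ^ (u : ZMod p).val)) (fun u w huw =>
          ConjClasses.mk_eq_mk_iff_isConj.2 ((isConj_iff_mk hxp u w).2 (Quotient.sound' huw))),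
      Quotient.inductionOn' κ fun u => ⟨_, rfl, orderOf_pow_unit h u⟩⟩ :
      {c : ConjClasses G // ∃ g : G, ConjClasses.mk g = c ∧ orderOf g = p})) ⟨?_, ?_⟩)).symm
  · intro a b
    induction a using Quotient.inductionOn' with
    | h u =>
      induction b using Quotient.inductionOn' with
      | h w =>
        intro hab
        exact (isConj_iff_mk hxp u w).1 (ConjClasses.mk_eq_mk_iff_isConj.1 (congrArg Subtype.val hab))
  · rintro ⟨c, a, rfl, ha⟩
    obtain ⟨-, b, -, hb⟩ :=
      DegSubTwo.Reduction.exists_conj_eq h.ord h.sq (⊤ : Subgroup G) (Subgroup.mem_top x) a ha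
    obtain ⟨j, hj⟩ := (mem_zpowers_iff_val hxp).1 hb
    have hj0 : j ≠ 0 := fun h0 => by
      rw [h0, ZMod.val_zero, pow_zero, eq_comm, conj_eq_one_iff] at hj
      rw [hj, orderOf_one] at ha
      exact (Fact.out : p.Prime).one_lt.ne ha
    refine ⟨QuotientGroup.mk (Units.mk0 j hj0), Subtype.ext ?_⟩
    show ConjClasses.mk (x ^ j.val) = ConjClasses.mk a
    exact ConjClasses.mk_eq_mk_iff_isConj.2 (isConj_iff.2 ⟨b, hj.symm⟩).symm

/-- Let G be a finite group with centre Z, p > 7 a prime, and suppose a Sylow p-subgroup of G has order p and is not normal. Let ζ be a faithful irreducible character of G and t the number of conjugacy classes of G consisting of elements of order p. Then one of the following holds: G/Z is isomorphic to PSL(2, p), ζ has degree (p + 1)/2 or (p − 1)/2 and t = 2; or ζ has degree at least p − 1; or ζ has degree at least p + 3/2 − √(p + 5/4) and p ≤ t^2 − 3t + 1. -/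
theorem result {G : Type*} [Group G] [Finite G] (p : ℕ) [Fact p.Prime] (hp : 7 < p) (P : Sylow p G) (hP : Nat.card P = p) (hnn : ¬ (P : Subgroup G).Normal) (ζ : G → ℂ) (hζ : Cfsg.IsIrrCharacter G ζ) (hfaith : ∀ g : G, ζ g = ζ 1 → g = 1) (t : ℕ) (ht : Nat.card {c : ConjClasses G // ∃ g : G, ConjClasses.mk g = c ∧ orderOf g = p} = t) : ((∃ (F : Type) (_ : Field F) (_ : Fintype F), Fintype.card F = p ∧ Nonempty (G ⧸ Subgroup.center G ≃* Matrix.ProjectiveSpecialLinearGroup (Fin 2) F)) ∧ (2 * Cfsg.charDegree ζ = p + 1 ∨ 2 * Cfsg.charDegree ζ = p - 1) ∧ t = 2) ∨ p - 1 ≤ Cfsg.charDegree ζ ∨ ((p : ℝ) + 3 / 2 - Real.sqrt ((p : ℝ) + 5 / 4) ≤ (Cfsg.charDegree ζ : ℝ) ∧ (p : ℤ) ≤ (t : ℤ) ^ 2 - 3 * t + 1) := by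
  classical
  by_cases hdeg : Cfsg.charDegree ζ + 1 < p
  swap
  · exact Or.inr (Or.inl (by omega))
  obtain ⟨x, h⟩ := Entry.exists_hyp hp P hP hnn (⟨ζ, hζ⟩ : Cfsg.IrrCharacter G) hfaith hdeg
  have ht' : t = Fintype.card (Cls h) := ht.symm.trans (card_classes h)
  rcases (Spikes.two_le h).lt_or_eq with h3 | h2
  · refine Or.inr (Or.inr ?_)
    have hb := Classes.card_add_three_le h h3
    obtain ⟨κ₀, -, hsum, -⟩ := Spikes.exists_value h h3
    simp only at hsum
    have hte := Spikes.card_mul h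
    rw [← ht'] at hb hte
    set e := Fintype.card (ex h)
    have hte' : (p : ℤ) = (t : ℤ) * e + 1 := by
      have : p = t * e + 1 := by omega
      exact_mod_cast this
    have hb' : (e : ℤ) + 3 ≤ t := by exact_mod_cast hb
    refine ⟨?_, by nlinarith⟩
    have hn : (Cfsg.charDegree ζ : ℝ) = (p : ℝ) - e := by
      have : ((Cfsg.charDegree ζ + e : ℕ) : ℝ) = p := by rw [hsum]
      push_cast at this
      linarith
    have hq : ((e : ℝ) + 3 / 2) ^ 2 ≤ (p : ℝ) + 5 / 4 := by
      have h1 : (e : ℤ) ^ 2 + 3 * e + 1 ≤ p := by nlinarith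
      have h2 : (e : ℝ) ^ 2 + 3 * e + 1 ≤ p := by exact_mod_cast h1
      nlinarith
    have hs := Real.le_sqrt_of_sq_le hq
    rw [hn]
    linarith
  · obtain ⟨hiso, hn⟩ := Two.psl_of_two h h2.symm
    refine Or.inl ⟨⟨ZMod p, inferInstance, inferInstance, ZMod.card p, hiso⟩, ?_, by omega⟩
    simp only at hn
    omega

end Cfsg.Agent.S4704
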