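import Cfsg.Statements.S4708
import Cfsg.Agent.Lib.BC77.Covered
import Cfsg.Agent.Lib.DegreeBounds.Basic
-- import your own Cfsg.Agent.* helpers here

set_option autoImplicit false
open Cfsg

namespace Cfsg.Agent.S4708

open Cfsg.Agent.Lib Cfsg.Agent.Lib.Characters

/-- Let p be a prime, M a maximal ideal of the algebraic integers containing p, G a finite group and H a normal subgroup. Write λ(X) for the sum of the squares of the degrees of the irreducible characters in the principal p-block of a group X. Then λ(H) ≤ λ(G) ≤ [G : H]·λ(H). -/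
theorem result {G : Type*} [Group G] [Finite G] (p : ℕ) [Fact p.Prime] (M : Ideal Cfsg.AlgInt) (hM : Cfsg.IsPModular p M) (H : Subgroup G) [H.Normal] : (∑ᶠ θ ∈ Cfsg.principalBlock M H, Cfsg.charDegree (θ : H → ℂ) ^ 2) ≤ (∑ᶠ χ ∈ Cfsg.principalBlock M G, Cfsg.charDegree (χ : G → ℂ) ^ 2) ∧ (∑ᶠ χ ∈ Cfsg.principalBlock M G, Cfsg.charDegree (χ : G → ℂ) ^ 2) ≤ H.index * ∑ᶠ θ ∈ Cfsg.principalBlock M H, Cfsg.charDegree (θ : H → ℂ) ^ 2 := by
  classical
  haveI := hM.2.1
  haveI := Fintype.ofFinite G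
  haveI := Fintype.ofFinite H
  haveI := Fintype.ofFinite (Cfsg.IrrCharacter G)
  haveI := Fintype.ofFinite (Cfsg.IrrCharacter H)
  have hres : ∀ χ : Cfsg.IrrCharacter G, Cfsg.IsCharacter H (fun h : H => (χ : G → ℂ) h) :=
    fun χ => Basic.isCharacter_comp H.subtype (Basic.isCharacter_irr χ)
  choose m hm using fun (χ : Cfsg.IrrCharacter G) (θ : Cfsg.IrrCharacter H) =>
    Basic.exists_classInner_nat (hres χ) (Basic.isCharacter_irr θ)
  let a : Cfsg.IrrCharacter G → ℕ := fun χ => Cfsg.charDegree (χ : G → ℂ)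
  let b : Cfsg.IrrCharacter H → ℕ := fun θ => Cfsg.charDegree (θ : H → ℂ)
  have hdown : ∀ χ, a χ = ∑ θ, m χ θ * b θ := by
    intro χ
    have h := congrFun (Complete.classFunction_eq_sum (Basic.isClassFunction_of_isCharacter
      (hres χ))) 1
    simp only [Finset.sum_apply, Pi.smul_apply, smul_eq_mul, hm, OneMemClass.coe_one,
      DegreeBounds.Basic.charDegree_irr] at h
    exact_mod_cast h
  have hup : ∀ θ, ∑ χ, m χ θ * a χ = H.index * b θ := by
    intro θ
    have h := congrFun (Complete.classFunction_eq_sum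
      (Induced.Basic.isClassFunction_indFun H (θ : H → ℂ))) 1
    simp only [Finset.sum_apply, Pi.smul_apply, smul_eq_mul, Induced.Basic.indFun_one,
      Induced.Basic.frobenius_reciprocity H _ (Basic.isClassFunction_irr _),
      DegreeBounds.Basic.charDegree_irr] at h
    have hm' : ∀ χ : Cfsg.IrrCharacter G,
        Cfsg.classInner (θ : H → ℂ) (fun h : H => (χ : G → ℂ) h) = (m χ θ : ℂ) := fun χ => by
      rw [← Induced.Basic.classInner_conj_symm, hm, Complex.conj_natCast]
    simp only [hm'] at h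
    exact_mod_cast h.symm
  have hone : Cfsg.classInner (fun h : H => (Basic.oneChar G : G → ℂ) h)
      (Basic.oneChar H : H → ℂ) ≠ 0 := by
    rw [show (fun h : H => (Basic.oneChar G : G → ℂ) h) = (Basic.oneChar H : H → ℂ) from rfl,
      Basic.classInner_self_irr]
    exact one_ne_zero
  have hin : ∀ χ ∈ Cfsg.principalBlock M G, ∀ θ, m χ θ ≠ 0 → θ ∈ Cfsg.principalBlock M H := by
    intro χ hχ θ hθ
    obtain ⟨g, hg⟩ := BrauerMap.Covering.exists_conj_mem_of_constituents H (M := M)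
      (χ := Basic.oneChar G) (χ' := χ) hχ (θ := Basic.oneChar H) (ψ := θ) hone
      (show Cfsg.classInner (fun h : H => (χ : G → ℂ) h) (θ : H → ℂ) ≠ 0 by
        rw [hm]; exact Nat.cast_ne_zero.mpr hθ)
    have h1 := BrauerMap.Covering.sameBlock_conjIrr H g⁻¹ hg
    have e1 : BrauerMap.Normal.conjIrr H g⁻¹ (Basic.oneChar H) = Basic.oneChar H :=
      Subtype.ext (funext fun _ => rfl)
    have e2 : BrauerMap.Normal.conjIrr H g⁻¹ (BrauerMap.Normal.conjIrr H g θ) = θ := by
      apply Subtype.ext; funext n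
      rw [BrauerMap.Normal.conjIrr_apply, BrauerMap.Normal.conjIrr_apply]
      exact congrArg (θ : H → ℂ) (Subtype.ext (by simp [mul_assoc]))
    rw [e1, e2] at h1
    exact h1
  have hex : ∀ θ ∈ Cfsg.principalBlock M H, ∃ χ ∈ Cfsg.principalBlock M G, m χ θ ≠ 0 := by
    intro θ hθ
    obtain ⟨χ, hχ, hne⟩ := Blocks.blockOf_subset_of_memLocalRing
      (fun x => BC77.Covered.memLocalRing_blockCoeff_under H hM
        (Blocks.isPBlock_principalBlock (M := M)) x)
      (show Basic.oneChar H ∈ BC77.Covered.under H (Cfsg.principalBlock M G) from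
        ⟨_, Blocks.oneChar_mem_principalBlock, hone⟩) hθ
    exact ⟨χ, hχ, fun h0 => hne (by rw [hm, h0, Nat.cast_zero])⟩
  rw [finsum_mem_eq_toFinset_sum, finsum_mem_eq_toFinset_sum]
  set A := (Cfsg.principalBlock M G).toFinset with hA
  set B := (Cfsg.principalBlock M H).toFinset with hB
  change ∑ θ ∈ B, b θ ^ 2 ≤ ∑ χ ∈ A, a χ ^ 2 ∧ ∑ χ ∈ A, a χ ^ 2 ≤ H.index * ∑ θ ∈ B, b θ ^ 2
  have hsplit : ∀ χ ∈ A, a χ = ∑ θ ∈ B, m χ θ * b θ := fun χ hχ =>
    (hdown χ).trans (Finset.sum_subset (Finset.subset_univ B) fun θ _ hθ => by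
      rw [show m χ θ = 0 from not_not.mp fun h0 => hθ
        (Set.mem_toFinset.mpr (hin χ (Set.mem_toFinset.mp hχ) θ h0)), zero_mul]).symm
  constructor
  · calc ∑ θ ∈ B, b θ ^ 2 ≤ ∑ θ ∈ B, ∑ χ ∈ A, m χ θ * b θ * (m χ θ * b θ) :=
          Finset.sum_le_sum fun θ hθ => by
            obtain ⟨χ, hχ, hne⟩ := hex θ (Set.mem_toFinset.mp hθ)
            refine le_trans ?_ (Finset.single_le_sum (fun _ _ => Nat.zero_le _)
              (Set.mem_toFinset.mpr hχ))
            rw [pow_two]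
            exact Nat.mul_le_mul (Nat.le_mul_of_pos_left _ (Nat.pos_of_ne_zero hne))
              (Nat.le_mul_of_pos_left _ (Nat.pos_of_ne_zero hne))
      _ = ∑ χ ∈ A, ∑ θ ∈ B, m χ θ * b θ * (m χ θ * b θ) := Finset.sum_comm
      _ ≤ ∑ χ ∈ A, a χ ^ 2 := Finset.sum_le_sum fun χ hχ => by
            rw [pow_two, hsplit χ hχ, Finset.mul_sum]
            exact Finset.sum_le_sum fun θ hθ => Nat.mul_le_mul_right _
              (Finset.single_le_sum (fun θ _ => Nat.zero_le (m χ θ * b θ)) hθ)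
  · calc ∑ χ ∈ A, a χ ^ 2 = ∑ χ ∈ A, ∑ θ ∈ B, b θ * (m χ θ * a χ) :=
          Finset.sum_congr rfl fun χ hχ => by
            rw [pow_two]; nth_rw 2 [hsplit χ hχ]; rw [Finset.mul_sum]
            exact Finset.sum_congr rfl fun θ _ => by ring
      _ = ∑ θ ∈ B, b θ * ∑ χ ∈ A, m χ θ * a χ := by
            rw [Finset.sum_comm]; simp only [Finset.mul_sum]
      _ ≤ ∑ θ ∈ B, b θ * (H.index * b θ) := Finset.sum_le_sum fun θ _ =>
            Nat.mul_le_mul_left _ ((Finset.sum_le_sum_of_subset (Finset.subset_univ A)).trans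
              (hup θ).le)
      _ = H.index * ∑ θ ∈ B, b θ ^ 2 := by
            rw [Finset.mul_sum]; exact Finset.sum_congr rfl fun θ _ => by ring

end Cfsg.Agent.S4708
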