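import Cfsg.Statements.S4709
import Cfsg.Agent.Lib.FpfBlock.Principal

set_option autoImplicit false
open Cfsg

namespace Cfsg.Agent.S4709

/-- Let p be a prime, M a maximal ideal of the algebraic integers containing p, and G a finite group with a nontrivial abelian Sylow p-subgroup P; put N = N_G(P), C = C_G(P). Suppose N/C is cyclic of order m with 1 < m < #P − 1 (C has index m in N and N is generated by C and one element), and C_G(y) ∩ N = C for every non-identity y ∈ P. Put r = (#P − 1)/m. Then there is s ≤ m such that the principal p-block is the disjoint union of a set X of s characters containing the principal character and a set Y of r characters, with integers a_χ ≠ 0 (χ ∈ X), d and a sign δ = ±1, such that: every χ ∈ X takes the value a_χ at every element whose p-part is a non-identity element of P; there is a map ζ from the non-principal linear characters ψ of P onto Y, constant on N-conjugacy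 classes, with ζ_ψ(z) = d + δ·Σ ψ'(y) for every z whose p-part y is a non-identity element of P, the sum running over the N-conjugates ψ' of ψ; (d − δ)^2 + (r − 1) d^2 + Σ_{χ ∈ X} a_χ^2 = m + 1; all members of Y agree on p-regular elements; and (r d − δ) η(g) + Σ_{χ ∈ X} a_χ χ(g) = 0 for every η ∈ Y and every p-regular g. -/
theorem result {G : Type*} [Group G] [Finite G] (p : ℕ) [Fact p.Prime] (M : Ideal Cfsg.AlgInt) (hM : Cfsg.IsPModular p M) (P : Sylow p G) (hab : IsMulCommutative P) (hP1 : Nat.card P ≠ 1) (m : ℕ) (hm1 : 1 < m) (hm2 : m + 1 < Nat.card P) (hCN : (Subgroup.centralizer ((P : Subgroup G) : Set G)).relIndex (Subgroup.normalizer ((P : Subgroup G) : Set G)) = m) (hcyc : ∃ g : G, g ∈ Subgroup.normalizer ((P : Subgroup G) : Set G) ∧ Subgroup.centralizer ((P : Subgroup G) : Set G) ⊔ Subgroup.zpowers g = Subgroup.normalizer ((P : Subgroup G) : Set G)) (hfrob : ∀ y : G, y ∈ (P : Subgroup G) →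 y ≠ 1 → Subgroup.centralizer ({y} : Set G) ⊓ Subgroup.normalizer ((P : Subgroup G) : Set G) = Subgroup.centralizer ((P : Subgroup G) : Set G)) : ∃ (s : ℕ) (X Y : Set (Cfsg.IrrCharacter G)), s ≤ m ∧ Cfsg.principalBlock M G = X ∪ Y ∧ Disjoint X Y ∧ Nat.card X = s ∧ Nat.card Y = (Nat.card P - 1) / m ∧ (∃ χ₁ ∈ X, (χ₁ : G → ℂ) = fun _ => 1) ∧ ∃ (a : Cfsg.IrrCharacter G → ℤ) (d δ : ℤ) (ζ : (↥(P : Subgroup G) →* ℂˣ) → Cfsg.IrrCharacter G), (δ = 1 ∨ δ = -1) ∧ (∀ χ ∈ X, a χ ≠ 0 ∧ ∀ z y : G, Cfsg.IsPPart p z y → y ∈ (P : Subgroup G) → y ≠ 1 → (χ : G → ℂ) z = (a χ : ℂ)) ∧ (∀ ψ : ↥(P : Subgroup G) →* ℂˣ, ψ ≠ 1 → ζ ψ ∈ Y) ∧ (∀ η ∈ Y, ∃ ψ : ↥(P : Subgroup G) →* ℂˣ, ψ ≠ 1 ∧ ζ ψ = η) ∧ (∀ ψ ψ' : ↥(P : Subgroup G) →* ℂˣ, ψ ≠ 1 → (∃ n : G, n ∈ Subgroup.normalizer ((P : Subgroup G) : Set G) ∧ ∀ w w' : ↥(P : Subgroup G), (w' : G) = n * w * n⁻¹ → ψ' w' = ψ w) → ζ ψ' = ζ ψ) ∧ (∀ ψ : ↥(P : Subgroup G) →* ℂˣ, ψ ≠ 1 → ∀ (z :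 G) (y : ↥(P : Subgroup G)), Cfsg.IsPPart p z (y : G) → (y : G) ≠ 1 → (ζ ψ : G → ℂ) z = (d : ℂ) + (δ : ℂ) * ∑ᶠ ψ' ∈ {ψ' : ↥(P : Subgroup G) →* ℂˣ | ∃ n : G, n ∈ Subgroup.normalizer ((P : Subgroup G) : Set G) ∧ ∀ w w' : ↥(P : Subgroup G), (w' : G) = n * w * n⁻¹ → ψ' w' = ψ w}, ((ψ' y : ℂˣ) : ℂ)) ∧ ((d - δ) ^ 2 + ((Nat.card P - 1) / m - 1 : ℤ) * d ^ 2 + ∑ᶠ χ ∈ X, a χ ^ 2 = (m : ℤ) + 1) ∧ (∀ η ∈ Y, ∀ η' ∈ Y, ∀ g : G, ¬ p ∣ orderOf g → (η : G → ℂ) g = (η' : G → ℂ) g) ∧ (∀ η ∈ Y, ∀ g : G, ¬ p ∣ orderOf g → ((((Nat.card P - 1) / m : ℕ) : ℂ) * d - δ) * (η : G → ℂ) g + ∑ᶠ χ ∈ X, (a χ : ℂ) * (χ : G → ℂ) g = 0) := by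
  classical
  haveI := hM.2.1
  set N := Subgroup.normalizer ((P : Subgroup G) : Set G) with hN
  set C := Subgroup.centralizer ((P : Subgroup G) : Set G) with hC
  obtain ⟨n, hnN, hgen⟩ := hcyc
  haveI hCn : (C.subgroupOf N).Normal := by
    refine ⟨fun c hc g => ?_⟩
    rw [Subgroup.mem_subgroupOf, Subgroup.mem_centralizer_iff] at hc ⊢
    intro a ha
    have h1 := hc _ ((Subgroup.mem_normalizer_iff''.1 g.2 a).1 ha)
    have h2 := congrArg (fun w => (g : G) * w * (g : G)⁻¹) h1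
    simpa [mul_assoc] using h2
  set g₀ : N ⧸ C.subgroupOf N := QuotientGroup.mk (⟨n, hnN⟩ : N) with hg₀
  have htop : Subgroup.zpowers g₀ = ⊤ := by
    have h := Subgroup.subgroupOf_sup (A := C) (A' := Subgroup.zpowers n) (B := N)
      (Subgroup.centralizer_le_normalizer _) (Subgroup.zpowers_le.2 hnN)
    rw [hgen, Subgroup.subgroupOf_self] at h
    rw [eq_top_iff]
    intro q _
    induction q using QuotientGroup.induction_on with
    | _ c =>
      obtain ⟨u, hu, v, hv, rfl⟩ := Subgroup.mem_sup_of_normal_left.1 (h ▸ Subgroup.mem_top c)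
      rw [Subgroup.mem_subgroupOf] at hv
      obtain ⟨i, hi⟩ := Subgroup.mem_zpowers_iff.1 hv
      rw [QuotientGroup.mk_mul, (QuotientGroup.eq_one_iff u).2 hu, one_mul,
        show v = (⟨n, hnN⟩ : N) ^ i from Subtype.ext (by simpa using hi.symm),
        QuotientGroup.mk_zpow]
      exact Subgroup.zpow_mem_zpowers g₀ i
  have hord : orderOf g₀ = m := by
    rw [← Nat.card_zpowers, htop, Subgroup.card_top, ← Subgroup.index_eq_card]
    exact hCN
  have hmem : ∀ i : ℕ, n ^ i ∈ C ↔ m ∣ i := by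
    intro i
    rw [← hord, orderOf_dvd_iff_pow_eq_one, hg₀, ← QuotientGroup.mk_pow, QuotientGroup.eq_one_iff,
      Subgroup.mem_subgroupOf, Subgroup.coe_pow]
  have hcover : ∀ c : G, c ∈ N → ∃ i : Fin m, (n ^ (i : ℕ))⁻¹ * c ∈ C := by
    intro c hc
    have hq : (QuotientGroup.mk (⟨c, hc⟩ : N) : N ⧸ C.subgroupOf N) ∈ Subgroup.zpowers g₀ :=
      htop ▸ Subgroup.mem_top _
    rw [← (isOfFinOrder_of_finite g₀).mem_powers_iff_mem_zpowers] at hq
    obtain ⟨j, hj⟩ := Submonoid.mem_powers_iff _ _ |>.1 hq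
    refine ⟨⟨j % m, Nat.mod_lt _ (by omega)⟩, ?_⟩
    rw [← pow_mod_orderOf, hord, hg₀, ← QuotientGroup.mk_pow, QuotientGroup.eq,
      Subgroup.mem_subgroupOf] at hj
    simpa using hj
  have hF : Lib.FpfBlock.Setting.Fpf P n m :=
    { pos := by omega
      comm := fun a ha b hb => congrArg Subtype.val (hab.is_comm.comm ⟨a, ha⟩ ⟨b, hb⟩)
      mem := hnN
      pow := (hmem m).2 (dvd_refl m)
      fix := fun z hz hz1 i hi => (hmem i).1 ((hfrob z hz hz1).le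
        ⟨Subgroup.mem_centralizer_singleton_iff.2 (mul_inv_eq_iff_eq_mul.1 hi), pow_mem hnN i⟩)
      fus := fun a ha b hb hcon => by
        obtain ⟨g, hg⟩ := isConj_iff.1 hcon
        obtain ⟨c, hc, hcc⟩ := Sylow.conj_eq_normalizer_conj_of_mem P a g⁻¹ ha (by
          rw [inv_inv, hg]; exact hb)
        rw [inv_inv, hg] at hcc
        obtain ⟨i, hi⟩ := hcover c⁻¹ (inv_mem hc)
        refine ⟨i, ?_⟩
        have h := Subgroup.mem_centralizer_iff.1 hi a ha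
        rw [hcc]
        calc n ^ (i : ℕ) * a * (n ^ (i : ℕ))⁻¹
            = n ^ (i : ℕ) * (a * ((n ^ (i : ℕ))⁻¹ * c⁻¹)) * c := by group
          _ = n ^ (i : ℕ) * ((n ^ (i : ℕ))⁻¹ * c⁻¹ * a) * c := by rw [h]
          _ = c⁻¹ * a * c := by group
      cen := fun c hc z hz hz1 hcz =>
        (hfrob z hz hz1).le ⟨Subgroup.mem_centralizer_singleton_iff.2 hcz, hc⟩ }
  haveI := Lib.FpfBlock.Setting.finite_dual hF
  haveI := Fintype.ofFinite ((P : Subgroup G) →* ℂˣ)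
  obtain ⟨Y, a, d, δ, ζ, hδ, hYB, h1Y, hYm, ha1, hX, hζY, hζs, hζc, hζv, heq, hYr, hrel⟩ :=
    Lib.FpfBlock.Principal.exists_split hF M hM hm2
  have hrel' : ∀ ψ ψ' : ↥(P : Subgroup G) →* ℂˣ, ψ ≠ 1 →
      ((∃ n' : G, n' ∈ N ∧ ∀ w w' : ↥(P : Subgroup G),
          (w' : G) = n' * w * n'⁻¹ → ψ' w' = ψ w) ↔
        ψ' ≠ 1 ∧ Lib.FpfBlock.Setting.orbN hF ψ ψ' = 1) := by
    intro ψ ψ' hψ
    constructor
    · rintro ⟨n', hn', hrel⟩
      obtain ⟨i, hi⟩ := hcover n' hn'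
      have hcomp : ψ'.comp (Lib.FpfBlock.Setting.sg hF i) = ψ := by
        ext w
        rw [MonoidHom.comp_apply, hrel w (Lib.FpfBlock.Setting.sg hF i w) ?_]
        rw [Lib.FpfBlock.Setting.coe_sg]
        have h := Subgroup.mem_centralizer_iff.1 hi w w.2
        calc n ^ (i : ℕ) * (w : G) * (n ^ (i : ℕ))⁻¹
            = n ^ (i : ℕ) * ((w : G) * ((n ^ (i : ℕ))⁻¹ * n')) * n'⁻¹ := by group
          _ = n ^ (i : ℕ) * ((n ^ (i : ℕ))⁻¹ * n' * (w : G)) * n'⁻¹ := by rw [h]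
          _ = n' * w * n'⁻¹ := by group
      have hne : ψ' ≠ 1 := fun e => hψ (by rw [← hcomp, e]; ext w; simp)
      exact ⟨hne, (Lib.FpfBlock.Setting.orbN_eq_one_iff hF hne).2 ⟨i, hcomp⟩⟩
    · rintro ⟨hne, ho⟩
      obtain ⟨i, hi⟩ := (Lib.FpfBlock.Setting.orbN_eq_one_iff hF hne).1 ho
      refine ⟨n ^ (i : ℕ), pow_mem hnN i, fun w w' hw => ?_⟩
      rw [← hi, MonoidHom.comp_apply]
      congr 1
      exact Subtype.ext hw
  have hr : (Nat.card P - 1) / m = Y.card := by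
    have h : Nat.card (P : Subgroup G) - 1 = Y.card * m := by omega
    change (Nat.card (P : Subgroup G) - 1) / m = Y.card
    rw [h, Nat.mul_div_cancel _ (by omega)]
  refine ⟨Nat.card ↥(Cfsg.principalBlock M G \ ↑Y), Cfsg.principalBlock M G \ ↑Y, ↑Y, ?_,
    (Set.sdiff_union_of_subset hYB).symm, Set.disjoint_sdiff_left, rfl, ?_,
    ⟨Lib.Characters.Basic.oneChar G, ⟨Lib.Blocks.oneChar_mem_principalBlock, h1Y⟩,
      funext fun g => Lib.Characters.Basic.oneChar_apply g⟩,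
    a, d, δ, ζ, hδ, fun χ hχ => hX χ hχ.1 hχ.2, hζY, hζs, ?_, ?_, ?_, hYr, ?_⟩
  · have h1 : ∀ χ ∈ (Set.toFinite (Cfsg.principalBlock M G \ ↑Y)).toFinset, (1 : ℤ) ≤ a χ ^ 2 :=
      fun χ hχ => by
        rw [Set.Finite.mem_toFinset] at hχ
        exact Int.add_one_le_iff.2 (sq_pos_of_ne_zero (hX χ hχ.1 hχ.2).1)
    have h2 := Finset.card_nsmul_le_sum _ _ 1 h1
    rw [nsmul_one] at h2
    rw [finsum_mem_eq_finite_toFinset_sum _ (Set.toFinite _)] at heq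
    have hY2 : (2 : ℤ) ≤ (Y.card : ℤ) := by
      by_contra hlt
      push Not at hlt
      rcases (show Y.card = 0 ∨ Y.card = 1 by omega) with h | h
      · rw [h] at hYm; omega
      · rw [h] at hYm; omega
    have h3 : (1 : ℤ) ≤ (d - δ) ^ 2 + ((Y.card : ℤ) - 1) * d ^ 2 := by
      rcases eq_or_ne d δ with e | e
      · rw [e]
        rcases hδ with e' | e' <;> rw [e'] <;> nlinarith
      · nlinarith [Int.add_one_le_iff.2 (sq_pos_of_ne_zero (sub_ne_zero.2 e)), sq_nonneg d]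
    rw [Nat.card_eq_card_finite_toFinset (Set.toFinite _)]
    omega
  · rw [hr]; simp
  · intro ψ ψ' hψ hex
    obtain ⟨hne, ho⟩ := (hrel' ψ ψ' hψ).1 hex
    exact hζc ψ ψ' hψ hne ho
  · intro ψ hψ z y hz hy
    rw [hζv ψ hψ z y hz hy, finsum_mem_eq_finite_toFinset_sum _ (Set.toFinite _)]
    congr 2
    refine Finset.sum_congr (Finset.ext fun ψ' => ?_) fun _ _ => rfl
    simp only [Lib.FpfBlock.Principal.orbit, Finset.mem_filter, Finset.mem_erase, Finset.mem_univ,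
      and_true, Set.Finite.mem_toFinset, Set.mem_setOf_eq, hrel' ψ ψ' hψ]
  · have hr' : ((Nat.card P : ℤ) - 1) / (m : ℤ) = (Y.card : ℤ) := by
      have h' : (Nat.card (P : Subgroup G) : ℤ) - 1 = (Y.card : ℤ) * m := by
        have := congrArg (fun k : ℕ => (k : ℤ)) hYm
        push_cast at this
        linarith
      change ((Nat.card (P : Subgroup G) : ℤ) - 1) / (m : ℤ) = _
      rw [h', Int.mul_ediv_cancel _ (by omega)]
    rw [hr']
    exact heq
  · intro η hη g hg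
    rw [hr]
    exact hrel η hη g hg

end Cfsg.Agent.S4709
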