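import Cfsg.Statements.S4711
import Cfsg.Agent.Lib.BC77.Covered
import Cfsg.Agent.Lib.Blocks.Orthogonality
import Cfsg.Agent.Lib.BlocksChars5.Basic
import Cfsg.Agent.Lib.Chars82.PrincipalBlock
import Cfsg.Agent.Lib.PSolvable.PLength
-- import your own Cfsg.Agent.* helpers here

set_option autoImplicit false
open Cfsg

namespace Cfsg.Agent.S4711

open scoped ComplexConjugate
open Cfsg.Agent.Lib Cfsg.Agent.Lib.Characters

universe u

variable {G : Type u} [Group G] [Finite G] {p : ℕ} [Fact p.Prime] {M : Ideal Cfsg.AlgInt}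

/-- If the trivial character is the only one of the principal block with a fixed point on a Sylow
subgroup, the group has a normal `p`-complement. -/
theorem exists_complement (hM : Cfsg.IsPModular p M) (P : Sylow p G) [Fintype (P : Subgroup G)]
    (h : ∀ θ ∈ Cfsg.principalBlock M G, θ ≠ Basic.oneChar G →
      ∑ u : (P : Subgroup G), (θ : G → ℂ) u = 0) :
    ∃ K : Subgroup G, Nat.card K = (P : Subgroup G).index ∧ (Nat.card K).Coprime p ∧
      ∀ g : G, g ∈ K ↔ ¬ p ∣ orderOf g := by
  classical
  haveI := hM.2.1
  haveI := Fintype.ofFinite G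
  haveI := Fintype.ofFinite (Cfsg.IrrCharacter G)
  have hp : p.Prime := Fact.out
  set B := Cfsg.principalBlock M G with hBdef
  have hB : Cfsg.IsPBlock M B := Blocks.isPBlock_principalBlock
  set c : ℂ := (Nat.card (P : Subgroup G) : ℂ) / Nat.card G with hc
  have hG0 : (Nat.card G : ℂ) ≠ 0 := Nat.cast_ne_zero.mpr Nat.card_pos.ne'
  have hP0 : (Nat.card (P : Subgroup G) : ℂ) ≠ 0 := Nat.cast_ne_zero.mpr Nat.card_pos.ne'
  have hc0 : c ≠ 0 := div_ne_zero hP0 hG0
  have hone : ¬ p ∣ orderOf (1 : G) := by rw [orderOf_one]; exact hp.not_dvd_one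
  have hcoeff : ∀ x : G, Cfsg.blockCoeff B x = if p ∣ orderOf x then 0 else c := by
    intro x
    split_ifs with hx
    · exact Blocks.blockCoeff_eq_zero_of_dvd hM hB hx
    have hsum : ∑ u : (P : Subgroup G), ∑ θ : Cfsg.IrrCharacter G with θ ∈ B,
        (θ : G → ℂ) x * conj ((θ : G → ℂ) u) = (Nat.card (P : Subgroup G) : ℂ) := by
      rw [Finset.sum_comm, Finset.sum_eq_single (Basic.oneChar G)]
      · simp [Basic.oneChar_apply, Nat.card_eq_fintype_card]
      · intro θ hθ hne
        rw [← Finset.mul_sum, ← map_sum, h θ (Finset.mem_filter.mp hθ).2 hne, map_zero, mul_zero]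
      · exact fun hh => absurd (Finset.mem_filter.mpr
          ⟨Finset.mem_univ _, Blocks.oneChar_mem_principalBlock⟩) hh
    rw [Finset.sum_eq_single (1 : (P : Subgroup G))] at hsum
    · have hh := congrArg conj hsum
      rw [map_sum, map_natCast] at hh
      rw [Blocks.blockCoeff_eq_sum, hc, div_eq_inv_mul, ← hh]
      congr 1
      refine Finset.sum_congr rfl fun θ _ => ?_
      rw [map_mul, Complex.conj_conj, OneMemClass.coe_one, mul_comm]
    · intro u _ hu
      have hy : p ∣ orderOf (u : G) := by
        obtain ⟨k, hk⟩ := IsPGroup.iff_orderOf.mp P.2 u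
        rw [Subgroup.orderOf_coe]
        rcases k with _ | k
        · exact absurd (orderOf_eq_one_iff.mp (by simpa using hk)) hu
        · exact hk ▸ dvd_pow_self p k.succ_ne_zero
      have := Blocks.weak_orthogonality hM hB (x := x) hx hy
      rw [finsum_mem_eq_toFinset_sum] at this
      convert this using 2
      ext θ
      simp
    · exact fun hh => absurd (Finset.mem_univ _) hh
  have hidem : ∀ g : G, ∑ y : G, Cfsg.blockCoeff B y * Cfsg.blockCoeff B (y⁻¹ * g) =
      Cfsg.blockCoeff B g := by
    intro g
    have h2 := congrArg (fun z : Subalgebra.center ℂ (MonoidAlgebra ℂ G) =>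
      (z : MonoidAlgebra ℂ G).coeff g) (Blocks.idem_mul_idem B B)
    simp only [Set.inter_self, Subalgebra.coe_mul, BrauerMap.Basic.coeff_mul_sum,
      Blocks.coeff_idem] at h2
    exact h2
  simp only [hcoeff] at hidem
  set R := Finset.univ.filter fun g : G => ¬ p ∣ orderOf g with hR
  have hpair : ∀ g : G, ¬ p ∣ orderOf g →
      ((R.filter fun y => y⁻¹ * g ∈ R).card : ℂ) * c = 1 := by
    intro g hg
    have h2 := hidem g
    rw [if_neg hg] at h2
    refine mul_right_cancel₀ hc0 ((Eq.trans ?_ h2).trans (one_mul c).symm)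
    rw [mul_assoc, ← nsmul_eq_mul, ← Finset.sum_const, Finset.sum_filter, hR, Finset.sum_filter]
    refine Finset.sum_congr rfl fun y _ => ?_
    simp only [Finset.mem_filter, Finset.mem_univ, true_and]
    split_ifs <;> simp
  have hcard : (R.card : ℂ) * c = 1 := by
    have h1 := hpair 1 hone
    rwa [Finset.filter_true_of_mem fun y hy => by
      simpa [hR] using hy] at h1
  have hclosed : ∀ g y : G, ¬ p ∣ orderOf g → ¬ p ∣ orderOf y → ¬ p ∣ orderOf (y⁻¹ * g) := by
    intro g y hg hy
    have h1 := Nat.cast_injective (R := ℂ) (mul_right_cancel₀ hc0 ((hpair g hg).trans hcard.symm))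
    have h2 := Finset.filter_eq_self.mp (Finset.eq_of_subset_of_card_le (Finset.filter_subset _ _)
      h1.ge)
    exact (Finset.mem_filter.mp (h2 y (Finset.mem_filter.mpr ⟨Finset.mem_univ y, hy⟩))).2
  let K : Subgroup G :=
    { carrier := {g | ¬ p ∣ orderOf g}
      one_mem' := hone
      inv_mem' := fun {g} hg => by simpa using hg
      mul_mem' := fun {a b} ha hb => by
        have := hclosed b a⁻¹ hb (by simpa using ha)
        simpa using this }
  refine ⟨K, ?_, ?_, fun g => Iff.rfl⟩
  · have e : Nat.card K = R.card := by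
      rw [← Nat.card_eq_finsetCard]
      exact Nat.card_congr (Equiv.subtypeEquivRight fun g => by simp [K, hR])
    rw [hc, ← Subgroup.card_mul_index (P : Subgroup G), ← e, Nat.cast_mul] at hcard
    have : (Nat.card K : ℂ) = ((P : Subgroup G).index : ℂ) := by
      have hi : ((P : Subgroup G).index : ℂ) ≠ 0 :=
        Nat.cast_ne_zero.mpr Subgroup.index_ne_zero_of_finite
      field_simp at hcard
      linear_combination hcard
    exact_mod_cast this
  · refine ((hp.coprime_iff_not_dvd).mpr fun hd => ?_).symm
    obtain ⟨k, hk⟩ := exists_prime_orderOf_dvd_card' (G := K) p hd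
    have := k.2
    exact this (by rw [Subgroup.orderOf_coe, hk])

/-- Let p be a prime, M a maximal ideal of the algebraic integers containing p, G a finite group, P a Sylow p-subgroup and N = N_G(P). Then G has p-length 1 (G = O_{p',p,p'}(G)) if and only if every irreducible character in the principal p-block of G restricts to an irreducible character of N. -/
theorem result {G : Type*} [Group G] [Finite G] (p : ℕ) [Fact p.Prime] (M : Ideal Cfsg.AlgInt) (hM : Cfsg.IsPModular p M) (P : Sylow p G) : Cfsg.PLengthLE p 1 G ↔ ∀ χ ∈ Cfsg.principalBlock M G, Cfsg.IsIrrCharacter ↥(Subgroup.normalizer ((P : Subgroup G) : Set G)) (fun n : ↥(Subgroup.normalizer ((P : Subgroup G) : Set G)) => (χ : G → ℂ) n) := by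
  classical
  haveI := hM.2.1
  haveI := Fintype.ofFinite G
  have hp : p.Prime := Fact.out
  set N := Subgroup.normalizer ((P : Subgroup G) : Set G) with hN
  have hPN : (P : Subgroup G) ≤ N := Subgroup.le_normalizer
  constructor
  · intro hlen χ hχ
    set K := Cfsg.pPrimeCore p G with hK
    set T := Cfsg.pPrimePCore p G with hT
    have hKp : ¬ p ∣ Nat.card K :=
      (hp.coprime_iff_not_dvd).mp (PSolvable.card_pPrimeCore_coprime (p := p) (G := G)).symm
    have hker : K ≤ BlocksChars5.Basic.charKer χ := fun k hk =>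
      (BlocksChars5.Basic.mem_charKer χ k).mpr
        (Chars82.PrincipalBlock.apply_eq_of_mem_principalBlock hM K hKp hχ ⟨k, hk⟩)
    have hTidx : ¬ p ∣ T.index := by
      have h := PSolvable.relIndex_upperPSeries_odd (p := p) (G := G) 1
      rw [show (Cfsg.upperPSeries p G (2 * 1 + 1)).1 = ⊤ from hlen,
        show (Cfsg.upperPSeries p G (2 * 1)).1 = T from PSolvable.upperPSeries_two,
        Subgroup.relIndex_top_right] at h
      exact (hp.coprime_iff_not_dvd).mp h.symm
    haveI : T.Normal := by
      rw [hT, ← PSolvable.upperPSeries_two]; exact Cfsg.upperPSeries_normal _ _ _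
    have hPT : (P : Subgroup G) ≤ T := by
      intro x hx
      obtain ⟨i, hi⟩ := P.isPGroup' ⟨x, hx⟩
      have h1 : (x : G ⧸ T) ^ p ^ i = 1 := by
        rw [← QuotientGroup.mk_pow, show x ^ p ^ i = 1 from congrArg Subtype.val hi,
          QuotientGroup.mk_one]
      have h2 : (x : G ⧸ T) ^ T.index = 1 := by rw [Subgroup.index_eq_card]; exact pow_card_eq_one'
      have h3 := pow_gcd_eq_one.2 ⟨h1, h2⟩
      rw [(Nat.Coprime.pow_left i (hp.coprime_iff_not_dvd.2 hTidx)).gcd_eq_one, pow_one,
        QuotientGroup.eq_one_iff] at h3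
      exact h3
    have hTKP : T ≤ K ⊔ (P : Subgroup G) := by
      have hKT : K ≤ T := fun k hk => by
        rw [hT, Cfsg.pPrimePCore, Subgroup.mem_comap, QuotientGroup.mk'_apply,
          (QuotientGroup.eq_one_iff k).mpr hk]
        exact one_mem _
      have hle : K ⊔ (P : Subgroup G) ≤ T := sup_le hKT hPT
      obtain ⟨m, hm⟩ : ∃ m, K.relIndex T = p ^ m := by
        obtain ⟨m, hm⟩ := PSolvable.relIndex_upperPSeries_even (p := p) (G := G) 0
        refine ⟨m, ?_⟩
        have h1 : (Cfsg.upperPSeries p G 1).1 = K := by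
          refine le_antisymm (PSolvable.le_pPrimeCore inferInstance ?_) ?_
          · have := PSolvable.relIndex_upperPSeries_odd (p := p) (G := G) 0
            rwa [show (Cfsg.upperPSeries p G (2 * 0)).1 = ⊥ from rfl,
              Subgroup.relIndex_bot_left] at this
          · refine PSolvable.le_upperPSeries_odd (k := 0) (N := ⊥) bot_le ?_
            rw [Subgroup.relIndex_bot_left]
            exact PSolvable.card_pPrimeCore_coprime
        rwa [show 2 * 0 + 1 = 1 from rfl, show 2 * 0 + 2 = 2 from rfl, h1,
          PSolvable.upperPSeries_two] at hm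
      have h1 : (K ⊔ (P : Subgroup G)).relIndex T ∣ p ^ m :=
        hm ▸ Subgroup.relIndex_dvd_of_le_left T le_sup_left
      have h2 : (K ⊔ (P : Subgroup G)).relIndex T ∣ (P : Subgroup G).index :=
        (Subgroup.relIndex_dvd_index_of_le hle).trans (Subgroup.index_dvd_of_le le_sup_right)
      obtain ⟨i, -, hi⟩ := (Nat.dvd_prime_pow hp).mp h1
      rcases i with _ | i
      · exact Subgroup.relIndex_eq_one.mp (by simpa using hi)
      · exact absurd ((hi ▸ dvd_pow_self p i.succ_ne_zero).trans h2) P.not_dvd_index
    have hsup : N ⊔ K = ⊤ := by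
      refine top_unique ?_
      have hfr := Sylow.normalizer_sup_eq_top (N := T) (P.subtype hPT)
      rw [show ((P.subtype hPT : Sylow p T) : Subgroup T).map T.subtype = (P : Subgroup G) from by
        rw [Sylow.coe_subtype, Subgroup.map_subgroupOf_eq_of_le hPT]] at hfr
      rw [← hfr]
      exact sup_le le_sup_left (hTKP.trans (sup_le le_sup_right (hPN.trans le_sup_left)))
    obtain ⟨χ', hχ'⟩ := BlocksChars5.Basic.exists_deflate χ K hker
    have hsurj : Function.Surjective ((QuotientGroup.mk' K).comp N.subtype) := by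
      intro x
      obtain ⟨g, rfl⟩ := QuotientGroup.mk'_surjective K x
      have hg : g ∈ N ⊔ K := hsup ▸ Subgroup.mem_top g
      rw [← SetLike.mem_coe, Subgroup.mul_normal] at hg
      obtain ⟨n, hn, k, hk, rfl⟩ := hg
      exact ⟨⟨n, hn⟩, by simp [(QuotientGroup.eq_one_iff k).mpr hk]⟩
    have := Basic.isIrrCharacter_comp _ hsurj χ'.2
    rw [← hχ']
    exact this
  · intro hirr
    set L := Subgroup.normalClosure ((P : Subgroup G) : Set G) with hL
    have hPL : (P : Subgroup G) ≤ L := Subgroup.subset_normalClosure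
    let PL := P.subtype hPL
    haveI := Fintype.ofFinite L
    haveI := Fintype.ofFinite (PL : Subgroup L)
    haveI := Fintype.ofFinite (Cfsg.IrrCharacter L)
    have hkey : ∀ θ ∈ Cfsg.principalBlock M L, θ ≠ Basic.oneChar L →
        ∑ u : (PL : Subgroup L), (θ : L → ℂ) u = 0 := by
      intro θ hθ hne
      by_contra hsum
      obtain ⟨χ, hχ, hm⟩ := Blocks.blockOf_subset_of_memLocalRing
        (fun x => BC77.Covered.memLocalRing_blockCoeff_under L hM
          (Blocks.isPBlock_principalBlock (M := M)) x)
        (show Basic.oneChar L ∈ BC77.Covered.under L (Cfsg.principalBlock M G) from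
          ⟨_, Blocks.oneChar_mem_principalBlock, by
            rw [show (fun h : L => (Basic.oneChar G : G → ℂ) h) = (Basic.oneChar L : L → ℂ)
              from rfl, Basic.classInner_self_irr]
            exact one_ne_zero⟩) hθ
      have hres : Cfsg.IsCharacter L (fun l : L => (χ : G → ℂ) l) :=
        Basic.isCharacter_comp L.subtype (Basic.isCharacter_irr χ)
      -- `χ` has a fixed point on `P`
      have hfix : ∑ u : (PL : Subgroup L), (χ : G → ℂ) (u : L) ≠ 0 := by
        choose m hm' using fun ψ : Cfsg.IrrCharacter L =>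
          Basic.exists_classInner_nat hres (Basic.isCharacter_irr ψ)
        choose r hr using fun ψ : Cfsg.IrrCharacter L => Basic.exists_classInner_nat
          (Basic.isCharacter_comp (PL : Subgroup L).subtype (Basic.isCharacter_irr ψ))
          (Basic.isCharacter_one (G := (PL : Subgroup L)))
        have hr' : ∀ ψ : Cfsg.IrrCharacter L, ∑ u : (PL : Subgroup L), (ψ : L → ℂ) u =
            ((Nat.card (PL : Subgroup L) * r ψ : ℕ) : ℂ) := fun ψ => by
          rw [Nat.cast_mul, ← hr, Cfsg.classInner,
            mul_inv_cancel_left₀ (Nat.cast_ne_zero.mpr Nat.card_pos.ne')]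
          simp
        have hexp : ∑ u : (PL : Subgroup L), (χ : G → ℂ) (u : L) =
            ((∑ ψ : Cfsg.IrrCharacter L, m ψ * (Nat.card (PL : Subgroup L) * r ψ) : ℕ) : ℂ) := by
          have h := Complete.classFunction_eq_sum (Basic.isClassFunction_of_isCharacter hres)
          calc ∑ u : (PL : Subgroup L), (χ : G → ℂ) (u : L)
              = ∑ u : (PL : Subgroup L), ∑ ψ : Cfsg.IrrCharacter L,
                  (m ψ : ℂ) * (ψ : L → ℂ) u := Finset.sum_congr rfl fun u _ => by
                have h2 := congrFun h (u : L)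
                simp only [Finset.sum_apply, Pi.smul_apply, smul_eq_mul, hm'] at h2
                exact h2
            _ = _ := by
                rw [Finset.sum_comm]
                simp only [← Finset.mul_sum, hr', Nat.cast_sum, Nat.cast_mul]
        rw [hexp, Nat.cast_ne_zero]
        intro h0
        have h1 := Finset.sum_eq_zero_iff.mp h0 θ (Finset.mem_univ θ)
        have hrne : r θ ≠ 0 := fun e => hsum (by rw [hr', e]; simp)
        have hmne : m θ ≠ 0 := fun e => hm (by rw [hm', e, Nat.cast_zero])
        exact mul_ne_zero hmne (mul_ne_zero Nat.card_pos.ne' hrne) h1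
      -- so `P` lies in its kernel
      haveI := Fintype.ofFinite N
      set PN := (P : Subgroup G).subgroupOf N with hPNdef
      haveI := Fintype.ofFinite PN
      haveI : PN.Normal := Subgroup.normal_in_normalizer
      let χN : Cfsg.IrrCharacter N := ⟨_, hirr χ hχ⟩
      have hne1 : Cfsg.classInner (fun u : PN => (χN : N → ℂ) u) (Basic.oneChar PN) ≠ 0 := by
        refine mul_ne_zero (inv_ne_zero (Nat.cast_ne_zero.mpr Nat.card_pos.ne')) ?_
        simp only [Basic.oneChar_apply, map_one, mul_one]
        refine fun h => hfix (Eq.trans ?_ h)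
        let e : (PL : Subgroup L) ≃ PN :=
          ((Subgroup.subgroupOfEquivOfLe hPL).toEquiv).trans
            (Subgroup.subgroupOfEquivOfLe hPN).toEquiv.symm
        exact Fintype.sum_equiv e _ _ fun u => rfl
      have hcl := Clifford.Basic.clifford PN χN.2 (Basic.oneChar PN) hne1
      have hPker : (P : Subgroup G) ≤ BlocksChars5.Basic.charKer χ := by
        intro u hu
        rw [BlocksChars5.Basic.mem_charKer]
        have h1 := congrFun hcl ⟨⟨u, hPN hu⟩, hu⟩
        have h2 := congrFun hcl 1
        have hc : ∀ x : N, Clifford.Basic.conjC PN x (Basic.oneChar PN : PN → ℂ) =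
            (Basic.oneChar PN : PN → ℂ) := fun x => funext fun _ => rfl
        simp only [hc, Finset.sum_const, Pi.smul_apply, Basic.oneChar_apply] at h1 h2
        exact h1.trans h2.symm
      haveI := BlocksChars5.Basic.charKer_normal χ
      have hLker : L ≤ BlocksChars5.Basic.charKer χ := Subgroup.normalClosure_le_normal hPker
      apply hm
      have e : (fun l : L => (χ : G → ℂ) l) = (χ : G → ℂ) 1 • (Basic.oneChar L : L → ℂ) :=
        funext fun l => by
          rw [Pi.smul_apply, Basic.oneChar_apply, smul_eq_mul, mul_one]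
          exact (BlocksChars5.Basic.mem_charKer χ l).mp (hLker l.2)
      rw [e, Induced.Basic.classInner_smul_left, Basic.classInner_irr_of_ne (Ne.symm hne), mul_zero]
    obtain ⟨K, hKcard, hKp, hKmem⟩ := exists_complement hM PL hkey
    set K' := K.map L.subtype with hK'
    haveI : K'.Normal := ⟨by
      rintro _ ⟨k, hk, rfl⟩ g
      have hkL : g * (k : G) * g⁻¹ ∈ L := Subgroup.normalClosure_normal.conj_mem _ k.2 g
      refine ⟨⟨_, hkL⟩, (hKmem _).mpr ?_, rfl⟩
      have h1 := (hKmem k).mp hk
      rw [← Subgroup.orderOf_coe]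
      show ¬ p ∣ orderOf (MulAut.conj g (k : G))
      rwa [(MulAut.conj g).orderOf_eq, Subgroup.orderOf_coe]⟩
    have hK'card : Nat.card K' = Nat.card K := Subgroup.card_map_of_injective L.subtype_injective
    have hK1 : K' ≤ (Cfsg.upperPSeries p G (2 * 0 + 1)).1 :=
      PSolvable.le_upperPSeries_odd (N := ⊥) bot_le
        (by rw [Subgroup.relIndex_bot_left, hK'card]; exact hKp)
    have hrel : ∃ m, K'.relIndex L = p ^ m := by
      obtain ⟨m, hm⟩ := IsPGroup.iff_card.mp PL.2
      refine ⟨m, ?_⟩
      have h1 := Subgroup.relIndex_mul_index (le_rfl : K ≤ K)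
      have h2 : K.index * Nat.card K = Nat.card L := K.index_mul_card
      rw [hKcard] at h2
      have h3 := Subgroup.card_mul_index (PL : Subgroup L)
      rw [← h3, hm] at h2
      have hKi : K.index = p ^ m :=
        Nat.eq_of_mul_eq_mul_right (Nat.pos_of_ne_zero Subgroup.index_ne_zero_of_finite) h2
      rw [← hKi, Subgroup.relIndex, hK', Subgroup.subgroupOf,
        Subgroup.comap_map_eq_self_of_injective L.subtype_injective]
    have hL2 := PSolvable.le_upperPSeries_even (k := 0) hK1 hrel
    refine top_unique (PSolvable.le_upperPSeries_odd (k := 1) (N := L) hL2 ?_)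
    rw [Subgroup.relIndex_top_right]
    exact ((hp.coprime_iff_not_dvd).mpr fun h =>
      P.not_dvd_index (h.trans (Subgroup.index_dvd_of_le hPL))).symm

end Cfsg.Agent.S4711
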