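import Cfsg.Statements.S4712
import Cfsg.Agent.Lib.PRational.Count

set_option autoImplicit false
open Cfsg

namespace Cfsg.Agent.S4712

/-- Let p be an odd prime, M a maximal ideal of the algebraic integers containing p, G a finite group of order n with p-part p^a, and B a p-block of G. Call an irreducible character χ p-rational when χ(g^k) = χ(g) for every g and every k coprime to n with k ≡ 1 modulo n/p^a (χ is fixed by the Galois automorphisms fixing the roots of unity of order prime to p). Then the number of p-rational irreducible characters in B is at least the p-regular rank of B (the number of irreducible Brauer characters in B). -/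
theorem result {G : Type*} [Group G] [Finite G] (p : ℕ) [Fact p.Prime] (hodd : p ≠ 2) (M : Ideal Cfsg.AlgInt) (hM : Cfsg.IsPModular p M) (B : Set (Cfsg.IrrCharacter G)) (hB : Cfsg.IsPBlock M B) : Cfsg.blockRank p B ≤ Nat.card {χ : Cfsg.IrrCharacter G // χ ∈ B ∧ ∀ k : ℕ, Nat.Coprime k (Nat.card G) → k ≡ 1 [MOD Nat.card G / p ^ (Nat.card G).factorization p] → ∀ g : G, (χ : G → ℂ) (g ^ k) = (χ : G → ℂ) g} := by
  classical
  haveI : M.IsMaximal := hM.2.1
  haveI := Fintype.ofFinite G
  have hp : p.Prime := Fact.out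
  set n := Nat.card G with hn
  set a := n.factorization p with ha
  set m := n / p ^ a with hm
  have hn0 : n ≠ 0 := Nat.card_pos.ne'
  have hpm : ¬ p ∣ m := Nat.not_dvd_ordCompl hp hn0
  have hnm : p ^ a * m = n := Nat.ordProj_mul_ordCompl_eq_self _ p
  have hco : (p ^ a).Coprime m := Nat.Coprime.pow_left a (hp.coprime_iff_not_dvd.2 hpm)
  haveI : NeZero (p ^ a) := ⟨pow_ne_zero _ hp.ne_zero⟩
  haveI := ZMod.isCyclic_units_of_prime_pow p hp hodd a
  obtain ⟨u, hu⟩ := IsCyclic.exists_generator (α := (ZMod (p ^ a))ˣ)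
  obtain ⟨k0, hk1, hk2⟩ := Nat.chineseRemainder hco (u : ZMod (p ^ a)).val 1
  have hk0 : k0.Coprime n := by
    rw [← hnm, Nat.coprime_mul_iff_right]
    constructor
    · have h := ZMod.val_coe_unit_coprime u
      rw [Nat.coprime_iff_gcd_eq_one] at h ⊢
      rw [hk1.gcd_eq, h]
    · rw [Nat.coprime_iff_gcd_eq_one, hk2.gcd_eq, Nat.gcd_one_left]
  set l := k0 ^ (n.totient - 1) with hl
  have hinv : k0 * l ≡ 1 [MOD n] := by
    rw [hl, ← pow_succ', Nat.sub_add_cancel (Nat.totient_pos.2 (Nat.pos_of_ne_zero hn0))]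
    exact Nat.ModEq.pow_totient hk0
  have hreg : ∀ j : ℕ, j ≡ 1 [MOD m] → ∀ g : G, ¬ p ∣ orderOf g → g ^ j = g := by
    intro j hj g hg
    conv_rhs => rw [← pow_one g]
    rw [pow_eq_pow_iff_modEq]
    refine hj.of_dvd ?_
    refine ((Nat.Coprime.pow_left a (hp.coprime_iff_not_dvd.2 hg)).symm).dvd_of_dvd_mul_left ?_
    rw [hnm]
    exact orderOf_dvd_natCard g
  refine (Cfsg.Agent.Lib.PRational.Count.blockRank_le_card_fixed hM hB hk0 (l := l)
    (fun g => by
      rw [← pow_mul]
      conv_rhs => rw [← pow_one g]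
      rw [pow_eq_pow_iff_modEq]
      exact hinv.of_dvd (orderOf_dvd_natCard g))
    (hreg k0 hk2) (hreg l (by simpa [hl] using hk2.pow (n.totient - 1)))).trans
      (le_of_eq (Nat.card_congr (Equiv.subtypeEquivRight fun χ => ?_)))
  refine and_congr_right fun _ => ⟨fun h k hk hkm g => ?_, fun h g => h k0 hk0 hk2 g⟩
  have hiter : ∀ (j : ℕ) (g : G), (χ : G → ℂ) (g ^ k0 ^ j) = (χ : G → ℂ) g := by
    intro j
    induction j with
    | zero => simp
    | succ j ih => intro g; rw [pow_succ, pow_mul, h, ih]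
  have hkp : k.Coprime (p ^ a) := hk.coprime_dvd_right ⟨m, hnm.symm⟩
  obtain ⟨j, hj⟩ := mem_powers_iff_mem_zpowers.2 (hu (ZMod.unitOfCoprime k hkp))
  have hkj : k ≡ k0 ^ j [MOD p ^ a] := by
    refine (ZMod.natCast_eq_natCast_iff k (k0 ^ j) (p ^ a)).1 ?_
    have e : (k0 : ZMod (p ^ a)) = (u : ZMod (p ^ a)) := by
      rw [(ZMod.natCast_eq_natCast_iff _ _ _).2 hk1, ZMod.natCast_zmod_val]
    rw [Nat.cast_pow, e, ← Units.val_pow_eq_pow_val]
    exact (ZMod.coe_unitOfCoprime k hkp).symm.trans (congrArg Units.val hj.symm)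
  have hkj' : k ≡ k0 ^ j [MOD m] := hkm.trans (by simpa using (hk2.pow j).symm)
  have hall : k ≡ k0 ^ j [MOD n] := hnm ▸ (Nat.modEq_and_modEq_iff_modEq_mul hco).1 ⟨hkj, hkj'⟩
  rw [show g ^ k = g ^ k0 ^ j from pow_eq_pow_iff_modEq.2 (hall.of_dvd (orderOf_dvd_natCard g))]
  exact hiter j g

end Cfsg.Agent.S4712
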