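import Cfsg.Statements.S4714
import Cfsg.Agent.Lib.Blocks.Vanishing
import Cfsg.Agent.Lib.Blocks.Induced
import Cfsg.Agent.Lib.Blocks.Orthogonality
import Cfsg.Agent.Lib.BrauerPairs.CentralRank
import Cfsg.Agent.Lib.BrauerMap.PrincipalSection
import Cfsg.Agent.Lib.Clifford.Basic
-- import your own Cfsg.Agent.* helpers here

set_option autoImplicit false
open Cfsg

namespace Cfsg.Agent.S4714

open scoped ComplexConjugate
open Cfsg.Agent.Lib Cfsg.Agent.Lib.Characters Cfsg.Agent.Lib.Blocks.Contrib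

universe u

section

variable {G : Type u} [Group G] [Fintype G] {p : ℕ} [Fact p.Prime]

/-- An irreducible character is multiplicative between centralizing factors. -/
theorem apply_mul_mul (θ : Cfsg.IrrCharacter G) {D : Subgroup G}
    (hG : D ⊔ Subgroup.centralizer (D : Set G) = ⊤) {y x : G} (hy : y ∈ D)
    (hx : x ∈ Subgroup.centralizer (D : Set G)) :
    (θ : G → ℂ) (y * x) * (θ : G → ℂ) 1 = (θ : G → ℂ) y * (θ : G → ℂ) x := by
  classical
  obtain ⟨k, ρ, hρ, hchar⟩ := Basic.exists_rep θ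
  haveI := hρ
  let w : G → ℂ := fun g => if IsConj y⁻¹ g then 1 else 0
  have hw : Cfsg.IsClassFunction G w := fun g h => by
    have : IsConj g (h * g * h⁻¹) := isConj_iff.mpr ⟨h, rfl⟩
    simp only [w]
    exact if_congr ⟨fun e => e.trans this.symm, fun e => e.trans this⟩ rfl rfl
  obtain ⟨c, hc, -⟩ := Complete.avg_eq_scalar hw ρ
  have hN : Subgroup.normalizer (D : Set G) = ⊤ :=
    top_unique (hG ▸ sup_le Subgroup.le_normalizer (Subgroup.centralizer_le_normalizer _))
  have key : ∀ z ∈ Subgroup.centralizer (D : Set G), c * (θ : G → ℂ) z =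
      ((Finset.univ.filter fun g => IsConj y⁻¹ g).card : ℂ) * (θ : G → ℂ) (y * z) := by
    intro z hz
    have h := congrArg (fun T : Module.End ℂ (Fin k → ℂ) =>
      LinearMap.trace ℂ (Fin k → ℂ) (T * ρ z)) hc
    simp only [Complete.avg, Finset.sum_mul, map_sum, smul_mul_assoc, map_smul, one_mul,
      ← map_mul, smul_eq_mul] at h
    refine Eq.trans ?_ (h.symm.trans ?_)
    · rw [← hchar]; rfl
    simp only [w, ite_mul, one_mul, zero_mul, ← Finset.sum_filter]
    rw [← nsmul_eq_mul, ← Finset.sum_const]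
    refine Finset.sum_congr rfl fun g hg => ?_
    obtain ⟨t, rfl⟩ := isConj_iff.mp (Finset.mem_filter.mp hg).2
    show ρ.character ((t * y⁻¹ * t⁻¹)⁻¹ * z) = _
    rw [hchar]
    have ht : t ∈ D ⊔ Subgroup.centralizer (D : Set G) := hG ▸ Subgroup.mem_top t
    haveI : D.Normal := Subgroup.normalizer_eq_top_iff.mp hN
    rw [← SetLike.mem_coe, Subgroup.normal_mul] at ht
    obtain ⟨d, hd, e, he, rfl⟩ := ht
    have hey : e * y * e⁻¹ = y := by
      rw [← Subgroup.mem_centralizer_iff.mp he y hy, mul_inv_cancel_right]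
    have hdz : d * z * d⁻¹ = z := by
      rw [Subgroup.mem_centralizer_iff.mp hz d hd, mul_inv_cancel_right]
    calc (θ : G → ℂ) ((d * e * y⁻¹ * (d * e)⁻¹)⁻¹ * z)
        = (θ : G → ℂ) (d * (e * y * e⁻¹) * d⁻¹ * (d * z * d⁻¹)) := by rw [hdz]; congr 1; group
      _ = (θ : G → ℂ) (d * (y * z) * d⁻¹) := by rw [hey]; congr 1; group
      _ = (θ : G → ℂ) (y * z) := Basic.isClassFunction_irr θ _ _
  have h1 := key 1 (one_mem _)
  rw [mul_one] at h1
  have hx' := key x hx
  have hn : ((Finset.univ.filter fun g => IsConj y⁻¹ g).card : ℂ) ≠ 0 :=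
    Nat.cast_ne_zero.mpr (Finset.card_pos.mpr ⟨y⁻¹, Finset.mem_filter.mpr ⟨Finset.mem_univ _, IsConj.refl _⟩⟩).ne'
  refine mul_left_cancel₀ hn ?_
  linear_combination (-(θ : G → ℂ) 1) * hx' + (θ : G → ℂ) x * h1

/-- An element of order prime to `p` centralizes `D`. -/
theorem mem_centralizer_of_regular {D : Subgroup G} (hD : IsPGroup p D)
    (hG : D ⊔ Subgroup.centralizer (D : Set G) = ⊤) [D.Normal] {x : G} (hx : ¬ p ∣ orderOf x) :
    x ∈ Subgroup.centralizer (D : Set G) := by
  set C := Subgroup.centralizer (D : Set G)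
  have hmem : x ∈ D ⊔ C := hG ▸ Subgroup.mem_top x
  rw [← SetLike.mem_coe, Subgroup.normal_mul] at hmem
  obtain ⟨d, hd, c, hc, rfl⟩ := hmem
  obtain ⟨i, hi⟩ := IsPGroup.iff_orderOf.mp hD ⟨d, hd⟩
  have hd1 : d ^ p ^ i = 1 := by
    rw [← hi, Subgroup.orderOf_mk]; exact pow_orderOf_eq_one d
  have hpow : (d * c) ^ p ^ i ∈ C := by
    rw [(show Commute d c from Subgroup.mem_centralizer_iff.mp hc d hd).mul_pow, hd1, one_mul]
    exact pow_mem hc _
  obtain ⟨m, hm⟩ := exists_pow_eq_self_of_coprime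
    ((((Fact.out : p.Prime).coprime_iff_not_dvd).mpr hx).pow_left i : (p ^ i).Coprime (orderOf (d * c)))
  exact hm ▸ pow_mem hpow m

theorem isPPart_mul {D : Subgroup G} (hD : IsPGroup p D) {y : G} (hy : y ∈ D) {x : G}
    (hx : ¬ p ∣ orderOf x) (hc : Commute y x) : Cfsg.IsPPart p (y * x) y := by
  obtain ⟨i, hi⟩ := IsPGroup.iff_orderOf.mp hD ⟨y, hy⟩
  exact ⟨x, rfl, hc, ⟨i, by rw [← hi, Subgroup.orderOf_mk]⟩, hx⟩

/-- Summation over the sections of the elements of `D`. -/
theorem sum_sections {D : Subgroup G} [D.Normal] [Fintype D] (hD : IsPGroup p D)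
    (hG : D ⊔ Subgroup.centralizer (D : Set G) = ⊤) (F : G → ℂ)
    (hF : ∀ z, (∀ y, Cfsg.IsPPart p z y → y ∉ D) → F z = 0) :
    ∑ z : G, F z = ∑ y : D, ∑ x : G, if p ∣ orderOf x then 0 else F ((y : G) * x) := by
  classical
  have hp : p.Prime := Fact.out
  have e : ∀ (y : D) (x : G), (if p ∣ orderOf x then 0 else F ((y : G) * x)) =
      ∑ z : G, if z = (y : G) * x ∧ ¬ p ∣ orderOf x then F z else 0 := by
    intro y x
    by_cases h : p ∣ orderOf x <;> simp [h]
  simp only [e]
  rw [Finset.sum_congr rfl fun y _ => Finset.sum_comm, Finset.sum_comm]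
  refine Finset.sum_congr rfl fun z _ => ?_
  obtain ⟨y₀, hy₀⟩ := Blocks.exists_isPPart hp z
  by_cases hy : y₀ ∈ D
  · obtain ⟨x₀, hz, hc, hord, hx₀⟩ := hy₀
    rw [Finset.sum_eq_single ⟨y₀, hy⟩, Finset.sum_eq_single x₀]
    · rw [if_pos ⟨hz.symm, hx₀⟩]
    · intro x _ hne
      rw [if_neg]
      rintro ⟨he, -⟩
      exact hne (mul_left_cancel (he.symm.trans hz.symm))
    · exact fun h => absurd (Finset.mem_univ _) h
    · intro y _ hne
      refine Finset.sum_eq_zero fun x _ => if_neg ?_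
      rintro ⟨he, hx⟩
      refine hne (Subtype.ext ?_)
      exact BrauerMap.PrincipalSection.isPPart_unique hp (g := z) (he ▸ isPPart_mul hD y.2 hx
        (Subgroup.mem_centralizer_iff.mp (mem_centralizer_of_regular hD hG hx) y y.2))
        ⟨x₀, hz, hc, hord, hx₀⟩
    · exact fun h => absurd (Finset.mem_univ _) h
  · rw [hF z fun y hy' => by rwa [BrauerMap.PrincipalSection.isPPart_unique hp hy' hy₀]]
    simp

end

/-- Let p be a prime, M a maximal ideal of the algebraic integers containing p, D a p-subgroup of the finite group G with G = D·C_G(D), and B a p-block with defect group D. Let χ be a member of B having D in its kernel (there is exactly one, the canonical character of B). Then the irreducible characters in B are exactly the functions θ on G for which there is an irreducible character ζ of D such that θ(yx) = ζ(y)χ(x) whenever y ∈ D, x has order prime to p and x commutes with y, and θ(z) = 0 whenever the p-part of z does not lie in D. -/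
theorem result {G : Type*} [Group G] [Finite G] (p : ℕ) [Fact p.Prime] (M : Ideal Cfsg.AlgInt) (hM : Cfsg.IsPModular p M) (D : Subgroup G) (hD : IsPGroup p D) (hG : D ⊔ Subgroup.centralizer (D : Set G) = ⊤) (B : Set (Cfsg.IrrCharacter G)) (hB : Cfsg.IsPBlock M B) (hBD : Cfsg.IsDefectGroup p M B D) (χ : Cfsg.IrrCharacter G) (hχ : χ ∈ B) (hχD : ∀ y ∈ D, (χ : G → ℂ) y = (χ : G → ℂ) 1) : (∀ θ : Cfsg.IrrCharacter G, θ ∈ B ↔ ∃ ζ : Cfsg.IrrCharacter D, (∀ (y : D) (x : G), ¬ p ∣ orderOf x → Commute (y : G) x → (θ : G → ℂ) ((y : G) * x) = (ζ : D → ℂ) y * (χ : G → ℂ) x) ∧ (∀ z : G, (∀ y : G, Cfsg.IsPPart p z y → y ∉ D) → (θ : G → ℂ) z = 0)) ∧ ∀ ζ : Cfsg.IrrCharacter D, ∃ θ ∈ B, (∀ (y : D) (x : G), ¬ p ∣ orderOf x → Commute (y : G) x → (θ : G → ℂ) ((y : G) * x) = (ζ : D → ℂ) y * (χ : G → ℂ) x) ∧ (∀ z : G, (∀ y : G, Cfsg.IsPPart p z y → y ∉ D) → (θ : G → ℂ) z = 0) := by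
  classical
  haveI := hM.2.1
  haveI := Fintype.ofFinite G
  haveI := Fintype.ofFinite D
  haveI := Fintype.ofFinite (Cfsg.IrrCharacter G)
  have hp : p.Prime := Fact.out
  haveI : D.Normal := Subgroup.normalizer_eq_top_iff.mp
    (top_unique (hG ▸ sup_le Subgroup.le_normalizer (Subgroup.centralizer_le_normalizer _)))
  have hcen : ∀ {x : G}, ¬ p ∣ orderOf x → x ∈ Subgroup.centralizer (D : Set G) :=
    fun hx => mem_centralizer_of_regular hD hG hx
  -- characters of the block vanish off the sections of `D`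
  have hvan : ∀ θ ∈ B, ∀ z : G, (∀ y, Cfsg.IsPPart p z y → y ∉ D) → (θ : G → ℂ) z = 0 := by
    intro θ hθ z hz
    obtain ⟨y, hy⟩ := Blocks.exists_isPPart hp z
    refine Blocks.char_eq_zero_of_pPart_notMem hM hB hBD hy (fun t ht => hz y hy ?_) hθ
    have := Subgroup.Normal.conj_mem (inferInstance : D.Normal) _ ht t
    simpa [mul_assoc] using this
  -- the constituent on `D`
  have heta : ∀ θ : Cfsg.IrrCharacter G, ∃ η : Cfsg.IrrCharacter D, ∀ y : D,
      (θ : G → ℂ) y * (η : D → ℂ) 1 = (η : D → ℂ) y * (θ : G → ℂ) 1 := by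
    intro θ
    have hres : Cfsg.IsCharacter D (fun y : D => (θ : G → ℂ) y) :=
      Basic.isCharacter_comp D.subtype (Basic.isCharacter_irr θ)
    obtain ⟨η, hη⟩ : ∃ η : Cfsg.IrrCharacter D,
        Cfsg.classInner (fun y : D => (θ : G → ℂ) y) η ≠ 0 := by
      by_contra h
      push Not at h
      have h2 := congrFun (Basic.character_eq_finsum hres) 1
      simp only [h, zero_smul, finsum_zero, Pi.zero_apply, OneMemClass.coe_one] at h2
      exact Basic.apply_one_ne_zero θ h2
    have hconj : ∀ g : G, Clifford.Basic.conjC D g (η : D → ℂ) = (η : D → ℂ) := by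
      intro g
      have hg : g ∈ D ⊔ Subgroup.centralizer (D : Set G) := hG ▸ Subgroup.mem_top g
      rw [← SetLike.mem_coe, Subgroup.normal_mul] at hg
      obtain ⟨d, hd, e, he, rfl⟩ := hg
      funext y
      refine Eq.trans ?_ (Basic.isClassFunction_irr η y ⟨d, hd⟩)
      refine congrArg (η : D → ℂ) (Subtype.ext ?_)
      have hey : e * (y : G) * e⁻¹ = y := by
        rw [← Subgroup.mem_centralizer_iff.mp he y y.2, mul_inv_cancel_right]
      calc d * e * (y : G) * (d * e)⁻¹ = d * (e * (y : G) * e⁻¹) * d⁻¹ := by group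
        _ = _ := by rw [hey]; rfl
    have hcl := Clifford.Basic.clifford D θ.2 η hη
    refine ⟨η, fun y => ?_⟩
    have hy := congrFun hcl y
    have h1 := congrFun hcl 1
    simp only [hconj, Finset.sum_const, Pi.smul_apply, nsmul_eq_mul, smul_eq_mul, Pi.mul_apply, Pi.natCast_apply,
      OneMemClass.coe_one] at hy h1
    rw [hy, h1]; ring
  choose η hη using heta
  have hprod : ∀ (θ : Cfsg.IrrCharacter G) (y : D) (x : G), ¬ p ∣ orderOf x →
      (θ : G → ℂ) ((y : G) * x) * (η θ : D → ℂ) 1 = (η θ : D → ℂ) y * (θ : G → ℂ) x := by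
    intro θ y x hx
    have h := apply_mul_mul θ hG y.2 (hcen hx)
    refine mul_left_cancel₀ (Basic.apply_one_ne_zero θ) ?_
    linear_combination (η θ : D → ℂ) 1 * h + (θ : G → ℂ) x * hη θ y
  -- inner products of functions supported on the sections
  have hinner : ∀ (f : G → ℂ) (ζ : Cfsg.IrrCharacter D) (θ : Cfsg.IrrCharacter G)
      (u : G → ℂ), (∀ (y : D) (x : G), ¬ p ∣ orderOf x →
        f ((y : G) * x) = (ζ : D → ℂ) y * u x) →
      (∀ z, (∀ y, Cfsg.IsPPart p z y → y ∉ D) → f z = 0) →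
      Cfsg.classInner f θ * (η θ : D → ℂ) 1 * Nat.card G =
        Nat.card D * Cfsg.classInner (ζ : D → ℂ) (η θ) * regSum p u (θ : G → ℂ) := by
    intro f ζ θ u hf hf0
    have hG0 : (Nat.card G : ℂ) ≠ 0 := Nat.cast_ne_zero.mpr Nat.card_pos.ne'
    have hD0 : (Nat.card D : ℂ) ≠ 0 := Nat.cast_ne_zero.mpr Nat.card_pos.ne'
    rw [Cfsg.classInner, Cfsg.classInner, mul_inv_cancel_left₀ hD0, regSum_eq_sum,
      Finset.sum_mul_sum, mul_comm _ (Nat.card G : ℂ), ← mul_assoc,
      mul_inv_cancel_left₀ hG0,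
      sum_sections hD hG _ (fun z hz => by rw [hf0 z hz, zero_mul]), Finset.sum_mul]
    refine Finset.sum_congr rfl fun y _ => ?_
    rw [Finset.sum_mul]
    refine Finset.sum_congr rfl fun x _ => ?_
    by_cases hx : p ∣ orderOf x
    · simp [hx]
    · rw [if_neg hx, if_neg hx, hf y x hx, Basic.apply_inv (Basic.isCharacter_irr θ)]
      have h := congrArg conj (hprod θ y x hx)
      rw [map_mul, map_mul, Basic.conj_apply_one (Basic.isCharacter_irr (η θ))] at h
      linear_combination ((ζ : D → ℂ) y * u x) * h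
  -- `χ` is the only member of the block with `D` in its kernel and has height zero
  have hχmul : ∀ (y : D) (x : G), ¬ p ∣ orderOf x →
      (χ : G → ℂ) ((y : G) * x) = (χ : G → ℂ) x := by
    intro y x hx
    have h := apply_mul_mul χ hG y.2 (hcen hx)
    rw [hχD y y.2, mul_comm] at h
    exact mul_left_cancel₀ (Basic.apply_one_ne_zero χ) h
  have hht : vdeg p χ = minVdeg p B := by
    have hle : D ≤ BlocksChars5.Basic.charKer χ := fun y hy =>
      (BlocksChars5.Basic.mem_charKer χ y).mpr (hχD y hy)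
    obtain ⟨χ', hχ'⟩ := BlocksChars5.Basic.exists_deflate χ D hle
    haveI := Fintype.ofFinite (G ⧸ D)
    have hdeg : Cfsg.charDegree (χ : G → ℂ) = Cfsg.charDegree (χ' : G ⧸ D → ℂ) :=
      BlocksChars5.Basic.charDegree_congr (by
        rw [← hχ', BlocksChars5.Basic.inflate_apply, QuotientGroup.mk_one])
    have hdvd : Cfsg.charDegree (χ : G → ℂ) ∣ D.index := by
      rw [hdeg, Subgroup.index_eq_card]; exact BlocksChars5.Basic.degree_dvd_card χ'
    have hcard := Blocks.card_isDefectGroup hM hB hBD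
    have hsum := minVdeg_add_blockDefect (p := p) hB
    have hle' : minVdeg p B ≤ vdeg p χ := minVdeg_le hχ
    have hidx : D.index.factorization p + Cfsg.blockDefect p B =
        (Nat.card G).factorization p := by
      rw [← D.index_mul_card, Nat.factorization_mul Subgroup.index_ne_zero_of_finite
        Nat.card_pos.ne', Finsupp.add_apply, hcard, hp.factorization_pow, Finsupp.single_eq_same]
    have hup : vdeg p χ ≤ D.index.factorization p :=
      (Nat.factorization_le_iff_dvd (BlocksChars5.Basic.degree_pos χ).ne'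
        Subgroup.index_ne_zero_of_finite).mpr hdvd p
    omega
  have hG0 : (Nat.card G : ℂ) ≠ 0 := Nat.cast_ne_zero.mpr Nat.card_pos.ne'
  have hD0 : (Nat.card D : ℂ) ≠ 0 := Nat.cast_ne_zero.mpr Nat.card_pos.ne'
  have hreg0 : ∀ θ ψ : Cfsg.IrrCharacter G, θ ∈ B → ψ ∉ B →
      regSum p (θ : G → ℂ) (ψ : G → ℂ) = 0 := by
    intro θ ψ hθ hψ
    rw [regSum_eq_contribN, contribN_eq_zero hM hB hθ hψ, Int.cast_zero, mul_zero]
  have hker : ∀ θ : Cfsg.IrrCharacter G, (η θ : D → ℂ) = (fun _ => 1) →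
      ∀ (y : D) (x : G), ¬ p ∣ orderOf x → (θ : G → ℂ) ((y : G) * x) = (θ : G → ℂ) x := by
    intro θ h y x hx
    have := hprod θ y x hx
    simpa [h] using this
  have huniq : ∀ θ ∈ B, (η θ : D → ℂ) = (fun _ => 1) → θ = χ := by
    intro θ hθ h
    by_contra hne
    have h1 := hinner (χ : G → ℂ) (Basic.oneChar D) θ (χ : G → ℂ)
      (fun y x hx => by rw [Basic.oneChar_apply, one_mul, hχmul y x hx]) (hvan χ hχ)
    rw [Basic.classInner_irr_of_ne (Ne.symm hne), zero_mul, zero_mul,
      show η θ = Basic.oneChar D from Subtype.ext h, Basic.classInner_self_irr, mul_one] at h1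
    have h2 := (mul_eq_zero.mp h1.symm).resolve_left hD0
    rw [regSum_eq_contribN] at h2
    rcases mul_eq_zero.mp h2 with h3 | h3
    · exact absurd h3 (Nat.cast_ne_zero.mpr (primeToCard_pos p).ne')
    · exact contribN_ne_zero hM hB hχ hht hθ (Int.cast_eq_zero.mp h3)
  -- all regular parts are multiples of that of `χ`
  have hscal : ∀ θ ∈ B, ∃ c : ℂ, ∀ x : G, ¬ p ∣ orderOf x →
      (θ : G → ℂ) x = c * (χ : G → ℂ) x := by
    intro θ hθ
    let f : G → ℂ := fun z => if ∃ y ∈ D, Cfsg.IsPPart p z y then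
      (θ : G → ℂ) ((Classical.choose (Blocks.exists_isPPart hp z))⁻¹ * z) else 0
    have hfval : ∀ (y : D) (x : G), ¬ p ∣ orderOf x →
        f ((y : G) * x) = (Basic.oneChar D : D → ℂ) y * (θ : G → ℂ) x := by
      intro y x hx
      have hpp := isPPart_mul hD y.2 hx (Subgroup.mem_centralizer_iff.mp (hcen hx) y y.2)
      simp only [f, if_pos (show ∃ y' ∈ D, Cfsg.IsPPart p ((y : G) * x) y' from ⟨y, y.2, hpp⟩)]
      rw [BrauerMap.PrincipalSection.isPPart_unique hp
        (Classical.choose_spec (Blocks.exists_isPPart hp ((y : G) * x))) hpp,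
        inv_mul_cancel_left, Basic.oneChar_apply, one_mul]
    have hf0 : ∀ z, (∀ y, Cfsg.IsPPart p z y → y ∉ D) → f z = 0 := fun z hz =>
      if_neg fun ⟨y, hy, hpp⟩ => hz y hpp hy
    have hfcl : Cfsg.IsClassFunction G f := by
      intro z h
      obtain ⟨y, hy⟩ := Blocks.exists_isPPart hp z
      have hy' := Blocks.isPPart_conj hy h
      by_cases hyD : y ∈ D
      · obtain ⟨x, hzx, hc, -, hx⟩ := hy
        have hx' : ¬ p ∣ orderOf (h * x * h⁻¹) := by
          rwa [show h * x * h⁻¹ = MulAut.conj h x from rfl, (MulAut.conj h).orderOf_eq]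
        have hyD' : h * y * h⁻¹ ∈ D := Subgroup.Normal.conj_mem inferInstance _ hyD h
        rw [← hzx, show h * (y * x) * h⁻¹ = h * y * h⁻¹ * (h * x * h⁻¹) by group]
        rw [hfval ⟨_, hyD'⟩ _ hx', hfval ⟨y, hyD⟩ x hx, Basic.oneChar_apply, Basic.oneChar_apply,
          one_mul, one_mul]
        exact Basic.isClassFunction_irr θ x h
      · rw [hf0 z fun y' h' => by rwa [BrauerMap.PrincipalSection.isPPart_unique hp h' hy],
          hf0 _ fun y' h' => by
            rw [BrauerMap.PrincipalSection.isPPart_unique hp h' hy']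
            exact fun hh => hyD (by
              have := Subgroup.Normal.conj_mem (inferInstance : D.Normal) _ hh h⁻¹
              simpa [mul_assoc] using this)]
    refine ⟨Cfsg.classInner f χ, fun x hx => ?_⟩
    have hexp := congrFun (Complete.classFunction_eq_sum hfcl) x
    have hfx := hfval 1 x hx
    rw [OneMemClass.coe_one, one_mul, Basic.oneChar_apply, one_mul] at hfx
    rw [← hfx, hexp, Finset.sum_apply, Finset.sum_eq_single χ]
    · rfl
    · intro ψ _ hne
      have h := hinner f (Basic.oneChar D) ψ (θ : G → ℂ) hfval hf0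
      have h0 : Cfsg.classInner (Basic.oneChar D : D → ℂ) (η ψ) *
          regSum p (θ : G → ℂ) (ψ : G → ℂ) = 0 := by
        by_cases he : η ψ = Basic.oneChar D
        · rw [hreg0 θ ψ hθ fun hψ => hne (huniq ψ hψ (congrArg Subtype.val he)), mul_zero]
        · rw [Basic.classInner_irr_of_ne (Ne.symm he), zero_mul]
      rw [mul_assoc _ (Cfsg.classInner _ _), h0, mul_zero, mul_eq_zero, mul_eq_zero] at h
      rw [Pi.smul_apply, (h.resolve_right hG0).resolve_right (Basic.apply_one_ne_zero _), zero_smul]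
    · exact fun h => absurd (Finset.mem_univ _) h
  -- the formula on the block
  have hformula : ∀ θ ∈ B, ∀ (y : D) (x : G), ¬ p ∣ orderOf x →
      (θ : G → ℂ) ((y : G) * x) = (η θ : D → ℂ) y * (χ : G → ℂ) x := by
    intro θ hθ
    obtain ⟨c, hc⟩ := hscal θ hθ
    obtain ⟨a, ha, ha'⟩ := Basic.exists_degree_pos θ
    obtain ⟨b, hb, hb'⟩ := Basic.exists_degree_pos χ
    obtain ⟨e, he, he'⟩ := Basic.exists_degree_pos (η θ)
    have h1 := hc 1 (by rw [orderOf_one]; exact hp.not_dvd_one)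
    rw [ha', hb'] at h1
    have hχn := hinner (χ : G → ℂ) (Basic.oneChar D) χ (χ : G → ℂ)
      (fun y x hx => by rw [Basic.oneChar_apply, one_mul, hχmul y x hx]) (hvan χ hχ)
    have hηχ : η χ = Basic.oneChar D := by
      refine Subtype.ext (funext fun y => ?_)
      have h := hη χ y
      rw [hχD y y.2, mul_comm] at h
      have h' := mul_right_cancel₀ (Basic.apply_one_ne_zero χ) h
      have hn := Basic.classInner_self_irr (η χ)
      rw [Cfsg.classInner, Finset.sum_congr rfl fun z _ => show (η χ : D → ℂ) z *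
          conj ((η χ : D → ℂ) z) = (η χ : D → ℂ) 1 * conj ((η χ : D → ℂ) 1) by
        have hz := hη χ z
        rw [hχD z z.2, mul_comm] at hz
        rw [← mul_right_cancel₀ (Basic.apply_one_ne_zero χ) hz],
        Finset.sum_const, Finset.card_univ, nsmul_eq_mul, ← Nat.card_eq_fintype_card,
        inv_mul_cancel_left₀ hD0, Basic.conj_apply_one (Basic.isCharacter_irr _)] at hn
      obtain ⟨m, -, hm⟩ := Basic.exists_degree_pos (η χ)
      rw [hm, ← Nat.cast_mul, ← Nat.cast_one, Nat.cast_inj] at hn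
      rw [Basic.oneChar_apply, ← h', hm, Nat.eq_one_of_mul_eq_one_right hn, Nat.cast_one]
    rw [Basic.classInner_self_irr, hηχ, Basic.classInner_self_irr, Basic.oneChar_apply, one_mul,
      one_mul, mul_one] at hχn
    have hθn := hinner (θ : G → ℂ) (η θ) θ (fun x => (θ : G → ℂ) x / (η θ : D → ℂ) 1)
      (fun y x hx => by
        rw [← mul_div_assoc, ← hprod θ y x hx,
          mul_div_cancel_right₀ _ (Basic.apply_one_ne_zero _)])
      (hvan θ hθ)
    rw [Basic.classInner_self_irr, Basic.classInner_self_irr, one_mul, mul_one, he'] at hθn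
    have hS : regSum p (fun x => (θ : G → ℂ) x / (e : ℂ)) (θ : G → ℂ) =
        (a : ℂ) / b * ((a : ℂ) / b) / e * regSum p (χ : G → ℂ) (χ : G → ℂ) := by
      have hca : c = (a : ℂ) / b := by
        rw [h1, mul_div_cancel_right₀ _ (Nat.cast_ne_zero.mpr hb.ne')]
      rw [regSum_eq_sum, regSum_eq_sum, Finset.mul_sum]
      refine Finset.sum_congr rfl fun x _ => ?_
      by_cases hx : p ∣ orderOf x
      · simp [hx]
      · rw [if_neg hx, if_neg hx, hc x hx, hc x⁻¹ (by rwa [orderOf_inv]), hca]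
        ring
    rw [hS] at hθn
    have hab : (a : ℂ) / b * ((a : ℂ) / b) = (e : ℂ) * e := by
      have he0 : (e : ℂ) ≠ 0 := Nat.cast_ne_zero.mpr he.ne'
      refine mul_right_cancel₀ hG0 ?_
      conv_lhs => rw [hχn]
      have h2 := congrArg (· * (e : ℂ)) hθn
      field_simp at h2 ⊢
      linear_combination -h2
    have hae : a = e * b := by
      have hb0 : (b : ℂ) ≠ 0 := Nat.cast_ne_zero.mpr hb.ne'
      field_simp at hab
      have : a ^ 2 = (e * b) ^ 2 := by exact_mod_cast (by linear_combination hab : (a : ℂ) ^ 2 = (e * b) ^ 2)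
      exact Nat.pow_left_injective two_ne_zero this
    intro y x hx
    refine mul_right_cancel₀ (Basic.apply_one_ne_zero (η θ)) ?_
    rw [hprod θ y x hx, hc x hx, he']
    have : c = e := by
      refine mul_right_cancel₀ (Nat.cast_ne_zero.mpr hb.ne' : (b : ℂ) ≠ 0) ?_
      rw [← h1, hae, Nat.cast_mul]
    rw [this]; ring
  -- every character of `D` occurs
  have hex : ∀ ζ : Cfsg.IrrCharacter D, ∃ θ ∈ B, η θ = ζ := by
    intro ζ
    by_contra hno
    push Not at hno
    let f : G → ℂ := fun z => if h : ∃ y ∈ D, Cfsg.IsPPart p z y then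
      (ζ : D → ℂ) ⟨h.choose, h.choose_spec.1⟩ * (χ : G → ℂ) (h.choose⁻¹ * z) else 0
    have hfval : ∀ (y : D) (x : G), ¬ p ∣ orderOf x →
        f ((y : G) * x) = (ζ : D → ℂ) y * (χ : G → ℂ) x := by
      intro y x hx
      have hpp := isPPart_mul hD y.2 hx (Subgroup.mem_centralizer_iff.mp (hcen hx) y y.2)
      have h : ∃ y' ∈ D, Cfsg.IsPPart p ((y : G) * x) y' := ⟨y, y.2, hpp⟩
      simp only [f, dif_pos h]
      have e := BrauerMap.PrincipalSection.isPPart_unique hp h.choose_spec.2 hpp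
      rw [show (⟨h.choose, h.choose_spec.1⟩ : D) = y from Subtype.ext e, e, inv_mul_cancel_left]
    have hf0 : ∀ z, (∀ y, Cfsg.IsPPart p z y → y ∉ D) → f z = 0 := fun z hz =>
      dif_neg fun ⟨y, hy, hpp⟩ => hz y hpp hy
    have hfcl : Cfsg.IsClassFunction G f := by
      intro z h
      obtain ⟨y, hy⟩ := Blocks.exists_isPPart hp z
      have hy' := Blocks.isPPart_conj hy h
      by_cases hyD : y ∈ D
      · obtain ⟨x, hzx, hc, -, hx⟩ := hy
        have hx' : ¬ p ∣ orderOf (h * x * h⁻¹) := by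
          rwa [show h * x * h⁻¹ = MulAut.conj h x from rfl, (MulAut.conj h).orderOf_eq]
        have hyD' : h * y * h⁻¹ ∈ D := Subgroup.Normal.conj_mem inferInstance _ hyD h
        rw [← hzx, show h * (y * x) * h⁻¹ = h * y * h⁻¹ * (h * x * h⁻¹) by group]
        rw [hfval ⟨_, hyD'⟩ _ hx', hfval ⟨y, hyD⟩ x hx, Basic.isClassFunction_irr χ x h]
        congr 1
        have hh : h ∈ D ⊔ Subgroup.centralizer (D : Set G) := hG ▸ Subgroup.mem_top h
        rw [← SetLike.mem_coe, Subgroup.normal_mul] at hh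
        obtain ⟨d, hd, e, he, rfl⟩ := hh
        refine Eq.trans (congrArg (ζ : D → ℂ) (Subtype.ext ?_))
          (Basic.isClassFunction_irr ζ ⟨y, hyD⟩ ⟨d, hd⟩)
        have hey : e * y * e⁻¹ = y := by
          rw [← Subgroup.mem_centralizer_iff.mp he y hyD, mul_inv_cancel_right]
        calc d * e * y * (d * e)⁻¹ = d * (e * y * e⁻¹) * d⁻¹ := by group
          _ = _ := by rw [hey]; rfl
      · rw [hf0 z fun y' h' => by rwa [BrauerMap.PrincipalSection.isPPart_unique hp h' hy],
          hf0 _ fun y' h' => by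
            rw [BrauerMap.PrincipalSection.isPPart_unique hp h' hy']
            exact fun hh => hyD (by
              have := Subgroup.Normal.conj_mem (inferInstance : D.Normal) _ hh h⁻¹
              simpa [mul_assoc] using this)]
    have h0 : f = 0 := Complete.eq_zero_of_classInner_eq_zero hfcl fun ψ => by
      have h := hinner f ζ ψ (χ : G → ℂ) hfval hf0
      have h0 : Cfsg.classInner (ζ : D → ℂ) (η ψ) * regSum p (χ : G → ℂ) (ψ : G → ℂ) = 0 := by
        by_cases hψ : ψ ∈ B
        · rw [Basic.classInner_irr_of_ne (Ne.symm (hno ψ hψ)), zero_mul]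
        · rw [hreg0 χ ψ hχ hψ, mul_zero]
      rw [mul_assoc _ (Cfsg.classInner _ _), h0, mul_zero, mul_eq_zero, mul_eq_zero] at h
      exact (h.resolve_right hG0).resolve_right (Basic.apply_one_ne_zero _)
    have h1 := hfval 1 1 (by rw [orderOf_one]; exact hp.not_dvd_one)
    rw [h0, Pi.zero_apply] at h1
    exact mul_ne_zero (Basic.apply_one_ne_zero ζ) (Basic.apply_one_ne_zero χ) h1.symm
  have hsecond : ∀ ζ : Cfsg.IrrCharacter D, ∃ θ ∈ B, (∀ (y : D) (x : G), ¬ p ∣ orderOf x →
      Commute (y : G) x → (θ : G → ℂ) ((y : G) * x) = (ζ : D → ℂ) y * (χ : G → ℂ) x) ∧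
      (∀ z : G, (∀ y : G, Cfsg.IsPPart p z y → y ∉ D) → (θ : G → ℂ) z = 0) := by
    intro ζ
    obtain ⟨θ, hθ, rfl⟩ := hex ζ
    exact ⟨θ, hθ, fun y x hx _ => hformula θ hθ y x hx, hvan θ hθ⟩
  refine ⟨fun θ => ⟨fun hθ => ⟨η θ, fun y x hx _ => hformula θ hθ y x hx, hvan θ hθ⟩, ?_⟩, hsecond⟩
  rintro ⟨ζ, h1, h2⟩
  obtain ⟨θ', hθ', h1', h2'⟩ := hsecond ζ
  suffices θ = θ' by rwa [this]
  refine Subtype.ext (funext fun z => ?_)
  obtain ⟨y, hy⟩ := Blocks.exists_isPPart hp z
  by_cases hyD : y ∈ D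
  · obtain ⟨x, hzx, hc, -, hx⟩ := hy
    rw [← hzx, h1 ⟨y, hyD⟩ x hx hc, h1' ⟨y, hyD⟩ x hx hc]
  · have hz : ∀ y' : G, Cfsg.IsPPart p z y' → y' ∉ D := fun y' h' => by
      rwa [BrauerMap.PrincipalSection.isPPart_unique hp h' hy]
    rw [h2 z hz, h2' z hz]

end Cfsg.Agent.S4714
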