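import Cfsg.Statements.S4715
import Cfsg.Agent.Lib.Blocks.SectionHeight
import Cfsg.Agent.Lib.BrauerPairs.Kernel
import Cfsg.Agent.Lib.BrauerPairs.Lift
import Cfsg.Agent.Lib.BrauerPairs.Abelian

set_option autoImplicit false
open Cfsg

namespace Cfsg.Agent.S4715

open MonoidAlgebra Cfsg.Agent.Lib.BrauerMap.Basic Cfsg.Agent.Lib.BrauerPairs.Center Cfsg.Agent.Lib.BrauerPairs.Trunc Cfsg.Agent.Lib.BrauerPairs.Conj Cfsg.Agent.Lib.BrauerPairs.Pairs Cfsg.Agent.Lib.BrauerPairs.Transport Cfsg.Agent.Lib.BrauerPairs.Maximal Cfsg.Agent.Lib.BrauerPairs.Bridge Cfsg.Agent.Lib.BrauerPairs.Local Cfsg.Agent.Lib.BrauerPairs.Fusion Cfsg.Agent.Lib.BrauerPairs.Embed Cfsg.Agent.Lib.Blocks.SectionHeight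

attribute [local instance] Ideal.Quotient.field

universe u

variable {M : Ideal Cfsg.AlgInt} [M.IsMaximal] {G : Type u} [Group G] [Finite G] {p : ℕ}
  [Fact p.Prime] [CharP (Res M) p]

local notation "C[" P "]" => Subgroup.centralizer (SetLike.coe P)

/-- A map between pairs at subgroups central in the maximal pair extends to it. -/
theorem exists_mul_mem_stab_of_central {b : Idx (Res M) G} (hb : Top p b) {a : Idx (Res M) G}
    {g : G} (ha : Le p a b) (hga : Le p (cPair g a) b) (h1 : b.1 ≤ C[a.1])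
    (h2 : b.1 ≤ C[(cPair g a).1]) : ∃ z ∈ C[(cPair g a).1], z * g ∈ stab b := by
  have hP : b.1 ≤ b.1 ⊓ Subgroup.normalizer (a.1 : Set G) :=
    le_inf le_rfl (h1.trans (Subgroup.centralizer_le_normalizer _))
  have hmax : ∀ g' : G, Le p (cPair g' (cPair g a)) b →
      Nat.card ↥(b.1.map (MulAut.conj g'⁻¹).toMonoidHom ⊓
          Subgroup.normalizer ((cPair g a).1 : Set G)) ≤
        Nat.card ↥(b.1 ⊓ Subgroup.normalizer ((cPair g a).1 : Set G)) := by
    intro g' _
    rw [inf_of_le_left (h2.trans (Subgroup.centralizer_le_normalizer _))]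
    refine (Nat.le_of_dvd Nat.card_pos (Subgroup.card_dvd_of_le inf_le_left)).trans ?_
    rw [card_map_conj]
  obtain ⟨μ, hμ, z, hz, hle⟩ := exists_extension hb hga hmax ha (g := g) rfl ha.subgroup_le hP
    (fun n hn => Subgroup.mem_sup_left ((mem_centralizer_map_iff g a.1 n).mp (h1 hn)))
  have hμb : (⟨b.1, μ⟩ : Idx (Res M) G) = b :=
    eq_of_le_of_le hb.1 rfl hμ Relation.ReflTransGen.refl
  rw [hμb] at hle
  exact ⟨z, hz, mem_stab.mpr (eq_of_le_of_le hb.1
    (Subgroup.eq_of_le_of_card_ge hle.subgroup_le (card_map_conj (z * g) b.1).ge)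
    hle Relation.ReflTransGen.refl)⟩

theorem commute_centralizer {Q : Subgroup G} {c : G} (hc : c ∈ C[Q]) {q : G} (hq : q ∈ Q) :
    Commute q c := Subgroup.mem_centralizer_iff.mp hc q hq

theorem zpowers_le_centralizer {P : Subgroup G} {x : G} (h : x ∈ C[P]) :
    P ≤ C[Subgroup.zpowers x] := fun q hq => Subgroup.mem_centralizer_iff.mpr fun y hy => by
  obtain ⟨k, rfl⟩ := Subgroup.mem_zpowers_iff.mp hy
  exact ((commute_centralizer h hq).symm.zpow_left k).eq

/-- A block with a conjugate having the same truncation is stable. -/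
theorem conjA_eq_of_val {H D : Subgroup G} (hD : IsPGroup p D) (hDH : D ≤ H) (hC : C[D] ≤ H)
    {g : G} (hgH : ∀ h, h ∈ H ↔ g * h * g⁻¹ ∈ H) (ω : Blk (Res M) H) {ν : Blk (Res M) C[D]}
    (hν : val D ν (bext H ω) = 1) (hg : g ∈ stab (⟨D, ν⟩ : Idx (Res M) G)) :
    cBlk g H H hgH ω = ω := by
  by_contra hne
  set a := bext H ω
  set a' := bext H (cBlk g H H hgH ω)
  have hfix : ∀ φ : Blk (Res M) H, IsFixedBy D (bext H φ) ∧ IsFixedBy C[D] (bext H φ) :=
    fun φ => ⟨isFixedBy_mono hDH (isFixedBy_bext H φ), isFixedBy_mono hC (isFixedBy_bext H φ)⟩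
  have hν' : val D ν a' = 1 := by
    have he : a' = conjA g a := bext_cBlk g H H hgH ω
    rw [he]
    have hmem : ∀ c, c ∈ C[D] ↔ g * c * g⁻¹ ∈ C[D] := fun c =>
      mem_centralizer_conj_iff (stab_le_normalizer _ hg) c
    have hν2 : cBlk g C[D] C[D] hmem ν = ν := bext_injective C[D] (by
      rw [bext_cBlk]
      exact (mem_stab_iff.mp hg).2)
    have hfix' : IsFixedBy C[D] (conjA g a) := he ▸ (hfix _).2
    conv_lhs => rw [← hν2]
    exact (val_cBlk g D D hmem ν a (hfix ω).2 hfix').trans hν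
  have h1 := Cfsg.Agent.Lib.BrauerPairs.Kernel.br_mul_bidem hD (bext_isIdem H ω)
    (hfix ω).1 (hfix ω).2 hν
  have h2 := Cfsg.Agent.Lib.BrauerPairs.Kernel.br_mul_bidem hD (bext_isIdem H _)
    (hfix _).1 (hfix _).2 hν'
  have h3 : br D a * br D a' = 0 := by
    rw [← br_mul hD (hfix ω).1 (hfix _).1, bext_mul_bext H (Ne.symm hne), br_zero]
  have h4 : bidem ν = 0 := by
    conv_lhs => rw [← h1, ← h2, ← mul_assoc, h3, zero_mul]
  have h5 : idem ν = 0 := Subtype.ext h4
  have h6 := apply_idem_self ν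
  rw [h5, map_zero] at h6
  exact zero_ne_one h6


/-- Let p be a prime, M a maximal ideal of the algebraic integers containing p, B a p-block of the finite group G with defect group D of order p^d, H = D·C_G(D), b a block of H inducing B, T the stabilizer of b in N_G(D) and e = [T : H] the inertial index of B; let n be the integer with p^n ≤ e < p^(n+1) and p^c the order of the centre of D. Then every irreducible character in B has height h with h + c ≤ n + d. -/
theorem result {G : Type*} [Group G] [Finite G] (p : ℕ) [Fact p.Prime] (M : Ideal Cfsg.AlgInt) (hM : Cfsg.IsPModular p M) (B : Set (Cfsg.IrrCharacter G)) (hB : Cfsg.IsPBlock M B) (D : Subgroup G) (hBD : Cfsg.IsDefectGroup p M B D) (d : ℕ) (hDd : Nat.card D = p ^ d) (H : Subgroup G) (hH : H = D ⊔ Subgroup.centralizer (D : Set G)) (b : Set (Cfsg.IrrCharacter H)) (hind : Cfsg.IsInducedBlock M H b B) (T : Subgroup G) (hT : ∀ g : G, g ∈ T ↔ (g ∈ Subgroup.normalizer (D : Set G) ∧ ∀ θ ∈ b, ∀ θ' : Cfsg.IrrCharacter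 H, (∀ h h' : H, (h' : G) = g * h * g⁻¹ → (θ' : H → ℂ) h' = (θ : H → ℂ) h) → θ' ∈ b)) (e : ℕ) (he : H.relIndex T = e) (n : ℕ) (hn : p ^ n ≤ e ∧ e < p ^ (n + 1)) (c : ℕ) (hc : Nat.card (Subgroup.center D) = p ^ c) : ∀ χ ∈ B, Cfsg.blockHeight p B (χ : G → ℂ) + c ≤ n + d := by
  classical
  haveI := hM.2.1
  haveI := charP_res hM
  haveI := Fintype.ofFinite G
  have hp : p.Prime := Fact.out
  intro χ hχ
  have hDdef := (isDefectGroup_iff hB D).mp hBD
  have hDp : IsPGroup p D := hDdef.isPGroup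
  have hdB : Cfsg.blockDefect p B = d := Nat.pow_right_injective hp.two_le
    ((Cfsg.Agent.Lib.Blocks.card_isDefectGroup hM hB hBD).symm.trans hDd)
  have hDH : D ≤ H := hH ▸ le_sup_left
  have hCH : C[D] ≤ H := hH ▸ le_sup_right
  have hHN : H ≤ Subgroup.normalizer (D : Set G) :=
    hH ▸ sup_le Subgroup.le_normalizer (Subgroup.centralizer_le_normalizer _)
  have hb := hind.1
  -- the pair below `b`
  obtain ⟨ν, hν⟩ : ∃ ν : Blk (Res M) C[D], val D ν (bext H (blk hb)) = 1 := by
    haveI : (D.subgroupOf H).Normal :=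
      (Subgroup.normal_subgroupOf_iff_le_normalizer hDH).mpr hHN
    have hDp' : IsPGroup p (D.subgroupOf H) :=
      hDp.comap_of_injective H.subtype H.subtype_injective
    obtain ⟨h, hh⟩ : ∃ h : H, (bidem (blk hb)).coeff h ≠ 0 := by
      by_contra hno
      push Not at hno
      have h0 : idem (blk hb) = 0 := Subtype.ext (MonoidAlgebra.ext (Finsupp.ext hno))
      have h1 := apply_idem_self (blk hb)
      rw [h0, map_zero] at h1
      exact zero_ne_one h1
    have hhC : (h : G) ∈ C[D] := by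
      rw [← mem_centralizer_subgroupOf_iff hDH]
      by_contra hcon
      apply hh
      rw [Cfsg.Agent.Lib.BrauerPairs.Lift.bidem_eq_ext_br hDp' (blk hb),
        coeff_ext_of_notMem _ _ hcon]
    refine Cfsg.Agent.Lib.BrauerPairs.Kernel.exists_val hDp (bext_isIdem _ _)
      (isFixedBy_mono hDH (isFixedBy_bext H _)) (isFixedBy_mono hCH (isFixedBy_bext H _)) hhC ?_
    rw [bext, coeff_ext]
    exact hh
  set P : Idx (Res M) G := ⟨D, ν⟩ with hPdef
  have hpair : PairOf p (blk hB) P :=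
    Cfsg.Agent.Lib.BrauerPairs.Kernel.pairOf_of_induced hDp hDH hCH hind hν
  have htop : Top p P := top_of_isDef hpair hDdef
  have hstab : ∀ g ∈ stab P, g ∈ T := by
    intro g hg
    have hgN : g ∈ Subgroup.normalizer (D : Set G) := stab_le_normalizer P hg
    refine (hT g).mpr ⟨hgN, fun θ hθ θ' hconj => ?_⟩
    have hgH : ∀ h, h ∈ H ↔ g * h * g⁻¹ ∈ H := by
      intro h
      have hm : H.map (MulAut.conj g).toMonoidHom = H := by
        rw [hH, Subgroup.map_sup, map_conj_centralizer,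
          map_conj_eq_of_mem hgN]
      conv_rhs => rw [← hm]
      exact (Subgroup.mem_map_iff_mem (MulAut.conj g).injective).symm
    have heq : θ' = pushIrr (conjEquiv g H H hgH) θ := by
      apply Subtype.ext
      funext y
      obtain ⟨h, rfl⟩ := (conjEquiv g H H hgH).surjective y
      rw [pushIrr_apply, MulEquiv.symm_apply_apply]
      exact hconj h _ rfl
    have hfix := conjA_eq_of_val hDp hDH hCH hgH (blk hb) hν hg
    rw [← toSet_blk hb, mem_toSet, heq, blkOf_pushIrr_conj, blkOf_of_mem hb hθ, hfix]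
  -- the orbits on the centre
  set Zs : Finset G := Finset.univ.filter fun x => x ∈ D ∧ x ∈ C[D] with hZs
  have hZcard : Zs.card = p ^ c := by
    rw [← hc, ← Nat.card_eq_finsetCard]
    refine Nat.card_congr
      { toFun := fun x => ⟨⟨x.1, (Finset.mem_filter.mp x.2).2.1⟩,
          Subgroup.mem_center_iff.mpr fun y => Subtype.ext
            (commute_centralizer (Finset.mem_filter.mp x.2).2.2 y.2).eq⟩
        invFun := fun z => ⟨(z.1 : G), Finset.mem_filter.mpr ⟨Finset.mem_univ _, z.1.2,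
          Subgroup.mem_centralizer_iff.mpr fun y hy =>
            congrArg Subtype.val (Subgroup.mem_center_iff.mp z.2 ⟨y, hy⟩)⟩⟩
        left_inv := fun x => rfl
        right_inv := fun z => rfl }
  let f : G → Finset G := fun x => Finset.univ.filter fun y => ∃ g ∈ T, y = g * x * g⁻¹
  have hfix : ∀ x ∈ Zs, ∀ h ∈ H, h * x * h⁻¹ = x := by
    intro x hx h hh
    obtain ⟨hxD, hxC⟩ := (Finset.mem_filter.mp hx).2
    have hle : H ≤ Subgroup.centralizer ({x} : Set G) := hH ▸ sup_le
      (fun q hq => Subgroup.mem_centralizer_singleton_iff.mpr (commute_centralizer hxC hq).eq)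
      (fun q hq => Subgroup.mem_centralizer_singleton_iff.mpr (commute_centralizer hq hxD).symm.eq)
    rw [Subgroup.mem_centralizer_singleton_iff.mp (hle hh), mul_inv_cancel_right]
  have hfib : ∀ k ∈ Zs.image f, (Zs.filter fun x => f x = k).card ≤ e := by
    intro k hk
    obtain ⟨x, hx, rfl⟩ := Finset.mem_image.mp hk
    have hmem : ∀ y : (Zs.filter fun z => f z = f x), ∃ g : T, (y : G) = g * x * (g : G)⁻¹ := by
      intro y
      have hy : (y : G) ∈ f x :=
        (Finset.ext_iff.mp (Finset.mem_filter.mp y.2).2 (y : G)).mp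
          (Finset.mem_filter.mpr ⟨Finset.mem_univ _, 1, one_mem _, by group⟩)
      obtain ⟨g, hg, he'⟩ := (Finset.mem_filter.mp hy).2
      exact ⟨⟨g, hg⟩, he'⟩
    choose g hg using hmem
    rw [← he, Subgroup.relIndex, ← Nat.card_eq_finsetCard, Subgroup.index]
    refine Nat.card_le_card_of_injective (fun y => QuotientGroup.mk (g y)) fun y y' h => ?_
    apply Subtype.ext
    rw [QuotientGroup.eq] at h
    rw [hg y, hg y']
    set u := ((g y : T) : G)
    set u' := ((g y' : T) : G)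
    have h' : u⁻¹ * u' ∈ H := h
    calc u * x * u⁻¹ = u * ((u⁻¹ * u') * x * (u⁻¹ * u')⁻¹) * u⁻¹ := by rw [hfix x hx _ h']
      _ = _ := by group
  have hcount : p ^ c ≤ e * (Zs.image f).card :=
    hZcard ▸ Finset.card_le_mul_card_image _ e hfib
  have hrep : ∀ k : (Zs.image f), ∃ x ∈ Zs, f x = k.1 := fun k => Finset.mem_image.mp k.2
  choose r hrZ hrf using hrep
  -- representatives of the classes
  have hcr : ∀ k, ∃ g : G, g * r k * g⁻¹ = (ConjClasses.mk (r k)).out := fun k =>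
    isConj_iff.mp (ConjClasses.mk_eq_mk_iff_isConj.mp
      (Quotient.out_eq (ConjClasses.mk (r k))).symm)
  choose g hg using hcr
  set x₀ : (Zs.image f) → G := fun k => g k * r k * (g k)⁻¹ with hx₀
  have hx₀out : ∀ k, x₀ k = (ConjClasses.mk (r k)).out := hg
  have hxD : ∀ k, x₀ k ∈ (cPair (g k) P).1 := fun k =>
    ⟨r k, (Finset.mem_filter.mp (hrZ k)).2.1, rfl⟩
  have hxC : ∀ k, x₀ k ∈ C[(cPair (g k) P).1] := by
    intro k
    exact (mem_centralizer_map_iff (g k) D (r k)).mp (Finset.mem_filter.mp (hrZ k)).2.2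
  have hPg : ∀ k, IsPGroup p (cPair (g k) P).1 := fun k => hDp.map _
  have hω : ∀ k, ∃ ω : Blk (Res M) (cz (x₀ k)),
      Le p (⟨Subgroup.zpowers (x₀ k), ω⟩ : Idx (Res M) G) (cPair (g k) P) := fun k =>
    exists_le_of_le (hPg k) (cPair (g k) P).2 _ (Subgroup.zpowers_le.mpr (hxD k))
  choose ω hω using hω
  set Tset : Finset (Σ y : G, Set (Cfsg.IrrCharacter (cz y))) :=
    Finset.univ.image fun k => ⟨x₀ k, toSet (ω k)⟩ with hTset
  have hTmem : ∀ a ∈ Tset, ∃ k, (⟨x₀ k, toSet (ω k)⟩ : Σ y : G, Set (Cfsg.IrrCharacter (cz y))) = a :=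
    fun a ha => by
      obtain ⟨k, -, hk⟩ := Finset.mem_image.mp ha
      exact ⟨k, hk⟩
  have hord : ∀ k, ∃ j, orderOf (x₀ k) = p ^ j := fun k => by
    obtain ⟨j, hj⟩ := (IsPGroup.iff_orderOf.mp (hPg k)) ⟨x₀ k, hxD k⟩
    exact ⟨j, by rw [← hj, Subgroup.orderOf_mk]⟩
  have hpairk : ∀ k, PairOf p (blk hB) (⟨Subgroup.zpowers (x₀ k), ω k⟩ : Idx (Res M) G) := fun k =>
    (pairOf_iff_of_le (hPg k) (hω k) _).mpr (pairOf_cPair hpair (g k))
  have hindk : ∀ k, Cfsg.IsInducedBlock M (cz (x₀ k)) (toSet (ω k)) B := fun k => by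
    rw [Cfsg.Agent.Lib.BrauerPairs.InducedPair.isInducedBlock_iff (hpairk k).1
      (isPBlock_toSet _) hB, blk_toSet]
    exact hpairk k
  have hdefk : ∀ k, Cfsg.blockDefect p (toSet (ω k)) = Cfsg.blockDefect p B := fun k => by
    have S := setup_centralizer (a := (⟨Subgroup.zpowers (x₀ k), ω k⟩ : Idx (Res M) G))
      (hpairk k).1
    have htopk : Top p (cPair (g k) P) :=
      top_of_isDef (pairOf_cPair hpair (g k)) (hDdef.map_conj (g k))
    have hle : (cPair (g k) P).1 ≤ cz (x₀ k) := zpowers_le_centralizer (hxC k)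
    have hdef : IsDef p (ω k) (((cPair (g k) P).1 ⊓ cz (x₀ k)).subgroupOf (cz (x₀ k))) := by
      rw [S.isDef_inf_iff htopk (hω k)]
      intro g' _
      refine le_trans (Nat.le_of_dvd Nat.card_pos (Subgroup.card_dvd_of_le inf_le_left)) ?_
      rw [card_map_conj, inf_of_le_left hle]
    rw [inf_of_le_left hle] at hdef
    have hdef' := (isDefectGroup_iff (isPBlock_toSet (ω k)) _).mpr (by rwa [blk_toSet])
    rw [hdB]
    refine Nat.pow_right_injective hp.two_le ?_
    show p ^ _ = p ^ d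
    rw [← Cfsg.Agent.Lib.Blocks.card_isDefectGroup hM (isPBlock_toSet (ω k)) hdef',
      Nat.card_congr (Subgroup.subgroupOfEquivOfLe hle).toEquiv, ← hDd]
    exact card_map_conj (g k) D
  have hinj : Function.Injective fun k : (Zs.image f) =>
      (⟨x₀ k, toSet (ω k)⟩ : Σ y : G, Set (Cfsg.IrrCharacter (cz y))) := by
    intro k k' h
    obtain ⟨h1, h2⟩ := Sigma.mk.inj_iff.mp h
    have haa : (⟨Subgroup.zpowers (x₀ k), ω k⟩ : Idx (Res M) G) =
        ⟨Subgroup.zpowers (x₀ k'), ω k'⟩ := by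
      have gen : ∀ (y z : G) (u : Blk (Res M) (cz y)) (w : Blk (Res M) (cz z)), y = z →
          HEq (toSet u) (toSet w) →
          (⟨Subgroup.zpowers y, u⟩ : Idx (Res M) G) = ⟨Subgroup.zpowers z, w⟩ := by
        intro y z u w hyz hh
        subst hyz
        rw [toSet_injective (eq_of_heq hh)]
      exact gen _ _ _ _ h1 h2
    set a : Idx (Res M) G := ⟨Subgroup.zpowers (x₀ k), ω k⟩ with ha
    set a₁ := cPair (g k)⁻¹ a with ha₁
    have hle₁ : Le p a₁ P := by
      have := le_cPair (g k)⁻¹ (hω k)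
      rwa [← cPair_mul, inv_mul_cancel, cPair_one] at this
    set g'' := (g k')⁻¹ * g k with hg''
    have ha₂ : cPair g'' a₁ = cPair (g k')⁻¹ ⟨Subgroup.zpowers (x₀ k'), ω k'⟩ := by
      rw [ha₁, ← cPair_mul, hg'', mul_inv_cancel_right, haa]
    have hle₂ : Le p (cPair g'' a₁) P := by
      have := le_cPair (g k')⁻¹ (hω k')
      rwa [← cPair_mul (g k')⁻¹ (g k'), inv_mul_cancel, cPair_one, ← ha₂] at this
    have hz₁ : a₁.1 = Subgroup.zpowers (r k) := by
      show (Subgroup.zpowers (x₀ k)).map (MulAut.conj (g k)⁻¹).toMonoidHom = _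
      rw [MonoidHom.map_zpowers]
      congr 1
      simp [x₀, mul_assoc]
    have hz₂ : (cPair g'' a₁).1 = Subgroup.zpowers (r k') := by
      rw [ha₂]
      show (Subgroup.zpowers (x₀ k')).map (MulAut.conj (g k')⁻¹).toMonoidHom = _
      rw [MonoidHom.map_zpowers]
      congr 1
      simp [x₀, mul_assoc]
    obtain ⟨z, hz, hzs⟩ := exists_mul_mem_stab_of_central htop hle₁ hle₂
      (by rw [hz₁]; exact zpowers_le_centralizer (Finset.mem_filter.mp (hrZ k)).2.2)
      (by rw [hz₂]; exact zpowers_le_centralizer (Finset.mem_filter.mp (hrZ k')).2.2)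
    rw [hz₂] at hz
    have hcomm := commute_centralizer hz (Subgroup.mem_zpowers (r k'))
    have hrr : r k' = (z * g'') * r k * (z * g'')⁻¹ := by
      have e : g'' * r k * g''⁻¹ = r k' := by
        calc g'' * r k * g''⁻¹ = (g k')⁻¹ * x₀ k * g k' := by
              simp only [g'', x₀]; group
          _ = _ := by rw [h1]; simp only [x₀]; group
      calc r k' = z * r k' * z⁻¹ := by rw [← hcomm.eq, mul_inv_cancel_right]
        _ = _ := by rw [← e]; group
    have hmemT := hstab _ hzs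
    apply Subtype.ext
    rw [← hrf k, ← hrf k']
    ext y
    simp only [f, Finset.mem_filter, Finset.mem_univ, true_and]
    constructor
    · rintro ⟨u, hu, rfl⟩
      exact ⟨u * (z * g'')⁻¹, mul_mem hu (inv_mem hmemT), by rw [hrr]; group⟩
    · rintro ⟨u, hu, rfl⟩
      exact ⟨u * (z * g''), mul_mem hu hmemT, by rw [hrr]; group⟩
  have hTcard : Tset.card = (Zs.image f).card := by
    rw [hTset, Finset.card_image_of_injective _ hinj, Finset.card_univ, Fintype.card_coe]
  have hmain := card_mul_pow_le hM hB Tset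
    (fun a ha => by obtain ⟨k, rfl⟩ := hTmem a ha; exact hord k)
    (fun a ha => by obtain ⟨k, rfl⟩ := hTmem a ha; exact hindk k)
    (fun a ha => by obtain ⟨k, rfl⟩ := hTmem a ha; exact hdefk k)
    (fun a ha a' ha' hc' => by
      obtain ⟨k, rfl⟩ := hTmem a ha
      obtain ⟨k', rfl⟩ := hTmem a' ha'
      show x₀ k = x₀ k'
      rw [hx₀out, hx₀out]
      congr 1
      exact ConjClasses.mk_eq_mk_iff_isConj.mpr
        ((isConj_iff.mpr ⟨g k, rfl⟩).trans (hc'.trans (isConj_iff.mpr ⟨g k', rfl⟩).symm)))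
    hχ
  rw [hTcard, hdB] at hmain
  set h := Cfsg.blockHeight p B (χ : G → ℂ)
  have hlt : p ^ (c + h) < p ^ (n + 1 + d) := by
    rw [pow_add, pow_add p (n + 1)]
    calc p ^ c * p ^ h ≤ e * (Zs.image f).card * p ^ h := Nat.mul_le_mul_right _ hcount
      _ ≤ e * p ^ d := by rw [mul_assoc]; exact Nat.mul_le_mul_left _ hmain
      _ < p ^ (n + 1) * p ^ d := Nat.mul_lt_mul_of_pos_right hn.2 (pow_pos hp.pos d)
  have := (Nat.pow_lt_pow_iff_right hp.one_lt).mp hlt
  omega

end Cfsg.Agent.S4715
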