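-- Deficiency class of centralisers of p-elements, by the third main theorem.
import Cfsg.Statements.S4717
import Cfsg.Agent.Lib.BrauerPairs.InducedPair
import Cfsg.Agent.Lib.BrauerPairs.Principal
import Cfsg.Agent.Lib.BrauerPairs.LocalDefect
import Cfsg.Agent.Lib.Blocks.Induced
import Cfsg.Agent.Lib.BrauerMap.PrincipalSection

set_option autoImplicit false
open Cfsg

namespace Cfsg.Agent.S4717

open Cfsg.Agent.Lib.BrauerPairs.Center Cfsg.Agent.Lib.BrauerPairs.Trunc
open Cfsg.Agent.Lib.BrauerPairs.Conj Cfsg.Agent.Lib.BrauerPairs.Pairs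
open Cfsg.Agent.Lib.BrauerPairs.Maximal Cfsg.Agent.Lib.BrauerPairs.Bridge
open Cfsg.Agent.Lib.BrauerPairs.Principal
open Cfsg.Agent.Lib

universe u

attribute [local instance] Ideal.Quotient.field

variable {G : Type u} [Group G] [Finite G] {p : ℕ} [Fact p.Prime] {M : Ideal Cfsg.AlgInt}

/-- A non-principal block of `C(Q)` induces a non-principal block of at least its defect. -/
theorem exists_above (hM : Cfsg.IsPModular p M) (Q : Subgroup G) (hQ : IsPGroup p Q)
    (H : Subgroup G) (hH : H = Subgroup.centralizer (Q : Set G))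
    (b : Set (Cfsg.IrrCharacter H)) (hb : Cfsg.IsPBlock M b)
    (hne : b ≠ Cfsg.principalBlock M H) :
    ∃ B : Set (Cfsg.IrrCharacter G), Cfsg.IsPBlock M B ∧ B ≠ Cfsg.principalBlock M G ∧
      Cfsg.blockDefect p b ≤ Cfsg.blockDefect p B := by
  classical
  subst hH
  haveI := hM.2.1
  haveI : CharP (Res M) p := charP_res hM
  set ψ := pairBlk (a := (⟨Q, blk hb⟩ : Idx (Res M) G)) hQ with hψ
  have hB : Cfsg.IsPBlock M (toSet ψ) := isPBlock_toSet ψ
  have hpair : PairOf p (blk hB) (⟨Q, blk hb⟩ : Idx (Res M) G) := by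
    rw [blk_toSet]
    exact pairOf_iff.mpr ⟨hQ, rfl⟩
  refine ⟨_, hB, fun h => hne ?_, ?_⟩
  · have e : blk hB = princ (Res M) G := by
      rw [← blk_principalBlock (M := M) (G := G)]
      exact toSet_injective ((toSet_blk hB).trans (h.trans (toSet_blk _).symm))
    rw [e, pairOf_princ_iff hQ] at hpair
    rw [← toSet_blk hb, ← toSet_blk (isPBlock_principalBlock (M := M)), blk_principalBlock, hpair]
  · have hind := (BrauerPairs.InducedPair.isInducedBlock_iff hQ hb hB).mpr hpair
    obtain ⟨D, hD⟩ := Blocks.exists_isDefectGroup (p := p) hb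
    obtain ⟨E, hE, hDE⟩ := Blocks.exists_defectGroup_ge_of_induced hM hind hD
    have h1 := Nat.le_of_dvd Nat.card_pos (Subgroup.card_dvd_of_le hDE)
    rw [Subgroup.card_map_of_injective
      (Subgroup.centralizer (Q : Set G)).subtype_injective,
      Blocks.card_isDefectGroup hM hb hD, Blocks.card_isDefectGroup hM hB hE] at h1
    exact (Nat.pow_le_pow_iff_right (Fact.out : p.Prime).one_lt).mp h1

/-- Below a defect pair: a non-principal block of `C(Q)` with at least the defect of `B`. -/
theorem exists_below (hM : Cfsg.IsPModular p M) {B : Set (Cfsg.IrrCharacter G)}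
    (hB : Cfsg.IsPBlock M B) (hne : B ≠ Cfsg.principalBlock M G) {D : Subgroup G}
    (hD : Cfsg.IsDefectGroup p M B D) (Q : Subgroup G) (hQD : Q ≤ D)
    (H : Subgroup G) (hH : H = Subgroup.centralizer (Q : Set G)) (hDC : D ≤ H) :
    ∃ b : Set (Cfsg.IrrCharacter H), Cfsg.IsPBlock M b ∧ b ≠ Cfsg.principalBlock M H ∧
      Cfsg.blockDefect p B ≤ Cfsg.blockDefect p b := by
  classical
  subst hH
  haveI := hM.2.1
  haveI : CharP (Res M) p := charP_res hM
  have hDd := (isDefectGroup_iff hB D).mp hD
  have hDp := hDd.isPGroup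
  obtain ⟨f, hf⟩ := exists_pairOf_isDef hDd
  obtain ⟨g, hg⟩ := exists_le_of_le hDp f Q hQD
  have hgB : PairOf p (blk hB) (⟨Q, g⟩ : Idx (Res M) G) := (pairOf_iff_of_le hDp hg _).mpr hf
  obtain ⟨D', hD', hle⟩ := BrauerPairs.LocalDefect.exists_inf_le_isDef (a := ⟨Q, g⟩) (b := ⟨D, f⟩)
    hDp hg (Subgroup.centralizer_le_normalizer _) g rfl le_rfl hDC
  have hb : Cfsg.IsPBlock M (toSet g) := isPBlock_toSet g
  refine ⟨_, hb, fun h => hne ?_, ?_⟩
  · have e : g = princ (Res M) (Subgroup.centralizer (Q : Set G)) := by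
      rw [← blk_principalBlock (M := M)]
      exact toSet_injective (h.trans (toSet_blk _).symm)
    subst e
    have e2 := (existsUnique_pairOf _ (hDp.to_le hQD)).unique hgB (pairOf_princ (hDp.to_le hQD))
    rw [← toSet_blk hB, ← toSet_blk (isPBlock_principalBlock (M := M) (G := G)),
      blk_principalBlock, e2]
  · have hD'' : Cfsg.IsDefectGroup p M (toSet g) D' := by
      rw [isDefectGroup_iff hb, blk_toSet]
      exact hD'
    have h1 := Nat.le_of_dvd Nat.card_pos (Subgroup.card_dvd_of_le hle)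
    rw [Nat.card_congr (Subgroup.subgroupOfEquivOfLe hDC).toEquiv,
      Blocks.card_isDefectGroup hM hb hD'', Blocks.card_isDefectGroup hM hB hD] at h1
    exact (Nat.pow_le_pow_iff_right (Fact.out : p.Prime).one_lt).mp h1

/-- Let p be a prime, M a maximal ideal of the algebraic integers containing p, and r a natural number; say that a finite group X has deficiency class r when X has no non-principal p-block of defect ≥ r. If G has deficiency class r then so does the centralizer of every p-element of G; conversely, if r > 0 and the centralizer of every element of order p has deficiency class r, then G has deficiency class r. -/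
theorem result {G : Type*} [Group G] [Finite G] (p : ℕ) [Fact p.Prime] (M : Ideal Cfsg.AlgInt) (hM : Cfsg.IsPModular p M) (r : ℕ) : ((∀ B' : Set (Cfsg.IrrCharacter G), Cfsg.IsPBlock M B' → B' ≠ Cfsg.principalBlock M G → Cfsg.blockDefect p B' < r) → ∀ y : G, (∃ k : ℕ, orderOf y = p ^ k) → (∀ B' : Set (Cfsg.IrrCharacter ↥(Subgroup.centralizer ({y} : Set G))), Cfsg.IsPBlock M B' → B' ≠ Cfsg.principalBlock M ↥(Subgroup.centralizer ({y} : Set G)) → Cfsg.blockDefect p B' < r)) ∧ (0 < r → (∀ y : G, orderOf y = p → (∀ B' : Set (Cfsg.IrrCharacter ↥(Subgroup.centralizer ({y} : Set G))), Cfsg.IsPBlock M B' → B' ≠ Cfsg.principalBlock M ↥(Subgroup.centralizer ({y} : Set G)) → Cfsg.blockDefect p B' < r)) → (∀ B' : Set (Cfsg.IrrCharacter G), Cfsg.IsPBlock M B' → B' ≠ Cfsg.principalBlock M G → Cfsg.blockDefect p B' < r)) := by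
  refine ⟨fun h y hy b hb hne => ?_, fun hr h B hB hne => ?_⟩
  · obtain ⟨k, hk⟩ := hy
    obtain ⟨B, hB, hBne, hle⟩ := exists_above hM (Subgroup.zpowers y)
      (IsPGroup.of_card (n := k) (by rw [Nat.card_zpowers, hk]))
      _ (BrauerMap.PrincipalSection.centralizer_zpowers_eq y).symm b hb hne
    exact lt_of_le_of_lt hle (h B hB hBne)
  · by_contra hlt
    haveI := hM.2.1
    obtain ⟨D, hD⟩ := Blocks.exists_isDefectGroup (p := p) hB
    have hcard := Blocks.card_isDefectGroup hM hB hD
    have hd : Cfsg.blockDefect p B ≠ 0 := by omega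
    haveI : Nontrivial D := Finite.one_lt_card_iff_nontrivial.mp
      (hcard ▸ Nat.one_lt_pow hd (Fact.out : p.Prime).one_lt)
    have hDp : IsPGroup p D := IsPGroup.of_card hcard
    haveI := hDp.center_nontrivial
    obtain ⟨z, hz⟩ := exists_prime_orderOf_dvd_card' (G := Subgroup.center D) p
      (by
        obtain ⟨n, hn0, hn⟩ := ((hDp.to_subgroup (Subgroup.center D)).nontrivial_iff_card.mp inferInstance)
        exact hn ▸ dvd_pow_self p hn0.ne')
    have hy : orderOf ((z : D) : G) = p := by
      rw [Subgroup.orderOf_coe, Subgroup.orderOf_coe]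
      exact hz
    obtain ⟨b, hb, hbne, hle⟩ := exists_below hM hB hne hD (Subgroup.zpowers ((z : D) : G))
      (Subgroup.zpowers_le.mpr (z : D).2) _
      (BrauerMap.PrincipalSection.centralizer_zpowers_eq _).symm
      (fun d hd => Subgroup.mem_centralizer_singleton_iff.mpr
        (congrArg Subtype.val (Subgroup.mem_center_iff.mp z.2 ⟨d, hd⟩)))
    exact hlt (lt_of_le_of_lt hle (h _ hy b hb hbne))

end Cfsg.Agent.S4717
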