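import Cfsg.Statements.S4718
import Cfsg.Agent.Lib.Blocks.ContribBound
import Cfsg.Agent.Lib.H80.Landau
-- import your own Cfsg.Agent.* helpers here

set_option autoImplicit false
universe u
open Cfsg

namespace Cfsg.Agent.S4718

/-- Let p be a prime and a a natural number. There is a bound N such that every finite group whose Sylow p-subgroups have order p^a and whose only p-block (relative to a maximal ideal of the algebraic integers containing p) is the principal block has order at most N. -/
theorem result (p : ℕ) [Fact p.Prime] (a : ℕ) : ∃ N : ℕ, ∀ (G : Type u) [Group G] [Finite G] (M : Ideal Cfsg.AlgInt), Cfsg.IsPModular p M → (Nat.card G).factorization p = a → (∀ B : Set (Cfsg.IrrCharacter G), Cfsg.IsPBlock M B → B = Cfsg.principalBlock M G) → Nat.card G ≤ N := by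
  obtain ⟨N, hN⟩ := Cfsg.Agent.Lib.H80.Landau.exists_card_le.{u} (p ^ (2 * a) + 4)
  refine ⟨N, fun G _ _ M hM ha hall => hN G ?_⟩
  haveI := hM.2.1
  rw [← Cfsg.Agent.Lib.Characters.Complete.card_irr_eq_card_conjClasses]
  have hB : Cfsg.IsPBlock M (Cfsg.principalBlock M G) :=
    Cfsg.Agent.Lib.Blocks.isPBlock_principalBlock
  have huniv : Cfsg.principalBlock M G = Set.univ := Set.eq_univ_of_forall fun χ =>
    hall _ (Cfsg.Agent.Lib.Blocks.isPBlock_blockOf χ) ▸ Cfsg.Agent.Lib.Blocks.mem_blockOf_self χ
  have h := Cfsg.Agent.Lib.Blocks.Contrib.four_mul_card_le hM hB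
  have hd : Cfsg.blockDefect p (Cfsg.principalBlock M G) ≤ a := ha ▸ Nat.sub_le _ _
  have hp := Nat.pow_le_pow_right (Fact.out : p.Prime).pos (Nat.mul_le_mul_left 2 hd)
  rw [huniv, Nat.card_univ] at h
  rw [huniv] at hp
  omega

end Cfsg.Agent.S4718
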