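import Cfsg.Statements.S4719
import Cfsg.Agent.S4718
import Cfsg.Agent.Lib.H80.BrauerFowler
import Cfsg.Agent.Lib.Chars82.PrincipalBlock
import Cfsg.Agent.Lib.BrauerPairs.Bridge
import Cfsg.Agent.Lib.Blocks.DefectGroup
import Cfsg.Agent.Lib.Coprime.Generation

set_option autoImplicit false
universe u
open Cfsg

namespace Cfsg.Agent.S4719

open Cfsg.Agent.Lib.BrauerPairs.Center Cfsg.Agent.Lib.BrauerPairs.Trunc
open Cfsg.Agent.Lib.BrauerPairs.Maximal Cfsg.Agent.Lib.BrauerPairs.Bridge
open Cfsg.Agent.Lib.BrauerPairs.Pairs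
open scoped Pointwise

attribute [local instance] Ideal.Quotient.field

local notation "C[" P "]" => Subgroup.centralizer ((P : Subgroup _) : Set _)

variable {G : Type u} [Group G] [Finite G]

/-- The centralizer of a subgroup of order `2 ^ r` has only the principal block. -/
theorem single_block {M : Ideal Cfsg.AlgInt} (hM : Cfsg.IsPModular 2 M) {r : ℕ}
    (hblk : ∀ B : Set (Cfsg.IrrCharacter G), Cfsg.IsPBlock M B → B ≠ Cfsg.principalBlock M G →
      Cfsg.blockDefect 2 B < r)
    {E₀ : Subgroup G} (hcard : Nat.card E₀ = 2 ^ r)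
    (B : Set (Cfsg.IrrCharacter (Subgroup.centralizer (E₀ : Set G)))) (hB : Cfsg.IsPBlock M B) :
    B = Cfsg.principalBlock M (Subgroup.centralizer (E₀ : Set G)) := by
  haveI := hM.2.1
  haveI := charP_res hM
  haveI : Fact (Nat.Prime 2) := ⟨Nat.prime_two⟩
  have hp : IsPGroup 2 E₀ := IsPGroup.of_card hcard
  set ω := blk hB with hω
  obtain ⟨ψ, hψ, -⟩ := existsUnique_pairOf (p := 2) (⟨E₀, ω⟩ : Idx (Res M) G) hp
  have hpr : ψ = Cfsg.Agent.Lib.BrauerPairs.Principal.princ (Res M) G := by
    by_contra hne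
    have hP := isPBlock_toSet (M := M) ψ
    have hne' : toSet ψ ≠ Cfsg.principalBlock M G := by
      intro h
      apply hne
      apply toSet_injective (M := M)
      rw [h, ← blk_principalBlock, toSet_blk]
    obtain ⟨D, hD⟩ := Cfsg.Agent.Lib.Blocks.exists_isDefectGroup (p := 2) hP
    have hdef := (isDefectGroup_iff hP D).mp hD
    rw [blk_toSet] at hdef
    obtain ⟨x, hx⟩ := exists_map_le_isDef hψ hdef
    have h1 := Subgroup.card_dvd_of_le hx
    rw [Subgroup.card_map_of_injective (MulAut.conj x).injective, hcard,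
      Cfsg.Agent.Lib.Blocks.card_isDefectGroup hM hP hD,
      Nat.pow_dvd_pow_iff_le_right (by norm_num)] at h1
    exact absurd (hblk _ hP hne') (not_lt.mpr h1)
  subst hpr
  rw [← toSet_blk hB, ← hω, (Cfsg.Agent.Lib.BrauerPairs.Principal.pairOf_princ_iff hp ω).mp hψ, ← blk_principalBlock,
    toSet_blk]

/-- A group whose only block is the principal one has trivial odd core. -/
theorem core_eq_bot {H : Type u} [Group H] [Finite H] {M : Ideal Cfsg.AlgInt}
    (hM : Cfsg.IsPModular 2 M)
    (hall : ∀ B : Set (Cfsg.IrrCharacter H), Cfsg.IsPBlock M B → B = Cfsg.principalBlock M H)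
    {K : Subgroup H} [K.Normal] (hK : ¬ 2 ∣ Nat.card K) : K = ⊥ := by
  haveI := hM.2.1
  haveI : Fact (Nat.Prime 2) := ⟨Nat.prime_two⟩
  rw [eq_bot_iff]
  intro x hx
  refine Subgroup.mem_bot.mpr (Cfsg.Agent.Lib.Characters.Complete.eq_one_of_forall_irr fun χ => ?_)
  exact Cfsg.Agent.Lib.Chars82.PrincipalBlock.apply_eq_of_mem_principalBlock hM K hK
    (hall _ (Cfsg.Agent.Lib.Blocks.isPBlock_blockOf χ) ▸
      Cfsg.Agent.Lib.Blocks.mem_blockOf_self χ) ⟨x, hx⟩

/-- The centralizers of subgroups of order at most `2 ^ r` of `E` have trivial odd core. -/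
theorem core_centralizer {M : Ideal Cfsg.AlgInt} (hM : Cfsg.IsPModular 2 M) {r : ℕ}
    (hblk : ∀ B : Set (Cfsg.IrrCharacter G), Cfsg.IsPBlock M B → B ≠ Cfsg.principalBlock M G →
      Cfsg.blockDefect 2 B < r)
    {E : Subgroup G} [IsMulCommutative E] (hsq : ∀ x ∈ E, x * x = 1)
    (hE : Nat.card E = 2 ^ (r + 1)) {F : Subgroup G} (hFE : F ≤ E)
    (hF : Nat.card F ∣ 2 ^ r) :
    Cfsg.pPrimeCore 2 (Subgroup.centralizer (F : Set G)) = ⊥ := by
  haveI : Fact (Nat.Prime 2) := ⟨Nat.prime_two⟩
  set H := Subgroup.centralizer (F : Set G) with hH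
  haveI : (Cfsg.pPrimeCore 2 H).Normal := Cfsg.pPrimeCore_normal 2 _
  set K := (Cfsg.pPrimeCore 2 H).map H.subtype with hKdef
  have hKH : K ≤ H := Subgroup.map_subtype_le _
  have hKsub : K.subgroupOf H = Cfsg.pPrimeCore 2 H :=
    Subgroup.comap_map_eq_self_of_injective H.subtype_injective _
  haveI : (K.subgroupOf H).Normal := hKsub.symm ▸ inferInstance
  have hHK : H ≤ Subgroup.normalizer (K : Set G) :=
    (Subgroup.normal_subgroupOf_iff_le_normalizer hKH).mp inferInstance
  have hEH : E ≤ H := fun e he => Subgroup.mem_centralizer_iff.mpr fun f hf =>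
    congrArg Subtype.val (IsMulCommutative.is_comm.comm (⟨f, hFE hf⟩ : E) ⟨e, he⟩)
  have hodd : ¬ 2 ∣ Nat.card K := fun h =>
    Cfsg.Agent.Lib.Cores.not_dvd_card_pPrimeCore (G := H) 2
      (h.trans (Subgroup.card_map_dvd _ _))
  have hcop : (Nat.card E).Coprime (Nat.card K) := by
    rw [hE]
    exact Nat.Coprime.pow_left _ ((Nat.Prime.coprime_iff_not_dvd Nat.prime_two).mpr hodd)
  suffices hK : K = ⊥ by
    rw [← hKsub, hK, Subgroup.bot_subgroupOf]
  rw [eq_bot_iff, ← Cfsg.Agent.Lib.Coprime.iSup_centralizer_cyclic_quotient_eq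
    (hEH.trans hHK) hcop]
  refine iSup₂_le fun B hB => ?_
  obtain ⟨hBE, b, hbE, hBb⟩ := hB
  set B' := B ⊔ F with hB'
  have hB'E : B' ≤ E := sup_le hBE hFE
  have hcardB' : 2 ^ r ≤ Nat.card B' := by
    have hle : (E : Set G) ⊆ (B' : Set G) * (Subgroup.zpowers b : Set G) := by
      rw [← Subgroup.coe_mul_of_left_le_normalizer_right]
      · exact hBb.symm.le.trans (sup_le_sup_right le_sup_left _)
      · intro y hy
        refine Subgroup.centralizer_le_normalizer _ (Subgroup.mem_centralizer_iff.mpr ?_)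
        intro z hz
        obtain ⟨n, rfl⟩ := Subgroup.mem_zpowers_iff.mp hz
        exact congrArg Subtype.val (IsMulCommutative.is_comm.comm
          (⟨b ^ n, E.zpow_mem hbE n⟩ : E) ⟨y, hB'E hy⟩)
    have h1 := (Nat.card_mono (Set.toFinite _) hle).trans Set.natCard_mul_le
    have h2 : Nat.card (Subgroup.zpowers b) ≤ 2 := by
      rw [Nat.card_zpowers]
      exact Nat.le_of_dvd two_pos (orderOf_dvd_of_pow_eq_one (by rw [pow_two]; exact hsq b hbE))
    simp only [SetLike.coe_sort_coe] at h1
    rw [hE, pow_succ] at h1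
    exact Nat.le_of_mul_le_mul_right (h1.trans (Nat.mul_le_mul_left _ h2)) two_pos
  have hdvd : 2 ^ r ∣ Nat.card B' := by
    obtain ⟨i, -, hi⟩ := (Nat.dvd_prime_pow Nat.prime_two).mp
      (hE ▸ Subgroup.card_dvd_of_le hB'E)
    rw [hi] at hcardB' ⊢
    exact pow_dvd_pow 2 ((Nat.pow_le_pow_iff_right (by norm_num)).mp hcardB')
  obtain ⟨i, hir, hi⟩ := (Nat.dvd_prime_pow Nat.prime_two).mp hF
  have hFB : F ≤ B' := le_sup_right
  obtain ⟨E₁, hE₁, hFE₁⟩ := Sylow.exists_subgroup_card_pow_prime_le 2 hdvd (F.subgroupOf B')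
    ((Nat.card_congr (Subgroup.subgroupOfEquivOfLe hFB).toEquiv).trans hi) hir
  set E₀ := E₁.map B'.subtype with hE₀
  have hcard : Nat.card E₀ = 2 ^ r :=
    (Subgroup.card_map_of_injective B'.subtype_injective).trans hE₁
  have hFE₀ : F ≤ E₀ := by
    rw [← Subgroup.map_subgroupOf_eq_of_le hFB]
    exact Subgroup.map_mono hFE₁
  have hCH : Subgroup.centralizer (E₀ : Set G) ≤ H := Subgroup.centralizer_le hFE₀
  set L := K ⊓ Subgroup.centralizer (E₀ : Set G)
  have hLC : Subgroup.centralizer (E₀ : Set G) ≤ Subgroup.normalizer (L : Set G) := by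
    intro x hx
    have h1 := hHK (hCH hx)
    rw [Subgroup.mem_normalizer_iff] at h1 ⊢
    intro y
    simp only [L, Subgroup.mem_inf, h1 y]
    refine and_congr_right fun _ => ⟨fun h => ?_, fun h => ?_⟩
    · exact mul_mem (mul_mem hx h) (inv_mem hx)
    · simpa [mul_assoc] using mul_mem (mul_mem (inv_mem hx) h) hx
  haveI := (Subgroup.normal_subgroupOf_iff_le_normalizer
    (inf_le_right : L ≤ Subgroup.centralizer (E₀ : Set G))).mpr hLC
  have hL : L.subgroupOf (Subgroup.centralizer (E₀ : Set G)) = ⊥ := by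
    refine core_eq_bot hM (single_block hM hblk hcard) fun h => hodd ?_
    rw [Nat.card_congr (Subgroup.subgroupOfEquivOfLe inf_le_right).toEquiv] at h
    exact h.trans (Subgroup.card_dvd_of_le inf_le_left)
  intro x hx
  obtain ⟨hxK, hxB⟩ := Subgroup.mem_inf.mp hx
  have hxB' : B' ≤ Subgroup.centralizer ({x} : Set G) :=
    sup_le (fun z hz => Subgroup.mem_centralizer_singleton_iff.mpr
        (Subgroup.mem_centralizer_iff.mp hxB z hz))
      (fun z hz => Subgroup.mem_centralizer_singleton_iff.mpr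
        (Subgroup.mem_centralizer_iff.mp (hKH hxK) z hz))
  have hxE₀ : x ∈ Subgroup.centralizer (E₀ : Set G) := Subgroup.mem_centralizer_iff.mpr fun z hz =>
    Subgroup.mem_centralizer_singleton_iff.mp (hxB' (Subgroup.map_subtype_le _ hz))
  have h := hL.le (Subgroup.mem_subgroupOf.mpr
    (Subgroup.mem_inf.mpr ⟨hxK, hxE₀⟩) : (⟨x, hxE₀⟩ : Subgroup.centralizer (E₀ : Set G)) ∈
      L.subgroupOf (Subgroup.centralizer (E₀ : Set G)))
  exact Subgroup.mem_bot.mpr (congrArg Subtype.val (Subgroup.mem_bot.mp h))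

/-- For every natural number a there is a bound N with the following property. Let G be a finite group with Sylow 2-subgroups of order 2^a and r ≥ 0 such that G has no non-principal 2-block (relative to a maximal ideal of the algebraic integers containing 2) of defect ≥ r, and suppose a Sylow 2-subgroup of G contains an elementary abelian subgroup of order 2^(r+1). Then the order of G is at most N. -/
theorem result (a : ℕ) : ∃ N : ℕ, ∀ (G : Type u) [Group G] [Finite G] (M : Ideal Cfsg.AlgInt) (r : ℕ) (P : Sylow 2 G), Cfsg.IsPModular 2 M → Nat.card P = 2 ^ a → (∀ B : Set (Cfsg.IrrCharacter G), Cfsg.IsPBlock M B → B ≠ Cfsg.principalBlock M G → Cfsg.blockDefect 2 B < r) → (∃ E : Subgroup G, E ≤ (P : Subgroup G) ∧ IsMulCommutative E ∧ (∀ x ∈ E, x * x = 1) ∧ Nat.card E = 2 ^ (r + 1)) → Nat.card G ≤ N := by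
  haveI : Fact (Nat.Prime 2) := ⟨Nat.prime_two⟩
  choose f hf using fun a' : ℕ => Cfsg.Agent.S4718.result.{u} 2 a'
  choose g hg using Cfsg.Agent.Lib.H80.BrauerFowler.exists_card_le.{u} a
  set N₀ := (Finset.range (a + 1)).sup f
  set N : ℕ → ℕ := fun j => (fun m => max m (g m))^[j] N₀ with hNdef
  have hN : ∀ j, N (j + 1) = max (N j) (g (N j)) := fun j => Function.iterate_succ_apply' _ _ _
  refine ⟨N a, fun G _ _ M r P hM hP hblk hEx => ?_⟩
  obtain ⟨E, hEP, hEc, hsq, hE⟩ := hEx
  haveI := hEc
  have ha : (Nat.card G).factorization 2 = a := by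
    have h := P.card_eq_multiplicity
    rw [hP] at h
    exact (Nat.pow_right_injective le_rfl h).symm
  have hsub : ∀ H : Subgroup G, (Nat.card H).factorization 2 ≤ a := fun H =>
    ha ▸ (Nat.factorization_le_iff_dvd Nat.card_pos.ne' Nat.card_pos.ne').mpr
      (Subgroup.card_subgroup_dvd_card H) 2
  have hra : r ≤ a := by
    have h := Subgroup.card_dvd_of_le hEP
    rw [hE, hP, Nat.pow_dvd_pow_iff_le_right (by norm_num)] at h
    omega
  have key : ∀ j, ∀ F : Subgroup G, F ≤ E → Nat.card F ∣ 2 ^ r → 2 ^ r ≤ Nat.card F * 2 ^ j →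
      Nat.card (Subgroup.centralizer (F : Set G)) ≤ N j := by
    intro j
    induction j with
    | zero =>
      intro F hFE hF hle
      have heq : Nat.card F = 2 ^ r :=
        le_antisymm (Nat.le_of_dvd (by positivity) hF) (by simpa using hle)
      refine le_trans ?_ (Finset.le_sup (f := f) (Finset.mem_range.mpr (Nat.lt_succ_of_le
        (hsub (Subgroup.centralizer (F : Set G))))))
      exact hf _ _ M hM rfl (single_block hM hblk heq)
    | succ j ih =>
      intro F hFE hF hle
      rw [hN]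
      by_cases hj : 2 ^ r ≤ Nat.card F * 2 ^ j
      · exact le_max_of_le_left (ih F hFE hF hj)
      refine le_max_of_le_right ?_
      have hlt : Nat.card F < 2 ^ r :=
        lt_of_le_of_lt (Nat.le_mul_of_pos_right _ (by positivity)) (not_le.mp hj)
      obtain ⟨u, huE, huF⟩ : ∃ u ∈ E, u ∉ F := by
        by_contra h
        push Not at h
        have h1 := Subgroup.card_le_of_le (show E ≤ F from h)
        rw [hE, pow_succ] at h1
        omega
      have hu2 : orderOf u = 2 := orderOf_eq_prime (by rw [pow_two]; exact hsq u huE)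
        fun h => huF (h ▸ F.one_mem)
      have huC : u ∈ Subgroup.centralizer (F : Set G) := Subgroup.mem_centralizer_iff.mpr
        fun f hf => congrArg Subtype.val
          (IsMulCommutative.is_comm.comm (⟨f, hFE hf⟩ : E) ⟨u, huE⟩)
      set F' := F ⊔ Subgroup.zpowers u with hF'
      have hF'E : F' ≤ E := sup_le hFE (Subgroup.zpowers_le.mpr huE)
      have hFF' : F ≤ F' := le_sup_left
      have huF' : u ∈ F' := Subgroup.mem_sup_right (Subgroup.mem_zpowers u)
      have hcard : Nat.card F' = Nat.card F * 2 := by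
        refine le_antisymm ?_ ?_
        · have hle' : (F' : Set G) ⊆ (F : Set G) * (Subgroup.zpowers u : Set G) := by
            rw [hF', Subgroup.coe_mul_of_left_le_normalizer_right]
            intro y hy
            refine Subgroup.centralizer_le_normalizer _ (Subgroup.mem_centralizer_iff.mpr ?_)
            intro z hz
            obtain ⟨n, rfl⟩ := Subgroup.mem_zpowers_iff.mp hz
            exact congrArg Subtype.val (IsMulCommutative.is_comm.comm
              (⟨u ^ n, E.zpow_mem huE n⟩ : E) ⟨y, hFE hy⟩)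
          have h1 := (Nat.card_mono (Set.toFinite _) hle').trans Set.natCard_mul_le
          simp only [SetLike.coe_sort_coe, Nat.card_zpowers, hu2] at h1
          exact h1
        · obtain ⟨c, hc⟩ := Subgroup.card_dvd_of_le hFF'
          rw [hc]
          refine Nat.mul_le_mul_left _ ?_
          by_contra hc2
          have : c = 0 ∨ c = 1 := by omega
          rcases this with rfl | rfl
          · exact Nat.card_pos.ne' (by simpa using hc)
          · exact huF ((Subgroup.eq_of_le_of_card_ge hFF' (by rw [hc, mul_one])) ▸ huF')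
      obtain ⟨i, -, hi⟩ := (Nat.dvd_prime_pow Nat.prime_two).mp hF
      have hF'r : Nat.card F' ∣ 2 ^ r := by
        rw [hi] at hlt
        rw [hcard, hi, ← pow_succ]
        exact pow_dvd_pow 2 ((Nat.pow_lt_pow_iff_right (by norm_num)).mp hlt)
      have hF'j : 2 ^ r ≤ Nat.card F' * 2 ^ j := by
        rw [hcard, mul_assoc, ← pow_succ']; exact hle
      refine hg (N j) _ (hsub _) (core_centralizer hM hblk hsq hE hFE hF) ⟨u, huC⟩
        (by rw [← Subgroup.orderOf_coe]; exact hu2) ?_
      refine le_trans ?_ (ih F' hF'E hF'r hF'j)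
      refine Nat.card_le_card_of_injective (fun v => ⟨((v.1 : _) : G), ?_⟩) fun v w h => ?_
      · have hv : ((v.1 : _) : G) * u = u * v.1 :=
          congrArg Subtype.val (Subgroup.mem_centralizer_singleton_iff.mp v.2)
        have hle2 : F' ≤ Subgroup.centralizer ({((v.1 : _) : G)} : Set G) :=
          sup_le (fun z hz => Subgroup.mem_centralizer_singleton_iff.mpr
              (Subgroup.mem_centralizer_iff.mp v.1.2 z hz))
            (Subgroup.zpowers_le.mpr (Subgroup.mem_centralizer_singleton_iff.mpr hv.symm))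
        exact Subgroup.mem_centralizer_iff.mpr fun z hz =>
          Subgroup.mem_centralizer_singleton_iff.mp (hle2 hz)
      · exact Subtype.ext (Subtype.ext (congrArg (fun z => z.val) h :))
  have hmono : ∀ j k, j ≤ k → N j ≤ N k := fun j k hjk =>
    Nat.le_induction le_rfl (fun m _ h => h.trans (hN m ▸ le_max_left _ _)) k hjk
  have h0 := key r ⊥ bot_le (by rw [Subgroup.card_bot]; exact one_dvd _)
    (by rw [Subgroup.card_bot, one_mul])
  refine le_trans ?_ (h0.trans (hmono r a hra))
  refine Nat.card_le_card_of_injective (fun x => ⟨x, ?_⟩) fun x y h => congrArg Subtype.val h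
  exact Subgroup.mem_centralizer_iff.mpr fun z hz => by
    rw [Subgroup.mem_bot.mp hz, one_mul, mul_one]

end Cfsg.Agent.S4719
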