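import Cfsg.Statements.S4720
import Cfsg.Agent.Lib.BrauerMap.PrincipalSection
import Cfsg.Agent.Lib.Blocks.Orthogonality
import Cfsg.Agent.Lib.H80.ClassMult
-- import your own Cfsg.Agent.* helpers here

set_option autoImplicit false
open Cfsg

namespace Cfsg.Agent.S4720

/-- Let p be a prime, M a maximal ideal of the algebraic integers containing p, P a p-subgroup of the finite group G, N a subgroup with P ≤ N ≤ N_G(P), and U a nonempty subset of P normalized by N such that an element of U and an element of P that are conjugate in G are already conjugate in N, and such that λ(C_G(y)) = w·#C_N(y) for every y ∈ U with one rational number w, where λ(X) denotes the sum of the squares of the degrees of the irreducible characters in the principal p-block of X. For a complex function θ on P and χ in the principal block of G put a_χ(θ) = #P⁻¹ Σ_{y ∈ P} χ(y) θ(y⁻¹). Then for generalized characters θ, η of P with θ vanishing outside U, Σ_χ a_χ(θ)·conj(a_χ(η))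 = (w/#P²)·Σ_{y ∈ P} θ(y)·conj(Σ_{x ∈ N} η(x y x⁻¹)) (η extended by zero off P; the conjugates lie in P), the first sum over the principal p-block of G. -/
theorem result {G : Type*} [Group G] [Finite G] (p : ℕ) [Fact p.Prime] (M : Ideal Cfsg.AlgInt) (hM : Cfsg.IsPModular p M) (P : Subgroup G) (hP : IsPGroup p P) (N : Subgroup G) (hPN : P ≤ N) (hNN : N ≤ Subgroup.normalizer (P : Set G)) (U : Set G) (hUne : U.Nonempty) (hUP : U ⊆ (P : Set G)) (hUN : ∀ n ∈ N, ∀ u ∈ U, n * u * n⁻¹ ∈ U) (hfus : ∀ u ∈ U, ∀ g : G, g * u * g⁻¹ ∈ (P : Set G) → ∃ n ∈ N, n * u * n⁻¹ = g * u * g⁻¹) (w : ℚ) (hw : ∀ y ∈ U, ((∑ᶠ ψ ∈ Cfsg.principalBlock M ↥(Subgroup.centralizer ({y} : Set G)), Cfsg.charDegree (ψ : ↥(Subgroup.centralizer ({y} : Set G)) → ℂ) ^ 2) : ℚ) = w * Nat.card ↥(N ⊓ Subgroup.centralizer ({y} : Set G))) (θ η : ↥P → ℂ) (hθ : Cfsg.IsGeneralizedCharacter ↥P θ) (hη : Cfsg.IsGeneralizedCharacter ↥P η) (hθU : ∀ y : ↥P, (y : G) ∉ U → θ y = 0) : ∑ᶠ χ ∈ Cfsg.principalBlock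 M G, ((Nat.card ↥P : ℂ)⁻¹ * ∑ᶠ y : ↥P, (χ : G → ℂ) (y : G) * θ y⁻¹) * (starRingEnd ℂ) ((Nat.card ↥P : ℂ)⁻¹ * ∑ᶠ y : ↥P, (χ : G → ℂ) (y : G) * η y⁻¹) = ((w : ℂ) / ((Nat.card ↥P : ℂ) ^ 2)) * ∑ᶠ y : ↥P, θ y * (starRingEnd ℂ) (∑ᶠ x : ↥N, Cfsg.extendByZero P η ((x : G) * (y : G) * (x : G)⁻¹)) := by
  classical
  haveI := hM.2.1
  haveI := Fintype.ofFinite G
  haveI := Fintype.ofFinite ↥P
  haveI := Fintype.ofFinite ↥N
  have hp : p.Prime := Fact.out
  have hpe : ∀ y : ↥P, ∃ k : ℕ, orderOf (y : G) = p ^ k := fun y => by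
    obtain ⟨k, hk⟩ := hP y
    obtain ⟨i, -, hi⟩ := (Nat.dvd_prime_pow hp).mp (orderOf_dvd_of_pow_eq_one hk)
    exact ⟨i, by rw [Subgroup.orderOf_coe]; exact hi⟩
  set s := (Set.toFinite (Cfsg.principalBlock M G)).toFinset with hs
  -- the inner sum over the principal block
  have hS : ∀ y x : ↥P, (y : G) ∈ U →
      ∑ χ ∈ s, (χ : G → ℂ) (y : G) * (χ : G → ℂ) (x : G)⁻¹ =
        if IsConj (y : G) (x : G) then
          (w : ℂ) * (Nat.card ↥(N ⊓ Subgroup.centralizer ({(y : G)} : Set G)) : ℂ)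
        else 0 := by
    intro y x hy
    rw [hs, ← finsum_mem_eq_finite_toFinset_sum _ (Set.toFinite (Cfsg.principalBlock M G))]
    split_ifs with hc
    · obtain ⟨g, hg⟩ := isConj_iff.mp hc
      have hcl : ∀ χ : Cfsg.IrrCharacter G,
          (χ : G → ℂ) (x : G)⁻¹ = (χ : G → ℂ) (y : G)⁻¹ := by
        intro χ
        rw [← hg, show (g * (y : G) * g⁻¹)⁻¹ = g * (y : G)⁻¹ * g⁻¹ by group]
        exact Lib.Characters.Basic.isClassFunction_irr χ _ _
      simp only [hcl]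
      let z : ↥(Subgroup.centralizer ({(y : G)} : Set G)) :=
        ⟨y, Subgroup.mem_centralizer_singleton_iff.mpr rfl⟩
      have hzc : ∀ v, Commute z v := fun v =>
        Subtype.ext (Subgroup.mem_centralizer_singleton_iff.mp v.2).symm
      have hpart : Cfsg.IsPPart p (z : G) (y : G) :=
        Lib.Blocks.isPPart_self hp (hpe y)
      refine (Lib.BrauerMap.PrincipalSection.sum_principal_section hM z z hpart hpart).trans ?_
      have h1 : ∀ ψ : Cfsg.IrrCharacter ↥(Subgroup.centralizer ({(y : G)} : Set G)),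
          (ψ : _ → ℂ) z * (ψ : _ → ℂ) z⁻¹ =
            ((Cfsg.charDegree (ψ : ↥(Subgroup.centralizer ({(y : G)} : Set G)) → ℂ) : ℂ)) ^ 2 := by
        intro ψ
        have h := Lib.BrauerMap.PrincipalSection.char_central_mul_mul_inv hzc ψ 1
        rw [mul_one, inv_one] at h
        rw [h, (Lib.H80.ClassMult.deg_spec ψ).2, pow_two]
      simp only [h1]
      have h2 := congrArg (fun q : ℚ => (q : ℂ)) (hw (y : G) hy)
      simp only [Rat.cast_mul, Rat.cast_natCast] at h2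
      rw [← h2, finsum_mem_eq_finite_toFinset_sum _ (Set.toFinite _),
        finsum_mem_eq_finite_toFinset_sum _ (Set.toFinite _)]
      push_cast
      rfl
    · exact Lib.Blocks.sum_block_eq_zero hM (Lib.Blocks.isPPart_self hp (hpe y))
        (Lib.Blocks.isPPart_self hp (hpe x)) hc Lib.Blocks.isPBlock_principalBlock
  -- expand the left-hand side
  have hexp : ∑ᶠ χ ∈ Cfsg.principalBlock M G, ((Nat.card ↥P : ℂ)⁻¹ *
        ∑ᶠ y : ↥P, (χ : G → ℂ) (y : G) * θ y⁻¹) * (starRingEnd ℂ) ((Nat.card ↥P : ℂ)⁻¹ *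
        ∑ᶠ y : ↥P, (χ : G → ℂ) (y : G) * η y⁻¹) =
      ((Nat.card ↥P : ℂ)⁻¹) ^ 2 * ∑ y : ↥P, θ y * ∑ x : ↥P, (starRingEnd ℂ) (η x) *
        (starRingEnd ℂ) (∑ χ ∈ s, (χ : G → ℂ) (y : G) * (χ : G → ℂ) (x : G)⁻¹) := by
    rw [finsum_mem_eq_finite_toFinset_sum _ (Set.toFinite (Cfsg.principalBlock M G)), ← hs]
    have hr : ∀ (χ : Cfsg.IrrCharacter G) (f : ↥P → ℂ),
        ∑ y : ↥P, (χ : G → ℂ) (y : G) * f y⁻¹ =
          ∑ y : ↥P, (χ : G → ℂ) (y : G)⁻¹ * f y :=
      fun χ f => Fintype.sum_equiv (Equiv.inv ↥P) _ _ fun y => by simp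
    have hai : ∀ (χ : Cfsg.IrrCharacter G) (g : G),
        (χ : G → ℂ) g⁻¹ = (starRingEnd ℂ) ((χ : G → ℂ) g) := fun χ g =>
      Lib.Characters.Basic.apply_inv (Lib.Characters.Basic.isCharacter_irr χ) g
    simp only [finsum_eq_sum_of_fintype, hr, hai, map_mul, map_sum, map_inv₀, Complex.conj_natCast,
      RingHomCompTriple.comp_apply, RingHom.id_apply, Finset.mul_sum, Finset.sum_mul]
    rw [Finset.sum_comm_cycle]
    refine Finset.sum_congr rfl fun y _ => (Finset.sum_comm).trans <| Finset.sum_congr rfl fun x _ =>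
      Finset.sum_congr rfl fun χ _ => ?_
    ring
  rw [hexp, finsum_eq_sum_of_fintype, Finset.mul_sum, Finset.mul_sum]
  refine Finset.sum_congr rfl fun y _ => ?_
  rcases eq_or_ne (θ y) 0 with h0 | h0
  · simp [h0]
  have hy : (y : G) ∈ U := by
    by_contra hc
    exact h0 (hθU y hc)
  have hmem : ∀ n : ↥N, (n : G) * (y : G) * (n : G)⁻¹ ∈ P := fun n =>
    hUP (hUN n n.2 y hy)
  set φ : ↥N → ↥P := fun n => ⟨_, hmem n⟩ with hφ
  have hrhs : ∑ᶠ n : ↥N, Cfsg.extendByZero P η ((n : G) * (y : G) * (n : G)⁻¹) =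
      ∑ n : ↥N, η (φ n) := by
    rw [finsum_eq_sum_of_fintype]
    refine Finset.sum_congr rfl fun n _ => ?_
    exact Subtype.val_injective.extend_apply η 0 (φ n)
  have hfib : ∀ x : ↥P, ((Finset.univ.filter fun n : ↥N => φ n = x).card : ℂ) =
      if IsConj (y : G) (x : G) then
        (Nat.card ↥(N ⊓ Subgroup.centralizer ({(y : G)} : Set G)) : ℂ) else 0 := by
    intro x
    split_ifs with hc
    · obtain ⟨g, hg⟩ := isConj_iff.mp hc
      obtain ⟨n₀, hn₀, hn⟩ := hfus y hy g (hg ▸ x.2)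
      rw [hg] at hn
      rw [← Fintype.card_subtype, ← Nat.card_eq_fintype_card]
      refine congrArg _ (Nat.card_congr
        { toFun := fun n => ⟨n₀⁻¹ * ((n : ↥N) : G), ?_⟩
          invFun := fun c => ⟨⟨n₀ * (c : G), ?_⟩, ?_⟩
          left_inv := fun n => Subtype.ext (Subtype.ext (mul_inv_cancel_left _ _))
          right_inv := fun c => Subtype.ext (inv_mul_cancel_left _ _) })
      · refine Subgroup.mem_inf.mpr ⟨N.mul_mem (N.inv_mem hn₀) (n : ↥N).2, ?_⟩
        rw [Subgroup.mem_centralizer_singleton_iff]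
        have h : ((n : ↥N) : G) * (y : G) * ((n : ↥N) : G)⁻¹ = n₀ * (y : G) * n₀⁻¹ :=
          (congrArg Subtype.val n.2).trans hn.symm
        rw [mul_inv_eq_iff_eq_mul] at h
        rw [mul_assoc, h]
        group
      · exact N.mul_mem hn₀ (Subgroup.mem_inf.mp c.2).1
      · have h := Subgroup.mem_centralizer_singleton_iff.mp (Subgroup.mem_inf.mp c.2).2
        refine Subtype.ext ?_
        change n₀ * (c : G) * (y : G) * (n₀ * (c : G))⁻¹ = (x : G)
        rw [mul_assoc n₀, h, ← hn]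
        group
    · rw [Finset.card_eq_zero.mpr ?_, Nat.cast_zero]
      refine Finset.filter_eq_empty_iff.mpr fun n _ h => hc (isConj_iff.mpr ⟨n, ?_⟩)
      exact congrArg Subtype.val h
  rw [hrhs, map_sum, ← Finset.sum_fiberwise' Finset.univ φ (fun x => (starRingEnd ℂ) (η x))]
  simp only [Finset.sum_const, nsmul_eq_mul, hfib, hS y _ hy]
  simp only [Finset.mul_sum]
  refine Finset.sum_congr rfl fun x _ => ?_
  split_ifs
  · simp only [map_mul, map_ratCast, Complex.conj_natCast]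
    field_simp
  · simp

end Cfsg.Agent.S4720
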