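import Cfsg.Statements.S4721
import Cfsg.Agent.Lib.FpfBlock.Normalizer
import Cfsg.Agent.Lib.FpfBlock.IndexThreeInvolution

set_option autoImplicit false
open Cfsg

namespace Cfsg.Agent.S4721

/-- Let p be a prime, M a maximal ideal of the algebraic integers containing p, and G a finite group with a nontrivial abelian Sylow p-subgroup P, N = N_G(P), C = C_G(P), such that N/C is cyclic of order 3, #P > 4, and C_G(y) ∩ N = C for every non-identity y ∈ P. Then the principal p-block is the disjoint union of a set X of exactly 3 characters containing the principal character and a set Y of (#P − 1)/3 characters, with signs a_χ = ±1 (χ ∈ X, a = 1 at the principal character) and δ = ±1 such that every χ ∈ X takes the value a_χ at every element whose p-part is a non-identity element of P, and there is a map ζ from the non-principal linear characters of P onto Y, constant on N-conjugacy classes,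 with ζ_ψ(z) = δ·Σ ψ'(y) over the N-orbit of ψ, for z with p-part y ≠ 1 in P. If moreover G has an involution lying in no proper normal subgroup of G, then exactly two of the three numbers −δ and a_χ (χ ∈ X non-principal) equal −1, and the product of the degrees of the two non-principal members of X and of any member of Y is a perfect square. -/
theorem result {G : Type*} [Group G] [Finite G] (p : ℕ) [Fact p.Prime] (M : Ideal Cfsg.AlgInt) (hM : Cfsg.IsPModular p M) (P : Sylow p G) (hab : IsMulCommutative P) (hP1 : Nat.card P ≠ 1) (hCN : (Subgroup.centralizer ((P : Subgroup G) : Set G)).relIndex (Subgroup.normalizer ((P : Subgroup G) : Set G)) = 3) (hcyc : ∃ g : G, g ∈ Subgroup.normalizer ((P : Subgroup G) : Set G) ∧ Subgroup.centralizer ((P : Subgroup G) : Set G) ⊔ Subgroup.zpowers g = Subgroup.normalizer ((P : Subgroup G) : Set G)) (hm2 : 3 + 1 < Nat.card P) (hfrob : ∀ y : G, y ∈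 (P : Subgroup G) → y ≠ 1 → Subgroup.centralizer ({y} : Set G) ⊓ Subgroup.normalizer ((P : Subgroup G) : Set G) = Subgroup.centralizer ((P : Subgroup G) : Set G)) : ∃ (X Y : Set (Cfsg.IrrCharacter G)), Cfsg.principalBlock M G = X ∪ Y ∧ Disjoint X Y ∧ Nat.card X = 3 ∧ Nat.card Y = (Nat.card P - 1) / 3 ∧ (∃ χ₁ ∈ X, (χ₁ : G → ℂ) = fun _ => 1) ∧ ∃ (a : Cfsg.IrrCharacter G → ℤ) (δ : ℤ) (ζ : (↥(P : Subgroup G) →* ℂˣ) → Cfsg.IrrCharacter G), (δ = 1 ∨ δ = -1) ∧ (∀ χ ∈ X, (a χ = 1 ∨ a χ = -1) ∧ ∀ z y : G, Cfsg.IsPPart p z y → y ∈ (P : Subgroup G) → y ≠ 1 → (χ : G → ℂ) z = (a χ : ℂ)) ∧ (∀ ψ : ↥(P : Subgroup G) →* ℂˣ, ψ ≠ 1 → ζ ψ ∈ Y) ∧ (∀ η ∈ Y, ∃ ψ : ↥(P : Subgroup G) →* ℂˣ, ψ ≠ 1 ∧ ζ ψ = η) ∧ (∀ ψ ψ' : ↥(P : Subgroup G) →* ℂˣ, ψ ≠ 1 → (∃ n : G, n ∈ Subgroup.normalizer ((P : Subgroup G) : Set G) ∧ ∀ w w' : ↥(P : Subgroup G), (w' : G) = n * w * n⁻¹ → ψ' w' = ψ w) → ζ ψ' = ζ ψ) ∧ (∀ ψ : ↥(P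 : Subgroup G) →* ℂˣ, ψ ≠ 1 → ∀ (z : G) (y : ↥(P : Subgroup G)), Cfsg.IsPPart p z (y : G) → (y : G) ≠ 1 → (ζ ψ : G → ℂ) z = (δ : ℂ) * ∑ᶠ ψ' ∈ {ψ' : ↥(P : Subgroup G) →* ℂˣ | ∃ n : G, n ∈ Subgroup.normalizer ((P : Subgroup G) : Set G) ∧ ∀ w w' : ↥(P : Subgroup G), (w' : G) = n * w * n⁻¹ → ψ' w' = ψ w}, ((ψ' y : ℂˣ) : ℂ)) ∧ ((∃ t : G, orderOf t = 2 ∧ ∀ K : Subgroup G, K.Normal → t ∈ K → K = ⊤) → Nat.card {χ : Cfsg.IrrCharacter G // χ ∈ X ∧ (χ : G → ℂ) ≠ (fun _ => 1) ∧ a χ = -1} + (if δ = 1 then 1 else 0) = 2 ∧ ∀ η ∈ Y, IsSquare (Cfsg.charDegree (η : G → ℂ) * ∏ᶠ χ ∈ {χ : Cfsg.IrrCharacter G | χ ∈ X ∧ (χ : G → ℂ) ≠ fun _ => 1}, Cfsg.charDegree (χ : G → ℂ))) := by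
  classical
  haveI := hM.2.1
  obtain ⟨n, hF, hnN, hcover⟩ :=
    Lib.FpfBlock.Normalizer.exists_fpf P hab 3 (by norm_num) hCN hcyc hfrob
  haveI := Lib.FpfBlock.Setting.finite_dual hF
  haveI := Fintype.ofFinite ((P : Subgroup G) →* ℂˣ)
  obtain ⟨Y, a, δ, ζ, hδ, hYB, h1Y, hYm, ha1, hX, hXc, hζY, hζs, hζc, hζv, hYr, hrel⟩ :=
    Lib.FpfBlock.IndexThree.exists_three hF M hM hm2
  have hrel' := fun ψ ψ' => Lib.FpfBlock.Normalizer.rel_iff hF hnN hcover ψ ψ'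
  set e := Lib.Characters.Basic.oneChar G
  have he : ∀ χ : Cfsg.IrrCharacter G, (χ : G → ℂ) = (fun _ => 1) ↔ χ = e := fun χ =>
    ⟨fun h => Subtype.ext (h.trans (funext fun g => (Lib.Characters.Basic.oneChar_apply g).symm)),
      fun h => h ▸ funext fun g => Lib.Characters.Basic.oneChar_apply g⟩
  refine ⟨Cfsg.principalBlock M G \ ↑Y, ↑Y, (Set.sdiff_union_of_subset hYB).symm,
    Set.disjoint_sdiff_left, hXc, ?_,
    ⟨e, ⟨Lib.Blocks.oneChar_mem_principalBlock, h1Y⟩, (he e).2 rfl⟩,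
    a, δ, ζ, hδ, fun χ hχ => hX χ hχ.1 hχ.2, hζY, hζs, ?_, ?_, ?_⟩
  · rw [Nat.card_coe_set_eq, Set.ncard_coe_finset]
    change Y.card = (Nat.card (P : Subgroup G) - 1) / 3
    omega
  · intro ψ ψ' hψ hex
    obtain ⟨hne, ho⟩ := (hrel' ψ ψ' hψ).1 hex
    exact hζc ψ ψ' hψ hne ho
  · intro ψ hψ z y hz hy
    rw [hζv ψ hψ z y hz hy, finsum_mem_eq_finite_toFinset_sum _ (Set.toFinite _)]
    congr 1
    refine Finset.sum_congr (Finset.ext fun ψ' => ?_) fun _ _ => rfl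
    simp only [Lib.FpfBlock.Principal.orbit, Finset.mem_filter, Finset.mem_erase, Finset.mem_univ,
      and_true, Set.Finite.mem_toFinset, Set.mem_setOf_eq, hrel' ψ ψ' hψ]
  · rintro ⟨t, ht, hgen⟩
    set X := Cfsg.principalBlock M G \ ↑Y with hXdef
    obtain ⟨χ₁, χ₂, h12, hXe⟩ : ∃ χ₁ χ₂, χ₁ ≠ χ₂ ∧ X \ {e} = {χ₁, χ₂} := by
      have heX : e ∈ X := ⟨Lib.Blocks.oneChar_mem_principalBlock, h1Y⟩
      rw [← Set.ncard_eq_two, Set.ncard_sdiff_singleton_of_mem heX, ← Nat.card_coe_set_eq, hXc]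
    have hn : χ₁ ≠ e ∧ χ₂ ≠ e :=
      ⟨((Set.ext_iff.1 hXe χ₁).2 (by simp)).2, ((Set.ext_iff.1 hXe χ₂).2 (by simp)).2⟩
    have hXeq : X = {e, χ₁, χ₂} := by
      rw [← hXe, Set.insert_sdiff_singleton, Set.insert_eq_of_mem]
      exact ⟨Lib.Blocks.oneChar_mem_principalBlock, h1Y⟩
    obtain ⟨hprod, hnot, hsq⟩ := Lib.FpfBlock.IndexThree.signs_and_square hF M hM hm2 hδ hYB h1Y
      hYm ha1 hX h12 hn.1 hn.2 hXeq hζY hζs hζc hζv hYr hrel ht hgen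
    have hs1 := (hX χ₁ ((Set.ext_iff.1 hXeq χ₁).2 (by simp)).1
      ((Set.ext_iff.1 hXeq χ₁).2 (by simp)).2).1
    have hs2 := (hX χ₂ ((Set.ext_iff.1 hXeq χ₂).2 (by simp)).1
      ((Set.ext_iff.1 hXeq χ₂).2 (by simp)).2).1
    have hset : {χ : Cfsg.IrrCharacter G | χ ∈ X ∧ (χ : G → ℂ) ≠ fun _ => 1} = {χ₁, χ₂} := by
      rw [← hXe]
      ext χ
      simp [he χ]
    refine ⟨?_, fun η hη => by rw [hset, finprod_mem_pair h12]; exact hsq η hη⟩
    have hsub : {χ : Cfsg.IrrCharacter G | χ ∈ X ∧ (χ : G → ℂ) ≠ (fun _ => 1) ∧ a χ = -1} =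
        {χ ∈ ({χ₁, χ₂} : Set (Cfsg.IrrCharacter G)) | a χ = -1} := by
      rw [← hset]
      ext χ
      simp [and_assoc]
    rw [show Nat.card {χ : Cfsg.IrrCharacter G // χ ∈ X ∧ (χ : G → ℂ) ≠ (fun _ => 1) ∧ a χ = -1} =
      Set.ncard {χ : Cfsg.IrrCharacter G | χ ∈ X ∧ (χ : G → ℂ) ≠ (fun _ => 1) ∧ a χ = -1} from
      (Nat.card_coe_set_eq _), hsub]
    rcases hs1 with e1 | e1 <;> rcases hs2 with e2 | e2
    · exact absurd ⟨e1, e2⟩ hnot
    · have : δ = 1 := by rw [e1, e2] at hprod; linarith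
      rw [if_pos this, show {χ ∈ ({χ₁, χ₂} : Set (Cfsg.IrrCharacter G)) | a χ = -1} = {χ₂} by
        ext χ; simp; grind, Set.ncard_singleton]
    · have : δ = 1 := by rw [e1, e2] at hprod; linarith
      rw [if_pos this, show {χ ∈ ({χ₁, χ₂} : Set (Cfsg.IrrCharacter G)) | a χ = -1} = {χ₁} by
        ext χ; simp; grind, Set.ncard_singleton]
    · have : δ = -1 := by rw [e1, e2] at hprod; linarith
      rw [if_neg (by omega), show {χ ∈ ({χ₁, χ₂} : Set (Cfsg.IrrCharacter G)) | a χ = -1} =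
        {χ₁, χ₂} by ext χ; simp; grind, Set.ncard_pair h12]

end Cfsg.Agent.S4721
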