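import Cfsg.Statements.S4722
import Cfsg.Agent.Lib.BrauerMap.PrincipalSection
import Cfsg.Agent.Lib.Blocks.Orthogonality
import Cfsg.Agent.Lib.H80.ClassMult
import Cfsg.Agent.Lib.Chars82.PrincipalBlock
import Cfsg.Agent.Lib.Cores.Basic
import Cfsg.Agent.Lib.Characters.Kernel
import Cfsg.Agent.Lib.Characters.Generalized
import Cfsg.Prelude.Def_CaseTheorems
-- import your own Cfsg.Agent.* helpers here

set_option autoImplicit false
open Cfsg

namespace Cfsg.Agent.S4722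

open Lib.Characters.Basic

/-- Weighted variance: three moment equations and at most one positive weight. -/
theorem eq_of_moments {ι : Type*} (s : Finset ι) (k r d : ι → ℝ) (hd : ∀ i, 0 < d i)
    (e1 : ∑ i ∈ s, k i * d i = 0) (e2 : ∑ i ∈ s, k i * r i = 0)
    (e3 : ∑ i ∈ s, k i * r i ^ 2 / d i = 0) {i₀ : ι} (hi : i₀ ∈ s) (hk : k i₀ ≠ 0)
    (hr : r i₀ = d i₀) (hone : ∀ i ∈ s, ∀ j ∈ s, 0 < k i → 0 < k j → i = j) :
    ∀ i ∈ s, k i ≠ 0 → r i = d i := by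
  classical
  obtain ⟨j, hj, hjpos⟩ : ∃ j ∈ s, 0 < k j := by
    by_contra hn
    push Not at hn
    have h := (Finset.sum_eq_zero_iff_of_nonpos fun i hi' =>
      mul_nonpos_of_nonpos_of_nonneg (hn i hi') (hd i).le).mp e1 i₀ hi
    exact hk ((mul_eq_zero.mp h).resolve_right (hd i₀).ne')
  set l := r j / d j with hl
  have hsum : ∑ i ∈ s, k i * (r i - l * d i) ^ 2 / d i = 0 := by
    have h : ∀ i ∈ s, k i * (r i - l * d i) ^ 2 / d i =
        k i * r i ^ 2 / d i - 2 * l * (k i * r i) + l ^ 2 * (k i * d i) := fun i _ => by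
      have := (hd i).ne'
      field_simp
      ring
    rw [Finset.sum_congr rfl h, Finset.sum_add_distrib, Finset.sum_sub_distrib, ← Finset.mul_sum,
      ← Finset.mul_sum, e1, e2, e3]
    ring
  have hnon : ∀ i ∈ s, k i * (r i - l * d i) ^ 2 / d i ≤ 0 := by
    intro i hi'
    rcases le_or_gt (k i) 0 with h | h
    · exact div_nonpos_of_nonpos_of_nonneg
        (mul_nonpos_of_nonpos_of_nonneg h (sq_nonneg _)) (hd i).le
    · have := (hd j).ne'
      rw [hone i hi' j hj h hjpos, hl, div_mul_cancel₀ _ this, sub_self]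
      simp
  have hz := (Finset.sum_eq_zero_iff_of_nonpos hnon).mp hsum
  have hlin : ∀ i ∈ s, k i ≠ 0 → r i = l * d i := by
    intro i hi' hki
    have h := hz i hi'
    rw [div_eq_zero_iff, or_iff_left (hd i).ne', mul_eq_zero, or_iff_right hki,
      pow_eq_zero_iff two_ne_zero, sub_eq_zero] at h
    exact h
  have hl1 : l = 1 := by
    have h := hlin i₀ hi hk
    rw [hr] at h
    exact mul_right_cancel₀ (hd i₀).ne' (by rw [one_mul]; exact h.symm)
  intro i hi' hki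
  rw [hlin i hi' hki, hl1, one_mul]



/-- Let M be a maximal ideal of the algebraic integers containing 2, P a 2-subgroup of the finite group G, U a subset of P, and t an involution of G such that no element of U is inverted by any conjugate of t. Let θ be a generalized character of P vanishing outside U, and for χ in the principal 2-block B₀ put a_χ = #P⁻¹ Σ_{y ∈ P} χ(y) θ(y⁻¹). Then Σ_{χ ∈ B₀} a_χ χ(t)^2/χ(1) = 0, Σ_{χ ∈ B₀} a_χ χ(1) = 0 and Σ_{χ ∈ B₀} a_χ χ(t) = 0. If moreover #P⁻¹ Σ_{y ∈ P} θ(y) ≠ 0, then either at least two of the a_χ have positive real part and at least two have negative real part, or G has a proper normal subgroup containing O_2'(G) and t. -/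
theorem result {G : Type*} [Group G] [Finite G] (M : Ideal Cfsg.AlgInt) (hM : Cfsg.IsPModular 2 M) (P : Subgroup G) (hP : IsPGroup 2 P) (U : Set G) (hUP : U ⊆ (P : Set G)) (t : G) (ht : orderOf t = 2) (hinv : ∀ u ∈ U, ∀ g : G, (g * t * g⁻¹) * u * (g * t * g⁻¹)⁻¹ ≠ u⁻¹) (θ : ↥P → ℂ) (hθ : Cfsg.IsGeneralizedCharacter ↥P θ) (hθU : ∀ y : ↥P, (y : G) ∉ U → θ y = 0) : (∑ᶠ χ ∈ Cfsg.principalBlock M G, ((Nat.card ↥P : ℂ)⁻¹ * ∑ᶠ y : ↥P, (χ : G → ℂ) (y : G) * θ y⁻¹) * (χ : G → ℂ) t ^ 2 / (χ : G → ℂ) 1 = 0) ∧ (∑ᶠ χ ∈ Cfsg.principalBlock M G, ((Nat.card ↥P : ℂ)⁻¹ * ∑ᶠ y : ↥P, (χ : G → ℂ) (y : G) * θ y⁻¹) * (χ : G → ℂ) 1 = 0) ∧ (∑ᶠ χ ∈ Cfsg.principalBlock M G, ((Nat.card ↥P : ℂ)⁻¹ * ∑ᶠ y : ↥P, (χ : G → ℂ) (y : G) * θ y⁻¹) * (χ : G → ℂ) t = 0) ∧ ((Nat.card ↥P : ℂ)⁻¹ * ∑ᶠ y : ↥P, θ y ≠ 0 → (2 ≤ Nat.card {χ : Cfsg.IrrCharacter G // χ ∈ Cfsg.principalBlock M G ∧ 0 < (((Nat.card ↥P : ℂ)⁻¹ * ∑ᶠ y : ↥P, (χ : G → ℂ) (y : G)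 * θ y⁻¹)).re} ∧ 2 ≤ Nat.card {χ : Cfsg.IrrCharacter G // χ ∈ Cfsg.principalBlock M G ∧ (((Nat.card ↥P : ℂ)⁻¹ * ∑ᶠ y : ↥P, (χ : G → ℂ) (y : G) * θ y⁻¹)).re < 0}) ∨ ∃ K : Subgroup G, K.Normal ∧ K ≠ ⊤ ∧ Cfsg.pPrimeCore 2 G ≤ K ∧ t ∈ K) := by
  classical
  haveI := hM.2.1
  haveI := Fintype.ofFinite G
  haveI := Fintype.ofFinite ↥P
  haveI : Fintype (Cfsg.IrrCharacter G) := Fintype.ofFinite _
  have hp2 : Nat.Prime 2 := Nat.prime_two
  have htp : Cfsg.IsPPart 2 t t := Lib.Blocks.isPPart_self hp2 ⟨1, by rw [ht, pow_one]⟩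
  have h1p : Cfsg.IsPPart 2 (1 : G) 1 := Lib.Blocks.isPPart_self hp2 ⟨0, by simp⟩
  have htt : t⁻¹ = t := inv_eq_of_mul_eq_one_right (by rw [← pow_two, ← ht, pow_orderOf_eq_one])
  have hpe : ∀ y : ↥P, ∃ k : ℕ, orderOf (y : G) = 2 ^ k := fun y => by
    obtain ⟨k, hk⟩ := hP y
    obtain ⟨i, -, hi⟩ := (Nat.dvd_prime_pow hp2).mp (orderOf_dvd_of_pow_eq_one hk)
    exact ⟨i, by rw [Subgroup.orderOf_coe]; exact hi⟩
  set s := (Set.toFinite (Cfsg.principalBlock M G)).toFinset with hs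
  let a : Cfsg.IrrCharacter G → ℂ := fun χ =>
    (Nat.card ↥P : ℂ)⁻¹ * ∑ᶠ y : ↥P, (χ : G → ℂ) (y : G) * θ y⁻¹
  have hweight : ∀ f : Cfsg.IrrCharacter G → ℂ,
      (∀ v : ↥P, (v : G) ∈ U → ∑ χ ∈ s, (χ : G → ℂ) (v : G)⁻¹ * f χ = 0) →
      ∑ χ ∈ s, a χ * f χ = 0 := by
    intro f hf
    have ha' : ∀ χ : Cfsg.IrrCharacter G,
        a χ * f χ = (Nat.card ↥P : ℂ)⁻¹ * ∑ v : ↥P, θ v * ((χ : G → ℂ) (v : G)⁻¹ * f χ) := by
      intro χ
      simp only [a, finsum_eq_sum_of_fintype, mul_assoc, Finset.sum_mul]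
      congr 1
      refine Fintype.sum_equiv (Equiv.inv ↥P) _ _ fun y => ?_
      simp only [Equiv.inv_apply, Subgroup.coe_inv, inv_inv]
      ring
    simp only [ha', ← Finset.mul_sum]
    rw [Finset.sum_comm]
    simp only [← Finset.mul_sum]
    rw [Finset.sum_eq_zero, mul_zero]
    intro v _
    by_cases hv : (v : G) ∈ U
    · rw [hf v hv, mul_zero]
    · rw [hθU v hv, zero_mul]
  have horth : ∀ v : ↥P, (v : G) ∈ U → ∀ g x : G, Cfsg.IsPPart 2 g x → ¬ IsConj x (v : G) →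
      ∑ χ ∈ s, (χ : G → ℂ) g * (χ : G → ℂ) (v : G)⁻¹ = 0 := by
    intro v hv g x hgx hne
    rw [hs, ← finsum_mem_eq_finite_toFinset_sum _ (Set.toFinite (Cfsg.principalBlock M G))]
    exact Lib.Blocks.sum_block_eq_zero hM hgx (Lib.Blocks.isPPart_self hp2 (hpe v)) hne
      Lib.Blocks.isPBlock_principalBlock
  have hone : ∀ v : ↥P, (v : G) ∈ U → ¬ IsConj (1 : G) (v : G) := fun v hv hc => by
    have h1 : (v : G) = 1 := isConj_one_right.mp hc
    exact hinv _ hv 1 (by rw [h1]; simp)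
  have htv : ∀ v : ↥P, (v : G) ∈ U → ¬ IsConj t (v : G) := fun v hv hc => by
    obtain ⟨g, hg⟩ := isConj_iff.mp hc
    refine hinv _ hv g ?_
    rw [hg, mul_inv_cancel_right, ← hg]
    conv_rhs => rw [show (g * t * g⁻¹)⁻¹ = g * t⁻¹ * g⁻¹ by group, htt]
  have e1 : ∑ χ ∈ s, a χ * (χ : G → ℂ) 1 = 0 := hweight _ fun v hv => by
    rw [← horth v hv 1 1 h1p (hone v hv)]
    exact Finset.sum_congr rfl fun χ _ => mul_comm _ _
  have e2 : ∑ χ ∈ s, a χ * (χ : G → ℂ) t = 0 := hweight _ fun v hv => by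
    rw [← horth v hv t t htp (htv v hv)]
    exact Finset.sum_congr rfl fun χ _ => mul_comm _ _
  have e3 : ∑ χ ∈ s, a χ * ((χ : G → ℂ) t ^ 2 / (χ : G → ℂ) 1) = 0 := hweight _ fun v hv => by
    have hG : (Nat.card G : ℂ) ≠ 0 := Nat.cast_ne_zero.mpr Nat.card_pos.ne'
    have hmul : ∀ χ : Cfsg.IrrCharacter G,
        (χ : G → ℂ) (v : G)⁻¹ * ((χ : G → ℂ) t ^ 2 / (χ : G → ℂ) 1) = (Nat.card G : ℂ)⁻¹ *
          ∑ b : G, (χ : G → ℂ) (t * (b * t * b⁻¹)) * (χ : G → ℂ) (v : G)⁻¹ := by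
      intro χ
      rw [← Finset.sum_mul, Lib.H80.ClassMult.sum_apply_mul_conj]
      have := apply_one_ne_zero χ
      field_simp
    simp only [hmul, ← Finset.mul_sum]
    rw [Finset.sum_comm, Finset.sum_eq_zero, mul_zero]
    intro b _
    obtain ⟨x, hx⟩ := Lib.Blocks.exists_isPPart hp2 (t * (b * t * b⁻¹))
    refine horth v hv _ x hx fun hc => ?_
    -- the 2-part of a product of two conjugates of t is inverted by t
    have hzi : (t * (b * t * b⁻¹))⁻¹ = t * (t * (b * t * b⁻¹)) * t⁻¹ := by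
      rw [show (t * (b * t * b⁻¹))⁻¹ = b * t⁻¹ * b⁻¹ * t⁻¹ by group, htt,
        show t * (t * (b * t * b⁻¹)) = (t * t) * (b * t * b⁻¹) by group]
      nth_rewrite 3 [← htt]
      rw [inv_mul_cancel, one_mul]
    have hxi : Cfsg.IsPPart 2 (t * (b * t * b⁻¹))⁻¹ x⁻¹ := by
      obtain ⟨y, hy, hcy, ⟨i, hi⟩, hy'⟩ := hx
      refine ⟨y⁻¹, ?_, hcy.inv_inv, ⟨i, by rw [orderOf_inv, hi]⟩, by rwa [orderOf_inv]⟩
      rw [← hy, ← mul_inv_rev, hcy.eq]
    have hxt := Lib.BrauerMap.PrincipalSection.isPPart_conj hx t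
    rw [← hzi] at hxt
    have heq : t * x * t⁻¹ = x⁻¹ :=
      Lib.BrauerMap.PrincipalSection.isPPart_unique hp2 hxt hxi
    obtain ⟨g, hg⟩ := isConj_iff.mp hc
    refine hinv _ hv g ?_
    rw [← hg, show g * t * g⁻¹ * (g * x * g⁻¹) * (g * t * g⁻¹)⁻¹ = g * (t * x * t⁻¹) * g⁻¹ by group,
      heq]
    group
  have hfin : ∀ f : Cfsg.IrrCharacter G → ℂ,
      ∑ᶠ χ ∈ Cfsg.principalBlock M G, f χ = ∑ χ ∈ s, f χ := fun f =>
    finsum_mem_eq_finite_toFinset_sum _ (Set.toFinite _)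
  refine ⟨?_, (hfin _).trans e1, (hfin _).trans e2, fun hc0 => ?_⟩
  · rw [hfin]
    simp only [mul_div_assoc]
    exact e3
  -- the integers a χ
  have hint : ∀ χ : Cfsg.IrrCharacter G, ∃ k : ℤ, a χ = (k : ℂ) := by
    intro χ
    obtain ⟨k, hk⟩ := Lib.Characters.Generalized.exists_classInner_int hθ
      (Lib.Characters.Generalized.of_isCharacter
        (isCharacter_comp P.subtype (isCharacter_irr χ)))
    refine ⟨k, ?_⟩
    rw [← hk, Cfsg.classInner]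
    simp only [a, finsum_eq_sum_of_fintype]
    congr 1
    refine Fintype.sum_equiv (Equiv.inv ↥P) _ _ fun y => ?_
    rw [Function.comp_apply, Equiv.inv_apply, map_inv, Subgroup.coe_subtype,
      ← apply_inv (isCharacter_irr χ), inv_inv, mul_comm]
  choose k hk using hint
  have hre : ∀ χ, (a χ).re = (k χ : ℝ) := fun χ => by rw [hk χ, Complex.intCast_re]
  have htr : ∀ χ : Cfsg.IrrCharacter G, (χ : G → ℂ) t = (((χ : G → ℂ) t).re : ℂ) := by
    intro χ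
    have h := apply_inv (isCharacter_irr χ) t
    rw [htt] at h
    exact (Complex.conj_eq_iff_re.mp h.symm).symm
  have hdeg : ∀ χ : Cfsg.IrrCharacter G,
      (χ : G → ℂ) 1 = ((Cfsg.charDegree (χ : G → ℂ) : ℝ) : ℂ) := fun χ => by
    rw [Complex.ofReal_natCast]
    exact (Lib.H80.ClassMult.deg_spec χ).2
  set d : Cfsg.IrrCharacter G → ℝ := fun χ => (Cfsg.charDegree (χ : G → ℂ) : ℝ) with hd
  set r : Cfsg.IrrCharacter G → ℝ := fun χ => ((χ : G → ℂ) t).re with hr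
  have hdp : ∀ χ, 0 < d χ := fun χ => Nat.cast_pos.mpr (Lib.H80.ClassMult.deg_spec χ).1
  have hkC : ∀ χ, a χ = ((k χ : ℝ) : ℂ) := fun χ => by rw [hk χ, Complex.ofReal_intCast]
  have r1 : ∑ χ ∈ s, (k χ : ℝ) * d χ = 0 := by
    apply Complex.ofReal_injective
    rw [Complex.ofReal_sum, Complex.ofReal_zero, ← e1]
    exact Finset.sum_congr rfl fun χ _ => by rw [Complex.ofReal_mul, hkC χ, hdeg χ]
  have r2 : ∑ χ ∈ s, (k χ : ℝ) * r χ = 0 := by
    apply Complex.ofReal_injective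
    rw [Complex.ofReal_sum, Complex.ofReal_zero, ← e2]
    exact Finset.sum_congr rfl fun χ _ => by rw [Complex.ofReal_mul, hkC χ, ← htr χ]
  have r3 : ∑ χ ∈ s, (k χ : ℝ) * r χ ^ 2 / d χ = 0 := by
    apply Complex.ofReal_injective
    rw [Complex.ofReal_sum, Complex.ofReal_zero, ← e3]
    exact Finset.sum_congr rfl fun χ _ => by
      rw [Complex.ofReal_div, Complex.ofReal_mul, Complex.ofReal_pow, hkC χ, ← htr χ, ← hdeg χ,
        mul_div_assoc]
  have h0s : oneChar G ∈ s := by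
    rw [hs, Set.Finite.mem_toFinset]
    exact Lib.Blocks.oneChar_mem_principalBlock
  have h0k : (k (oneChar G) : ℝ) ≠ 0 := by
    intro h
    apply hc0
    have h' : a (oneChar G) = 0 := by rw [hkC, h, Complex.ofReal_zero]
    rw [← h']
    simp only [a, finsum_eq_sum_of_fintype, oneChar_apply, one_mul]
    congr 1
    exact Fintype.sum_equiv (Equiv.inv ↥P) _ _ fun y => by simp
  have h0r : r (oneChar G) = d (oneChar G) := by
    have h := hdeg (oneChar G)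
    rw [oneChar_apply] at h
    simp only [hr, hd, oneChar_apply, h, Complex.ofReal_re]
  rw [or_iff_not_imp_left]
  intro hnot
  have hall : ∀ χ ∈ s, (k χ : ℝ) ≠ 0 → r χ = d χ := by
    have hsub : ∀ q : Cfsg.IrrCharacter G → Prop,
        ¬ 2 ≤ Nat.card {χ : Cfsg.IrrCharacter G // χ ∈ Cfsg.principalBlock M G ∧ q χ} →
        ∀ i ∈ s, ∀ j ∈ s, q i → q j → i = j := by
      intro q hq i hi j hj hqi hqj
      by_contra hij
      apply hq
      haveI : Nontrivial {χ : Cfsg.IrrCharacter G // χ ∈ Cfsg.principalBlock M G ∧ q χ} :=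
        ⟨⟨⟨i, (Set.Finite.mem_toFinset _).mp hi, hqi⟩, ⟨j, (Set.Finite.mem_toFinset _).mp hj, hqj⟩,
          fun h => hij (congrArg Subtype.val h)⟩⟩
      exact Finite.one_lt_card
    rcases not_and_or.mp hnot with h | h
    · have h' := hsub (fun χ => 0 < (a χ).re) h
      simp only [hre] at h'
      exact eq_of_moments s _ r d hdp r1 r2 r3 h0s h0k h0r h'
    · have h' := hsub (fun χ => (a χ).re < 0) h
      simp only [hre] at h'
      intro χ hχ hne
      refine eq_of_moments s (fun χ => -(k χ : ℝ)) r d hdp ?_ ?_ ?_ h0s (neg_ne_zero.mpr h0k) h0r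
        ?_ χ hχ (neg_ne_zero.mpr hne)
      · simp only [neg_mul, Finset.sum_neg_distrib, r1, neg_zero]
      · simp only [neg_mul, Finset.sum_neg_distrib, r2, neg_zero]
      · simp only [neg_mul, neg_div, Finset.sum_neg_distrib, r3, neg_zero]
      · intro i hi j hj hi' hj'
        exact h' i hi j hj (neg_pos.mp hi') (neg_pos.mp hj')
  obtain ⟨χ, hχs, hχne, hχ1⟩ : ∃ χ ∈ s, (k χ : ℝ) ≠ 0 ∧ χ ≠ oneChar G := by
    by_contra hn
    push Not at hn
    rw [Finset.sum_eq_single (oneChar G) (fun χ hχ hne => by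
      rw [show (k χ : ℝ) = 0 from by_contra fun h => hne (hn χ hχ h), zero_mul])
      (fun h => absurd h0s h)] at r1
    exact h0k ((mul_eq_zero.mp r1).resolve_right (hdp _).ne')
  refine ⟨Lib.Characters.Kernel.charKer (isCharacter_irr χ),
    Lib.Characters.Kernel.charKer_normal _, fun htop => ?_, fun g hg => ?_, ?_⟩
  · have hconst : ∀ g : G, (χ : G → ℂ) g = (χ : G → ℂ) 1 := fun g =>
      (Lib.Characters.Kernel.mem_charKer _ g).mp (htop ▸ Subgroup.mem_top g)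
    have h0 := classInner_irr_of_ne hχ1
    rw [Cfsg.classInner] at h0
    simp only [hconst, oneChar_apply, map_one, mul_one, Finset.sum_const, Finset.card_univ,
      nsmul_eq_mul, Nat.card_eq_fintype_card] at h0
    rw [inv_mul_cancel_left₀ (Nat.cast_ne_zero.mpr Fintype.card_ne_zero)] at h0
    exact apply_one_ne_zero χ h0
  · haveI : (Cfsg.pPrimeCore 2 G).Normal := Cfsg.pPrimeCore_normal 2 _
    refine (Lib.Characters.Kernel.mem_charKer _ g).mpr ?_
    exact Lib.Chars82.PrincipalBlock.apply_eq_of_mem_principalBlock hM (Cfsg.pPrimeCore 2 G)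
      (Lib.Cores.not_dvd_card_pPrimeCore 2) ((Set.Finite.mem_toFinset _).mp hχs) ⟨g, hg⟩
  · refine (Lib.Characters.Kernel.mem_charKer _ t).mpr ?_
    rw [htr χ, hdeg χ]
    exact congrArg _ (hall χ hχs hχne)

end Cfsg.Agent.S4722
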