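import Cfsg.Statements.S4723
-- import your own Cfsg.Agent.* helpers here
import Cfsg.Agent.Lib.BlockStab.FixedHeightZero

set_option autoImplicit false
open Cfsg

namespace Cfsg.Agent.S4723

/-- Let p be a prime, M a maximal ideal of the algebraic integers containing p, H a normal subgroup of the finite group G and b a p-block of H. Let T be the stabilizer of b in G. Then b contains a character θ of height zero whose own stabilizer in G (the elements g with θ(g h g⁻¹) = θ(h) for all h ∈ H) has index prime to p in T, i.e. contains a Sylow p-subgroup of T. -/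
theorem result {G : Type*} [Group G] [Finite G] (p : ℕ) [Fact p.Prime] (M : Ideal Cfsg.AlgInt) (hM : Cfsg.IsPModular p M) (H : Subgroup G) [H.Normal] (b : Set (Cfsg.IrrCharacter ↥H)) (hb : Cfsg.IsPBlock M b) (T : Subgroup G) (hT : (∀ g : G, g ∈ T ↔ ∀ θ ∈ b, ∀ θ' : Cfsg.IrrCharacter ↥H, (∀ h h' : ↥H, (h' : G) = g * h * g⁻¹ → (θ' : ↥H → ℂ) h' = (θ : ↥H → ℂ) h) → θ' ∈ b)) : ∃ θ ∈ b, Cfsg.blockHeight p b (θ : ↥H → ℂ) = 0 ∧ ∃ S : Subgroup G, S ≤ T ∧ (∀ g : G, g ∈ S ↔ (g ∈ T ∧ ∀ h h' : ↥H, (h' : G) = g * h * g⁻¹ → (θ : ↥H → ℂ) h' = (θ : ↥H → ℂ) h)) ∧ ¬ p ∣ S.relIndex T := by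
  haveI := hM.2.1
  obtain ⟨Q⟩ : Nonempty (Sylow p T) := inferInstance
  let φ : ↥(Q : Subgroup T) →* MulAut H :=
    (MulAut.conjNormal (H := H)).comp (T.subtype.comp (Q : Subgroup T).subtype)
  have hφ : ∀ q : ↥(Q : Subgroup T), ∀ θ ∈ b, Lib.BlockStab.twist θ (φ q) ∈ b := by
    intro q θ hθ
    refine (hT ((q : T) : G)⁻¹).mp (T.inv_mem (q : T).2) θ hθ _ fun h h' hh' => ?_
    rw [Lib.BlockStab.twist_apply]
    refine congrArg (θ : H → ℂ) ?_
    refine Subtype.ext ?_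
    show ((MulAut.conjNormal ((q : T) : G) h' : H) : G) = h
    rw [MulAut.conjNormal_apply, hh']
    group
  obtain ⟨θ, hθ, h0, hfix⟩ := Lib.BlockStab.exists_fixed_height_zero hM hb Q.2 φ hφ
  let S : Subgroup G :=
    { carrier := {g | g ∈ T ∧ ∀ h h' : H, (h' : G) = g * h * g⁻¹ → (θ : H → ℂ) h' = (θ : H → ℂ) h}
      one_mem' := ⟨T.one_mem, fun h h' hh' => by
        rw [show h' = h from Subtype.ext (by simpa using hh')]⟩
      mul_mem' := fun {x y} hx hy => ⟨T.mul_mem hx.1 hy.1, fun h h' hh' =>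
        (hx.2 ⟨y * h * y⁻¹, Subgroup.Normal.conj_mem inferInstance (h : G) h.2 y⟩ h' (by
          rw [hh']; group)).trans (hy.2 h ⟨_, Subgroup.Normal.conj_mem inferInstance (h : G) h.2 y⟩
          rfl)⟩
      inv_mem' := fun {x} hx => ⟨T.inv_mem hx.1, fun h h' hh' =>
        (hx.2 h' h (by rw [hh']; group)).symm⟩ }
  refine ⟨θ, hθ, h0, S, fun g hg => hg.1, fun g => Iff.rfl, ?_⟩
  have hle : (Q : Subgroup T) ≤ S.subgroupOf T := fun t ht => ⟨t.2, fun h h' hh' => by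
    rw [show h' = φ ⟨t, ht⟩ h from Subtype.ext (hh'.trans (MulAut.conjNormal_apply (t : G) h).symm)]
    exact hfix ⟨t, ht⟩ h⟩
  exact fun hd => Q.not_dvd_index (hd.trans (Subgroup.index_dvd_of_le hle))

end Cfsg.Agent.S4723
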