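import Cfsg.Statements.S4724
import Cfsg.Agent.Lib.UniqueDegree79.Orth
import Cfsg.Agent.Lib.BSWRecog.Main
import Cfsg.Agent.Lib.Linear.Order
import Cfsg.Agent.S0806

set_option autoImplicit false
open Cfsg

namespace Cfsg.Agent.S4724

/-- A simple group of prime degree `p ≥ 5` isomorphic to a two-dimensional projective special
linear group in odd characteristic has `p ∈ {5, 7, 11}` equal to the size of the field. -/
theorem field_card {α : Type*} [Fintype α] [DecidableEq α] {p : ℕ} [hp : Fact p.Prime]
    (hα : Fintype.card α = p) (G : Subgroup (Equiv.Perm α)) [MulAction.IsPretransitive G α]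
    (h5 : 5 ≤ p) [IsSimpleGroup G] {F : Type} [Field F] [Fintype F] (hodd : Odd (Fintype.card F))
    (i : G ≃* Matrix.ProjectiveSpecialLinearGroup (Fin 2) F) :
    (p = 5 ∨ p = 7 ∨ p = 11) ∧ Fintype.card F = p := by
  classical
  obtain ⟨q, hq⟩ : ∃ q, Fintype.card F = q := ⟨_, rfl⟩
  have hq1 : 2 ≤ q := hq ▸ Fintype.one_lt_card
  have hqodd : q % 2 = 1 := Nat.odd_iff.1 (hq ▸ hodd)
  have hord : Nat.gcd 2 (q - 1) * Nat.card G = q * (q - 1) * (q + 1) := by
    rw [Nat.card_congr i.toEquiv, ← hq]
    exact Lib.Linear.gcd_mul_card_PSL_two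
  rw [Nat.gcd_eq_left (by omega : 2 ∣ q - 1)] at hord
  have hdvd := Lib.Perm.PrimeDegreeSylow.dvd_card hα G
  have hfac := Lib.Perm.PrimeDegreeSylow.card_dvd_factorial hα G
  by_cases hmem : q ∈ ({2, 3, 5, 7, 9, 11} : Finset ℕ)
  · simp only [Finset.mem_insert, Finset.mem_singleton] at hmem
    rcases hmem with rfl | rfl | rfl | rfl | rfl | rfl
    · omega
    · exact absurd (show Nat.card G = 12 by omega) Lib.BSWRecog.card_ne_twelve
    · have hG : Nat.card G = 60 := by omega
      rw [hG] at hdvd hfac
      have hp60 : p ≤ 60 := Nat.le_of_dvd (by norm_num) hdvd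
      have : p = 5 := by
        interval_cases p <;> revert hdvd <;> norm_num <;> (have := hp.out; norm_num at this)
      exact ⟨Or.inl this, by rw [hq, this]⟩
    · have hG : Nat.card G = 168 := by omega
      rw [hG] at hdvd hfac
      have h8 : p ∣ 2 * 2 * 2 * 3 * 7 := by simpa using hdvd
      have : p = 7 := by
        simp only [hp.out.dvd_mul, Nat.prime_dvd_prime_iff_eq hp.out Nat.prime_two,
          Nat.prime_dvd_prime_iff_eq hp.out Nat.prime_three,
          Nat.prime_dvd_prime_iff_eq hp.out (by norm_num : Nat.Prime 7)] at h8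
        omega
      exact ⟨Or.inr (Or.inl this), by rw [hq, this]⟩
    · have hG : Nat.card G = 360 := by omega
      rw [hG] at hdvd hfac
      have h8 : p ∣ 2 * 2 * 2 * 3 * 3 * 5 := by simpa using hdvd
      have : p = 5 := by
        simp only [hp.out.dvd_mul, Nat.prime_dvd_prime_iff_eq hp.out Nat.prime_two,
          Nat.prime_dvd_prime_iff_eq hp.out Nat.prime_three,
          Nat.prime_dvd_prime_iff_eq hp.out (by norm_num : Nat.Prime 5)] at h8
        omega
      subst this
      norm_num [Nat.factorial] at hfac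
    · have hG : Nat.card G = 660 := by omega
      rw [hG] at hdvd hfac
      have h8 : p ∣ 2 * 2 * 3 * 5 * 11 := by simpa using hdvd
      have : p = 5 ∨ p = 11 := by
        simp only [hp.out.dvd_mul, Nat.prime_dvd_prime_iff_eq hp.out Nat.prime_two,
          Nat.prime_dvd_prime_iff_eq hp.out Nat.prime_three,
          Nat.prime_dvd_prime_iff_eq hp.out (by norm_num : Nat.Prime 5),
          Nat.prime_dvd_prime_iff_eq hp.out (by norm_num : Nat.Prime 11)] at h8
        omega
      rcases this with rfl | rfl
      · norm_num [Nat.factorial] at hfac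
      · exact ⟨Or.inr (Or.inr rfl), hq⟩
  · exfalso
    -- the stabiliser of a point has index `p`, too small
    have hne : Nonempty α := Fintype.card_pos_iff.mp (hα ▸ hp.out.pos)
    obtain ⟨a⟩ := hne
    let H : Subgroup (Matrix.ProjectiveSpecialLinearGroup (Fin 2) F) :=
      (MulAction.stabilizer G a).comap i.symm.toMonoidHom
    have hidx : H.index = p := by
      rw [Subgroup.index_comap_of_surjective _ i.symm.surjective,
        MulAction.index_stabilizer_of_transitive, Nat.card_eq_fintype_card, hα]
    have hle := (S0806.result hq hmem).1 H (fun ht => by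
      rw [ht, Subgroup.index_top] at hidx
      omega)
    rw [hidx] at hle
    have hp2 : p ∣ q * (q - 1) * (q + 1) := hord ▸ Dvd.dvd.mul_left hdvd 2
    rcases hp.out.dvd_mul.1 hp2 with h1 | h1
    · rcases hp.out.dvd_mul.1 h1 with h2 | h2
      · have := Nat.le_of_dvd (by omega) h2; omega
      · have := Nat.le_of_dvd (by omega) h2; omega
    · have := Nat.le_of_dvd (by omega) h1
      have := hp.out.eq_two_or_odd
      omega

/-- Let G be a transitive permutation group of prime degree p having exactly one irreducible character of degree p. Let P be a Sylow p-subgroup and suppose N_G(P) = P·E for a subgroup E with P ∩ E = 1, such that the normalizer of E has order 2·#E and E meets each of its conjugates by elements outside its normalizer trivially. Then p is 5, 7 or 11 and G is isomorphic to PSL(2, p). -/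
theorem result {α : Type*} [Fintype α] [DecidableEq α] {p : ℕ} [Fact p.Prime] (hα : Fintype.card α = p) (G : Subgroup (Equiv.Perm α)) [MulAction.IsPretransitive G α] (huniq : ∃! χ : Cfsg.IrrCharacter G, Cfsg.charDegree (χ : G → ℂ) = p) (P : Sylow p G) (E : Subgroup G) (hPE : (P : Subgroup G) ⊔ E = Subgroup.normalizer ((P : Subgroup G) : Set G)) (hPE' : (P : Subgroup G) ⊓ E = ⊥) (hNE : Nat.card (Subgroup.normalizer (E : Set G)) = 2 * Nat.card E) (hTI : ∀ g : G, g ∉ Subgroup.normalizer (E : Set G) → E ⊓ E.map (MulAut.conj g).toMonoidHom = ⊥) : (p = 5 ∨ p = 7 ∨ p = 11) ∧ ∃ (F : Type) (_ : Field F) (_ : Fintype F), Fintype.card F = p ∧ Nonempty (G ≃* Matrix.ProjectiveSpecialLinearGroup (Fin 2) F) := by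
  classical
  have h := Lib.UniqueDegree79.hyp_of_perm hα G huniq P E hPE hPE' hNE hTI
  have := h.simple
  letI : Fintype G := Fintype.ofFinite G
  obtain ⟨z, s, K, hK⟩ : ∃ (z s : G) (K : Subgroup G), Lib.BSW.Hyp z s K := by
    rcases Nat.even_or_odd (Nat.card E) with he | he
    · obtain ⟨z, s, hK⟩ := h.bsw_of_even he
      exact ⟨z, s, E, hK⟩
    · exact h.bsw_of_odd he
  obtain ⟨F, iF, iFt, hodd, ⟨i⟩⟩ := Lib.BSWRecog.iso_psl_of_hyp hK
  obtain ⟨h1, h2⟩ := field_card hα G h.five hodd i
  exact ⟨h1, F, iF, iFt, h2, ⟨i⟩⟩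

end Cfsg.Agent.S4724
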