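import Cfsg.Statements.S4725
import Cfsg.Agent.Lib.Blocks.ContribInduced
import Cfsg.Agent.Lib.Induced.Basic
-- import your own Cfsg.Agent.* helpers here

set_option autoImplicit false
open Cfsg

namespace Cfsg.Agent.S4725

open Cfsg.Agent.Lib.Blocks Cfsg.Agent.Lib.Blocks.Contrib

/-- Let p be a prime, M a maximal ideal of the algebraic integers containing p, H a subgroup of the finite group G, and b a p-block of H inducing the p-block B of G, with b and B of the same defect. Then for every height-zero ζ ∈ b there is a height-zero χ ∈ B whose multiplicity in the character induced from ζ is not divisible by p. -/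
theorem result {G : Type*} [Group G] [Fintype G] (p : ℕ) [Fact p.Prime] (M : Ideal Cfsg.AlgInt) (hM : Cfsg.IsPModular p M) (H : Subgroup G) (b : Set (Cfsg.IrrCharacter ↥H)) (B : Set (Cfsg.IrrCharacter G)) (hind : Cfsg.IsInducedBlock M H b B) (hdef : Cfsg.blockDefect p b = Cfsg.blockDefect p B) (ζ : Cfsg.IrrCharacter ↥H) (hζ : ζ ∈ b) (hζ0 : Cfsg.blockHeight p b (ζ : ↥H → ℂ) = 0) : ∃ χ ∈ B, Cfsg.blockHeight p B (χ : G → ℂ) = 0 ∧ ∃ a : ℕ, Cfsg.classInner (Cfsg.indFun H (ζ : ↥H → ℂ)) (χ : G → ℂ) = (a : ℂ) ∧ ¬ p ∣ a := by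
  classical
  haveI := hM.2.1
  have hp : p.Prime := Fact.out
  letI := Fintype.ofFinite H
  have hB := hind.2.1
  have hζ' := (blockHeight_eq_zero_iff hζ).mp hζ0
  set f : G → ℂ := Cfsg.blockCoeff B with hf
  have hfc : Cfsg.IsClassFunction G f := fun g h => blockCoeff_conj_apply B h g
  have hfR : ∀ g, f g ∈ localRing M := fun g => memLocalRing_blockCoeff hB g
  obtain ⟨χ₀, hχ₀, -⟩ := exists_height_zero (p := p) hB
  have h1 : (∑ g : G, f g * (χ₀ : G → ℂ) g) / (χ₀ : G → ℂ) 1 = 1 := by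
    have h := omega_idem B χ₀
    rw [omega_apply, lin_apply, if_pos hχ₀] at h
    simpa only [coeff_idem] using h
  have hcong := sum_div_sub_mem_of_induced hind hfc hfR hζ hχ₀
  rw [h1] at hcong
  set S : ℤ := ∑ φ ∈ bset B, (mult H φ ζ : ℤ) * (Cfsg.charDegree (φ : G → ℂ) : ℤ) with hS
  have hsum : ∑ h : H, f h * (ζ : H → ℂ) h = (Nat.card G : ℂ)⁻¹ * (Nat.card H : ℂ) * (S : ℂ) := by
    simp only [hf, Cfsg.blockCoeff, finsum_mem_bset, hS]
    push_cast
    simp only [Finset.mul_sum, Finset.sum_mul]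
    rw [Finset.sum_comm]
    refine Finset.sum_congr rfl fun φ _ => ?_
    have hh : (starRingEnd ℂ) (mult H φ ζ : ℂ) = (mult H φ ζ : ℂ) := map_natCast _ _
    rw [← classInner_restrict, Cfsg.classInner] at hh
    simp only [map_mul, map_inv₀, map_natCast, map_sum, Complex.conj_conj] at hh
    rw [← classInner_restrict, Cfsg.classInner, ← hh,
      ← (Cfsg.Agent.Lib.H80.ClassMult.deg_spec φ).2, Finset.mul_sum]
    simp only [Finset.sum_mul, Finset.mul_sum]
    refine Finset.sum_congr rfl fun h _ => ?_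
    have : (Nat.card H : ℂ) ≠ 0 := Nat.cast_ne_zero.mpr Nat.card_pos.ne'
    field_simp
  have hkey : ¬ (p : ℤ) ^ (minVdeg p B + 1) ∣ S := by
    rintro ⟨c, hc⟩
    have hexp : (Nat.card H).factorization p + minVdeg p B =
        (Nat.card G).factorization p + minVdeg p b := by
      have h3 := minVdeg_add_blockDefect (p := p) hB
      have h4 := minVdeg_add_blockDefect (p := p) hind.1
      omega
    rw [hsum, hc, apply_one_eq p ζ, hζ', natCast_card_eq p G, natCast_card_eq p H] at hcong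
    have hu : (udeg p ζ : ℂ) ≠ 0 := Nat.cast_ne_zero.mpr (udeg_ne_zero hp ζ)
    have hp0 : (p : ℂ) ≠ 0 := Nat.cast_ne_zero.mpr hp.ne_zero
    have hmG : (primeToCard p G : ℂ) ≠ 0 := Nat.cast_ne_zero.mpr (primeToCard_pos p).ne'
    have hl := memLocalIdeal_mul_right (natCast_prime_mem_localIdeal hM)
      (mul_mem (intCast_mem (localRing M) c)
        (ratio_mem_localRing hM (primeToCard p H) (primeToCard p G * udeg p ζ)
          (hp.not_dvd_mul (not_dvd_primeToCard hp) (not_dvd_udeg hp ζ))))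
    refine not_memLocalIdeal_one (M := M) ?_
    have h5 := memLocalIdeal_sub hl hcong
    convert h5 using 1
    have hpe : (p : ℂ) ^ (Nat.card H).factorization p * (p : ℂ) ^ minVdeg p B =
        (p : ℂ) ^ (Nat.card G).factorization p * (p : ℂ) ^ minVdeg p b := by
      rw [← pow_add, ← pow_add, hexp]
    push_cast
    field_simp
    linear_combination ((p : ℂ) * (primeToCard p H : ℂ) * (c : ℂ)) * hpe
  by_contra hno
  push Not at hno
  refine hkey (Finset.dvd_sum fun φ hφ => ?_)
  have hφB := mem_bset.mp hφ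
  rw [← pow_vdeg_mul_udeg p φ]
  push_cast
  rcases (minVdeg_le (p := p) hφB).eq_or_lt with he | hlt
  · have hfr : Cfsg.classInner (Cfsg.indFun H (ζ : H → ℂ)) (φ : G → ℂ) = (mult H φ ζ : ℂ) := by
      rw [Cfsg.Agent.Lib.Induced.Basic.frobenius_reciprocity H _
        (Cfsg.Agent.Lib.Characters.Basic.isClassFunction_irr φ)]
      rw [← Cfsg.Agent.Lib.Induced.Basic.classInner_conj_symm, classInner_restrict, map_natCast]
    obtain ⟨k, hk⟩ := hno φ hφB ((blockHeight_eq_zero_iff hφB).mpr he.symm) _ hfr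
    rw [hk, ← he, pow_succ]
    exact ⟨(k : ℤ) * udeg p φ, by push_cast; ring⟩
  · exact dvd_mul_of_dvd_right (dvd_mul_of_dvd_left (pow_dvd_pow _ hlt) _) _

end Cfsg.Agent.S4725
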