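import Cfsg.Statements.S4726
import Cfsg.Agent.Lib.BrauerPairs.Kernel
-- import your own Cfsg.Agent.* helpers here

set_option autoImplicit false
open Cfsg

namespace Cfsg.Agent.S4726

open MonoidAlgebra Cfsg.Agent.Lib.BrauerMap.Basic
open Cfsg.Agent.Lib.BrauerPairs.Center Cfsg.Agent.Lib.BrauerPairs.Trunc
open Cfsg.Agent.Lib.BrauerPairs.Conj Cfsg.Agent.Lib.BrauerPairs.Pairs
open Cfsg.Agent.Lib.BrauerPairs.Transport Cfsg.Agent.Lib.BrauerPairs.Maximal
open Cfsg.Agent.Lib.BrauerPairs.Embed Cfsg.Agent.Lib.BrauerPairs.Bridge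
open Cfsg.Agent.Lib.BrauerPairs.Kernel Cfsg.Agent.Lib.BrauerMap.ClassSum

attribute [local instance] Ideal.Quotient.field

/-- Let p be a prime, M a maximal ideal of the algebraic integers containing p, H a subgroup of the finite group G and b a p-block of H with defect group D₀ such that C_G(D₀) ≤ H. Then b induces a block of G, and for every block B of G induced by b there is a defect group D of B with Z(D) ≤ Z(D₀) ≤ D₀ ≤ D (as subgroups of G). In particular, if the defect groups of B are abelian then D₀ is a defect group of B. -/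
theorem result {G : Type*} [Group G] [Finite G] (p : ℕ) [Fact p.Prime] (M : Ideal Cfsg.AlgInt) (hM : Cfsg.IsPModular p M) (H : Subgroup G) (b : Set (Cfsg.IrrCharacter ↥H)) (hb : Cfsg.IsPBlock M b) (D₀ : Subgroup ↥H) (hD₀ : Cfsg.IsDefectGroup p M b D₀) (hC : Subgroup.centralizer ((D₀.map H.subtype : Subgroup G) : Set G) ≤ H) : Cfsg.InducedBlockDefined M H b ∧ ∀ B : Set (Cfsg.IrrCharacter G), Cfsg.IsInducedBlock M H b B → (∃ D : Subgroup G, Cfsg.IsDefectGroup p M B D ∧ (Subgroup.center ↥D).map D.subtype ≤ ((Subgroup.center ↥D₀).map D₀.subtype).map H.subtype ∧ ((Subgroup.center ↥D₀).map D₀.subtype).map H.subtype ≤ D₀.map H.subtype ∧ D₀.map H.subtype ≤ D) ∧ (∀ D : Subgroup G, Cfsg.IsDefectGroup p M B D → IsMulCommutative ↥D → Cfsg.IsDefectGroup p M B (D₀.map H.subtype)) := by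
  classical
  haveI := hM.2.1
  haveI := charP_res hM
  have hD₀' := (isDefectGroup_iff hb D₀).mp hD₀
  set R := D₀.map H.subtype with hR
  obtain ⟨ν, hν⟩ : ∃ ν : Blk (Res M) (Subgroup.centralizer (R : Set G)),
      val R ν (bext H (blk hb)) = 1 := exists_val_isDef hb hD₀ hC
  have hRp : IsPGroup p R := hD₀'.isPGroup.map _
  have hRH : R ≤ H := Subgroup.map_subtype_le _
  have hRD : R.subgroupOf H = D₀ := Subgroup.comap_map_eq_self_of_injective H.subtype_injective D₀
  have hRp' : IsPGroup p (R.subgroupOf H) := hRD ▸ hD₀'.isPGroup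
  have hpairH : PairOf p (blk hb) (⟨R.subgroupOf H, down hRH hC ν⟩ : Idx (Res M) H) :=
    ⟨hRp', (val_down hRH hC ν (isFixedBy_of_mem_center _ (bidem_mem _))).trans hν⟩
  constructor
  · refine ⟨toSet (pairBlk (a := (⟨R, ν⟩ : Idx (Res M) G)) hRp), hb, isPBlock_toSet _,
      fun ξ hξ χ hχ => ?_⟩
    refine (Cfsg.Agent.Lib.BrauerMap.Induced.induced_congr_iff ξ χ).mpr fun g => ?_
    rw [← Cfsg.Agent.Lib.BrauerMap.Induced.inducedBar_classSumC, ← blkOf_classSumC,
      Cfsg.Agent.Lib.Blocks.inducedBar_eq_resCenter, mem_toSet.mp hχ, pairBlk_apply]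
    change blkOf M ξ _ = _
    rw [blkOf_of_mem hb hξ, ← hpairH.apply_eq,
      val_down hRH hC ν (isFixedBy_of_mem_center _ (Subtype.prop _))]
    refine val_congr ν ?_
    ext c
    rw [coeff_br, coeff_br]
    refine (coeff_ext H _ ⟨c, hC c.2⟩).trans ?_
    rw [Cfsg.Agent.Lib.Blocks.coeff_resCenter]
  intro B hB
  have hpair := pairOf_of_induced hRp hRH hC hB hν
  obtain ⟨a, ha, hle⟩ := exists_top_above (⟨R, ν⟩ : Idx (Res M) G) hRp
  have haB : PairOf p (blk hB.2.1) a := (pairOf_iff_of_le ha.1 hle _).mp hpair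
  have hdef : Cfsg.IsDefectGroup p M B a.1 :=
    (isDefectGroup_iff hB.2.1 a.1).mpr (isDef_of_top ha haB)
  have hRa : R ≤ a.1 := hle.subgroup_le
  have hkey : ∀ z ∈ a.1, (∀ y ∈ a.1, y * z = z * y) → z ∈ R := by
    intro z hz hzc
    have hzH : z ∈ H := hC (Subgroup.mem_centralizer_iff.mpr fun y hy => hzc y (hRa hy))
    set R' := R ⊔ Subgroup.zpowers z with hR'
    have hR'a : R' ≤ a.1 := sup_le hRa (Subgroup.zpowers_le.mpr hz)
    have hR'H : R' ≤ H := sup_le hRH (Subgroup.zpowers_le.mpr hzH)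
    have hR'p : IsPGroup p R' := ha.1.to_le hR'a
    have hC' : Subgroup.centralizer (R' : Set G) ≤ H :=
      (centralizer_anti le_sup_left).trans hC
    obtain ⟨μ, hμ⟩ := exists_le_of_le ha.1 a.2 R' hR'a
    obtain ⟨ω, hω⟩ := exists_le_of_le hR'p μ R le_sup_left
    obtain rfl : ω = ν := le_unique ha.1 a.2 (hω.trans hμ) hle
    have hval' := (val_iff_of_le hω (x := bext H (blk hb)) (bext_isIdem _ _)
      (isFixedBy_mono hR'H (isFixedBy_bext H _)) (isFixedBy_mono hC (isFixedBy_bext H _))).mp hν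
    have hp' : PairOf p (blk hb) (⟨R'.subgroupOf H, down hR'H hC' μ⟩ : Idx (Res M) H) :=
      ⟨hR'p.comap_of_injective H.subtype H.subtype_injective,
        (val_down hR'H hC' μ (isFixedBy_of_mem_center _ (bidem_mem _))).trans hval'⟩
    obtain ⟨x, hx⟩ := exists_map_le_isDef hp' hD₀'
    have hcard : Nat.card R' ≤ Nat.card R := by
      have h := Nat.le_of_dvd Nat.card_pos (Subgroup.card_dvd_of_le hx)
      rw [card_map_conj] at h
      rw [show Nat.card R' = Nat.card (R'.subgroupOf H) from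
        (Nat.card_congr (Subgroup.subgroupOfEquivOfLe hR'H).toEquiv).symm,
        show Nat.card R = Nat.card D₀ from Subgroup.card_map_of_injective H.subtype_injective]
      exact h
    rw [Subgroup.eq_of_le_of_card_ge le_sup_left hcard]
    exact (le_sup_right : _ ≤ R') (Subgroup.mem_zpowers z)
  have hcen : (Subgroup.center ↥a.1).map a.1.subtype ≤
      ((Subgroup.center ↥D₀).map D₀.subtype).map H.subtype := by
    rintro _ ⟨⟨z, hz⟩, hzc, rfl⟩
    have hcomm : ∀ y ∈ a.1, y * z = z * y := fun y hy =>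
      congrArg Subtype.val (Subgroup.mem_center_iff.mp hzc ⟨y, hy⟩)
    obtain ⟨d, hd, hdz⟩ := hkey z hz hcomm
    refine ⟨d, ⟨⟨d, hd⟩, Subgroup.mem_center_iff.mpr fun e => ?_, rfl⟩, hdz⟩
    refine Subtype.ext (Subtype.ext ?_)
    have := hcomm ((e : H) : G) (hRa ⟨e, e.2, rfl⟩)
    rw [← hdz] at this
    exact this
  have hsub : ((Subgroup.center ↥D₀).map D₀.subtype).map H.subtype ≤ R :=
    Subgroup.map_mono (Subgroup.map_subtype_le _)
  refine ⟨⟨a.1, hdef, hcen, hsub, hRa⟩, fun D hD hDab => ?_⟩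
  obtain ⟨x, hx⟩ := isDef_conj ((isDefectGroup_iff hB.2.1 D).mp hD)
    ((isDefectGroup_iff hB.2.1 a.1).mp hdef)
  have hab : ∀ u ∈ a.1, ∀ v ∈ a.1, u * v = v * u := by
    rw [← hx]
    rintro _ ⟨u, hu, rfl⟩ _ ⟨v, hv, rfl⟩
    have := congrArg Subtype.val (hDab.is_comm.comm (⟨u, hu⟩ : D) ⟨v, hv⟩)
    rw [← map_mul, ← map_mul]
    exact congrArg _ this
  rwa [show R = a.1 from le_antisymm hRa fun z hz =>
    hkey z hz fun y hy => hab y hy z hz]

end Cfsg.Agent.S4726
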