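import Cfsg.Statements.S4727
import Cfsg.Agent.Lib.BrauerPairs.Kernel
import Cfsg.Agent.Lib.Blocks.SectionPart
import Cfsg.Agent.Lib.BrauerMap.InducedHom
-- import your own Cfsg.Agent.* helpers here

set_option autoImplicit false
open Cfsg

namespace Cfsg.Agent.S4727

attribute [local instance] Ideal.Quotient.field


/-- Let p be a prime, π a set of primes containing p, M a maximal ideal of the algebraic integers containing p, and B a p-block of the finite group G with defect group D; let B₁ be the block of N_G(D) with defect group D that induces B (the Brauer correspondent of B). Suppose every element of O_π'(N_G(D)), the largest normal subgroup of N_G(D) whose order has no prime divisor in π, lies in the kernel of every member of B₁. If y is a p-element whose centralizer C has a normal Hall π'-subgroup (every element of C whose order has no prime divisor in π lies in O_π'(C)), then χ(y x) = χ(y) for every χ ∈ B and every x ∈ C whose order has no prime divisor in π. -/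
theorem result {G : Type*} [Group G] [Finite G] (p : ℕ) [Fact p.Prime] (M : Ideal Cfsg.AlgInt) (hM : Cfsg.IsPModular p M) (π : Set ℕ) (hpπ : p ∈ π) (B : Set (Cfsg.IrrCharacter G)) (hB : Cfsg.IsPBlock M B) (D : Subgroup G) (hBD : Cfsg.IsDefectGroup p M B D) (B₁ : Set (Cfsg.IrrCharacter ↥(Subgroup.normalizer (D : Set G)))) (hB₁ : Cfsg.IsInducedBlock M (Subgroup.normalizer (D : Set G)) B₁ B) (hB₁D : Cfsg.IsDefectGroup p M B₁ (D.subgroupOf (Subgroup.normalizer (D : Set G)))) (hker : ∀ n : ↥(Subgroup.normalizer (D : Set G)), n ∈ Cfsg.piCore {q | q ∉ π} ↥(Subgroup.normalizer (D : Set G)) → n ∈ Cfsg.blockKer B₁) (y : G) (hy : ∃ k : ℕ, orderOf y = p ^ k) (hC : ∀ x : ↥(Subgroup.centralizer ({y} : Set G)), (∀ q : ℕ, q.Prime → q ∣ orderOf x → q ∉ π) → x ∈ Cfsg.piCore {q | q ∉ π} ↥(Subgroup.centralizer ({y} : Set G))) : ∀ χ ∈ B, ∀ x : G, x ∈ Subgroup.centralizer ({y} : Set G) → (∀ q : ℕ, q.Prime → q ∣ orderOf x → q ∉ π) → (χ : G → ℂ) (y * x) = (χ : G → ℂ) y := by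
  classical
  haveI := hM.2.1
  haveI : CharP (Lib.BrauerPairs.Bridge.Res M) p := Lib.Blocks.charP_residue hM
  haveI := Fintype.ofFinite G
  intro χ hχ x hx hxπ
  set H := Subgroup.centralizer ({y} : Set G) with hH
  haveI := Fintype.ofFinite ↥H
  haveI := Fintype.ofFinite (Cfsg.IrrCharacter ↥H)
  have hp : p.Prime := Fact.out
  let yH : ↥H := ⟨y, Subgroup.mem_centralizer_singleton_iff.mpr rfl⟩
  have hzp : IsPGroup p ↥(Subgroup.zpowers y) := by
    obtain ⟨k, hk⟩ := hy
    exact IsPGroup.of_card (n := k) (by rw [Nat.card_zpowers, hk])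
  have hHz : H = Subgroup.centralizer (Subgroup.zpowers y : Set G) :=
    (Lib.BrauerMap.PrincipalSection.centralizer_zpowers_eq y).symm
  have hxH : (⟨x, hx⟩ : ↥H) ∈ Cfsg.piCore {q | q ∉ π} ↥H :=
    hC ⟨x, hx⟩ fun q hq hd => hxπ q hq (by rwa [← Subgroup.orderOf_coe] at hd)
  have hxreg : ¬ p ∣ orderOf (⟨x, hx⟩ : ↥H) := fun h => by
    rw [← Subgroup.orderOf_coe] at h
    exact hxπ p hp h hpπ
  let f : ↥H → ℂ := Lib.Blocks.SectionPart.sect y H (χ : G → ℂ)
  have hf : Cfsg.IsClassFunction ↥H f :=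
    Lib.Blocks.SectionPart.isClassFunction_sect
      (fun v hv => Lib.Blocks.SectionPart.commute_of_mem hHz hv)
      (Lib.Characters.Basic.isClassFunction_irr χ)
  -- the part in each block takes the same value at `x` and at `1`
  have hpart : ∀ b : Set (Cfsg.IrrCharacter ↥H), Cfsg.IsPBlock M b →
      Cfsg.blockPart b f ⟨x, hx⟩ = Cfsg.blockPart b f 1 := by
    intro b hb
    obtain ⟨B', hB'⟩ := Lib.BrauerMap.InducedHom.inducedBlockDefined hzp
      (P := Subgroup.zpowers y) (H := H)
      (by rw [Subgroup.zpowers_le]; exact yH.2) hHz.ge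
      (hHz.le.trans (Subgroup.centralizer_le_normalizer _)) hb
    by_cases hχB : χ ∈ B'
    · have hBB : B' = B := by
        rw [Lib.Blocks.isPBlock_eq_blockOf hB'.2.1 hχB, Lib.Blocks.isPBlock_eq_blockOf hB hχ]
      subst hBB
      obtain ⟨D₀, hD₀⟩ := Lib.Blocks.exists_isDefectGroup (p := p) hb
      have hyD : yH ∈ D₀ := by
        obtain ⟨g, -, S, rfl⟩ := hD₀
        haveI : (Subgroup.zpowers yH).Normal := by
          refine ⟨fun n hn v => ?_⟩
          obtain ⟨j, rfl⟩ := Subgroup.mem_zpowers_iff.mp hn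
          have h : Commute v yH := Subtype.ext (Subgroup.mem_centralizer_singleton_iff.mp v.2)
          rw [(h.zpow_right j).eq, mul_inv_cancel_right]
          exact hn
        refine Lib.Blocks.normal_le_of_le_centralizer (N := Subgroup.zpowers yH) ?_ ?_ S
          (Subgroup.mem_zpowers yH)
        · obtain ⟨k, hk⟩ := hy
          exact IsPGroup.of_card (n := k) (by rw [Nat.card_zpowers, ← Subgroup.orderOf_coe]; exact hk)
        · rw [Subgroup.zpowers_le, Subgroup.mem_centralizer_singleton_iff]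
          exact Subtype.ext (Subgroup.mem_centralizer_singleton_iff.mp g.2).symm
      have hCD : Subgroup.centralizer ((D₀.map H.subtype : Subgroup G) : Set G) ≤ H := fun v hv =>
        Subgroup.mem_centralizer_singleton_iff.mpr (hv y ⟨yH, hyD, rfl⟩).symm
      have hker' := Lib.BrauerPairs.Kernel.piCore_subset_blockKer hM (π := {q | q ∉ π}) (fun h => h hpπ) hBD hB₁
        hB₁D hker hB' hD₀ hCD hxH
      rw [Lib.Blocks.BlockPart.blockPart_apply, Lib.Blocks.BlockPart.blockPart_apply]
      exact Finset.sum_congr rfl fun θ hθ => by rw [hker' θ ((Set.Finite.mem_toFinset _).mp hθ)]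
    · rw [Lib.Blocks.SectionPart.blockPart_sect_eq_zero hM hy hHz hB' hχB hxreg,
        Lib.Blocks.SectionPart.blockPart_sect_eq_zero hM hy hHz hB' hχB (s := 1)
          (by rw [orderOf_one]; exact hp.not_dvd_one)]
  -- the parts sum to the function
  have hsum : ∀ v : ↥H, f v =
      ∑ b ∈ (Finset.univ : Finset (Cfsg.IrrCharacter ↥H)).image
        (fun θ : Cfsg.IrrCharacter ↥H => Cfsg.blockOf M (θ : ↥H → ℂ)), Cfsg.blockPart b f v := by
    intro v
    conv_lhs => rw [Lib.Characters.Complete.classFunction_eq_sum hf,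
      Lib.Blocks.BlockPart.sum_smul_apply,
      ← Finset.sum_fiberwise_of_maps_to (g := fun θ : Cfsg.IrrCharacter ↥H =>
        Cfsg.blockOf M (θ : ↥H → ℂ)) (fun θ hθ => Finset.mem_image_of_mem (fun θ : Cfsg.IrrCharacter ↥H =>
        Cfsg.blockOf M (θ : ↥H → ℂ)) hθ)]
    refine Finset.sum_congr rfl fun b hb => ?_
    obtain ⟨θ₀, -, rfl⟩ := Finset.mem_image.mp hb
    rw [Lib.Blocks.BlockPart.blockPart_apply]
    refine Finset.sum_congr (Finset.ext fun θ => ?_) fun θ _ => rfl
    simp only [Finset.mem_filter, Finset.mem_univ, true_and, Set.Finite.mem_toFinset]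
    exact ⟨fun h => h ▸ Lib.Blocks.mem_blockOf_self θ, fun h => Lib.Blocks.blockOf_eq_of_mem h⟩
  have h := hsum ⟨x, hx⟩
  rw [Finset.sum_congr rfl fun b hb => hpart b (by
    obtain ⟨θ₀, -, rfl⟩ := Finset.mem_image.mp hb
    exact Lib.Blocks.isPBlock_blockOf θ₀), ← hsum 1] at h
  simpa [f, Lib.Blocks.SectionPart.sect_apply] using h

end Cfsg.Agent.S4727
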