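import Cfsg.Statements.S4728
import Cfsg.Agent.Lib.BrauerPairs.Kernel
-- import your own Cfsg.Agent.* helpers here

set_option autoImplicit false
open Cfsg

namespace Cfsg.Agent.S4728

attribute [local instance] Ideal.Quotient.field


/-- Let p be a prime, π a set of primes containing p, M a maximal ideal of the algebraic integers containing p, B a p-block of the finite group G with defect group D, and B₁ the block of N_G(D) with defect group D inducing B. Let D₀ be a p-subgroup, H₀ = D₀·C_G(D₀), and b a block of H₀ inducing B. Write O_π'(X) for the largest normal subgroup of X whose order has no prime divisor in π. Suppose that O_π'(C_G(D₀)) is a normal Hall π'-subgroup of C_G(D₀) (it contains every element of C_G(D₀) whose order has no prime divisor in π) and that every element of it lies in the kernel of every member of b. Then every element of O_π'(N_G(D)) lies in the kernel of every member of B₁. -/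
theorem result {G : Type*} [Group G] [Finite G] (p : ℕ) [Fact p.Prime] (M : Ideal Cfsg.AlgInt) (hM : Cfsg.IsPModular p M) (π : Set ℕ) (hpπ : p ∈ π) (B : Set (Cfsg.IrrCharacter G)) (hB : Cfsg.IsPBlock M B) (D : Subgroup G) (hBD : Cfsg.IsDefectGroup p M B D) (B₁ : Set (Cfsg.IrrCharacter ↥(Subgroup.normalizer (D : Set G)))) (hB₁ : Cfsg.IsInducedBlock M (Subgroup.normalizer (D : Set G)) B₁ B) (hB₁D : Cfsg.IsDefectGroup p M B₁ (D.subgroupOf (Subgroup.normalizer (D : Set G)))) (D₀ : Subgroup G) (hD₀ : IsPGroup p D₀) (H₀ : Subgroup G) (hH₀ : H₀ = D₀ ⊔ Subgroup.centralizer (D₀ : Set G)) (b : Set (Cfsg.IrrCharacter ↥H₀)) (hb : Cfsg.IsInducedBlock M H₀ b B) (hcompl : ∀ x : ↥(Subgroup.centralizer (D₀ : Set G)), (∀ q : ℕ, q.Prime → q ∣ orderOf x → q ∉ π) → x ∈ Cfsg.piCore {q | q ∉ π} ↥(Subgroup.centralizer (D₀ : Set G))) (hkerb : ∀ x : ↥(Subgroup.centralizer (D₀ : Set G)), x ∈ Cfsg.piCore {q | q ∉ π} ↥(Subgroup.centralizer (D₀ : Set G)) → ∀ θ ∈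 b, ∀ h : ↥H₀, (h : G) = (x : G) → (θ : ↥H₀ → ℂ) h = (θ : ↥H₀ → ℂ) 1) : ∀ n : ↥(Subgroup.normalizer (D : Set G)), n ∈ Cfsg.piCore {q | q ∉ π} ↥(Subgroup.normalizer (D : Set G)) → n ∈ Cfsg.blockKer B₁ := by
  classical
  haveI := hM.2.1
  haveI : CharP (Lib.BrauerPairs.Bridge.Res M) p := Lib.Blocks.charP_residue hM
  have hp : p.Prime := Fact.out
  set π' : Set ℕ := {q | q ∉ π} with hπ'
  have hπp : p ∉ π' := fun h => h hpπ
  set N := Subgroup.normalizer (D : Set G) with hN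
  have hC₀ : Subgroup.centralizer (D₀ : Set G) ≤ H₀ := hH₀ ▸ le_sup_right
  have hD₀H : D₀ ≤ H₀ := hH₀ ▸ le_sup_left
  have hH₀N : H₀ ≤ Subgroup.normalizer (D₀ : Set G) :=
    hH₀ ▸ sup_le Subgroup.le_normalizer (Subgroup.centralizer_le_normalizer _)
  -- the defect class of `b` centralizes `D₀`
  obtain ⟨g, hg⟩ := Lib.Blocks.exists_isDefectClass hb.1
  have hgC : (g : G) ∈ Subgroup.centralizer (D₀ : Set G) := by
    have hreg : ¬ p ∣ orderOf (g : G) := by
      rw [Subgroup.orderOf_coe]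
      exact Lib.Blocks.not_dvd_orderOf_isDefectClass hM hb.1 hg
    have hn : ((Subgroup.centralizer (D₀ : Set G)).subgroupOf H₀).Normal :=
      (Subgroup.normal_subgroupOf_iff_le_normalizer hC₀).mpr
        (Lib.BrauerPairs.Pairs.le_normalizer_centralizer hH₀N)
    haveI := hn
    set C' := (Subgroup.centralizer (D₀ : Set G)).subgroupOf H₀ with hC'
    have htop : D₀.subgroupOf H₀ ⊔ C' = ⊤ := by
      rw [eq_top_iff, hC', ← Subgroup.subgroupOf_sup hD₀H hC₀, ← hH₀, Subgroup.subgroupOf_self]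
    have hsurj : Function.Surjective ((QuotientGroup.mk' C').comp (D₀.subgroupOf H₀).subtype) := by
      intro v
      obtain ⟨v, rfl⟩ := QuotientGroup.mk'_surjective C' v
      have hv : v ∈ D₀.subgroupOf H₀ ⊔ C' := htop ▸ Subgroup.mem_top v
      obtain ⟨d, hd, c, hc, rfl⟩ := Subgroup.mem_sup_of_normal_right.mp hv
      refine ⟨⟨d, hd⟩, ?_⟩
      simp only [MonoidHom.comp_apply, Subgroup.coe_subtype, map_mul]
      rw [show (QuotientGroup.mk' C') c = 1 from (QuotientGroup.eq_one_iff c).mpr hc, mul_one]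
    have hq : IsPGroup p (↥H₀ ⧸ C') :=
      ((hD₀.of_equiv (Subgroup.subgroupOfEquivOfLe hD₀H).symm)).of_surjective _ hsurj
    obtain ⟨k, hk⟩ := IsPGroup.iff_orderOf.mp hq (QuotientGroup.mk' C' g)
    have hk0 : k = 0 := by
      by_contra hk0
      refine hreg ?_
      rw [Subgroup.orderOf_coe]
      exact ((dvd_pow_self p hk0).trans hk.symm.dvd).trans (orderOf_map_dvd _ g)
    rw [hk0, pow_zero, orderOf_eq_one_iff] at hk
    exact (QuotientGroup.eq_one_iff g).mp hk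
  have hfixH := Lib.BrauerPairs.Conj.isFixedBy_bext H₀ (Lib.BrauerPairs.Bridge.blk hb.1)
  obtain ⟨ν₀, hν₀⟩ := Lib.BrauerPairs.Kernel.exists_val hD₀
    (Lib.BrauerPairs.Conj.bext_isIdem H₀ (Lib.BrauerPairs.Bridge.blk hb.1))
    (Lib.BrauerPairs.Trunc.isFixedBy_mono hD₀H hfixH)
    (Lib.BrauerPairs.Trunc.isFixedBy_mono hC₀ hfixH) hgC (by
      rw [Lib.BrauerPairs.Conj.bext, Lib.BrauerPairs.Trunc.coeff_ext]
      exact (Lib.BrauerPairs.Bridge.coeff_bidem_ne_zero_iff hb.1 g).mpr hg.2.1)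
  have hpair := Lib.BrauerPairs.Kernel.pairOf_of_induced hD₀ hD₀H hC₀ hb hν₀
  -- the property at `D₀`
  have hval0 : Lib.BrauerPairs.Kernel.Triv
      (Lib.BrauerPairs.Kernel.piC π' (Subgroup.centralizer (D₀ : Set G)))
      (Lib.BrauerPairs.Conj.bext H₀ (Lib.BrauerPairs.Bridge.blk hb.1)) := by
    have h := Lib.BrauerPairs.Kernel.triv_ext_iff.mpr
      (Lib.BrauerPairs.Kernel.triv_of_values hb.1
        (K := (Lib.BrauerPairs.Kernel.piC π' (Subgroup.centralizer (D₀ : Set G))).subgroupOf H₀)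
        (fun h hh θ hθ => by
          obtain ⟨c, hc, hch⟩ := hh
          exact hkerb c hc θ hθ h hch.symm))
    rwa [Subgroup.map_subgroupOf_eq_of_le
      ((Lib.BrauerPairs.Kernel.piC_le _ _).trans hC₀)] at h
  have hpsi : Lib.BrauerPairs.Kernel.Psi π'
      (⟨D₀, ν₀⟩ : Lib.BrauerPairs.Pairs.Idx (Lib.BrauerPairs.Bridge.Res M) G) := by
    refine ⟨fun v hv hq => Lib.BrauerPairs.Kernel.coe_mem_piC.mpr
      (hcompl ⟨v, hv⟩ fun q hq' hd => hq q hq' (by rwa [← Subgroup.orderOf_coe] at hd)), ?_⟩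
    exact (hval0.step_up hD₀
      (Lib.BrauerPairs.Conj.bext_isIdem H₀ (Lib.BrauerPairs.Bridge.blk hb.1))
      (Lib.BrauerPairs.Trunc.isFixedBy_mono hD₀H hfixH)
      (Lib.BrauerPairs.Trunc.isFixedBy_mono hC₀ hfixH) hν₀).mono
      (le_inf le_rfl (Lib.BrauerPairs.Kernel.piC_le _ _))
  -- the pair at the defect group
  obtain ⟨ν, hν, htop, hpt⟩ := Lib.BrauerPairs.Kernel.exists_top_normalizer hBD hB₁ hB₁D
  have hD' : Lib.BrauerPairs.Kernel.Psi π'
      (⟨D, ν⟩ : Lib.BrauerPairs.Pairs.Idx (Lib.BrauerPairs.Bridge.Res M) G) :=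
    hpsi.of_pairOf htop hpt hpair
  have hDp : IsPGroup p ↥D := htop.1
  set L := Lib.BrauerPairs.Kernel.piC π' N with hL
  have hLN : L ≤ N := Lib.BrauerPairs.Kernel.piC_le _ _
  have hNL : N ≤ Subgroup.normalizer (L : Set G) :=
    Subgroup.le_normalizer.trans (Lib.BrauerPairs.Kernel.normalizer_le_normalizer_piC π' N)
  have hLC : L ≤ Subgroup.centralizer (D : Set G) := by
    intro l hl d hd
    have hdN : d ∈ N := Subgroup.le_normalizer hd
    have h1 : d * l * d⁻¹ * l⁻¹ ∈ L :=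
      mul_mem ((Subgroup.mem_normalizer_iff.mp (hNL hdN) l).mp hl) (inv_mem hl)
    have h2 : d * l * d⁻¹ * l⁻¹ ∈ D := by
      have h := (Subgroup.mem_normalizer_iff.mp (hLN hl) d⁻¹).mp (D.inv_mem hd)
      rw [show d * l * d⁻¹ * l⁻¹ = d * (l * d⁻¹ * l⁻¹) by group]
      exact D.mul_mem hd h
    obtain ⟨k, hk⟩ := IsPGroup.iff_orderOf.mp hDp ⟨_, h2⟩
    rw [← Subgroup.orderOf_coe] at hk
    rcases Nat.eq_zero_or_pos k with rfl | hpos
    · rw [pow_zero, orderOf_eq_one_iff] at hk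
      change d * l * d⁻¹ * l⁻¹ = 1 at hk
      rw [mul_inv_eq_one, mul_inv_eq_iff_eq_mul] at hk
      exact hk
    · exact absurd (Lib.BrauerPairs.Kernel.mem_pi_of_mem_piC h1 hp
        ((dvd_pow_self p hpos.ne').trans hk.symm.dvd)) hπp
  have hTD : Lib.BrauerPairs.Kernel.Triv (L ⊓ Subgroup.centralizer (D : Set G))
      (Lib.BrauerPairs.Conj.bext (Subgroup.centralizer (D : Set G)) ν) :=
    hD'.2.mono fun v hv => hD'.1 v (Subgroup.mem_inf.mp hv).2 fun q hq hd =>
      Lib.BrauerPairs.Kernel.mem_pi_of_mem_piC (Subgroup.mem_inf.mp hv).1 hq hd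
  have hT := Lib.BrauerPairs.Kernel.triv_of_step_down hDp hLN hNL (Subgroup.le_normalizer.trans hNL)
    (Lib.BrauerPairs.Kernel.not_dvd_card_piC hp hπp N) (Subgroup.centralizer_le_normalizer _) _
    (Lib.BrauerPairs.Trunc.isFixedBy_mono Subgroup.le_normalizer
      (Lib.BrauerPairs.Conj.isFixedBy_bext N _)) hν hTD
  intro n hn
  exact Lib.BrauerPairs.Kernel.values_of_triv hM hB₁.1
    (fun h => hπp (Lib.Cores.piCore_isPiGroup (G := ↥N) π' p hp h))
    (Lib.BrauerPairs.Kernel.triv_ext_iff.mp hT) hn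

end Cfsg.Agent.S4728
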