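import Cfsg.Statements.S4729
import Cfsg.Agent.Lib.Characters.Diag
import Cfsg.Agent.Lib.DegreeBounds.Basic
import Cfsg.Agent.Lib.BC78.PBRestrict
-- import your own Cfsg.Agent.* helpers here

set_option autoImplicit false
open Cfsg

namespace Cfsg.Agent.S4729

open Cfsg.Agent.Lib Cfsg.Agent.Lib.Characters

/-- Let p be a prime, M a maximal ideal of the algebraic integers containing p, G a finite perfect group and P a Sylow p-subgroup. If the principal p-block of G contains a faithful irreducible character of degree less than 2p, then the centralizer of P is a p-group. -/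
theorem result {G : Type*} [Group G] [Finite G] (p : ℕ) [Fact p.Prime] (M : Ideal Cfsg.AlgInt) (hM : Cfsg.IsPModular p M) (hperf : commutator G = ⊤) (P : Sylow p G) (χ : Cfsg.IrrCharacter G) (hχ : χ ∈ Cfsg.principalBlock M G) (hfaith : ∀ g : G, (χ : G → ℂ) g = (χ : G → ℂ) 1 → g = 1) (hdeg : Cfsg.charDegree (χ : G → ℂ) < 2 * p) : IsPGroup p ↥(Subgroup.centralizer ((P : Subgroup G) : Set G)) := by
  classical
  haveI := hM.2.1
  haveI := Fintype.ofFinite G
  have hp : p.Prime := Fact.out
  set C := Subgroup.centralizer ((P : Subgroup G) : Set G) with hCdef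
  have key : ∀ y ∈ C, ∀ r : ℕ, r.Prime → r ≠ p → y ^ r = 1 → y = 1 := by
    intro y hy r hr hrp hyr
    obtain ⟨k, ρ, hρ, hchar⟩ := Basic.exists_rep χ
    obtain ⟨ι, hι, bb, ζ, hb, hcard, -⟩ := Diag.exists_eigenbasis ρ y hr.ne_zero hyr
    set d := Cfsg.charDegree (χ : G → ℂ) with hd
    have hdd := DegreeBounds.Basic.charDegree_irr χ
    have hdcard : d = Fintype.card ι := by
      rw [hcard, hd, Cfsg.charDegree, ← hchar, Representation.char_one, Complex.natCast_re,
        Nat.floor_natCast]
    have hpow : ∀ j, (χ : G → ℂ) (y ^ j) = ∑ i, ζ i ^ j := by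
      intro j
      rw [← hchar]
      refine Diag.trace_eq_sum_eigenvalues bb (ρ (y ^ j)) _ fun i => ?_
      induction j with
      | zero => simp
      | succ j ih => rw [pow_succ, map_mul, Module.End.mul_apply, (hb i).1, map_smul, ih,
          smul_smul, ← pow_succ']
    have hmem : ∀ j : ℕ, Cfsg.MemLocalIdeal M ((χ : G → ℂ) (y ^ j) - d) := by
      intro j
      have hidx : ¬ p ∣ (Subgroup.centralizer ({y ^ j} : Set G)).index := fun h =>
        P.not_dvd_index (h.trans (Subgroup.index_dvd_of_le fun x hx => by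
          rw [Subgroup.mem_centralizer_singleton_iff]
          exact Subgroup.mem_centralizer_iff.1 (pow_mem hy j) x hx))
      have h := Blocks.memLocalIdeal_mul_left (natCast_mem _ d)
        (BC78.PBRestrict.ratio_congr hM hχ hidx)
      rwa [hdd, ← hd, mul_sub, mul_one, mul_div_cancel₀ _
        (Nat.cast_ne_zero.mpr (DegreeBounds.Basic.charDegree_pos χ).ne')] at h
    have hne0 : ∀ i, ζ i ≠ 0 := fun i e => by
      have := (hb i).2
      rw [e, zero_pow hr.ne_zero] at this
      exact zero_ne_one this
    have hdvd : ∀ i, ζ i ≠ 1 → p ∣ (Finset.univ.filter fun i' => ζ i' = ζ i).card := by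
      intro i hi
      have hgeom : ∀ z : ℂ, z ^ r = 1 → ∑ j ∈ Finset.range r, z ^ j = if z = 1 then (r : ℂ) else 0 := by
        intro z hz
        split_ifs with h
        · subst h; simp
        · rw [geom_sum_eq h, hz, sub_self, zero_div]
      have hε : (ζ i)⁻¹ ^ r = 1 := by rw [inv_pow, (hb i).2, inv_one]
      have h : Cfsg.MemLocalIdeal M
          (∑ j ∈ Finset.range r, (ζ i)⁻¹ ^ j * ((χ : G → ℂ) (y ^ j) - d)) :=
        Blocks.memLocalIdeal_sum _ fun j _ => Blocks.memLocalIdeal_mul_left
          (Blocks.mem_localRing_of_isIntegral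
            (BC78.Roots.isIntegral_of_pow_eq_one hr.ne_zero hε |>.pow j)) (hmem j)
      have e : ∑ j ∈ Finset.range r, (ζ i)⁻¹ ^ j * ((χ : G → ℂ) (y ^ j) - d) =
          ((r * (Finset.univ.filter fun i' => ζ i' = ζ i).card : ℕ) : ℂ) := by
        simp only [mul_sub, Finset.sum_sub_distrib, hpow, Finset.mul_sum, ← mul_pow,
          ← Finset.sum_mul]
        rw [Finset.sum_comm, hgeom _ hε, if_neg (fun h => hi (inv_eq_one.mp h)), zero_mul,
          sub_zero, Finset.sum_congr rfl fun i' _ => hgeom ((ζ i)⁻¹ * ζ i')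
            (by rw [mul_pow, hε, (hb i').2, one_mul]), ← Finset.sum_filter, Finset.sum_const,
          nsmul_eq_mul, Nat.cast_mul, mul_comm]
        congr 3
        refine Finset.filter_congr fun i' _ => ?_
        rw [inv_mul_eq_one₀ (hne0 i), eq_comm]
      rw [e, Blocks.memLocalIdeal_natCast_iff hM] at h
      exact (hp.dvd_mul.mp h).resolve_left fun hh =>
        hrp ((Nat.prime_dvd_prime_iff_eq hp hr).mp hh).symm
    have hall : ∀ i, ζ i = 1 := by
      by_contra hcon
      push Not at hcon
      obtain ⟨i, hi⟩ := hcon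
      set A := Finset.univ.filter fun i' => ζ i' = ζ i with hA
      have hApos : 0 < A.card := Finset.card_pos.mpr ⟨i, by simp [hA]⟩
      have hAp : p ≤ A.card := Nat.le_of_dvd hApos (hdvd i hi)
      have hother : ∀ i', ζ i' ≠ 1 → ζ i' = ζ i := by
        intro i' hi'
        by_contra hne
        set B := Finset.univ.filter fun i'' => ζ i'' = ζ i' with hB
        have hBp : p ≤ B.card := Nat.le_of_dvd (Finset.card_pos.mpr ⟨i', by simp [hB]⟩) (hdvd i' hi')
        have hdisj : Disjoint A B := Finset.disjoint_filter.mpr fun x _ h1 h2 => hne (h2 ▸ h1)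
        have hU := Finset.card_le_univ (A ∪ B)
        rw [Finset.card_union_of_disjoint hdisj] at hU
        omega
      have hAeq : A.card = p := by
        obtain ⟨q, hq⟩ := hdvd i hi
        have hU := Finset.card_le_univ A
        rcases q with _ | _ | q
        · have hq' : A.card = p * 0 := hq
          omega
        · have hq' : A.card = p * (0 + 1) := hq
          omega
        · exfalso
          have hq' : A.card = p * (q + 1 + 1) := hq
          have h2 : p * 2 ≤ p * (q + 1 + 1) := Nat.mul_le_mul_left p (by omega)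
          nlinarith [hdcard, hU, hdeg]
      have hdet : LinearMap.det (ρ y) = ∏ i, ζ i := by
        rw [← LinearMap.det_toMatrix bb, show LinearMap.toMatrix bb bb (ρ y) = Matrix.diagonal ζ from ?_,
          Matrix.det_diagonal]
        ext a c
        rw [LinearMap.toMatrix_apply, (hb c).1, map_smul, Finsupp.smul_apply,
          Module.Basis.repr_self, Matrix.diagonal_apply, smul_eq_mul, Finsupp.single_apply]
        split_ifs with h1 h2 h3 <;> simp_all
      let f : G →* ℂˣ := (Units.map (LinearMap.det : Module.End ℂ (Fin k → ℂ) →* ℂ)).comp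
        (MonoidHom.toHomUnits ρ)
      have hf : (f y : ℂ) = 1 := by
        have : y ∈ f.ker :=
          (hperf ▸ Abelianization.commutator_subset_ker f) (Subgroup.mem_top y)
        rw [MonoidHom.mem_ker.mp this, Units.val_one]
      rw [show (f y : ℂ) = LinearMap.det (ρ y) from rfl, hdet,
        ← Finset.prod_mul_prod_compl A ζ, Finset.prod_congr rfl (g := fun _ => ζ i)
          (fun x hx => (Finset.mem_filter.mp hx).2), Finset.prod_const, hAeq,
        Finset.prod_eq_one (s := Aᶜ) (fun x hx => by
          by_contra h1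
          exact (Finset.mem_compl.mp hx) (Finset.mem_filter.mpr ⟨Finset.mem_univ _, hother x h1⟩)),
        mul_one] at hf
      have h1 := pow_gcd_eq_one.2 ⟨(hb i).2, hf⟩
      rw [((Nat.coprime_primes hr hp).mpr hrp).gcd_eq_one, pow_one] at h1
      exact hi h1
    refine hfaith y ?_
    have h := hpow 1
    rw [pow_one, Finset.sum_congr rfl (fun i _ => by rw [hall i, one_pow]), Finset.sum_const,
      Finset.card_univ, nsmul_eq_mul, mul_one, ← hdcard] at h
    rw [h, hdd, ← hd]
  intro x
  have hox : 0 < orderOf x := orderOf_pos x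
  refine ⟨(orderOf x).primeFactorsList.length, ?_⟩
  rw [← orderOf_dvd_iff_pow_eq_one]
  refine dvd_of_eq (Nat.eq_prime_pow_of_unique_prime_dvd hox.ne' ?_)
  intro r hr hdiv
  by_contra hrp
  obtain ⟨q, hq⟩ := hdiv
  have h1 : x ^ q = 1 := Subtype.ext (key ((x ^ q : C) : G) (x ^ q : C).2 r hr hrp (by
    rw [← SubgroupClass.coe_pow, ← pow_mul, mul_comm, ← hq, pow_orderOf_eq_one, OneMemClass.coe_one]))
  have hq0 : 0 < q := Nat.pos_of_ne_zero fun e => by rw [e, mul_zero] at hq; omega
  have := Nat.le_of_dvd hq0 (orderOf_dvd_of_pow_eq_one h1)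
  rw [hq] at this
  nlinarith [hr.two_le]

end Cfsg.Agent.S4729
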