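import Cfsg.Statements.S4730
import Cfsg.Agent.Lib.Induced.Integral
import Cfsg.Agent.Lib.Characters.Basic
import Cfsg.Agent.Lib.DegreeBounds.Basic
import Cfsg.Agent.Lib.Blocks.Basic
-- import your own Cfsg.Agent.* helpers here

set_option autoImplicit false
open Cfsg

namespace Cfsg.Agent.S4730

open Cfsg.Agent.Lib Cfsg.Agent.Lib.Characters

/-- Let p be a prime, M a maximal ideal of the algebraic integers containing p, and G a finite group with trivial centre, Sylow p-subgroup P of order p^a and centre Z(P) of order p^b. If χ is a faithful irreducible character of G whose degree is a power of p, then the p-block of χ has defect at most a − b; in particular, if P is abelian then χ lies in a block of defect zero. -/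
theorem result {G : Type*} [Group G] [Finite G] (p : ℕ) [Fact p.Prime] (M : Ideal Cfsg.AlgInt) (hM : Cfsg.IsPModular p M) (hZ : Subgroup.center G = ⊥) (P : Sylow p G) (a b : ℕ) (ha : Nat.card P = p ^ a) (hb : Nat.card (Subgroup.center ↥(P : Subgroup G)) = p ^ b) (χ : Cfsg.IrrCharacter G) (hfaith : ∀ g : G, (χ : G → ℂ) g = (χ : G → ℂ) 1 → g = 1) (n : ℕ) (hdeg : Cfsg.charDegree (χ : G → ℂ) = p ^ n) : Cfsg.blockDefect p (Cfsg.blockOf M (χ : G → ℂ)) ≤ a - b ∧ (IsMulCommutative ↥(P : Subgroup G) → Cfsg.blockDefect p (Cfsg.blockOf M (χ : G → ℂ)) = 0) := by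
  classical
  haveI := hM.2.1
  haveI := Fintype.ofFinite G
  have hp : p.Prime := Fact.out
  set Z : Subgroup G := (Subgroup.center ↥(P : Subgroup G)).map (P : Subgroup G).subtype with hZdef
  have hcardZ : Nat.card Z = p ^ b :=
    (Subgroup.card_map_of_injective (P : Subgroup G).subtype_injective).trans hb
  have hidx : ∀ z ∈ Z, ¬ p ∣ (Subgroup.centralizer ({z} : Set G)).index := by
    rintro z ⟨w, hw, rfl⟩ h
    refine P.not_dvd_index (h.trans (Subgroup.index_dvd_of_le fun x hx => ?_))
    rw [Subgroup.mem_centralizer_singleton_iff]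
    exact congrArg Subtype.val (Subgroup.mem_center_iff.mp hw ⟨x, hx⟩)
  have hvan : ∀ z ∈ Z, z ≠ 1 → (χ : G → ℂ) z = 0 := by
    intro z hz hz1
    obtain ⟨k, ρ, hρ, hchar⟩ := Basic.exists_rep χ
    haveI := hρ
    have hd : Cfsg.charDegree (χ : G → ℂ) = Module.finrank ℂ (Fin k → ℂ) := by
      rw [Cfsg.charDegree, ← hchar, Representation.char_one, Complex.natCast_re, Nat.floor_natCast]
    rw [← hchar]
    refine (Induced.Integral.zero_or_norm_eq_of_coprime ρ z ?_).resolve_right fun hnorm => ?_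
    · rw [← hd, hdeg]
      exact ((hp.coprime_iff_not_dvd).mpr (hidx z hz)).pow_left n
    · obtain ⟨c, hc⟩ := Induced.Integral.scalar_of_norm_character_eq ρ hnorm
      apply hz1
      rw [← Subgroup.mem_bot, ← hZ, Subgroup.mem_center_iff]
      intro y
      have hcomm : ρ (y * z) = ρ (z * y) := by
        rw [map_mul, map_mul, hc]; ext v; simp
      refine inv_mul_eq_one.mp (hfaith _ ?_) |>.symm
      rw [← hchar]
      have : ρ ((z * y)⁻¹ * (y * z)) = 1 := by
        rw [map_mul, hcomm, ← map_mul, inv_mul_cancel, map_one]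
      show LinearMap.trace ℂ _ (ρ _) = LinearMap.trace ℂ _ (ρ 1)
      rw [this]; exact congrArg _ (map_one ρ).symm
  have hlow : ∀ ψ ∈ Cfsg.blockOf M (χ : G → ℂ),
      b ≤ (Cfsg.charDegree (ψ : G → ℂ)).factorization p := by
    intro ψ hψ
    by_contra hlt
    obtain ⟨m, hm⟩ := Basic.exists_classInner_nat
      (Basic.isCharacter_comp Z.subtype (Basic.isCharacter_irr ψ))
      (Basic.isCharacter_one (G := Z))
    have hd := DegreeBounds.Basic.charDegree_irr ψ
    have hd0 : Cfsg.charDegree (ψ : G → ℂ) ≠ 0 := (DegreeBounds.Basic.charDegree_pos ψ).ne'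
    set d := Cfsg.charDegree (ψ : G → ℂ)
    have hsum : ∑ z : Z, (ψ : G → ℂ) z / d = ((p ^ b : ℕ) : ℂ) * m / d := by
      rw [← hm, Cfsg.classInner, ← hcardZ, ← Finset.sum_div,
        mul_inv_cancel_left₀ (Nat.cast_ne_zero.mpr Nat.card_pos.ne')]
      simp
    rw [← Finset.add_sum_erase _ _ (Finset.mem_univ (1 : Z)), OneMemClass.coe_one, hd,
      div_self (Nat.cast_ne_zero.mpr hd0)] at hsum
    have hrest : Cfsg.MemLocalIdeal M
        (∑ z ∈ Finset.univ.erase (1 : Z), (ψ : G → ℂ) z / d) := by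
      refine Blocks.memLocalIdeal_sum _ fun z hz => ?_
      have hz1 : (z : G) ≠ 1 := fun e => (Finset.ne_of_mem_erase hz) (Subtype.ext e)
      have h := hψ z
      rw [Cfsg.centralChar, Cfsg.centralChar, hvan z z.2 hz1, mul_zero, zero_div, zero_sub,
        hd, mul_div_assoc] at h
      have h2 := Blocks.memLocalIdeal_mul_left
        (Blocks.natCast_inv_mem_localRing hM (hidx z z.2)) (Blocks.memLocalIdeal_neg h)
      rw [neg_neg, inv_mul_cancel_left₀
        (Nat.cast_ne_zero.mpr fun h0 => hidx z z.2 (by rw [h0]; exact dvd_zero p))] at h2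
      exact h2
    have hright : Cfsg.MemLocalIdeal M (((p ^ b : ℕ) : ℂ) * m / d) := by
      obtain ⟨j, hj⟩ : ∃ j, b = d.factorization p + j + 1 :=
        ⟨b - d.factorization p - 1, by omega⟩
      set c := d / p ^ d.factorization p with hc
      have hdc : p ^ d.factorization p * c = d := Nat.mul_div_cancel' (Nat.ordProj_dvd d p)
      have hc0 : ¬ p ∣ c := Nat.not_dvd_ordCompl hp hd0
      have e : ((p ^ b : ℕ) : ℂ) * m / d = ((p ^ (j + 1) * m : ℕ) : ℂ) * (c : ℂ)⁻¹ := by
        rw [show (d : ℂ) = ((p ^ d.factorization p : ℕ) : ℂ) * (c : ℂ) by exact_mod_cast hdc.symm,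
          hj, add_assoc, pow_add]
        have : ((p ^ d.factorization p : ℕ) : ℂ) ≠ 0 :=
          Nat.cast_ne_zero.mpr (pow_ne_zero _ hp.ne_zero)
        push_cast at this ⊢
        field_simp
      rw [e]
      refine Blocks.memLocalIdeal_mul_right ?_ (Blocks.natCast_inv_mem_localRing hM hc0)
      exact (Blocks.memLocalIdeal_natCast_iff hM _).mpr
        (Dvd.dvd.mul_right (dvd_pow_self p j.succ_ne_zero) m)
    rw [← hsum] at hright
    have h1 := Blocks.memLocalIdeal_sub hright hrest
    rw [add_sub_cancel_right, show (1 : ℂ) = ((1 : ℕ) : ℂ) from Nat.cast_one.symm,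
      Blocks.memLocalIdeal_natCast_iff hM] at h1
    exact hp.not_dvd_one h1
  have ha' : (Nat.card G).factorization p = a :=
    Nat.pow_right_injective hp.two_le (P.card_eq_multiplicity.symm.trans ha)
  have hmain : Cfsg.blockDefect p (Cfsg.blockOf M (χ : G → ℂ)) ≤ a - b := by
    rw [Cfsg.blockDefect, ha']
    refine Nat.sub_le_sub_left (le_csInf (Set.Nonempty.image _ ⟨χ, Blocks.mem_blockOf_self χ⟩) ?_) a
    rintro _ ⟨ψ, hψ, rfl⟩
    exact hlow ψ hψ
  refine ⟨hmain, fun hab => ?_⟩
  have : b = a := Nat.pow_right_injective hp.two_le (by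
    show p ^ b = p ^ a
    rw [← ha, ← hb, Subgroup.center_eq_top_iff.mpr hab, Subgroup.card_top])
  omega

end Cfsg.Agent.S4730
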