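import Cfsg.Statements.S4731
import Cfsg.Agent.Lib.Blocks.BlockPart
import Cfsg.Agent.Lib.BlocksChars5.Basic

set_option autoImplicit false
open Cfsg

namespace Cfsg.Agent.S4731

open scoped ComplexConjugate Classical
open Cfsg.Agent.Lib.Blocks Cfsg.Agent.Lib.Blocks.Contrib Cfsg.Agent.Lib.Blocks.BlockPart
open Cfsg.Agent.Lib.Characters.Basic Cfsg.Agent.Lib.Induced.Basic

universe u

theorem exists_invariants {P : Type u} [Group P] [Fintype P] {f : P → ℂ}
    (hf : Cfsg.IsCharacter P f) : ∃ k : ℕ, ∑ u, f u = (Nat.card P : ℂ) * (k : ℂ) := by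
  obtain ⟨n, ρ, rfl⟩ := hf
  haveI : Invertible (Fintype.card P : ℂ) := invertibleOfNonzero (by simp)
  refine ⟨Module.finrank ℂ (Representation.invariants ρ), ?_⟩
  have h := (Representation.isProj_averageMap ρ).trace
  rw [← h, Nat.card_eq_fintype_card, Representation.averageMap, GroupAlgebra.average]
  simp [Finset.mul_sum, Representation.character, map_sum]


/-- Let p ≠ q be primes, M_p and M_q maximal ideals of the algebraic integers containing p and q respectively, and G a finite group with no element of order pq; let q^b be the q-part of the order of G. For a p-block B_p (relative to M_p), a q-block B_q (relative to M_q) and a p-singular element y, the sum of χ(1)χ(y) over the irreducible characters χ lying in both B_p and B_q is q^b times an algebraic integer. -/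
theorem result {G : Type*} [Group G] [Finite G] (p q : ℕ) [Fact p.Prime] [Fact q.Prime] (hpq : p ≠ q) (Mp Mq : Ideal Cfsg.AlgInt) (hMp : Cfsg.IsPModular p Mp) (hMq : Cfsg.IsPModular q Mq) (hno : ∀ g : G, orderOf g ≠ p * q) (b : ℕ) (hb : (Nat.card G).factorization q = b) (Bp : Set (Cfsg.IrrCharacter G)) (hBp : Cfsg.IsPBlock Mp Bp) (Bq : Set (Cfsg.IrrCharacter G)) (hBq : Cfsg.IsPBlock Mq Bq) (y : G) (hy : p ∣ orderOf y) : ∃ ω : Cfsg.AlgInt, ∑ᶠ χ ∈ Bp ∩ Bq, (Cfsg.charDegree (χ : G → ℂ) : ℂ) * (χ : G → ℂ) y = (q : ℂ) ^ b * (ω : ℂ) := by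
  classical
  haveI := Fintype.ofFinite G
  haveI := Fintype.ofFinite (Cfsg.IrrCharacter G)
  haveI : Mp.IsMaximal := hMp.2.1
  haveI : Mq.IsMaximal := hMq.2.1
  have hp : p.Prime := Fact.out
  have hq : q.Prime := Fact.out
  have hsep : ∀ z : G, q ∣ orderOf z → ¬ p ∣ orderOf z := by
    intro z h1 h2
    have h3 : p * q ∣ orderOf z := ((Nat.coprime_primes hp hq).mpr hpq).mul_dvd_of_dvd_of_dvd h2 h1
    exact hno _ (orderOf_pow_orderOf_div (orderOf_pos z).ne' h3)
  set A : Finset (Cfsg.IrrCharacter G) := (Set.toFinite Bp).toFinset with hA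
  let ψ : G → ℂ := fun g => ∑ χ ∈ A, (χ : G → ℂ) y * (χ : G → ℂ) g
  have hψ : Cfsg.IsClassFunction G ψ := fun g x =>
    Finset.sum_congr rfl fun χ _ => by rw [isClassFunction_irr χ]
  have hψ0 : Cfsg.pRegularPart q ψ = ψ := by
    funext g
    rw [pRegularPart_apply]
    split_ifs with h
    · have h1 := weak_orthogonality hMp hBp (hsep g h) (show p ∣ orderOf y⁻¹ by rwa [orderOf_inv])
      rw [finsum_mem_eq_finite_toFinset_sum _ (Set.toFinite Bp)] at h1
      rw [← h1]
      refine Finset.sum_congr rfl fun χ _ => ?_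
      rw [apply_inv (isCharacter_irr χ), Complex.conj_conj, mul_comm]
    · rfl
  set θ := Cfsg.blockPart Bq ψ with hθdef
  have hreg : Cfsg.pRegularPart q θ = θ := by rw [hθdef, regular_blockPart hMq hBq hψ, hψ0]
  have hinner : ∀ φ : Cfsg.IrrCharacter G,
      Cfsg.classInner ψ φ = if φ ∈ A then (φ : G → ℂ) y else 0 := by
    intro φ
    simp only [Cfsg.classInner, ψ, Finset.sum_mul, Finset.mul_sum]
    rw [Finset.sum_comm]
    have h1 : ∀ χ : Cfsg.IrrCharacter G, ∑ g : G, (Nat.card G : ℂ)⁻¹ *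
        ((χ : G → ℂ) y * (χ : G → ℂ) g * conj ((φ : G → ℂ) g)) =
        if χ = φ then (χ : G → ℂ) y else 0 := by
      intro χ
      rw [← Finset.mul_sum, Finset.sum_congr rfl (fun g _ => mul_assoc _ _ _), ← Finset.mul_sum,
        Cfsg.Agent.Lib.BlocksChars5.Basic.sum_mul_conj_irr]
      have hG0 : (Nat.card G : ℂ) ≠ 0 := Nat.cast_ne_zero.mpr Nat.card_pos.ne'
      split_ifs
      · field_simp
      · simp
    rw [Finset.sum_congr rfl fun χ _ => h1 χ, Finset.sum_ite_eq']
  have hS : ∀ g : G, θ g = ∑ φ ∈ (Set.toFinite (Bp ∩ Bq)).toFinset,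
      (φ : G → ℂ) y * (φ : G → ℂ) g := by
    intro g
    rw [hθdef, blockPart_apply]
    simp only [hinner, ite_mul, zero_mul]
    rw [← Finset.sum_filter]
    refine Finset.sum_congr ?_ fun _ _ => rfl
    ext φ
    simp [hA, and_comm]
  have hfin : ∑ᶠ χ ∈ Bp ∩ Bq, (Cfsg.charDegree (χ : G → ℂ) : ℂ) * (χ : G → ℂ) y = θ 1 := by
    rw [finsum_mem_eq_finite_toFinset_sum _ (Set.toFinite (Bp ∩ Bq)), hS]
    exact Finset.sum_congr rfl fun χ _ => by rw [char_one_eq_degree χ, mul_comm]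
  obtain ⟨Q⟩ : Nonempty (Sylow q G) := inferInstance
  haveI := Fintype.ofFinite (Q : Subgroup G)
  have hQc : Nat.card (Q : Subgroup G) = q ^ b := by rw [Q.card_eq_multiplicity, hb]
  have hres : ∀ φ : Cfsg.IrrCharacter G, ∃ k : ℕ,
      ∑ u : (Q : Subgroup G), (φ : G → ℂ) u = ((q ^ b : ℕ) : ℂ) * k := by
    intro φ
    obtain ⟨n, ρ, -, hρ⟩ := φ.2
    rw [← hQc]
    exact exists_invariants ⟨n, ρ.comp (Q : Subgroup G).subtype, funext fun u => congrFun hρ (u : G)⟩
  choose k hk using hres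
  have hsum : ∑ u : (Q : Subgroup G), θ (u : G) = θ 1 := by
    rw [Fintype.sum_eq_single (1 : (Q : Subgroup G)) (fun u hu => ?_), OneMemClass.coe_one]
    have hd : q ∣ orderOf (u : G) := by
      rw [Subgroup.orderOf_coe]
      exact Q.2.dvd_orderOf hu
    rw [← hreg, pRegularPart_apply, if_pos hd]
  let w : ℂ := ∑ φ ∈ (Set.toFinite (Bp ∩ Bq)).toFinset, (φ : G → ℂ) y * (k φ : ℂ)
  have hw : IsIntegral ℤ w := IsIntegral.sum _ fun φ _ =>
    (isIntegral_apply (isCharacter_irr φ) y).mul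
      (by simpa using isIntegral_algebraMap (R := ℤ) (A := ℂ) (x := (k φ : ℤ)))
  refine ⟨⟨w, hw⟩, ?_⟩
  rw [hfin, ← hsum]
  simp only [hS]
  rw [Finset.sum_comm]
  show _ = (q : ℂ) ^ b * w
  simp only [w, Finset.mul_sum]
  refine Finset.sum_congr rfl fun φ _ => ?_
  rw [← Finset.mul_sum, hk φ]
  push_cast
  ring

end Cfsg.Agent.S4731
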