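import Cfsg.Statements.S4735
import Cfsg.Agent.Lib.PrincipalCore.Rational
import Cfsg.Agent.Lib.DegreeBounds.Basic

set_option autoImplicit false
open Cfsg

namespace Cfsg.Agent.S4735

/-- Let p be a prime, M a maximal ideal of the algebraic integers containing p, G a finite group, H = O_p'(G) and Ḡ = G/H. For x ∈ G write λ(G, x) for the sum of |χ(x)|^2 over the irreducible characters χ in the principal p-block of G. Then λ(G, x) is a positive integer, λ(G, x) = λ(Ḡ, x̄) where x̄ is the image of x, and λ(G, x) ≤ #C_Ḡ(x̄). Moreover λ(G, 1) = [G : H] if and only if the principal block is the only p-block of Ḡ. -/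
theorem result {G : Type*} [Group G] [Finite G] (p : ℕ) [Fact p.Prime] (M : Ideal Cfsg.AlgInt) (hM : Cfsg.IsPModular p M) (x : G) : (∃ n : ℕ, 0 < n ∧ ∑ᶠ χ ∈ Cfsg.principalBlock M G, Complex.normSq ((χ : G → ℂ) x) = n) ∧ ∑ᶠ χ ∈ Cfsg.principalBlock M G, Complex.normSq ((χ : G → ℂ) x) = ∑ᶠ ψ ∈ Cfsg.principalBlock M (G ⧸ Cfsg.pPrimeCore p G), Complex.normSq ((ψ : G ⧸ Cfsg.pPrimeCore p G → ℂ) (QuotientGroup.mk x)) ∧ ∑ᶠ χ ∈ Cfsg.principalBlock M G, Complex.normSq ((χ : G → ℂ) x) ≤ (Nat.card ↥(Subgroup.centralizer ({(QuotientGroup.mk x : G ⧸ Cfsg.pPrimeCore p G)} : Set (G ⧸ Cfsg.pPrimeCore p G))) : ℝ) ∧ ((∑ᶠ χ ∈ Cfsg.principalBlock M G, Cfsg.charDegree (χ : G → ℂ) ^ 2) = (Cfsg.pPrimeCore p G).index ↔ ∀ B : Set (Cfsg.IrrCharacter (G ⧸ Cfsg.pPrimeCore p G)), Cfsg.IsPBlock M B → B = Cfsg.principalBlock M (G ⧸ Cfsg.pPrimeCore p G)) := by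
  classical
  haveI := hM.2.1
  set N := Cfsg.pPrimeCore p G with hN
  let f := QuotientGroup.mk' N
  have hf : Function.Surjective f := QuotientGroup.mk'_surjective N
  have hker : ¬ p ∣ Nat.card f.ker := by
    rw [QuotientGroup.ker_mk']; exact Cfsg.Agent.Lib.PrincipalCore.Basic.not_dvd_core
  let i := Cfsg.Agent.Lib.BrauerMap.Inflation.infl f hf
  have hiv : ∀ (θ : Cfsg.IrrCharacter (G ⧸ N)) (g : G),
      (i θ : G → ℂ) g = (θ : G ⧸ N → ℂ) (QuotientGroup.mk g) := fun θ g =>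
    Cfsg.Agent.Lib.BrauerMap.Inflation.infl_apply f hf θ g
  have hinj : Function.Injective i := fun a b h => Subtype.ext <| funext fun y => by
    obtain ⟨g, rfl⟩ := QuotientGroup.mk_surjective y
    rw [← hiv, ← hiv, h]
  have hone : i (Cfsg.Agent.Lib.Characters.Basic.oneChar (G ⧸ N)) =
      Cfsg.Agent.Lib.Characters.Basic.oneChar G := Subtype.ext rfl
  have himg : Cfsg.principalBlock M G = i '' Cfsg.principalBlock M (G ⧸ N) := by
    refine Set.Subset.antisymm (fun χ hχ => ?_) ?_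
    · obtain ⟨θ, hθ⟩ := Cfsg.Agent.Lib.BrauerMap.Inflation.exists_infl f hf χ fun g hg =>
        Cfsg.Agent.Lib.PrincipalCore.Basic.trivialOn_core hM hχ g
          ((QuotientGroup.eq_one_iff g).mp hg)
      refine ⟨θ, ?_, hθ⟩
      exact Cfsg.Agent.Lib.BrauerMap.Inflation.sameBlock_of_infl hM f hf hker
        (χ := Cfsg.Agent.Lib.Characters.Basic.oneChar _) (by
          rw [show Cfsg.Agent.Lib.BrauerMap.Inflation.infl f hf
            (Cfsg.Agent.Lib.Characters.Basic.oneChar _) = _ from hone, hθ]; exact hχ)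
    · rintro _ ⟨θ, hθ, rfl⟩
      have := Cfsg.Agent.Lib.BrauerMap.Inflation.sameBlock_infl f hf
        (χ := Cfsg.Agent.Lib.Characters.Basic.oneChar _) (ψ := θ) hθ
      rwa [show Cfsg.Agent.Lib.BrauerMap.Inflation.infl f hf
            (Cfsg.Agent.Lib.Characters.Basic.oneChar _) = _ from hone] at this
  haveI := Fintype.ofFinite (Cfsg.IrrCharacter (G ⧸ N))
  set S := (Set.toFinite (Cfsg.principalBlock M (G ⧸ N))).toFinset with hS
  have hq : ∑ᶠ χ ∈ Cfsg.principalBlock M G, Complex.normSq ((χ : G → ℂ) x) =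
      ∑ᶠ ψ ∈ Cfsg.principalBlock M (G ⧸ N),
        Complex.normSq ((ψ : G ⧸ N → ℂ) (QuotientGroup.mk x)) := by
    rw [himg, finsum_mem_image hinj.injOn]
    simp only [hiv]
  have hle : ∑ᶠ ψ ∈ Cfsg.principalBlock M (G ⧸ N),
      Complex.normSq ((ψ : G ⧸ N → ℂ) (QuotientGroup.mk x)) ≤
      (Nat.card ↥(Subgroup.centralizer ({(QuotientGroup.mk x : G ⧸ N)} : Set (G ⧸ N))) : ℝ) := by
    rw [finsum_mem_eq_finite_toFinset_sum _ (Set.toFinite _)]
    refine (Finset.sum_le_sum_of_subset_of_nonneg (Finset.subset_univ _)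
      fun _ _ _ => Complex.normSq_nonneg _).trans (le_of_eq ?_)
    have h := Cfsg.Agent.Lib.Characters.Complete.sum_irr_mul_conj
      (QuotientGroup.mk x : G ⧸ N) (QuotientGroup.mk x)
    rw [if_pos (IsConj.refl _)] at h
    simp only [Complex.mul_conj] at h
    exact_mod_cast h
  refine ⟨?_, hq, hq ▸ hle, ?_⟩
  · obtain ⟨m, hm⟩ := Cfsg.Agent.Lib.PrincipalCore.Rational.exists_int_normSq hM x
    have hpos : (0 : ℝ) < ∑ᶠ χ ∈ Cfsg.principalBlock M G, Complex.normSq ((χ : G → ℂ) x) := by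
      rw [finsum_mem_eq_finite_toFinset_sum _ (Set.toFinite _)]
      refine Finset.sum_pos' (fun _ _ => Complex.normSq_nonneg _)
        ⟨Cfsg.Agent.Lib.Characters.Basic.oneChar G, ?_, ?_⟩
      · simpa using Cfsg.Agent.Lib.PrincipalCore.Basic.oneChar_mem hM
      · simp [Cfsg.Agent.Lib.Characters.Basic.oneChar_apply]
    rw [hm] at hpos ⊢
    refine ⟨m.toNat, ?_, ?_⟩
    · have : (0 : ℤ) < m := by exact_mod_cast hpos
      omega
    · have : (0 : ℤ) < m := by exact_mod_cast hpos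
      have e : ((m.toNat : ℕ) : ℤ) = m := Int.toNat_of_nonneg this.le
      exact_mod_cast e.symm
  · have hsum : ∑ᶠ χ ∈ Cfsg.principalBlock M G, Cfsg.charDegree (χ : G → ℂ) ^ 2 =
        ∑ θ ∈ S, Cfsg.charDegree (θ : G ⧸ N → ℂ) ^ 2 := by
      rw [himg, finsum_mem_image hinj.injOn,
        finsum_mem_eq_finite_toFinset_sum _ (Set.toFinite _)]
      refine Finset.sum_congr rfl fun θ _ => ?_
      simp [Cfsg.charDegree, hiv]
    have hall := Cfsg.Agent.Lib.DegreeBounds.Basic.sum_charDegree_sq (G := G ⧸ N)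
    rw [hsum, Subgroup.index_eq_card, ← hall]
    constructor
    · intro h B hB
      obtain ⟨ψ, rfl⟩ := hB
      have hψ : ψ ∈ Cfsg.principalBlock M (G ⧸ N) := by
        by_contra hn
        have hlt : ∑ θ ∈ S, Cfsg.charDegree (θ : G ⧸ N → ℂ) ^ 2 <
            ∑ θ : Cfsg.IrrCharacter (G ⧸ N), Cfsg.charDegree (θ : G ⧸ N → ℂ) ^ 2 :=
          Finset.sum_lt_sum_of_subset (Finset.subset_univ _) (Finset.mem_univ ψ)
            (by simpa [hS] using hn)
            (pow_pos (Cfsg.Agent.Lib.DegreeBounds.Basic.charDegree_pos ψ) 2)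
            fun _ _ _ => Nat.zero_le _
        omega
      exact Cfsg.Agent.Lib.Blocks.blockOf_eq_of_mem
        (χ := Cfsg.Agent.Lib.Characters.Basic.oneChar _) hψ
    · intro h
      refine Finset.sum_congr (Finset.eq_univ_of_forall fun θ => ?_) fun _ _ => rfl
      rw [hS, Set.Finite.mem_toFinset, ← h _ (Cfsg.Agent.Lib.Blocks.isPBlock_blockOf θ)]
      exact Cfsg.Agent.Lib.Blocks.mem_blockOf_self θ

end Cfsg.Agent.S4735
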