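import Cfsg.Statements.S4736
import Cfsg.Agent.Lib.PrincipalCore.Basic
import Cfsg.Agent.S4713
import Cfsg.Agent.Lib.DegreeBounds.Basic

set_option autoImplicit false
open Cfsg

namespace Cfsg.Agent.S4736

/-- Let p be a prime, M a maximal ideal of the algebraic integers containing p, and G a finite p-solvable group with Sylow p-subgroup P. Then P is abelian if and only if every irreducible character in the principal p-block of G has height zero. -/
theorem result {G : Type*} [Group G] [Finite G] (p : ℕ) [Fact p.Prime] (M : Ideal Cfsg.AlgInt) (hM : Cfsg.IsPModular p M) (hsolv : Cfsg.IsPSolvable p G) (P : Sylow p G) : IsMulCommutative P ↔ ∀ χ ∈ Cfsg.principalBlock M G, Cfsg.blockHeight p (Cfsg.principalBlock M G) (χ : G → ℂ) = 0 := by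
  classical
  set N := Cfsg.pPrimeCore p G with hN
  let f := QuotientGroup.mk' N
  have hf : Function.Surjective f := QuotientGroup.mk'_surjective N
  let P' : Sylow p (G ⧸ N) := P.mapSurjective hf
  have hP' : (P' : Subgroup (G ⧸ N)) = (P : Subgroup G).map f := Sylow.coe_mapSurjective _ _
  have hsolv' : Cfsg.IsPSolvable p (G ⧸ N) :=
    Cfsg.Agent.Lib.PSolvable.isPSolvable_quotient hsolv N
  have hheight : (∀ χ ∈ Cfsg.principalBlock M G,
      Cfsg.blockHeight p (Cfsg.principalBlock M G) (χ : G → ℂ) = 0) ↔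
      ∀ φ : Cfsg.IrrCharacter (G ⧸ N), ¬ p ∣ Cfsg.charDegree (φ : G ⧸ N → ℂ) := by
    constructor
    · intro h φ hd
      have hmem := (Cfsg.Agent.Lib.PrincipalCore.Basic.mem_iff_of_solvable hM hsolv).mpr
        (Cfsg.Agent.Lib.Characters.Kernel.inflateEquiv N φ).2
      have h0 := h _ hmem
      rw [Cfsg.Agent.Lib.PrincipalCore.Basic.blockHeight_eq hM] at h0
      have hdeg : Cfsg.charDegree ((Cfsg.Agent.Lib.Characters.Kernel.inflateEquiv N φ).1 : G → ℂ)
          = Cfsg.charDegree (φ : G ⧸ N → ℂ) := by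
        simp [Cfsg.charDegree, Cfsg.Agent.Lib.Characters.Kernel.inflateEquiv_apply]
      rw [hdeg] at h0
      exact ((Fact.out : p.Prime).factorization_pos_of_dvd
        (Cfsg.Agent.Lib.DegreeBounds.Basic.charDegree_pos φ).ne' hd).ne' h0
    · intro h χ hχ
      rw [Cfsg.Agent.Lib.PrincipalCore.Basic.blockHeight_eq hM]
      obtain ⟨φ, hφ⟩ := (Cfsg.Agent.Lib.Characters.Kernel.inflateEquiv N).surjective
        ⟨χ, Cfsg.Agent.Lib.PrincipalCore.Basic.trivialOn_core hM hχ⟩
      refine Nat.factorization_eq_zero_of_not_dvd ?_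
      have h1 : (χ : G → ℂ) 1 = (φ : G ⧸ N → ℂ) 1 := by
        rw [← congrArg (fun z : {χ : Cfsg.IrrCharacter G // _} => (z.1 : G → ℂ) 1) hφ]
        exact Cfsg.Agent.Lib.Characters.Kernel.inflateEquiv_apply N φ 1
      rw [show Cfsg.charDegree (χ : G → ℂ) = Cfsg.charDegree (φ : G ⧸ N → ℂ) by
        simp [Cfsg.charDegree, h1]]
      exact h φ
  rw [hheight, ← Cfsg.Agent.S4713.result p hsolv' P']
  constructor
  · intro hc
    have hab : ∀ a ∈ (P' : Subgroup (G ⧸ N)), ∀ b ∈ (P' : Subgroup (G ⧸ N)), a * b = b * a := by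
      rw [hP']
      rintro _ ⟨a, ha, rfl⟩ _ ⟨b, hb, rfl⟩
      rw [← map_mul, ← map_mul]
      exact congrArg f (congrArg Subtype.val (hc.1.1 ⟨a, ha⟩ ⟨b, hb⟩))
    refine ⟨?_, ⟨⟨fun a b => Subtype.ext (hab _ a.2 _ b.2)⟩⟩⟩
    have hle : Cfsg.pCore p (G ⧸ N) ≤ (P' : Subgroup (G ⧸ N)) :=
      (Cfsg.Agent.Lib.Cores.pCore_isPGroup p).le_sylow_of_normal P'
    have hge : (P' : Subgroup (G ⧸ N)) ≤ Cfsg.pCore p (G ⧸ N) :=
      le_trans (fun a ha => Subgroup.mem_centralizer_iff.mpr fun b hb => hab b (hle hb) a ha)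
        (Cfsg.Agent.Lib.PSolvable.centralizer_pCore_le hsolv'
          (Cfsg.Agent.Lib.PSolvable.pPrimeCore_quotient_eq_bot _ rfl))
    rw [le_antisymm hge hle]
    exact inferInstance
  · rintro ⟨-, hc⟩
    refine ⟨⟨fun a b => ?_⟩⟩
    have hmap : ∀ x : (P : Subgroup G), f x ∈ (P' : Subgroup (G ⧸ N)) := fun x => by
      rw [hP']; exact ⟨x, x.2, rfl⟩
    have := congrArg Subtype.val (hc.1.1 ⟨f a, hmap a⟩ ⟨f b, hmap b⟩)
    have hker : (a : G) * b * ((b : G) * a)⁻¹ ∈ (P : Subgroup G) ⊓ N := by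
      refine ⟨Subgroup.mul_mem _ (Subgroup.mul_mem _ a.2 b.2)
        (Subgroup.inv_mem _ (Subgroup.mul_mem _ b.2 a.2)), ?_⟩
      refine (QuotientGroup.eq_one_iff _).mp ?_
      show f ((a : G) * b * ((b : G) * a)⁻¹) = 1
      rw [map_mul, map_inv, mul_inv_eq_one, map_mul, map_mul]
      exact this
    have hbot : (P : Subgroup G) ⊓ N = ⊥ := by
      refine Subgroup.inf_eq_bot_of_coprime ?_
      rw [P.card_eq_multiplicity]
      exact ((Fact.out : p.Prime).coprime_iff_not_dvd.mpr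
        Cfsg.Agent.Lib.PrincipalCore.Basic.not_dvd_core).pow_left _
    rw [hbot, Subgroup.mem_bot, mul_inv_eq_one] at hker
    exact Subtype.ext hker

end Cfsg.Agent.S4736
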