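import Cfsg.Statements.S4737
import Cfsg.Agent.Lib.H80.ClassMult
import Cfsg.Agent.Lib.DegreeBounds.Basic

set_option autoImplicit false
open Cfsg

namespace Cfsg.Agent.S4737

open Cfsg.Agent.Lib.Characters.Basic Cfsg.Agent.Lib.Characters.Complete
open scoped Classical

universe u
variable {G : Type u} [Group G]

/-- An element of order three that normalises no nontrivial 2-subgroup. -/
def Good (g : G) : Prop :=
  orderOf g = 3 ∧ ∀ Q : Subgroup G, IsPGroup 2 ↥Q → g ∈ Subgroup.normalizer (Q : Set G) → Q = ⊥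

theorem Good.cube {g : G} (h : Good g) : g ^ 3 = 1 := by rw [← h.1]; exact pow_orderOf_eq_one g

theorem Good.inv {g : G} (h : Good g) : Good g⁻¹ :=
  ⟨by rw [orderOf_inv]; exact h.1, fun Q hQ hn => h.2 Q hQ (inv_mem_iff.mp hn)⟩

theorem Good.odd_centralizer [Finite G] {g : G} (h : Good g) :
    Odd (Nat.card (Subgroup.centralizer ({g} : Set G))) := by
  rw [← Nat.not_even_iff_odd]
  intro he
  obtain ⟨t, ht⟩ := exists_prime_orderOf_dvd_card' (G := Subgroup.centralizer ({g} : Set G)) 2
    he.two_dvd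
  have hcomm := Subgroup.mem_centralizer_singleton_iff.mp t.2
  have ht' : orderOf (t : G) = 2 := by rw [Subgroup.orderOf_coe]; exact ht
  have hp : IsPGroup 2 ↥(Subgroup.zpowers (t : G)) :=
    IsPGroup.of_card (n := 1) (by rw [Nat.card_zpowers, ht']; rfl)
  have hn : g ∈ Subgroup.normalizer ((Subgroup.zpowers (t : G)) : Set G) := by
    refine Subgroup.mem_normalizer_iff.mpr fun k => ?_
    have hc : ∀ m : ℤ, g * (t : G) ^ m * g⁻¹ = (t : G) ^ m := fun m => by
      have : Commute g ((t : G) ^ m) := Commute.zpow_right hcomm.symm m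
      rw [this.eq, mul_inv_cancel_right]
    constructor
    · rintro ⟨m, rfl⟩
      exact ⟨m, (hc m).symm⟩
    · rintro ⟨m, hm⟩
      refine ⟨m, ?_⟩
      simp only at hm ⊢
      rw [← hc m] at hm
      exact mul_left_cancel (mul_right_cancel hm)
  have := h.2 _ hp hn
  rw [Subgroup.zpowers_eq_bot] at this
  rw [this, orderOf_one] at ht'
  exact absurd ht' (by decide)

/-- The only `v` with `v * v = 1` such that `g⁻¹ * v` has cube one is trivial. -/
theorem Good.eq_one {g v : G} (h : Good g) (hv : v * v = 1)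
    (h3 : (g⁻¹ * v) * (g⁻¹ * v) * (g⁻¹ * v) = 1) : v = 1 := by
  have hg : g * g * g = 1 := by
    have := h.cube
    rwa [pow_succ, pow_two] at this
  have hg' : g⁻¹ = g * g := inv_eq_of_mul_eq_one_right (by rw [← mul_assoc, hg])
  obtain ⟨w, hw⟩ : ∃ w, w = g * v * g⁻¹ := ⟨_, rfl⟩
  obtain ⟨z, hz⟩ : ∃ z, z = g * w * g⁻¹ := ⟨_, rfl⟩
  have hzv : g * z * g⁻¹ = v := by
    rw [hz, hw, show g * (g * (g * v * g⁻¹) * g⁻¹) * g⁻¹ = (g * g * g) * v * (g * g * g)⁻¹ by group,
      hg, one_mul, inv_one, mul_one]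
  have hw2 : w * w = 1 := by
    rw [hw, show g * v * g⁻¹ * (g * v * g⁻¹) = g * (v * v) * g⁻¹ by group, hv, mul_one,
      mul_inv_cancel]
  have hz2 : z * z = 1 := by
    rw [hz, show g * w * g⁻¹ * (g * w * g⁻¹) = g * (w * w) * g⁻¹ by group, hw2, mul_one,
      mul_inv_cancel]
  have hz' : z = g⁻¹ * v * g := by
    rw [← hzv]
    group
  have e : z * w * v = 1 := by
    rw [← h3, hz', hw]
    calc g⁻¹ * v * g * (g * v * g⁻¹) * v = g⁻¹ * v * (g * g) * v * g⁻¹ * v := by group
      _ = g⁻¹ * v * g⁻¹ * v * g⁻¹ * v := by rw [← hg']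
      _ = _ := by group
  have e1 : z = v * w := by
    have := congrArg (· * v * w) e
    simp only [one_mul] at this
    rwa [show z * w * v * v * w = z * w * (v * v) * w by group, hv, mul_one, mul_assoc, hw2,
      mul_one] at this
  have e2 : z = w * v := by
    have := congrArg (·⁻¹) e1
    simp only [mul_inv_rev] at this
    rw [inv_eq_of_mul_eq_one_right hz2, inv_eq_of_mul_eq_one_right hw2,
      inv_eq_of_mul_eq_one_right hv] at this
    exact this
  have hc : Commute v w := e1.symm.trans e2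
  let Q : Subgroup G := Subgroup.closure {v, w}
  have hvQ : v ∈ Q := Subgroup.subset_closure (by simp)
  have hwQ : w ∈ Q := Subgroup.subset_closure (by simp)
  have r1 : ∀ s, v * (v * s) = s := fun s => by rw [← mul_assoc, hv, one_mul]
  have r2 : ∀ s, w * (w * s) = s := fun s => by rw [← mul_assoc, hw2, one_mul]
  have r3 : w * v = v * w := hc.eq.symm
  have r4 : ∀ s, w * (v * s) = v * (w * s) := fun s => by rw [← mul_assoc, r3, mul_assoc]
  have hmem : ∀ k ∈ Q, k = 1 ∨ k = v ∨ k = w ∨ k = v * w := by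
    intro k hk
    induction hk using Subgroup.closure_induction with
    | mem k hk => rcases hk with rfl | rfl <;> simp
    | one => simp
    | mul a b _ _ ha hb =>
      rcases ha with ha | ha | ha | ha <;> rcases hb with hb | hb | hb | hb <;>
        rw [ha, hb] <;> simp only [mul_assoc, one_mul, mul_one, r1, r2, r3, r4, hv, hw2] <;> simp
    | inv a _ ha =>
      rcases ha with ha | ha | ha | ha <;> rw [ha] <;>
        simp [mul_inv_rev, r3, inv_eq_of_mul_eq_one_right hv, inv_eq_of_mul_eq_one_right hw2]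
  have hp : IsPGroup 2 ↥Q := fun k => ⟨1, Subtype.ext (by
    rw [pow_one, pow_two, Subgroup.coe_mul, Subgroup.coe_one]
    rcases hmem k k.2 with e | e | e | e <;> rw [e] <;>
      simp only [mul_assoc, one_mul, mul_one, r1, r2, r3, r4, hv, hw2])⟩
  have hstep : ∀ k ∈ Q, g * k * g⁻¹ ∈ Q := by
    intro k hk
    have hzQ : z ∈ Q := e1 ▸ mul_mem hvQ hwQ
    rcases hmem k hk with e | e | e | e <;> rw [e]
    · simp
    · rw [← hw]; exact hwQ
    · rw [← hz]; exact hzQ
    · rw [show g * (v * w) * g⁻¹ = (g * v * g⁻¹) * (g * w * g⁻¹) by group, ← hw, ← hz]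
      exact mul_mem hwQ hzQ
  have hn : g ∈ Subgroup.normalizer (Q : Set G) := by
    refine Subgroup.mem_normalizer_iff.mpr fun k => ⟨hstep k, fun hk => ?_⟩
    have := hstep _ (hstep _ hk)
    rwa [show g * (g * (g * k * g⁻¹) * g⁻¹) * g⁻¹ = (g * g * g) * k * (g * g * g)⁻¹ by group, hg,
      one_mul, inv_one, mul_one] at this
  have := h.2 Q hp hn
  rw [this, Subgroup.mem_bot] at hvQ
  exact hvQ

/-- An involution on a finite set reduces its cardinality mod 2 to that of the fixed points. -/
theorem card_cast_involution {α : Type*} [DecidableEq α] (s : Finset α) (σ : α → α)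
    (hs : ∀ a ∈ s, σ a ∈ s) (h2 : ∀ a ∈ s, σ (σ a) = a) :
    ((s.card : ℕ) : ZMod 2) = ((s.filter fun a => σ a = a).card : ZMod 2) := by
  rw [← Finset.card_filter_add_card_filter_not (s := s) (fun a => σ a = a), Nat.cast_add]
  suffices ((s.filter fun a => ¬ σ a = a).card : ZMod 2) = 0 by rw [this, add_zero]
  rw [Finset.cast_card]
  refine Finset.sum_involution (fun a _ => σ a) (fun _ _ => by decide) ?_ ?_ ?_
  · intro a ha _
    exact (Finset.mem_filter.mp ha).2
  · intro a ha
    obtain ⟨h, h'⟩ := Finset.mem_filter.mp ha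
    refine Finset.mem_filter.mpr ⟨hs a h, fun e => h' ?_⟩
    rw [h2 a h] at e
    exact e.symm
  · intro a ha
    exact h2 a (Finset.mem_filter.mp ha).1

theorem conjPairs_parity [Fintype G] {x y : G} (hx : Good x) (hy : Good y) :
    (((Finset.univ : Finset G).filter fun u => IsConj x u ∧ IsConj x (u⁻¹ * y)).card : ZMod 2) =
      if IsConj x y⁻¹ then 1 else 0 := by
  have hy3 : y * y * y = 1 := by
    have := hy.cube
    rwa [pow_succ, pow_two] at this
  have hy' : y⁻¹ = y * y := inv_eq_of_mul_eq_one_right (by rw [← mul_assoc, hy3])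
  have hx3 : ∀ u : G, IsConj x u → u * u * u = 1 := by
    intro u hu
    obtain ⟨c, rfl⟩ := isConj_iff.mp hu
    rw [show c * x * c⁻¹ * (c * x * c⁻¹) * (c * x * c⁻¹) = c * (x * x * x) * c⁻¹ by group,
      show x * x * x = 1 by rw [← pow_two, ← pow_succ]; exact hx.cube,
      mul_one, mul_inv_cancel]
  rw [card_cast_involution _ (fun u => y⁻¹ * u⁻¹ * y⁻¹)]
  · have : ((Finset.univ.filter fun u => IsConj x u ∧ IsConj x (u⁻¹ * y)).filter
        fun u => y⁻¹ * u⁻¹ * y⁻¹ = u) = if IsConj x y⁻¹ then {y⁻¹} else ∅ := by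
      have key : ∀ u, IsConj x u → y⁻¹ * u⁻¹ * y⁻¹ = u → u = y⁻¹ := by
        intro u hu e
        have hv : (y * u) * (y * u) = 1 := by
          conv_lhs => arg 2; arg 2; rw [← e]
          group
        have := hy.eq_one hv (by rw [inv_mul_cancel_left]; exact hx3 u hu)
        exact (inv_eq_of_mul_eq_one_right this).symm
      split_ifs with hc
      · ext u
        simp only [Finset.mem_filter, Finset.mem_univ, true_and, Finset.mem_singleton]
        refine ⟨fun hu => key u hu.1.1 hu.2, ?_⟩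
        rintro rfl
        refine ⟨⟨hc, ?_⟩, by group⟩
        rw [inv_inv, ← hy']
        exact hc
      · refine Finset.filter_eq_empty_iff.mpr fun u hu e => hc ?_
        have hu' := (Finset.mem_filter.mp hu).2.1
        exact key u hu' e ▸ hu'
    rw [this]
    split_ifs <;> simp
  · intro u hu
    simp only [Finset.mem_filter, Finset.mem_univ, true_and] at hu ⊢
    constructor
    · refine hu.2.trans (isConj_iff.mpr ⟨y⁻¹, ?_⟩)
      rw [inv_inv]
      calc y⁻¹ * (u⁻¹ * y) * y = y⁻¹ * u⁻¹ * (y * y) := by group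
        _ = _ := by rw [hy']
    · refine hu.1.trans (isConj_iff.mpr ⟨y, ?_⟩)
      calc y * u * y⁻¹ = y * u * (y * y) := by rw [hy']
        _ = _ := by group
  · intro u _
    group

theorem fibre_card [Fintype G] (x u : G) :
    ((Finset.univ : Finset G).filter fun a => a * x * a⁻¹ = u).card =
      if IsConj x u then Nat.card (Subgroup.centralizer ({x} : Set G)) else 0 := by
  split_ifs with h
  · obtain ⟨c, hc⟩ := isConj_iff.mp h
    rw [← Fintype.card_subtype, ← Nat.card_eq_fintype_card]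
    refine Nat.card_congr
      { toFun := fun a => ⟨c⁻¹ * a.1, ?_⟩
        invFun := fun k => ⟨c * k.1, ?_⟩
        left_inv := fun a => Subtype.ext (by simp)
        right_inv := fun k => Subtype.ext (by simp) }
    · have ha : a.1 * x * a.1⁻¹ = c * x * c⁻¹ := a.2.trans hc.symm
      rw [Subgroup.mem_centralizer_singleton_iff]
      calc c⁻¹ * a.1 * x = c⁻¹ * (a.1 * x * a.1⁻¹) * a.1 := by group
        _ = _ := by rw [ha]; group
    · have hk := Subgroup.mem_centralizer_singleton_iff.mp k.2
      calc c * k.1 * x * (c * k.1)⁻¹ = c * (k.1 * x) * (k.1⁻¹ * c⁻¹) := by group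
        _ = u := by rw [hk, ← hc]; group
  · rw [Finset.card_eq_zero, Finset.filter_eq_empty_iff]
    exact fun a _ e => h (isConj_iff.mpr ⟨a, e⟩)

theorem count_eq [Fintype G] [Fintype (Cfsg.IrrCharacter G)] (x y : G) :
    ((Nat.card (Subgroup.centralizer ({x} : Set G)) *
        (Nat.card (Subgroup.centralizer ({x} : Set G)) *
          ((Finset.univ : Finset G).filter fun u => IsConj x u ∧ IsConj x (u⁻¹ * y)).card) : ℕ) :
        ℂ) =
      ∑ χ : Cfsg.IrrCharacter G, (Nat.card G : ℂ) / (χ : G → ℂ) 1 *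
        ((χ : G → ℂ) x * (χ : G → ℂ) x * (χ : G → ℂ) y⁻¹) := by
  have hG : (Nat.card G : ℂ) ≠ 0 := Nat.cast_ne_zero.mpr Nat.card_pos.ne'
  set C := Nat.card (Subgroup.centralizer ({x} : Set G))
  have key : ∀ χ : Cfsg.IrrCharacter G,
      ∑ a : G, ∑ b : G, (χ : G → ℂ) (y⁻¹ * (a * x * a⁻¹) * (b * x * b⁻¹)) =
      (Nat.card G : ℂ) * ((Nat.card G : ℂ) * ((χ : G → ℂ) x * (χ : G → ℂ) x * (χ : G → ℂ) y⁻¹) /
        (χ : G → ℂ) 1 ^ 2) := by
    intro χ
    simp only [Cfsg.Agent.Lib.H80.ClassMult.sum_apply_mul_conj, ← Finset.sum_div, ← Finset.sum_mul,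
      ← Finset.mul_sum]
    ring
  have hcount : ∑ χ : Cfsg.IrrCharacter G, (χ : G → ℂ) 1 *
      ∑ a : G, ∑ b : G, (χ : G → ℂ) (y⁻¹ * (a * x * a⁻¹) * (b * x * b⁻¹)) =
      ∑ a : G, ∑ b : G,
        if b * x * b⁻¹ = (a * x * a⁻¹)⁻¹ * y then (Nat.card G : ℂ) else 0 := by
    simp only [Finset.mul_sum]
    rw [Finset.sum_comm]
    refine Finset.sum_congr rfl fun a _ => ?_
    rw [Finset.sum_comm]
    refine Finset.sum_congr rfl fun b _ => ?_
    rw [sum_degree_mul_apply]
    refine if_congr ⟨fun e => ?_, fun e => ?_⟩ rfl rfl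
    · calc b * x * b⁻¹ = (a * x * a⁻¹)⁻¹ * y * (y⁻¹ * (a * x * a⁻¹) * (b * x * b⁻¹)) := by group
        _ = _ := by rw [e, mul_one]
    · rw [e]; group
  have hb : ∀ u : G, (∑ b : G, if b * x * b⁻¹ = u then (Nat.card G : ℂ) else 0) =
      (if IsConj x u then (C : ℂ) * (Nat.card G : ℂ) else 0) := by
    intro u
    rw [← Finset.sum_filter, Finset.sum_const, nsmul_eq_mul, fibre_card]
    split_ifs <;> simp [C, ← Nat.card_eq_fintype_card]
  simp only [hb, key] at hcount
  have ha : (∑ a : G, if IsConj x ((a * x * a⁻¹)⁻¹ * y) then (C : ℂ) * (Nat.card G : ℂ) else 0) =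
      (C : ℂ) * ((C : ℂ) * (((Finset.univ : Finset G).filter
        fun u => IsConj x u ∧ IsConj x (u⁻¹ * y)).card : ℂ)) * (Nat.card G : ℂ) := by
    rw [← Finset.sum_fiberwise (s := (Finset.univ : Finset G)) (g := fun a => a * x * a⁻¹)]
    have : ∀ u : G, (∑ a ∈ Finset.univ.filter (fun a => a * x * a⁻¹ = u),
        if IsConj x ((a * x * a⁻¹)⁻¹ * y) then (C : ℂ) * (Nat.card G : ℂ) else 0) =
        if IsConj x u ∧ IsConj x (u⁻¹ * y) then (C : ℂ) * ((C : ℂ) * (Nat.card G : ℂ)) else 0 := by
      intro u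
      rw [Finset.sum_congr rfl (fun a ha => by rw [(Finset.mem_filter.mp ha).2]), Finset.sum_const,
        nsmul_eq_mul, fibre_card]
      by_cases h1 : IsConj x u <;> by_cases h2 : IsConj x (u⁻¹ * y) <;>
        simp only [h1, h2, and_self, if_true, if_false, and_true, and_false, Nat.cast_zero, zero_mul,
          mul_zero, C]
    simp only [this]
    rw [← Finset.sum_filter, Finset.sum_const, nsmul_eq_mul]
    ring
  rw [ha] at hcount
  push_cast
  refine mul_right_cancel₀ hG (hcount.symm.trans ?_)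
  rw [Finset.sum_mul]
  refine Finset.sum_congr rfl fun χ _ => ?_
  have h1 := apply_one_ne_zero χ
  field_simp

/-- Let G be a finite group of order divisible by 6. Then the number of irreducible characters of G whose degree has the same 2-part as the order of G (the characters of 2-defect zero, each forming a 2-block of defect zero on its own) is at least the number of conjugacy classes of elements of order 3 that normalize no nontrivial 2-subgroup of G. In particular G has a 2-block of defect zero as soon as some element of order 3 normalizes no nontrivial 2-subgroup. -/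
theorem result {G : Type*} [Group G] [Finite G] (h6 : 6 ∣ Nat.card G) : Nat.card {C : ConjClasses G // ∃ g ∈ C.carrier, orderOf g = 3 ∧ ∀ Q : Subgroup G, IsPGroup 2 ↥Q → g ∈ Subgroup.normalizer (Q : Set G) → Q = ⊥} ≤ Nat.card {χ : Cfsg.IrrCharacter G // (Cfsg.charDegree (χ : G → ℂ)).factorization 2 = (Nat.card G).factorization 2} := by
  classical
  letI := Fintype.ofFinite G
  letI := Fintype.ofFinite (Cfsg.IrrCharacter G)
  set ι := {C : ConjClasses G // ∃ g ∈ C.carrier, orderOf g = 3 ∧
    ∀ Q : Subgroup G, IsPGroup 2 ↥Q → g ∈ Subgroup.normalizer (Q : Set G) → Q = ⊥}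
  set κ := {χ : Cfsg.IrrCharacter G // (Cfsg.charDegree (χ : G → ℂ)).factorization 2 =
    (Nat.card G).factorization 2}
  haveI : Finite (ConjClasses G) := Finite.of_surjective _ ConjClasses.mk_surjective
  letI := Fintype.ofFinite ι
  letI := Fintype.ofFinite κ
  choose x hxC hx using fun C : ι => C.2
  have hconj : ∀ i j : ι, IsConj (x i) (x j) ↔ i = j := by
    intro i j
    refine ⟨fun h => Subtype.ext ?_, fun h => h ▸ IsConj.refl _⟩
    rw [← ConjClasses.mem_carrier_iff_mk_eq.mp (hxC i), ← ConjClasses.mem_carrier_iff_mk_eq.mp (hxC j)]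
    exact ConjClasses.mk_eq_mk_iff_isConj.mpr h
  let O := integralClosure ℤ ℂ
  let val : Cfsg.IrrCharacter G → G → O := fun χ g =>
    ⟨(χ : G → ℂ) g, isIntegral_apply (isCharacter_irr χ) g⟩
  let q : O →+* O ⧸ Ideal.span ({2} : Set O) := Ideal.Quotient.mk _
  haveI : Nontrivial (O ⧸ Ideal.span ({2} : Set O)) := by
    refine Ideal.Quotient.nontrivial_iff.mpr ?_
    rw [Ne, Ideal.span_singleton_eq_top]
    rintro hu
    obtain ⟨a, ha⟩ := hu.exists_left_inv
    have ha' : (a : ℂ) * 2 = 1 := by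
      have := congrArg O.val ha
      rwa [map_mul, map_one, map_ofNat] at this
    have hint : IsIntegral ℤ (a : ℂ) := a.2
    have hz : IsIntegral ℤ ((1 : ℚ) / 2) := by
      refine (isIntegral_algebraMap_iff (FaithfulSMul.algebraMap_injective ℚ ℂ)).mp ?_
      have : (a : ℂ) = 1 / 2 := by rw [eq_div_iff two_ne_zero]; exact ha'
      rw [map_div₀, map_one, map_ofNat, ← this]
      exact hint
    obtain ⟨z, hz'⟩ := (IsIntegrallyClosed.isIntegral_iff (R := ℤ) (K := ℚ)).mp hz
    rw [eq_div_iff two_ne_zero] at hz'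
    have : z * 2 = 1 := by
      simp only [algebraMap_int_eq, eq_intCast] at hz'
      exact_mod_cast hz'
    omega
  have h2 : q 2 = 0 := Ideal.Quotient.eq_zero_iff_mem.mpr (Ideal.mem_span_singleton_self 2)
  have hcast : ∀ n : ℕ, q (n : O) = if (n : ZMod 2) = 1 then 1 else 0 := by
    intro n
    rcases Nat.even_or_odd' n with ⟨m, rfl | rfl⟩
    · have : ((2 * m : ℕ) : ZMod 2) = 0 := by
        rw [Nat.cast_mul, show ((2 : ℕ) : ZMod 2) = 0 by decide, zero_mul]
      rw [this, if_neg zero_ne_one, Nat.cast_mul, map_mul, Nat.cast_ofNat, h2, zero_mul]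
    · have : ((2 * m + 1 : ℕ) : ZMod 2) = 1 := by
        rw [Nat.cast_add, Nat.cast_mul, show ((2 : ℕ) : ZMod 2) = 0 by decide, zero_mul, zero_add,
          Nat.cast_one]
      rw [this, if_pos rfl, Nat.cast_add, Nat.cast_mul, map_add, map_mul, Nat.cast_ofNat, h2,
        zero_mul, zero_add, Nat.cast_one, map_one]
  let d : Cfsg.IrrCharacter G → ℕ := fun χ => Nat.card G / Cfsg.charDegree (χ : G → ℂ)
  have hd : ∀ χ : Cfsg.IrrCharacter G, (d χ : ℂ) = (Nat.card G : ℂ) / (χ : G → ℂ) 1 := by
    intro χ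
    obtain ⟨h1, h2⟩ := Cfsg.Agent.Lib.H80.ClassMult.deg_spec χ
    rw [h2]
    exact Nat.cast_div (Cfsg.Agent.Lib.H80.ClassMult.charDegree_dvd_card χ)
      (Nat.cast_ne_zero.mpr h1.ne')
  have heven : ∀ χ : Cfsg.IrrCharacter G, ¬ ((Cfsg.charDegree (χ : G → ℂ)).factorization 2 =
      (Nat.card G).factorization 2) → q (d χ : O) = 0 := by
    intro χ hne
    obtain ⟨h1, -⟩ := Cfsg.Agent.Lib.H80.ClassMult.deg_spec χ
    have hdvd := Cfsg.Agent.Lib.H80.ClassMult.charDegree_dvd_card χ
    have h2d : 2 ∣ d χ := by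
      apply Nat.dvd_of_factorization_pos
      rw [Nat.factorization_div hdvd, Finsupp.tsub_apply]
      have := (Nat.factorization_le_iff_dvd h1.ne' Nat.card_pos.ne').mpr hdvd 2
      omega
    obtain ⟨m, hm⟩ := h2d
    rw [hm, Nat.cast_mul, map_mul, Nat.cast_ofNat, h2, zero_mul]
  let A : Matrix ι κ (O ⧸ Ideal.span ({2} : Set O)) :=
    fun i χ => q ((d χ.1 : O) * (val χ.1 (x i) * val χ.1 (x i)))
  let B : Matrix κ ι (O ⧸ Ideal.span ({2} : Set O)) := fun χ j => q (val χ.1 (x j))
  have hAB : A * B = 1 := by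
    ext i j
    rw [Matrix.mul_apply, Matrix.one_apply]
    have h1 : (∑ χ : κ, A i χ * B χ j) =
        ∑ χ : Cfsg.IrrCharacter G, q ((d χ : O) * (val χ (x i) * val χ (x i) * val χ (x j))) := by
      have : ∀ χ : κ, A i χ * B χ j =
          (fun χ : Cfsg.IrrCharacter G =>
            q ((d χ : O) * (val χ (x i) * val χ (x i) * val χ (x j)))) χ.1 := by
        intro χ
        simp only [A, B, map_mul]
        ring
      rw [Finset.sum_congr rfl fun χ _ => this χ]
      set f := fun χ : Cfsg.IrrCharacter G =>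
        q ((d χ : O) * (val χ (x i) * val χ (x i) * val χ (x j)))
      refine (Finset.sum_subtype (Finset.univ.filter fun χ : Cfsg.IrrCharacter G =>
        (Cfsg.charDegree (χ : G → ℂ)).factorization 2 = (Nat.card G).factorization 2)
        (fun χ => by simp) f).symm.trans ?_
      refine Finset.sum_filter_of_ne fun χ _ hχ => by_contra fun h => hχ ?_
      simp only [f, map_mul, heven χ h, zero_mul]
    set S := ((Finset.univ : Finset G).filter
      fun u => IsConj (x i) u ∧ IsConj (x i) (u⁻¹ * (x j)⁻¹)).card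
    set C := Nat.card (Subgroup.centralizer ({x i} : Set G))
    have h3 : (∑ χ : Cfsg.IrrCharacter G,
        (d χ : O) * (val χ (x i) * val χ (x i) * val χ (x j))) = ((C * (C * S) : ℕ) : O) := by
      apply Subtype.ext
      have := count_eq (x i) (x j)⁻¹
      rw [inv_inv] at this
      push_cast at this ⊢
      rw [this]
      exact Finset.sum_congr rfl fun χ _ => by rw [hd χ]
    rw [h1, ← map_sum, h3, hcast]
    have hC : (C : ZMod 2) = 1 := by
      obtain ⟨m, hm⟩ := Good.odd_centralizer (hx i)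
      simp only [C, hm, Nat.cast_add, Nat.cast_mul, Nat.cast_one, Nat.cast_ofNat,
        show (2 : ZMod 2) = 0 by decide, zero_mul, zero_add]
    have hS := conjPairs_parity (hx i) (Good.inv (hx j))
    rw [inv_inv] at hS
    rw [Nat.cast_mul, Nat.cast_mul, hC, one_mul, one_mul, hS]
    by_cases hij : i = j
    · rw [if_pos ((hconj i j).mpr hij), if_pos rfl, if_pos hij]
    · rw [if_neg (mt (hconj i j).mp hij), if_neg zero_ne_one, if_neg hij]
  have hinj : Function.Injective (Matrix.mulVecLin B) := by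
    intro v w h
    have := congrArg (A.mulVec) h
    simp only [Matrix.mulVecLin_apply, Matrix.mulVec_mulVec, hAB, Matrix.one_mulVec] at this
    exact this
  have := card_le_of_injective (O ⧸ Ideal.span ({2} : Set O)) (Matrix.mulVecLin B) hinj
  rwa [← Nat.card_eq_fintype_card, ← Nat.card_eq_fintype_card] at this

end Cfsg.Agent.S4737
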