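import Cfsg.Statements.S4740
import Cfsg.Agent.Lib.H80.ClassMult


set_option autoImplicit false
open Cfsg

namespace Cfsg.Agent.S4740

/-- Let p be an odd prime, G a finite group of even order, x an involution of G and P a subgroup of G of order p ^ c such that no conjugate of x inverts a non-identity element of P. If p ^ a is the p-part of the order of C_G(x), then some irreducible character of G has degree divisible by p ^ (c - a). -/
theorem result {G : Type*} [Group G] [Finite G] (p : ℕ) [Fact p.Prime] (hp2 : p ≠ 2) (hG : Even (Nat.card G)) (x : G) (hx : orderOf x = 2) (P : Subgroup G) (c : ℕ) (hP : Nat.card ↥P = p ^ c) (hinv : ∀ g : G, IsConj x g → ∀ z ∈ P, z ≠ 1 → g * z * g⁻¹ ≠ z⁻¹) (a : ℕ) (ha : (Nat.card ↥(Subgroup.centralizer ({x} : Set G))).factorization p = a) : ∃ χ : Cfsg.IrrCharacter G, p ^ (c - a) ∣ Cfsg.charDegree (χ : G → ℂ) := by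
  classical
  letI := Fintype.ofFinite G
  have hp : p.Prime := Fact.out
  have hxi : x⁻¹ = x := by
    rw [inv_eq_iff_mul_eq_one, ← pow_two, ← hx, pow_orderOf_eq_one]
  obtain ⟨χ, hχ⟩ := Cfsg.Agent.Lib.H80.ClassMult.exists_degree_dvd hp x P (by
    intro a b hmem
    by_contra hne
    refine hinv (a * x * a⁻¹) (isConj_iff.mpr ⟨a, rfl⟩) _ hmem hne ?_
    rw [hxi]
    calc a * x * a⁻¹ * (a * x * a⁻¹ * (b * x * b⁻¹)) * (a * x * a⁻¹)⁻¹
        = a * (x * x) * a⁻¹ * (b * x * b⁻¹) * (a * x⁻¹ * a⁻¹) := by group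
      _ = b * x * b⁻¹ * (a * x⁻¹ * a⁻¹) := by
          rw [show x * x = 1 by rw [← pow_two, ← hx, pow_orderOf_eq_one]]; group
      _ = b * x⁻¹ * b⁻¹ * (a * x⁻¹ * a⁻¹) := by rw [hxi]
      _ = _ := by group)
  rw [hP, ha, hp.factorization_pow, Finsupp.single_eq_same] at hχ
  refine ⟨χ, (pow_dvd_pow p ?_).trans (Nat.ordProj_dvd _ p)⟩
  omega

end Cfsg.Agent.S4740
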