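import Cfsg.Statements.S4741
import Cfsg.Agent.Lib.BrauerMap.PrincipalSection
import Cfsg.Agent.Lib.Blocks.Vanishing
import Cfsg.Agent.Lib.H80.ClassMult
-- import your own Cfsg.Agent.* helpers here

set_option autoImplicit false
open Cfsg

namespace Cfsg.Agent.S4741

set_option synthInstance.maxHeartbeats 400000
set_option maxHeartbeats 1000000

open Lib.Blocks Lib.Characters.Basic

theorem centralizer_inv {G : Type*} [Group G] (g : G) :
    Subgroup.centralizer ({g⁻¹} : Set G) = Subgroup.centralizer ({g} : Set G) := by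
  ext v
  simp only [Subgroup.mem_centralizer_singleton_iff]
  refine ⟨fun h => ?_, fun h => (Commute.inv_right (show Commute v g from h)).eq⟩
  have h' := (Commute.inv_right (show Commute v g⁻¹ from h)).eq
  rwa [inv_inv] at h'

variable {G : Type*} [Group G] [Finite G] {p : ℕ} [Fact p.Prime] {M : Ideal Cfsg.AlgInt}

/-- The index of the centralizer of a class with defect group `D`. -/
theorem index_eq {D : Subgroup G} {g : G}
    (hD : ∃ S : Sylow p ↥(Subgroup.centralizer ({g} : Set G)),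
      (S : Subgroup ↥(Subgroup.centralizer ({g} : Set G))).map
        (Subgroup.centralizer ({g} : Set G)).subtype = D) :
    (∃ u : ℕ, ¬ p ∣ u ∧
      (Subgroup.centralizer ({g} : Set G)).index = p ^ (D.index.factorization p) * u) ∧
    ∃ w : ℕ, ¬ p ∣ w ∧ Nat.card (Subgroup.centralizer ({g} : Set G)) = Nat.card D * w := by
  have hp : p.Prime := Fact.out
  obtain ⟨S, hS⟩ := hD
  have hle : D ≤ Subgroup.centralizer ({g} : Set G) := hS ▸ Subgroup.map_subtype_le _
  have hrel : ¬ p ∣ D.relIndex (Subgroup.centralizer ({g} : Set G)) :=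
    hS ▸ not_dvd_relIndex_sylow S
  set C := Subgroup.centralizer ({g} : Set G)
  have hfac : C.index.factorization p = D.index.factorization p := by
    rw [← Subgroup.relIndex_mul_index hle, Nat.factorization_mul
      (fun h => hrel (by rw [h]; exact dvd_zero p)) C.index_ne_zero_of_finite,
      Finsupp.add_apply, Nat.factorization_eq_zero_of_not_dvd hrel, zero_add]
  refine ⟨⟨C.index / p ^ C.index.factorization p,
    Nat.not_dvd_ordCompl hp C.index_ne_zero_of_finite, ?_⟩, D.relIndex C, hrel, ?_⟩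
  · rw [← hfac, Nat.ordProj_mul_ordCompl_eq_self]
  · rw [← Subgroup.card_mul_index (D.subgroupOf C),
      Nat.card_congr (Subgroup.subgroupOfEquivOfLe hle).toEquiv]
    rfl

/-- The sum of `χ a χ b⁻¹ χ u / χ 1` over the irreducible characters vanishes when no product
`a' b'⁻¹` of conjugates is conjugate to `u⁻¹`. -/
theorem sum_triple [Fintype G] [Fintype (Cfsg.IrrCharacter G)] (a b u : G)
    (h : ∀ c v : G, a * (c * b * c⁻¹)⁻¹ ≠ v * u⁻¹ * v⁻¹) :
    ∑ χ : Cfsg.IrrCharacter G,
      (χ : G → ℂ) a * (χ : G → ℂ) b⁻¹ * (χ : G → ℂ) u / (χ : G → ℂ) 1 = 0 := by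
  classical
  have hG : (Nat.card G : ℂ) ≠ 0 := Nat.cast_ne_zero.mpr Nat.card_pos.ne'
  apply mul_left_cancel₀ hG
  rw [mul_zero, Finset.mul_sum]
  have h1 : ∀ χ : Cfsg.IrrCharacter G,
      (Nat.card G : ℂ) * ((χ : G → ℂ) a * (χ : G → ℂ) b⁻¹ * (χ : G → ℂ) u / (χ : G → ℂ) 1) =
        ∑ c : G, (χ : G → ℂ) (a * (c * b⁻¹ * c⁻¹)) * (χ : G → ℂ) u⁻¹⁻¹ := by
    intro χ
    rw [← Finset.sum_mul, Lib.H80.ClassMult.sum_apply_mul_conj, inv_inv]
    ring
  simp only [h1]
  rw [Finset.sum_comm]
  refine Finset.sum_eq_zero fun c _ => ?_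
  rw [Lib.BrauerMap.PrincipalSection.sum_irr_mul_inv]
  refine Finset.sum_eq_zero fun v _ => if_neg fun e => h c v ?_
  rw [← e]
  group



/-- Let p be a prime, M a maximal ideal of the algebraic integers containing p, and D a subgroup of the finite group G. Let x₁, …, x_r be pairwise non-conjugate elements of G such that D is a Sylow p-subgroup of the centralizer of each xᵢ, and such that for any conjugates g of some xᵢ and h of some xⱼ the element g h⁻¹ is never a non-identity p-element. Then there are r distinct p-blocks B₁, …, B_r of G, each having D as a defect group, such that for every choice of characters χᵢ ∈ Bᵢ of height zero the determinant of the r × r matrix (χᵢ(xⱼ)) does not lie in the local ideal at M. -/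
theorem result {G : Type*} [Group G] [Finite G] (p : ℕ) [Fact p.Prime] (M : Ideal Cfsg.AlgInt) (hM : Cfsg.IsPModular p M) (D : Subgroup G) {r : ℕ} (x : Fin r → G) (hx : ∀ i j : Fin r, IsConj (x i) (x j) → i = j) (hD : ∀ i : Fin r, ∃ S : Sylow p ↥(Subgroup.centralizer ({x i} : Set G)), (S : Subgroup ↥(Subgroup.centralizer ({x i} : Set G))).map (Subgroup.centralizer ({x i} : Set G)).subtype = D) (hsep : ∀ i j : Fin r, ∀ g h : G, IsConj (x i) g → IsConj (x j) h → ∀ k : ℕ, 0 < k → orderOf (g * h⁻¹) ≠ p ^ k) : ∃ B : Fin r → Set (Cfsg.IrrCharacter G), Function.Injective B ∧ (∀ i : Fin r, Cfsg.IsPBlock M (B i) ∧ Cfsg.IsDefectGroup p M (B i) D) ∧ ∀ χ : Fin r → Cfsg.IrrCharacter G, (∀ i : Fin r, χ i ∈ B i ∧ Cfsg.blockHeight p (B i) (χ i : G → ℂ) = 0) → ¬ Cfsg.MemLocalIdeal M (Matrix.det (Matrix.of fun i j : Fin r => (χ i : G → ℂ) (x j))) := by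
  classical
  haveI := hM.2.1
  haveI := Fintype.ofFinite G
  haveI : Fintype (Cfsg.IrrCharacter G) := Fintype.ofFinite _
  letI := Ideal.Quotient.field M
  have hp : p.Prime := Fact.out
  obtain ⟨P⟩ : Nonempty (Sylow p G) := inferInstance
  haveI := Fintype.ofFinite ↥(P : Subgroup G)
  set e := D.index.factorization p with he
  choose u hu huc using fun i => (index_eq (hD i)).1
  choose w hw hwc using fun i => (index_eq (hD i)).2
  choose n hn using fun χ : Cfsg.IrrCharacter G =>
    Lib.H80.ClassMult.exists_sum_subgroup χ (P : Subgroup G)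
  have hdeg : ∀ χ : Cfsg.IrrCharacter G, ∃ v m : ℕ, ¬ p ∣ m ∧
      (Cfsg.charDegree (χ : G → ℂ)).factorization p = v ∧
      (χ : G → ℂ) 1 = (p : ℂ) ^ v * (m : ℂ) := by
    intro χ
    have h0 := (charDegree_pos χ).ne'
    refine ⟨_, _, Nat.not_dvd_ordCompl hp h0, rfl, ?_⟩
    rw [char_one_eq_degree, ← Nat.cast_pow, ← Nat.cast_mul, Nat.ordProj_mul_ordCompl_eq_self]
  choose v m hm hv hvm using hdeg
  have hp0 : (p : ℂ) ≠ 0 := Nat.cast_ne_zero.mpr hp.ne_zero
  have hnat : ∀ {k : ℕ}, ¬ p ∣ k → (k : ℂ) ≠ 0 := fun h =>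
    Nat.cast_ne_zero.mpr fun h0 => h (h0 ▸ dvd_zero p)
  have hcc : ∀ (χ : Cfsg.IrrCharacter G) (i : Fin r), (χ : G → ℂ) (x i) * ((p : ℂ) ^ e * u i) =
      Cfsg.centralChar (χ : G → ℂ) (x i) * ((p : ℂ) ^ v χ * m χ) := by
    intro χ i
    rw [Cfsg.centralChar, huc i, ← he, ← hvm χ]
    push_cast
    field_simp [char_one_ne_zero χ]
  -- the second factor
  let Z : Cfsg.IrrCharacter G → Fin r → ℂ := fun χ j =>
    (n χ : ℂ) * ((χ : G → ℂ) (x j)⁻¹ * (p : ℂ) ^ e / (χ : G → ℂ) 1)
  have hcc' : ∀ (χ : Cfsg.IrrCharacter G) (j : Fin r),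
      Z χ j = (n χ : ℂ) * (Cfsg.centralChar (χ : G → ℂ) (x j)⁻¹ * (u j : ℂ)⁻¹) := by
    intro χ j
    simp only [Z, Cfsg.centralChar, centralizer_inv, huc j, ← he]
    push_cast
    field_simp [char_one_ne_zero χ, hnat (hu j)]
  have hZ : ∀ χ j, Z χ j ∈ localRing M := fun χ j => by
    rw [hcc' χ j]
    exact mul_mem (natCast_mem _ _)
      (mul_mem (centralChar_mem_localRing χ _) (natCast_inv_mem_localRing hM (hu j)))
  let aR : Cfsg.IrrCharacter G → Fin r → localRing M := fun χ i =>
    ⟨(χ : G → ℂ) (x i), char_mem_localRing χ _⟩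
  let ZR : Cfsg.IrrCharacter G → Fin r → localRing M := fun χ j => ⟨Z χ j, hZ χ j⟩
  have hrel : ∀ i j, ∑ χ, aR χ i * ZR χ j =
      if i = j then ((w i : ℕ) : localRing M) else 0 := by
    intro i j
    apply Subtype.ext
    rw [AddSubmonoidClass.coe_finsetSum]
    have hP : Nat.card ↥(P : Subgroup G) = Nat.card ↥D * p ^ e := by
      obtain ⟨S, hS⟩ := hD i
      have hDp : IsPGroup p ↥D := hS ▸ S.2.map _
      obtain ⟨d, hd⟩ := IsPGroup.iff_card.mp hDp
      rw [P.card_eq_multiplicity, ← D.card_mul_index, hd,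
        Nat.factorization_mul (pow_ne_zero _ hp.ne_zero) D.index_ne_zero_of_finite,
        Finsupp.add_apply, hp.factorization_pow, Finsupp.single_eq_same, pow_add, he]
    have h1 : (Nat.card ↥(P : Subgroup G) : ℂ) * ∑ χ : Cfsg.IrrCharacter G,
        (χ : G → ℂ) (x i) * (χ : G → ℂ) (x j)⁻¹ * (n χ : ℂ) / (χ : G → ℂ) 1 =
        if i = j then (Nat.card (Subgroup.centralizer ({x i} : Set G)) : ℂ) else 0 := by
      calc _ = ∑ g : ↥(P : Subgroup G), ∑ χ : Cfsg.IrrCharacter G,
            (χ : G → ℂ) (x i) * (χ : G → ℂ) (x j)⁻¹ * (χ : G → ℂ) g / (χ : G → ℂ) 1 := by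
            rw [Finset.sum_comm, Finset.mul_sum]
            refine Finset.sum_congr rfl fun χ _ => ?_
            rw [← Finset.sum_div, ← Finset.mul_sum, hn χ]
            ring
        _ = ∑ χ : Cfsg.IrrCharacter G, (χ : G → ℂ) (x i) * (χ : G → ℂ) (x j)⁻¹ := by
            rw [Finset.sum_eq_single (1 : ↥(P : Subgroup G))]
            · exact Finset.sum_congr rfl fun χ _ => by
                rw [Subgroup.coe_one, mul_div_assoc, div_self (char_one_ne_zero χ), mul_one]
            · intro g _ hg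
              refine sum_triple _ _ _ fun c z heq => ?_
              obtain ⟨k, hk⟩ := IsPGroup.iff_orderOf.mp P.2 g
              refine hsep i j (x i) (c * x j * c⁻¹) (IsConj.refl _)
                (isConj_iff.mpr ⟨c, rfl⟩) k ?_ ?_
              · rcases Nat.eq_zero_or_pos k with rfl | h
                · exact absurd (orderOf_eq_one_iff.mp (by rw [hk, pow_zero])) hg
                · exact h
              · rw [heq, show orderOf (z * (g : G)⁻¹ * z⁻¹) = orderOf (g : G)⁻¹ from
                  (MulAut.conj z).orderOf_eq _, orderOf_inv, Subgroup.orderOf_coe, hk]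
            · simp
        _ = _ := by
            rw [Lib.BrauerMap.PrincipalSection.sum_irr_mul_inv]
            split_ifs with hij
            · subst hij
              rw [← Finset.sum_filter, Finset.sum_const, nsmul_eq_mul, mul_one,
                ← Fintype.card_subtype, ← Nat.card_eq_fintype_card]
              refine congrArg _ (Nat.card_congr (Equiv.subtypeEquivRight fun z => ?_))
              rw [Subgroup.mem_centralizer_singleton_iff, eq_mul_inv_iff_mul_eq, eq_comm]
            · exact Finset.sum_eq_zero fun z _ => if_neg fun h =>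
                hij (hx _ _ (IsConj.symm (isConj_iff.mpr ⟨z, h.symm⟩)))
    have h2 : ∑ χ : Cfsg.IrrCharacter G, ((aR χ i * ZR χ j : localRing M) : ℂ) = (p : ℂ) ^ e *
        ∑ χ : Cfsg.IrrCharacter G,
          (χ : G → ℂ) (x i) * (χ : G → ℂ) (x j)⁻¹ * (n χ : ℂ) / (χ : G → ℂ) 1 := by
      rw [Finset.mul_sum]
      refine Finset.sum_congr rfl fun χ _ => ?_
      simp only [MulMemClass.coe_mul, aR, ZR, Z]
      ring
    rw [h2]
    apply mul_left_cancel₀ (Nat.cast_ne_zero.mpr Nat.card_pos.ne' : (Nat.card ↥D : ℂ) ≠ 0)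
    rw [← mul_assoc, ← Nat.cast_pow, ← Nat.cast_mul, ← hP, h1, hwc i]
    split_ifs
    · push_cast
      simp
    · simp
  -- residues
  let A : Cfsg.IrrCharacter G → Fin r → (Cfsg.AlgInt ⧸ M) := fun χ i => residue M (aR χ i)
  let S := {χ : Cfsg.IrrCharacter G // v χ = e}
  have hoff : ∀ χ i j, v χ ≠ e → A χ i * residue M (ZR χ j) = 0 := by
    intro χ i j hne
    rcases Nat.lt_or_gt_of_ne hne with h | h
    · refine mul_eq_zero_of_right _ (residue_eq_zero_iff.mpr ?_)
      obtain ⟨t, ht⟩ := Nat.exists_eq_add_of_le (Nat.succ_le_of_lt h)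
      have hval : Z χ j =
          (p : ℂ) * ((p : ℂ) ^ t * (n χ : ℂ) * (χ : G → ℂ) (x j)⁻¹ * (m χ : ℂ)⁻¹) := by
        simp only [Z]
        rw [hvm χ, ht, pow_add, pow_succ]
        field_simp [hnat (hm χ)]
      change Cfsg.MemLocalIdeal M (Z χ j)
      rw [hval]
      exact memLocalIdeal_mul_right (natCast_prime_mem_localIdeal hM)
        (mul_mem (mul_mem (mul_mem (pow_mem (natCast_mem _ _) _) (natCast_mem _ _))
          (char_mem_localRing χ _)) (natCast_inv_mem_localRing hM (hm χ)))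
    · refine mul_eq_zero_of_left (residue_eq_zero_iff.mpr ?_) _
      obtain ⟨t, ht⟩ := Nat.exists_eq_add_of_le (Nat.succ_le_of_lt h)
      have h' := hcc χ i
      rw [ht, pow_add, pow_succ] at h'
      have hval : (χ : G → ℂ) (x i) = (p : ℂ) * ((p : ℂ) ^ t *
          Cfsg.centralChar (χ : G → ℂ) (x i) * (m χ : ℂ) * (u i : ℂ)⁻¹) := by
        field_simp [hnat (hu i)]
        apply mul_left_cancel₀ (pow_ne_zero e hp0)
        linear_combination h'
      change Cfsg.MemLocalIdeal M ((χ : G → ℂ) (x i))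
      rw [hval]
      exact memLocalIdeal_mul_right (natCast_prime_mem_localIdeal hM)
        (mul_mem (mul_mem (mul_mem (pow_mem (natCast_mem _ _) _)
          (centralChar_mem_localRing χ _)) (natCast_mem _ _)) (natCast_inv_mem_localRing hM (hu i)))
  have hspan : Submodule.span (Cfsg.AlgInt ⧸ M) (Set.range fun χ : S => A χ.1) = ⊤ := by
    by_contra hne
    obtain ⟨φ, hφ0, hφ⟩ := Submodule.exists_le_ker_of_lt_top _ (lt_top_iff_ne_top.mpr hne)
    refine hφ0 (LinearMap.pi_ext' fun i => LinearMap.ext_ring ?_)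
    simp only [LinearMap.comp_apply, LinearMap.coe_single, LinearMap.zero_apply]
    have hvan : ∀ χ : S, φ (A χ.1) = 0 := fun χ =>
      LinearMap.mem_ker.mp (hφ (Submodule.subset_span ⟨χ, rfl⟩))
    have hexp : ∀ f : Fin r → (Cfsg.AlgInt ⧸ M), φ f = ∑ l, f l * φ (Pi.single l 1) := by
      intro f
      conv_lhs => rw [← Finset.univ_sum_single f]
      rw [map_sum]
      refine Finset.sum_congr rfl fun l _ => ?_
      rw [← smul_eq_mul, ← map_smul]
      congr 1
      rw [← Pi.single_smul', smul_eq_mul, mul_one]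
    have hz : ∑ l, φ (Pi.single l 1) * ∑ χ, A χ l * residue M (ZR χ i) = 0 := by
      simp only [Finset.mul_sum]
      rw [Finset.sum_comm]
      refine Finset.sum_eq_zero fun χ _ => ?_
      by_cases hχ : v χ = e
      · have h := hvan ⟨χ, hχ⟩
        rw [hexp] at h
        calc ∑ l, φ (Pi.single l 1) * (A χ l * residue M (ZR χ i))
            = (∑ l, A χ l * φ (Pi.single l 1)) * residue M (ZR χ i) := by
              rw [Finset.sum_mul]
              exact Finset.sum_congr rfl fun l _ => by ring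
          _ = 0 := by rw [h, zero_mul]
      · exact Finset.sum_eq_zero fun l _ => by rw [hoff χ l i hχ, mul_zero]
    have hres : ∀ l, ∑ χ, A χ l * residue M (ZR χ i) = if l = i then ((w l : ℕ) : (Cfsg.AlgInt ⧸ M)) else 0 := by
      intro l
      simp only [A, ← map_mul, ← map_sum, hrel, apply_ite (residue M), map_natCast, map_zero]
    simp only [hres, mul_ite, mul_zero, Finset.sum_ite_eq', Finset.mem_univ, if_true] at hz
    refine (mul_eq_zero.mp hz).resolve_right fun h0 => hw i ?_
    haveI := charP_residue (p := p) hM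
    exact (CharP.cast_eq_zero_iff (Cfsg.AlgInt ⧸ M) p _).mp h0
  obtain ⟨κ, σ, -, hσspan, hσli⟩ :=
    exists_linearIndependent' (Cfsg.AlgInt ⧸ M) (fun χ : S => A χ.1)
  haveI : Finite κ := hσli.finite
  haveI := Fintype.ofFinite κ
  have hcard : Fintype.card κ = r := by
    have hb := Module.finrank_eq_card_basis (Module.Basis.mk hσli (by rw [hσspan, hspan]))
    rw [Module.finrank_fin_fun] at hb
    exact hb.symm
  obtain ⟨ε⟩ : Nonempty (Fin r ≃ κ) := ⟨(Fintype.equivFinOfCardEq hcard).symm⟩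
  let χ₀ : Fin r → S := σ ∘ ε
  have hli : LinearIndependent (Cfsg.AlgInt ⧸ M) fun i => A (χ₀ i).1 := hσli.comp ε ε.injective
  -- the vector of a block
  have hvec : ∀ χ : Cfsg.IrrCharacter G, v χ = e →
      A χ = (m χ : (Cfsg.AlgInt ⧸ M)) • fun i => residue M (ccR M χ (x i)) * ((u i : (Cfsg.AlgInt ⧸ M)))⁻¹ := by
    intro χ hχ
    funext i
    have hu0 : (u i : (Cfsg.AlgInt ⧸ M)) ≠ 0 := fun h0 => hu i <| by
      haveI := charP_residue (p := p) hM
      exact (CharP.cast_eq_zero_iff (Cfsg.AlgInt ⧸ M) p _).mp h0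
    rw [Pi.smul_apply, smul_eq_mul, ← mul_assoc, eq_mul_inv_iff_mul_eq₀ hu0]
    simp only [A, ← map_natCast (residue M), ← map_mul]
    refine congrArg _ (Subtype.ext ?_)
    simp only [MulMemClass.coe_mul, aR, SubringClass.coe_natCast, ccR]
    apply mul_left_cancel₀ (pow_ne_zero e hp0)
    have h := hcc χ i
    rw [hχ] at h
    linear_combination h
  have hmk : ∀ χ, (m χ : (Cfsg.AlgInt ⧸ M)) ≠ 0 := fun χ h0 => hm χ <| by
    haveI := charP_residue (p := p) hM
    exact (CharP.cast_eq_zero_iff (Cfsg.AlgInt ⧸ M) p _).mp h0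
  have hsame : ∀ χ ψ : Cfsg.IrrCharacter G, v χ = e → v ψ = e →
      ψ ∈ Cfsg.blockOf M (χ : G → ℂ) → A ψ = ((m ψ : (Cfsg.AlgInt ⧸ M)) / (m χ : (Cfsg.AlgInt ⧸ M))) • A χ := by
    intro χ ψ hχ hψ hb
    rw [hvec χ hχ, hvec ψ hψ, smul_smul, div_mul_cancel₀ _ (hmk χ)]
    congr 1
    funext i
    rw [residue_ccR_eq_of_mem (isPBlock_blockOf χ) hb (mem_blockOf_self χ)]
  let B : Fin r → Set (Cfsg.IrrCharacter G) := fun i =>
    Cfsg.blockOf M ((χ₀ i).1 : G → ℂ)
  have hBinj : Function.Injective B := by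
    intro i j hij
    by_contra hne
    have hmem : (χ₀ j).1 ∈ B i := hij ▸ mem_blockOf_self _
    have h := hsame _ _ (χ₀ i).2 (χ₀ j).2 hmem
    have := linearIndependent_iff'.mp hli {i, j}
      (fun l => if l = i then -((m (χ₀ j).1 : (Cfsg.AlgInt ⧸ M)) / (m (χ₀ i).1 : (Cfsg.AlgInt ⧸ M))) else 1) ?_ j
      (Finset.mem_insert_of_mem (Finset.mem_singleton_self j))
    · simp only [if_neg (Ne.symm hne)] at this
      exact one_ne_zero this
    · rw [Finset.sum_pair hne, if_pos rfl, if_neg (Ne.symm hne), one_smul, h, neg_smul,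
        neg_add_cancel]
  have hdefect : ∀ i, Cfsg.IsDefectGroup p M (B i) D := by
    intro i
    have hB : Cfsg.IsPBlock M (B i) := isPBlock_blockOf _
    obtain ⟨l, hl⟩ := Function.ne_iff.mp (hli.ne_zero i)
    have hcl : ¬ Cfsg.MemLocalIdeal M (Cfsg.centralChar ((χ₀ i).1 : G → ℂ) (x l)) := by
      intro h0
      apply hl
      rw [hvec _ (χ₀ i).2, Pi.smul_apply, (memLocalIdeal_centralChar_iff _ _).mp h0]
      simp
    obtain ⟨DB, hDB⟩ := exists_isDefectGroup (p := p) hB
    obtain ⟨g, hg, T, hT⟩ := id hDB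
    obtain ⟨S₀, hS₀⟩ := hD l
    obtain ⟨z, hz⟩ := exists_conj_le_of_blockCoeff hM hB (g := x l) (h := g)
      ⟨_, mem_blockOf_self _, hcl⟩ S₀ hg.2.1 (isPGroup_isDefectGroup hDB)
      (hT ▸ Subgroup.map_subtype_le _)
    rw [hS₀] at hz
    have hle : DB.index.factorization p ≤ e := by
      rw [← (χ₀ i).2, ← hv]
      exact (hp.pow_dvd_iff_le_factorization (charDegree_pos _).ne').mp
        (pow_dvd_charDegree hM hB hDB (mem_blockOf_self _))
    have hDp : IsPGroup p ↥D := hS₀ ▸ S₀.2.map _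
    obtain ⟨d, hd⟩ := IsPGroup.iff_card.mp hDp
    obtain ⟨d', hd'⟩ := IsPGroup.iff_card.mp (isPGroup_isDefectGroup hDB)
    have hG : ∀ (K : Subgroup G) (c : ℕ), Nat.card K = p ^ c →
        (Nat.card G).factorization p = c + K.index.factorization p := by
      intro K c hc
      rw [← K.card_mul_index, hc,
        Nat.factorization_mul (pow_ne_zero _ hp.ne_zero) K.index_ne_zero_of_finite,
        Finsupp.add_apply, hp.factorization_pow, Finsupp.single_eq_same]
    have hdd : d ≤ d' := by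
      have h1 := hG D d hd
      have h2 := hG DB d' hd'
      rw [← he] at h1
      omega
    rw [← Subgroup.eq_of_le_of_card_ge hz
      (by rw [card_map_conj, hd, hd']; exact Nat.pow_le_pow_right hp.pos hdd)]
    exact isDefectGroup_map_conj hM hDB z
  refine ⟨B, hBinj, fun i => ⟨isPBlock_blockOf _, hdefect i⟩, fun χ hχ hdet => ?_⟩
  have hvχ : ∀ i, v (χ i) = e := by
    intro i
    obtain ⟨hmem, h0⟩ := hχ i
    rw [blockHeight_eq hM (isPBlock_blockOf _) (hdefect i), Nat.sub_eq_zero_iff_le] at h0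
    rw [← hv]
    exact le_antisymm h0 ((hp.pow_dvd_iff_le_factorization (charDegree_pos _).ne').mp
      (pow_dvd_charDegree hM (isPBlock_blockOf _) (hdefect i) hmem))
  have hli' : LinearIndependent (Cfsg.AlgInt ⧸ M) fun i => A (χ i) := by
    have h := hli.units_smul fun i =>
      Units.mk0 ((m (χ i) : (Cfsg.AlgInt ⧸ M)) / (m (χ₀ i).1 : (Cfsg.AlgInt ⧸ M))) (div_ne_zero (hmk _) (hmk _))
    convert h using 1
    funext i
    rw [hsame _ _ (χ₀ i).2 (hvχ i) (hχ i).1]
    rfl
  let Am : Matrix (Fin r) (Fin r) (localRing M) := Matrix.of fun i j => aR (χ i) j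
  have hunit : IsUnit (Am.map (residue M)).det := by
    rw [← Matrix.isUnit_iff_isUnit_det, ← Matrix.linearIndependent_rows_iff_isUnit]
    exact hli'
  refine hunit.ne_zero ?_
  rw [← RingHom.mapMatrix_apply, ← RingHom.map_det, residue_eq_zero_iff]
  have hc := RingHom.map_det (localRing M).subtype Am
  change ((Am.det : localRing M) : ℂ) = _ at hc
  rw [hc]
  exact hdet

end Cfsg.Agent.S4741
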