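import Cfsg.Statements.S4742
import Cfsg.Agent.Lib.H80.ClassMult


set_option autoImplicit false
open Cfsg

namespace Cfsg.Agent.S4742

/-- Let p ≠ q be primes dividing the order of the finite group G, and suppose the centralizer of every non-identity p-element of G has order prime to q. Then either G has an irreducible character of p-defect zero, or for every non-identity q-element z of G there are conjugates g, h of z such that g h⁻¹ is a non-identity p-element. -/
theorem result {G : Type*} [Group G] [Finite G] (p q : ℕ) [Fact p.Prime] [Fact q.Prime] (hppq : p ≠ q) (hpG : p ∣ Nat.card G) (hqG : q ∣ Nat.card G) (hC : ∀ g : G, g ≠ 1 → (∃ k : ℕ, orderOf g = p ^ k) → ¬ q ∣ Nat.card ↥(Subgroup.centralizer ({g} : Set G))) : (∃ χ : Cfsg.IrrCharacter G, (Cfsg.charDegree (χ : G → ℂ)).factorization p = (Nat.card G).factorization p) ∨ ∀ z : G, z ≠ 1 → (∃ k : ℕ, orderOf z = q ^ k) → ∃ g h : G, IsConj z g ∧ IsConj z h ∧ g * h⁻¹ ≠ 1 ∧ ∃ k : ℕ, orderOf (g * h⁻¹) = p ^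 k := by
  classical
  letI := Fintype.ofFinite G
  have hp : p.Prime := Fact.out
  refine or_iff_not_imp_left.mpr fun hno z hz hzq => ?_
  by_contra hall
  push Not at hall
  obtain ⟨P⟩ : Nonempty (Sylow p G) := inferInstance
  have hCp : ¬ p ∣ Nat.card (Subgroup.centralizer ({z} : Set G)) := by
    intro hd
    obtain ⟨g, hg⟩ := exists_prime_orderOf_dvd_card' p hd
    have hgo : orderOf (g : G) = p := by rw [Subgroup.orderOf_coe, hg]
    have hg1 : (g : G) ≠ 1 := fun e => hp.ne_one (by rw [← hgo, e, orderOf_one])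
    apply hC (g : G) hg1 ⟨1, by rw [hgo, pow_one]⟩
    obtain ⟨k, hk⟩ := hzq
    have hk0 : k ≠ 0 := fun e => hz (by rwa [e, pow_zero, orderOf_eq_one_iff] at hk)
    exact ((dvd_pow_self q hk0).trans (dvd_of_eq hk.symm)).trans (Subgroup.orderOf_dvd_natCard _
      (Subgroup.mem_centralizer_singleton_iff.mpr
        (Subgroup.mem_centralizer_singleton_iff.mp g.2).symm))
  obtain ⟨χ, hχ⟩ := Cfsg.Agent.Lib.H80.ClassMult.exists_degree_dvd hp z (P : Subgroup G) (by
    intro a b hmem
    by_contra hne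
    have hinv : (b * z⁻¹ * b⁻¹ : G) = (b * z * b⁻¹)⁻¹ := by group
    rw [hinv] at hmem hne
    obtain ⟨k, hk⟩ := (IsPGroup.iff_orderOf.mp P.2) ⟨_, hmem⟩
    exact hall (a * z * a⁻¹) (b * z * b⁻¹) (isConj_iff.mpr ⟨a, rfl⟩) (isConj_iff.mpr ⟨b, rfl⟩)
      hne k (by rw [← Subgroup.orderOf_coe] at hk; exact hk))
  rw [P.card_eq_multiplicity, hp.factorization_pow, Finsupp.single_eq_same,
    Nat.factorization_eq_zero_of_not_dvd hCp, zero_add] at hχ
  refine hno ⟨χ, le_antisymm ?_ hχ⟩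
  obtain ⟨n, hn⟩ : Cfsg.charDegree (χ : G → ℂ) ∣ Nat.card G :=
    Cfsg.Agent.Lib.H80.ClassMult.charDegree_dvd_card χ
  have hn0 : n ≠ 0 := fun e => (Nat.card_pos (α := G)).ne' (by rw [hn, e, mul_zero])
  rw [hn, Nat.factorization_mul (Cfsg.Agent.Lib.H80.ClassMult.deg_spec χ).1.ne' hn0,
    Finsupp.add_apply]
  exact Nat.le_add_right _ _

end Cfsg.Agent.S4742
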