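import Cfsg.Statements.S4743
import Cfsg.Agent.S4742
import Cfsg.Agent.Lib.PSolvable.Basic


set_option autoImplicit false
open Cfsg

namespace Cfsg.Agent.S4743

universe u

/-- The case of a `p`-solvable group. -/
theorem key {G : Type u} [Group G] [Finite G] (p q : ℕ) [Fact p.Prime] [Fact q.Prime]
    (hsolv : Cfsg.IsPSolvable p G) (hppq : p ≠ q) (hpG : p ∣ Nat.card G)
    (hC : ∀ g : G, g ≠ 1 → (∃ k : ℕ, orderOf g = p ^ k) →
      ¬ q ∣ Nat.card ↥(Subgroup.centralizer ({g} : Set G)))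
    (hC' : ∀ g : G, g ≠ 1 → (∃ k : ℕ, orderOf g = q ^ k) →
      ¬ p ∣ Nat.card ↥(Subgroup.centralizer ({g} : Set G)))
    (hp0 : ¬ ∃ χ : Cfsg.IrrCharacter G, (Cfsg.charDegree (χ : G → ℂ)).factorization p =
      (Nat.card G).factorization p)
    (hq0 : ¬ ∃ χ : Cfsg.IrrCharacter G, (Cfsg.charDegree (χ : G → ℂ)).factorization q =
      (Nat.card G).factorization q) : False := by
  have hp : p.Prime := Fact.out
  have hq : q.Prime := Fact.out
  -- products of two conjugates stay inside a normal subgroup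
  have hmem : ∀ (N : Subgroup G), N.Normal → ∀ z ∈ N, ∀ g h : G, IsConj z g → IsConj z h →
      g * h⁻¹ ∈ N := by
    intro N hN z hz g h hg hh
    obtain ⟨a, rfl⟩ := isConj_iff.mp hg
    obtain ⟨b, rfl⟩ := isConj_iff.mp hh
    exact mul_mem (hN.conj_mem z hz a) (inv_mem (hN.conj_mem z hz b))
  set N := Cfsg.pPrimeCore p G with hNdef
  have hNc : (Nat.card N).Coprime p := Cfsg.Agent.Lib.PSolvable.card_pPrimeCore_coprime
  haveI hNn : N.Normal := Cfsg.Agent.Lib.PSolvable.pPrimeCore_normal'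
  have hNp : ¬ p ∣ Nat.card N := (Nat.Prime.coprime_iff_not_dvd hp).mp hNc.symm
  have hNq : ¬ q ∣ Nat.card N := by
    intro hd
    obtain ⟨z, hz⟩ := exists_prime_orderOf_dvd_card' q hd
    have hzo : orderOf (z : G) = q := by rw [Subgroup.orderOf_coe, hz]
    have hz1 : (z : G) ≠ 1 := fun e => hq.ne_one (by rw [← hzo, e, orderOf_one])
    obtain ⟨g, h, hg, hh, hne, k, hk⟩ :=
      ((Cfsg.Agent.S4742.result p q hppq hpG (hd.trans N.card_subgroup_dvd_card) hC).resolve_left hp0)
        z hz1 ⟨1, by rw [hzo, pow_one]⟩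
    have hk0 : k ≠ 0 := fun e => hne (by rwa [e, pow_zero, orderOf_eq_one_iff] at hk)
    exact hNp (((dvd_pow_self p hk0).trans (dvd_of_eq hk.symm)).trans
      (N.orderOf_dvd_natCard (hmem N hNn z z.2 g h hg hh)))
  have hNtop : N ≠ ⊤ := fun e => hNp (by rw [e, Subgroup.card_top]; exact hpG)
  obtain ⟨M, hMn, hlt, hnum⟩ := Cfsg.Agent.Lib.PSolvable.exists_step hsolv N hNtop
  have hcard : N.relIndex M * Nat.card N = Nat.card M := by
    rw [← Subgroup.relIndex_bot_left, mul_comm, Subgroup.relIndex_mul_relIndex _ _ _ bot_le hlt.le,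
      Subgroup.relIndex_bot_left]
  rcases hnum with ⟨m, hm⟩ | hco
  · have hm0 : m ≠ 0 := fun e => by
      rw [e, pow_zero, Subgroup.relIndex_eq_one] at hm
      exact not_le_of_gt hlt hm
    have hMp : p ∣ Nat.card M := by
      rw [← hcard, hm]; exact Dvd.dvd.mul_right (dvd_pow_self p hm0) _
    have hMq : ¬ q ∣ Nat.card M := by
      rw [← hcard, hm]
      intro hd
      rcases (Nat.Prime.dvd_mul hq).mp hd with hd | hd
      · exact hppq.symm ((Nat.prime_dvd_prime_iff_eq hq hp).mp (hq.dvd_of_dvd_pow hd))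
      · exact hNq hd
    obtain ⟨z, hz⟩ := exists_prime_orderOf_dvd_card' p hMp
    have hzo : orderOf (z : G) = p := by rw [Subgroup.orderOf_coe, hz]
    have hz1 : (z : G) ≠ 1 := fun e => hp.ne_one (by rw [← hzo, e, orderOf_one])
    by_cases hqG : q ∣ Nat.card G
    · obtain ⟨g, h, hg, hh, hne, k, hk⟩ :=
        ((Cfsg.Agent.S4742.result q p hppq.symm hqG hpG hC').resolve_left hq0)
          z hz1 ⟨1, by rw [hzo, pow_one]⟩
      have hk0 : k ≠ 0 := fun e => hne (by rwa [e, pow_zero, orderOf_eq_one_iff] at hk)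
      exact hMq (((dvd_pow_self q hk0).trans (dvd_of_eq hk.symm)).trans
        (M.orderOf_dvd_natCard (hmem M hMn z z.2 g h hg hh)))
    · exact hq0 ⟨⟨fun _ => 1, Cfsg.Agent.Lib.Characters.Basic.oneChar G |>.2⟩, by
        simp [Cfsg.charDegree, Nat.factorization_eq_zero_of_not_dvd hqG]⟩
  · exact not_le_of_gt hlt (Cfsg.Agent.Lib.PSolvable.le_pPrimeCore hMn
      (by rw [← hcard]; exact Nat.Coprime.mul_left hco hNc))


/-- Let p ≠ q be primes dividing the order of the finite group G, suppose the centralizer of every non-identity p-element has order prime to q, and suppose G is p-solvable or q-solvable. Then G has an irreducible character of p-defect zero or an irreducible character of q-defect zero. -/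
theorem result {G : Type*} [Group G] [Finite G] (p q : ℕ) [Fact p.Prime] [Fact q.Prime] (hppq : p ≠ q) (hpG : p ∣ Nat.card G) (hqG : q ∣ Nat.card G) (hC : ∀ g : G, g ≠ 1 → (∃ k : ℕ, orderOf g = p ^ k) → ¬ q ∣ Nat.card ↥(Subgroup.centralizer ({g} : Set G))) (hsolv : Cfsg.IsPSolvable p G ∨ Cfsg.IsPSolvable q G) : (∃ χ : Cfsg.IrrCharacter G, (Cfsg.charDegree (χ : G → ℂ)).factorization p = (Nat.card G).factorization p) ∨ (∃ χ : Cfsg.IrrCharacter G, (Cfsg.charDegree (χ : G → ℂ)).factorization q = (Nat.card G).factorization q) := by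
  refine or_iff_not_imp_left.mpr fun hp0 => ?_
  by_contra hq0
  have hC' : ∀ g : G, g ≠ 1 → (∃ k : ℕ, orderOf g = q ^ k) →
      ¬ p ∣ Nat.card ↥(Subgroup.centralizer ({g} : Set G)) := by
    intro g hg hgq hd
    obtain ⟨y, hy⟩ := exists_prime_orderOf_dvd_card' p hd
    have hyo : orderOf (y : G) = p := by rw [Subgroup.orderOf_coe, hy]
    have hy1 : (y : G) ≠ 1 := fun e =>
      (Fact.out : p.Prime).ne_one (by rw [← hyo, e, orderOf_one])
    apply hC (y : G) hy1 ⟨1, by rw [hyo, pow_one]⟩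
    obtain ⟨k, hk⟩ := hgq
    have hk0 : k ≠ 0 := fun e => hg (by rwa [e, pow_zero, orderOf_eq_one_iff] at hk)
    exact ((dvd_pow_self q hk0).trans (dvd_of_eq hk.symm)).trans (Subgroup.orderOf_dvd_natCard _
      (Subgroup.mem_centralizer_singleton_iff.mpr
        (Subgroup.mem_centralizer_singleton_iff.mp y.2).symm))
  rcases hsolv with h | h
  · exact key p q h hppq hpG hC hC' hp0 hq0
  · exact key q p h hppq.symm hqG hC' hC hq0 hp0

end Cfsg.Agent.S4743
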