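import Cfsg.Statements.S4744
import Cfsg.Agent.Lib.OddCentP.Basic

set_option autoImplicit false
open Cfsg

namespace Cfsg.Agent.S4744

/-- Let p be an odd prime and G a finite group of even order divisible by p in which the centralizer of every non-identity p-element has odd order. Then either G has an irreducible character of p-defect zero, or the normalizer of every Sylow p-subgroup P of G has even order and P is abelian. -/
theorem result {G : Type*} [Group G] [Finite G] (p : ℕ) [Fact p.Prime] (hp2 : p ≠ 2) (hpG : p ∣ Nat.card G) (h2G : 2 ∣ Nat.card G) (hC : ∀ g : G, g ≠ 1 → (∃ k : ℕ, orderOf g = p ^ k) → Odd (Nat.card ↥(Subgroup.centralizer ({g} : Set G)))) : (∃ χ : Cfsg.IrrCharacter G, (Cfsg.charDegree (χ : G → ℂ)).factorization p = (Nat.card G).factorization p) ∨ ∀ P : Sylow p G, Even (Nat.card ↥(Subgroup.normalizer ((P : Subgroup G) : Set G))) ∧ IsMulCommutative ↥(P : Subgroup G) := by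
  by_cases h : Cfsg.Agent.Lib.OddCentP.Basic.Inverted p G
  · refine Or.inr fun P' => ?_
    obtain ⟨P, s, hs, hinv⟩ := Cfsg.Agent.Lib.OddCentP.Basic.exists_sylow_inverted hp2 hC h
    obtain ⟨g, rfl⟩ := MulAction.exists_smul_eq G P P'
    have hs' : orderOf (g * s * g⁻¹) = 2 := by
      rw [Cfsg.Agent.Lib.OddCentP.Basic.orderOf_conj', hs]
    have hinv' : ∀ q ∈ ((g • P : Sylow p G) : Subgroup G),
        g * s * g⁻¹ * q * (g * s * g⁻¹)⁻¹ = q⁻¹ := by
      intro q hq
      obtain ⟨q₀, hq₀, rfl⟩ := hq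
      show g * s * g⁻¹ * (g * q₀ * g⁻¹) * (g * s * g⁻¹)⁻¹ = (g * q₀ * g⁻¹)⁻¹
      calc _ = g * (s * q₀ * s⁻¹) * g⁻¹ := by group
        _ = _ := by rw [hinv q₀ hq₀]; group
    refine ⟨?_, ⟨⟨fun a b => Subtype.ext
      (Cfsg.Agent.Lib.OddCentP.Basic.commute_of_inverted hinv' a.2 b.2)⟩⟩⟩
    rw [even_iff_two_dvd, ← hs']
    have hmem : g * s * g⁻¹ ∈ Subgroup.normalizer
        (((g • P : Sylow p G) : Subgroup G) : Set G) := by
      refine Subgroup.mem_normalizer_iff.mpr fun q => ⟨fun hq => ?_, fun hq => ?_⟩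
      · rw [hinv' q hq]
        exact Subgroup.inv_mem _ hq
      · have h3 := hinv' _ hq
        have e : g * s * g⁻¹ * (g * s * g⁻¹) = 1 := by
          rw [← pow_two, ← hs', pow_orderOf_eq_one]
        have h2 : g * s * g⁻¹ * (g * s * g⁻¹ * q * (g * s * g⁻¹)⁻¹) * (g * s * g⁻¹)⁻¹ = q := by
          calc _ = g * s * g⁻¹ * (g * s * g⁻¹) * q * (g * s * g⁻¹ * (g * s * g⁻¹))⁻¹ := by group
            _ = q := by rw [e, one_mul, inv_one, mul_one]
        rw [← h2, h3]
        exact Subgroup.inv_mem _ hq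
    rw [← Subgroup.orderOf_mk _ hmem]
    exact orderOf_dvd_natCard _
  · exact Or.inl (Cfsg.Agent.Lib.OddCentP.Basic.exists_defect_zero h2G hC h)

end Cfsg.Agent.S4744
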