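-- statement Cfsg.CfsgFrozen.S4745 (Cfsg/Statements/S4745.lean)
import Cfsg.Statements.S4745
import Cfsg.Agent.Lib.OddCentTrans.Contradiction
import Cfsg.Agent.Lib.OddCentTrans.Normal

set_option autoImplicit false
open Cfsg

namespace Cfsg.Agent.S4745

open Cfsg.Agent.Lib.OddCentTrans

/-- Let p be an odd prime and G a finite group of even order divisible by p in which the centralizer of every non-identity p-element has odd order, and suppose G acts faithfully and transitively on a set with p ^ r elements, r ≥ 1. Then either G has an irreducible character of p-defect zero, or G is p-solvable and has an irreducible character of 2-defect zero. -/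
theorem result {G Ω : Type*} [Group G] [Finite G] [MulAction G Ω] [FaithfulSMul G Ω] [Fintype Ω] (htr : MulAction.IsPretransitive G Ω) (p : ℕ) [Fact p.Prime] (hp2 : p ≠ 2) (hpG : p ∣ Nat.card G) (h2G : 2 ∣ Nat.card G) (hC : ∀ g : G, g ≠ 1 → (∃ k : ℕ, orderOf g = p ^ k) → Odd (Nat.card ↥(Subgroup.centralizer ({g} : Set G)))) (r : ℕ) (hr : 1 ≤ r) (hΩ : Fintype.card Ω = p ^ r) : (∃ χ : Cfsg.IrrCharacter G, (Cfsg.charDegree (χ : G → ℂ)).factorization p = (Nat.card G).factorization p) ∨ (Cfsg.IsPSolvable p G ∧ ∃ χ : Cfsg.IrrCharacter G, (Cfsg.charDegree (χ : G → ℂ)).factorization 2 = (Nat.card G).factorization 2) := by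
  by_cases hV : Cfsg.pCore p G = ⊥
  · left
    by_contra hne
    push Not at hne
    have hnd : Setting.NoDefectZero p G := fun χ d hd hdvd => by
      obtain ⟨d', hd0, hd1, hd2⟩ := Cfsg.Agent.Lib.Characters.Degree.exists_degree_dvd χ
      have hdd : d' = d := by exact_mod_cast hd2.symm.trans hd
      subst hdd
      refine hne χ ?_
      rw [Cfsg.charDegree, hd, Complex.natCast_re, Nat.floor_natCast]
      exact le_antisymm ((Nat.factorization_le_iff_dvd hd0.ne' Nat.card_pos.ne').mpr hd1 p)
        ((Nat.Prime.pow_dvd_iff_le_factorization Fact.out hd0.ne').mp hdvd)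
    exact Contradiction.pCore_ne_bot (Ω := Ω)
      ⟨htr, hp2, ⟨r, hr, by rw [Nat.card_eq_fintype_card, hΩ]⟩, hC, hnd, h2G⟩ hV
  · right
    exact ⟨Normal.isPSolvable hC hp2 _ Cfsg.Agent.Lib.PSolvable.isPGroup_pCore hV h2G,
      Normal.exists_defectZero_two hC hp2 _ Cfsg.Agent.Lib.PSolvable.isPGroup_pCore hV h2G⟩

end Cfsg.Agent.S4745
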