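import Cfsg.Statements.S4748
import Cfsg.Agent.Lib.PSolvable.Basic
import Cfsg.Agent.Lib.Cores.Basic
import Cfsg.Agent.Lib.OddLocal.CoprimeFix


set_option autoImplicit false
open scoped Pointwise commutatorElement
open Cfsg

namespace Cfsg.Agent.S4748

universe u

variable {G : Type u} [Group G]

/-- A common eigenvector for a commutative set of endomorphisms, inside an invariant subspace. -/
theorem exists_common_eigenvector {V : Type*} [AddCommGroup V] [Module ℂ V]
    [FiniteDimensional ℂ V] (S : Set (Module.End ℂ V))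
    (hcomm : ∀ a ∈ S, ∀ b ∈ S, a * b = b * a) (W : Submodule ℂ V) (hW : W ≠ ⊥)
    (hinv : ∀ a ∈ S, ∀ v ∈ W, a v ∈ W) :
    ∃ w ∈ W, w ≠ 0 ∧ ∀ a ∈ S, ∃ μ : ℂ, a w = μ • w := by
  induction hd : Module.finrank ℂ W using Nat.strong_induction_on generalizing W with
  | _ d ih =>
  obtain ⟨v, hv, hv0⟩ := W.exists_mem_ne_zero_of_ne_bot hW
  by_cases hall : ∀ a ∈ S, ∃ μ : ℂ, a v = μ • v
  · exact ⟨v, hv, hv0, hall⟩
  push Not at hall
  obtain ⟨a, ha, hav⟩ := hall
  haveI : Nontrivial W := Submodule.nontrivial_iff_ne_bot.mpr hW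
  obtain ⟨μ, hμ⟩ := Module.End.exists_eigenvalue (a.restrict (hinv a ha))
  obtain ⟨x, hx⟩ := hμ.exists_hasEigenvector
  set W' : Submodule ℂ V := W ⊓ a.eigenspace μ with hW'
  have hxmem : (x : V) ∈ W' :=
    ⟨x.2, Module.End.mem_eigenspace_iff.mpr (congrArg Subtype.val hx.apply_eq_smul)⟩
  have hW'0 : W' ≠ ⊥ := fun h => hx.2 (Subtype.ext ((Submodule.eq_bot_iff W').mp h _ hxmem))
  have hlt : W' < W := lt_of_le_of_ne inf_le_left
    fun h => hav μ (Module.End.mem_eigenspace_iff.mp (h ▸ hv : v ∈ W').2)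
  obtain ⟨w, hw, hw0, hwS⟩ := ih _ (hd ▸ Submodule.finrank_lt_finrank_of_lt hlt) W' hW'0
    (fun b hb y hy => ⟨hinv b hb y hy.1, Module.End.mem_eigenspace_iff.mpr (by
      rw [← Module.End.mul_apply, hcomm a ha b hb, Module.End.mul_apply,
        Module.End.mem_eigenspace_iff.mp hy.2, map_smul])⟩) rfl
  exact ⟨w, hw.1, hw0, hwS⟩

/-- If a `p`-element `y` normalizes the `p'`-group `R` and fixes `f`, every fibre of the
homomorphism `f` contains an element commuting with `y`. -/
theorem exists_fixed_in_fibre [Finite G] {p : ℕ} [Fact p.Prime] {X : Type*} [Monoid X]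
    (R : Subgroup G) (hR : ¬ p ∣ Nat.card R) (y : G) (hy : ∃ k : ℕ, orderOf y = p ^ k)
    (hyR : y ∈ Subgroup.normalizer (R : Set G)) (f : R →* X)
    (hf : ∀ r : R, f ⟨y * (r : G) * y⁻¹, (Subgroup.mem_normalizer_iff.mp hyR r).mp r.2⟩ = f r)
    (r : R) : ∃ c : R, f c = f r ∧ y * (c : G) = c * y := by
  classical
  letI act : MulAction (Subgroup.zpowers y) R :=
    MulAction.compHom R ((Subgroup.normalizerMonoidHom R).comp
      (Subgroup.inclusion (Subgroup.zpowers_le.mpr hyR)))
  have hcoe : ∀ (g : Subgroup.zpowers y) (x : R),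
      ((g • x : R) : G) = (g : G) * (x : G) * (g : G)⁻¹ := fun g x => rfl
  have hgen : ∀ g : Subgroup.zpowers y, ∀ x : R, f (g • x) = f x := by
    rintro ⟨g, hg⟩ x
    obtain ⟨n, rfl⟩ := (mem_powers_iff_mem_zpowers).mpr hg
    induction n generalizing x with
    | zero => exact congrArg f (Subtype.ext (by rw [hcoe]; simp))
    | succ n ih =>
      have hn : y ^ n ∈ Subgroup.zpowers y := pow_mem (Subgroup.mem_zpowers y) n
      rw [← ih x hn, ← hf ((⟨y ^ n, hn⟩ : Subgroup.zpowers y) • x)]
      refine congrArg f (Subtype.ext ?_)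
      simp only [hcoe]
      rw [pow_succ', mul_inv_rev]
      simp only [mul_assoc]
  let Z : SubMulAction (Subgroup.zpowers y) R :=
    { carrier := {x | f x = f r}
      smul_mem' := fun g x hx => (hgen g x).trans hx }
  have hcard : ¬ p ∣ Nat.card Z := by
    intro hd
    apply hR
    have e : Nat.card Z = Nat.card f.ker := by
      refine Nat.card_congr
        { toFun := fun x => ⟨r⁻¹ * x.1, ?_⟩
          invFun := fun x => ⟨r * x.1, ?_⟩
          left_inv := fun x => Subtype.ext (by simp)
          right_inv := fun x => Subtype.ext (by simp) }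
      · rw [MonoidHom.mem_ker, map_mul, show f x.1 = f r from x.2, ← map_mul, inv_mul_cancel,
          map_one]
      · show f (r * x.1) = f r
        rw [map_mul, MonoidHom.mem_ker.mp x.2, mul_one]
    exact (e ▸ hd).trans (Subgroup.card_subgroup_dvd_card _)
  have hP : IsPGroup p (Subgroup.zpowers y) := by
    obtain ⟨k, hk⟩ := hy
    exact IsPGroup.of_card (n := k) (by rw [Nat.card_zpowers, hk])
  obtain ⟨c, hc⟩ := hP.nonempty_fixed_point_of_prime_not_dvd_card (α := Z) hcard
  refine ⟨c.1, c.2, ?_⟩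
  have h := congrArg (fun z : Z => ((z : R) : G))
    (hc ⟨y, Subgroup.mem_zpowers y⟩)
  simp only [SetLike.val_smul, hcoe] at h
  exact mul_inv_eq_iff_eq_mul.mp h

variable [Finite G] {V : Type*} [AddCommGroup V] [Module ℂ V] [FiniteDimensional ℂ V]

/-- The bound on the dimension of a faithful representation. -/
theorem card_lt_sq_finrank {p : ℕ} [Fact p.Prime] (P R : Subgroup G) (hPp : IsPGroup p P)
    (hP : P ≠ ⊥) (hR : ¬ p ∣ Nat.card R) (hRne : R ≠ ⊥)
    (hinv : ∀ u ∈ P, ∀ r ∈ R, u * r * u⁻¹ ∈ R)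
    (hgen : ∀ T : Subgroup G, (∀ u ∈ P, ∀ r ∈ R, u * r * u⁻¹ * r⁻¹ ∈ T) → R ≤ T)
    (hfix : ∀ y ∈ P, y ≠ 1 → ∀ c ∈ R, y * c = c * y → ∀ u ∈ P, u * c = c * u)
    (hder : ∀ d ∈ ⁅R, R⁆, ∀ u ∈ P, u * d = d * u)
    (ρ : Representation ℂ G V) (hρ : Function.Injective ρ) :
    Nat.card P < Module.finrank ℂ V ^ 2 := by
  classical
  have hnorm : ∀ u ∈ P, u ∈ Subgroup.normalizer (R : Set G) := by
    intro u hu
    rw [Subgroup.mem_normalizer_iff]
    refine fun r => ⟨hinv u hu r, fun h => ?_⟩
    have h2 := hinv u⁻¹ (inv_mem hu) _ h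
    simpa [mul_assoc] using h2
  have hRZ : ∀ d ∈ ⁅R, R⁆, ∀ r ∈ R, r * d = d * r := by
    intro d hd
    have hle : R ≤ Subgroup.centralizer ((⁅R, R⁆ : Subgroup G) : Set G) := by
      refine hgen _ fun u hu r hr => ?_
      refine Cfsg.Agent.Lib.OddLocal.CoprimeFix.comm_mem_centralizer ?_ ?_
      · exact Subgroup.mem_centralizer_iff.mpr fun e he => (hder e he u hu).symm
      · rw [Subgroup.mem_normalizer_iff]
        intro e
        have hr' : r ∈ Subgroup.normalizer (R : Set G) := Subgroup.le_normalizer hr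
        have hmap : (⁅R, R⁆).map (MulAut.conj r).toMonoidHom = ⁅R, R⁆ := by
          have e1 : R.map (MulAut.conj r).toMonoidHom = R := by
            ext x
            simp only [Subgroup.mem_map, MulEquiv.coe_toMonoidHom, MulAut.conj_apply]
            constructor
            · rintro ⟨z, hz, rfl⟩; exact R.mul_mem (R.mul_mem hr hz) (R.inv_mem hr)
            · exact fun hx => ⟨r⁻¹ * x * r,
                R.mul_mem (R.mul_mem (R.inv_mem hr) hx) hr, by group⟩
          rw [Subgroup.map_commutator, e1]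
        constructor
        · intro he
          rw [← hmap]
          exact ⟨e, he, rfl⟩
        · intro he
          rw [← hmap] at he
          obtain ⟨z, hz, hze⟩ := he
          have : z = e := by simpa using hze
          exact this ▸ hz
    exact fun r hr => (Subgroup.mem_centralizer_iff.mp (hle hr) d hd).symm
  have hpk : ∀ y ∈ P, ∃ k, orderOf y = p ^ k := fun y hy => by
    obtain ⟨k, hk⟩ := (IsPGroup.iff_orderOf.mp hPp) ⟨y, hy⟩
    exact ⟨k, by rw [← hk, ← Subgroup.orderOf_coe]⟩
  have hPcard : 2 ≤ Nat.card P := (Subgroup.one_lt_card_iff_ne_bot P).mpr hP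
  have hρu : ∀ g v, ρ g⁻¹ (ρ g v) = v := fun g v => by
    rw [← Module.End.mul_apply, ← map_mul, inv_mul_cancel, map_one, Module.End.one_apply]
  by_cases hab : ⁅R, R⁆ = ⊥
  · -- `R` abelian
    have hc : ∀ a ∈ R, ∀ b ∈ R, a * b = b * a := fun a ha b hb => by
      have := Subgroup.commutator_mem_commutator ha hb
      rw [hab, Subgroup.mem_bot, commutatorElement_eq_one_iff_mul_comm] at this
      exact this
    obtain ⟨c, hcR, hc1⟩ := (R.ne_bot_iff_exists_ne_one).mp hRne |>.elim
      fun x hx => (⟨x, x.2, fun h => hx (Subtype.ext h)⟩ : ∃ c ∈ R, c ≠ (1 : G))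
    set W := LinearMap.range (ρ c - 1) with hWdef
    have hW : W ≠ ⊥ := fun h => hc1 (hρ (by
      rw [map_one]; exact sub_eq_zero.mp (LinearMap.range_eq_bot.mp h)))
    have hWinv : ∀ a ∈ ρ '' (R : Set G), ∀ v ∈ W, a v ∈ W := by
      rintro _ ⟨r, hr, rfl⟩ _ ⟨v, rfl⟩
      refine ⟨ρ r v, ?_⟩
      simp only [LinearMap.sub_apply, Module.End.one_apply, map_sub]
      rw [← Module.End.mul_apply, ← map_mul, hc c hcR r hr, map_mul, Module.End.mul_apply]
    obtain ⟨w, hwW, hw0, hw⟩ := exists_common_eigenvector (ρ '' (R : Set G))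
      (by rintro _ ⟨a, ha, rfl⟩ _ ⟨b, hb, rfl⟩; rw [← map_mul, ← map_mul, hc a ha b hb])
      W hW hWinv
    choose μ hμ using fun r : R => hw _ ⟨r, r.2, rfl⟩
    have hsm : ∀ {a b : ℂ}, a • w = b • w → a = b := fun h => smul_left_injective ℂ hw0 h
    let lam : R →* ℂ :=
      { toFun := μ
        map_one' := hsm (by rw [← hμ, OneMemClass.coe_one, map_one, Module.End.one_apply, one_smul])
        map_mul' := fun a b => hsm (by
          rw [← hμ, Subgroup.coe_mul, map_mul, Module.End.mul_apply, hμ, map_smul, hμ, smul_smul,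
            mul_comm]) }
    have hlam : ∃ r : R, lam r ≠ 1 := by
      by_contra hall
      push Not at hall
      obtain ⟨v, hv⟩ := hwW
      set k := orderOf c with hk
      have hfw : ρ c w = w := by
        rw [hμ ⟨c, hcR⟩, show μ ⟨c, hcR⟩ = 1 from hall _, one_smul]
      have hiter : ∀ m : ℕ, (ρ c ^ m) v = v + (m : ℂ) • w := by
        intro m
        induction m with
        | zero => simp
        | succ m ih =>
          rw [pow_succ', Module.End.mul_apply, ih, map_add, map_smul, hfw]
          have : ρ c v = v + w := by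
            simp only [LinearMap.sub_apply, Module.End.one_apply] at hv
            rw [← hv, add_sub_cancel]
          rw [this, add_assoc]
          push_cast
          rw [add_smul, one_smul, add_comm w]
      have h1 := hiter k
      rw [hk, ← map_pow, pow_orderOf_eq_one, map_one, Module.End.one_apply, left_eq_add,
        smul_eq_zero] at h1
      rcases h1 with h1 | h1
      · exact (orderOf_pos c).ne' (by exact_mod_cast h1)
      · exact hw0 h1
    let conjR : P → (R →* R) := fun u =>
      (Subgroup.normalizerMonoidHom R ⟨(u : G)⁻¹, hnorm _ (inv_mem u.2)⟩).toMonoidHom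
    have hconjR : ∀ (u : P) (r : R), ((conjR u r : R) : G) = (u : G)⁻¹ * r * (u : G) := by
      intro u r
      show (u : G)⁻¹ * (r : G) * ((u : G)⁻¹)⁻¹ = _
      rw [inv_inv]
    have hinjF : Function.Injective (fun u : P => lam.comp (conjR u)) := by
      intro u₁ u₂ h
      by_contra hne
      have hf0 : ∀ r : R, lam (conjR u₁ r) = lam (conjR u₂ r) := fun r => DFunLike.congr_fun h r
      set y : G := (u₂ : G)⁻¹ * u₁ with hy
      have hyP : y ∈ P := mul_mem (inv_mem u₂.2) u₁.2
      have hy1 : y ≠ 1 := fun h => hne (Subtype.ext (inv_mul_eq_one.mp h).symm)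
      obtain ⟨r, hr⟩ := hlam
      obtain ⟨c', hc', hcom⟩ := exists_fixed_in_fibre R hR y (hpk y hyP) (hnorm y hyP) lam
        (fun x => by
          have := hf0 ⟨(u₁ : G) * x * (u₁ : G)⁻¹, hinv _ u₁.2 _ x.2⟩
          have e1 : conjR u₁ ⟨(u₁ : G) * x * (u₁ : G)⁻¹, hinv _ u₁.2 _ x.2⟩ = x :=
            Subtype.ext (by rw [hconjR]; group)
          rw [e1] at this
          rw [this]
          refine congrArg lam (Subtype.ext ?_)
          show y * (x : G) * y⁻¹ = _
          rw [hconjR]
          simp only [hy]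
          group) r
      apply hr
      rw [← hc']
      -- averaging over `P` kills all of `R`
      letI := Fintype.ofFinite P
      letI : CommGroup R := { (inferInstance : Group R) with
        mul_comm := fun a b => Subtype.ext (hc _ a.2 _ b.2) }
      let A : R →* R :=
        { toFun := fun x => ∏ v : P, conjR v x
          map_one' := by simp
          map_mul' := fun a b => by simp [Finset.prod_mul_distrib] }
      have hA : ∀ x : R, A x = 1 := by
        intro x
        have hle : R ≤ (A.ker).map R.subtype := by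
          refine hgen _ fun v hv z hz => ?_
          refine ⟨⟨v * z * v⁻¹, hinv v hv z hz⟩ * ⟨z, hz⟩⁻¹, ?_, rfl⟩
          rw [SetLike.mem_coe, MonoidHom.mem_ker, map_mul, map_inv, mul_inv_eq_one]
          refine Fintype.prod_equiv (Equiv.mulLeft (⟨v, hv⟩⁻¹ : P)) _ _ fun w' => ?_
          exact Subtype.ext (by
            simp only [hconjR, Equiv.coe_mulLeft, Subgroup.coe_mul, Subgroup.coe_inv]; group)
        obtain ⟨z, hz, hzx⟩ := hle x.2
        rw [← Subtype.ext (a1 := z) (a2 := x) hzx]
        exact hz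
      have hc1' : c' = 1 := by
        have h1 := hA c'
        have h2 : A c' = c' ^ Nat.card P := by
          show ∏ v : P, conjR v c' = _
          rw [Nat.card_eq_fintype_card, ← Finset.card_univ, ← Finset.prod_const]
          refine Finset.prod_congr rfl fun v _ => Subtype.ext ?_
          rw [hconjR, mul_assoc, ← hfix y hyP hy1 c' c'.2 hcom v v.2, inv_mul_cancel_left]
        rw [h2] at h1
        have hd := orderOf_dvd_of_pow_eq_one h1
        obtain ⟨m, hm⟩ := IsPGroup.iff_card.mp hPp
        rw [hm] at hd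
        have hco : (orderOf c').Coprime (p ^ m) := Nat.Coprime.pow_right _
          (((Fact.out : p.Prime).coprime_iff_not_dvd.mpr
            fun h => hR (h.trans (orderOf_dvd_natCard c'))).symm)
        exact orderOf_eq_one_iff.mp (Nat.Coprime.eq_one_of_dvd hco hd)
      rw [hc1', map_one]
    have hli : LinearIndependent ℂ (fun u : P => ρ (u : G) w) := by
      letI := Fintype.ofFinite P
      rw [Fintype.linearIndependent_iff]
      intro a ha i
      have hev : ∀ (u : P) (r : R), ρ (r : G) (ρ (u : G) w) = lam (conjR u r) • ρ (u : G) w := by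
        intro u r
        rw [← Module.End.mul_apply, ← map_mul,
          show (r : G) * u = u * (conjR u r : R) by rw [hconjR]; group, map_mul,
          Module.End.mul_apply, hμ, map_smul]
        rfl
      have hne : ρ (i : G) w ≠ 0 := fun h => hw0 (by rw [← hρu i w, h, map_zero])
      by_contra hai
      obtain ⟨φ, hφ⟩ : ∃ φ : V →ₗ[ℂ] ℂ, φ (ρ (i : G) w) ≠ 0 := by
        by_contra hall
        push Not at hall
        exact hne ((Module.forall_dual_apply_eq_zero_iff ℂ _).mp hall)
      have hd := (linearIndependent_monoidHom R ℂ).comp _ hinjF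
      rw [Fintype.linearIndependent_iff] at hd
      refine mul_ne_zero hai hφ (hd (fun u => a u * φ (ρ (u : G) w)) ?_ i)
      funext r
      have h1 := congrArg φ (congrArg (ρ (r : G)) ha)
      simp only [map_sum, map_smul, hev, smul_eq_mul, map_zero] at h1
      simp only [Finset.sum_apply, Pi.smul_apply, Function.comp_apply, smul_eq_mul, Pi.zero_apply,
        MonoidHom.coe_comp]
      exact Eq.trans (Finset.sum_congr rfl fun u _ => by ring) h1
    letI := Fintype.ofFinite P
    have hle := hli.fintype_card_le_finrank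
    rw [← Nat.card_eq_fintype_card] at hle
    nlinarith
  · -- `R` nonabelian
    set D := ⁅R, R⁆ with hD
    have hDR : D ≤ R := by
      rw [hD, Subgroup.commutator_le]
      exact fun a ha b hb => R.mul_mem (R.mul_mem (R.mul_mem ha hb) (R.inv_mem ha)) (R.inv_mem hb)
    have hDc : ∀ a ∈ D, ∀ b ∈ D, a * b = b * a := fun a ha b hb => hRZ b hb a (hDR ha)
    obtain ⟨a₀, ha₀, b₀, hb₀, hne₀⟩ : ∃ a ∈ R, ∃ b ∈ R, ⁅a, b⁆ ≠ (1 : G) := by
      by_contra hall
      push Not at hall
      apply hab
      rw [hD, eq_bot_iff, Subgroup.commutator_le]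
      exact fun a ha b hb => Subgroup.mem_bot.mpr (hall a ha b hb)
    set c := ⁅a₀, b₀⁆ with hcdef
    have hcD : c ∈ D := Subgroup.commutator_mem_commutator ha₀ hb₀
    set W₀ := LinearMap.range (ρ c - 1) with hW₀def
    have hW₀ : W₀ ≠ ⊥ := fun h => hne₀ (hρ (by
      rw [map_one]; exact sub_eq_zero.mp (LinearMap.range_eq_bot.mp h)))
    obtain ⟨w, hwW, hw0, hw⟩ := exists_common_eigenvector (ρ '' (D : Set G))
      (by rintro _ ⟨a, ha, rfl⟩ _ ⟨b, hb, rfl⟩; rw [← map_mul, ← map_mul, hDc a ha b hb])
      W₀ hW₀ (by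
        rintro _ ⟨r, hr, rfl⟩ _ ⟨v, rfl⟩
        refine ⟨ρ r v, ?_⟩
        simp only [LinearMap.sub_apply, Module.End.one_apply, map_sub]
        rw [← Module.End.mul_apply, ← map_mul, hDc c hcD r hr, map_mul, Module.End.mul_apply])
    choose μ hμ using fun d : D => hw _ ⟨d, d.2, rfl⟩
    have hsm : ∀ {a b : ℂ}, a • w = b • w → a = b := fun h => smul_left_injective ℂ hw0 h
    let lam : D →* ℂ :=
      { toFun := μ
        map_one' := hsm (by rw [← hμ, OneMemClass.coe_one, map_one, Module.End.one_apply, one_smul])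
        map_mul' := fun a b => hsm (by
          rw [← hμ, Subgroup.coe_mul, map_mul, Module.End.mul_apply, hμ, map_smul, hμ, smul_smul,
            mul_comm]) }
    have hlamc : lam ⟨c, hcD⟩ ≠ 1 := by
      intro hone
      obtain ⟨v, hv⟩ := hwW
      have hfw : ρ c w = w := by
        rw [hμ ⟨c, hcD⟩, show μ ⟨c, hcD⟩ = 1 from hone, one_smul]
      have hiter : ∀ m : ℕ, (ρ c ^ m) v = v + (m : ℂ) • w := by
        intro m
        induction m with
        | zero => simp
        | succ m ih =>
          rw [pow_succ', Module.End.mul_apply, ih, map_add, map_smul, hfw]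
          have : ρ c v = v + w := by
            simp only [LinearMap.sub_apply, Module.End.one_apply] at hv
            rw [← hv, add_sub_cancel]
          rw [this, add_assoc]
          push_cast
          rw [add_smul, one_smul, add_comm w]
      have h1 := hiter (orderOf c)
      rw [← map_pow, pow_orderOf_eq_one, map_one, Module.End.one_apply, left_eq_add,
        smul_eq_zero] at h1
      rcases h1 with h1 | h1
      · exact (orderOf_pos c).ne' (by exact_mod_cast h1)
      · exact hw0 h1
    let W : Submodule ℂ V := ⨅ d : D, Module.End.eigenspace (ρ (d : G)) (lam d)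
    have hmemW : ∀ v, v ∈ W ↔ ∀ d : D, ρ (d : G) v = lam d • v := fun v => by
      simp [W, Submodule.mem_iInf, Module.End.mem_eigenspace_iff]
    have hwmem : w ∈ W := (hmemW w).mpr hμ
    have hWR : ∀ r ∈ R, ∀ v ∈ W, ρ r v ∈ W := by
      intro r hr v hv
      rw [hmemW] at hv ⊢
      intro d
      rw [← Module.End.mul_apply, ← map_mul, ← hRZ d d.2 r hr, map_mul, Module.End.mul_apply, hv,
        map_smul]
    let res : R → Module.End ℂ W := fun r => (ρ (r : G)).restrict (hWR r r.2)
    -- the pairing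
    let pair : R → (R →* ℂ) := fun r =>
      { toFun := fun s => lam ⟨⁅(s : G), (r : G)⁆, Subgroup.commutator_mem_commutator s.2 r.2⟩
        map_one' := by
          rw [← map_one lam]
          exact congrArg lam (Subtype.ext (by simp))
        map_mul' := fun s t => by
          rw [← map_mul]
          refine congrArg lam (Subtype.ext ?_)
          have hz := hRZ _ (Subgroup.commutator_mem_commutator t.2 r.2) (s : G) s.2
          show ⁅(s : G) * t, (r : G)⁆ = ⁅(s : G), (r : G)⁆ * ⁅(t : G), (r : G)⁆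
          calc ⁅(s : G) * t, (r : G)⁆ = (s : G) * ⁅(t : G), (r : G)⁆ * r * (s : G)⁻¹ * (r : G)⁻¹ := by
                simp only [commutatorElement_def]; group
            _ = ⁅(t : G), (r : G)⁆ * ⁅(s : G), (r : G)⁆ := by
                rw [hz]; simp only [commutatorElement_def]; group
            _ = _ := hDc _ (Subgroup.commutator_mem_commutator t.2 r.2) _
                (Subgroup.commutator_mem_commutator s.2 r.2) }
    have hpair : ∀ r s : R, pair r s =
        lam ⟨⁅(s : G), (r : G)⁆, Subgroup.commutator_mem_commutator s.2 r.2⟩ := fun r s => rfl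
    let pairHom : R →* (R →* ℂ) :=
      { toFun := pair
        map_one' := by
          ext s
          rw [hpair, MonoidHom.one_apply, ← map_one lam]
          exact congrArg lam (Subtype.ext (by simp))
        map_mul' := fun a b => by
          ext s
          rw [MonoidHom.mul_apply, hpair, hpair, hpair, ← map_mul]
          refine congrArg lam (Subtype.ext ?_)
          have hz := hRZ _ (Subgroup.commutator_mem_commutator s.2 b.2) (a : G) a.2
          show ⁅(s : G), (a : G) * b⁆ = ⁅(s : G), (a : G)⁆ * ⁅(s : G), (b : G)⁆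
          calc ⁅(s : G), (a : G) * b⁆
              = ⁅(s : G), (a : G)⁆ * ((a : G) * ⁅(s : G), (b : G)⁆) * (a : G)⁻¹ := by
                simp only [commutatorElement_def]; group
            _ = _ := by rw [hz, mul_assoc, mul_assoc, mul_inv_cancel, mul_one] }
    have hconjpair : ∀ (r s : R) (v : W), res s (res r v) = pair r s • res r (res s v) := by
      intro r s v
      apply Subtype.ext
      show ρ (s : G) (ρ (r : G) (v : V)) = pair r s • ρ (r : G) (ρ (s : G) (v : V))
      rw [hpair, ← (hmemW _).mp (hWR _ r.2 _ (hWR _ s.2 _ v.2))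
        ⟨⁅(s : G), (r : G)⁆, Subgroup.commutator_mem_commutator s.2 r.2⟩]
      simp only [← Module.End.mul_apply, ← map_mul]
      congr 1
      rw [show ⁅(s : G), (r : G)⁆ * ((r : G) * (s : G)) = (s : G) * r by
        simp only [commutatorElement_def]; group]
    haveI : Finite (Set.range pair) := Set.finite_range pair |>.to_subtype
    letI := Fintype.ofFinite (Set.range pair)
    choose rep hrep using fun f : Set.range pair => f.2
    have hli : LinearIndependent ℂ (fun f : Set.range pair => res (rep f)) := by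
      rw [Fintype.linearIndependent_iff]
      intro a ha i
      by_contra hai
      have hne : res (rep i) ≠ 0 := by
        intro h
        have := congrArg Subtype.val (LinearMap.congr_fun h ⟨w, hwmem⟩)
        exact hw0 (by
          have h' : ρ (rep i : G) w = 0 := this
          rw [← hρu (rep i : G) w, h', map_zero])
      obtain ⟨v, hv⟩ : ∃ v, res (rep i) v ≠ 0 := by
        by_contra hall
        push Not at hall
        exact hne (LinearMap.ext hall)
      obtain ⟨φ, hφ⟩ : ∃ φ : W →ₗ[ℂ] ℂ, φ (res (rep i) v) ≠ 0 := by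
        by_contra hall
        push Not at hall
        exact hv ((Module.forall_dual_apply_eq_zero_iff ℂ _).mp hall)
      have hd := (linearIndependent_monoidHom R ℂ).comp _
        (Subtype.val_injective : Function.Injective (Subtype.val : Set.range pair → (R →* ℂ)))
      rw [Fintype.linearIndependent_iff] at hd
      refine mul_ne_zero hai hφ (hd (fun f => a f * φ (res (rep f) v)) ?_ i)
      funext s
      obtain ⟨v', hv'⟩ : ∃ v' : W, res s v' = v :=
        ⟨res (s⁻¹) v, Subtype.ext (by
          show ρ (s : G) (ρ ((s⁻¹ : R) : G) (v : V)) = v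
          rw [← Module.End.mul_apply, ← map_mul, Subgroup.coe_inv, mul_inv_cancel, map_one,
            Module.End.one_apply])⟩
      have h1 := congrArg φ (congrArg (res s) (LinearMap.congr_fun ha v'))
      simp only [LinearMap.sum_apply, LinearMap.smul_apply, map_sum, map_smul, hconjpair, hrep, hv',
        smul_eq_mul, LinearMap.zero_apply, map_zero] at h1
      simp only [Finset.sum_apply, Pi.smul_apply, Function.comp_apply, smul_eq_mul, Pi.zero_apply]
      exact Eq.trans (Finset.sum_congr rfl fun f _ => by ring) h1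
    -- the orbit
    set f₀ := pair ⟨b₀, hb₀⟩ with hf₀
    have hf₀1 : f₀ ⟨a₀, ha₀⟩ ≠ 1 := by rw [hf₀, hpair]; exact hlamc
    let orb : Option P → Set.range pair := fun o => o.elim ⟨pair 1, 1, rfl⟩
      (fun u => ⟨pair ⟨(u : G) * b₀ * (u : G)⁻¹, hinv _ u.2 _ hb₀⟩, _, rfl⟩)
    have hlamfix : ∀ (u : G), u ∈ P → ∀ (x z : G) (h1 : x ∈ D) (h2 : z ∈ D),
        z = u * x * u⁻¹ → lam ⟨x, h1⟩ = lam ⟨z, h2⟩ := by
      intro u hu x z h1 h2 hz
      refine congrArg lam (Subtype.ext ?_)
      show x = z
      rw [hz, hder x h1 u hu, mul_inv_cancel_right]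
    have hinj : Function.Injective orb := by
      have hone : ∀ u : P, pair ⟨(u : G) * b₀ * (u : G)⁻¹, hinv _ u.2 _ hb₀⟩ ≠ pair 1 := by
        intro u h
        apply hf₀1
        have h' := DFunLike.congr_fun h ⟨(u : G) * a₀ * (u : G)⁻¹, hinv _ u.2 _ ha₀⟩
        rw [show pair 1 = 1 from pairHom.map_one, MonoidHom.one_apply, hpair] at h'
        rw [hf₀, hpair, ← h']
        exact hlamfix u u.2 _ _ _ _ (by simp only [commutatorElement_def]; group)
      rintro (_ | u₁) (_ | u₂) h
      · rfl
      · exact absurd (congrArg Subtype.val h).symm (hone u₂)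
      · exact absurd (congrArg Subtype.val h) (hone u₁)
      · have h0 : pair ⟨(u₁ : G) * b₀ * (u₁ : G)⁻¹, hinv _ u₁.2 _ hb₀⟩ =
            pair ⟨(u₂ : G) * b₀ * (u₂ : G)⁻¹, hinv _ u₂.2 _ hb₀⟩ := congrArg Subtype.val h
        by_contra hne
        set y : G := (u₂ : G)⁻¹ * u₁ with hy
        have hyP : y ∈ P := mul_mem (inv_mem u₂.2) u₁.2
        have hy1 : y ≠ 1 := fun h => hne (by rw [Subtype.ext (inv_mul_eq_one.mp h).symm])
        apply hf₀1
        obtain ⟨c', hc', hcom⟩ := exists_fixed_in_fibre R hR y (hpk y hyP) (hnorm y hyP) f₀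
          (fun s => by
            have := DFunLike.congr_fun h0 ⟨(u₁ : G) * s * (u₁ : G)⁻¹, hinv _ u₁.2 _ s.2⟩
            rw [hpair, hpair] at this
            rw [hf₀, hpair, hpair]
            refine Eq.trans ?_ (Eq.trans this.symm ?_)
            · exact hlamfix u₂ u₂.2 _ _ _ _ (by
                simp only [commutatorElement_def, hy]; group)
            · exact (hlamfix u₁ u₁.2 _ _ _ _ (by simp only [commutatorElement_def]; group)).symm)
          ⟨a₀, ha₀⟩
        rw [← hc', hf₀, hpair]
        have hcen : ∀ r ∈ R, (c' : G) * r = r * c' := by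
          intro r hr
          have hle : R ≤ Subgroup.centralizer ({(c' : G)} : Set G) := by
            refine hgen _ fun u hu z hz => ?_
            rw [Subgroup.mem_centralizer_singleton_iff]
            have hcu : u * (c' : G) = c' * u := hfix y hyP hy1 _ c'.2 hcom u hu
            have hd : ⁅(c' : G), z⁆ ∈ D := Subgroup.commutator_mem_commutator c'.2 hz
            have hu' := hder _ hd u hu
            have key : ⁅(c' : G), u * z * u⁻¹⁆ = ⁅(c' : G), z⁆ := by
              calc ⁅(c' : G), u * z * u⁻¹⁆ = ⁅u * (c' : G) * u⁻¹, u * z * u⁻¹⁆ := by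
                    rw [hcu, mul_inv_cancel_right]
                _ = u * ⁅(c' : G), z⁆ * u⁻¹ := by simp only [commutatorElement_def]; group
                _ = _ := by rw [hu', mul_inv_cancel_right]
            have hA1 := hRZ _ hd (u * z * u⁻¹) (hinv u hu z hz)
            have hA2 := hRZ _ hd z⁻¹ (inv_mem hz)
            have e1 : (c' : G) * (u * z * u⁻¹ * z⁻¹) * (c' : G)⁻¹ = u * z * u⁻¹ * z⁻¹ := by
              calc (c' : G) * (u * z * u⁻¹ * z⁻¹) * (c' : G)⁻¹
                  = ⁅(c' : G), u * z * u⁻¹⁆ * ((u * z * u⁻¹) * z⁻¹) * ⁅(c' : G), z⁆⁻¹ := by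
                    simp only [commutatorElement_def]; group
                _ = ⁅(c' : G), z⁆ * ((u * z * u⁻¹) * z⁻¹) * ⁅(c' : G), z⁆⁻¹ := by rw [key]
                _ = _ := by
                    rw [mul_inv_eq_iff_eq_mul]
                    exact ((show Commute (u * z * u⁻¹) ⁅(c' : G), z⁆ from hA1).mul_left hA2).symm
            rw [mul_inv_eq_iff_eq_mul] at e1
            exact e1.symm
          exact (Subgroup.mem_centralizer_singleton_iff.mp (hle hr)).symm
        rw [← map_one lam]
        exact congrArg lam (Subtype.ext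
          (commutatorElement_eq_one_iff_mul_comm.mpr (hcen b₀ hb₀)))
    have h1 := hli.fintype_card_le_finrank
    rw [← Nat.card_eq_fintype_card, Module.finrank_linearMap] at h1
    have h2 := Nat.card_le_card_of_injective orb hinj
    rw [Finite.card_option] at h2
    have h3 : Module.finrank ℂ W ≤ Module.finrank ℂ V := Submodule.finrank_le W
    have h4 : Module.finrank ℂ W * Module.finrank ℂ W ≤ Module.finrank ℂ V ^ 2 := by
      rw [sq]; exact Nat.mul_le_mul h3 h3
    omega

/-- Let G be a finite p-solvable group whose Sylow p-subgroup P meets each conjugate g P g⁻¹ with g outside N_G(P) trivially, and let χ be a faithful character of G (χ g = χ 1 only for g = 1) whose degree d satisfies d² ≤ |P|. Then P is normal in G. -/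
theorem result {G : Type*} [Group G] [Finite G] (p : ℕ) [Fact p.Prime] (hsolv : Cfsg.IsPSolvable p G) (P : Sylow p G) (hTI : ∀ g : G, g ∉ Subgroup.normalizer ((P : Subgroup G) : Set G) → (P : Subgroup G) ⊓ (MulAut.conj g • (P : Subgroup G)) = ⊥) (χ : G → ℂ) (hχ : Cfsg.IsCharacter G χ) (hfaith : ∀ g : G, χ g = χ 1 → g = 1) (hdeg : Cfsg.charDegree χ ^ 2 ≤ Nat.card ↥(P : Subgroup G)) : (P : Subgroup G).Normal := by
  classical
  obtain ⟨n, ρ, hρ⟩ := hχ
  have hχ1 : χ 1 = (n : ℂ) := by
    rw [← hρ]; simp [Representation.char_one]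
  have hn : Cfsg.charDegree χ = n := by simp [Cfsg.charDegree, hχ1]
  have hinj : Function.Injective ρ := by
    intro a b h
    refine mul_inv_eq_one.mp (hfaith _ ?_)
    rw [← hρ]
    show LinearMap.trace ℂ _ (ρ (a * b⁻¹)) = LinearMap.trace ℂ _ (ρ 1)
    rw [map_mul, h, ← map_mul, mul_inv_cancel]
  by_contra hPn
  have hP : (P : Subgroup G) ≠ ⊥ := fun h => hPn (h.symm ▸ inferInstance)
  have hTI' : ∀ c : G, ∀ y ∈ (P : Subgroup G), y ≠ 1 → y * c = c * y →
      c ∈ Subgroup.normalizer ((P : Subgroup G) : Set G) := by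
    intro c y hy hy1 hc
    by_contra hcN
    have hmem : y ∈ (P : Subgroup G) ⊓ (MulAut.conj c • (P : Subgroup G)) :=
      ⟨hy, Subgroup.mem_pointwise_smul_iff_inv_smul_mem.mpr (by
        rw [← map_inv, MulAut.smul_def, MulAut.conj_apply, inv_inv, mul_assoc, hc,
          inv_mul_cancel_left]
        exact hy)⟩
    rw [hTI c hcN, Subgroup.mem_bot] at hmem
    exact hy1 hmem
  have hOp : Cfsg.pCore p G = ⊥ := by
    obtain ⟨g, hg⟩ : ∃ g : G, g ∉ Subgroup.normalizer ((P : Subgroup G) : Set G) := by
      by_contra hall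
      push Not at hall
      exact hPn (Subgroup.normalizer_eq_top_iff.mp (eq_top_iff.mpr fun g _ => hall g))
    have hle : Cfsg.pCore p G ≤ (P : Subgroup G) :=
      Cfsg.Agent.Lib.Cores.pCore_le_sylow P
    rw [eq_bot_iff, ← hTI g hg, le_inf_iff]
    refine ⟨hle, fun x hx => ?_⟩
    rw [Subgroup.mem_pointwise_smul_iff_inv_smul_mem, ← map_inv, MulAut.smul_def,
      MulAut.conj_apply]
    exact hle (Subgroup.Normal.conj_mem inferInstance x hx _)
  set Q := Cfsg.pPrimeCore p G with hQdef
  have hQcard : (Nat.card Q).Coprime p := Cfsg.Agent.Lib.PSolvable.card_pPrimeCore_coprime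
  haveI hQn : Q.Normal := Cfsg.Agent.Lib.PSolvable.pPrimeCore_normal'
  let Cent : Subgroup G → Prop := fun R => ∀ u ∈ (P : Subgroup G), ∀ r ∈ R, u * r = r * u
  have hQnc : ¬ Cent Q := by
    intro hcQ
    have hPC : (P : Subgroup G) ≤ Subgroup.centralizer (Q : Set G) := fun u hu =>
      Subgroup.mem_centralizer_iff.mpr fun r hr => (hcQ u hu r hr).symm
    set C := Subgroup.centralizer (Q : Set G) with hC
    haveI : C.Normal := Subgroup.normal_centralizer
    haveI : (C ⊓ Q).Normal := Subgroup.normal_inf_normal C Q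
    set Z := (C ⊓ Q).subgroupOf C with hZ
    have hZc : ∀ z : C, z ∈ Z → ∀ x : C, x * z = z * x := fun z hz x =>
      Subtype.ext (Subgroup.mem_centralizer_iff.mp x.2 (z : G)
        (Subgroup.mem_inf.mp (Subgroup.mem_subgroupOf.mp hz)).2).symm
    have hCQ : ¬ C ≤ Q := by
      intro hle
      obtain ⟨m, hm⟩ := IsPGroup.iff_card.mp P.2
      have hm0 : m ≠ 0 := fun h => hP (Subgroup.eq_bot_of_card_eq _ (by rw [hm, h, pow_zero]))
      have hd : p ∣ Nat.card Q :=
        ((dvd_pow_self p hm0).trans (dvd_of_eq hm.symm)).trans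
          (Subgroup.card_dvd_of_le (hPC.trans hle))
      exact ((Nat.Prime.coprime_iff_not_dvd Fact.out).mp hQcard.symm) hd
    obtain ⟨m, H, h0, hl, -, hn, hf⟩ := hsolv
    obtain ⟨i, hi, hmin⟩ : ∃ i : Fin (m + 1), ¬ H i ⊓ C ≤ Q ∧ ∀ j < i, H j ⊓ C ≤ Q := by
      obtain ⟨i, -, hi⟩ := Finite.exists_le_minimal (p := fun i => ¬ H i ⊓ C ≤ Q)
        (a := Fin.last m) (fun h => hCQ (by rwa [hl, top_inf_eq] at h))
      exact ⟨i, hi.1, fun j hj => not_not.mp fun h => absurd (hi.2 h hj.le) (not_le.mpr hj)⟩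
    rcases Fin.eq_zero_or_eq_succ i with rfl | ⟨j, rfl⟩
    · exact hi (by rw [h0, bot_inf_eq]; exact bot_le)
    haveI := hn j.succ
    haveI := hn j.castSucc
    haveI : (H j.succ ⊓ C).Normal := Subgroup.normal_inf_normal _ _
    haveI : (H j.castSucc ⊓ C).Normal := Subgroup.normal_inf_normal _ _
    set M := (H j.succ ⊓ C) ⊔ (C ⊓ Q) with hM
    have hMC : M ≤ C := sup_le inf_le_right inf_le_left
    have hMQ : ¬ M ≤ Q := fun h => hi (le_sup_left.trans h)
    have hstep : Cfsg.Agent.Lib.PSolvable.IsPNum p ((C ⊓ Q).relIndex M) := by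
      rw [hM, Subgroup.relIndex_sup_right]
      refine Cfsg.Agent.Lib.PSolvable.IsPNum.of_dvd (hf j) ?_
      refine (Subgroup.relIndex_dvd_of_le_left _
        (le_inf inf_le_right (hmin _ Fin.castSucc_lt_succ) : H j.castSucc ⊓ C ≤ C ⊓ Q)).trans ?_
      have e : (H j.castSucc ⊓ C).relIndex (H j.succ ⊓ C) =
          (H j.castSucc).relIndex (H j.succ ⊓ C) := by
        rw [← Subgroup.inf_relIndex_right (H j.castSucc ⊓ C),
          ← Subgroup.inf_relIndex_right (H j.castSucc)]
        congr 1
        refine le_antisymm (inf_le_inf_right _ inf_le_left) ?_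
        exact le_inf (le_inf inf_le_left (inf_le_right.trans inf_le_right)) inf_le_right
      rw [e]
      exact Cfsg.Agent.Lib.PSolvable.relIndex_dvd_relIndex_of_le_right inf_le_left
    haveI : M.Normal := inferInstanceAs ((H j.succ ⊓ C) ⊔ (C ⊓ Q)).Normal
    have hcard : (C ⊓ Q).relIndex M * Nat.card ↥(C ⊓ Q : Subgroup G) = Nat.card M := by
      rw [← Subgroup.relIndex_bot_left, mul_comm,
        Subgroup.relIndex_mul_relIndex _ _ _ bot_le le_sup_right, Subgroup.relIndex_bot_left]
    have hCQcard : (Nat.card ↥(C ⊓ Q : Subgroup G)).Coprime p :=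
      hQcard.coprime_dvd_left (Subgroup.card_dvd_of_le inf_le_right)
    rcases hstep with ⟨a, ha⟩ | hco
    · obtain ⟨R₀⟩ : Nonempty (Sylow p M) := inferInstance
      have hR₀ : (R₀ : Subgroup M) = ⊥ := by
        have hnorm : (R₀ : Subgroup M).Normal := by
          rw [← Subgroup.normalizer_eq_top_iff, eq_top_iff]
          have htop : (R₀ : Subgroup M) ⊔ (C ⊓ Q).subgroupOf M = ⊤ := by
            refine Subgroup.eq_top_of_card_eq _ (Nat.dvd_antisymm (Subgroup.card_subgroup_dvd_card _) ?_)
            have e1 : Nat.card ((C ⊓ Q).subgroupOf M) = Nat.card ↥(C ⊓ Q : Subgroup G) :=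
              Nat.card_congr (Subgroup.subgroupOfEquivOfLe le_sup_right).toEquiv
            obtain ⟨b, hb⟩ := IsPGroup.iff_card.mp R₀.2
            have hidx : ¬ p ∣ (R₀ : Subgroup M).index := R₀.not_dvd_index
            have hab : (C ⊓ Q).relIndex M ∣ Nat.card (R₀ : Subgroup M) := by
              have h1 : (C ⊓ Q).relIndex M ∣
                  Nat.card (R₀ : Subgroup M) * (R₀ : Subgroup M).index := by
                rw [Subgroup.card_mul_index, ← hcard]; exact dvd_mul_right _ _
              rw [ha] at h1 ⊢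
              exact (Nat.Coprime.pow_left a
                ((Nat.Prime.coprime_iff_not_dvd Fact.out).mpr hidx)).dvd_of_dvd_mul_right h1
            rw [← hcard, ← e1]
            refine Nat.Coprime.mul_dvd_of_dvd_of_dvd ?_
              (hab.trans (Subgroup.card_dvd_of_le le_sup_left)) (Subgroup.card_dvd_of_le le_sup_right)
            rw [ha, e1]
            exact hCQcard.symm.pow_left a
          rw [← htop]
          refine sup_le Subgroup.le_normalizer ?_
          intro z hz
          rw [Subgroup.mem_normalizer_iff]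
          intro x
          have : z * x = x * z := Subtype.ext (Subgroup.mem_centralizer_iff.mp (hMC x.2) (z : G)
            (Subgroup.mem_inf.mp (Subgroup.mem_subgroupOf.mp hz)).2)
          rw [this, mul_inv_cancel_right]
        haveI := hnorm
        rw [← le_bot_iff]
        intro x hx
        have h1 : x ∈ Cfsg.pCore p M :=
          Cfsg.Agent.Lib.PSolvable.le_pCore hnorm R₀.2 hx
        have h2 := Cfsg.Agent.Lib.PSolvable.pCore_map_le_of_normal (p := p) M
          (Subgroup.mem_map_of_mem M.subtype h1)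
        rw [hOp, Subgroup.mem_bot] at h2
        exact Subgroup.mem_bot.mpr (Subtype.ext h2)
      have hnd : ¬ p ∣ Nat.card M := by
        have := R₀.not_dvd_index
        rwa [hR₀, Subgroup.index_bot] at this
      exact hMQ (Cfsg.Agent.Lib.PSolvable.le_pPrimeCore inferInstance
        ((Nat.Prime.coprime_iff_not_dvd Fact.out).mpr hnd).symm)
    · exact hMQ (Cfsg.Agent.Lib.PSolvable.le_pPrimeCore inferInstance
        (by rw [← hcard]; exact Nat.Coprime.mul_left hco hCQcard))
  -- a minimal invariant subgroup of `Q` not centralised by `P`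
  let IsInv : Subgroup G → Prop := fun R => ∀ u ∈ (P : Subgroup G), ∀ r ∈ R, u * r * u⁻¹ ∈ R
  obtain ⟨R, -, ⟨hRQ, hRinv, hRnc⟩, hRmin⟩ :=
    Finite.exists_le_minimal (p := fun R : Subgroup G => R ≤ Q ∧ IsInv R ∧ ¬ Cent R)
      (a := Q) ⟨le_rfl, fun u _ r hr => hQn.conj_mem r hr u, hQnc⟩
  have hRlt : ∀ K : Subgroup G, K < R → IsInv K → Cent K := fun K hK hKi => by
    by_contra h
    exact absurd (hRmin ⟨hK.le.trans hRQ, hKi, h⟩ hK.le) (not_le_of_gt hK)
  have hRcard : ¬ p ∣ Nat.card R := fun h =>
    ((Nat.Prime.coprime_iff_not_dvd Fact.out).mp hQcard.symm)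
      (h.trans (Subgroup.card_dvd_of_le hRQ))
  have hRne : R ≠ ⊥ := fun h => hRnc (by
    intro u _ r hr; rw [h, Subgroup.mem_bot] at hr; simp [hr])
  have hgen : ∀ T : Subgroup G,
      (∀ u ∈ (P : Subgroup G), ∀ r ∈ R, u * r * u⁻¹ * r⁻¹ ∈ T) → R ≤ T := by
    intro T hT
    set K := Subgroup.closure
      {x : G | ∃ u ∈ (P : Subgroup G), ∃ r ∈ R, x = u * r * u⁻¹ * r⁻¹} with hK
    have hKR : K ≤ R := (Subgroup.closure_le R).mpr (by
      rintro _ ⟨u, hu, r, hr, rfl⟩; exact R.mul_mem (hRinv u hu r hr) (R.inv_mem hr))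
    have hKinv : IsInv K := by
      intro v hv x hx
      have hle : K ≤ K.comap (MulAut.conj v).toMonoidHom := (Subgroup.closure_le _).mpr (by
        rintro _ ⟨u, hu, r, hr, rfl⟩
        refine Subgroup.subset_closure ⟨v * u * v⁻¹, mul_mem (mul_mem hv hu) (inv_mem hv),
          v * r * v⁻¹, hRinv v hv r hr, ?_⟩
        simp only [MulEquiv.coe_toMonoidHom, MulAut.conj_apply]
        group)
      exact hle hx
    have hKT : K ≤ T := (Subgroup.closure_le T).mpr (by
      rintro _ ⟨u, hu, r, hr, rfl⟩; exact hT u hu r hr)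
    rcases hKR.lt_or_eq with hlt | heq
    · exfalso
      apply hRnc
      intro u hu r hr
      obtain ⟨k, hk⟩ := (IsPGroup.iff_orderOf.mp P.2) ⟨u, hu⟩
      refine Cfsg.Agent.Lib.OddLocal.CoprimeFix.comm_of_fixed
        (k := u * r * u⁻¹ * r⁻¹) (by group)
        (hRlt K hlt hKinv u hu _ (Subgroup.subset_closure ⟨u, hu, r, hr, rfl⟩)) ?_
      have hu' : orderOf u = p ^ k := by rw [← hk, ← Subgroup.orderOf_coe]
      rw [hu']
      refine Nat.Coprime.pow_left k ((Nat.Prime.coprime_iff_not_dvd Fact.out).mpr fun h => hRcard ?_)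
      exact h.trans (R.orderOf_dvd_natCard (R.mul_mem (hRinv u hu r hr) (R.inv_mem hr)))
    · exact heq ▸ hKT
  have hfix : ∀ y ∈ (P : Subgroup G), y ≠ 1 → ∀ c ∈ R, y * c = c * y →
      ∀ u ∈ (P : Subgroup G), u * c = c * u := by
    intro y hy hy1 c hc hyc u hu
    have hcN := hTI' c y hy hy1 hyc
    have h1 : c * u⁻¹ * c⁻¹ ∈ (P : Subgroup G) :=
      (Subgroup.mem_normalizer_iff.mp hcN u⁻¹).mp (inv_mem hu)
    have hA : u * c * u⁻¹ * c⁻¹ ∈ (P : Subgroup G) := by
      rw [show u * c * u⁻¹ * c⁻¹ = u * (c * u⁻¹ * c⁻¹) by group]; exact mul_mem hu h1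
    have hB : u * c * u⁻¹ * c⁻¹ ∈ Q := mul_mem (hQn.conj_mem c (hRQ hc) u) (inv_mem (hRQ hc))
    obtain ⟨a, ha⟩ := IsPGroup.iff_card.mp P.2
    have h0 : u * c * u⁻¹ * c⁻¹ = 1 := by
      rw [← orderOf_eq_one_iff]
      refine Nat.eq_one_of_dvd_coprimes ?_ ((P : Subgroup G).orderOf_dvd_natCard hA)
        (Q.orderOf_dvd_natCard hB)
      rw [ha]; exact (hQcard.symm).pow_left a
    exact mul_inv_eq_iff_eq_mul.mp (mul_inv_eq_one.mp h0)
  -- `R` is a `q`-group, so its derived subgroup is proper
  have hPnorm : (P : Subgroup G) ≤ Subgroup.normalizer (R : Set G) := by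
    intro u hu
    rw [Subgroup.mem_normalizer_iff]
    refine fun r => ⟨hRinv u hu r, fun h => ?_⟩
    have h2 := hRinv u⁻¹ (inv_mem hu) _ h
    simpa [mul_assoc] using h2
  letI : MulDistribMulAction (P : Subgroup G) R :=
    MulDistribMulAction.compHom R ((Subgroup.normalizerMonoidHom R).comp (Subgroup.inclusion hPnorm))
  obtain ⟨q, hq, S, hSnc⟩ : ∃ q : ℕ, ∃ _ : q.Prime, ∃ S : Subgroup G,
      S ≤ R ∧ IsInv S ∧ IsPGroup q S ∧ ¬ Cent S := by
    by_contra hall
    push Not at hall
    apply hRnc
    set C := R ⊓ Subgroup.centralizer ((P : Subgroup G) : Set G) with hC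
    have hCeq : C.subgroupOf R = ⊤ := by
      rw [← Subgroup.index_eq_one]
      refine Nat.eq_one_iff_not_exists_prime_dvd.mpr fun q hq hdvd => ?_
      haveI := Fact.mk hq
      have hqR : ¬ p ∣ Nat.card (Sylow q R) := fun h => hRcard
        (h.trans ((Sylow.card_dvd_index (default : Sylow q R)).trans
          (Subgroup.index_dvd_card _)))
      obtain ⟨S, hS⟩ := (P.2).nonempty_fixed_point_of_prime_not_dvd_card (α := Sylow q R) hqR
      have hSinv : IsInv ((S : Subgroup R).map R.subtype) := by
        rintro u hu _ ⟨r, hr, rfl⟩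
        refine ⟨(⟨u, hu⟩ : (P : Subgroup G)) • r, ?_, rfl⟩
        have h := hS ⟨u, hu⟩
        rw [Sylow.ext_iff, Sylow.pointwise_smul_def] at h
        rw [← h]
        exact Subgroup.smul_mem_pointwise_smul _ _ _ hr
      have hSc := hall q hq _ (Subgroup.map_subtype_le _) hSinv (S.2.map _)
      have hle : (S : Subgroup R) ≤ C.subgroupOf R := fun r hr =>
        Subgroup.mem_subgroupOf.mpr (Subgroup.mem_inf.mpr ⟨r.2,
          Subgroup.mem_centralizer_iff.mpr fun u hu => hSc u hu _ ⟨r, hr, rfl⟩⟩)
      exact S.not_dvd_index (hdvd.trans (Subgroup.index_dvd_of_le hle))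
    intro u hu r hr
    exact Subgroup.mem_centralizer_iff.mp (Subgroup.mem_inf.mp (Subgroup.mem_subgroupOf.mp
      (hCeq ▸ Subgroup.mem_top (⟨r, hr⟩ : R) : (⟨r, hr⟩ : R) ∈ C.subgroupOf R))).2 u hu
  obtain ⟨hSR, hSi, hSq, hSc⟩ := hSnc
  haveI := Fact.mk hq
  have hRq : IsPGroup q R := by
    rcases hSR.lt_or_eq with hlt | heq
    · exact absurd (hRlt S hlt hSi) hSc
    · exact heq ▸ hSq
  have hder : ∀ d ∈ ⁅R, R⁆, ∀ u ∈ (P : Subgroup G), u * d = d * u := by
    intro d hd u hu
    refine hRlt ⁅R, R⁆ ?_ ?_ u hu d hd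
    · haveI : Nontrivial R := (Subgroup.nontrivial_iff_ne_bot R).mpr hRne
      haveI : Group.IsNilpotent R := hRq.isNilpotent
      have hlt := IsSolvable.commutator_lt_top_of_nontrivial R
      have e : (commutator R).map R.subtype = ⁅R, R⁆ := Subgroup.map_subtype_commutator R
      rw [← e]
      refine lt_of_le_of_ne (Subgroup.map_subtype_le _) fun h => hlt.ne ?_
      apply Subgroup.map_injective R.subtype_injective
      rw [h, ← MonoidHom.range_eq_map, Subgroup.range_subtype]
    · intro v hv x hx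
      have e1 : R.map (MulAut.conj v).toMonoidHom ≤ R := by
        rintro _ ⟨r, hr, rfl⟩; exact hRinv v hv r hr
      have h2 : (⁅R, R⁆).map (MulAut.conj v).toMonoidHom ≤ ⁅R, R⁆ := by
        rw [Subgroup.map_commutator]; exact Subgroup.commutator_mono e1 e1
      exact h2 ⟨x, hx, rfl⟩
  have hlt := card_lt_sq_finrank (P : Subgroup G) R P.2 hP hRcard hRne hRinv hgen hfix hder ρ hinj
  rw [Module.finrank_fin_fun] at hlt
  rw [hn] at hdeg
  omega

end Cfsg.Agent.S4748
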