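import Cfsg.Statements.S4751
import Cfsg.Agent.Lib.RootOfUnity.Split

set_option autoImplicit false
open Cfsg

namespace Cfsg.Agent.S4751

/-- Let χ be a faithful, non-linear irreducible character of the finite group G (χ g = χ 1 only for g = 1, χ 1 ≠ 1) whose value at every element of order divisible by p is a root of unity, and suppose P = O_p(G) ≠ 1. Then either P is an elementary abelian Sylow p-subgroup of G, C_G(P) is the internal direct product of P and Z(G), G acts transitively by conjugation on the non-principal linear characters of P, and χ 1 = |P| − 1; or p = 2 and G is the internal direct product of a subgroup isomorphic to the symmetric group S₄ and the centre Z(G), which has odd order. -/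
theorem result {G : Type*} [Group G] [Finite G] (p : ℕ) [Fact p.Prime] (χ : Cfsg.IrrCharacter G) (hfaith : ∀ g : G, (χ : G → ℂ) g = (χ : G → ℂ) 1 → g = 1) (hnl : (χ : G → ℂ) 1 ≠ 1) (hroot : ∀ g : G, p ∣ orderOf g → ∃ n : ℕ, 0 < n ∧ ((χ : G → ℂ) g) ^ n = 1) (hP : Cfsg.pCore p G ≠ ⊥) : ((Nat.card ↥(Cfsg.pCore p G)).factorization p = (Nat.card G).factorization p ∧ Cfsg.IsElementaryAbelian p (Cfsg.pCore p G) ∧ Subgroup.centralizer ((Cfsg.pCore p G : Subgroup G) : Set G) = Cfsg.pCore p G ⊔ Subgroup.center G ∧ Cfsg.pCore p G ⊓ Subgroup.center G = ⊥ ∧ (∀ lam mu : ↥(Cfsg.pCore p G) → ℂ, Cfsg.IsCharacter ↥(Cfsg.pCore p G) lam → lam 1 = 1 → lam ≠ (fun _ => (1 : ℂ)) → Cfsg.IsCharacter ↥(Cfsg.pCore p G) mu → mu 1 = 1 → mu ≠ (fun _ => (1 : ℂ)) → ∃ g : G, ∀ (x : G) (hx : x ∈ Cfsg.pCore p G) (hgx : g * x * g⁻¹ ∈ Cfsg.pCore p G), mu ⟨x, hx⟩ = lam ⟨g * x * g⁻¹, hgx⟩) ∧ (χ : G → ℂ) 1 = (Nat.card ↥(Cfsg.pCore p G) : ℂ)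 - 1) ∨ (p = 2 ∧ Odd (Nat.card ↥(Subgroup.center G)) ∧ ∃ H : Subgroup G, Nonempty (↥H ≃* Equiv.Perm (Fin 4)) ∧ H ⊓ Subgroup.center G = ⊥ ∧ H ⊔ Subgroup.center G = ⊤) := by
  open Cfsg.Agent.Lib in
  classical
  have S : RootOfUnity.Basic.Setup p χ := ⟨hfaith, hnl, fun g hg => by
    obtain ⟨n, hn, h⟩ := hroot g hg
    rw [Complex.normSq_eq_norm_sq, Characters.Diag.norm_eq_one_of_pow hn.ne' h, one_pow], hP⟩
  haveI := Fintype.ofFinite ↥(Cfsg.pCore p G)
  by_cases hs : (Nat.card ↥(Cfsg.pCore p G)).factorization p = (Nat.card G).factorization p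
  swap
  · exact Or.inr (RootOfUnity.Split.split S rfl hs)
  obtain ⟨hcard, -, hab, -, htrans⟩ := RootOfUnity.Basic.core_spec S (P := Cfsg.pCore p G) rfl
  obtain ⟨hcen, hdisj, -⟩ := RootOfUnity.Fixed.centralizer_eq S (P := Cfsg.pCore p G) rfl
  refine Or.inl ⟨hs, ⟨⟨⟨fun a b => Subtype.ext (hab a a.2 b b.2)⟩⟩,
    RootOfUnity.Fixed.pow_eq_one S rfl⟩, hcen, hdisj, ?_, ?_⟩
  · intro lam mu hl hl1 hlne hm hm1 hmne
    have hne : ∀ (f : ↥(Cfsg.pCore p G) → ℂ) (hf : Cfsg.IsIrrCharacter ↥(Cfsg.pCore p G) f),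
        f ≠ (fun _ => (1 : ℂ)) → (⟨f, hf⟩ : Cfsg.IrrCharacter ↥(Cfsg.pCore p G)) ≠
          Characters.Basic.oneChar _ := fun f hf h e => h (congrArg Subtype.val e)
    obtain ⟨g, hg⟩ := htrans ⟨lam, Characters.Basic.isIrrCharacter_of_degree_one hl hl1⟩
      ⟨mu, Characters.Basic.isIrrCharacter_of_degree_one hm hm1⟩ (hne _ _ hlne) (hne _ _ hmne)
    exact ⟨g, fun x hx _ => (congrFun hg ⟨x, hx⟩).symm⟩
  · rw [DegreeBounds.Basic.charDegree_irr, ← hcard]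
    push_cast
    ring

end Cfsg.Agent.S4751
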