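import Cfsg.Statements.S4754
import Cfsg.Agent.Lib.H80.ClassMult


set_option autoImplicit false
open Cfsg

namespace Cfsg.Agent.S4754

/-- For elements x, y of a finite group G, the conjugacy class of x y equals the set of all products of a conjugate of x with a conjugate of y if and only if χ(1) χ(a x a⁻¹ b y b⁻¹) = χ(x) χ(y) for all a, b ∈ G and every irreducible character χ. -/
theorem result {G : Type*} [Group G] [Finite G] (x y : G) : (∀ z : G, IsConj (x * y) z ↔ ∃ a b : G, z = a * x * a⁻¹ * (b * y * b⁻¹)) ↔ ∀ (a b : G) (χ : Cfsg.IrrCharacter G), (χ : G → ℂ) 1 * (χ : G → ℂ) (a * x * a⁻¹ * (b * y * b⁻¹)) = (χ : G → ℂ) x * (χ : G → ℂ) y := by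
  classical
  letI := Fintype.ofFinite G
  have hcl : ∀ (χ : Cfsg.IrrCharacter G) {g k : G}, IsConj g k → (χ : G → ℂ) g = (χ : G → ℂ) k :=
    fun χ {g k} hgk => Cfsg.Agent.Lib.Characters.Basic.classFunction_apply_of_isConj
      (Cfsg.Agent.Lib.Characters.Basic.isClassFunction_irr χ) hgk
  constructor
  · intro h a b χ
    have hne := Cfsg.Agent.Lib.Characters.Basic.apply_one_ne_zero χ
    have hall : ∀ a b : G, (χ : G → ℂ) (a * x * a⁻¹ * (b * y * b⁻¹)) = (χ : G → ℂ) (x * y) :=
      fun a b => (hcl χ ((h _).mpr ⟨a, b, rfl⟩)).symm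
    have hs := Cfsg.Agent.Lib.H80.ClassMult.sum_apply_mul_conj χ x y
    rw [Finset.sum_congr rfl (fun a _ => show (χ : G → ℂ) (x * (a * y * a⁻¹)) =
      (χ : G → ℂ) (x * y) by
        rw [← hall 1 a]; simp), Finset.sum_const, Finset.card_univ, ← Nat.card_eq_fintype_card,
      nsmul_eq_mul, eq_div_iff hne] at hs
    rw [hall a b]
    apply mul_left_cancel₀ (show (Nat.card G : ℂ) ≠ 0 from Nat.cast_ne_zero.mpr Nat.card_pos.ne')
    linear_combination hs
  · intro h z
    constructor
    · intro hz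
      obtain ⟨c, rfl⟩ := isConj_iff.mp hz
      exact ⟨c, c, by group⟩
    · rintro ⟨a, b, rfl⟩
      rw [Cfsg.Agent.Lib.Characters.Complete.isConj_iff_forall_irr]
      intro χ
      have h1 := h a b χ
      have h2 := h 1 1 χ
      simp only [one_mul, inv_one, mul_one] at h2
      exact mul_left_cancel₀ (Cfsg.Agent.Lib.Characters.Basic.apply_one_ne_zero χ) (h2.trans h1.symm)

end Cfsg.Agent.S4754
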