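import Cfsg.Statements.S4755
import Cfsg.Agent.S4754
import Cfsg.Agent.Lib.H80.LinearChar


set_option autoImplicit false
open Cfsg

namespace Cfsg.Agent.S4755

/-- Let x, y be non-identity elements of the finite group G such that χ(x' y') = χ(x') χ(y') for all conjugates x' of x, y' of y and every irreducible character χ. Then the conjugacy class of x y is the set of all products of a conjugate of x with a conjugate of y; every irreducible character of degree greater than 1 vanishes at x y; and the conjugacy class of x y is the coset of the commutator subgroup containing x y. -/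
theorem result {G : Type*} [Group G] [Finite G] (x y : G) (hx : x ≠ 1) (hy : y ≠ 1) (h : ∀ (a b : G) (χ : Cfsg.IrrCharacter G), (χ : G → ℂ) (a * x * a⁻¹ * (b * y * b⁻¹)) = (χ : G → ℂ) (a * x * a⁻¹) * (χ : G → ℂ) (b * y * b⁻¹)) : (∀ z : G, IsConj (x * y) z ↔ ∃ a b : G, z = a * x * a⁻¹ * (b * y * b⁻¹)) ∧ (∀ χ : Cfsg.IrrCharacter G, (χ : G → ℂ) 1 ≠ 1 → (χ : G → ℂ) (x * y) = 0) ∧ (∀ z : G, IsConj (x * y) z ↔ (x * y)⁻¹ * z ∈ commutator G) := by
  classical
  letI := Fintype.ofFinite G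
  letI := Fintype.ofFinite (Cfsg.IrrCharacter G)
  have hcl : ∀ (χ : Cfsg.IrrCharacter G) {g k : G}, IsConj g k → (χ : G → ℂ) g = (χ : G → ℂ) k :=
    fun χ {g k} hgk => Cfsg.Agent.Lib.Characters.Basic.classFunction_apply_of_isConj
      (Cfsg.Agent.Lib.Characters.Basic.isClassFunction_irr χ) hgk
  have hconst : ∀ (a b : G) (χ : Cfsg.IrrCharacter G),
      (χ : G → ℂ) (a * x * a⁻¹ * (b * y * b⁻¹)) = (χ : G → ℂ) x * (χ : G → ℂ) y := by
    intro a b χ
    rw [h, ← hcl χ (isConj_iff.mpr ⟨a, rfl⟩), ← hcl χ (isConj_iff.mpr ⟨b, rfl⟩)]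
  have hxy : ∀ χ : Cfsg.IrrCharacter G, (χ : G → ℂ) (x * y) = (χ : G → ℂ) x * (χ : G → ℂ) y :=
    fun χ => by simpa using hconst 1 1 χ
  have h1 : ∀ z : G, IsConj (x * y) z ↔ ∃ a b : G, z = a * x * a⁻¹ * (b * y * b⁻¹) := by
    intro z
    constructor
    · intro hz
      obtain ⟨c, rfl⟩ := isConj_iff.mp hz
      exact ⟨c, c, by group⟩
    · rintro ⟨a, b, rfl⟩
      rw [Cfsg.Agent.Lib.Characters.Complete.isConj_iff_forall_irr]
      intro χ
      rw [hconst, hxy]
  have h2 : ∀ χ : Cfsg.IrrCharacter G, (χ : G → ℂ) 1 ≠ 1 → (χ : G → ℂ) (x * y) = 0 := by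
    intro χ hχ
    have h3 := (Cfsg.Agent.S4754.result x y).mp h1 1 1 χ
    simp only [one_mul, inv_one, mul_one] at h3
    rw [← hxy] at h3
    have h4 : ((χ : G → ℂ) 1 - 1) * (χ : G → ℂ) (x * y) = 0 := by rw [sub_mul, h3, one_mul, sub_self]
    exact (mul_eq_zero.mp h4).resolve_left (sub_ne_zero.mpr hχ)
  refine ⟨h1, h2, fun z => ⟨fun hz => ?_, fun hz => ?_⟩⟩
  · obtain ⟨c, rfl⟩ := isConj_iff.mp hz
    rw [commutator_def]
    have := Subgroup.commutator_mem_commutator
      (Subgroup.mem_top ((x * y)⁻¹)) (Subgroup.mem_top c)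
    rw [commutatorElement_def, inv_inv] at this
    simpa [mul_assoc] using this
  · by_contra hne
    have horth := Cfsg.Agent.Lib.Characters.Complete.sum_irr_mul_conj z (x * y)
    rw [if_neg fun e => hne e.symm] at horth
    set S := Finset.univ.filter fun χ : Cfsg.IrrCharacter G => (χ : G → ℂ) 1 = 1 with hS
    rw [← Finset.sum_filter_add_sum_filter_not Finset.univ
      (fun χ : Cfsg.IrrCharacter G => (χ : G → ℂ) 1 = 1), Finset.sum_eq_zero (s := Finset.filter
        (fun χ : Cfsg.IrrCharacter G => ¬ (χ : G → ℂ) 1 = 1) Finset.univ)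
        (fun χ hχ => by rw [h2 χ (Finset.mem_filter.mp hχ).2, map_zero, mul_zero]), add_zero,
      Finset.sum_congr rfl (g := fun _ => (1 : ℂ)) (fun χ hχ => ?_), Finset.sum_const,
      nsmul_eq_mul, mul_one, Nat.cast_eq_zero, Finset.card_eq_zero] at horth
    · exact Finset.notMem_empty (Cfsg.Agent.Lib.Characters.Basic.oneChar G)
        (horth ▸ Finset.mem_filter.mpr ⟨Finset.mem_univ _, rfl⟩)
    · have hχ1 := (Finset.mem_filter.mp hχ).2
      have hm := Cfsg.Agent.Lib.H80.LinearChar.map_mul_of_deg_one χ hχ1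
      have hz' : (χ : G → ℂ) z = (χ : G → ℂ) (x * y) := by
        conv_lhs => rw [← mul_inv_cancel_left (x * y) z]
        rw [hm, Cfsg.Agent.Lib.H80.LinearChar.eq_one_of_mem_commutator χ hχ1 hz, mul_one]
      rw [hz', ← Cfsg.Agent.Lib.Characters.Basic.apply_inv
        (Cfsg.Agent.Lib.Characters.Basic.isCharacter_irr χ), ← hm, mul_inv_cancel, hχ1]

end Cfsg.Agent.S4755
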