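import Cfsg.Statements.S4756
import Cfsg.Agent.Lib.BlocksChars5.Basic
import Cfsg.Agent.Lib.Induced.Burnside
import Cfsg.Agent.Lib.Characters.Linear
import Cfsg.Agent.Lib.Characters.Diag
import Cfsg.Agent.Lib.Coprime.Commutator
import Cfsg.Agent.Lib.Frobenius.FixedPointFree
-- import your own Cfsg.Agent.* helpers here

set_option autoImplicit false
open Cfsg

namespace Cfsg.Agent.S4756

open scoped ComplexConjugate commutatorElement
open Cfsg.Agent.Lib Cfsg.Agent.Lib.Characters

universe u

variable {G : Type u} [Group G] [Fintype G]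

theorem norm_linear {χ : Cfsg.IrrCharacter G} (h1 : (χ : G → ℂ) 1 = 1) (g : G) :
    (χ : G → ℂ) g * conj ((χ : G → ℂ) g) = 1 := by
  rw [← Basic.apply_inv (Basic.isCharacter_irr χ),
    ← Linear.apply_mul_of_degree_one (Basic.isCharacter_irr χ) h1, mul_inv_cancel, h1]

theorem linear_apply_commutator {χ : Cfsg.IrrCharacter G} (h1 : (χ : G → ℂ) 1 = 1) {x : G}
    (hx : x ∈ commutator G) : (χ : G → ℂ) x = 1 := by
  have := Abelianization.commutator_subset_ker
    (Linear.degOneHom (Basic.isCharacter_irr χ) h1) hx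
  rw [MonoidHom.mem_ker] at this
  rw [← Linear.degOneHom_apply (Basic.isCharacter_irr χ) h1, this, Units.val_one]

attribute [local instance] BlocksChars5.Basic.irrFintype

open scoped Classical in
theorem sum_linear :
    (∑ χ : Cfsg.IrrCharacter G, if (χ : G → ℂ) 1 = 1 then (1 : ℂ) else 0) =
      ((commutator G).index : ℂ) := by
  rw [Finset.sum_boole, ← Linear.card_linear, Nat.card_eq_fintype_card, Fintype.card_subtype]

/-- The centralizer of an element killed by all nonlinear characters. -/
theorem card_centralizer_eq {g : G}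
    (h : ∀ χ : Cfsg.IrrCharacter G, (χ : G → ℂ) 1 ≠ 1 → (χ : G → ℂ) g = 0) :
    Nat.card (Subgroup.centralizer ({g} : Set G)) = (commutator G).index := by
  classical
  have h2 := BlocksChars5.Basic.second_orthogonality g g
  rw [if_pos (IsConj.refl g), Finset.sum_congr rfl (g := fun χ : Cfsg.IrrCharacter G =>
    if (χ : G → ℂ) 1 = 1 then (1 : ℂ) else 0) (fun χ _ => by
      split_ifs with hc
      · exact norm_linear hc g
      · rw [h χ hc, zero_mul]), sum_linear] at h2
  exact_mod_cast h2.symm

/-- A small centralizer kills the nonlinear characters. -/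
theorem apply_eq_zero_of_card {g : G}
    (h : Nat.card (Subgroup.centralizer ({g} : Set G)) = (commutator G).index)
    {χ : Cfsg.IrrCharacter G} (hχ : (χ : G → ℂ) 1 ≠ 1) : (χ : G → ℂ) g = 0 := by
  classical
  have h2 := BlocksChars5.Basic.second_orthogonality g g
  rw [if_pos (IsConj.refl g), h, ← sum_linear, ← sub_eq_zero, ← Finset.sum_sub_distrib,
    Finset.sum_congr rfl (g := fun ψ : Cfsg.IrrCharacter G =>
      ((if (ψ : G → ℂ) 1 = 1 then 0 else Complex.normSq ((ψ : G → ℂ) g) : ℝ) : ℂ)) (fun ψ _ => by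
      split_ifs with hc
      · rw [norm_linear hc g, sub_self, Complex.ofReal_zero]
      · rw [sub_zero, Complex.mul_conj]), ← Complex.ofReal_sum, Complex.ofReal_eq_zero,
    Finset.sum_eq_zero_iff_of_nonneg (fun ψ _ => by
      split_ifs
      · exact le_rfl
      · exact Complex.normSq_nonneg _)] at h2
  have := h2 χ (Finset.mem_univ χ)
  rw [if_neg hχ] at this
  exact Complex.normSq_eq_zero.mp this

variable (G) in
/-- The hypothesis on products of elements of coprime prime power orders. -/
def Mult : Prop :=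
  ∀ (x y : G) (χ : Cfsg.IrrCharacter G), x ≠ 1 → y ≠ 1 →
    (∃ p q a b : ℕ, p.Prime ∧ q.Prime ∧ p ≠ q ∧ orderOf x = p ^ a ∧ orderOf y = q ^ b) →
      (χ : G → ℂ) (x * y) = (χ : G → ℂ) x * (χ : G → ℂ) y

theorem vanish (hyp : Mult G) {x y : G} {p q a b : ℕ} (hx : x ≠ 1) (hy : y ≠ 1) (hp : p.Prime)
    (hq : q.Prime) (hpq : p ≠ q) (ha : orderOf x = p ^ a) (hb : orderOf y = q ^ b)
    {χ : Cfsg.IrrCharacter G} (hχ : (χ : G → ℂ) 1 ≠ 1) : (χ : G → ℂ) (x * y) = 0 := by
  classical
  obtain ⟨k, ρ, hρ, hchar⟩ := Basic.exists_rep χ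
  haveI := hρ
  let w : G → ℂ := fun g => if IsConj x⁻¹ g then 1 else 0
  have hw : Cfsg.IsClassFunction G w := fun g h => by
    have : IsConj g (h * g * h⁻¹) := isConj_iff.mpr ⟨h, rfl⟩
    simp only [w]
    exact if_congr ⟨fun e => e.trans this.symm, fun e => e.trans this⟩ rfl rfl
  obtain ⟨c, hc, -⟩ := Complete.avg_eq_scalar hw ρ
  have hxc : ∀ g, IsConj x⁻¹ g → IsConj x g⁻¹ := fun g hg => by
    obtain ⟨t, rfl⟩ := isConj_iff.mp hg
    exact isConj_iff.mpr ⟨t, by group⟩
  have key : ∀ z : G, (∀ g, IsConj x⁻¹ g → (χ : G → ℂ) (g⁻¹ * z) = (χ : G → ℂ) (x * z)) →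
      c * (χ : G → ℂ) z =
      ((Finset.univ.filter fun g => IsConj x⁻¹ g).card : ℂ) * (χ : G → ℂ) (x * z) := by
    intro z hz
    have h := congrArg (fun T : Module.End ℂ (Fin k → ℂ) =>
      LinearMap.trace ℂ (Fin k → ℂ) (T * ρ z)) hc
    simp only [Complete.avg, Finset.sum_mul, map_sum, smul_mul_assoc, map_smul, one_mul,
      ← map_mul, smul_eq_mul] at h
    refine Eq.trans ?_ (h.symm.trans ?_)
    · rw [← hchar]; rfl
    simp only [w, ite_mul, one_mul, zero_mul, ← Finset.sum_filter]
    rw [← nsmul_eq_mul, ← Finset.sum_const]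
    refine Finset.sum_congr rfl fun g hg => ?_
    show ρ.character (g⁻¹ * z) = _
    rw [hchar]
    exact hz g (Finset.mem_filter.mp hg).2
  have h1 := key 1 (fun g hg => by
    rw [mul_one, mul_one]; exact BlocksChars5.Basic.eq_of_isConj χ (hxc g hg))
  rw [mul_one] at h1
  have hxy := hyp x y χ hx hy ⟨p, q, a, b, hp, hq, hpq, ha, hb⟩
  have h2 := key y (fun g hg => by
    obtain ⟨t, ht⟩ := isConj_iff.mp (hxc g hg)
    rw [hxy, ← BlocksChars5.Basic.eq_of_isConj χ (hxc g hg)]
    refine hyp _ y χ (fun e => hx ?_) hy ⟨p, q, a, b, hp, hq, hpq, ?_, hb⟩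
    · rw [e] at ht
      exact conj_eq_one_iff.mp ht
    · rw [← ht, ← ha]; exact (MulAut.conj t).orderOf_eq x)
  have hn : ((Finset.univ.filter fun g => IsConj x⁻¹ g).card : ℂ) ≠ 0 :=
    Nat.cast_ne_zero.mpr (Finset.card_pos.mpr
      ⟨x⁻¹, Finset.mem_filter.mpr ⟨Finset.mem_univ _, IsConj.refl _⟩⟩).ne'
  have h3 : ((χ : G → ℂ) 1 - 1) * (χ : G → ℂ) (x * y) = 0 := by
    refine mul_left_cancel₀ hn ?_
    linear_combination (-(χ : G → ℂ) 1) * h2 + (χ : G → ℂ) y * h1 -
      ((Finset.univ.filter fun g => IsConj x⁻¹ g).card : ℂ) * hxy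
  exact (mul_eq_zero.mp h3).resolve_left (sub_ne_zero.mpr hχ)

theorem not_mem_commutator (hyp : Mult G) {x y : G} {p q a b : ℕ} (hx : x ≠ 1) (hy : y ≠ 1)
    (hp : p.Prime) (hq : q.Prime) (hpq : p ≠ q) (ha : orderOf x = p ^ a) (hb : orderOf y = q ^ b)
    (hxG : x ∈ commutator G) : y ∉ commutator G := by
  classical
  intro hyG
  have hne : x * y ≠ 1 := by
    intro e
    apply hx
    rw [← orderOf_eq_one_iff]
    have hd : orderOf x ∣ q ^ b := by
      rw [← hb, eq_inv_of_mul_eq_one_left e, orderOf_inv]
    rw [ha] at hd ⊢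
    exact Nat.eq_one_of_dvd_coprimes
      (((Nat.coprime_primes hp hq).mpr hpq).pow a b) dvd_rfl hd
  have h := Induced.Burnside.sum_degree_mul_eq_zero hne
  rw [Finset.sum_congr rfl (g := fun χ : Cfsg.IrrCharacter G =>
    if (χ : G → ℂ) 1 = 1 then (1 : ℂ) else 0) (fun χ _ => by
      split_ifs with hc
      · rw [hc, one_mul, linear_apply_commutator hc (mul_mem hxG hyG)]
      · rw [vanish hyp hx hy hp hq hpq ha hb hc, mul_zero]), sum_linear, Nat.cast_eq_zero] at h
  exact Subgroup.index_ne_zero_of_finite h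

/-- The prime power components of a nontrivial element. -/
theorem exists_pow_prime {g : G} (hg : g ≠ 1) :
    ∃ (r n : ℕ), r.Prime ∧ orderOf (g ^ n) = r := by
  obtain ⟨r, hr, hdiv⟩ := Nat.exists_prime_and_dvd (fun e => hg (orderOf_eq_one_iff.mp e))
  exact ⟨r, orderOf g / r, hr, orderOf_pow_orderOf_div (orderOf_pos g).ne' hdiv⟩

/-- For a finite group G the following are equivalent. (1) χ(x y) = χ(x) χ(y) for every irreducible character χ and all non-identity elements x, y of prime power orders for two different primes. (2) G is a p-group for some prime p, or G is abelian, or for some prime p: G = A P with P a normal Sylow p-subgroup and A a nontrivial cyclic subgroup of order prime to p such that, with C = C_P(A) and D = [A, P], one has P = C D, C abelian, D normal in G, C ∩ D = 1, and A acts fixed-point-freely on D (no non-identity element of A centralizes a non-identity element of D). -/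
theorem result {G : Type*} [Group G] [Finite G] : (∀ (x y : G) (χ : Cfsg.IrrCharacter G), x ≠ 1 → y ≠ 1 → (∃ p q a b : ℕ, p.Prime ∧ q.Prime ∧ p ≠ q ∧ orderOf x = p ^ a ∧ orderOf y = q ^ b) → (χ : G → ℂ) (x * y) = (χ : G → ℂ) x * (χ : G → ℂ) y) ↔ ((∃ p : ℕ, p.Prime ∧ IsPGroup p G) ∨ IsMulCommutative G ∨ ∃ (p : ℕ) (_ : Fact p.Prime) (P : Sylow p G) (A : Subgroup G), (P : Subgroup G).Normal ∧ IsCyclic ↥A ∧ A ≠ ⊥ ∧ (Nat.card ↥A).Coprime p ∧ A ⊔ (P : Subgroup G) = ⊤ ∧ IsMulCommutative ↥((P : Subgroup G) ⊓ Subgroup.centralizer (A : Set G)) ∧ (⁅A, (P : Subgroup G)⁆).Normal ∧ ((P : Subgroup G) ⊓ Subgroup.centralizer (A : Set G)) ⊔ ⁅A, (P : Subgroup G)⁆ = (P : Subgroup G) ∧ ((P : Subgroup G) ⊓ Subgroup.centralizer (A : Set G)) ⊓ ⁅A, (P : Subgroup G)⁆ = ⊥ ∧ ∀ a ∈ A, a ≠ 1 → ∀ d ∈ ⁅A, (P : Subgroup G)⁆, a * d = d * a → d = 1) := by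
  classical
  haveI := Fintype.ofFinite G
  constructor
  · intro hyp0
    have hyp : Mult G := hyp0
    by_cases hpg : ∃ p : ℕ, p.Prime ∧ IsPGroup p G
    · exact Or.inl hpg
    by_cases hab : IsMulCommutative G
    · exact Or.inr (Or.inl hab)
    refine Or.inr (Or.inr ?_)
    push Not at hpg
    have hG' : commutator G ≠ ⊥ := by
      intro h
      refine hab ⟨⟨fun x y => ?_⟩⟩
      have hc : ⁅x, y⁆ ∈ commutator G :=
        Subgroup.commutator_mem_commutator (Subgroup.mem_top x) (Subgroup.mem_top y)
      rw [h, Subgroup.mem_bot] at hc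
      exact (commutatorElement_eq_one_iff_mul_comm.mp hc)
    obtain ⟨c, hc1⟩ := Subgroup.ne_bot_iff_exists_ne_one.mp hG'
    obtain ⟨p, n, hp, hx⟩ := exists_pow_prime (g := (c : G)) (fun e => hc1 (Subtype.ext e))
    set x := (c : G) ^ n with hxdef
    have hx1 : x ≠ 1 := fun e => hp.ne_one (by rw [← hx, e, orderOf_one])
    have hxG : x ∈ commutator G := pow_mem c.2 n
    haveI : Fact p.Prime := ⟨hp⟩
    have hG'p : IsPGroup p (commutator G) := by
      intro z
      have hz0 : 0 < orderOf z := orderOf_pos z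
      refine ⟨(orderOf z).primeFactorsList.length, ?_⟩
      rw [← orderOf_dvd_iff_pow_eq_one]
      refine dvd_of_eq (Nat.eq_prime_pow_of_unique_prime_dvd hz0.ne' ?_)
      intro r hr hdiv
      by_contra hrp
      have ho : orderOf ((z : G) ^ (orderOf z / r)) = r := by
        rw [← Subgroup.orderOf_coe]
        exact orderOf_pow_orderOf_div (orderOf_pos _).ne' (by rwa [Subgroup.orderOf_coe])
      refine not_mem_commutator hyp (b := 1) hx1 (fun e => hr.ne_one (by rw [← ho, e, orderOf_one]))
        hp hr (Ne.symm hrp) (a := 1) (by rw [hx, pow_one]) (by rw [ho, pow_one]) hxG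
        (pow_mem z.2 _)
    let P : Sylow p G := default
    have hG'P : commutator G ≤ (P : Subgroup G) := by
      obtain ⟨Q, hQ⟩ := hG'p.exists_le_sylow
      obtain ⟨g, hg⟩ := MulAction.exists_smul_eq G Q P
      intro z hz
      have h1 : g⁻¹ * z * g ∈ (Q : Subgroup G) := by
        have h0 := (inferInstance : (commutator G).Normal).conj_mem z hz g⁻¹
        rw [inv_inv] at h0
        exact hQ h0
      rw [← hg, Sylow.coe_subgroup_smul, Subgroup.mem_pointwise_smul_iff_inv_smul_mem]
      simpa [MulAut.smul_def, mul_assoc] using h1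
    haveI hPn : (P : Subgroup G).Normal := by
      refine ⟨fun z hz g => ?_⟩
      have h0 : ⁅g, z⁆ ∈ (P : Subgroup G) := hG'P
        (Subgroup.commutator_mem_commutator (Subgroup.mem_top g) (Subgroup.mem_top z))
      have := mul_mem h0 hz
      simpa [commutatorElement_def, mul_assoc] using this
    have hcopP : (Nat.card (P : Subgroup G)).Coprime (P : Subgroup G).index :=
      P.card_coprime_index
    obtain ⟨A, hA⟩ := Subgroup.exists_right_complement'_of_coprime hcopP
    have hdis : (P : Subgroup G) ⊓ A = ⊥ := hA.disjoint.eq_bot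
    have hAcard : Nat.card A = (P : Subgroup G).index := hA.symm.index_eq_card.symm
    have hcop : (Nat.card A).Coprime p := by
      rw [hAcard]; exact ((hp.coprime_iff_not_dvd).mpr P.not_dvd_index).symm
    have hcop' : (Nat.card A).Coprime (Nat.card (P : Subgroup G)) := hAcard ▸ hcopP.symm
    have hAab : ∀ u ∈ A, ∀ v ∈ A, u * v = v * u := by
      intro u hu v hv
      have h0 : ⁅u, v⁆ ∈ (P : Subgroup G) ⊓ A := Subgroup.mem_inf.mpr ⟨hG'P
        (Subgroup.commutator_mem_commutator (Subgroup.mem_top u) (Subgroup.mem_top v)), by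
          rw [commutatorElement_def]
          exact mul_mem (mul_mem (mul_mem hu hv) (inv_mem hu)) (inv_mem hv)⟩
      rw [hdis, Subgroup.mem_bot] at h0
      exact commutatorElement_eq_one_iff_mul_comm.mp h0
    have hPA : ∀ g : G, ∃ w ∈ (P : Subgroup G), ∃ u ∈ A, w * u = g := fun g => by
      have : g ∈ (P : Subgroup G) ⊔ A := hA.sup_eq_top ▸ Subgroup.mem_top g
      rwa [← SetLike.mem_coe, Subgroup.normal_mul] at this
    set C := (P : Subgroup G) ⊓ Subgroup.centralizer (A : Set G) with hCdef
    set D := ⁅A, (P : Subgroup G)⁆ with hDdef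
    have hAN : A ≤ Subgroup.normalizer ((P : Subgroup G) : Set G) := by
      rw [Subgroup.normalizer_eq_top]; exact le_top
    haveI : IsMulCommutative A := ⟨⟨fun u v => Subtype.ext (hAab u u.2 v v.2)⟩⟩
    have hsolv : Group.IsSolvable A ∨ Group.IsSolvable (P : Subgroup G) :=
      Or.inl (Group.isSolvable_of_comm fun u v => Subtype.ext (hAab u u.2 v v.2))
    have hDG : D ≤ commutator G := Subgroup.commutator_mono le_top le_top
    have hsup : D ⊔ C = (P : Subgroup G) := by
      rw [hDdef, Subgroup.commutator_comm]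
      exact Coprime.commutator_sup_centralizer hAN hcop' hsolv
    have hdecomp : ∀ w ∈ (P : Subgroup G), ∃ d ∈ D, ∃ e ∈ C, w = d * e := by
      intro w hw
      obtain ⟨d, hd, e, he, h⟩ := Coprime.exists_commutator_mul_fixed hAN hcop' hsolv hw
      exact ⟨d, by rwa [hDdef, Subgroup.commutator_comm], e, he, h⟩
    set m := (commutator G).relIndex (P : Subgroup G) with hm
    have hindex : (commutator G).index = Nat.card A * m := by
      rw [hAcard, ← Subgroup.relIndex_mul_index hG'P, mul_comm]
    -- fixed points of the prime order elements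
    have hfix : ∀ a ∈ A, a ≠ 1 →
        (P : Subgroup G) ⊓ Subgroup.centralizer ({a} : Set G) ≤ C ∧
          (((P : Subgroup G) ⊓ Subgroup.centralizer ({a} : Set G)) ≠ ⊥ → Nat.card C = m ∧
            ∀ u ∈ C, ∀ v ∈ C, u * v = v * u) := by
      intro a0 ha0 ha01
      obtain ⟨r, n, hr, ha⟩ := exists_pow_prime ha01
      set a := a0 ^ n with hadef
      have haA : a ∈ A := pow_mem ha0 n
      have ha1 : a ≠ 1 := fun e => hr.ne_one (by rw [← ha, e, orderOf_one])
      have hrp : p ≠ r := by
        intro e
        apply hp.ne_one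
        have : orderOf a ∣ Nat.card A := Subgroup.orderOf_mk a haA ▸ orderOf_dvd_natCard _
        rw [ha, ← e] at this
        exact Nat.eq_one_of_dvd_coprimes hcop this dvd_rfl
      set S := (P : Subgroup G) ⊓ Subgroup.centralizer ({a} : Set G) with hS
      have hle0 : (P : Subgroup G) ⊓ Subgroup.centralizer ({a0} : Set G) ≤ S := by
        refine inf_le_inf_left _ fun z hz => ?_
        rw [Subgroup.mem_centralizer_singleton_iff] at hz ⊢
        exact (show Commute z a0 from hz).pow_right n
      have hCS : C ≤ S := inf_le_inf_left _ fun z hz => Subgroup.mem_centralizer_singleton_iff.mpr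
        (Subgroup.mem_centralizer_iff.mp hz a haA).symm
      -- the centralizer of `s * a`
      have hcard : ∀ s ∈ S, s ≠ 1 → ∀ T : Subgroup G,
          T = S ⊓ Subgroup.centralizer ({s} : Set G) →
          Nat.card T = m ∧ A.map (QuotientGroup.mk' (P : Subgroup G)) ≤
            (Subgroup.centralizer ({a} : Set G) ⊓ Subgroup.centralizer ({s} : Set G)).map
              (QuotientGroup.mk' (P : Subgroup G)) := by
        intro s hs hs1 T hT
        have hsa : Commute s a := Subgroup.mem_centralizer_singleton_iff.mp hs.2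
        obtain ⟨i, hi⟩ := IsPGroup.iff_orderOf.mp P.2 ⟨s, hs.1⟩
        rw [Subgroup.orderOf_mk] at hi
        have hC := card_centralizer_eq (g := s * a) fun χ hχ =>
          vanish hyp hs1 ha1 hp hr hrp hi (b := 1) (by rw [pow_one, ha]) hχ
        have hcopsa : (orderOf s).Coprime (orderOf a) := by
          rw [hi, ha]; exact ((Nat.coprime_primes hp hr).mpr hrp).pow_left i
        set U := Subgroup.centralizer ({a} : Set G) ⊓ Subgroup.centralizer ({s} : Set G) with hU
        have hUeq : Subgroup.centralizer ({s * a} : Set G) = U := by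
          ext z
          simp only [hU, Subgroup.mem_inf, Subgroup.mem_centralizer_singleton_iff]
          constructor
          · intro hz
            have hz' : Commute z (s * a) := hz
            obtain ⟨j, hj⟩ := exists_pow_eq_self_of_coprime (x := a) hcopsa
            obtain ⟨l, hl⟩ := exists_pow_eq_self_of_coprime (x := s) hcopsa.symm
            have e1 : (s * a) ^ orderOf s = a ^ orderOf s := by
              rw [hsa.mul_pow, pow_orderOf_eq_one, one_mul]
            have e2 : (s * a) ^ orderOf a = s ^ orderOf a := by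
              rw [hsa.mul_pow, pow_orderOf_eq_one a, mul_one]
            refine ⟨?_, ?_⟩
            · have h3 := ((hz'.pow_right (orderOf s)).pow_right j)
              rw [e1, hj] at h3
              exact h3
            · have h3 := ((hz'.pow_right (orderOf a)).pow_right l)
              rw [e2, hl] at h3
              exact h3
          · rintro ⟨h3, h4⟩
            exact (show Commute z s from h4).mul_right h3
        have hTU : T = (P : Subgroup G) ⊓ U := by rw [hT, hS, hU, inf_assoc]
        have h5 : Nat.card U = Nat.card T * Nat.card (U.map (QuotientGroup.mk' (P : Subgroup G))) := by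
          have h6 := ((QuotientGroup.mk' (P : Subgroup G)).comp U.subtype).ker.index_mul_card
          rw [Subgroup.index_ker, MonoidHom.range_comp, Subgroup.range_subtype] at h6
          have h7 : ((QuotientGroup.mk' (P : Subgroup G)).comp U.subtype).ker = T.subgroupOf U := by
            ext z
            simp [hTU, Subgroup.mem_subgroupOf]
          rw [h7, Nat.card_congr (Subgroup.subgroupOfEquivOfLe
            (hTU ▸ inf_le_right : T ≤ U)).toEquiv] at h6
          rw [mul_comm]
          exact h6.symm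
        have hTp : IsPGroup p T := P.2.to_le (hTU ▸ inf_le_left)
        obtain ⟨t, ht⟩ := IsPGroup.iff_card.mp hTp
        have hmp : ∃ e, m = p ^ e := by
          obtain ⟨e, he⟩ := IsPGroup.iff_card.mp P.2
          obtain ⟨e', -, he'⟩ := (Nat.dvd_prime_pow hp).mp
            (he ▸ (Subgroup.relIndex_dvd_card (commutator G) (P : Subgroup G)))
          exact ⟨e', he'⟩
        obtain ⟨e, he⟩ := hmp
        set j := Nat.card (U.map (QuotientGroup.mk' (P : Subgroup G))) with hj
        have hjdvd : j ∣ Nat.card A := by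
          rw [hAcard, Subgroup.index_eq_card]; exact Subgroup.card_subgroup_dvd_card _
        have h8 : Nat.card A * p ^ e = j * p ^ t := by
          rw [← he, ← hindex, ← hC, hUeq, h5, ← ht, mul_comm]
        have hA1 : (Nat.card A).Coprime (p ^ t) := hcop.pow_right t
        have hA2 : j.Coprime (p ^ e) := (hcop.coprime_dvd_left hjdvd).pow_right e
        have h9 : Nat.card A = j := Nat.dvd_antisymm
          (hA1.dvd_of_dvd_mul_right (h8 ▸ dvd_mul_right _ _)) hjdvd
        refine ⟨?_, ?_⟩
        · rw [ht, he]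
          rw [h9] at h8
          exact (Nat.eq_of_mul_eq_mul_left (h9 ▸ Nat.card_pos) h8).symm
        · have htop : U.map (QuotientGroup.mk' (P : Subgroup G)) = ⊤ :=
            Subgroup.eq_top_of_card_eq _ (by rw [← hj, ← h9, hAcard, Subgroup.index_eq_card])
          rw [htop]; exact le_top
      by_cases hSb : S = ⊥
      · exact ⟨le_trans hle0 (hSb ▸ bot_le), fun h => absurd (bot_unique (hle0.trans hSb.le)) h⟩
      have hSp : IsPGroup p S := P.2.to_le inf_le_left
      haveI : Nontrivial S := (Subgroup.nontrivial_iff_ne_bot S).mpr hSb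
      haveI := hSp.center_nontrivial
      obtain ⟨z, hz⟩ := exists_ne (1 : Subgroup.center S)
      have hz1 : ((z : S) : G) ≠ 1 := fun e => hz (Subtype.ext (Subtype.ext e))
      obtain ⟨hScard, -⟩ := hcard _ (z : S).2 hz1 S (le_antisymm (le_inf le_rfl fun w hw =>
        Subgroup.mem_centralizer_singleton_iff.mpr
          (congrArg Subtype.val (Subgroup.mem_center_iff.mp z.2 ⟨w, hw⟩))) inf_le_left)
      have hSab : ∀ u ∈ S, ∀ v ∈ S, u * v = v * u := by
        intro u hu v hv
        by_cases hv1 : v = 1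
        · simp [hv1]
        obtain ⟨hT, -⟩ := hcard v hv hv1 _ rfl
        have := (Subgroup.eq_of_le_of_card_ge (inf_le_left (b := Subgroup.centralizer ({v} : Set G)))
          (le_of_eq (hScard.trans hT.symm))) ▸ hu
        exact Subgroup.mem_centralizer_singleton_iff.mp this.2
      have hSC : S ≤ C := by
        intro s hs
        refine ⟨hs.1, Subgroup.mem_centralizer_iff.mpr fun u hu => ?_⟩
        by_cases hs1 : s = 1
        · simp [hs1]
        obtain ⟨-, himg⟩ := hcard s hs hs1 _ rfl
        obtain ⟨g, hg, hgu⟩ := himg ⟨u, hu, rfl⟩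
        obtain ⟨w, hw, v, hv, rfl⟩ := hPA g
        have hw' : (QuotientGroup.mk' (P : Subgroup G)) w = 1 := (QuotientGroup.eq_one_iff w).mpr hw
        rw [map_mul, hw', one_mul] at hgu
        have hvu : v = u := by
          have h0 : v⁻¹ * u ∈ (P : Subgroup G) ⊓ A :=
            Subgroup.mem_inf.mpr ⟨(QuotientGroup.eq (s := (P : Subgroup G))).mp hgu, mul_mem (inv_mem hv) hu⟩
          rw [hdis, Subgroup.mem_bot] at h0
          exact inv_mul_eq_one.mp h0
        subst hvu
        have hwS : w ∈ S := by
          refine ⟨hw, Subgroup.mem_centralizer_singleton_iff.mpr ?_⟩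
          have h0 : w * v * a = a * (w * v) := Subgroup.mem_centralizer_singleton_iff.mp hg.1
          rw [mul_assoc, hAab v hv a haA, ← mul_assoc, ← mul_assoc] at h0
          exact mul_right_cancel h0
        have h1 : w * v * s = s * (w * v) := Subgroup.mem_centralizer_singleton_iff.mp hg.2
        rw [← mul_assoc, hSab s hs w hwS, mul_assoc, mul_assoc] at h1
        exact mul_left_cancel h1
      refine ⟨hle0.trans hSC, fun _ => ⟨le_antisymm hSC hCS ▸ hScard, fun u hu v hv =>
        hSab u (hCS hu) v (hCS hv)⟩⟩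
    have hAne : A ≠ ⊥ := by
      intro h
      apply hpg p hp
      rw [h, Subgroup.card_bot] at hAcard
      have := Subgroup.index_eq_one.mp hAcard.symm
      have h2 := P.2
      rw [this] at h2
      exact h2.of_equiv Subgroup.topEquiv
    have hCab : (∀ u ∈ C, ∀ v ∈ C, u * v = v * u) ∧ C ⊓ commutator G = ⊥ := by
      by_cases hC : C = ⊥
      · refine ⟨fun u hu v hv => ?_, by rw [hC, bot_inf_eq]⟩
        rw [hC, Subgroup.mem_bot] at hu hv
        rw [hu, hv]
      obtain ⟨a, ha⟩ := Subgroup.ne_bot_iff_exists_ne_one.mp hAne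
      have hne : (P : Subgroup G) ⊓ Subgroup.centralizer ({(a : G)} : Set G) ≠ ⊥ := fun h =>
        hC (eq_bot_iff.mpr (h ▸ inf_le_inf_left _ fun z hz =>
          Subgroup.mem_centralizer_singleton_iff.mpr (Subgroup.mem_centralizer_iff.mp hz a a.2).symm))
      obtain ⟨hcard, hab'⟩ := (hfix a a.2 (fun e => ha (Subtype.ext e))).2 hne
      refine ⟨hab', ?_⟩
      have h1 : Nat.card ((C ⊓ commutator G : Subgroup G)) = 1 := by
        have hPle : (P : Subgroup G) ≤ commutator G ⊔ C := by
          rw [← hsup]; exact sup_le (hDG.trans le_sup_left) le_sup_right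
        have h2 : (commutator G).relIndex (P : Subgroup G) ≤ (commutator G).relIndex C := by
          have h3 : (commutator G ⊔ C : Subgroup G) = (P : Subgroup G) :=
            le_antisymm (sup_le hG'P inf_le_left) hPle
          rw [← h3, Subgroup.relIndex_sup_left]
        rw [← hm, ← hcard, ← Subgroup.inf_relIndex_left] at h2
        have h4 := Subgroup.card_mul_index ((C ⊓ commutator G).subgroupOf C)
        rw [Nat.card_congr (Subgroup.subgroupOfEquivOfLe (inf_le_left : C ⊓ commutator G ≤ C)).toEquiv,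
          show ((C ⊓ commutator G).subgroupOf C).index = (C ⊓ commutator G).relIndex C from rfl] at h4
        have h5 : 0 < Nat.card ((C ⊓ commutator G : Subgroup G)) := Nat.card_pos
        have h6 : 0 < Nat.card C := Nat.card_pos
        by_contra h7
        have : 2 ≤ Nat.card ((C ⊓ commutator G : Subgroup G)) := by omega
        nlinarith
      exact Subgroup.eq_bot_of_card_eq _ h1
    have hDeq : D = commutator G := by
      refine le_antisymm hDG fun g hg => ?_
      obtain ⟨d, hd, e, he, rfl⟩ := hdecomp g (hG'P hg)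
      have h0 : e ∈ C ⊓ commutator G := ⟨he, (Subgroup.mul_mem_cancel_left _ (hDG hd)).mp hg⟩
      rw [hCab.2, Subgroup.mem_bot] at h0
      rw [h0, mul_one]; exact hd
    have hfpf : ∀ a ∈ A, a ≠ 1 → ∀ d ∈ D, a * d = d * a → d = 1 := by
      intro a ha ha1 d hd hcomm
      have h0 : d ∈ C ⊓ commutator G := ⟨(hfix a ha ha1).1
        ⟨hG'P (hDG hd), Subgroup.mem_centralizer_singleton_iff.mpr hcomm.symm⟩, hDG hd⟩
      rw [hCab.2, Subgroup.mem_bot] at h0
      exact h0
    have hcyc : IsCyclic A := by
      haveI : Nontrivial (commutator G) := (Subgroup.nontrivial_iff_ne_bot _).mpr hG'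
      haveI := hG'p.center_nontrivial
      haveI : (Subgroup.center (commutator G)).Characteristic := inferInstance
      set Z := (Subgroup.center (commutator G)).map (commutator G).subtype with hZdef
      haveI : Z.Normal := inferInstance
      letI : CommGroup Z :=
        { (inferInstance : Group Z) with
          mul_comm := fun u v => Subtype.ext (by
            obtain ⟨u', hu', hu⟩ := u.2
            obtain ⟨v', hv', hv⟩ := v.2
            rw [Subgroup.coe_mul, Subgroup.coe_mul, ← hu, ← hv]
            exact congrArg Subtype.val (Subgroup.mem_center_iff.mp hv' u')) }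
      haveI : Nontrivial Z := (Subgroup.nontrivial_iff_ne_bot Z).mpr (by
        rw [hZdef, Ne, Subgroup.map_eq_bot_iff_of_injective _ (Subgroup.subtype_injective _)]
        exact (Subgroup.nontrivial_iff_ne_bot _).mp inferInstance)
      let ρ : A →* MulAut Z := (MulAut.conjNormal (H := Z)).comp A.subtype
      have hρ : Frobenius.IsFPF ρ := by
        intro a ha z hz
        obtain ⟨z', -, hz'⟩ := z.2
        refine Subtype.ext (hfpf a a.2 (fun e => ha (Subtype.ext e)) z (hDeq ▸ hz' ▸ z'.2) ?_)
        have h1 : (a : G) * z * (a : G)⁻¹ = z := congrArg Subtype.val hz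
        exact mul_inv_eq_iff_eq_mul.mp h1
      exact hρ.isCyclic_of_commutative
    refine ⟨p, ⟨hp⟩, P, A, hPn, hcyc, hAne, hcop, by rw [sup_comm]; exact hA.sup_eq_top,
      ⟨⟨fun u v => Subtype.ext (hCab.1 u u.2 v v.2)⟩⟩, ?_, ?_, ?_, hfpf⟩
    · show D.Normal
      rw [hDeq]; infer_instance
    · rw [sup_comm]; exact hsup
    · show C ⊓ D = ⊥
      rw [hDeq]; exact hCab.2
  · rintro (⟨r, hr, hrG⟩ | hab | ⟨p, hp', P, A, hPn, hcyc, hAne, hcop, hAP, hCab, hDn, hsup, hdis,
      hfpf⟩) x y χ hx hy ⟨q, q', a, b, hq, hq', hne, ha, hb⟩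
    · exfalso
      apply hne
      haveI : Fact r.Prime := ⟨hr⟩
      obtain ⟨i, hi⟩ := IsPGroup.iff_orderOf.mp hrG x
      obtain ⟨j, hj⟩ := IsPGroup.iff_orderOf.mp hrG y
      have ha0 : a ≠ 0 := fun e => hx (orderOf_eq_one_iff.mp (by rw [ha, e, pow_zero]))
      have hb0 : b ≠ 0 := fun e => hy (orderOf_eq_one_iff.mp (by rw [hb, e, pow_zero]))
      have h1 := (Nat.prime_dvd_prime_iff_eq hq hr).mp
        (hq.dvd_of_dvd_pow (hi ▸ ha ▸ dvd_pow_self q ha0))
      have h2 := (Nat.prime_dvd_prime_iff_eq hq' hr).mp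
        (hq'.dvd_of_dvd_pow (hj ▸ hb ▸ dvd_pow_self q' hb0))
      rw [h1, h2]
    · exact Linear.apply_mul_of_degree_one (Basic.isCharacter_irr χ)
        (Linear.degree_eq_one_of_comm (fun u v => hab.is_comm.comm u v) χ) x y
    by_cases h1 : (χ : G → ℂ) 1 = 1
    · exact Linear.apply_mul_of_degree_one (Basic.isCharacter_irr χ) h1 x y
    haveI := hPn
    haveI := hDn
    set C := (P : Subgroup G) ⊓ Subgroup.centralizer (A : Set G) with hC
    set D := ⁅A, (P : Subgroup G)⁆ with hD
    have hAab : ∀ u ∈ A, ∀ v ∈ A, u * v = v * u := fun u hu v hv =>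
      congrArg Subtype.val ((IsCyclic.commutative (α := A)).is_comm.comm (⟨u, hu⟩ : A) ⟨v, hv⟩)
    have hAC : ∀ u ∈ A, ∀ v ∈ C, u * v = v * u := fun u hu v hv =>
      Subgroup.mem_centralizer_iff.mp hv.2 u hu
    have hPdec : ∀ w ∈ (P : Subgroup G), ∃ d ∈ D, ∃ e ∈ C, w = d * e := fun w hw => by
      rw [← hsup, sup_comm, ← SetLike.mem_coe, Subgroup.normal_mul] at hw
      obtain ⟨d, hd, e, he, h⟩ := hw
      exact ⟨d, hd, e, he, h.symm⟩
    have hdec : ∀ g : G, ∃ d ∈ D, ∃ e ∈ C, ∃ u ∈ A, g = d * e * u := fun g => by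
      have hg : g ∈ (P : Subgroup G) ⊔ A := by rw [sup_comm, hAP]; exact Subgroup.mem_top g
      rw [← SetLike.mem_coe, Subgroup.normal_mul] at hg
      obtain ⟨w, hw, u, hu, h⟩ := hg
      obtain ⟨d, hd, e, he, rfl⟩ := hPdec w hw
      exact ⟨d, hd, e, he, u, hu, h.symm⟩
    have hC' : commutator G ≤ D := by
      rw [← Subgroup.Normal.quotient_commutative_iff_commutator_le]
      refine ⟨⟨fun s t => ?_⟩⟩
      obtain ⟨g, rfl⟩ := QuotientGroup.mk'_surjective D s
      obtain ⟨g', rfl⟩ := QuotientGroup.mk'_surjective D t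
      obtain ⟨d, hd, e, he, u, hu, rfl⟩ := hdec g
      obtain ⟨d', hd', e', he', u', hu', rfl⟩ := hdec g'
      have k : ∀ z ∈ D, QuotientGroup.mk' D z = 1 := fun z hz => (QuotientGroup.eq_one_iff z).mpr hz
      have hee : e * e' = e' * e :=
        congrArg Subtype.val (hCab.is_comm.comm (⟨e, he⟩ : C) ⟨e', he'⟩)
      rw [map_mul _ (d * e), map_mul _ d, k d hd, one_mul, map_mul _ (d' * e'), map_mul _ d',
        k d' hd', one_mul, ← map_mul, ← map_mul, ← map_mul, ← map_mul]
      refine congrArg _ ?_
      calc e * u * (e' * u') = e * (u * e') * u' := by group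
        _ = e * e' * (u * u') := by rw [hAC u hu e' he']; group
        _ = e' * e * (u' * u) := by rw [hee, hAab u hu u' hu']
        _ = e' * (e * u') * u := by group
        _ = e' * u' * (e * u) := by rw [← hAC u' hu' e he]; group
    haveI : Fact p.Prime := hp'
    have hPdis : ∀ z ∈ (P : Subgroup G), z ∈ A → z = 1 := by
      intro z hzP hzA
      obtain ⟨i, hi⟩ := IsPGroup.iff_orderOf.mp P.2 ⟨z, hzP⟩
      have h2 : orderOf z ∣ Nat.card A := Subgroup.orderOf_mk z hzA ▸ orderOf_dvd_natCard _
      rw [Subgroup.orderOf_mk] at hi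
      rw [hi] at h2
      exact orderOf_eq_one_iff.mp (hi ▸ Nat.eq_one_of_dvd_coprimes
        (hcop.pow_right i) h2 dvd_rfl)
    have hDP : D ≤ (P : Subgroup G) := Subgroup.commutator_le_right A (P : Subgroup G)
    have hsupAC : ∀ z ∈ A ⊔ C, ∃ u ∈ A, ∃ e ∈ C, z = u * e := by
      intro z hz
      have hn : A ≤ Subgroup.normalizer (C : Set G) := fun u hu => by
        rw [Subgroup.mem_normalizer_iff]
        intro t
        constructor
        · intro ht
          rw [hAC u hu t ht, mul_inv_cancel_right]; exact ht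
        · intro ht
          have h5 := hAC u hu _ ht
          have : u * t * u⁻¹ = t := by
            have h6 : u * (u * t * u⁻¹) = u * t := by
              rw [h5]; group
            exact mul_left_cancel h6
          rwa [this] at ht
      rw [← SetLike.mem_coe, Subgroup.coe_mul_of_left_le_normalizer_right A C hn] at hz
      obtain ⟨u, hu, e, he, h⟩ := hz
      exact ⟨u, hu, e, he, h.symm⟩
    have hmain : ∀ g : G, g ∉ (P : Subgroup G) → (χ : G → ℂ) g = 0 := by
      intro g hg
      obtain ⟨d, hd, e, he, u, hu, rfl⟩ := hdec g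
      have hu1 : u ≠ 1 := fun h => hg (by
        rw [h, mul_one]; exact mul_mem (hDP hd) he.1)
      set g0 := e * u with hg0
      obtain ⟨i, hi⟩ := IsPGroup.iff_orderOf.mp P.2 ⟨e, he.1⟩
      rw [Subgroup.orderOf_mk] at hi
      obtain ⟨j, hj⟩ := exists_pow_eq_self_of_coprime (x := u) (n := p ^ i)
        ((hcop.coprime_dvd_left (Subgroup.orderOf_mk u hu ▸ orderOf_dvd_natCard _)).symm.pow_left i)
      have hgu : (g0 ^ p ^ i) ^ j = u := by
        rw [hg0, (show Commute e u from (hAC u hu e he).symm).mul_pow, ← hi, pow_orderOf_eq_one,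
          one_mul, hi, hj]
      have hfix : ∀ z ∈ D, Commute z g0 → z = 1 := fun z hz hc =>
        hfpf u hu hu1 z hz (by rw [← hgu]; exact ((hc.pow_right _).pow_right _).eq.symm)
      let f : D → D := fun z => ⟨z * (g0 * (z : G)⁻¹ * g0⁻¹),
        mul_mem z.2 (hDn.conj_mem _ (inv_mem z.2) g0)⟩
      have hf : Function.Injective f := by
        intro z w h
        have h' : (z : G) * (g0 * (z : G)⁻¹ * g0⁻¹) = w * (g0 * (w : G)⁻¹ * g0⁻¹) :=
          congrArg Subtype.val h
        refine Subtype.ext (inv_mul_eq_one.mp (hfix _ (mul_mem (inv_mem w.2) z.2) ?_)).symm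
        show (w : G)⁻¹ * z * g0 = g0 * ((w : G)⁻¹ * z)
        calc (w : G)⁻¹ * z * g0 = (w : G)⁻¹ * (z * (g0 * (z : G)⁻¹ * g0⁻¹)) * (g0 * z) := by group
          _ = _ := by rw [h']; group
      obtain ⟨z, hz⟩ := (Finite.injective_iff_surjective.mp hf) ⟨d, hd⟩
      have hz' : (z : G) * (g0 * (z : G)⁻¹ * g0⁻¹) = d := congrArg Subtype.val hz
      have hconj : IsConj g0 (d * e * u) := isConj_iff.mpr ⟨z, by
        rw [← hz', hg0]; group⟩
      rw [BlocksChars5.Basic.eq_of_isConj χ hconj]
      refine apply_eq_zero_of_card (le_antisymm ?_ ?_) h1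
      · have hle : Subgroup.centralizer ({g0} : Set G) ≤ A ⊔ C := by
          intro w hw
          rw [Subgroup.mem_centralizer_singleton_iff] at hw
          have hwu : Commute w u := by
            rw [← hgu]
            exact ((show Commute w g0 from hw).pow_right _).pow_right _
          obtain ⟨d', hd', e', he', u', hu', rfl⟩ := hdec w
          have hd'u : u * d' = d' * u := by
            have h2 : d' * e' * u' * u = u * (d' * e' * u') := hwu.eq
            have h3 : d' * e' * u' * u = d' * u * (e' * u') := by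
              calc d' * e' * u' * u = d' * e' * (u' * u) := by group
                _ = d' * e' * (u * u') := by rw [hAab u' hu' u hu]
                _ = d' * (e' * u) * u' := by group
                _ = _ := by rw [← hAC u hu e' he']; group
            rw [h3] at h2
            have h4 : d' * u * (e' * u') = u * d' * (e' * u') := by rw [h2]; group
            exact (mul_right_cancel h4).symm
          rw [hfpf u hu hu1 d' hd' hd'u, one_mul]
          exact mul_mem (Subgroup.mem_sup_right he') (Subgroup.mem_sup_left hu')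
        have hinj : Function.Injective
            ((QuotientGroup.mk' (commutator G)).comp (A ⊔ C).subtype) := by
          rw [injective_iff_map_eq_one]
          intro w hw
          have hwD : (w : G) ∈ D := hC' ((QuotientGroup.eq_one_iff _).mp hw)
          apply Subtype.ext
          obtain ⟨u', hu', e', he', h'⟩ := hsupAC _ w.2
          rw [h'] at hwD
          have hu'1 : u' = 1 := hPdis u'
            (((Subgroup.mul_mem_cancel_right _ he'.1).mp (hDP hwD))) hu'
          rw [hu'1, one_mul] at hwD
          have h0 : e' ∈ C ⊓ D := ⟨he', hwD⟩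
          rw [hdis, Subgroup.mem_bot] at h0
          rw [h', hu'1, h0, one_mul, OneMemClass.coe_one]
        calc Nat.card (Subgroup.centralizer ({g0} : Set G)) ≤ Nat.card (A ⊔ C : Subgroup G) :=
              Subgroup.card_le_of_le hle
          _ ≤ Nat.card (G ⧸ commutator G) := Nat.card_le_card_of_injective _ hinj
          _ = (commutator G).index := (Subgroup.index_eq_card _).symm
      · have h2 := BlocksChars5.Basic.second_orthogonality g0 g0
        rw [if_pos (IsConj.refl g0)] at h2
        have h3 : (((commutator G).index : ℕ) : ℝ) ≤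
            (Nat.card (Subgroup.centralizer ({g0} : Set G)) : ℕ) := by
          have h5 := congrArg Complex.re h2
          have h6 := congrArg Complex.re (sum_linear (G := G))
          rw [Complex.re_sum, Complex.natCast_re] at h5 h6
          rw [← h5, ← h6]
          refine Finset.sum_le_sum fun ψ _ => ?_
          split_ifs with hc
          · rw [norm_linear hc g0]
          · rw [Complex.mul_conj, Complex.ofReal_re, Complex.zero_re]
            exact Complex.normSq_nonneg _
        exact_mod_cast h3
    have hnotP : ∀ (g : G) (r c : ℕ), r.Prime → r ≠ p → g ≠ 1 → orderOf g = r ^ c →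
        g ∉ (P : Subgroup G) := by
      intro g r c hr hrp hg1 hgo hgP
      obtain ⟨i, hi⟩ := IsPGroup.iff_orderOf.mp P.2 ⟨g, hgP⟩
      rw [Subgroup.orderOf_mk, hgo] at hi
      apply hg1
      rw [← orderOf_eq_one_iff, hgo]
      exact Nat.eq_one_of_dvd_coprimes
        (((Nat.coprime_primes hr hp'.out).mpr hrp).pow c i) dvd_rfl (dvd_of_eq hi)
    by_cases hqp : q = p
    · subst hqp
      have hyP := hnotP y q' b hq' (Ne.symm hne) hy hb
      rw [hmain y hyP, mul_zero, hmain]
      intro hxyP
      apply hyP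
      have hxP : x ∈ (P : Subgroup G) := by
        obtain ⟨Q, hQ⟩ := (IsPGroup.of_card (G := Subgroup.zpowers x)
          (by rw [Nat.card_zpowers, ha])).exists_le_sylow (p := q)
        haveI := Sylow.unique_of_normal P hPn
        exact Subsingleton.elim Q P ▸ hQ (Subgroup.mem_zpowers x)
      exact (Subgroup.mul_mem_cancel_left _ hxP).mp hxyP
    have hxP := hnotP x q a hq hqp hx ha
    rw [hmain x hxP, zero_mul, hmain]
    intro hxyP
    by_cases hq'p : q' = p
    · subst hq'p
      apply hxP
      have hyP : y ∈ (P : Subgroup G) := by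
        obtain ⟨Q, hQ⟩ := (IsPGroup.of_card (G := Subgroup.zpowers y)
          (by rw [Nat.card_zpowers, hb])).exists_le_sylow (p := q')
        haveI := Sylow.unique_of_normal P hPn
        exact Subsingleton.elim Q P ▸ hQ (Subgroup.mem_zpowers y)
      exact (Subgroup.mul_mem_cancel_right _ hyP).mp hxyP
    apply hxP
    rw [← QuotientGroup.eq_one_iff]
    have h2 : (x : G ⧸ (P : Subgroup G)) = (y : G ⧸ (P : Subgroup G))⁻¹ :=
      eq_inv_of_mul_eq_one_left ((QuotientGroup.eq_one_iff _).mpr hxyP)
    have e1 : (x : G ⧸ (P : Subgroup G)) ^ q ^ a = 1 := by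
      rw [← QuotientGroup.mk_pow, ← ha, pow_orderOf_eq_one, QuotientGroup.mk_one]
    have e2 : (x : G ⧸ (P : Subgroup G)) ^ q' ^ b = 1 := by
      rw [h2, inv_pow, ← QuotientGroup.mk_pow, ← hb, pow_orderOf_eq_one, QuotientGroup.mk_one,
        inv_one]
    have h3 := pow_gcd_eq_one.2 ⟨e1, e2⟩
    rwa [(((Nat.coprime_primes hq hq').mpr hne).pow a b).gcd_eq_one, pow_one] at h3

end Cfsg.Agent.S4756
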