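import Cfsg.Statements.S4757
import Cfsg.Agent.Lib.H80.ClassMult
import Cfsg.Agent.Lib.H80.LinearChar
import Cfsg.Agent.Lib.Cores.Pi


set_option autoImplicit false
open Cfsg

namespace Cfsg.Agent.S4757

/-- Let u ≠ 1 be an element of the finite group G and c a complex number such that every non-principal irreducible character χ satisfies χ(1) − χ(u) = c or χ(u) = 0. Then the following are equivalent: (a) u has order 2, G is generated by u together with O(G), the largest normal subgroup of G of odd order, and the centralizer of u is {1, u}; (b) G is not perfect; (c) c = 2. -/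
theorem result {G : Type*} [Group G] [Finite G] (u : G) (hu : u ≠ 1) (c : ℂ) (hyp : ∀ χ : Cfsg.IrrCharacter G, (χ : G → ℂ) ≠ (fun _ => (1 : ℂ)) → ((χ : G → ℂ) 1 - (χ : G → ℂ) u = c ∨ (χ : G → ℂ) u = 0)) : ((orderOf u = 2 ∧ Subgroup.zpowers u ⊔ Cfsg.oddCore G = ⊤ ∧ Subgroup.centralizer ({u} : Set G) = Subgroup.zpowers u) ↔ commutator G ≠ ⊤) ∧ (commutator G ≠ ⊤ ↔ c = 2) := by
  classical
  letI := Fintype.ofFinite G
  letI := Fintype.ofFinite (Cfsg.IrrCharacter G)
  have hlin0 := fun χ : Cfsg.IrrCharacter G => Cfsg.Agent.Lib.H80.LinearChar.ne_zero_of_deg_one χ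
  -- the orthogonality relation at `(1, u)`
  have hreg : ∑ χ : Cfsg.IrrCharacter G, (χ : G → ℂ) 1 * (χ : G → ℂ) u = 0 := by
    rw [Cfsg.Agent.Lib.Characters.Complete.sum_degree_mul_apply, if_neg hu]
  have hprinc : ∀ χ : Cfsg.IrrCharacter G, χ ≠ Cfsg.Agent.Lib.Characters.Basic.oneChar G →
      (χ : G → ℂ) ≠ fun _ => (1 : ℂ) := fun χ hχ e => hχ (Subtype.ext e)
  -- if no `χ` has negative summand, contradiction
  have hsome : ∀ k : ℕ, c = (k : ℂ) → ∃ χ : Cfsg.IrrCharacter G,
      χ ≠ Cfsg.Agent.Lib.Characters.Basic.oneChar G ∧ Cfsg.charDegree (χ : G → ℂ) < k := by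
    intro k hk
    by_contra hall
    push Not at hall
    have hle : ∀ χ : Cfsg.IrrCharacter G, 0 ≤ ((χ : G → ℂ) 1 * (χ : G → ℂ) u).re := by
      intro χ
      by_cases hχ : χ = Cfsg.Agent.Lib.Characters.Basic.oneChar G
      · subst hχ; simp [Cfsg.Agent.Lib.Characters.Basic.oneChar_apply]
      · rcases hyp χ (hprinc χ hχ) with h | h
        · have hd := hall χ hχ
          have h : (χ : G → ℂ) u = (χ : G → ℂ) 1 - c := by linear_combination -h
          rw [h, hk, (Cfsg.Agent.Lib.H80.ClassMult.deg_spec χ).2]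
          have : (0 : ℝ) ≤ (Cfsg.charDegree (χ : G → ℂ) : ℝ) - k := by
            rw [sub_nonneg]; exact_mod_cast hd
          simpa using mul_nonneg (Nat.cast_nonneg (Cfsg.charDegree (χ : G → ℂ))) this
        · simp [h]
    have h0 := congrArg Complex.re hreg
    rw [Complex.re_sum, Complex.zero_re] at h0
    have := Finset.single_le_sum (f := fun χ : Cfsg.IrrCharacter G =>
      ((χ : G → ℂ) 1 * (χ : G → ℂ) u).re) (fun χ _ => hle χ)
      (Finset.mem_univ (Cfsg.Agent.Lib.Characters.Basic.oneChar G))
    rw [h0] at this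
    simp [Cfsg.Agent.Lib.Characters.Basic.oneChar_apply] at this
    linarith
  have hA : c = 2 → commutator G ≠ ⊤ := by
    intro hc htop
    obtain ⟨χ, hχ1, hd⟩ := hsome 2 (by rw [hc]; norm_num)
    have hd1 : Cfsg.charDegree (χ : G → ℂ) = 1 := by
      have := (Cfsg.Agent.Lib.H80.ClassMult.deg_spec χ).1; omega
    have h1 : (χ : G → ℂ) 1 = 1 := by
      rw [(Cfsg.Agent.Lib.H80.ClassMult.deg_spec χ).2, hd1, Nat.cast_one]
    exact hχ1 (Subtype.ext (funext fun g =>
      Cfsg.Agent.Lib.H80.LinearChar.eq_one_of_mem_commutator χ h1 (htop ▸ Subgroup.mem_top g)))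
  have hB : commutator G ≠ ⊤ → c = 2 ∧ ∀ χ : Cfsg.IrrCharacter G, (χ : G → ℂ) 1 = 1 →
      χ ≠ Cfsg.Agent.Lib.Characters.Basic.oneChar G → (χ : G → ℂ) u = -1 := by
    intro hne
    obtain ⟨g, hg⟩ : ∃ g, g ∉ commutator G := by
      by_contra hall
      push Not at hall
      exact hne (eq_top_iff.mpr fun g _ => hall g)
    obtain ⟨l, hl1, hlg⟩ := Cfsg.Agent.Lib.H80.LinearChar.exists_deg_one_apply_ne hg
    have hl : l ≠ Cfsg.Agent.Lib.Characters.Basic.oneChar G := fun e => hlg (e ▸ rfl)
    have hval : ∀ χ : Cfsg.IrrCharacter G, (χ : G → ℂ) 1 = 1 →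
        χ ≠ Cfsg.Agent.Lib.Characters.Basic.oneChar G → (χ : G → ℂ) u = 1 - c := by
      intro χ h1 hχ
      rcases hyp χ (hprinc χ hχ) with h | h
      · linear_combination (h1 - h)
      · exact absurd h (hlin0 χ h1 u)
    have hw : (l : G → ℂ) u ≠ 1 := by
      intro hone
      have hc0 : c = ((0 : ℕ) : ℂ) := by
        rw [hval l hl1 hl] at hone
        push_cast
        linear_combination -hone
      obtain ⟨χ, -, hd⟩ := hsome 0 hc0
      exact absurd hd (Nat.not_lt_zero _)
    obtain ⟨m, hm1, hm⟩ := Cfsg.Agent.Lib.H80.LinearChar.exists_mul_deg_one l l hl1 hl1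
    have hc2 : c = 2 := by
      have hwv := hval l hl1 hl
      by_cases hm' : m = Cfsg.Agent.Lib.Characters.Basic.oneChar G
      · have h := hm u
        rw [hm', Cfsg.Agent.Lib.Characters.Basic.oneChar_apply] at h
        have h' : ((l : G → ℂ) u - 1) * ((l : G → ℂ) u + 1) = 0 := by linear_combination -h
        have h'' := (mul_eq_zero.mp h').resolve_left (sub_ne_zero.mpr hw)
        linear_combination hwv - h''
      · have h := hm u
        rw [hval m hm1 hm', ← hwv] at h
        have h' : (l : G → ℂ) u * ((l : G → ℂ) u - 1) = 0 := by linear_combination -h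
        exact absurd h' (mul_ne_zero (hlin0 l hl1 u) (sub_ne_zero.mpr hw))
    exact ⟨hc2, fun χ h1 hχ => by rw [hval χ h1 hχ, hc2]; norm_num⟩
  refine ⟨⟨?_, ?_⟩, ⟨fun h => (hB h).1, hA⟩⟩
  · rintro ⟨hord, hsup, -⟩ htop
    haveI : (Cfsg.oddCore G).Normal := inferInstance
    have huO : u ∉ Cfsg.oddCore G := by
      intro h
      have h2 := (Cfsg.oddCore G).orderOf_dvd_natCard h
      rw [hord] at h2
      have hodd := Cfsg.Agent.Lib.Cores.oddCore_odd (G := G)
      exact (Nat.not_even_iff_odd.mpr hodd) (even_iff_two_dvd.mpr h2)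
    have hle : commutator G ≤ Cfsg.oddCore G := by
      rw [commutator_def, Subgroup.commutator_le]
      intro a _ b _
      have hmem : ∀ g : G, ∃ k : ℤ, ∃ o ∈ Cfsg.oddCore G, u ^ k * o = g := by
        intro g
        have hg : g ∈ Subgroup.zpowers u ⊔ Cfsg.oddCore G := hsup ▸ Subgroup.mem_top g
        rw [← SetLike.mem_coe, Subgroup.mul_normal] at hg
        obtain ⟨_, ⟨k, rfl⟩, o, ho, rfl⟩ := hg
        exact ⟨k, o, ho, rfl⟩
      rw [← QuotientGroup.eq_one_iff]
      obtain ⟨k, o, ho, rfl⟩ := hmem a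
      obtain ⟨k', o', ho', rfl⟩ := hmem b
      rw [commutatorElement_def]
      simp only [QuotientGroup.mk_mul, QuotientGroup.mk_inv, QuotientGroup.mk_zpow,
        (QuotientGroup.eq_one_iff o).mpr ho, (QuotientGroup.eq_one_iff o').mpr ho', mul_one]
      group
    exact huO (hle (htop ▸ Subgroup.mem_top u))
  · intro hne
    obtain ⟨hc, hlinval⟩ := hB hne
    obtain ⟨g, hg⟩ : ∃ g, g ∉ commutator G := by
      by_contra hall
      push Not at hall
      exact hne (eq_top_iff.mpr fun g _ => hall g)
    obtain ⟨l, hl1, hlg⟩ := Cfsg.Agent.Lib.H80.LinearChar.exists_deg_one_apply_ne hg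
    have hl : l ≠ Cfsg.Agent.Lib.Characters.Basic.oneChar G := fun e => hlg (e ▸ rfl)
    -- nonlinear characters vanish at `u`
    have hnl : ∀ χ : Cfsg.IrrCharacter G, (χ : G → ℂ) 1 ≠ 1 → (χ : G → ℂ) u = 0 := by
      intro χ hχ
      by_contra hu0
      have hχu : (χ : G → ℂ) u = (χ : G → ℂ) 1 - 2 := by
        have h := (hyp χ (fun e => hχ (by rw [e]))).resolve_right hu0
        linear_combination -h - hc
      have hchar := Cfsg.Agent.Lib.Characters.Basic.isCharacter_mul
        (Cfsg.Agent.Lib.Characters.Basic.isCharacter_irr l)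
        (Cfsg.Agent.Lib.Characters.Basic.isCharacter_irr χ)
      have hirr : Cfsg.IsIrrCharacter G ((l : G → ℂ) * (χ : G → ℂ)) := by
        refine Cfsg.Agent.Lib.Characters.Basic.isIrrCharacter_of_classInner_self hchar ?_
        rw [← Cfsg.Agent.Lib.Characters.Basic.classInner_self_irr χ]
        simp only [Cfsg.classInner, Pi.mul_apply, map_mul]
        congr 1
        refine Finset.sum_congr rfl fun k _ => ?_
        have hk : (l : G → ℂ) k * (starRingEnd ℂ) ((l : G → ℂ) k) = 1 := by
          rw [← Cfsg.Agent.Lib.Characters.Basic.apply_inv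
            (Cfsg.Agent.Lib.Characters.Basic.isCharacter_irr l),
            ← Cfsg.Agent.Lib.H80.LinearChar.map_mul_of_deg_one l hl1, mul_inv_cancel, hl1]
        linear_combination ((χ : G → ℂ) k * (starRingEnd ℂ) ((χ : G → ℂ) k)) * hk
      have h := hyp ⟨_, hirr⟩ (fun e => hχ (by
        have := congrFun e 1
        simpa [hl1] using this))
      simp only [Pi.mul_apply, hl1, one_mul, hlinval l hl1 hl] at h
      rcases h with h | h
      · apply hu0
        linear_combination (1/2 : ℂ) * hχu + (1/2 : ℂ) * h + (1/2 : ℂ) * hc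
      · exact hu0 (by linear_combination -h)
    have hlinuniq : ∀ χ : Cfsg.IrrCharacter G, (χ : G → ℂ) 1 = 1 →
        χ = Cfsg.Agent.Lib.Characters.Basic.oneChar G ∨ χ = l := by
      intro χ h1
      refine or_iff_not_imp_left.mpr fun hχ => ?_
      obtain ⟨m, hm1, hm⟩ := Cfsg.Agent.Lib.H80.LinearChar.exists_mul_deg_one χ l h1 hl1
      have hm' : m = Cfsg.Agent.Lib.Characters.Basic.oneChar G := by
        by_contra hm'
        have h := hm u
        rw [hlinval m hm1 hm', hlinval χ h1 hχ, hlinval l hl1 hl] at h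
        norm_num at h
      obtain ⟨m', hm'1, hmm⟩ := Cfsg.Agent.Lib.H80.LinearChar.exists_mul_deg_one l l hl1 hl1
      have hm'' : m' = Cfsg.Agent.Lib.Characters.Basic.oneChar G := by
        by_contra hm''
        have h := hmm u
        rw [hlinval m' hm'1 hm'', hlinval l hl1 hl] at h
        norm_num at h
      refine Subtype.ext (funext fun k => ?_)
      apply mul_right_cancel₀ (hlin0 l hl1 k)
      rw [← hm k, ← hmm k, hm', hm'']
    -- the centralizer of `u`
    have hcard : Nat.card (Subgroup.centralizer ({u} : Set G)) = 2 := by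
      have h := Cfsg.Agent.Lib.Characters.Complete.sum_irr_mul_conj u u
      rw [if_pos (IsConj.refl u), ← Finset.sum_subset (Finset.subset_univ
        ({Cfsg.Agent.Lib.Characters.Basic.oneChar G, l} : Finset (Cfsg.IrrCharacter G)))
        (fun χ _ hχ => by
          simp only [Finset.mem_insert, Finset.mem_singleton, not_or] at hχ
          have hd : (χ : G → ℂ) 1 ≠ 1 := fun e => (hlinuniq χ e).elim hχ.1 hχ.2
          rw [hnl χ hd, zero_mul]), Finset.sum_pair (Ne.symm hl), hlinval l hl1 hl] at h
      simp only [Cfsg.Agent.Lib.Characters.Basic.oneChar_apply, map_one, map_neg] at h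
      exact_mod_cast (by linear_combination -h :
        ((Nat.card (Subgroup.centralizer ({u} : Set G)) : ℕ) : ℂ) = ((2 : ℕ) : ℂ))
    have hzle : Subgroup.zpowers u ≤ Subgroup.centralizer ({u} : Set G) :=
      Subgroup.zpowers_le.mpr (Subgroup.mem_centralizer_singleton_iff.mpr rfl)
    have hord : orderOf u = 2 := by
      have h1 : orderOf u ∣ 2 := by
        rw [← hcard, ← Nat.card_zpowers]
        exact Subgroup.card_dvd_of_le hzle
      rcases (Nat.dvd_prime Nat.prime_two).mp h1 with h | h
      · exact absurd (orderOf_eq_one_iff.mp h) hu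
      · exact h
    have hzeq : Subgroup.centralizer ({u} : Set G) = Subgroup.zpowers u :=
      (Subgroup.eq_of_le_of_card_ge hzle (by rw [Nat.card_zpowers, hord, hcard])).symm
    refine ⟨hord, ?_, hzeq⟩
    -- the kernel of the linear character
    let f : G →* ℂ :=
      { toFun := (l : G → ℂ), map_one' := hl1,
        map_mul' := Cfsg.Agent.Lib.H80.LinearChar.map_mul_of_deg_one l hl1 }
    let N : Subgroup G := f.ker
    have hfu : f u = -1 := hlinval l hl1 hl
    have huN : u ∉ N := fun h => by
      rw [MonoidHom.mem_ker, hfu] at h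
      norm_num at h
    have hsq : ∀ k, f k = 1 ∨ f k = -1 := by
      intro k
      obtain ⟨m, hm1, hm⟩ := Cfsg.Agent.Lib.H80.LinearChar.exists_mul_deg_one l l hl1 hl1
      have h := hm k
      rcases hlinuniq m hm1 with e | e
      · rw [e, Cfsg.Agent.Lib.Characters.Basic.oneChar_apply] at h
        exact mul_self_eq_one_iff.mp h.symm
      · rw [e] at h
        exact Or.inl (mul_eq_left₀ (hlin0 l hl1 k) |>.mp h.symm)
    have htop : ∀ k, k ∈ N ∨ u * k ∈ N := by
      intro k
      rcases hsq k with h | h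
      · exact Or.inl h
      · exact Or.inr (by rw [MonoidHom.mem_ker, map_mul, hfu, h]; norm_num)
    have hodd : Odd (Nat.card N) := by
      let inv : N → N := fun n => ⟨u * n * u⁻¹, Subgroup.Normal.conj_mem inferInstance _ n.2 u⟩
      have hui : u⁻¹ = u := by
        rw [inv_eq_iff_mul_eq_one, ← pow_two, ← hord, pow_orderOf_eq_one]
      have hinvol : Function.Involutive inv := fun n => Subtype.ext (by
        show u * (u * n * u⁻¹) * u⁻¹ = n
        have : u * u = 1 := by rw [← pow_two, ← hord, pow_orderOf_eq_one]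
        rw [hui]
        calc u * (u * (n : G) * u) * u = (u * u) * (n : G) * (u * u) := by group
          _ = n := by rw [this, one_mul, mul_one])
      have hfix : ∀ n : N, inv n = n ↔ n = 1 := by
        intro n
        refine ⟨fun h => ?_, fun h => by subst h; exact Subtype.ext (by simp [inv])⟩
        have h' : u * (n : G) * u⁻¹ = n := congrArg Subtype.val h
        have hc : (n : G) ∈ Subgroup.zpowers u := hzeq ▸
          Subgroup.mem_centralizer_singleton_iff.mpr (mul_inv_eq_iff_eq_mul.mp h').symm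
        obtain ⟨j, hj⟩ := hc
        have hj' : u ^ (j % 2) = (n : G) := by
          rw [← hj]
          have := zpow_mod_orderOf u j
          rw [hord] at this
          simpa using this
        rcases Int.emod_two_eq_zero_or_one j with e | e
        · rw [e, zpow_zero] at hj'
          exact Subtype.ext hj'.symm
        · rw [e, zpow_one] at hj'
          exact absurd (hj' ▸ n.2 : u ∈ N) huN
      letI := Fintype.ofFinite N
      rw [Nat.card_eq_fintype_card]
      have hpar := Equiv.Perm.card_fixedPoints_modEq (p := 2) (n := 1) (f := inv)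
        (show (inv ∘ inv : N → N) = id from hinvol.comp_self)
      have hone : Fintype.card (Function.fixedPoints inv) = 1 := by
        rw [Fintype.card_eq_one_iff]
        exact ⟨⟨1, (hfix 1).mpr rfl⟩, fun z => Subtype.ext ((hfix z.1).mp z.2)⟩
      rw [hone] at hpar
      rw [Nat.odd_iff]
      exact hpar
    refine eq_top_iff.mpr fun k _ => ?_
    have hNO : N ≤ Cfsg.oddCore G := Cfsg.Agent.Lib.Cores.le_oddCore hodd
    rcases htop k with h | h
    · exact Subgroup.mem_sup_right (hNO h)
    · have : k = u⁻¹ * (u * k) := (inv_mul_cancel_left u k).symm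
      rw [this]
      exact mul_mem (Subgroup.mem_sup_left (inv_mem (Subgroup.mem_zpowers u)))
        (Subgroup.mem_sup_right (hNO h))

end Cfsg.Agent.S4757
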