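import Cfsg.Statements.S4762
import Cfsg.Agent.Lib.BlocksChars5.Basic
import Cfsg.Agent.Lib.Characters.Linear
import Cfsg.Agent.Lib.Clifford.Rep
import Cfsg.Agent.Lib.PGroups.Frattini

set_option autoImplicit false
open Cfsg

namespace Cfsg.Agent.S4762

open scoped ComplexConjugate
open Cfsg.Agent.Lib.Characters.Basic Cfsg.Agent.Lib.BlocksChars5.Basic
open Cfsg.Agent.Lib.Characters.Linear

attribute [local instance] irrFintype

variable {G : Type*} [Group G] [Finite G]

/-- In a nilpotent group a Sylow subgroup is a quotient, with kernel of coprime order. -/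
theorem exists_retraction [Group.IsNilpotent G] {p : ℕ} [Fact p.Prime] (hp : p ∣ Nat.card G)
    (P : Sylow p G) :
    ∃ f : G →* (P : Subgroup G), Function.Surjective f ∧ ¬ p ∣ Nat.card f.ker := by
  classical
  have hn : ∀ {q : ℕ} [Fact q.Prime] (Q : Sylow q G), (Q : Subgroup G).Normal := fun {q} _ Q =>
    Sylow.normal_of_normalizerCondition normalizerCondition_of_isNilpotent Q
  let i : (Nat.card G).primeFactors := ⟨p, Nat.mem_primeFactors.mpr ⟨Fact.out, hp, Nat.card_pos.ne'⟩⟩
  let e := Sylow.directProductOfNormal (G := G) hn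
  let f : G →* (P : Subgroup G) :=
    { toFun := fun g => e.symm g i P
      map_one' := by simp
      map_mul' := fun a b => by simp }
  have hsurj : Function.Surjective f := fun x => by
    refine ⟨e (Pi.mulSingle i (Pi.mulSingle P x)), ?_⟩
    simp [f]
  refine ⟨f, hsurj, fun hd => ?_⟩
  have h1 : Nat.card f.ker * Nat.card (P : Subgroup G) = Nat.card G := by
    rw [← f.ker.card_mul_index, Subgroup.index_ker, MonoidHom.range_eq_top.mpr hsurj,
      Subgroup.card_top]
  have h2 : p ^ ((Nat.card G).factorization p + 1) ∣ Nat.card G := by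
    have h3 : p * p ^ (Nat.card G).factorization p ∣ Nat.card f.ker * Nat.card (P : Subgroup G) :=
      mul_dvd_mul hd (dvd_of_eq P.card_eq_multiplicity.symm)
    rw [pow_succ']
    rwa [h1] at h3
  exact Nat.pow_succ_factorization_not_dvd Nat.card_pos.ne' Fact.out h2

/-- An abelian Sylow subgroup of a nilpotent group does not contribute to the degrees. -/
theorem not_dvd_degree_of_abelian [Group.IsNilpotent G] {p : ℕ} [Fact p.Prime]
    (hp : p ∣ Nat.card G) (P : Sylow p G) (hab : ∀ a b : (P : Subgroup G), a * b = b * a)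
    (χ : Cfsg.IrrCharacter G) : ¬ p ∣ Cfsg.charDegree (χ : G → ℂ) := by
  classical
  obtain ⟨f, hsurj, hker⟩ := exists_retraction hp P
  have := Fintype.ofFinite G
  have := Fintype.ofFinite f.ker
  haveI : (P : Subgroup G).Normal :=
    Sylow.normal_of_normalizerCondition normalizerCondition_of_isNilpotent P
  have hdisj : Disjoint (P : Subgroup G) f.ker := by
    refine Subgroup.disjoint_of_coprime_natCard ?_
    rw [P.card_eq_multiplicity]
    exact ((Fact.out : p.Prime).coprime_iff_not_dvd.mpr hker).pow_left _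
  have hcompl : Subgroup.IsComplement' (P : Subgroup G) f.ker := by
    refine Subgroup.isComplement'_of_disjoint_and_mul_eq_univ hdisj ?_
    rw [← Subgroup.normal_mul, Subgroup.coe_top.symm]
    have hbij : Function.Bijective (fun x : (P : Subgroup G) => f x) := by
      rw [Nat.bijective_iff_injective_and_card]
      refine ⟨fun a b hab' => Subtype.ext ?_, rfl⟩
      have h : (a : G) * (b : G)⁻¹ = 1 := Subgroup.disjoint_def.mp hdisj
        ((P : Subgroup G).mul_mem a.2 ((P : Subgroup G).inv_mem b.2))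
        (by rw [MonoidHom.mem_ker, map_mul, map_inv, show f (a : G) = f (b : G) from hab', mul_inv_cancel])
      exact mul_inv_eq_one.mp h
    congr 1
    refine eq_top_iff.mpr fun g _ => ?_
    obtain ⟨x, hx⟩ := hbij.2 (f g)
    have hk : (x : G)⁻¹ * g ∈ f.ker := by
      rw [MonoidHom.mem_ker, map_mul, map_inv]
      simp only at hx
      rw [hx, inv_mul_cancel]
    simpa using Subgroup.mul_mem_sup x.2 hk
  -- `P` is central
  have hcent : ∀ x ∈ (P : Subgroup G), x ∈ Subgroup.center G := by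
    intro x hx
    rw [Subgroup.mem_center_iff]
    intro g
    obtain ⟨⟨⟨a, ha⟩, ⟨b, hb⟩⟩, rfl⟩ := hcompl.2 g
    have h1 : Commute a x := congrArg Subtype.val (hab ⟨a, ha⟩ ⟨x, hx⟩)
    have h2 : Commute b x := (Subgroup.commute_of_normal_of_disjoint _ _ inferInstance
      inferInstance hdisj x b hx hb).symm
    exact (h1.mul_left h2).eq
  obtain ⟨n, ρ, hρ, hχ⟩ := exists_rep χ
  haveI := hρ
  let ρK : Representation ℂ f.ker (Fin n → ℂ) := ρ.comp f.ker.subtype
  have hK : ρK.IsIrreducible := by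
    let F : Subrepresentation ρ ≃o Subrepresentation ρK :=
      { toFun := fun W => ⟨W.toSubmodule, fun g _ hv => W.apply_mem_toSubmodule (g : G) hv⟩
        invFun := fun W => ⟨W.toSubmodule, fun g v hv => by
          obtain ⟨⟨⟨a, ha⟩, b⟩, rfl⟩ := hcompl.2 g
          obtain ⟨c, hc⟩ := Cfsg.Agent.Lib.Clifford.Rep.schur ρ (ρ a) fun y => by
            rw [← map_mul, ← map_mul, Subgroup.mem_center_iff.mp (hcent a ha) y]
          show ρ (a * (b : G)) v ∈ W.toSubmodule
          rw [map_mul, hc, Module.End.mul_apply, LinearMap.smul_apply, Module.End.one_apply]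
          exact W.toSubmodule.smul_mem c (W.apply_mem_toSubmodule b hv)⟩
        left_inv := fun _ => rfl
        right_inv := fun _ => rfl
        map_rel_iff' := Iff.rfl }
    exact F.isSimpleOrder_iff.mp hρ
  intro hd
  have hdd := degree_dvd_card (⟨_, n, ρK, hK, rfl⟩ : Cfsg.IrrCharacter f.ker)
  rw [charDegree_congr (f' := (χ : G → ℂ)) (f := ρK.character)
    (by rw [← hχ, Representation.char_one, Representation.char_one])] at hdd
  exact hker (hd.trans hdd)

theorem norm_sq_center (χ : Cfsg.IrrCharacter G) {z : G} (hz : z ∈ Subgroup.center G) :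
    (χ : G → ℂ) z * conj ((χ : G → ℂ) z) = (χ : G → ℂ) 1 * (χ : G → ℂ) 1 := by
  obtain ⟨n, ρ, hρ, hχ⟩ := exists_rep χ
  haveI := hρ
  obtain ⟨c, hc⟩ := Cfsg.Agent.Lib.Clifford.Rep.schur ρ (ρ z) fun y => by
    rw [← map_mul, ← map_mul, Subgroup.mem_center_iff.mp hz y]
  rw [← apply_inv (isCharacter_irr χ), ← hχ]
  have h1 : ρ z * ρ z⁻¹ = 1 := by rw [← map_mul, mul_inv_cancel, map_one]
  rw [hc, smul_mul_assoc, one_mul] at h1
  have h2 := congrArg (LinearMap.trace ℂ _) h1
  rw [map_smul, smul_eq_mul] at h2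
  simp only [Representation.character, hc, map_smul, smul_eq_mul, map_one]
  rw [← h2]
  ring

theorem center_mul_sq_le (χ : Cfsg.IrrCharacter G) :
    Nat.card (Subgroup.center G) * Cfsg.charDegree (χ : G → ℂ) ^ 2 ≤ Nat.card G := by
  classical
  have := Fintype.ofFinite G
  have h := congrArg Complex.re (sum_mul_conj_self χ)
  rw [Complex.re_sum, Complex.natCast_re] at h
  have hle : ∑ g ∈ Finset.univ.filter (fun g => g ∈ Subgroup.center G),
      ((χ : G → ℂ) g * conj ((χ : G → ℂ) g)).re ≤ (Nat.card G : ℝ) := by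
    rw [← h]
    refine Finset.sum_le_univ_sum_of_nonneg fun g => ?_
    rw [Complex.mul_conj, Complex.ofReal_re]
    exact Complex.normSq_nonneg _
  rw [Finset.sum_congr rfl (g := fun _ => ((Cfsg.charDegree (χ : G → ℂ) ^ 2 : ℕ) : ℝ)) (fun g hg => by
    rw [norm_sq_center χ (Finset.mem_filter.mp hg).2, apply_one, ← Nat.cast_mul, Complex.natCast_re,
      sq]), Finset.sum_const, nsmul_eq_mul] at hle
  rw [Nat.card_eq_fintype_card, Fintype.card_subtype]
  exact_mod_cast hle

/-- A central commutator moves the value of a character. -/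
theorem apply_eq_zero_of_minus (χ : Cfsg.IrrCharacter G) {z : G} (hz : z ∈ Subgroup.center G)
    (hz2 : z * z = 1) (hzk : z ∉ charKer χ) :
    (χ : G → ℂ) z = -(χ : G → ℂ) 1 ∧ ∀ x v : G, v * x * v⁻¹ = z * x → (χ : G → ℂ) x = 0 := by
  obtain ⟨n, ρ, hρ, hχ⟩ := exists_rep χ
  haveI := hρ
  obtain ⟨c, hc⟩ := Cfsg.Agent.Lib.Clifford.Rep.schur ρ (ρ z) fun y => by
    rw [← map_mul, ← map_mul, Subgroup.mem_center_iff.mp hz y]
  have hval : ∀ x, (χ : G → ℂ) (z * x) = c * (χ : G → ℂ) x := fun x => by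
    rw [← hχ]
    simp only [Representation.character, map_mul, hc, smul_mul_assoc, one_mul, map_smul,
      smul_eq_mul]
  have hcz : (χ : G → ℂ) z = c * (χ : G → ℂ) 1 := by rw [← hval 1, mul_one]
  have hc2 : c * c = 1 := by
    have h := hval z
    rw [hz2, hcz, ← mul_assoc] at h
    exact (mul_right_cancel₀ (apply_one_ne_zero χ) (h.symm.trans (one_mul _).symm))
  have hcm : c = -1 := by
    rcases mul_self_eq_one_iff.mp hc2 with h | h
    · exact absurd (by rw [mem_charKer, hcz, h, one_mul]) hzk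
    · exact h
  refine ⟨by rw [hcz, hcm, neg_one_mul], fun x v hxv => ?_⟩
  have h := conj_invariant χ x v
  rw [hxv, hval, hcm, neg_one_mul] at h
  linear_combination (-1 / 2 : ℂ) * h

theorem degree_eq_one_iff (χ : Cfsg.IrrCharacter G) :
    Cfsg.charDegree (χ : G → ℂ) = 1 ↔ (χ : G → ℂ) 1 = 1 := by
  rw [apply_one]
  exact Nat.cast_eq_one.symm

theorem forward [Group.IsNilpotent G] {p : ℕ} [Fact p.Prime]
    (h : Nat.card {χ : Cfsg.IrrCharacter G // p ∣ Cfsg.charDegree (χ : G → ℂ)} = 1) :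
    p = 2 ∧ Cfsg.IsExtraspecial 2 G := by
  classical
  have hp : p.Prime := Fact.out
  haveI hsub := (Nat.card_eq_one_iff_unique.mp h).1
  obtain ⟨⟨χ, hχ⟩⟩ := (Nat.card_eq_one_iff_unique.mp h).2
  have huniq : ∀ ψ : Cfsg.IrrCharacter G, p ∣ Cfsg.charDegree (ψ : G → ℂ) → ψ = χ := fun ψ hψ =>
    congrArg Subtype.val (Subsingleton.elim
      (⟨ψ, hψ⟩ : {ψ : Cfsg.IrrCharacter G // p ∣ Cfsg.charDegree (ψ : G → ℂ)}) ⟨χ, hχ⟩)
  have hpG : p ∣ Nat.card G := hχ.trans (degree_dvd_card χ)
  obtain ⟨P⟩ : Nonempty (Sylow p G) := inferInstance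
  obtain ⟨f, hf, hfk⟩ := exists_retraction hpG P
  -- a nonlinear character of the Sylow subgroup
  obtain ⟨φ, hφ⟩ : ∃ φ : Cfsg.IrrCharacter (P : Subgroup G),
      p ∣ Cfsg.charDegree (φ : ↥(P : Subgroup G) → ℂ) := by
    by_contra hcon
    push Not at hcon
    refine not_dvd_degree_of_abelian hpG P (fun a b => ?_) χ hχ
    have hlin : ∀ φ : Cfsg.IrrCharacter (P : Subgroup G), (φ : ↥(P : Subgroup G) → ℂ) 1 = 1 := by
      intro φ
      obtain ⟨j, -, hj⟩ := (Nat.dvd_prime_pow hp).mp
        (P.card_eq_multiplicity ▸ degree_dvd_card φ)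
      rcases Nat.eq_zero_or_pos j with rfl | hj0
      · rw [← degree_eq_one_iff, hj, pow_zero]
      · exact absurd (hj ▸ dvd_pow_self p hj0.ne') (hcon φ)
    have hab : a * b * a⁻¹ * b⁻¹ = 1 := by
      refine Cfsg.Agent.Lib.Characters.Complete.eq_one_of_forall_irr fun φ => ?_
      rw [apply_mul_of_degree_one (isCharacter_irr φ) (hlin φ),
        apply_mul_of_degree_one (isCharacter_irr φ) (hlin φ),
        apply_mul_of_degree_one (isCharacter_irr φ) (hlin φ), hlin φ]
      have e1 : (φ : ↥(P : Subgroup G) → ℂ) a * (φ : ↥(P : Subgroup G) → ℂ) a⁻¹ = 1 := by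
        rw [← apply_mul_of_degree_one (isCharacter_irr φ) (hlin φ), mul_inv_cancel, hlin]
      have e2 : (φ : ↥(P : Subgroup G) → ℂ) b * (φ : ↥(P : Subgroup G) → ℂ) b⁻¹ = 1 := by
        rw [← apply_mul_of_degree_one (isCharacter_irr φ) (hlin φ), mul_inv_cancel, hlin]
      linear_combination (φ : ↥(P : Subgroup G) → ℂ) b * (φ : ↥(P : Subgroup G) → ℂ) b⁻¹ * e1 + e2
    rw [mul_inv_eq_one, mul_inv_eq_iff_eq_mul] at hab
    exact hab
  let χ₁ : Cfsg.IrrCharacter G := ⟨_, isIrrCharacter_comp f hf φ.2⟩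
  have hχ₁ : p ∣ Cfsg.charDegree (χ₁ : G → ℂ) := by
    rwa [charDegree_congr (f' := (φ : ↥(P : Subgroup G) → ℂ)) (by simp [χ₁])]
  -- `G` is a `p`-group
  have hpgrp : IsPGroup p G := by
    rw [IsPGroup.iff_card]
    refine ⟨_, Nat.eq_prime_pow_of_unique_prime_dvd Nat.card_pos.ne' fun {q} hq hqG => ?_⟩
    by_contra hqp
    haveI : Fact q.Prime := ⟨hq⟩
    obtain ⟨Q⟩ : Nonempty (Sylow q G) := inferInstance
    obtain ⟨g, hg, hgk⟩ := exists_retraction hqG Q
    haveI : Nontrivial (Q : Subgroup G) := by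
      rw [← Finite.one_lt_card_iff_nontrivial, Q.card_eq_multiplicity]
      exact Nat.one_lt_pow (Nat.pos_of_ne_zero (fun e => by
        have := (Nat.factorization_eq_zero_iff _ _).mp e
        simp [hq, hqG, Nat.card_pos.ne'] at this) |>.ne') hq.one_lt
    haveI : Group.IsNilpotent (Q : Subgroup G) := Q.isPGroup'.isNilpotent
    have hlt : commutator (Q : Subgroup G) < ⊤ := IsSolvable.commutator_lt_top_of_nontrivial _
    obtain ⟨y, -, hy⟩ := SetLike.exists_of_lt hlt
    obtain ⟨μ, hμ⟩ := CommGroup.exists_apply_ne_one_of_hasEnoughRootsOfUnity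
      (Abelianization (Q : Subgroup G)) ℂ (a := Abelianization.of y)
      (fun e => hy ((Abelianization.ker_of _).le (MonoidHom.mem_ker.mpr e)))
    let lam : Cfsg.IrrCharacter G := linChar ((μ.comp Abelianization.of).comp g)
    let χ₂ : Cfsg.IrrCharacter G := ⟨_, isIrrCharacter_linear_mul (isCharacter_irr lam)
      (by simp [lam, linChar_apply]) χ₁.2⟩
    have hχ₂ : p ∣ Cfsg.charDegree (χ₂ : G → ℂ) := by
      rwa [charDegree_congr (f' := (χ₁ : G → ℂ)) (by simp [χ₂, lam, linChar_apply])]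
    have he := congrArg Subtype.val ((huniq χ₂ hχ₂).trans (huniq χ₁ hχ₁).symm)
    -- evaluate at a preimage of `y` killed by `f`
    obtain ⟨x, rfl⟩ := hg y
    obtain ⟨a, ha⟩ : ∃ a : G, a ∈ f.ker ∧ g a = g x := by
      haveI : Fact p.Prime := ‹_›
      -- raise to a power which is `1` modulo `#Q` and `0` modulo `#P`
      have hcop : (Nat.card (P : Subgroup G)).Coprime (Nat.card (Q : Subgroup G)) := by
        rw [P.card_eq_multiplicity, Q.card_eq_multiplicity]
        exact ((Nat.coprime_primes hp hq).mpr (Ne.symm hqp)).pow _ _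
      obtain ⟨m, hm1, hm2⟩ := Nat.chineseRemainder hcop 0 1
      refine ⟨x ^ m, ?_, ?_⟩
      · rw [MonoidHom.mem_ker, map_pow]
        exact orderOf_dvd_iff_pow_eq_one.mp ((orderOf_dvd_natCard (f x)).trans
          (Nat.modEq_zero_iff_dvd.mp hm1))
      · rw [map_pow]
        conv_rhs => rw [← pow_one (g x)]
        exact pow_eq_pow_iff_modEq.mpr (Nat.ModEq.of_dvd (orderOf_dvd_natCard _) hm2)
    have h1 := congrFun he a
    simp only [χ₂, χ₁, lam, Pi.mul_apply, Function.comp_apply, linChar_apply,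
      MonoidHom.coe_comp] at h1
    rw [MonoidHom.mem_ker.mp ha.1, ha.2] at h1
    exact hμ (Units.ext (mul_right_cancel₀ (apply_one_ne_zero φ) (h1.trans (one_mul _).symm)))
  obtain ⟨n, hn⟩ := IsPGroup.iff_card.mp hpgrp
  -- count the degrees
  have hdeg : ∀ ψ : Cfsg.IrrCharacter G, ψ ≠ χ → Cfsg.charDegree (ψ : G → ℂ) = 1 := fun ψ hne => by
    obtain ⟨j, -, hj⟩ := (Nat.dvd_prime_pow hp).mp (hn ▸ degree_dvd_card ψ)
    rcases Nat.eq_zero_or_pos j with rfl | hj0
    · rw [hj, pow_zero]
    · exact absurd (huniq ψ (hj ▸ dvd_pow_self p hj0.ne')) hne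
  obtain ⟨a, -, ha⟩ := (Nat.dvd_prime_pow hp).mp (hn ▸ degree_dvd_card χ)
  have ha0 : a ≠ 0 := by
    rintro rfl
    rw [ha, pow_zero] at hχ
    exact hp.not_dvd_one hχ
  have hcount : (commutator G).index + (p ^ a) ^ 2 = Nat.card G := by
    rw [← card_linear (G := G), ← sum_degree_sq (G := G), ← Finset.sum_erase_add _ _ (Finset.mem_univ χ), ha,
      Finset.sum_congr rfl (g := fun _ => 1) (fun ψ hψ => by
        rw [hdeg ψ (Finset.ne_of_mem_erase hψ), one_pow]), Finset.sum_const, smul_eq_mul, mul_one,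
      Nat.card_eq_fintype_card, Fintype.card_subtype]
    congr 2
    ext ψ
    simp only [Finset.mem_filter, Finset.mem_univ, true_and, Finset.mem_erase, and_true]
    rw [← degree_eq_one_iff]
    refine ⟨fun e hh => ?_, hdeg ψ⟩
    rw [hh, ha] at e
    exact ha0 ((Nat.pow_eq_one.mp e).resolve_left hp.ne_one)
  obtain ⟨b, -, hb⟩ := (Nat.dvd_prime_pow hp).mp (hn ▸ (commutator G).index_dvd_card)
  rw [hb, ← pow_mul, hn] at hcount
  have hb2 : b = a * 2 := by
    rcases lt_trichotomy b (a * 2) with hlt | he | hlt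
    · exfalso
      have hbn : b < n := (Nat.pow_lt_pow_iff_right hp.one_lt).mp (by
        have := pow_pos hp.pos (a * 2); omega)
      have h1 : p ^ (b + 1) ∣ p ^ b := (Nat.dvd_add_left (pow_dvd_pow p hlt)).mp
        (hcount ▸ pow_dvd_pow p hbn)
      exact absurd ((Nat.pow_dvd_pow_iff_le_right hp.one_lt).mp h1) (by omega)
    · exact he
    · exfalso
      have hbn : a * 2 < n := (Nat.pow_lt_pow_iff_right hp.one_lt).mp (by
        have := pow_pos hp.pos b; omega)
      have h1 : p ^ (a * 2 + 1) ∣ p ^ (a * 2) := (Nat.dvd_add_right (pow_dvd_pow p hlt)).mp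
        (hcount ▸ pow_dvd_pow p hbn)
      exact absurd ((Nat.pow_dvd_pow_iff_le_right hp.one_lt).mp h1) (by omega)
  rw [hb2] at hcount
  have hbn : a * 2 < n := (Nat.pow_lt_pow_iff_right hp.one_lt).mp (by
    have := pow_pos hp.pos (a * 2); omega)
  have hsplit : p ^ n = p ^ (a * 2) * p ^ (n - a * 2) := by rw [← pow_add]; congr 1; omega
  have htwo : p ^ (n - a * 2) = 2 := Nat.eq_of_mul_eq_mul_left (pow_pos hp.pos (a * 2))
    (by rw [← hsplit]; omega)
  have hp2 : p = 2 :=
    (Nat.prime_dvd_prime_iff_eq hp Nat.prime_two).mp (htwo ▸ dvd_pow_self p (by omega))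
  subst hp2
  refine ⟨rfl, ?_⟩
  have hcardC : Nat.card (commutator G) = 2 := by
    have e := (commutator G).index_mul_card
    rw [hb, hb2, hn, hsplit, htwo] at e
    exact Nat.eq_of_mul_eq_mul_left (pow_pos hp.pos _) e
  have hCle : commutator G ≤ Subgroup.center G := by
    intro c hc
    rw [Subgroup.mem_center_iff]
    intro g
    rcases eq_or_ne c 1 with rfl | hc1
    · simp
    obtain ⟨u, v, huv, hset⟩ := Nat.card_eq_two_iff.mp hcardC
    haveI : Fintype (commutator G) := Fintype.ofFinite _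
    have hall : ∀ w ∈ commutator G, w ≠ 1 → w = c := fun w hw hw1 => by
      obtain ⟨t, ht1, ht2⟩ := (Nat.card_eq_two_iff' (1 : commutator G)).mp hcardC
      exact congrArg Subtype.val ((ht2 ⟨w, hw⟩ (fun e => hw1 (congrArg Subtype.val e))).trans
        (ht2 ⟨c, hc⟩ (fun e => hc1 (congrArg Subtype.val e))).symm)
    have := hall (g * c * g⁻¹) ((inferInstance : (commutator G).Normal).conj_mem c hc g)
      (fun e => hc1 (by simpa using e))
    exact mul_inv_eq_iff_eq_mul.mp this
  have hZ : Subgroup.center G = commutator G := by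
    refine (Subgroup.eq_of_le_of_card_ge hCle ?_).symm
    have := center_mul_sq_le χ
    rw [ha, hn, hsplit, htwo, ← pow_mul, mul_comm (2 ^ (a * 2)) 2] at this
    rw [hcardC]
    exact Nat.le_of_mul_le_mul_right this (pow_pos hp.pos _)
  refine ⟨⟨hpgrp, le_antisymm ?_ (hZ.le.trans
    (Cfsg.Agent.Lib.PGroups.commutator_le_frattini hpgrp)), hZ.symm⟩, hZ ▸ hcardC⟩
  refine Cfsg.Agent.Lib.PGroups.frattini_le_of_pow_commutator (p := 2) _ (fun x => ?_)
    hCle
  rw [Subgroup.mem_center_iff]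
  intro y
  set c := x * y * x⁻¹ * y⁻¹ with hc
  have hcC : c ∈ commutator G :=
    Subgroup.commutator_mem_commutator (Subgroup.mem_top x) (Subgroup.mem_top y)
  have hc2 : c * c = 1 := by
    have := pow_card_eq_one' (G := commutator G) (x := ⟨c, hcC⟩)
    rw [hcardC, sq] at this
    exact congrArg Subtype.val this
  have hcx := Subgroup.mem_center_iff.mp (hCle hcC) x
  have h1 : x * y * x⁻¹ = c * y := by simp [hc]
  have hxy : x * y = c * y * x := by simp [hc]
  have h2 : x * (x * y) = c * c * (y * (x * x)) := by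
    calc x * (x * y) = x * (c * y * x) := by rw [hxy]
      _ = x * c * (y * x) := by simp only [mul_assoc]
      _ = c * x * (y * x) := by rw [hcx]
      _ = c * (x * y) * x := by simp only [mul_assoc]
      _ = c * (c * y * x) * x := by rw [hxy]
      _ = c * c * (y * (x * x)) := by simp only [mul_assoc]
  rw [hc2, one_mul] at h2
  rw [pow_two, mul_assoc]
  exact h2.symm

theorem backward (h : Cfsg.IsExtraspecial 2 G) :
    Nat.card {χ : Cfsg.IrrCharacter G // 2 ∣ Cfsg.charDegree (χ : G → ℂ)} = 1 := by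
  classical
  have := Fintype.ofFinite G
  obtain ⟨⟨hpg, -, hcomm⟩, hcard⟩ := h
  obtain ⟨n, hn⟩ := IsPGroup.iff_card.mp hpg
  obtain ⟨z, hz1, hz⟩ := (Nat.card_eq_two_iff' (1 : Subgroup.center G)).mp hcard
  have hz2 : (z : G) * z = 1 := by
    have := pow_card_eq_one' (G := Subgroup.center G) (x := z)
    rw [hcard, sq] at this
    exact congrArg Subtype.val this
  have hzm : ∀ c ∈ commutator G, c ≠ 1 → c = (z : G) := fun c hc hc1 => by
    rw [hcomm] at hc
    exact congrArg Subtype.val (hz ⟨c, hc⟩ fun e => hc1 (congrArg Subtype.val e))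
  have heven : ∀ χ : Cfsg.IrrCharacter G,
      2 ∣ Cfsg.charDegree (χ : G → ℂ) ↔ (χ : G → ℂ) 1 ≠ 1 := fun χ => by
    rw [Ne, ← degree_eq_one_iff]
    obtain ⟨j, -, hj⟩ := (Nat.dvd_prime_pow Nat.prime_two).mp (hn ▸ degree_dvd_card χ)
    rw [hj]
    rcases Nat.eq_zero_or_pos j with rfl | hj0
    · simp
    · exact ⟨fun _ e => by simp [hj0.ne'] at e, fun _ => dvd_pow_self 2 hj0.ne'⟩
  have hval : ∀ χ : Cfsg.IrrCharacter G, (χ : G → ℂ) 1 ≠ 1 →
      (χ : G → ℂ) (z : G) = -(χ : G → ℂ) 1 ∧
        ∀ x : G, x ∉ Subgroup.center G → (χ : G → ℂ) x = 0 := by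
    intro χ hχ
    have hzk : (z : G) ∉ charKer χ := by
      intro hk
      apply hχ
      have hle : commutator G ≤ charKer χ := fun c hc => by
        rcases eq_or_ne c 1 with rfl | hc1
        · exact one_mem _
        · exact hzm c hc hc1 ▸ hk
      obtain ⟨χ', hχ'⟩ := exists_deflate χ (commutator G) hle
      rw [← hχ']
      show (χ' : G ⧸ commutator G → ℂ) ((1 : G) : G ⧸ commutator G) = 1
      rw [QuotientGroup.mk_one]
      exact degree_eq_one_of_comm χ' (fun a b => mul_comm (G := Abelianization G) a b)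
    obtain ⟨h1, h2⟩ := apply_eq_zero_of_minus χ z.2 hz2 hzk
    refine ⟨h1, fun x hx => ?_⟩
    obtain ⟨v, hv⟩ := not_forall.mp fun hall => hx (Subgroup.mem_center_iff.mpr hall)
    refine h2 x v ?_
    rw [← mul_inv_eq_iff_eq_mul]
    exact hzm _ (Subgroup.commutator_mem_commutator (Subgroup.mem_top v) (Subgroup.mem_top x))
      (fun e => hv (by rwa [mul_inv_eq_one, mul_inv_eq_iff_eq_mul] at e))
  rw [Nat.card_eq_one_iff_unique]
  refine ⟨⟨fun ⟨a, ha⟩ ⟨b, hb⟩ => Subtype.ext ?_⟩, ?_⟩
  · by_contra hne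
    obtain ⟨a1, a2⟩ := hval a ((heven a).mp ha)
    obtain ⟨b1, b2⟩ := hval b ((heven b).mp hb)
    have h0 := sum_mul_conj_irr a b
    rw [if_neg hne, ← Finset.sum_subset (Finset.subset_univ {1, (z : G)}) (fun x _ hx => by
      have : x ∉ Subgroup.center G := fun hc => by
        simp only [Finset.mem_insert, Finset.mem_singleton, not_or] at hx
        exact hx.2 (congrArg Subtype.val (hz ⟨x, hc⟩ fun e => hx.1 (congrArg Subtype.val e)))
      rw [a2 x this, zero_mul]),
      Finset.sum_pair (a := (1 : G)) (b := (z : G)) (fun e => hz1 (Subtype.ext e.symm)), a1, b1,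
      apply_one a, apply_one b, map_neg, map_natCast, neg_mul_neg, ← two_mul] at h0
    have := mul_ne_zero (two_ne_zero (α := ℂ)) (mul_ne_zero
      (Nat.cast_ne_zero.mpr (degree_pos a).ne' : (Cfsg.charDegree (a : G → ℂ) : ℂ) ≠ 0)
      (Nat.cast_ne_zero.mpr (degree_pos b).ne' : (Cfsg.charDegree (b : G → ℂ) : ℂ) ≠ 0))
    exact this h0
  · by_contra hcon
    have hall : ∀ χ : Cfsg.IrrCharacter G, Cfsg.charDegree (χ : G → ℂ) = 1 := fun χ => by
      by_contra hne
      exact hcon ⟨⟨χ, (heven χ).mpr fun e => hne ((degree_eq_one_iff χ).mpr e)⟩⟩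
    have h1 : (commutator G).index = Nat.card G := by
      have hs := sum_degree_sq (G := G)
      simp only [hall, one_pow, Finset.sum_const, smul_eq_mul, mul_one, Finset.card_univ] at hs
      rw [← card_linear, ← hs, ← Nat.card_eq_fintype_card]
      exact Nat.card_congr (Equiv.subtypeUnivEquiv fun χ => (degree_eq_one_iff χ).mp (hall χ))
    have h2 := (commutator G).index_mul_card
    rw [hcomm, hcard, ← hcomm, h1] at h2
    have := Nat.card_pos (α := G)
    omega

/-- Let p be a prime and G a finite nilpotent group. Then G has exactly one irreducible complex character of degree divisible by p if and only if p = 2 and G is an extraspecial 2-group. -/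
theorem result {G : Type*} [Group G] [Finite G] [Group.IsNilpotent G] (p : ℕ) [Fact p.Prime] : Nat.card {χ : Cfsg.IrrCharacter G // p ∣ Cfsg.charDegree (χ : G → ℂ)} = 1 ↔ (p = 2 ∧ Cfsg.IsExtraspecial 2 G) := by
  exact ⟨forward, fun ⟨hp, h⟩ => by subst hp; exact backward h⟩

end Cfsg.Agent.S4762
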