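import Cfsg.Statements.S4763
import Cfsg.Agent.S4452
import Cfsg.Agent.Lib.BlocksChars5.Restrict
import Cfsg.Agent.Lib.PPrimeDegree.Basic
import Cfsg.Agent.Lib.Chars82.PGroupChars
import Cfsg.Agent.Lib.Characters.Complete

set_option autoImplicit false
open Cfsg

namespace Cfsg.Agent.S4763

/-- Let p be a prime and G a finite group that is not nilpotent and has a normal p-complement (a normal subgroup of order prime to p and index a power of p). If G has exactly one irreducible complex character of degree divisible by p, then G has exactly one conjugacy class whose size is divisible by p. -/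
theorem result {G : Type*} [Group G] [Finite G] (p : ℕ) [Fact p.Prime] (hnil : ¬ Group.IsNilpotent G) (N : Subgroup G) [N.Normal] (hN : (Nat.card N).Coprime p) (hidx : ∃ k : ℕ, N.index = p ^ k) (hone : Nat.card {χ : Cfsg.IrrCharacter G // p ∣ Cfsg.charDegree (χ : G → ℂ)} = 1) : Nat.card {C : ConjClasses G // p ∣ Nat.card C.carrier} = 1 := by
  classical
  haveI := Fintype.ofFinite G
  have hp : p.Prime := Fact.out
  obtain ⟨k, hk⟩ := hidx
  obtain ⟨P⟩ : Nonempty (Sylow p G) := inferInstance
  have hcardG : Nat.card G = Nat.card N * p ^ k := by rw [← hk, Subgroup.card_mul_index]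
  have hP : Nat.card (P : Subgroup G) = p ^ k := by
    rw [P.card_eq_multiplicity, hcardG, Nat.factorization_mul Nat.card_pos.ne' (pow_ne_zero _ hp.ne_zero),
      Finsupp.add_apply, hp.factorization_pow, Finsupp.single_eq_same,
      Nat.factorization_eq_zero_of_not_dvd ((hp.coprime_iff_not_dvd).1 hN.symm), zero_add]
  have hcop : (Nat.card N).Coprime (Nat.card (P : Subgroup G)) := by
    rw [hP]; exact hN.pow_right k
  have hsup : N ⊔ (P : Subgroup G) = ⊤ := by
    refine Subgroup.eq_top_of_card_eq _ (Nat.dvd_antisymm (Subgroup.card_subgroup_dvd_card _) ?_)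
    rw [hcardG, ← hP]
    exact hcop.mul_dvd_of_dvd_of_dvd (Subgroup.card_dvd_of_le le_sup_left)
      (Subgroup.card_dvd_of_le le_sup_right)
  obtain ⟨⟨⟨χ₀, hχ₀⟩⟩, hsub⟩ : Nonempty {χ : Cfsg.IrrCharacter G // p ∣ Cfsg.charDegree (χ : G → ℂ)} ∧
      Subsingleton {χ : Cfsg.IrrCharacter G // p ∣ Cfsg.charDegree (χ : G → ℂ)} :=
    (Nat.card_eq_one_iff_unique.1 hone).symm
  have huniq : ∀ χ : Cfsg.IrrCharacter G, p ∣ Cfsg.charDegree (χ : G → ℂ) → χ = χ₀ := fun χ h =>
    congrArg Subtype.val (Subsingleton.elim (⟨χ, h⟩ :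
      {χ : Cfsg.IrrCharacter G // p ∣ Cfsg.charDegree (χ : G → ℂ)}) ⟨χ₀, hχ₀⟩)
  have hk0 : k ≠ 0 := by
    intro h0
    have h := hχ₀.trans (Cfsg.Agent.Lib.BlocksChars5.Basic.degree_dvd_card χ₀)
    rw [hcardG, h0, pow_zero, mul_one] at h
    exact (hp.coprime_iff_not_dvd).1 hN.symm h
  -- the complement is abelian
  have habq : ∀ a b : G ⧸ N, a * b = b * a := by
    by_contra hna
    push Not at hna
    obtain ⟨a, b, hab⟩ := hna
    obtain ⟨β, hβ1, -⟩ := Cfsg.Agent.Lib.Chars82.PGroupChars.exists_nonlinear_of_ne_one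
      (Subgroup.commutator_mem_commutator (Subgroup.mem_top a) (Subgroup.mem_top b))
      (fun e => hab (commutatorElement_eq_one_iff_mul_comm.1 e))
    have hdβ : p ∣ Cfsg.charDegree (β : G ⧸ N → ℂ) := by
      have h := Cfsg.Agent.Lib.BlocksChars5.Basic.degree_dvd_card β
      rw [← Subgroup.index_eq_card, hk] at h
      obtain ⟨i, -, hi⟩ := (Nat.dvd_prime_pow hp).1 h
      rcases Nat.eq_zero_or_pos i with rfl | hi0
      · exact absurd (by rw [Cfsg.Agent.Lib.BlocksChars5.Basic.apply_one, hi, pow_zero, Nat.cast_one])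
          hβ1
      · rw [hi]; exact dvd_pow_self p hi0.ne'
    set b₀ := Cfsg.Agent.Lib.BlocksChars5.Basic.inflate N β with hb₀
    have hdb : p ∣ Cfsg.charDegree (b₀ : G → ℂ) := by
      exact hdβ
    have hNb := Cfsg.Agent.Lib.BlocksChars5.Basic.le_charKer_inflate N β
    have hN1 : N ≠ ⊥ := by
      intro h
      exact hnil (IsPGroup.of_card (p := p) (G := G) (n := k)
        (by rw [hcardG, h, Subgroup.card_bot, one_mul])).isNilpotent
    obtain ⟨n, hn, hn1⟩ := (Subgroup.bot_or_exists_ne_one N).resolve_left hN1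
    obtain ⟨χ, -, hχn⟩ := Cfsg.Agent.Lib.BlocksChars5.Basic.exists_not_mem_charKer (⊥ : Subgroup G) n
      (fun h => hn1 (Subgroup.mem_bot.1 h))
    by_cases hpd : p ∣ Cfsg.charDegree (χ : G → ℂ)
    · rw [huniq χ hpd, ← huniq b₀ hdb] at hχn
      exact hχn (hNb hn)
    haveI := Fintype.ofFinite N
    have hirr := Cfsg.Agent.Lib.BlocksChars5.Restrict.mul_irr_of_restrict_irr N χ b₀
      (Cfsg.Agent.Lib.BlocksChars5.Restrict.restrict_irr_of_coprime N χ (by
        rw [hk]; exact (((hp.coprime_iff_not_dvd).2 hpd).symm).pow_right k)) hNb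
    have hdeg : Cfsg.charDegree ((b₀ : G → ℂ) * (χ : G → ℂ)) =
        Cfsg.charDegree (b₀ : G → ℂ) * Cfsg.charDegree (χ : G → ℂ) := by
      have h := Cfsg.Agent.Lib.BlocksChars5.Basic.apply_one ⟨_, hirr⟩
      simp only [Pi.mul_apply, Cfsg.Agent.Lib.BlocksChars5.Basic.apply_one] at h
      exact_mod_cast h.symm
    have e := huniq ⟨_, hirr⟩ (by rw [hdeg]; exact hdb.mul_right _)
    rw [← huniq b₀ hdb] at e
    have e' : (b₀ : G → ℂ) * (χ : G → ℂ) = (b₀ : G → ℂ) := congrArg Subtype.val e
    have hb1 := Cfsg.Agent.Lib.Characters.Basic.apply_one_ne_zero b₀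
    have hn' : (b₀ : G → ℂ) n = (b₀ : G → ℂ) 1 := hNb hn
    have v1 := congrFun e' n
    have v2 := congrFun e' 1
    rw [Pi.mul_apply, hn'] at v1
    rw [Pi.mul_apply] at v2
    exact hχn ((mul_left_cancel₀ hb1 (v1.trans v2.symm)))
  have hPab : ∀ x ∈ (P : Subgroup G), ∀ y ∈ (P : Subgroup G), x * y = y * x := by
    intro x hx y hy
    have h := habq x y
    rw [← QuotientGroup.mk_mul, ← QuotientGroup.mk_mul, QuotientGroup.eq] at h
    have hPm : (x * y)⁻¹ * (y * x) ∈ (P : Subgroup G) :=
      mul_mem (inv_mem (mul_mem hx hy)) (mul_mem hy hx)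
    have : (x * y)⁻¹ * (y * x) ∈ N ⊓ (P : Subgroup G) := ⟨h, hPm⟩
    rwa [Subgroup.inf_eq_bot_of_coprime hcop, Subgroup.mem_bot, inv_mul_eq_one] at this
  set M : Subgroup G := Subgroup.normalizer ((P : Subgroup G) : Set G) with hM
  have hMC : ∀ g ∈ M, ∀ y ∈ (P : Subgroup G), g * y = y * g := by
    intro g hg y hy
    obtain ⟨n, hn, z, hz, rfl⟩ : ∃ n ∈ N, ∃ z ∈ (P : Subgroup G), n * z = g :=
      Subgroup.mem_sup_of_normal_left.mp (hsup ▸ Subgroup.mem_top g)
    have hnM : n ∈ M := by
      have h := mul_mem hg (inv_mem (Subgroup.le_normalizer hz : z ∈ M))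
      rwa [mul_inv_cancel_right] at h
    have hc : n * y * n⁻¹ * y⁻¹ ∈ N ⊓ (P : Subgroup G) :=
      ⟨by
          have := mul_mem hn ((inferInstance : N.Normal).conj_mem _ (inv_mem hn) y)
          simpa [mul_assoc] using this,
        (P : Subgroup G).mul_mem ((Subgroup.mem_normalizer_iff.1 hnM y).1 hy)
          ((P : Subgroup G).inv_mem hy)⟩
    rw [Subgroup.inf_eq_bot_of_coprime hcop, Subgroup.mem_bot, mul_inv_eq_one,
      mul_inv_eq_iff_eq_mul] at hc
    rw [mul_assoc, hPab z hz y hy, ← mul_assoc, hc, mul_assoc]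
  -- characters
  haveI : ((P : Subgroup G).subgroupOf M).Normal :=
    Subgroup.normal_subgroupOf_iff_le_normalizer (Subgroup.le_normalizer) |>.2 le_rfl
  have hPsolv : Group.IsSolvable (P : Subgroup G) :=
    haveI := P.2.isNilpotent
    inferInstance
  have hcopiff : ∀ d : ℕ, d.Coprime (Nat.card (P : Subgroup G)) ↔ ¬ p ∣ d := fun d => by
    rw [hP, Nat.coprime_pow_right_iff (Nat.pos_of_ne_zero hk0), Nat.coprime_comm,
      hp.coprime_iff_not_dvd]
  have hMall : ∀ η : Cfsg.IrrCharacter M,
      (Cfsg.charDegree (η : M → ℂ)).Coprime (Nat.card (P : Subgroup G)) := by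
    intro η
    rw [hcopiff, Cfsg.Agent.Lib.PPrimeDegree.Basic.not_dvd_degree_iff ((P : Subgroup G).subgroupOf M)
      (P.2.comap_subtype) ?_ η]
    · rw [Subgroup.commutator_le]
      intro a ha b hb
      have e : a * b = b * a := Subtype.ext (hPab _ ha _ hb)
      rw [commutatorElement_eq_one_iff_mul_comm.2 e]
      exact one_mem _
    · intro h
      exact P.not_dvd_index (h.trans (Subgroup.relIndex_dvd_index_of_le Subgroup.le_normalizer))
  have hmck := Cfsg.Agent.S4452.result N (P : Subgroup G) hsup hcop hPsolv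
  have hR : Nat.card {η : Cfsg.IrrCharacter M //
      (Cfsg.charDegree (η : M → ℂ)).Coprime (Nat.card (P : Subgroup G))} =
      Nat.card (ConjClasses M) := by
    rw [Nat.card_congr (Equiv.subtypeUnivEquiv hMall),
      Cfsg.Agent.Lib.Characters.Complete.card_irr_eq_card_conjClasses]
  have hL : Nat.card {χ : Cfsg.IrrCharacter G //
      (Cfsg.charDegree (χ : G → ℂ)).Coprime (Nat.card (P : Subgroup G))} + 1 =
      Nat.card (ConjClasses G) := by
    rw [Nat.card_congr (Equiv.subtypeEquivRight fun χ : Cfsg.IrrCharacter G => hcopiff _),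
      ← Cfsg.Agent.Lib.Characters.Complete.card_irr_eq_card_conjClasses, ← hone, add_comm,
      ← Nat.card_sum, Nat.card_congr (Equiv.sumCompl _)]
  rw [hmck, hR] at hL
  -- classes
  haveI : Finite (ConjClasses G) := Finite.of_surjective _ ConjClasses.mk_surjective
  have hsize : ∀ g : G, Nat.card (ConjClasses.mk g).carrier =
      (Subgroup.centralizer ({g} : Set G)).index := by
    intro g
    have h := Cfsg.Agent.Lib.Characters.Complete.card_conjugates_mul_centralizer g
    rw [← (Subgroup.centralizer ({g} : Set G)).index_mul_card] at h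
    rw [← Nat.eq_of_mul_eq_mul_right Nat.card_pos h]
    exact Nat.card_congr (Equiv.subtypeEquivRight fun x => by
      show x ∈ (ConjClasses.mk g).carrier ↔ _
      rw [ConjClasses.mem_carrier_iff_mk_eq, ConjClasses.mk_eq_mk_iff_isConj]
      exact isConj_comm)
  have himg : ∀ C : ConjClasses G, ¬ p ∣ Nat.card C.carrier ↔
      ∃ D : ConjClasses M, ConjClasses.map M.subtype D = C := by
    intro C
    obtain ⟨g, rfl⟩ := ConjClasses.mk_surjective C
    rw [hsize]
    constructor
    · intro hg
      obtain ⟨S⟩ : Nonempty (Sylow p (Subgroup.centralizer ({g} : Set G))) := inferInstance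
      have hc : Nat.card ((S : Subgroup (Subgroup.centralizer ({g} : Set G))).map
          (Subgroup.centralizer ({g} : Set G)).subtype) = Nat.card (P : Subgroup G) := by
        rw [Subgroup.card_map_of_injective (Subgroup.subtype_injective _), S.card_eq_multiplicity,
          P.card_eq_multiplicity]
        congr 1
        rw [← (Subgroup.centralizer ({g} : Set G)).card_mul_index, Nat.factorization_mul
          Nat.card_pos.ne' Subgroup.index_ne_zero_of_finite, Finsupp.add_apply,
          Nat.factorization_eq_zero_of_not_dvd hg, add_zero]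
      let T : Sylow p G := Sylow.ofCard _ (hc.trans P.card_eq_multiplicity)
      obtain ⟨h, hh⟩ := MulAction.exists_smul_eq G T P
      have hm : h * g * h⁻¹ ∈ M := by
        refine Subgroup.mem_normalizer_iff.2 fun y => ?_
        have hcomm : ∀ z ∈ (P : Subgroup G), h * g * h⁻¹ * z = z * (h * g * h⁻¹) := by
          intro z hz
          rw [← hh] at hz
          obtain ⟨t, ht, rfl⟩ := hz
          obtain ⟨t', -, rfl⟩ := ht
          have hgt : (t' : G) * g = g * t' := Subgroup.mem_centralizer_singleton_iff.1 t'.2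
          show h * g * h⁻¹ * (h * (t' : G) * h⁻¹) = h * (t' : G) * h⁻¹ * (h * g * h⁻¹)
          calc h * g * h⁻¹ * (h * (t' : G) * h⁻¹) = h * (g * t') * h⁻¹ := by group
            _ = h * ((t' : G) * g) * h⁻¹ := by rw [hgt]
            _ = _ := by group
        refine ⟨fun hy => ?_, fun hy => ?_⟩
        · rw [hcomm y hy, mul_inv_cancel_right]; exact hy
        · have e := hcomm _ hy
          have e' : h * g * h⁻¹ * y * (h * g * h⁻¹)⁻¹ = y :=
            (mul_left_cancel (e.trans (by group)))
          rwa [e'] at hy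
      exact ⟨ConjClasses.mk ⟨_, hm⟩, ConjClasses.mk_eq_mk_iff_isConj.2
        (isConj_iff.2 ⟨h, rfl⟩ : IsConj g (h * g * h⁻¹)).symm⟩
    · rintro ⟨D, hD⟩
      obtain ⟨m, rfl⟩ := ConjClasses.mk_surjective D
      rw [← hsize, ← hD]
      show ¬ p ∣ Nat.card (ConjClasses.mk (m : G)).carrier
      rw [hsize]
      exact fun hdvd => P.not_dvd_index (hdvd.trans (Subgroup.index_dvd_of_le fun y hy =>
        Subgroup.mem_centralizer_singleton_iff.2 (hMC m m.2 y hy).symm))
  have hinj : Function.Injective (ConjClasses.map M.subtype) := by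
    intro A B hAB
    obtain ⟨a, rfl⟩ := ConjClasses.mk_surjective A
    obtain ⟨b, rfl⟩ := ConjClasses.mk_surjective B
    obtain ⟨h, hh⟩ := isConj_iff.1 (ConjClasses.mk_eq_mk_iff_isConj.1 hAB)
    change h * (a : G) * h⁻¹ = b at hh
    set C := Subgroup.centralizer ({(b : G)} : Set G) with hC
    have hPC : (P : Subgroup G) ≤ C := fun y hy =>
      Subgroup.mem_centralizer_singleton_iff.2 (hMC b b.2 y hy).symm
    have hPC' : ((h • P : Sylow p G) : Subgroup G) ≤ C := by
      rintro _ ⟨y, hy, rfl⟩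
      refine Subgroup.mem_centralizer_singleton_iff.2 ?_
      show h * y * h⁻¹ * b = b * (h * y * h⁻¹)
      rw [← hh]
      calc h * y * h⁻¹ * (h * (a : G) * h⁻¹) = h * (y * a) * h⁻¹ := by group
        _ = h * ((a : G) * y) * h⁻¹ := by rw [hMC a a.2 y hy]
        _ = _ := by group
    obtain ⟨c, hc⟩ := MulAction.exists_smul_eq C ((h • P).subtype hPC') (P.subtype hPC)
    rw [Sylow.smul_subtype] at hc
    have hfix : ((c : G) * h) • P = P := by rw [mul_smul]; exact Sylow.subtype_injective hc
    have hchM : (c : G) * h ∈ M := by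
      rw [hM]
      exact Sylow.smul_eq_iff_mem_normalizer.1 hfix
    refine ConjClasses.mk_eq_mk_iff_isConj.2 (isConj_iff.2 ⟨⟨_, hchM⟩, Subtype.ext ?_⟩)
    have hcb : (c : G) * b = b * c := Subgroup.mem_centralizer_singleton_iff.1 c.2
    show (c : G) * h * (a : G) * ((c : G) * h)⁻¹ = b
    calc (c : G) * h * (a : G) * ((c : G) * h)⁻¹ = (c : G) * (h * (a : G) * h⁻¹) * (c : G)⁻¹ := by
          group
      _ = b := by rw [hh, hcb, mul_inv_cancel_right]
  have hgood : Nat.card (ConjClasses M) = Nat.card {C : ConjClasses G // ¬ p ∣ Nat.card C.carrier} :=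
    Nat.card_congr ((Equiv.ofInjective _ hinj).trans
      (Equiv.subtypeEquivRight fun C => by rw [himg]; exact Set.mem_range))
  have htot : Nat.card {C : ConjClasses G // p ∣ Nat.card C.carrier} +
      Nat.card {C : ConjClasses G // ¬ p ∣ Nat.card C.carrier} = Nat.card (ConjClasses G) := by
    rw [← Nat.card_sum, Nat.card_congr (Equiv.sumCompl _)]
  omega

end Cfsg.Agent.S4763
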