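import Cfsg.Statements.S4765
import Cfsg.Agent.Lib.Elem70.Degrees.SL2Deg
-- import your own Cfsg.Agent.* helpers here

set_option autoImplicit false
open Cfsg

namespace Cfsg.Agent.S4765

/-- Let F be a finite field of characteristic p with at least 4 elements. Then PSL(2,F) has exactly one irreducible complex character of degree divisible by p, and its degree is the order of F. -/
theorem result (p : ℕ) [Fact p.Prime] (F : Type*) [Field F] [Fintype F] [CharP F p] (hF : 4 ≤ Fintype.card F) : Nat.card {χ : Cfsg.IrrCharacter (Matrix.ProjectiveSpecialLinearGroup (Fin 2) F) // p ∣ Cfsg.charDegree (χ : Matrix.ProjectiveSpecialLinearGroup (Fin 2) F → ℂ)} = 1 ∧ ∀ χ : Cfsg.IrrCharacter (Matrix.ProjectiveSpecialLinearGroup (Fin 2) F), p ∣ Cfsg.charDegree (χ : Matrix.ProjectiveSpecialLinearGroup (Fin 2) F → ℂ) → Cfsg.charDegree (χ : Matrix.ProjectiveSpecialLinearGroup (Fin 2) F → ℂ) = Fintype.card F := by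
  classical
  open Cfsg.Agent.Lib.Elem70.Degrees.SL2Deg Cfsg.Agent.Lib.SL2Chars49
    Cfsg.Agent.Lib.Characters in
  set q := Fintype.card F with hq
  have hp : p.Prime := Fact.out
  obtain ⟨n, -, hn⟩ := FiniteField.card F p
  have hpq : p ∣ q := by
    rw [hq, hn]
    exact dvd_pow_self p n.ne_zero
  have hdeg : ∀ φ : Cfsg.IrrCharacter (Matrix.ProjectiveSpecialLinearGroup (Fin 2) F),
      p ∣ Cfsg.charDegree (φ : Matrix.ProjectiveSpecialLinearGroup (Fin 2) F → ℂ) →
      (φ : Matrix.ProjectiveSpecialLinearGroup (Fin 2) F → ℂ) 1 = (q : ℕ) := by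
    intro φ h
    obtain ⟨d, -, hd⟩ := Basic.exists_degree_pos φ
    rw [McKay.charDegree_of_eq hd] at h
    obtain ⟨χ, hχ⟩ := exists_lift φ
    have hno : ∀ m : ℕ, p ∣ m → p ∣ m + 1 → False := fun m a b =>
      hp.not_dvd_one ((Nat.dvd_add_right a).1 b)
    rcases deg_cases χ (hχ.trans hd) with r | r | r | r | ⟨-, r | r⟩
    · exact absurd (r ▸ h) hp.not_dvd_one
    · rw [hd, r]
    · exact (hno q hpq (r ▸ h)).elim
    · exact (hno d h (r ▸ hpq)).elim
    · exact (hno q hpq (r ▸ dvd_mul_of_dvd_right h 2)).elim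
    · exact (hno (2 * d) (dvd_mul_of_dvd_right h 2) (r ▸ hpq)).elim
  refine ⟨?_, fun φ h => McKay.charDegree_of_eq (hdeg φ h)⟩
  rw [Nat.card_eq_one_iff_unique]
  refine ⟨⟨fun ⟨φ, h⟩ ⟨ψ, h'⟩ => Subtype.ext (Subtype.ext (funext fun g => ?_))⟩, ?_⟩
  · have lift : ∀ φ : Cfsg.IrrCharacter (Matrix.ProjectiveSpecialLinearGroup (Fin 2) F),
        (φ : Matrix.ProjectiveSpecialLinearGroup (Fin 2) F → ℂ) 1 = (q : ℕ) →
        ∀ x : Matrix.SpecialLinearGroup (Fin 2) F,
          (φ : Matrix.ProjectiveSpecialLinearGroup (Fin 2) F → ℂ)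
            (QuotientGroup.mk' (Subgroup.center _) x) = st x := fun φ h1 x => by
      obtain ⟨C, hC, hcard⟩ := exists_C (F := F)
      have := eq_st_of_deg hC hcard (Basic.isIrrCharacter_comp
        (QuotientGroup.mk' (Subgroup.center (Matrix.SpecialLinearGroup (Fin 2) F)))
        (QuotientGroup.mk'_surjective _) φ.2) (by simpa using h1)
      exact congrFun this x
    obtain ⟨x, rfl⟩ := QuotientGroup.mk'_surjective _ g
    rw [lift φ (hdeg φ h), lift ψ (hdeg ψ h')]
  · obtain ⟨φ, hφ⟩ := exists_deg_q (F := F)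
    exact ⟨⟨φ, by rw [McKay.charDegree_of_eq hφ]; exact hpq⟩⟩

end Cfsg.Agent.S4765
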