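import Cfsg.Statements.S4775
import Cfsg.Agent.Lib.SzDegrees.Main
import Cfsg.Agent.Lib.Elem70.Degrees.SL2Deg
import Cfsg.Agent.Lib.LieTwisted.SuzukiBruhat
-- import your own Cfsg.Agent.* helpers here

set_option autoImplicit false
open Cfsg Cfsg.Agent.Lib Cfsg.Agent.Lib.LieTwisted.Suzuki Cfsg.Agent.Lib.Elem70.Degrees

namespace Cfsg.Agent.S4775

/-- Let F be a finite field with q = 2^(2m+1) ≥ 8 elements and let S be isomorphic to the Suzuki group over F. Then the vertices of the character degree graph of S are 2 and the primes dividing (q − 1)(q² + 1); the primes dividing (q − 1)(q² + 1) are pairwise adjacent, and 2 is adjacent exactly to the primes dividing q − 1. -/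
theorem result (F : Type*) [Field F] [Fintype F] (m : ℕ) (hm : 1 ≤ m) (q : ℕ) (hq : Fintype.card F = q) (hqm : q = 2 ^ (2 * m + 1)) {S : Type*} [Group S] [Finite S] (hS : Nonempty (S ≃* ↥(Cfsg.Lie.Sz F (2 ^ (m + 1))))) : Cfsg.degreePrimes S = {r : ℕ | r.Prime ∧ (r = 2 ∨ r ∣ (q - 1) * (q ^ 2 + 1))} ∧ ∀ r s : ℕ, (Cfsg.degreeGraph S).Adj r s ↔ (r ≠ s ∧ r.Prime ∧ s.Prime ∧ ((r ∣ (q - 1) * (q ^ 2 + 1) ∧ s ∣ (q - 1) * (q ^ 2 + 1)) ∨ (r = 2 ∧ s ∣ q - 1) ∨ (s = 2 ∧ r ∣ q - 1))) := by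
  classical
  have h : IsSzField F m := ⟨hq.trans hqm⟩
  obtain ⟨e⟩ := hS
  haveI : Finite (Cfsg.Sz F m) := Finite.of_equiv _ (e.trans (szEquiv h hm).symm).toEquiv
  haveI : Fintype (Cfsg.Sz F m) := Fintype.ofFinite _
  haveI : Fintype (Cfsg.IrrCharacter (Cfsg.Sz F m)) := Fintype.ofFinite _
  obtain ⟨a, b, hab, ⟨χp, hχp⟩, ⟨χa, hχa⟩, ⟨χb, hχb⟩, ⟨χe, ne, hχe, hne2, hneq⟩, hcop⟩ :=
    SzDegrees.exists_facts h hm
  have hdeg := SL2Deg.charDegrees_congr (e.trans (szEquiv h hm).symm)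
  obtain ⟨hq2, hqe⟩ := SzTori.card_facts h hm
  rw [hq] at hab hχp hχa hχb hneq hcop hq2 hqe
  have hmem : ∀ (χ : Cfsg.IrrCharacter (Cfsg.Sz F m)) (d : ℕ), (χ : Cfsg.Sz F m → ℂ) 1 = d →
      d ∈ Cfsg.charDegrees S := fun χ d hd => by
    rw [hdeg, SL2Deg.mem_charDegrees]; exact ⟨χ, hd⟩
  -- every prime divisor of a degree is `2` or divides `(q - 1) (q ^ 2 + 1)`
  have hdvd : ∀ (d r : ℕ), d ∈ Cfsg.charDegrees S → r.Prime → r ∣ d →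
      r = 2 ∨ r ∣ (q - 1) * (q ^ 2 + 1) := by
    intro d r hd hr hrd
    rw [hdeg, SL2Deg.mem_charDegrees] at hd
    obtain ⟨χ, hχ⟩ := hd
    have h1 := BlocksChars5.Basic.degree_dvd_card χ
    rw [SL2Chars49.McKay.charDegree_of_eq hχ, h.card_group hm, hq, mul_assoc] at h1
    rcases hr.dvd_mul.1 (hrd.trans h1) with h2 | h2
    · rw [hqm, ← pow_mul] at h2
      exact Or.inl ((Nat.prime_dvd_prime_iff_eq hr Nat.prime_two).1 (hr.dvd_of_dvd_pow h2))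
    · exact Or.inr (by rwa [mul_comm])
  have hadj : ∀ r s : ℕ, r ≠ s → r.Prime → s.Prime → r ∣ (q - 1) * (q ^ 2 + 1) →
      s ∣ (q - 1) * (q ^ 2 + 1) → ∃ d ∈ Cfsg.charDegrees S, r * s ∣ d := by
    intro r s hne hr hs hrd hsd
    have hc := (Nat.coprime_primes hr hs).2 hne
    have mix : ∀ x y : ℕ, x.Prime → y.Prime → x.Coprime y → x ∣ q - 1 → y ∣ q ^ 2 + 1 →
        ∃ d ∈ Cfsg.charDegrees S, x * y ∣ d := by
      intro x y _ hy hxy hx hy'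
      rw [← hab] at hy'
      rcases hy.dvd_mul.1 hy' with h2 | h2
      · exact ⟨_, hmem χa _ hχa, hxy.mul_dvd_of_dvd_of_dvd (hx.mul_right _) (h2.mul_left _)⟩
      · exact ⟨_, hmem χb _ hχb, hxy.mul_dvd_of_dvd_of_dvd (hx.mul_right _) (h2.mul_left _)⟩
    rcases hr.dvd_mul.1 hrd with h1 | h1 <;> rcases hs.dvd_mul.1 hsd with h2 | h2
    · exact ⟨_, hmem χe ne hχe, (hc.mul_dvd_of_dvd_of_dvd h1 h2).trans hneq⟩
    · exact mix r s hr hs hc h1 h2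
    · obtain ⟨d, hd, hd'⟩ := mix s r hs hr hc.symm h2 h1
      exact ⟨d, hd, by rwa [mul_comm]⟩
    · exact ⟨_, hmem χp _ hχp, hc.mul_dvd_of_dvd_of_dvd h1 h2⟩
  have htwo : ∀ s : ℕ, s.Prime → s ≠ 2 → s ∣ q - 1 → ∃ d ∈ Cfsg.charDegrees S, 2 * s ∣ d :=
    fun s hs hs2 hsd => ⟨_, hmem χe ne hχe,
      ((Nat.coprime_primes Nat.prime_two hs).2 hs2.symm).mul_dvd_of_dvd_of_dvd hne2 (hsd.trans hneq)⟩
  have hnone : ∀ s d : ℕ, d ∈ Cfsg.charDegrees S → s.Prime → s ≠ 2 → 2 * s ∣ d → s ∣ q - 1 := by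
    intro s d hd hs hs2 hsd
    rcases hdvd d s hd hs (dvd_trans (dvd_mul_left s 2) hsd) with rfl | h1
    · exact absurd rfl hs2
    refine (hs.dvd_mul.1 h1).resolve_right fun h2 => ?_
    rw [hdeg, SL2Deg.mem_charDegrees] at hd
    obtain ⟨χ, hχ⟩ := hd
    exact Nat.not_coprime_of_dvd_of_dvd hs.one_lt (dvd_trans (dvd_mul_left s 2) hsd) h2
      (hcop χ d hχ (dvd_trans (dvd_mul_right 2 s) hsd))
  refine ⟨Set.ext fun r => ⟨?_, ?_⟩, fun r s => ⟨?_, ?_⟩⟩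
  · rintro ⟨hr, d, hd, hrd⟩
    exact ⟨hr, hdvd d r hd hr hrd⟩
  · rintro ⟨hr, rfl | hrd⟩
    · exact ⟨hr, _, hmem χe ne hχe, hne2⟩
    · rcases hr.dvd_mul.1 hrd with h1 | h1
      · exact ⟨hr, _, hmem χe ne hχe, h1.trans hneq⟩
      · exact ⟨hr, _, hmem χp _ hχp, h1⟩
  · rintro ⟨hne, hr, hs, d, hd, hrs⟩
    refine ⟨hne, hr, hs, ?_⟩
    rcases hdvd d r hd hr (dvd_trans (dvd_mul_right r s) hrs) with rfl | h1
    · exact Or.inr (Or.inl ⟨rfl, hnone s d hd hs hne.symm hrs⟩)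
    rcases hdvd d s hd hs (dvd_trans (dvd_mul_left s r) hrs) with rfl | h2
    · exact Or.inr (Or.inr ⟨rfl, hnone r d hd hr hne (by rwa [mul_comm])⟩)
    exact Or.inl ⟨h1, h2⟩
  · rintro ⟨hne, hr, hs, ⟨h1, h2⟩ | ⟨rfl, h2⟩ | ⟨rfl, h1⟩⟩
    · exact ⟨hne, hr, hs, hadj r s hne hr hs h1 h2⟩
    · exact ⟨hne, hr, hs, htwo s hs hne.symm h2⟩
    · obtain ⟨d, hd, hd'⟩ := htwo r hr hne h1
      exact ⟨hne, hr, hs, d, hd, by rwa [mul_comm]⟩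

end Cfsg.Agent.S4775
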