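import Cfsg.Statements.S4776
import Cfsg.Agent.Lib.RelDegrees87.Main

set_option autoImplicit false
open Cfsg

namespace Cfsg.Agent.S4776

/-- Let N be a normal subgroup of the finite group G that is not perfect and is contained in the derived subgroup of G. Consider the common-divisor graph on the relative degree set cd(G|N) (the degrees of the irreducible complex characters of G whose kernel does not contain N; two distinct degrees adjacent when they have a common divisor greater than one). Then this graph has at most two connected components; and if a, b ∈ cd(G|N) lie in different components, then one of a, b is coprime to the index m of the derived subgroup of N in N while the other is divisible by every prime divisor of m. -/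
theorem result {G : Type*} [Group G] [Finite G] (N : Subgroup G) [N.Normal] (hN : ⁅N, N⁆ < N) (hNG : N ≤ commutator G) : Nat.card (Cfsg.commonDivisorGraph.induce (Cfsg.relCharDegrees N)).ConnectedComponent ≤ 2 ∧ ∀ (a b : ℕ) (ha : a ∈ Cfsg.relCharDegrees N) (hb : b ∈ Cfsg.relCharDegrees N), ¬ (Cfsg.commonDivisorGraph.induce (Cfsg.relCharDegrees N)).Reachable ⟨a, ha⟩ ⟨b, hb⟩ → (Nat.Coprime a (⁅N, N⁆.relIndex N) ∧ ∀ r : ℕ, r.Prime → r ∣ ⁅N, N⁆.relIndex N → r ∣ b) ∨ (Nat.Coprime b (⁅N, N⁆.relIndex N) ∧ ∀ r : ℕ, r.Prime → r ∣ ⁅N, N⁆.relIndex N → r ∣ a) := by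
  classical
  haveI := Fintype.ofFinite G
  haveI := Fintype.ofFinite N
  have hidx : (commutator N).index = ⁅N, N⁆.relIndex N := by
    rw [Subgroup.relIndex, ← Subgroup.map_subtype_commutator,
      ← Subgroup.comap_subtype, Subgroup.comap_map_eq_self_of_injective N.subtype_injective]
  obtain ⟨r, hr, hrI⟩ : ∃ r : ℕ, r.Prime ∧ r ∣ ⁅N, N⁆.relIndex N :=
    Nat.exists_prime_and_dvd fun h => hN.not_ge (Subgroup.relIndex_eq_one.mp h)
  have hconn : ∀ (r s : ℕ), r.Prime → s.Prime → r ∣ ⁅N, N⁆.relIndex N →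
      s ∣ ⁅N, N⁆.relIndex N → ∀ a ∈ Cfsg.relCharDegrees N, ∀ b ∈ Cfsg.relCharDegrees N,
      ¬ r ∣ a → ¬ s ∣ b → Lib.RelDegrees87.Main.Conn N a b := by
    intro r s hr hs hrI hsI a ha b hb hra hsb
    haveI : Fact r.Prime := ⟨hr⟩
    haveI : Fact s.Prime := ⟨hs⟩
    exact Lib.RelDegrees87.Main.conn_of_not_dvd_two N hNG (hidx ▸ hrI) (hidx ▸ hsI) ha hb hra hsb
  refine ⟨?_, ?_⟩
  · let f : (Cfsg.commonDivisorGraph.induce (Cfsg.relCharDegrees N)).ConnectedComponent → Bool :=
      fun C => decide (r ∣ (Quot.out C : ↥(Cfsg.relCharDegrees N)).1)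
    have hf : Function.Injective f := by
      intro C D h
      have hiff : r ∣ (Quot.out C : ↥(Cfsg.relCharDegrees N)).1 ↔
          r ∣ (Quot.out D : ↥(Cfsg.relCharDegrees N)).1 := decide_eq_decide.mp h
      have key : Lib.RelDegrees87.Main.Conn N (Quot.out C : ↥(Cfsg.relCharDegrees N)).1
          (Quot.out D : ↥(Cfsg.relCharDegrees N)).1 := by
        by_cases hd : r ∣ (Quot.out C : ↥(Cfsg.relCharDegrees N)).1
        · exact Lib.RelDegrees87.Main.conn_of_dvd N (Quot.out C).2 (Quot.out D).2 hr.one_lt hd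
            (hiff.mp hd)
        · exact hconn r r hr hr hrI hrI _ (Quot.out C).2 _ (Quot.out D).2 hd
            (fun h' => hd (hiff.mpr h'))
      obtain ⟨ha, hb, hreach⟩ := key
      rw [← Quot.out_eq C, ← Quot.out_eq D]
      exact SimpleGraph.ConnectedComponent.sound hreach
    exact (Nat.card_le_card_of_injective f hf).trans (by simp)
  · intro a b ha hb hnr
    have hno : ¬ Lib.RelDegrees87.Main.Conn N a b := fun ⟨_, _, h⟩ => hnr h
    by_cases hco : Nat.Coprime a (⁅N, N⁆.relIndex N)
    · refine Or.inl ⟨hco, fun s hs hsI => ?_⟩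
      by_contra hsb
      exact hno (hconn s s hs hs hsI hsI a ha b hb
        (fun h => hs.ne_one (Nat.eq_one_of_dvd_coprimes hco h hsI)) hsb)
    · obtain ⟨q, hq, hqa, hqI⟩ := Nat.Prime.not_coprime_iff_dvd.mp hco
      have hqb : ¬ q ∣ b := fun h =>
        hno (Lib.RelDegrees87.Main.conn_of_dvd N ha hb hq.one_lt hqa h)
      refine Or.inr ⟨Nat.coprime_of_dvd fun s hs hsb hsI => ?_, fun s hs hsI => ?_⟩
      · have hsa : ¬ s ∣ a := fun h =>
          hno (Lib.RelDegrees87.Main.conn_of_dvd N ha hb hs.one_lt h hsb)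
        exact hno (hconn s q hs hq hsI hqI a ha b hb hsa hqb)
      · by_contra hsa
        exact hno (hconn s q hs hq hsI hqI a ha b hb hsa hqb)

end Cfsg.Agent.S4776
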