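import Cfsg.Statements.S4779
import Cfsg.Agent.Lib.RelDegrees78.Disconnected
-- import your own Cfsg.Agent.* helpers here

set_option autoImplicit false
open Cfsg

namespace Cfsg.Agent.S4779

/-- Let N be a solvable normal subgroup of the finite group G contained in the derived subgroup of G, and consider the common-divisor graph on the relative degree set cd(G|N) (degrees of irreducible complex characters of G whose kernel does not contain N, two distinct degrees adjacent when not coprime). If this graph has two vertices that are not joined by any path, then there is a vertex a₀ such that any two distinct vertices in the component of a₀ are adjacent, and any two distinct vertices outside that component are adjacent or have a common neighbour (one component is complete, the other has diameter at most 2). -/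
theorem result {G : Type*} [Group G] [Finite G] (N : Subgroup G) [N.Normal] [Group.IsSolvable N] (hNG : N ≤ commutator G) (hdisc : ¬ (Cfsg.commonDivisorGraph.induce (Cfsg.relCharDegrees N)).Preconnected) : ∃ a₀ : ↥(Cfsg.relCharDegrees N), (∀ b c : ↥(Cfsg.relCharDegrees N), (Cfsg.commonDivisorGraph.induce (Cfsg.relCharDegrees N)).Reachable a₀ b → (Cfsg.commonDivisorGraph.induce (Cfsg.relCharDegrees N)).Reachable a₀ c → b ≠ c → (Cfsg.commonDivisorGraph.induce (Cfsg.relCharDegrees N)).Adj b c) ∧ (∀ b c : ↥(Cfsg.relCharDegrees N), ¬ (Cfsg.commonDivisorGraph.induce (Cfsg.relCharDegrees N)).Reachable a₀ b → ¬ (Cfsg.commonDivisorGraph.induce (Cfsg.relCharDegrees N)).Reachable a₀ c → b ≠ c → (Cfsg.commonDivisorGraph.induce (Cfsg.relCharDegrees N)).Adj b c ∨ ∃ d : ↥(Cfsg.relCharDegrees N), (Cfsg.commonDivisorGraph.induce (Cfsg.relCharDegrees N)).Adj b d ∧ (Cfsg.commonDivisorGraph.induce (Cfsg.relCharDegrees N)).Adj d c) := by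
  classical
  letI := Fintype.ofFinite G
  letI := Fintype.ofFinite N
  have hpos : ∀ x ∈ Cfsg.relCharDegrees N, 0 < x := fun x hx =>
    Lib.RelDegrees87.Main.pos_of_mem N hx
  have hd : Lib.RelDegrees78.Disconnected.Disc N := fun hall => hdisc fun a b =>
    (hall a.1 a.2 b.1 b.2).2.2
  haveI : Nontrivial N := (Subgroup.nontrivial_iff_ne_bot N).mpr fun hbot => hdisc fun a => by
    obtain ⟨χ, ⟨x, hx, hne⟩, -⟩ := a.2
    subst hbot
    rw [Subgroup.mem_bot] at hx
    exact (hne (by rw [hx])).elim
  obtain ⟨r, hr, hrI⟩ : ∃ r : ℕ, r.Prime ∧ r ∣ (_root_.commutator N).index :=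
    Nat.exists_prime_and_dvd fun h =>
      (Group.IsSolvable.commutator_lt_top_of_nontrivial N).ne (Subgroup.index_eq_one.mp h)
  haveI := Fact.mk hr
  obtain ⟨a, ha, hra⟩ : ∃ a ∈ Cfsg.relCharDegrees N, r ∣ a := by
    by_contra h
    push Not at h
    exact hd fun x hx y hy =>
      Lib.RelDegrees87.Main.conn_of_not_dvd N hNG hrI hx hy (h x hx) (h y hy)
  have hin : ∀ b : ↥(Cfsg.relCharDegrees N),
      (Cfsg.commonDivisorGraph.induce (Cfsg.relCharDegrees N)).Reachable ⟨a, ha⟩ b → r ∣ b.1 :=
    fun b hb => by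
      by_contra hrb
      exact Lib.RelDegrees78.Disconnected.sep N hNG hd hr hrI hra hrb ⟨ha, b.2, hb⟩
  refine ⟨⟨a, ha⟩, fun b c hb hc hne => ?_, fun b c hb hc hne => ?_⟩
  · exact ⟨fun h => hne (Subtype.ext h), Lib.RelDegrees78.Disconnected.shares N hNG hd hr.ne_one
      (hin b hb) (hin c hc) (hpos _ b.2)⟩
  · have hout : ∀ b : ↥(Cfsg.relCharDegrees N),
        ¬ (Cfsg.commonDivisorGraph.induce (Cfsg.relCharDegrees N)).Reachable ⟨a, ha⟩ b →
          ¬ r ∣ b.1 := fun b hb hrb =>
      hb (Lib.RelDegrees87.Main.conn_of_dvd N ha b.2 hr.one_lt hra hrb).2.2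
    obtain ⟨d, hD, hd1, hd2⟩ := Lib.RelDegrees78.Disconnected.near N hNG hd hr hrI b.2 c.2
      (hout b hb) (hout c hc)
    by_cases hdb : d = b.1
    · subst hdb
      exact Or.inl ⟨fun h => hne (Subtype.ext h), hd2⟩
    by_cases hdc : d = c.1
    · subst hdc
      exact Or.inl ⟨fun h => hne (Subtype.ext h), hd1⟩
    exact Or.inr ⟨⟨d, hD⟩, ⟨fun h => hdb h.symm, hd1⟩, ⟨hdc, hd2⟩⟩

end Cfsg.Agent.S4779
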