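import Cfsg.Statements.S4811
import Cfsg.Agent.Lib.BlocksChars5.Restrict
import Cfsg.Agent.Lib.Induced.Mackey
import Cfsg.Agent.Lib.Hall.Basic
import Mathlib.GroupTheory.FiniteAbelian.Duality

set_option autoImplicit false
open Cfsg

namespace Cfsg.Agent.S4811


open scoped ComplexConjugate commutatorElement
open Cfsg.Agent.Lib.Characters.Basic Cfsg.Agent.Lib.BlocksChars5.Basic
open Cfsg.Agent.Lib.Induced.Basic
open Cfsg.Agent.Lib

universe u

attribute [local instance] irrFintype

section general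

variable {G : Type u} [Group G]

/-- If every vertex is equal or adjacent to one of two numbers, there are at most two components. -/
theorem card_components_le_two [Finite G] (a b : ℕ) (h : ∀ s ∈ Cfsg.degreePrimes G,
    (s = a ∨ (Cfsg.degreeGraph G).Adj s a) ∨ (s = b ∨ (Cfsg.degreeGraph G).Adj s b)) :
    Nat.card ((Cfsg.degreeGraph G).induce (Cfsg.degreePrimes G)).ConnectedComponent ≤ 2 := by
  classical
  set Γ := (Cfsg.degreeGraph G).induce (Cfsg.degreePrimes G) with hΓ
  have hmem : ∀ s c, (Cfsg.degreeGraph G).Adj s c → c ∈ Cfsg.degreePrimes G := by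
    rintro s c ⟨-, -, hc, d, hd, hdvd⟩
    exact ⟨hc, d, hd, dvd_of_mul_left_dvd hdvd⟩
  have hrep : ∀ C : Γ.ConnectedComponent, ∃ v, Γ.connectedComponentMk v = C :=
    fun C => C.exists_rep
  choose v hv using hrep
  have key : ∀ (c : ℕ) (x y : Cfsg.degreePrimes G),
      ((x : ℕ) = c ∨ (Cfsg.degreeGraph G).Adj x c) → ((y : ℕ) = c ∨ (Cfsg.degreeGraph G).Adj y c) →
      Γ.connectedComponentMk x = Γ.connectedComponentMk y := by
    intro c x y hx hy
    have hc : c ∈ Cfsg.degreePrimes G := by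
      rcases hx with hx | hx
      · exact hx ▸ x.2
      · exact hmem _ _ hx
    have step : ∀ z : Cfsg.degreePrimes G, ((z : ℕ) = c ∨ (Cfsg.degreeGraph G).Adj z c) →
        Γ.connectedComponentMk z = Γ.connectedComponentMk ⟨c, hc⟩ := by
      rintro z (hz | hz)
      · exact congrArg _ (Subtype.ext hz)
      · exact SimpleGraph.ConnectedComponent.eq.mpr
          (SimpleGraph.Adj.reachable (G := Γ) (show Γ.Adj z ⟨c, hc⟩ from hz))
    rw [step x hx, step y hy]
  let F : Γ.ConnectedComponent → Fin 2 := fun C =>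
    if ((v C : ℕ) = a ∨ (Cfsg.degreeGraph G).Adj (v C) a) then 0 else 1
  have hF : Function.Injective F := by
    intro C C' hCC
    rw [← hv C, ← hv C']
    simp only [F] at hCC
    by_cases hC : ((v C : ℕ) = a ∨ (Cfsg.degreeGraph G).Adj (v C) a)
    · rw [if_pos hC] at hCC
      by_cases hC' : ((v C' : ℕ) = a ∨ (Cfsg.degreeGraph G).Adj (v C') a)
      · exact key a _ _ hC hC'
      · rw [if_neg hC'] at hCC
        exact absurd hCC (by decide)
    · rw [if_neg hC] at hCC
      by_cases hC' : ((v C' : ℕ) = a ∨ (Cfsg.degreeGraph G).Adj (v C') a)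
      · rw [if_pos hC'] at hCC
        exact absurd hCC (by decide)
      · exact key b _ _ ((h _ (v C).2).resolve_left hC) ((h _ (v C').2).resolve_left hC')
  calc Nat.card Γ.ConnectedComponent ≤ Nat.card (Fin 2) := Nat.card_le_card_of_injective F hF
    _ = 2 := Nat.card_fin 2

theorem eq_one_of_forall_degree_one [Finite G]
    (h : ∀ χ : Cfsg.IrrCharacter G, Cfsg.charDegree (χ : G → ℂ) = 1) (a b : G) :
    a * b = b * a := by
  rw [← commutatorElement_eq_one_iff_mul_comm]
  refine Characters.Complete.eq_one_of_forall_irr (G := G) fun χ => ?_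
  have h1 : (χ : G → ℂ) 1 = 1 := by rw [apply_one, h, Nat.cast_one]
  set f := Characters.Linear.degOneHom (isCharacter_irr χ) h1
  have hf : ∀ g, (f g : ℂ) = (χ : G → ℂ) g :=
    fun g => Characters.Linear.degOneHom_apply (isCharacter_irr χ) h1 g
  rw [← hf, ← hf, map_commutatorElement, map_one, commutatorElement_eq_one_iff_mul_comm.mpr
    (mul_comm _ _)]

/-- The endgame of the Frobenius case. -/
theorem index_mul_degree_mem [Fintype G] (K N : Subgroup G) [K.Normal] [N.Normal] (hKN : K ≤ N)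
    (hne : K ≠ N) (hab : ∀ a ∈ N, ∀ b ∈ N, ⁅a, b⁆ ∈ K)
    (hsurj : ∀ g : G, g ∉ N → ∀ n ∈ N, ∃ m ∈ N, ⁅g, m⁆⁻¹ * n ∈ K)
    (hGN : ∀ a b : G, ⁅a, b⁆ ∈ N) [Fintype N] (ψ : Cfsg.IrrCharacter N)
    (hres : Cfsg.IsIrrCharacter (K.subgroupOf N) (fun k : K.subgroupOf N => (ψ : N → ℂ) k)) :
    N.index * Cfsg.charDegree (ψ : N → ℂ) ∈ Cfsg.charDegrees G := by
  classical
  set K' := K.subgroupOf N with hK'
  have hK'n : K'.Normal := (inferInstance : K.Normal).subgroupOf N
  have := Fintype.ofFinite K'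
  -- linear characters of `N / K`
  have hone : Cfsg.IsIrrCharacter K' (fun _ : K' => (1 : ℂ)) := (oneChar K').2
  set S : Set (Cfsg.IrrCharacter N) :=
    {a | ∀ k : K', (a : N → ℂ) k = (ψ : N → ℂ) k} with hS
  have hgal : ∀ a : Cfsg.IrrCharacter N, a ∈ S → _ := fun a ha =>
    Clifford.Gallagher.gallagher K' (fun _ : K' => (1 : ℂ)) (fun k : K' => (ψ : N → ℂ) k) hone
      (fun g => rfl) (Clifford.Basic.conjC_restrict K' (isClassFunction_irr ψ))
      (by convert hres using 1; funext k; exact one_mul _) a.2 ha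
  -- homomorphisms trivial on `K` are over the trivial character
  have hover : ∀ μ : N →* ℂˣ, K' ≤ μ.ker →
      Cfsg.classInner (Cfsg.indFun K' (fun _ : K' => (1 : ℂ)))
        (Characters.Linear.linChar μ) ≠ 0 := fun μ hμ =>
    BlocksChars5.Restrict.over_one K' _ fun k hk => by
      rw [mem_charKer, Characters.Linear.linChar_apply, Characters.Linear.linChar_apply,
        MonoidHom.mem_ker.mp (hμ hk), map_one]
  have hovercv : ∀ β : Cfsg.IrrCharacter N,
      Cfsg.classInner (Cfsg.indFun K' (fun _ : K' => (1 : ℂ))) β ≠ 0 →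
      ∃ μ : N →* ℂˣ, K' ≤ μ.ker ∧ β = Characters.Linear.linChar μ := by
    intro β hβ
    have hker : K' ≤ charKer β := fun k hk => by
      have := Clifford.Gallagher.apply_mul_of_over_one K' β hβ ⟨k, hk⟩ 1
      rw [mul_one] at this
      exact this
    obtain ⟨β', hβ'⟩ := exists_deflate β K' hker
    have hcomm : ∀ x y : N ⧸ K', x * y = y * x := by
      intro x y
      induction x using QuotientGroup.induction_on with
      | _ a => induction y using QuotientGroup.induction_on with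
        | _ b =>
          rw [← commutatorElement_eq_one_iff_mul_comm]
          show ((⁅a, b⁆ : N) : N ⧸ K') = 1
          rw [QuotientGroup.eq_one_iff]
          exact hab _ a.2 _ b.2
    have h1 : (β : N → ℂ) 1 = 1 := by
      rw [← hβ', inflate_apply, QuotientGroup.mk_one]
      exact degree_eq_one_of_comm β' hcomm
    refine ⟨Characters.Linear.degOneHom (isCharacter_irr β) h1, fun k hk => ?_,
      Subtype.ext (funext fun g => ?_)⟩
    · rw [MonoidHom.mem_ker, ← Units.val_inj, Units.val_one,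
        Characters.Linear.degOneHom_apply, hker hk, h1]
    · rw [Characters.Linear.linChar_apply, Characters.Linear.degOneHom_apply]
  -- an element outside fixes at most one member of `S`
  have huniq : ∀ g : G, g ∉ N → ∀ a ∈ S, ∀ b ∈ S,
      Clifford.Basic.conjC N g (a : N → ℂ) = a → Clifford.Basic.conjC N g (b : N → ℂ) = b →
      a = b := by
    intro g hg a ha b hb hga hgb
    have hb' : Cfsg.classInner (Cfsg.indFun K'
        ((fun _ : K' => (1 : ℂ)) * fun k : K' => (ψ : N → ℂ) k)) b ≠ 0 := by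
      rw [frobenius_reciprocity K' _ (isClassFunction_irr b)]
      have e1 : ((fun _ : K' => (1 : ℂ)) * fun k : K' => (ψ : N → ℂ) k) =
          fun k : K' => (ψ : N → ℂ) k := funext fun k => one_mul _
      have e2 : (fun k : K' => (b : N → ℂ) k) = fun k : K' => (ψ : N → ℂ) k := funext hb
      rw [e1, e2]
      exact ne_of_eq_of_ne (classInner_self_irr (⟨_, hres⟩ : Cfsg.IrrCharacter K')) one_ne_zero
    obtain ⟨β, hβ, hbβ⟩ := (hgal a ha).2.2 b hb'
    obtain ⟨μ, hμker, rfl⟩ := hovercv β hβ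
    set μ' : N →* ℂˣ := μ.comp (MulAut.conjNormal g).toMonoidHom with hμ'
    have hμ'ker : K' ≤ μ'.ker := by
      intro k hk
      rw [MonoidHom.mem_ker]
      refine MonoidHom.mem_ker.mp (hμker ?_)
      exact (inferInstance : K.Normal).conj_mem _ hk g
    have heq : (Characters.Linear.linChar μ' : N → ℂ) * (a : N → ℂ) =
        (Characters.Linear.linChar μ : N → ℂ) * (a : N → ℂ) := by
      conv_rhs => rw [← hbβ, ← hgb, hbβ]
      funext n
      rw [Pi.mul_apply, Clifford.Basic.conjC_apply, Pi.mul_apply]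
      conv_lhs => arg 2; rw [← hga]
      rfl
    have hμeq : μ' = μ := Characters.Linear.linChar_injective
      ((hgal a ha).2.1 _ _ (hover _ hμ'ker) (hover _ hμker) heq)
    have htriv : ∀ n : N, μ n = 1 := by
      intro n
      obtain ⟨m, hm, hmk⟩ := hsurj g hg n n.2
      set c : N := ⟨⁅g, m⁆, hGN g m⟩ with hc
      have hck : c⁻¹ * n ∈ K' := hmk
      have h1 : μ c = 1 := by
        have e : c = (MulAut.conjNormal g (⟨m, hm⟩ : N)) * (⟨m, hm⟩ : N)⁻¹ := by
          ext
          simp [c, commutatorElement_def, MulAut.conjNormal_apply]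
        rw [e, map_mul, map_inv]
        have := DFunLike.congr_fun hμeq (⟨m, hm⟩ : N)
        rw [hμ', MonoidHom.comp_apply] at this
        rw [show μ (MulAut.conjNormal g (⟨m, hm⟩ : N)) = μ ⟨m, hm⟩ from this, mul_inv_cancel]
      have h2 := MonoidHom.mem_ker.mp (hμker hck)
      rwa [map_mul, map_inv, h1, inv_one, one_mul] at h2
    refine Subtype.ext (funext fun n => ?_)
    rw [hbβ, Pi.mul_apply, Characters.Linear.linChar_apply, htriv, Units.val_one, one_mul]
  -- at most one member of `S` has a non-trivial stabiliser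
  have hone_bad : ∀ a ∈ S, ∀ b ∈ S, ∀ g : G, g ∉ N → ∀ h : G, h ∉ N →
      Clifford.Basic.conjC N g (a : N → ℂ) = a → Clifford.Basic.conjC N h (b : N → ℂ) = b →
      a = b := by
    intro a ha b hb g hg h hh hga hhb
    set a' : Cfsg.IrrCharacter N := ⟨_, Clifford.Basic.isIrrCharacter_conjC N h a.2⟩ with ha'
    have ha'S : a' ∈ S := by
      intro k
      show Clifford.Basic.conjC N h (a : N → ℂ) k = _
      rw [Clifford.Basic.conjC_apply, ← hb k]
      have hmem : (⟨h * ((k : N) : G) * h⁻¹,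
          (inferInstance : N.Normal).conj_mem _ (k : N).2 h⟩ : N) ∈ K' :=
        (inferInstance : K.Normal).conj_mem _ k.2 h
      rw [ha ⟨_, hmem⟩, ← hb ⟨_, hmem⟩]
      exact congrFun hhb (k : N)
    have hga' : Clifford.Basic.conjC N g (a' : N → ℂ) = a' := by
      show Clifford.Basic.conjC N g (Clifford.Basic.conjC N h (a : N → ℂ)) =
        Clifford.Basic.conjC N h (a : N → ℂ)
      have hm : ⁅h, g⁆ ∈ N := hGN h g
      rw [← Clifford.Basic.conjC_mul, show h * g = ⁅h, g⁆ * (g * h) by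
          rw [commutatorElement_def]; group,
        Clifford.Basic.conjC_mul, Clifford.Basic.conjC_of_mem N (isClassFunction_irr a) hm,
        Clifford.Basic.conjC_mul, hga]
    have haa' := huniq g hg a ha a' ha'S hga hga'
    exact huniq h hh a ha b hb (congrArg Subtype.val haa').symm hhb
  -- two members
  obtain ⟨n₀, hn₀, hn₀K⟩ : ∃ n ∈ N, n ∉ K := SetLike.exists_of_lt (lt_of_le_of_ne hKN hne)
  obtain ⟨μ, hμker, hμn⟩ : ∃ μ : N →* ℂˣ, K' ≤ μ.ker ∧ μ ⟨n₀, hn₀⟩ ≠ 1 := by
    let cg : CommGroup (N ⧸ K') :=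
      { (inferInstance : Group (N ⧸ K')) with
        mul_comm := fun x y => by
          induction x using QuotientGroup.induction_on with
          | _ a => induction y using QuotientGroup.induction_on with
            | _ b =>
              rw [← commutatorElement_eq_one_iff_mul_comm]
              show ((⁅a, b⁆ : N) : N ⧸ K') = 1
              rw [QuotientGroup.eq_one_iff]
              exact hab _ a.2 _ b.2 }
    obtain ⟨φ, hφ⟩ := CommGroup.exists_apply_ne_one_of_hasEnoughRootsOfUnity (N ⧸ K') ℂ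
      (a := ((⟨n₀, hn₀⟩ : N) : N ⧸ K'))
      (by rw [Ne, QuotientGroup.eq_one_iff]; exact hn₀K)
    refine ⟨φ.comp (QuotientGroup.mk' K'), fun k hk => ?_, hφ⟩
    rw [MonoidHom.mem_ker, MonoidHom.comp_apply, QuotientGroup.mk'_apply,
      (QuotientGroup.eq_one_iff k).mpr hk, map_one]
  have hψS : ψ ∈ S := fun _ => rfl
  set ψ₁ : Cfsg.IrrCharacter N :=
    ⟨_, ((hgal ψ hψS).1 _ (hover μ hμker)).1⟩ with hψ₁
  have hψ₁S : ψ₁ ∈ S := fun k => by
    show (Characters.Linear.linChar μ : N → ℂ) k * (ψ : N → ℂ) k = _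
    rw [Characters.Linear.linChar_apply, MonoidHom.mem_ker.mp (hμker k.2), Units.val_one, one_mul]
  have hψne : ψ ≠ ψ₁ := by
    intro he
    have h0 := (hgal ψ hψS).2.1 (Characters.Linear.linChar μ) (Characters.Linear.linChar 1)
      (hover μ hμker) (hover 1 fun _ _ => rfl) (by
        refine (congrArg Subtype.val he).symm.trans ?_
        funext n
        rw [Pi.mul_apply, Characters.Linear.linChar_apply, MonoidHom.one_apply, Units.val_one,
          one_mul])
    exact hμn (DFunLike.congr_fun (Characters.Linear.linChar_injective h0) _)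
  obtain ⟨ρ, hρS, hρ⟩ : ∃ ρ ∈ S, ∀ g : G, Clifford.Basic.conjC N g (ρ : N → ℂ) = ρ → g ∈ N := by
    by_contra hcon
    push Not at hcon
    obtain ⟨g, hg, hgN⟩ := hcon ψ hψS
    obtain ⟨h, hh, hhN⟩ := hcon ψ₁ hψ₁S
    exact hψne (hone_bad ψ hψS ψ₁ hψ₁S g hgN h hhN hg hh)
  refine ⟨⟨_, Induced.Mackey.isIrrCharacter_indFun N ρ.2 hρ⟩, ?_⟩
  have h1 : (ρ : N → ℂ) 1 = (ψ : N → ℂ) 1 := hρS 1
  show Cfsg.charDegree (Cfsg.indFun N (ρ : N → ℂ)) = _
  rw [Cfsg.charDegree, indFun_one, h1, apply_one, ← Nat.cast_mul, Complex.natCast_re,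
    Nat.floor_natCast]

/-- A quotient in which every proper quotient is abelian. -/
theorem minimal_cases {Q : Type u} [Group Q] [Finite Q] [Group.IsSolvable Q]
    (hmin : ∀ X : Subgroup Q, X.Normal → X ≠ ⊥ → commutator Q ≤ X) (hne : commutator Q ≠ ⊥) :
    ∃ q : ℕ, q.Prime ∧ IsPGroup q (commutator Q) ∧
      (∀ a ∈ commutator Q, ∀ b ∈ commutator Q, a * b = b * a) ∧
      (IsPGroup q Q ∨ (commutator Q ≠ ⊤ ∧ ∀ x : Q, x ∉ commutator Q → ∀ n ∈ commutator Q,
        ∃ m ∈ commutator Q, ⁅x, m⁆ = n)) := by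
  classical
  set M := commutator Q with hM
  have hmemM : ∀ a b : Q, ⁅a, b⁆ ∈ M := fun a b =>
    Subgroup.commutator_mem_commutator (Subgroup.mem_top a) (Subgroup.mem_top b)
  have : Nontrivial Q := by
    by_contra h
    rw [not_nontrivial_iff_subsingleton] at h
    exact hne (eq_bot_iff.mpr fun x _ => Subgroup.mem_bot.mpr (Subsingleton.elim x 1))
  obtain ⟨q, A, hq, hAn, hAne, hAab, hApg⟩ := Hall.exists_normal_abelian_pgroup (G := Q)
  haveI := Fact.mk hq
  have hMA := hmin A hAn hAne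
  have hMpg : IsPGroup q M := hApg.to_le hMA
  have hMab : ∀ a ∈ M, ∀ b ∈ M, a * b = b * a := fun a ha b hb => hAab a (hMA ha) b (hMA hb)
  refine ⟨q, hq, hMpg, hMab, ?_⟩
  by_cases hcen : M ≤ Subgroup.center Q
  · left
    have hcyc : ∀ z ∈ Subgroup.center Q, z ≠ 1 → M ≤ Subgroup.zpowers z := fun z hz hz1 =>
      hmin _ ⟨fun n hn g => by
        have hnz : n ∈ Subgroup.center Q := Subgroup.zpowers_le.mpr hz hn
        rw [Subgroup.mem_center_iff.mp hnz g, mul_inv_cancel_right]; exact hn⟩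
        (by rwa [Ne, Subgroup.zpowers_eq_bot])
    obtain ⟨m, hm, hm1⟩ := M.ne_bot_iff_exists_ne_one.mp hne |> fun ⟨x, hx⟩ =>
      (⟨x.1, x.2, fun h => hx (Subtype.ext h)⟩ : ∃ m, m ∈ M ∧ m ≠ 1)
    -- the order of the commutator subgroup
    obtain ⟨z, hz, hzo⟩ : ∃ z ∈ M, orderOf z = q := by
      have hdvd : q ∣ Nat.card M := by
        obtain ⟨k, hk⟩ := hMpg.exists_card_eq
        rw [hk]
        refine dvd_pow_self q fun h0 => hne ?_
        rw [h0, pow_zero] at hk
        exact Subgroup.eq_bot_of_card_eq _ hk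
      obtain ⟨z, hz⟩ := exists_prime_orderOf_dvd_card' q hdvd
      exact ⟨z, z.2, by rw [Subgroup.orderOf_coe, hz]⟩
    have hz1 : z ≠ 1 := fun h => by rw [h, orderOf_one] at hzo; exact hq.ne_one hzo.symm
    have hexp : ∀ x ∈ M, x ^ q = 1 := by
      intro x hx
      obtain ⟨i, rfl⟩ := Subgroup.mem_zpowers_iff.mp (hcyc z (hcen hz) hz1 hx)
      rw [← zpow_natCast (z ^ i), ← zpow_mul, mul_comm, zpow_mul, zpow_natCast, ← hzo,
        pow_orderOf_eq_one, one_zpow]
    have hZ : IsPGroup q (Subgroup.center Q) := by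
      refine IsPGroup.of_card (Nat.eq_prime_pow_of_unique_prime_dvd (p := q) Nat.card_pos.ne' ?_)
      intro d hd hdd
      haveI := Fact.mk hd
      obtain ⟨w, hw⟩ := exists_prime_orderOf_dvd_card' d hdd
      have hw1 : (w : Q) ≠ 1 := fun h => by
        rw [show w = 1 from Subtype.ext h, orderOf_one] at hw; exact hd.ne_one hw.symm
      have hle := Subgroup.orderOf_dvd_natCard _ (hcyc w w.2 hw1 hz)
      rw [hzo, Nat.card_zpowers, Subgroup.orderOf_coe, hw] at hle
      exact ((Nat.prime_dvd_prime_iff_eq hq hd).mp hle).symm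
    intro x
    have hxq : x ^ q ∈ Subgroup.center Q := by
      rw [Subgroup.mem_center_iff]
      intro y
      have hc : y * x * y⁻¹ * x⁻¹ ∈ M := hmemM y x
      set c := y * x * y⁻¹ * x⁻¹ with hcdef
      have h1 : y * x * y⁻¹ = c * x := by rw [hcdef]; group
      have h2 : Commute c x := ((Subgroup.mem_center_iff.mp (hcen hc)) x).symm
      have h3 : (y * x * y⁻¹) ^ q = x ^ q := by rw [h1, h2.mul_pow, hexp c hc, one_mul]
      rw [conj_pow, mul_inv_eq_iff_eq_mul] at h3
      exact h3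
    obtain ⟨k, hk⟩ := hZ ⟨x ^ q, hxq⟩
    refine ⟨k + 1, ?_⟩
    rw [pow_succ', pow_mul]
    exact congrArg Subtype.val hk
  · right
    have hfix : ∀ x : Q, x ∉ Subgroup.centralizer (M : Set Q) → ∀ n ∈ M, ∃ m ∈ M, ⁅x, m⁆ = n := by
      intro x hx
      have hmulc : ∀ a ∈ M, ∀ b ∈ M, ⁅x, a * b⁆ = ⁅x, a⁆ * ⁅x, b⁆ := by
        intro a ha b hb
        have hc : ⁅x, b⁆ ∈ M := hmemM x b
        calc ⁅x, a * b⁆ = ⁅x, a⁆ * (a * ⁅x, b⁆ * a⁻¹) := by
              simp only [commutatorElement_def]; group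
          _ = ⁅x, a⁆ * ⁅x, b⁆ := by rw [hMab a ha _ hc, mul_inv_cancel_right]
      let φ : M →* Q := MonoidHom.mk' (fun a => ⁅x, (a : Q)⁆) fun a b => hmulc a a.2 b b.2
      have hrn : φ.range.Normal := by
        refine ⟨?_⟩
        rintro _ ⟨a, rfl⟩ g
        have hd : x⁻¹ * g * x * g⁻¹ ∈ M := by
          simpa [commutatorElement_def, mul_assoc] using hmemM x⁻¹ g
        set a' : M := ⟨g * a * g⁻¹, (inferInstance : M.Normal).conj_mem _ a.2 g⟩
        refine ⟨a', ?_⟩
        show ⁅x, g * (a : Q) * g⁻¹⁆ = g * ⁅x, (a : Q)⁆ * g⁻¹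
        have hcomm := hMab _ hd _ a'.2
        calc ⁅x, g * (a : Q) * g⁻¹⁆
            = x * ((g * (a : Q) * g⁻¹)) * x⁻¹ * (g * (a : Q) * g⁻¹)⁻¹ := rfl
          _ = x * ((x⁻¹ * g * x * g⁻¹) * (g * (a : Q) * g⁻¹) * (x⁻¹ * g * x * g⁻¹)⁻¹) * x⁻¹ *
                (g * (a : Q) * g⁻¹)⁻¹ := by
              rw [hcomm, mul_inv_cancel_right]
          _ = g * ⁅x, (a : Q)⁆ * g⁻¹ := by simp only [commutatorElement_def]; group
      have hrne : φ.range ≠ ⊥ := by
        intro h0
        refine hx (Subgroup.mem_centralizer_iff.mpr fun a ha => ?_)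
        have : ⁅x, a⁆ ∈ (⊥ : Subgroup Q) := h0 ▸ (⟨⟨a, ha⟩, rfl⟩ : ⁅x, a⁆ ∈ φ.range)
        exact (commutatorElement_eq_one_iff_mul_comm.mp (Subgroup.mem_bot.mp this)).symm
      intro n hn
      obtain ⟨m, hm⟩ := hmin _ hrn hrne hn
      exact ⟨m, m.2, hm⟩
    have hinj : ∀ x : Q, x ∉ Subgroup.centralizer (M : Set Q) → ∀ m ∈ M, x * m = m * x → m = 1 := by
      intro x hx m hm hcomm
      have hsur : Function.Surjective (fun a : M => (⟨⁅x, (a : Q)⁆, hmemM _ _⟩ : M)) := fun n => by
        obtain ⟨a, ha, h⟩ := hfix x hx n n.2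
        exact ⟨⟨a, ha⟩, Subtype.ext h⟩
      have := (Finite.injective_iff_surjective.mpr hsur) (a₁ := ⟨m, hm⟩) (a₂ := 1)
        (Subtype.ext (by
          show ⁅x, m⁆ = ⁅x, (1 : Q)⁆
          rw [commutatorElement_eq_one_iff_mul_comm.mpr hcomm, commutatorElement_one_right]))
      exact congrArg Subtype.val this
    obtain ⟨x, hx⟩ : ∃ x : Q, x ∉ Subgroup.centralizer (M : Set Q) := by
      by_contra h
      push Not at h
      exact hcen fun m hm => Subgroup.mem_center_iff.mpr fun g =>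
        (Subgroup.mem_centralizer_iff.mp (h g) m hm).symm
    have hdec : ∀ y : Q, ∃ m ∈ M, m⁻¹ * y * x = x * (m⁻¹ * y) := by
      intro y
      obtain ⟨m, hm, hmn⟩ := hfix x hx ⁅x, y⁆ (hmemM x y)
      refine ⟨m, hm, ?_⟩
      have h1 : x * m * x⁻¹ * m⁻¹ = x * y * x⁻¹ * y⁻¹ := hmn
      have h2 : m⁻¹ * y = (x * m⁻¹ * x⁻¹) * (x * y * x⁻¹) := by
        have : x * y * x⁻¹ = x * m * x⁻¹ * m⁻¹ * y := by rw [h1]; group
        rw [this]; group
      conv_lhs => rw [h2]
      group
    have hCM : ∀ y : Q, y ∈ Subgroup.centralizer (M : Set Q) → y ∈ M := by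
      intro y hy
      by_contra hyM
      obtain ⟨m, hm, hmy⟩ := hdec y
      set h := m⁻¹ * y with hh
      have hh1 : h ≠ 1 := fun h0 => hyM (by rw [← inv_mul_eq_one.mp h0]; exact hm)
      have hhC : ∀ a ∈ M, h * a = a * h := fun a ha => by
        have h1 := Subgroup.mem_centralizer_iff.mp hy a ha
        rw [hh, mul_assoc, ← h1, ← mul_assoc, hMab _ (M.inv_mem hm) a ha, mul_assoc]
      have hcent : h ∈ Subgroup.center Q := by
        rw [Subgroup.mem_center_iff]
        intro g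
        obtain ⟨a, ha, hga⟩ := hdec g
        set k := a⁻¹ * g with hk
        have hg : g = a * k := by rw [hk]; group
        have hkh : k * h = h * k := by
          rw [← commutatorElement_eq_one_iff_mul_comm]
          refine hinj x hx _ (hmemM k h) ?_
          have e1 : Commute x k := hga.symm
          have e2 : Commute x h := hmy.symm
          exact ((e1.mul_right e2).mul_right e1.inv_right).mul_right e2.inv_right
        rw [hg, mul_assoc, hkh, ← mul_assoc, ← hhC a ha, mul_assoc]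
      apply hcen
      refine (hmin (Subgroup.zpowers h) ⟨fun n hn g => ?_⟩ (by rwa [Ne, Subgroup.zpowers_eq_bot])).trans
        (Subgroup.zpowers_le.mpr hcent)
      rw [Subgroup.mem_center_iff.mp (Subgroup.zpowers_le.mpr hcent hn) g, mul_inv_cancel_right]
      exact hn
    refine ⟨fun htop => hx ?_, fun y hy => hfix y fun h => hy (hCM y h)⟩
    rw [Subgroup.mem_centralizer_iff]
    exact fun a ha => hMab a ha x (htop ▸ Subgroup.mem_top x)

theorem card_components [Finite G] [Group.IsSolvable G] :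
    Nat.card ((Cfsg.degreeGraph G).induce (Cfsg.degreePrimes G)).ConnectedComponent ≤ 2 := by
  classical
  by_cases hcomm : ∀ a b : G, ⁅a, b⁆ = 1
  · refine card_components_le_two 0 0 fun s hs => ?_
    obtain ⟨hsp, d, ⟨χ, rfl⟩, hsd⟩ := hs
    have h1 := degree_eq_one_of_comm χ fun a b => commutatorElement_eq_one_iff_mul_comm.mp (hcomm a b)
    rw [apply_one, Nat.cast_eq_one] at h1
    rw [h1] at hsd
    exact absurd (Nat.dvd_one.mp hsd) hsp.ne_one
  push Not at hcomm
  obtain ⟨a₀, b₀, hab₀⟩ := hcomm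
  let 𝒦 : Set (Subgroup G) := {K | K.Normal ∧ ¬ commutator G ≤ K}
  have hbot : (⊥ : Subgroup G) ∈ 𝒦 := ⟨inferInstance, fun h => hab₀ (Subgroup.mem_bot.mp
    (h (Subgroup.commutator_mem_commutator (Subgroup.mem_top a₀) (Subgroup.mem_top b₀))))⟩
  obtain ⟨K, ⟨hKn, hKc⟩, hKmax⟩ := 𝒦.toFinite.exists_maximalFor id 𝒦 ⟨⊥, hbot⟩
  haveI := hKn
  set π := QuotientGroup.mk' K with hπ
  have hmap : (commutator G).map π = commutator (G ⧸ K) := by
    rw [commutator_def, Subgroup.map_commutator,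
      Subgroup.map_top_of_surjective π (QuotientGroup.mk'_surjective K)]
    rfl
  have hne : commutator (G ⧸ K) ≠ ⊥ := fun h => hKc (by
    rw [← hmap, Subgroup.map_eq_bot_iff, QuotientGroup.ker_mk'] at h
    exact h)
  have hmin : ∀ X : Subgroup (G ⧸ K), X.Normal → X ≠ ⊥ → commutator (G ⧸ K) ≤ X := by
    intro X hX hX1
    rw [← hmap, Subgroup.map_le_iff_le_comap]
    by_contra hc
    have hmem : X.comap π ∈ 𝒦 := ⟨inferInstance, hc⟩
    have hle : K ≤ X.comap π := fun k hk => by
      rw [Subgroup.mem_comap, hπ, QuotientGroup.mk'_apply, (QuotientGroup.eq_one_iff k).mpr hk]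
      exact one_mem X
    have heq : X.comap π = K := le_antisymm (hKmax hmem hle) hle
    refine hX1 (eq_bot_iff.mpr fun x hx => ?_)
    obtain ⟨g, rfl⟩ := QuotientGroup.mk_surjective x
    have : g ∈ K := heq ▸ (Subgroup.mem_comap.mpr hx : g ∈ X.comap π)
    exact Subgroup.mem_bot.mpr ((QuotientGroup.eq_one_iff g).mpr this)
  obtain ⟨q, hq, hMpg, hMab, hcase⟩ := minimal_cases hmin hne
  haveI := Fact.mk hq
  haveI := Fintype.ofFinite G
  have adj : ∀ s t d, s.Prime → t.Prime → s ≠ t → d ∈ Cfsg.charDegrees G → s ∣ d → t ∣ d →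
      (Cfsg.degreeGraph G).Adj s t := fun s t d hs ht hst hd h1 h2 =>
    ⟨hst, hs, ht, d, hd, (Nat.coprime_primes hs ht |>.mpr hst).mul_dvd_of_dvd_of_dvd h1 h2⟩
  rcases hcase with hQ | ⟨htop, hfix⟩
  · refine card_components_le_two q q fun s hs => Or.inl ?_
    obtain ⟨hsp, d, ⟨χ, rfl⟩, hsd⟩ := hs
    by_cases hsq : s = q
    · exact Or.inl hsq
    right
    by_cases hqd : q ∣ Cfsg.charDegree (χ : G → ℂ)
    · exact adj s q _ hsp hq hsq ⟨χ, rfl⟩ hsd hqd
    obtain ⟨m, hm⟩ := hQ.exists_card_eq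
    obtain ⟨β₀, hβ₀⟩ : ∃ β : Cfsg.IrrCharacter (G ⧸ K), Cfsg.charDegree (β : G ⧸ K → ℂ) ≠ 1 := by
      by_contra hall
      push Not at hall
      refine hne (eq_bot_iff.mpr ?_)
      rw [commutator_def, Subgroup.commutator_le]
      intro x _ y _
      exact Subgroup.mem_bot.mpr
        (commutatorElement_eq_one_iff_mul_comm.mpr (eq_one_of_forall_degree_one hall x y))
    have hqβ : q ∣ Cfsg.charDegree (β₀ : G ⧸ K → ℂ) := by
      have hdvd := degree_dvd_card β₀
      rw [hm, Nat.dvd_prime_pow hq] at hdvd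
      obtain ⟨i, -, hi⟩ := hdvd
      rw [hi]
      exact dvd_pow_self q fun h0 => hβ₀ (by rw [hi, h0, pow_zero])
    haveI := Fintype.ofFinite K
    have hres := BlocksChars5.Restrict.restrict_irr_of_coprime K χ (by
      rw [Subgroup.index_eq_card, hm]
      exact Nat.Coprime.pow_right m (Nat.Coprime.symm (hq.coprime_iff_not_dvd.mpr hqd)))
    have hirr := BlocksChars5.Restrict.mul_irr_of_restrict_irr K χ (inflate K β₀) hres
      (le_charKer_inflate K β₀)
    refine adj s q (Cfsg.charDegree (β₀ : G ⧸ K → ℂ) * Cfsg.charDegree (χ : G → ℂ)) hsp hq hsq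
      ⟨⟨_, hirr⟩, ?_⟩ (dvd_mul_of_dvd_right hsd _) (dvd_mul_of_dvd_left hqβ _)
    show Cfsg.charDegree ((inflate K β₀ : G → ℂ) * (χ : G → ℂ)) = _
    rw [Cfsg.charDegree, Pi.mul_apply, inflate_apply, QuotientGroup.mk_one, apply_one, apply_one,
      ← Nat.cast_mul, Complex.natCast_re, Nat.floor_natCast]
  set N : Subgroup G := (commutator (G ⧸ K)).comap π with hN
  haveI hNn : N.Normal := Subgroup.Normal.comap inferInstance π
  haveI := Fintype.ofFinite N
  have hKN : K ≤ N := fun k hk => by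
    rw [hN, Subgroup.mem_comap, hπ, QuotientGroup.mk'_apply, (QuotientGroup.eq_one_iff k).mpr hk]
    exact one_mem _
  have hmemK : ∀ g : G, π g = 1 → g ∈ K := fun g h => (QuotientGroup.eq_one_iff g).mp h
  have hKNne : K ≠ N := by
    intro h
    apply hne
    refine eq_bot_iff.mpr fun x hx => ?_
    obtain ⟨g, rfl⟩ := QuotientGroup.mk_surjective x
    have : g ∈ K := h ▸ (Subgroup.mem_comap.mpr hx : g ∈ N)
    exact Subgroup.mem_bot.mpr ((QuotientGroup.eq_one_iff g).mpr this)
  have hab : ∀ a ∈ N, ∀ b ∈ N, ⁅a, b⁆ ∈ K := fun a ha b hb => hmemK _ (by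
    rw [map_commutatorElement, commutatorElement_eq_one_iff_mul_comm]
    exact hMab _ ha _ hb)
  have hGN : ∀ a b : G, ⁅a, b⁆ ∈ N := fun a b => by
    rw [hN, Subgroup.mem_comap, map_commutatorElement]
    exact Subgroup.commutator_mem_commutator (Subgroup.mem_top _) (Subgroup.mem_top _)
  have hsurj : ∀ g : G, g ∉ N → ∀ n ∈ N, ∃ m ∈ N, ⁅g, m⁆⁻¹ * n ∈ K := by
    intro g hg n hn
    obtain ⟨m, hm, he⟩ := hfix (π g) hg (π n) hn
    obtain ⟨m', rfl⟩ := QuotientGroup.mk'_surjective K m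
    refine ⟨m', hm, hmemK _ ?_⟩
    rw [map_mul, map_inv, map_commutatorElement, hπ, he, inv_mul_cancel]
  have hidx : N.index ≠ 1 := by
    rw [Ne, Subgroup.index_eq_one, hN]
    intro h
    apply htop
    rw [← Subgroup.map_comap_eq_self_of_surjective (QuotientGroup.mk'_surjective K)
      (commutator (G ⧸ K)), ← hπ, h, Subgroup.map_top_of_surjective π
      (QuotientGroup.mk'_surjective K)]
  set K' := K.subgroupOf N with hK'
  haveI : K'.Normal := (inferInstance : K.Normal).subgroupOf N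
  haveI := Fintype.ofFinite K'
  obtain ⟨k, hk⟩ : ∃ k, K'.index = q ^ k := by
    obtain ⟨k, hk⟩ := hMpg.exists_card_eq
    refine ⟨k, ?_⟩
    rw [← hk]
    show K.relIndex N = _
    conv_lhs => rw [← QuotientGroup.ker_mk' K, ← MonoidHom.comap_bot (QuotientGroup.mk' K)]
    rw [Subgroup.relIndex_comap, hN, ← hπ,
      Subgroup.map_comap_eq_self_of_surjective (QuotientGroup.mk'_surjective K),
      Subgroup.relIndex_bot_left]
  -- every character of `N` of degree prime to `q` yields a degree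
  have hlift : ∀ ψ : Cfsg.IrrCharacter N, ¬ q ∣ Cfsg.charDegree (ψ : N → ℂ) →
      N.index * Cfsg.charDegree (ψ : N → ℂ) ∈ Cfsg.charDegrees G := fun ψ hψ =>
    index_mul_degree_mem K N hKN hKNne hab hsurj hGN ψ
      (BlocksChars5.Restrict.restrict_irr_of_coprime K' ψ (by
        rw [hk]
        exact Nat.Coprime.pow_right k (Nat.Coprime.symm (hq.coprime_iff_not_dvd.mpr hψ))))
  have hf : N.index ∈ Cfsg.charDegrees G := by
    have h1 : Cfsg.charDegree ((oneChar N : Cfsg.IrrCharacter N) : N → ℂ) = 1 := by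
      rw [Cfsg.charDegree, oneChar_apply]; simp
    have h2 := hlift (oneChar N) (by rw [h1]; exact hq.not_dvd_one)
    rwa [h1, mul_one] at h2
  set r := N.index.minFac with hr
  have hrp : r.Prime := Nat.minFac_prime hidx
  refine card_components_le_two r q fun s hs => ?_
  obtain ⟨hsp, d, ⟨χ, rfl⟩, hsd⟩ := hs
  by_cases hsr : s = r
  · exact Or.inl (Or.inl hsr)
  by_cases hsq : s = q
  · exact Or.inr (Or.inl hsq)
  by_cases hsf : s ∣ N.index
  · exact Or.inl (Or.inr (adj s r _ hsp hrp hsr hf hsf (Nat.minFac_dvd _)))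
  obtain ⟨ψ, hψ⟩ := Clifford.Basic.exists_constituent_restrict N χ.2
  obtain ⟨e, he, hei⟩ := BlocksChars5.Restrict.ratio_dvd_nat N χ ψ hψ
  have hsψ : s ∣ Cfsg.charDegree (ψ : N → ℂ) := by
    rw [he] at hsd
    exact (hsp.dvd_mul.mp hsd).resolve_left fun h => hsf (h.trans hei)
  by_cases hqψ : q ∣ Cfsg.charDegree (ψ : N → ℂ)
  · exact Or.inr (Or.inr (adj s q _ hsp hq hsq ⟨χ, rfl⟩ hsd (he ▸ dvd_mul_of_dvd_right hqψ e)))
  · exact Or.inl (Or.inr (adj s r _ hsp hrp hsr (hlift ψ hqψ) (dvd_mul_of_dvd_right hsψ _)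
      (dvd_mul_of_dvd_left (Nat.minFac_dvd _) _)))

end general

/-- For every finite solvable group G the character degree graph of G (vertices: the primes dividing some irreducible complex character degree; edges: distinct primes whose product divides some degree) has at most two connected components. -/
theorem result {G : Type*} [Group G] [Finite G] [Group.IsSolvable G] : Nat.card ((Cfsg.degreeGraph G).induce (Cfsg.degreePrimes G)).ConnectedComponent ≤ 2 := by
  exact card_components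

end Cfsg.Agent.S4811
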