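import Cfsg.Statements.S4781
import Cfsg.Agent.Lib.NoDivDegrees78.Main
import Cfsg.Agent.S4811
import Cfsg.Agent.S4456

set_option autoImplicit false
set_option linter.style.haveILetI false
open Cfsg

namespace Cfsg.Agent.S4781

open scoped commutatorElement
open Cfsg.Agent.Lib.Characters.Basic Cfsg.Agent.Lib.BlocksChars5.Basic
open Cfsg.Agent.Lib.Clifford.Basic Cfsg.Agent.Lib.Induced.Basic
open Cfsg.Agent.Lib
open Cfsg.Agent.Lib.NoDivDegrees78.Complement (deg Hyp)

universe u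

attribute [local instance] irrFintype

section

variable {G : Type u} [Group G]

/-- A graph whose vertices all reach one of them is connected. -/
theorem card_components_le_one [Finite G] (c : ℕ) (hc : c ∈ Cfsg.degreePrimes G)
    (h : ∀ s : Cfsg.degreePrimes G,
      ((Cfsg.degreeGraph G).induce (Cfsg.degreePrimes G)).Reachable s ⟨c, hc⟩) :
    Nat.card ((Cfsg.degreeGraph G).induce (Cfsg.degreePrimes G)).ConnectedComponent ≤ 1 := by
  set Γ := (Cfsg.degreeGraph G).induce (Cfsg.degreePrimes G)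
  haveI : Subsingleton Γ.ConnectedComponent := ⟨fun C C' => by
    obtain ⟨v, rfl⟩ := C.exists_rep
    obtain ⟨w, rfl⟩ := C'.exists_rep
    exact SimpleGraph.ConnectedComponent.eq.mpr ((h v).trans (h w).symm)⟩
  exact Finite.card_le_one_iff_subsingleton.mpr inferInstance

/-- Two primes dividing one degree reach one another. -/
theorem reachable_of_dvd {d : ℕ} (hd : d ∈ Cfsg.charDegrees G) (s t : Cfsg.degreePrimes G)
    (hs : (s : ℕ) ∣ d) (ht : (t : ℕ) ∣ d) :
    ((Cfsg.degreeGraph G).induce (Cfsg.degreePrimes G)).Reachable s t := by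
  by_cases h : (s : ℕ) = t
  · rw [Subtype.ext h]
  · refine SimpleGraph.Adj.reachable ?_
    exact ⟨h, s.2.1, t.2.1, d, hd,
      ((Nat.coprime_primes s.2.1 t.2.1).mpr h).mul_dvd_of_dvd_of_dvd hs ht⟩

theorem exists_split {f : ℕ} : ∀ {n : ℕ}, 0 < n →
    ∃ a b : ℕ, n = a * b ∧ b.Coprime f ∧ ∀ p : ℕ, p.Prime → p ∣ a → p ∣ f := by
  intro n
  induction n using Nat.strong_induction_on with
  | _ n ih =>
    intro hn
    by_cases hcop : n.Coprime f
    · exact ⟨1, n, (one_mul n).symm, hcop,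
        fun p hp h => absurd h hp.not_dvd_one⟩
    · obtain ⟨p, hp, hpn, hpf⟩ := Nat.Prime.not_coprime_iff_dvd.mp hcop
      obtain ⟨m, rfl⟩ := hpn
      have hm : 0 < m := Nat.pos_of_ne_zero (by rintro rfl; simp at hn)
      obtain ⟨a, b, hab, hb, ha⟩ := ih m (lt_mul_left hm hp.one_lt) hm
      refine ⟨p * a, b, by rw [hab, mul_assoc], hb, fun s hs h => ?_⟩
      rcases hs.dvd_mul.mp h with h1 | h1
      · rwa [(Nat.prime_dvd_prime_iff_eq hs hp).mp h1]
      · exact ha s hs h1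

theorem mem_of_coprime_index [Finite G] (M : Subgroup G) [M.Normal] {x : G}
    (h : M.index.Coprime (orderOf x)) : x ∈ M := by
  have h1 := NoDivDegrees78.Abstract.pow_gcd_mem M (Subgroup.pow_index_mem M x)
    (show x ^ orderOf x ∈ M by rw [pow_orderOf_eq_one]; exact one_mem M)
  rwa [h.gcd_eq_one, pow_one] at h1

theorem three_degrees [Finite G] [Group.IsSolvable G]
    (hnd : ∀ a ∈ Cfsg.charDegrees G, ∀ b ∈ Cfsg.charDegrees G, 1 < a → a < b → ¬ a ∣ b)
    (htwo : Nat.card ((Cfsg.degreeGraph G).induce (Cfsg.degreePrimes G)).ConnectedComponent = 2) :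
    Nat.card ↥(Cfsg.charDegrees G) = 3 := by
  classical
  have hcon : ∀ c, ∀ hc : c ∈ Cfsg.degreePrimes G, (∀ s : Cfsg.degreePrimes G,
      ((Cfsg.degreeGraph G).induce (Cfsg.degreePrimes G)).Reachable s ⟨c, hc⟩) → False :=
    fun c hc h => by have := card_components_le_one c hc h; omega
  have hpos : ∀ d ∈ Cfsg.charDegrees G, 0 < d := by
    rintro d ⟨χ, rfl⟩
    exact degree_pos χ
  have hnd' : ∀ a ∈ Cfsg.charDegrees G, ∀ b ∈ Cfsg.charDegrees G, a ≠ 1 → a ∣ b → a = b := by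
    intro a ha b hb ha1 hab
    by_contra hne
    have h0 := hpos a ha
    exact hnd a ha b hb (by omega)
      (lt_of_le_of_ne (Nat.le_of_dvd (hpos b hb) hab) hne) hab
  by_cases hcomm : ∀ a b : G, ⁅a, b⁆ = 1
  · exfalso
    haveI : IsEmpty (Cfsg.degreePrimes G) := ⟨fun ⟨s, hsp, d, ⟨χ, hχ⟩, hsd⟩ => by
      subst hχ
      have h1 := degree_eq_one_of_comm χ fun a b => commutatorElement_eq_one_iff_mul_comm.mp (hcomm a b)
      rw [apply_one, Nat.cast_eq_one] at h1
      rw [h1] at hsd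
      exact hsp.ne_one (Nat.dvd_one.mp hsd)⟩
    haveI : IsEmpty ((Cfsg.degreeGraph G).induce (Cfsg.degreePrimes G)).ConnectedComponent :=
      ⟨fun C => by obtain ⟨v, -⟩ := C.exists_rep; exact IsEmpty.false v⟩
    simp at htwo
  push Not at hcomm
  obtain ⟨a₀, b₀, hab₀⟩ := hcomm
  let 𝒦 : Set (Subgroup G) := {K | K.Normal ∧ ¬ commutator G ≤ K}
  have hbot : (⊥ : Subgroup G) ∈ 𝒦 := ⟨inferInstance, fun h => hab₀ (Subgroup.mem_bot.mp
    (h (Subgroup.commutator_mem_commutator (Subgroup.mem_top a₀) (Subgroup.mem_top b₀))))⟩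
  obtain ⟨K, ⟨hKn, hKc⟩, hKmax⟩ := 𝒦.toFinite.exists_maximalFor id 𝒦 ⟨⊥, hbot⟩
  haveI := hKn
  set π := QuotientGroup.mk' K with hπ
  have hmap : (commutator G).map π = commutator (G ⧸ K) := by
    rw [commutator_def, Subgroup.map_commutator,
      Subgroup.map_top_of_surjective π (QuotientGroup.mk'_surjective K)]
    rfl
  have hne : commutator (G ⧸ K) ≠ ⊥ := fun h => hKc (by
    rw [← hmap, Subgroup.map_eq_bot_iff, QuotientGroup.ker_mk'] at h
    exact h)
  have hmin : ∀ X : Subgroup (G ⧸ K), X.Normal → X ≠ ⊥ → commutator (G ⧸ K) ≤ X := by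
    intro X hX hX1
    rw [← hmap, Subgroup.map_le_iff_le_comap]
    by_contra hc
    have hmem : X.comap π ∈ 𝒦 := ⟨inferInstance, hc⟩
    have hle : K ≤ X.comap π := fun k hk => by
      rw [Subgroup.mem_comap, hπ, QuotientGroup.mk'_apply, (QuotientGroup.eq_one_iff k).mpr hk]
      exact one_mem X
    have heq : X.comap π = K := le_antisymm (hKmax hmem hle) hle
    refine hX1 (eq_bot_iff.mpr fun x hx => ?_)
    obtain ⟨g, rfl⟩ := QuotientGroup.mk_surjective x
    have : g ∈ K := heq ▸ (Subgroup.mem_comap.mpr hx : g ∈ X.comap π)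
    exact Subgroup.mem_bot.mpr ((QuotientGroup.eq_one_iff g).mpr this)
  obtain ⟨q, hq, hMpg, hMab, hcase⟩ := S4811.minimal_cases hmin hne
  haveI := Fact.mk hq
  haveI := Fintype.ofFinite G
  rcases hcase with hQ | ⟨htop, hfix⟩
  · exfalso
    obtain ⟨m, hm⟩ := hQ.exists_card_eq
    obtain ⟨β₀, hβ₀⟩ : ∃ β : Cfsg.IrrCharacter (G ⧸ K), Cfsg.charDegree (β : G ⧸ K → ℂ) ≠ 1 := by
      by_contra hall
      push Not at hall
      refine hne (eq_bot_iff.mpr ?_)
      rw [commutator_def, Subgroup.commutator_le]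
      intro x _ y _
      exact Subgroup.mem_bot.mpr
        (commutatorElement_eq_one_iff_mul_comm.mpr (S4811.eq_one_of_forall_degree_one hall x y))
    have hqβ : q ∣ Cfsg.charDegree (β₀ : G ⧸ K → ℂ) := by
      have hdvd := degree_dvd_card β₀
      rw [hm, Nat.dvd_prime_pow hq] at hdvd
      obtain ⟨i, -, hi⟩ := hdvd
      rw [hi]
      exact dvd_pow_self q fun h0 => hβ₀ (by rw [hi, h0, pow_zero])
    haveI := Fintype.ofFinite K
    have hall : ∀ χ : Cfsg.IrrCharacter G, Cfsg.charDegree (χ : G → ℂ) ≠ 1 →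
        q ∣ Cfsg.charDegree (χ : G → ℂ) := by
      intro χ hχ1
      by_contra hqd
      have hres := BlocksChars5.Restrict.restrict_irr_of_coprime K χ (by
        rw [Subgroup.index_eq_card, hm]
        exact Nat.Coprime.pow_right m (Nat.Coprime.symm (hq.coprime_iff_not_dvd.mpr hqd)))
      have hirr := BlocksChars5.Restrict.mul_irr_of_restrict_irr K χ (inflate K β₀) hres
        (le_charKer_inflate K β₀)
      have hmem : Cfsg.charDegree (β₀ : G ⧸ K → ℂ) * Cfsg.charDegree (χ : G → ℂ) ∈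
          Cfsg.charDegrees G := by
        refine ⟨⟨_, hirr⟩, ?_⟩
        show Cfsg.charDegree ((inflate K β₀ : G → ℂ) * (χ : G → ℂ)) = _
        rw [Cfsg.charDegree, Pi.mul_apply, inflate_apply, QuotientGroup.mk_one, apply_one, apply_one,
          ← Nat.cast_mul, Complex.natCast_re, Nat.floor_natCast]
      have h := hnd' _ ⟨χ, rfl⟩ _ hmem hχ1 (dvd_mul_left _ _)
      exact hβ₀ ((Nat.mul_eq_right (degree_pos χ).ne').mp h.symm)
    have hqmem : q ∈ Cfsg.degreePrimes G := by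
      refine ⟨hq, _, ⟨inflate K β₀, rfl⟩, ?_⟩
      refine hqβ.trans (dvd_of_eq (BlocksChars5.Basic.charDegree_congr ?_))
      rw [inflate_apply, QuotientGroup.mk_one]
    refine hcon q hqmem fun s => ?_
    obtain ⟨hsp, d, ⟨χ, rfl⟩, hsd⟩ := s.2
    exact reachable_of_dvd ⟨χ, rfl⟩ s ⟨q, hqmem⟩ hsd
      (hall χ fun h => hsp.ne_one (Nat.dvd_one.mp (h ▸ hsd)))
  set N : Subgroup G := (commutator (G ⧸ K)).comap π with hN
  haveI hNn : N.Normal := Subgroup.Normal.comap inferInstance π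
  haveI := Fintype.ofFinite N
  have hKN : K ≤ N := fun k hk => by
    rw [hN, Subgroup.mem_comap, hπ, QuotientGroup.mk'_apply, (QuotientGroup.eq_one_iff k).mpr hk]
    exact one_mem _
  have hmemK : ∀ g : G, π g = 1 → g ∈ K := fun g h => (QuotientGroup.eq_one_iff g).mp h
  have hKNne : K ≠ N := by
    intro h
    apply hne
    refine eq_bot_iff.mpr fun x hx => ?_
    obtain ⟨g, rfl⟩ := QuotientGroup.mk_surjective x
    have : g ∈ K := h ▸ (Subgroup.mem_comap.mpr hx : g ∈ N)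
    exact Subgroup.mem_bot.mpr ((QuotientGroup.eq_one_iff g).mpr this)
  have hab : ∀ a ∈ N, ∀ b ∈ N, ⁅a, b⁆ ∈ K := fun a ha b hb => hmemK _ (by
    rw [map_commutatorElement, commutatorElement_eq_one_iff_mul_comm]
    exact hMab _ ha _ hb)
  have hGN : ∀ a b : G, ⁅a, b⁆ ∈ N := fun a b => by
    rw [hN, Subgroup.mem_comap, map_commutatorElement]
    exact Subgroup.commutator_mem_commutator (Subgroup.mem_top _) (Subgroup.mem_top _)
  have hsurj : ∀ g : G, g ∉ N → ∀ n ∈ N, ∃ m ∈ N, ⁅g, m⁆⁻¹ * n ∈ K := by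
    intro g hg n hn
    obtain ⟨m, hm, he⟩ := hfix (π g) hg (π n) hn
    obtain ⟨m', rfl⟩ := QuotientGroup.mk'_surjective K m
    refine ⟨m', hm, hmemK _ ?_⟩
    rw [map_mul, map_inv, map_commutatorElement, hπ, he, inv_mul_cancel]
  have hidx : N.index ≠ 1 := by
    rw [Ne, Subgroup.index_eq_one, hN]
    intro h
    apply htop
    rw [← Subgroup.map_comap_eq_self_of_surjective (QuotientGroup.mk'_surjective K)
      (commutator (G ⧸ K)), ← hπ, h, Subgroup.map_top_of_surjective π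
      (QuotientGroup.mk'_surjective K)]
  set K' := K.subgroupOf N with hK'
  haveI : K'.Normal := (inferInstance : K.Normal).subgroupOf N
  haveI := Fintype.ofFinite K'
  obtain ⟨k, hk⟩ : ∃ k, K'.index = q ^ k := by
    obtain ⟨k, hk⟩ := hMpg.exists_card_eq
    refine ⟨k, ?_⟩
    rw [← hk]
    show K.relIndex N = _
    conv_lhs => rw [← QuotientGroup.ker_mk' K, ← MonoidHom.comap_bot (QuotientGroup.mk' K)]
    rw [Subgroup.relIndex_comap, hN, ← hπ,
      Subgroup.map_comap_eq_self_of_surjective (QuotientGroup.mk'_surjective K),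
      Subgroup.relIndex_bot_left]
  have hlift : ∀ ψ : Cfsg.IrrCharacter N, ¬ q ∣ Cfsg.charDegree (ψ : N → ℂ) →
      N.index * Cfsg.charDegree (ψ : N → ℂ) ∈ Cfsg.charDegrees G := fun ψ hψ =>
    S4811.index_mul_degree_mem K N hKN hKNne hab hsurj hGN ψ
      (BlocksChars5.Restrict.restrict_irr_of_coprime K' ψ (by
        rw [hk]
        exact Nat.Coprime.pow_right k (Nat.Coprime.symm (hq.coprime_iff_not_dvd.mpr hψ))))
  have hf : N.index ∈ Cfsg.charDegrees G := by
    have h1 : Cfsg.charDegree ((oneChar N : Cfsg.IrrCharacter N) : N → ℂ) = 1 := by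
      rw [Cfsg.charDegree, oneChar_apply]; simp
    have h2 := hlift (oneChar N) (by rw [h1]; exact hq.not_dvd_one)
    rwa [h1, mul_one] at h2
  -- nonlinear characters of `N` have degree divisible by `q`
  have hqψ : ∀ ψ : Cfsg.IrrCharacter N, deg ψ ≠ 1 → q ∣ deg ψ := by
    intro ψ hψ
    by_contra hqd
    have h := hnd' _ hf _ (hlift ψ hqd) hidx (dvd_mul_right _ _)
    exact hψ ((Nat.mul_eq_left Subgroup.index_ne_zero_of_finite).mp h.symm)
  have hdeg : ∀ χ : Cfsg.IrrCharacter G, deg χ ≠ 1 → deg χ ≠ N.index → q ∣ deg χ := by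
    intro χ h1 h2
    obtain ⟨ψ, hψ⟩ := exists_constituent_restrict N χ.2
    obtain ⟨e, he, hei⟩ := BlocksChars5.Restrict.ratio_dvd_nat N χ ψ hψ
    by_cases hψ1 : deg ψ = 1
    · exfalso
      have he' : deg χ = e := he.trans (by rw [show Cfsg.charDegree (ψ : N → ℂ) = 1 from hψ1, mul_one])
      exact h2 (hnd' _ ⟨χ, rfl⟩ _ hf h1 ((dvd_of_eq he').trans hei))
    · exact (hqψ ψ hψ1).trans (Dvd.intro_left _ he.symm)
  -- some degree is neither `1` nor the index
  obtain ⟨χ₁, hχ₁1, hχ₁f⟩ : ∃ χ : Cfsg.IrrCharacter G, deg χ ≠ 1 ∧ deg χ ≠ N.index := by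
    by_contra hall
    push Not at hall
    have hrp : N.index.minFac.Prime := Nat.minFac_prime hidx
    refine hcon N.index.minFac ⟨hrp, _, hf, Nat.minFac_dvd _⟩ fun s => ?_
    obtain ⟨hsp, d, ⟨χ, rfl⟩, hsd⟩ := s.2
    have h := hall χ fun h => hsp.ne_one (Nat.dvd_one.mp (h ▸ hsd))
    exact reachable_of_dvd hf s _ (h ▸ hsd) (Nat.minFac_dvd _)
  have hqmem : q ∈ Cfsg.degreePrimes G := ⟨hq, _, ⟨χ₁, rfl⟩, hdeg χ₁ hχ₁1 hχ₁f⟩
  have hcop : ∀ χ : Cfsg.IrrCharacter G, deg χ ≠ 1 → deg χ ≠ N.index →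
      (deg χ).Coprime N.index := by
    intro χ h1 h2
    by_contra hnc
    obtain ⟨t, ht, htχ, htf⟩ := Nat.Prime.not_coprime_iff_dvd.mp hnc
    refine hcon q hqmem fun s => ?_
    obtain ⟨hsp, d, ⟨χ', rfl⟩, hsd⟩ := s.2
    by_cases hd : deg χ' = N.index
    · have htmem : t ∈ Cfsg.degreePrimes G := ⟨ht, _, hf, htf⟩
      exact (reachable_of_dvd hf s ⟨t, htmem⟩ (hd ▸ hsd) htf).trans
        (reachable_of_dvd ⟨χ, rfl⟩ ⟨t, htmem⟩ ⟨q, hqmem⟩ htχ (hdeg χ h1 h2))
    · exact reachable_of_dvd ⟨χ', rfl⟩ s ⟨q, hqmem⟩ hsd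
        (hdeg χ' (fun h => hsp.ne_one (Nat.dvd_one.mp (h ▸ hsd))) hd)
  have hqf : ¬ q ∣ N.index := fun h =>
    hq.not_dvd_one ((hcop χ₁ hχ₁1 hχ₁f) ▸ Nat.dvd_gcd (hdeg χ₁ hχ₁1 hχ₁f) h)
  -- the nonlinear characters of `N` are invariant
  have hinv : ∀ ψ : Cfsg.IrrCharacter N, deg ψ ≠ 1 → deg ψ ∈ Cfsg.charDegrees G ∧
      (deg ψ).Coprime N.index ∧ ∀ g : G, conjC N g (ψ : N → ℂ) = ψ := by
    intro ψ hψ
    obtain ⟨χ, hχ⟩ := RelDegrees87.Basic.exists_over N ψ
    obtain ⟨e, he0, -, hd⟩ := RelDegrees87.Basic.degree_eq N hχ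
    replace hd : deg χ = e * (inertia N (ψ : N → ℂ)).index * deg ψ := hd
    have hqχ : q ∣ deg χ := hd ▸ dvd_mul_of_dvd_right (hqψ ψ hψ) _
    have h1 : deg χ ≠ 1 := fun h => hq.not_dvd_one (h ▸ hqχ)
    have h2 : deg χ ≠ N.index := fun h => hqf (h ▸ hqχ)
    obtain ⟨e', he', hei'⟩ := BlocksChars5.Restrict.ratio_dvd_nat N χ ψ hχ
    replace he' : deg χ = e' * deg ψ := he'
    have he'1 : e' = 1 := Nat.eq_one_of_dvd_coprimes (hcop χ h1 h2) (Dvd.intro _ he'.symm) hei'
    rw [he'1, one_mul] at he'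
    rw [he'] at hd
    have h3 : e * (inertia N (ψ : N → ℂ)).index = 1 :=
      (Nat.mul_eq_right (degree_pos ψ).ne').mp hd.symm
    have h4 := Subgroup.index_eq_one.mp (Nat.eq_one_of_mul_eq_one_left h3)
    exact ⟨⟨χ, he'⟩, he' ▸ hcop χ h1 h2, fun g => (mem_inertia N).mp (h4 ▸ Subgroup.mem_top g)⟩
  -- the normal `q`-complement
  obtain ⟨M, hMn, hMq, v, hv⟩ := S4456.result (G := N) q hq fun ψ h => hqψ ψ h
  haveI := hMn
  have hMchar : ∀ (β : MulAut N), ∀ x ∈ M, β x ∈ M := by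
    intro β x hx
    refine mem_of_coprime_index M ?_
    rw [β.orderOf_eq, hv]
    exact (hMq.symm.pow_left v).coprime_dvd_right (Subgroup.orderOf_dvd_natCard M hx)
  let Q : Sylow q N := default
  have hQcard : Nat.card (Q : Subgroup N) = q ^ v := by
    rw [Q.card_eq_multiplicity, ← M.card_mul_index, hv,
      Nat.factorization_mul Nat.card_pos.ne' (pow_ne_zero _ hq.ne_zero), Finsupp.add_apply,
      Nat.factorization_eq_zero_of_not_dvd (hq.coprime_iff_not_dvd.mp hMq.symm), zero_add,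
      hq.factorization_pow, Finsupp.single_eq_same]
  have hc : Subgroup.IsComplement' M (Q : Subgroup N) := by
    refine Subgroup.isComplement'_of_coprime ?_ ?_
    · rw [hQcard, ← hv, M.card_mul_index]
    · rw [hQcard]
      exact hMq.pow_right v
  -- an element outside `N` normalising `Q`
  set Qg : Subgroup G := (Q : Subgroup N).map N.subtype with hQg
  obtain ⟨g, hg, hgN⟩ : ∃ g ∈ Subgroup.normalizer (Qg : Set G), g ∉ N := by
    by_contra hall
    push Not at hall
    have h := Sylow.normalizer_sup_eq_top Q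
    rw [← hQg, sup_eq_right.mpr hall] at h
    exact hidx (Subgroup.index_eq_one.mpr h)
  obtain ⟨a, b, hab', hb, ha⟩ := exists_split (f := N.index) (orderOf_pos g)
  set c := g ^ b with hcdef
  have hcN : c ∉ N := by
    intro h
    have h1 := NoDivDegrees78.Abstract.pow_gcd_mem N h (Subgroup.pow_index_mem N g)
    rw [hb.gcd_eq_one, pow_one] at h1
    exact hgN h1
  have hcord : orderOf c ∣ a := orderOf_dvd_of_pow_eq_one (by
    rw [hcdef, ← pow_mul, mul_comm, ← hab', pow_orderOf_eq_one])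
  set α : MulAut N := MulAut.conjNormal c with hα
  have hαord : orderOf α ∣ a := (orderOf_map_dvd _ c).trans hcord
  have hαcop : ∀ d : ℕ, d.Coprime N.index → (orderOf α).Coprime d := fun d hd =>
    Nat.coprime_of_dvd fun p hp hp1 hp2 =>
      hp.not_dvd_one (hd ▸ Nat.dvd_gcd hp2 (ha p hp (hp1.trans hαord)))
  have hyp : Hyp α :=
    { inv := fun ψ hψ x => by
        have h := congrFun ((hinv ψ hψ).2.2 c) x
        rw [conjC_apply] at h
        refine Eq.trans ?_ h
        exact congrArg _ (Subtype.ext (by simp [hα]))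
      cop := fun ψ hψ => hαcop _ (hinv ψ hψ).2.1
      nd := fun ψ ψ' h h' hdvd => hnd' _ (hinv ψ h).1 _ (hinv ψ' h').1 h hdvd }
  have hαQ : ∀ x ∈ (Q : Subgroup N), α x ∈ (Q : Subgroup N) := by
    intro x hx
    have hcnorm : c ∈ Subgroup.normalizer (Qg : Set G) := pow_mem hg b
    have h1 : c * (x : G) * c⁻¹ ∈ Qg :=
      (Subgroup.mem_normalizer_iff.mp hcnorm _).mp ⟨x, hx, rfl⟩
    obtain ⟨y, hy, hye⟩ := h1
    have e : α x = y := Subtype.ext (by rw [hα, MulAut.conjNormal_apply]; exact hye.symm)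
    rw [e]
    exact hy
  have hαne : ∃ x ∈ (Q : Subgroup N), α x ≠ x := by
    by_contra hall
    push Not at hall
    apply hKNne
    refine le_antisymm hKN ?_
    have hMK : ∀ x ∈ M, (x : G) ∈ K := fun x hx => by
      have h := mem_of_coprime_index K' (x := x) (by
        rw [hk]
        exact (hMq.symm.pow_left k).coprime_dvd_right (Subgroup.orderOf_dvd_natCard M hx))
      exact h
    intro n hn
    obtain ⟨m, hm, hmn⟩ := hsurj c hcN n hn
    set p := NoDivDegrees78.Complement.proj hc ⟨m, hm⟩ with hp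
    set m₁ : N := ⟨m, hm⟩ * p⁻¹ with hm₁
    have hm₁M : m₁ ∈ M := NoDivDegrees78.Complement.mul_proj_inv_mem hc _
    have hpfix : α p = p := hall p (NoDivDegrees78.Complement.proj_mem hc _)
    have e : ⁅c, m⁆ = ((α m₁ * m₁⁻¹ : N) : G) := by
      have h1 : α ⟨m, hm⟩ * (⟨m, hm⟩ : N)⁻¹ = α m₁ * m₁⁻¹ := by
        have h2 : (⟨m, hm⟩ : N) = m₁ * p := by rw [hm₁]; group
        rw [h2, map_mul, hpfix]
        group
      rw [← h1]
      simp [hα, commutatorElement_def]
    have h3 : ⁅c, m⁆ ∈ K := e ▸ hMK _ (mul_mem (hMchar α m₁ hm₁M) (inv_mem hm₁M))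
    have h4 := mul_mem h3 hmn
    rwa [mul_inv_cancel_left] at h4
  have hqα : (orderOf α).Coprime q := (hαcop q (hq.coprime_iff_not_dvd.mpr hqf))
  obtain ⟨ψ₁, hψ₁⟩ := exists_constituent_restrict N χ₁.2
  have hψ₁1 : deg ψ₁ ≠ 1 := by
    intro h
    obtain ⟨e, he, hei⟩ := BlocksChars5.Restrict.ratio_dvd_nat N χ₁ ψ₁ hψ₁
    have he' : deg χ₁ = e := he.trans (by rw [show Cfsg.charDegree (ψ₁ : N → ℂ) = 1 from h, mul_one])
    exact hχ₁f (hnd' _ ⟨χ₁, rfl⟩ _ hf hχ₁1 ((dvd_of_eq he').trans hei))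
  have hall : ∀ χ : Cfsg.IrrCharacter G, deg χ ≠ 1 → deg χ ≠ N.index → deg χ = deg ψ₁ := by
    intro χ h1 h2
    obtain ⟨ψ, hψ⟩ := exists_constituent_restrict N χ.2
    have hψ1 : deg ψ ≠ 1 := by
      intro h
      obtain ⟨e, he, hei⟩ := BlocksChars5.Restrict.ratio_dvd_nat N χ ψ hψ
      have he' : deg χ = e := he.trans (by rw [show Cfsg.charDegree (ψ : N → ℂ) = 1 from h, mul_one])
      exact h2 (hnd' _ ⟨χ, rfl⟩ _ hf h1 ((dvd_of_eq he').trans hei))
    obtain ⟨e, he, hei⟩ := BlocksChars5.Restrict.ratio_dvd_nat N χ ψ hψ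
    have hdvd : deg ψ ∣ deg χ := Dvd.intro_left _ he.symm
    refine (hnd' _ (hinv ψ hψ1).1 _ ⟨χ, rfl⟩ hψ1 hdvd).symm.trans ?_
    exact NoDivDegrees78.Main.eq_deg hc Q.2 hMq hyp (hMchar α) hαQ hαne hqα hψ1 hψ₁1
  have hset : Cfsg.charDegrees G = {1, N.index, deg ψ₁} := by
    ext d
    simp only [Set.mem_insert_iff, Set.mem_singleton_iff]
    constructor
    · rintro ⟨χ, rfl⟩
      by_cases h1 : deg χ = 1
      · exact Or.inl h1
      by_cases h2 : deg χ = N.index
      · exact Or.inr (Or.inl h2)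
      exact Or.inr (Or.inr (hall χ h1 h2))
    · rintro (rfl | rfl | rfl)
      · refine ⟨oneChar G, ?_⟩
        rw [Cfsg.charDegree, oneChar_apply]; simp
      · exact hf
      · exact (hinv ψ₁ hψ₁1).1
  rw [Nat.card_coe_set_eq, hset]
  exact Set.ncard_eq_three.mpr ⟨1, N.index, deg ψ₁, Ne.symm hidx, Ne.symm hψ₁1,
    fun h => hqf (h ▸ hqψ ψ₁ hψ₁1), rfl⟩

end

/-- Let G be a finite solvable group in which no irreducible complex character degree a with 1 < a divides a larger irreducible character degree, and suppose the character degree graph of G (primes dividing some degree, distinct primes adjacent when their product divides a degree) has exactly two connected components. Then G has exactly three distinct irreducible character degrees. -/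
theorem result {G : Type*} [Group G] [Finite G] [Group.IsSolvable G] (hnd : ∀ a ∈ Cfsg.charDegrees G, ∀ b ∈ Cfsg.charDegrees G, 1 < a → a < b → ¬ a ∣ b) (htwo : Nat.card ((Cfsg.degreeGraph G).induce (Cfsg.degreePrimes G)).ConnectedComponent = 2) : Nat.card ↥(Cfsg.charDegrees G) = 3 := by
  exact three_degrees hnd htwo

end Cfsg.Agent.S4781
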