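import Cfsg.Statements.S4782
import Cfsg.Agent.Lib.BlocksChars5.SimpleDegrees
import Cfsg.Agent.Lib.BlocksChars5.Restrict

set_option autoImplicit false
open Cfsg

namespace Cfsg.Agent.S4782


open Cfsg.Agent.Lib.Characters.Basic Cfsg.Agent.Lib.BlocksChars5
open Cfsg.Agent.Lib.Induced.Basic

universe u

theorem degreePrimes_subgroup {G : Type u} [Group G] [Finite G] (N : Subgroup G) [N.Normal] :
    Cfsg.degreePrimes N ⊆ Cfsg.degreePrimes G := by
  rintro r ⟨hr, d, ⟨θ, rfl⟩, hrd⟩
  haveI := Fintype.ofFinite G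
  haveI := Fintype.ofFinite N
  obtain ⟨χ, hχ⟩ := Lib.Clifford.Basic.exists_constituent
    (Lib.Induced.Character.isCharacter_indFun N (isCharacter_irr θ)) (fun h => by
      have h1 := congrFun h 1
      rw [indFun_one, Pi.zero_apply, mul_eq_zero] at h1
      exact h1.elim (Nat.cast_ne_zero.mpr Subgroup.index_ne_zero_of_finite) (apply_one_ne_zero θ))
  rw [frobenius_reciprocity N _ (isClassFunction_irr χ)] at hχ
  obtain ⟨e, he, -⟩ :=
    Restrict.ratio_dvd_nat N χ θ (Lib.Clifford.Basic.classInner_ne_zero_symm hχ)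
  exact ⟨hr, _, ⟨χ, rfl⟩, he ▸ dvd_mul_of_dvd_right hrd e⟩

theorem degreePrimes_quotient {G : Type u} [Group G] [Finite G] (N : Subgroup G) [N.Normal] :
    Cfsg.degreePrimes (G ⧸ N) ⊆ Cfsg.degreePrimes G := by
  rintro r ⟨hr, d, ⟨χ, rfl⟩, hrd⟩
  exact ⟨hr, _, ⟨Basic.inflate N χ, rfl⟩, (Basic.charDegree_congr
    (f := (Basic.inflate N χ : G → ℂ)) (f' := (χ : G ⧸ N → ℂ)) rfl).symm ▸ hrd⟩

theorem three_primes : ∀ (n : ℕ) {G : Type u} [Group G] [Finite G], Nat.card G ≤ n →
    ¬ Group.IsSolvable G → ∃ p q r : ℕ, p ≠ q ∧ q ≠ r ∧ p ≠ r ∧ p ∈ Cfsg.degreePrimes G ∧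
      q ∈ Cfsg.degreePrimes G ∧ r ∈ Cfsg.degreePrimes G := by
  intro n
  induction n with
  | zero => exact fun h => absurd (Nat.le_zero.mp h) Nat.card_pos.ne'
  | succ n ih =>
    intro G _ _ hn hns
    haveI : Nontrivial G := by
      by_contra h
      rw [not_nontrivial_iff_subsingleton] at h
      exact hns (Group.isSolvable_of_comm fun a b => Subsingleton.elim _ _)
    by_cases hsimple : IsSimpleGroup G
    · exact SimpleDegrees.three_degree_primes fun h => hns (Group.isSolvable_of_comm h)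
    obtain ⟨N, hNn, hN1, hN2⟩ : ∃ N : Subgroup G, N.Normal ∧ N ≠ ⊥ ∧ N ≠ ⊤ := by
      by_contra h
      push Not at h
      exact hsimple ⟨fun N hN => (em (N = ⊥)).imp id fun h1 => h N hN h1⟩
    haveI := hNn
    by_cases hNs : Group.IsSolvable N
    · have hq : ¬ Group.IsSolvable (G ⧸ N) := fun hQ => hns
        (solvable_of_ker_le_range N.subtype (QuotientGroup.mk' N)
          (by rw [QuotientGroup.ker_mk', Subgroup.range_subtype]))
      have hlt : Nat.card (G ⧸ N) < Nat.card G := by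
        rw [← Subgroup.index_eq_card, ← N.index_mul_card]
        refine lt_mul_of_one_lt_right (Nat.pos_of_ne_zero Subgroup.index_ne_zero_of_finite) ?_
        exact Subgroup.one_lt_card_iff_ne_bot N |>.mpr hN1
      obtain ⟨p, q, r, h1, h2, h3, h4, h5, h6⟩ := ih (by omega) hq
      exact ⟨p, q, r, h1, h2, h3, degreePrimes_quotient N h4, degreePrimes_quotient N h5,
        degreePrimes_quotient N h6⟩
    · have hlt : Nat.card N < Nat.card G := Nat.lt_of_le_of_ne (Subgroup.card_le_card_group N)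
        fun h => hN2 (Subgroup.eq_top_of_card_eq N h)
      obtain ⟨p, q, r, h1, h2, h3, h4, h5, h6⟩ := ih (by omega) hNs
      exact ⟨p, q, r, h1, h2, h3, degreePrimes_subgroup N h4, degreePrimes_subgroup N h5,
        degreePrimes_subgroup N h6⟩

/-- If the finite group G is not solvable, then at least three distinct primes each divide some irreducible complex character degree of G. -/
theorem result {G : Type*} [Group G] [Finite G] (hG : ¬ Group.IsSolvable G) : ∃ p q r : ℕ, p ≠ q ∧ q ≠ r ∧ p ≠ r ∧ p ∈ Cfsg.degreePrimes G ∧ q ∈ Cfsg.degreePrimes G ∧ r ∈ Cfsg.degreePrimes G := by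
  exact three_primes (Nat.card G) le_rfl hG

end Cfsg.Agent.S4782
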