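import Cfsg.Statements.S4784
import Cfsg.Agent.Lib.BlocksChars5.Vanishing
import Cfsg.Agent.Lib.Characters.Indicator
import Cfsg.Agent.Lib.Induced.Basic
import Mathlib.GroupTheory.Perm.Cycle.Type

set_option autoImplicit false
open Cfsg

namespace Cfsg.Agent.S4784

open scoped ComplexConjugate
open Cfsg.Agent.Lib.Characters.Basic Cfsg.Agent.Lib.Induced.Basic
open Cfsg.Agent.Lib.BlocksChars5.Basic

attribute [local instance] irrFintype

variable {G : Type*} [Group G] [Fintype G]

/-- Real character of type `+` occurring in the permutation character on the cosets of `H`. -/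
def IsPlus (H : Subgroup G) (χ : Cfsg.IrrCharacter G) : Prop :=
  Cfsg.classInner (Cfsg.indFun H (fun _ : H => (1 : ℂ))) (χ : G → ℂ) ≠ 0 ∧
    (∀ g : G, (starRingEnd ℂ) ((χ : G → ℂ) g) = (χ : G → ℂ) g) ∧
    (Nat.card G : ℂ)⁻¹ * ∑ g : G, (χ : G → ℂ) (g * g) = 1

theorem inner_indOne (H : Subgroup G) [Fintype H] (χ : Cfsg.IrrCharacter G) :
    Cfsg.classInner (Cfsg.indFun H (fun _ : H => (1 : ℂ))) (χ : G → ℂ) =
      (Nat.card H : ℂ)⁻¹ * ∑ h : H, conj ((χ : G → ℂ) h) := by
  rw [frobenius_reciprocity H _ (isClassFunction_irr χ)]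
  simp [Cfsg.classInner]

theorem inner_indOne_nat (H : Subgroup G) (χ : Cfsg.IrrCharacter G) :
    ∃ m : ℕ, Cfsg.classInner (Cfsg.indFun H (fun _ : H => (1 : ℂ))) (χ : G → ℂ) = m :=
  exists_classInner_nat
    (Cfsg.Agent.Lib.Induced.Character.isCharacter_indFun H
      (isCharacter_one (G := H)))
    (isCharacter_irr χ)

theorem one_isPlus (H : Subgroup G) : IsPlus H (oneChar G) := by
  classical
  have := Fintype.ofFinite H
  refine ⟨?_, fun g => by simp [oneChar_apply], ?_⟩
  · rw [inner_indOne]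
    simp [oneChar_apply, Finset.card_univ, Nat.card_eq_fintype_card]
  · simp [oneChar_apply, Finset.card_univ, Nat.card_eq_fintype_card]

open scoped Classical in
theorem card_conj_eq (a h : G) :
    (Finset.univ.filter fun x : G => x * a * x⁻¹ = h).card =
      if IsConj a h then Nat.card (Subgroup.centralizer ({a} : Set G)) else 0 := by
  split_ifs with hc
  · obtain ⟨x₀, hx₀⟩ := isConj_iff.mp hc
    rw [← Fintype.card_subtype, ← Nat.card_eq_fintype_card]
    refine Nat.card_congr
      { toFun := fun x => ⟨x₀⁻¹ * x.1, ?_⟩, invFun := fun c => ⟨x₀ * c.1, ?_⟩,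
        left_inv := fun x => by simp, right_inv := fun c => by simp }
    · rw [Subgroup.mem_centralizer_singleton_iff]
      have h1 : x.1 * a * x.1⁻¹ = x₀ * a * x₀⁻¹ := x.2.trans hx₀.symm
      have h2 := congrArg (fun y => x₀⁻¹ * y * x.1) h1
      simpa [mul_assoc] using h2
    · have h2 := Subgroup.mem_centralizer_singleton_iff.mp c.2
      rw [mul_inv_rev, mul_assoc x₀ c.1 a, h2, ← hx₀]
      group
  · rw [Finset.card_eq_zero, Finset.filter_eq_empty_iff]
    exact fun x _ hx => hc (isConj_iff.mpr ⟨x, hx⟩)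

theorem weighted_sum (H : Subgroup G) [Fintype H] [DecidablePred (· ∈ H)] :
    ∑ χ : Cfsg.IrrCharacter G, ((Nat.card G : ℂ)⁻¹ * ∑ s : G, (χ : G → ℂ) (s * s)) *
        Cfsg.classInner (Cfsg.indFun H (fun _ : H => (1 : ℂ))) (χ : G → ℂ) =
      (Nat.card H : ℂ)⁻¹ * ((Finset.univ.filter fun s : G => s * s ∈ H).card : ℂ) := by
  classical
  have hG : (Nat.card G : ℂ) ≠ 0 := Nat.cast_ne_zero.mpr Nat.card_pos.ne'
  have key : ∀ h : H, ∑ χ : Cfsg.IrrCharacter G, ∑ s : G,
      (χ : G → ℂ) (s * s) * conj ((χ : G → ℂ) h) =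
      (Nat.card G : ℂ) * ∑ s : G, if s * s = (h : G) then (1 : ℂ) else 0 := by
    intro h
    rw [Finset.sum_comm]
    have e1 : ∀ s : G, ∑ χ : Cfsg.IrrCharacter G, (χ : G → ℂ) (s * s) * conj ((χ : G → ℂ) h) =
        ∑ x : G, if x * (s * s) * x⁻¹ = (h : G) then (1 : ℂ) else 0 := fun s => by
      rw [second_orthogonality, Finset.sum_boole]
      simp only [card_conj_eq]
      split_ifs <;> simp
    rw [Finset.sum_congr rfl (fun s _ => e1 s), Finset.sum_comm, Finset.sum_congr rfl
      (fun x _ => Fintype.sum_equiv (MulAut.conj x).toEquiv _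
        (fun s => if s * s = (h : G) then (1 : ℂ) else 0) fun s => by simp [mul_assoc])]
    simp [Finset.card_univ, Nat.card_eq_fintype_card]
  have e2 : ∀ χ : Cfsg.IrrCharacter G, ((Nat.card G : ℂ)⁻¹ * ∑ s : G, (χ : G → ℂ) (s * s)) *
      Cfsg.classInner (Cfsg.indFun H (fun _ : H => (1 : ℂ))) (χ : G → ℂ) =
      ((Nat.card G : ℂ)⁻¹ * (Nat.card H : ℂ)⁻¹) *
        ∑ h : H, ∑ s : G, (χ : G → ℂ) (s * s) * conj ((χ : G → ℂ) h) := fun χ => by
    rw [inner_indOne, mul_mul_mul_comm, Finset.sum_mul_sum, Finset.sum_comm]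
  rw [Finset.sum_congr rfl (fun χ _ => e2 χ), ← Finset.mul_sum, Finset.sum_comm,
    Finset.sum_congr rfl (fun h _ => key h), ← Finset.mul_sum, Finset.sum_comm]
  have e3 : ∀ s : G, (∑ h : H, if s * s = (h : G) then (1 : ℂ) else 0) =
      if s * s ∈ H then 1 else 0 := fun s => by
    by_cases hs : s * s ∈ H
    · rw [if_pos hs, Finset.sum_eq_single (⟨s * s, hs⟩ : H) (fun h _ hne => if_neg fun e =>
        hne (Subtype.ext e.symm)) (by simp), if_pos rfl]
    · rw [if_neg hs]
      exact Finset.sum_eq_zero fun h _ => if_neg fun e : s * s = (h : G) => hs (e.symm ▸ h.2)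
  rw [Finset.sum_congr rfl (fun s _ => e3 s), Finset.sum_boole]
  field_simp

theorem odd_of_unique (H : Subgroup G) (h : Nat.card {χ : Cfsg.IrrCharacter G // IsPlus H χ} = 1) :
    Odd H.normalCore.index := by
  classical
  have := Fintype.ofFinite H
  have huniq : ∀ χ, IsPlus H χ → χ = oneChar G := fun χ hχ =>
    congrArg Subtype.val ((Nat.card_eq_one_iff_unique.mp h).1.elim ⟨χ, hχ⟩ ⟨_, one_isPlus H⟩)
  have hS := congrArg Complex.re (weighted_sum H)
  rw [Complex.re_sum, ← Finset.add_sum_erase _ _ (Finset.mem_univ (oneChar G))] at hS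
  have h1 : ((Nat.card G : ℂ)⁻¹ * ∑ s : G, (oneChar G : G → ℂ) (s * s)) *
      Cfsg.classInner (Cfsg.indFun H (fun _ : H => (1 : ℂ))) (oneChar G : G → ℂ) = 1 := by
    rw [inner_indOne]
    simp [oneChar_apply, Finset.card_univ, Nat.card_eq_fintype_card]
  rw [h1, Complex.one_re] at hS
  have hneg : ∑ χ ∈ Finset.univ.erase (oneChar G),
      (((Nat.card G : ℂ)⁻¹ * ∑ s : G, (χ : G → ℂ) (s * s)) *
        Cfsg.classInner (Cfsg.indFun H (fun _ : H => (1 : ℂ))) (χ : G → ℂ)).re ≤ 0 := by
    refine Finset.sum_nonpos fun χ hχ => ?_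
    obtain ⟨m, hm⟩ := inner_indOne_nat H χ
    rcases Nat.eq_zero_or_pos m with rfl | hm0
    · simp [hm]
    have hspec := Cfsg.Agent.Lib.Characters.Indicator.indicator_spec χ
    by_cases hreal : ∀ g, ((χ : G → ℂ) g).im = 0
    · rcases hspec.1 hreal with hp | hmn
      · exfalso
        refine Finset.ne_of_mem_erase hχ (huniq χ ⟨?_, fun g => ?_, hp⟩)
        · rw [hm]; exact Nat.cast_ne_zero.mpr hm0.ne'
        · exact Complex.conj_eq_iff_im.mpr (hreal g)
      · rw [hmn, hm]; simp
    · rw [hspec.2 hreal]; simp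
  have hle : (Finset.univ.filter fun s : G => s * s ∈ H).card ≤ Nat.card H := by
    have h2 : ((Nat.card H : ℂ)⁻¹ * ((Finset.univ.filter fun s : G => s * s ∈ H).card : ℂ)).re =
        (Nat.card H : ℝ)⁻¹ * ((Finset.univ.filter fun s : G => s * s ∈ H).card : ℝ) := by
      rw [← Complex.ofReal_natCast, ← Complex.ofReal_natCast, ← Complex.ofReal_inv,
        ← Complex.ofReal_mul, Complex.ofReal_re]
    rw [h2] at hS
    have h3 : (Nat.card H : ℝ)⁻¹ * ((Finset.univ.filter fun s : G => s * s ∈ H).card : ℝ) ≤ 1 := by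
      linarith
    rw [inv_mul_le_iff₀ (by exact_mod_cast Nat.card_pos), mul_one] at h3
    exact_mod_cast h3
  have hsub : Finset.univ.filter (fun s : G => s ∈ H) ⊆
      Finset.univ.filter (fun s : G => s * s ∈ H) := fun s hs =>
    Finset.mem_filter.mpr ⟨Finset.mem_univ _, H.mul_mem (Finset.mem_filter.mp hs).2
      (Finset.mem_filter.mp hs).2⟩
  have heq := Finset.eq_of_subset_of_card_le hsub (le_trans hle (le_of_eq (by
    rw [Nat.card_eq_fintype_card, Fintype.card_subtype])))
  rw [Subgroup.index_eq_card, ← Nat.not_even_iff_odd, even_iff_two_dvd]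
  intro hd
  haveI : Fact (Nat.Prime 2) := ⟨Nat.prime_two⟩
  obtain ⟨x, hx⟩ := exists_prime_orderOf_dvd_card' 2 hd
  obtain ⟨s, rfl⟩ := QuotientGroup.mk_surjective x
  have hsq : s * s ∈ H.normalCore := by
    have := pow_orderOf_eq_one (s : G ⧸ H.normalCore)
    rwa [hx, pow_two, ← QuotientGroup.mk_mul, QuotientGroup.eq_one_iff] at this
  have hs : s ∈ H.normalCore := by
    intro b
    have hb : b * s * b⁻¹ * (b * s * b⁻¹) ∈ H := by
      have := hsq b
      simpa [mul_assoc] using this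
    have : b * s * b⁻¹ ∈ Finset.univ.filter (fun s : G => s * s ∈ H) :=
      Finset.mem_filter.mpr ⟨Finset.mem_univ _, hb⟩
    rw [← heq] at this
    exact (Finset.mem_filter.mp this).2
  rw [(QuotientGroup.eq_one_iff s).mpr hs, orderOf_one] at hx
  omega

theorem unique_of_odd (H : Subgroup G) (h : Odd H.normalCore.index) :
    Nat.card {χ : Cfsg.IrrCharacter G // IsPlus H χ} = 1 := by
  classical
  have := Fintype.ofFinite H
  set N := H.normalCore with hN
  have := Fintype.ofFinite N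
  refine Nat.card_eq_one_iff_unique.mpr ⟨⟨fun a b => Subtype.ext ?_⟩, ⟨⟨_, one_isPlus H⟩⟩⟩
  suffices ∀ χ, IsPlus H χ → χ = oneChar G from (this _ a.2).trans (this _ b.2).symm
  rintro χ ⟨hm, hreal, -⟩
  have hker : N ≤ charKer χ := by
    intro n hn
    by_contra hne
    apply hm
    rw [inner_indOne, ← map_sum]
    have h0 : (Fintype.card N : ℂ) * ∑ x : H, (χ : G → ℂ) x = 0 := by
      rw [← nsmul_eq_mul, ← Finset.card_univ, ← Finset.sum_const]
      have e : ∀ m : N, ∑ x : H, (χ : G → ℂ) x = ∑ x : H, (χ : G → ℂ) ((m : G) * x) := fun m =>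
        (Fintype.sum_equiv (Equiv.mulLeft (⟨(m : G), H.normalCore_le m.2⟩ : H))
          (fun x : H => (χ : G → ℂ) ((m : G) * x)) (fun x : H => (χ : G → ℂ) x) fun x => rfl).symm
      rw [Finset.sum_congr rfl (fun m _ => e m), Finset.sum_comm]
      exact Finset.sum_eq_zero fun x _ =>
        Cfsg.Agent.Lib.BlocksChars5.Vanishing.sum_coset_eq_zero χ N ⟨n, hn, hne⟩ x
    rw [(mul_eq_zero.mp h0).resolve_left (Nat.cast_ne_zero.mpr Fintype.card_ne_zero), map_zero,
      mul_zero]
  obtain ⟨χ', hχ'⟩ := exists_deflate χ N hker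
  have hval : ∀ g : G, (χ' : G ⧸ N → ℂ) g = (χ : G → ℂ) g := fun g =>
    congrFun (congrArg Subtype.val hχ') g
  have hone := Cfsg.Agent.Lib.Characters.Indicator.eq_oneChar_of_real
    (G := G ⧸ N) (by rwa [← Subgroup.index_eq_card]) χ' fun x => by
      obtain ⟨g, rfl⟩ := QuotientGroup.mk_surjective x
      rw [hval]
      exact Complex.conj_eq_iff_im.mp (hreal g)
  refine Subtype.ext (funext fun g => ?_)
  rw [← hval, hone]
  rfl

/-- Let H be a subgroup of the finite group G and consider the permutation character of G on the cosets of H (the function induced from the principal character of H). Then exactly one irreducible constituent of it is real-valued with Frobenius–Schur indicator +1 (namely the principal character) if and only if the normal core of H has odd index in G. -/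
theorem result {G : Type*} [Group G] [Fintype G] (H : Subgroup G) : Nat.card {χ : Cfsg.IrrCharacter G // Cfsg.classInner (Cfsg.indFun H (fun _ : H => (1 : ℂ))) (χ : G → ℂ) ≠ 0 ∧ (∀ g : G, (starRingEnd ℂ) ((χ : G → ℂ) g) = (χ : G → ℂ) g) ∧ (Nat.card G : ℂ)⁻¹ * ∑ g : G, (χ : G → ℂ) (g * g) = 1} = 1 ↔ Odd H.normalCore.index := by
  exact ⟨odd_of_unique H, unique_of_odd H⟩

end Cfsg.Agent.S4784
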