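-- statement Cfsg.CfsgFrozen.S4805 (Cfsg/Statements/S4805.lean)
import Cfsg.Statements.S4805
import Cfsg.Agent.Lib.OneNonzero.Chars
import Cfsg.Agent.Lib.OneNonzero.Solvable

set_option autoImplicit false
open Cfsg

namespace Cfsg.Agent.S4805

open Cfsg.Agent.Lib.OneNonzero Cfsg.Agent.Lib.Characters.Basic Cfsg.Agent.Lib.Characters.Kernel

/-- Let G be a finite group, g an element outside the centre of G, and χ an irreducible complex character of degree greater than one with χ(g) ≠ 0 such that every other irreducible character of degree greater than one vanishes at g. Then g lies in the derived subgroup G′ and χ(g) = −[G : G′]/χ(1); G′ is the union of the kernel of χ (the elements where χ takes the value χ(1)) and the conjugacy class of g, and χ vanishes outside G′; every irreducible character of degree greater than one whose kernel contains that of χ equals χ; and G is solvable. -/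
theorem result {G : Type*} [Group G] [Finite G] (g : G) (hg : g ∉ Subgroup.center G) (χ : Cfsg.IrrCharacter G) (hχ1 : Cfsg.charDegree (χ : G → ℂ) ≠ 1) (hχg : (χ : G → ℂ) g ≠ 0) (hother : ∀ ψ : Cfsg.IrrCharacter G, Cfsg.charDegree (ψ : G → ℂ) ≠ 1 → ψ ≠ χ → (ψ : G → ℂ) g = 0) : g ∈ commutator G ∧ (χ : G → ℂ) g = -(((commutator G).index : ℂ) / (χ : G → ℂ) 1) ∧ ((commutator G : Set G) = {x : G | (χ : G → ℂ) x = (χ : G → ℂ) 1} ∪ {h : G | IsConj g h}) ∧ (∀ x : G, x ∉ commutator G → (χ : G → ℂ) x = 0) ∧ (∀ ψ : Cfsg.IrrCharacter G, Cfsg.charDegree (ψ : G → ℂ) ≠ 1 → (∀ x : G, (χ : G → ℂ) x = (χ : G → ℂ) 1 → (ψ : G → ℂ) x = (ψ : G → ℂ) 1) → ψ = χ) ∧ Group.IsSolvable G := by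
  have hS : Chars.Seen g χ := ⟨hg, fun h => hχ1 ((Chars.charDegree_eq_one_iff χ).mpr h), hχg,
    fun ψ h1 hne => hother ψ (fun h => h1 ((Chars.charDegree_eq_one_iff ψ).mp h)) hne⟩
  refine ⟨(Chars.mem_commutator hS).1, (Chars.mem_commutator hS).2, ?_,
    fun x hx => Chars.vanish_off hS hx,
    fun ψ h1 h => Chars.unique hS (fun e => h1 ((Chars.charDegree_eq_one_iff ψ).mpr e)) h, ?_⟩
  · ext x
    refine ⟨fun hx => ?_, ?_⟩
    · by_cases h : (χ : G → ℂ) x = (χ : G → ℂ) 1
      · exact Or.inl h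
      · exact Or.inr ((Chars.class_iff hS x).mpr ⟨hx, h⟩)
    · rintro (h | h)
      · exact Chars.ker_le hS h
      · exact ((Chars.class_iff hS x).mp h).1
  · haveI : (charKer (isCharacter_irr χ)).Normal := charKer_normal _
    exact Setting.isSolvable (Chars.setting hS)

end Cfsg.Agent.S4805
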