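import Cfsg.Statements.S4807
import Cfsg.Agent.Lib.RelMcKay.Main

set_option autoImplicit false
open Cfsg

namespace Cfsg.Agent.S4807

/-- Let p be a prime and G a finite p-solvable group, L a normal subgroup of G, S a Sylow p-subgroup of G and P the subgroup generated by L and S (so P/L is a Sylow p-subgroup of G/L), and let ν be an irreducible complex character of L that is invariant under conjugation by every element of P. Let N be the normalizer of P in G (it contains L). Then the number of irreducible characters of G of degree prime to p lying over ν (restriction to L not orthogonal to ν) equals the number of irreducible characters of N of degree prime to p lying over ν. -/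
theorem result {G : Type*} [Group G] [Finite G] (p : ℕ) [Fact p.Prime] (hG : Cfsg.IsPSolvable p G) (L : Subgroup G) [L.Normal] (S : Sylow p G) (P : Subgroup G) (hP : P = L ⊔ (S : Subgroup G)) (hLN : L ≤ (Subgroup.normalizer ((P : Subgroup G) : Set G))) (ν : Cfsg.IrrCharacter ↥L) (hν : ∀ x ∈ P, Cfsg.IsConjCharOf L x (ν : ↥L → ℂ) (ν : ↥L → ℂ)) : Nat.card {χ : Cfsg.IrrCharacter G // ¬ p ∣ Cfsg.charDegree (χ : G → ℂ) ∧ (∑ᶠ l : ↥L, (χ : G → ℂ) (l : G) * (starRingEnd ℂ) ((ν : ↥L → ℂ) l)) ≠ 0} = Nat.card {ψ : Cfsg.IrrCharacter ↥(Subgroup.normalizer ((P : Subgroup G) : Set G)) // ¬ p ∣ Cfsg.charDegree (ψ : ↥(Subgroup.normalizer ((P : Subgroup G) : Set G)) → ℂ) ∧ (∑ᶠ l : ↥L, (ψ : ↥(Subgroup.normalizer ((P : Subgroup G) : Set G)) → ℂ) (Subgroup.inclusion hLN l) * (starRingEnd ℂ) ((ν : ↥L → ℂ) l)) ≠ 0} := by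
  classical
  haveI : Fintype G := Fintype.ofFinite G
  have hP' : P = (S : Subgroup G) ⊔ L := hP.trans (sup_comm _ _)
  subst hP'
  have hinv : Lib.RelMcKay.Rel.InvBy (S : Subgroup G) L (ν : ↥L → ℂ) := fun g hg x y hy =>
    hν g (Subgroup.mem_sup_left hg) x y hy
  have hmain := Lib.RelMcKay.Main.main (p := p) _ G L (S : Subgroup G) rfl hG S.2 S.not_dvd_index ν
    hinv hLN
  have key : ∀ {H : Subgroup G} (h : L ≤ H) (χ : Cfsg.IrrCharacter H),
      (∑ᶠ l : ↥L, (χ : H → ℂ) (Subgroup.inclusion h l) * (starRingEnd ℂ) ((ν : ↥L → ℂ) l)) ≠ 0 ↔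
        Lib.RelMcKay.Rel.m h χ ν ≠ 0 := by
    intro H h χ
    rw [← Nat.cast_ne_zero (R := ℂ), ← Lib.RelMcKay.Rel.coe_m, Cfsg.classInner,
      finsum_eq_sum_of_fintype, mul_ne_zero_iff,
      and_iff_right (inv_ne_zero (Lib.Induced.Basic.subgroup_card_ne_zero L))]
  have hN : Lib.RelMcKay.Count.cnt p hLN ν = Nat.card
      {ψ : Cfsg.IrrCharacter ↥(Subgroup.normalizer ((↑S ⊔ L : Subgroup G) : Set G)) //
        ¬ p ∣ Cfsg.charDegree (ψ : ↥(Subgroup.normalizer ((↑S ⊔ L : Subgroup G) : Set G)) → ℂ) ∧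
        (∑ᶠ l : ↥L, (ψ : ↥(Subgroup.normalizer ((↑S ⊔ L : Subgroup G) : Set G)) → ℂ)
          (Subgroup.inclusion hLN l) * (starRingEnd ℂ) ((ν : ↥L → ℂ) l)) ≠ 0} :=
    Nat.card_congr (Equiv.subtypeEquivRight fun ψ => and_congr_right fun _ => (key hLN ψ).symm)
  rw [← hN, ← hmain]
  let φ : Cfsg.IrrCharacter G ≃ Cfsg.IrrCharacter (⊤ : Subgroup G) :=
    { toFun := fun χ => ⟨(χ : G → ℂ) ∘ (Subgroup.topEquiv (G := G)),
        Lib.Characters.Basic.isIrrCharacter_comp (Subgroup.topEquiv (G := G)).toMonoidHom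
          (Subgroup.topEquiv (G := G)).surjective χ.2⟩
      invFun := fun χ => ⟨(χ : (⊤ : Subgroup G) → ℂ) ∘ (Subgroup.topEquiv (G := G)).symm,
        Lib.Characters.Basic.isIrrCharacter_comp (Subgroup.topEquiv (G := G)).symm.toMonoidHom
          (Subgroup.topEquiv (G := G)).symm.surjective χ.2⟩
      left_inv := fun χ => Subtype.ext (funext fun x => rfl)
      right_inv := fun χ => Subtype.ext (funext fun x => rfl) }
  refine Nat.card_congr (φ.subtypeEquiv fun χ => ?_)
  rw [← key (le_top : L ≤ ⊤) (φ χ)]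
  exact Iff.rfl

end Cfsg.Agent.S4807
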