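import Cfsg.Statements.S4813
import Cfsg.Agent.Lib.Elem70.Degrees.PrimeThree
-- import your own Cfsg.Agent.* helpers here

set_option autoImplicit false
open Cfsg

namespace Cfsg.Agent.S4813

/-- If every irreducible complex character of the finite group G of degree greater than one has prime degree, then G has at most three distinct irreducible character degrees. -/
theorem result {G : Type*} [Group G] [Finite G] (hprime : ∀ d ∈ Cfsg.charDegrees G, d = 1 ∨ d.Prime) : Nat.card ↥(Cfsg.charDegrees G) ≤ 3 := by
  obtain ⟨s, hs, hmem⟩ := Lib.Elem70.Degrees.PrimeThree.card_le_three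
    fun χ => hprime _ ⟨χ, rfl⟩
  refine (Nat.card_le_card_of_injective
    (fun d : ↥(Cfsg.charDegrees G) => (⟨d.1, ?_⟩ : s)) ?_).trans ?_
  · obtain ⟨d, χ, rfl⟩ := d
    exact hmem χ
  · exact fun a b h => Subtype.ext (congrArg (fun x : s => (x : ℕ)) h)
  · rw [Nat.card_eq_finsetCard]
    exact hs

end Cfsg.Agent.S4813
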