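import Cfsg.Statements.S4825
import Cfsg.Agent.Lib.BlocksChars5.Basic
import Cfsg.Agent.Lib.Clifford.Basic
import Cfsg.Agent.Lib.Blocks.Basic

set_option autoImplicit false
open Cfsg

namespace Cfsg.Agent.S4825

open scoped ComplexConjugate
open Cfsg.Agent.Lib.Characters.Basic Cfsg.Agent.Lib.BlocksChars5.Basic

attribute [local instance] irrFintype

variable {G : Type*} [Group G] [Fintype G]

theorem le_of_not_dvd_index {p : ℕ} [Fact p.Prime] (P : Sylow p G) (N : Subgroup G) [N.Normal]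
    (h : ¬ p ∣ N.index) : (P : Subgroup G) ≤ N := by
  intro x hx
  rw [← QuotientGroup.eq_one_iff (N := N), ← orderOf_eq_one_iff]
  have h1 : orderOf (x : G ⧸ N) ∣ orderOf x := orderOf_map_dvd (QuotientGroup.mk' N) x
  have h2 : orderOf (x : G ⧸ N) ∣ N.index := Subgroup.index_eq_card (H := N) ▸ orderOf_dvd_natCard _
  obtain ⟨k, hk⟩ := IsPGroup.iff_orderOf.mp P.isPGroup' ⟨x, hx⟩
  have hk' : orderOf x = p ^ k := (Subgroup.orderOf_mk x hx).symm.trans hk
  rw [hk'] at h1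
  obtain ⟨j, -, hj⟩ := (Nat.dvd_prime_pow Fact.out).mp h1
  rcases Nat.eq_zero_or_pos j with rfl | hj0
  · simpa using hj
  · exact absurd (hj ▸ h2) (fun hd => h ((dvd_pow_self p hj0.ne').trans hd))

/-- The weighted count over a block is divisible by `p` when `p` divides the index of `N`. -/
theorem dvd_weighted {p : ℕ} (M : Ideal Cfsg.AlgInt) (hM : Cfsg.IsPModular p M)
    (B : Set (Cfsg.IrrCharacter G)) [DecidablePred (· ∈ B)] (hB : Cfsg.IsPBlock M B)
    (N : Subgroup G) [Fintype N] (hN : p ∣ N.index) (θ : Cfsg.IrrCharacter N)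
    (e : Cfsg.IrrCharacter G → ℕ)
    (he : ∀ χ : Cfsg.IrrCharacter G, Cfsg.classInner (fun n : N => (χ : G → ℂ) n) (θ : N → ℂ) = e χ) :
    p ∣ ∑ χ ∈ Finset.univ.filter (· ∈ B), e χ * Cfsg.charDegree (χ : G → ℂ) := by
  haveI := hM.2.1
  rw [← Cfsg.Agent.Lib.Blocks.memLocalIdeal_natCast_iff hM]
  have hG : (Nat.card G : ℂ) ≠ 0 := Nat.cast_ne_zero.mpr Nat.card_pos.ne'
  have hNc : (Nat.card N : ℂ) ≠ 0 := Nat.cast_ne_zero.mpr Nat.card_pos.ne'
  have hmain : ((∑ χ ∈ Finset.univ.filter (· ∈ B), e χ * Cfsg.charDegree (χ : G → ℂ) : ℕ) : ℂ) =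
      (N.index : ℂ) * ∑ n : N, (θ : N → ℂ) n * Cfsg.blockCoeff B (n : G) := by
    have hterm : ∀ χ : Cfsg.IrrCharacter G, ((e χ * Cfsg.charDegree (χ : G → ℂ) : ℕ) : ℂ) =
        (Nat.card N : ℂ)⁻¹ * ∑ n : N, (θ : N → ℂ) n * ((χ : G → ℂ) 1 * conj ((χ : G → ℂ) n)) := by
      intro χ
      have h1 : conj (Cfsg.classInner (fun n : N => (χ : G → ℂ) n) (θ : N → ℂ)) = (e χ : ℂ) := by
        rw [he, map_natCast]
      rw [Nat.cast_mul, ← h1, ← apply_one]
      simp only [Cfsg.classInner, map_mul, map_inv₀, map_natCast, map_sum, Complex.conj_conj]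
      rw [mul_assoc, Finset.sum_mul]
      congr 1
      exact Finset.sum_congr rfl fun n _ => by ring
    rw [Nat.cast_sum, Finset.sum_congr rfl (fun χ _ => hterm χ), ← Finset.mul_sum, Finset.sum_comm]
    simp only [← Finset.mul_sum]
    have hidx : (N.index : ℂ) * (Nat.card G : ℂ)⁻¹ = (Nat.card N : ℂ)⁻¹ := by
      rw [← N.index_mul_card, Nat.cast_mul, mul_inv, ← mul_assoc,
        mul_inv_cancel₀ (Nat.cast_ne_zero.mpr Subgroup.index_ne_zero_of_finite), one_mul]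
    simp only [Cfsg.Agent.Lib.Blocks.blockCoeff_eq_sum B]
    rw [← hidx, mul_assoc, Finset.mul_sum (a := (Nat.card G : ℂ)⁻¹)]
    congr 1
    exact Finset.sum_congr rfl fun n _ => by ring
  rw [hmain]
  refine Cfsg.Agent.Lib.Blocks.memLocalIdeal_mul_right
    ((Cfsg.Agent.Lib.Blocks.memLocalIdeal_natCast_iff hM _).mpr hN) ?_
  exact sum_mem fun n _ => mul_mem
    (Cfsg.Agent.Lib.Blocks.mem_localRing_of_isIntegral
      (isIntegral_apply (isCharacter_irr θ) n))
    (Cfsg.Agent.Lib.Blocks.memLocalRing_blockCoeff hB (n : G))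

theorem count_modp {p : ℕ} [Fact p.Prime] (M : Ideal Cfsg.AlgInt) (hM : Cfsg.IsPModular p M)
    (B : Set (Cfsg.IrrCharacter G)) (hB : Cfsg.IsPBlock M B) (P : Sylow p G) (N : Subgroup G)
    [N.Normal] [Fintype N] (hPN : ¬ (P : Subgroup G) ≤ N) (θ : Cfsg.IrrCharacter N) :
    (Nat.card {χ : Cfsg.IrrCharacter G // χ ∈ B ∧ ¬ p ∣ Cfsg.charDegree (χ : G → ℂ) ∧
        Cfsg.classInner (fun n : N => (χ : G → ℂ) n) (θ : N → ℂ) ≠ 0} = 0 ∨
      2 ≤ Nat.card {χ : Cfsg.IrrCharacter G // χ ∈ B ∧ ¬ p ∣ Cfsg.charDegree (χ : G → ℂ) ∧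
        Cfsg.classInner (fun n : N => (χ : G → ℂ) n) (θ : N → ℂ) ≠ 0}) ∧
    (p ≤ 3 → p ∣ Nat.card {χ : Cfsg.IrrCharacter G // χ ∈ B ∧ ¬ p ∣ Cfsg.charDegree (χ : G → ℂ) ∧
        Cfsg.classInner (fun n : N => (χ : G → ℂ) n) (θ : N → ℂ) ≠ 0}) := by
  classical
  have hp : p.Prime := Fact.out
  have hidx : p ∣ N.index := by
    by_contra h
    exact hPN (le_of_not_dvd_index P N h)
  choose e he using fun χ : Cfsg.IrrCharacter G => exists_classInner_nat
    (isCharacter_comp N.subtype (isCharacter_irr χ)) (isCharacter_irr θ)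
  have he' : ∀ χ : Cfsg.IrrCharacter G,
      Cfsg.classInner (fun n : N => (χ : G → ℂ) n) (θ : N → ℂ) = e χ := he
  have hsum := dvd_weighted M hM B hB N hidx θ e he'
  set S := Finset.univ.filter fun χ : Cfsg.IrrCharacter G =>
    χ ∈ B ∧ ¬ p ∣ Cfsg.charDegree (χ : G → ℂ) ∧ e χ ≠ 0 with hS
  have hcard : Nat.card {χ : Cfsg.IrrCharacter G // χ ∈ B ∧ ¬ p ∣ Cfsg.charDegree (χ : G → ℂ) ∧
      Cfsg.classInner (fun n : N => (χ : G → ℂ) n) (θ : N → ℂ) ≠ 0} = S.card := by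
    simp only [he', Nat.cast_ne_zero]
    rw [Nat.card_eq_fintype_card, Fintype.card_subtype]
  rw [hcard]
  set t := (Cfsg.Agent.Lib.Clifford.Basic.inertia N (θ : N → ℂ)).index *
    Cfsg.charDegree (θ : N → ℂ) with ht
  have hdeg : ∀ χ ∈ S, Cfsg.charDegree (χ : G → ℂ) = e χ * t := by
    intro χ hχ
    have hne : Cfsg.classInner (fun n : N => (χ : G → ℂ) n) (θ : N → ℂ) ≠ 0 := by
      rw [he', Nat.cast_ne_zero]
      exact (Finset.mem_filter.mp hχ).2.2.2
    have h := Cfsg.Agent.Lib.Clifford.Basic.clifford_degree N χ.2 θ hne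
    rw [he', apply_one, apply_one θ, mul_assoc] at h
    exact_mod_cast h
  have hS2 : p ∣ ∑ χ ∈ S, e χ * Cfsg.charDegree (χ : G → ℂ) := by
    have hsplit := Finset.sum_filter_add_sum_filter_not (Finset.univ.filter (· ∈ B))
      (fun χ : Cfsg.IrrCharacter G => ¬ p ∣ Cfsg.charDegree (χ : G → ℂ) ∧ e χ ≠ 0)
      (fun χ => e χ * Cfsg.charDegree (χ : G → ℂ))
    rw [← hsplit, Finset.filter_filter] at hsum
    refine (Nat.dvd_add_left ?_).mp hsum
    refine Finset.dvd_sum fun χ hχ => ?_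
    rcases not_and_or.mp (Finset.mem_filter.mp hχ).2 with h | h
    · exact dvd_mul_of_dvd_right (not_not.mp h) _
    · rw [not_not.mp h, zero_mul]; exact dvd_zero p
  have hne : ∀ χ ∈ S, ¬ p ∣ e χ ∧ ¬ p ∣ t := fun χ hχ => by
    have h := (Finset.mem_filter.mp hχ).2.2.1
    rw [hdeg χ hχ] at h
    exact ⟨fun hd => h (hd.mul_right _), fun hd => h (hd.mul_left _)⟩
  have hS3 : p ∣ t * ∑ χ ∈ S, e χ ^ 2 := by
    rw [Finset.mul_sum]
    convert hS2 using 2 with χ hχ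
    rw [hdeg χ hχ]; ring
  refine ⟨?_, fun hp3 => ?_⟩
  · by_contra hcon
    push Not at hcon
    obtain ⟨χ, hχ⟩ := Finset.card_eq_one.mp (show S.card = 1 by omega)
    have hmem : χ ∈ S := hχ ▸ Finset.mem_singleton_self χ
    rw [hχ, Finset.sum_singleton] at hS3
    rcases (Nat.Prime.dvd_mul hp).mp hS3 with h | h
    · exact (hne χ hmem).2 h
    · exact (hne χ hmem).1 (hp.dvd_of_dvd_pow h)
  · rcases S.eq_empty_or_nonempty with h0 | ⟨χ₀, hχ₀⟩
    · simp [h0]
    have h2 := ((Nat.Prime.dvd_mul hp).mp hS3).resolve_left (hne χ₀ hχ₀).2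
    rw [← CharP.cast_eq_zero_iff (ZMod p) p] at h2 ⊢
    rw [Nat.cast_sum, Finset.sum_congr rfl (g := fun _ => (1 : ZMod p)) (fun χ hχ => by
      have h := (hne χ hχ).1
      rw [← CharP.cast_eq_zero_iff (ZMod p) p] at h
      rw [Nat.cast_pow]
      have := hp.two_le
      interval_cases p
      · revert h; generalize (e χ : ZMod 2) = a; clear * -; revert a; decide +revert
      · revert h; generalize (e χ : ZMod 3) = a; clear * -; revert a; decide +revert)] at h2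
    simpa using h2

/-- Let p be a prime, G a finite group with Sylow p-subgroup P, M a maximal ideal of the algebraic integers containing p, and B a p-block of G with defect group P. Let N be a normal subgroup of G not containing P and θ an irreducible character of N. Then the number of irreducible characters in B of degree prime to p lying over θ (having θ as a constituent on restriction to N) is either 0 or at least 2, and when p ≤ 3 it is divisible by p. -/
theorem result {G : Type*} [Group G] [Fintype G] (p : ℕ) [Fact p.Prime] (P : Sylow p G) (M : Ideal Cfsg.AlgInt) (hM : Cfsg.IsPModular p M) (B : Set (Cfsg.IrrCharacter G)) (hB : Cfsg.IsPBlock M B) (hBP : Cfsg.IsDefectGroup p M B P) (N : Subgroup G) [N.Normal] [Fintype N] (hPN : ¬ (P : Subgroup G) ≤ N) (θ : Cfsg.IrrCharacter N) :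
    (Nat.card {χ : Cfsg.IrrCharacter G // χ ∈ B ∧ ¬ p ∣ Cfsg.charDegree (χ : G → ℂ) ∧ Cfsg.classInner (fun n : N => (χ : G → ℂ) n) (θ : N → ℂ) ≠ 0} = 0 ∨
      2 ≤ Nat.card {χ : Cfsg.IrrCharacter G // χ ∈ B ∧ ¬ p ∣ Cfsg.charDegree (χ : G → ℂ) ∧ Cfsg.classInner (fun n : N => (χ : G → ℂ) n) (θ : N → ℂ) ≠ 0}) ∧
    (p ≤ 3 → p ∣ Nat.card {χ : Cfsg.IrrCharacter G // χ ∈ B ∧ ¬ p ∣ Cfsg.charDegree (χ : G → ℂ) ∧ Cfsg.classInner (fun n : N => (χ : G → ℂ) n) (θ : N → ℂ) ≠ 0}) := by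
  exact count_modp M hM B hB P N hPN θ

end Cfsg.Agent.S4825
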