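import Cfsg.Statements.S4828
import Cfsg.Agent.Lib.BlocksChars5.TopPair
import Cfsg.Agent.Lib.BlocksChars5.CentralDefect

set_option autoImplicit false
open Cfsg

namespace Cfsg.Agent.S4828


open Cfsg.Agent.Lib.BrauerPairs.Center Cfsg.Agent.Lib.BrauerPairs.Pairs
open Cfsg.Agent.Lib.BrauerPairs.Maximal Cfsg.Agent.Lib.BrauerPairs.Bridge
open Cfsg.Agent.Lib.BlocksChars5

attribute [local instance] Ideal.Quotient.field

/-- Let p be a prime, M a maximal ideal of the algebraic integers containing p, and (Q, e) a Brauer pair of the finite group G (Q a p-subgroup, e a block of C_G(Q)). Then (Q, e) is a maximal Brauer pair of some block of G if and only if e contains an irreducible character θ such that θ takes the value θ(1) at every element of Z(Q) = Q ∩ C_G(Q), the p-part of θ(1) times the p-part of the order of Z(Q) equals the p-part of the order of C_G(Q) (θ has defect zero as a character of C_G(Q)/Z(Q)), and every element of N_G(Q) of p-power order that stabilizes e lies in Q·C_G(Q) (the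 stabilizer of e in N_G(Q) has index prime to p over Q·C_G(Q)). -/
theorem result {G : Type*} [Group G] [Finite G] (p : ℕ) [Fact p.Prime] (M : Ideal Cfsg.AlgInt) (hM : Cfsg.IsPModular p M) (Q : Subgroup G) (e : Set (Cfsg.IrrCharacter (Subgroup.centralizer (Q : Set G)))) (he : Cfsg.IsBrauerPair p M Q e) :
    (∃ B : Set (Cfsg.IrrCharacter G), Cfsg.IsMaximalBrauerPair p M B Q e) ↔
      ∃ θ ∈ e, (∀ z : Subgroup.centralizer (Q : Set G), (z : G) ∈ Q → (θ : Subgroup.centralizer (Q : Set G) → ℂ) z = (θ : Subgroup.centralizer (Q : Set G) → ℂ) 1) ∧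
        (Cfsg.charDegree (θ : Subgroup.centralizer (Q : Set G) → ℂ)).factorization p + (Nat.card ↥(Q ⊓ Subgroup.centralizer (Q : Set G))).factorization p = (Nat.card (Subgroup.centralizer (Q : Set G))).factorization p ∧
        (∀ g : G, g ∈ Subgroup.normalizer (Q : Set G) → Cfsg.StabilizesBlock (Subgroup.centralizer (Q : Set G)) e g → (∃ k : ℕ, orderOf g = p ^ k) → g ∈ Q ⊔ Subgroup.centralizer (Q : Set G)) := by
  haveI : M.IsMaximal := hM.2.1
  haveI := charP_res hM
  obtain ⟨hQ, heB⟩ := he
  set Z := Q.subgroupOf (Subgroup.centralizer (Q : Set G)) with hZdef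
  have hcard : Nat.card ↥(Q ⊓ Subgroup.centralizer (Q : Set G)) = Nat.card Z := by
    rw [← Subgroup.subgroupOf_map_subtype, Subgroup.card_map_of_injective
      (Subgroup.subtype_injective _)]
  have hZp : IsPGroup p Z := hQ.comap_of_injective _ (Subgroup.subtype_injective _)
  have hZc : ∀ z ∈ Z, ∀ h : Subgroup.centralizer (Q : Set G), z * h = h * z :=
    fun z hz h => Subtype.ext (Subgroup.mem_centralizer_iff.mp h.2 (z : G) hz)
  haveI hZn : Z.Normal := ⟨fun z hz h => by rw [← hZc z hz h, mul_inv_cancel_right]; exact hz⟩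
  have htop : (∃ B : Set (Cfsg.IrrCharacter G), Cfsg.IsMaximalBrauerPair p M B Q e) ↔
      Top p (⟨Q, blk heB⟩ : Idx (Res M) G) := by
    constructor
    · rintro ⟨B, hB⟩
      exact ((isMaximalBrauerPair_iff hB.1.2.1 heB).mp hB).2
    · intro ht
      obtain ⟨ψ, hψ, -⟩ := existsUnique_pairOf (⟨Q, blk heB⟩ : Idx (Res M) G) hQ
      refine ⟨toSet ψ, (isMaximalBrauerPair_iff (isPBlock_toSet ψ) heB).mpr ⟨?_, ht⟩⟩
      rw [blk_toSet]
      exact hψ
  rw [htop]
  constructor
  · intro ht
    obtain ⟨y, hy, hsmall⟩ := TopPair.smallClass_of_top ht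
    obtain ⟨θ, hθ, hker, hdeg⟩ := CentralDefect.exists_char hM Z hZp heB hy hsmall
    refine ⟨θ, hθ, fun z hz => hker hz, by rw [hcard]; exact hdeg, fun g hgN hst hgp => ?_⟩
    exact TopPair.mem_sup_of_top ht hgN hgp ((stabilizesBlock_iff heB hgN).mp hst)
  · rintro ⟨θ, hθ, hker, hdeg, hst⟩
    rw [hcard] at hdeg
    obtain ⟨y, hy, hsmall⟩ := CentralDefect.exists_class hM Z hZp hZc θ (fun z hz => hker z hz) hdeg
    rw [blkOf_of_mem heB hθ] at hy
    exact TopPair.top_of_local hQ ⟨y, hy, hsmall⟩ fun g hgN hgp hact =>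
      hst g hgN ((stabilizesBlock_iff heB hgN).mpr hact) hgp

end Cfsg.Agent.S4828
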