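import Cfsg.Statements.S4839
import Cfsg.Agent.Lib.BlocksChars5.Gagola
import Cfsg.Agent.Lib.Involutions.BaerSuzuki
import Cfsg.Agent.Lib.Frobenius.Basic
import Cfsg.Agent.Lib.Cores.Basic
import Mathlib.GroupTheory.SchurZassenhaus

set_option autoImplicit false
open Cfsg

namespace Cfsg.Agent.S4839


open Cfsg.Agent.Lib.BlocksChars5

universe u

variable {G : Type u} [Group G] [Finite G] {χ : Cfsg.IrrCharacter G} {k : G} {p : ℕ} [Fact p.Prime]
  {N : Subgroup G} [N.Normal]

theorem orderOf_k_eq (hG : 2 < Nat.card G) (h : Gagola.TwoClass χ k) (hN : N = Gagola.supp χ)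
    (hpg : IsPGroup p N) : orderOf k = p := by
  have hk : k ∈ N := hN ▸ (Gagola.mem_supp_iff hG h k).mpr (Or.inr (IsConj.refl k))
  obtain ⟨j, hj⟩ := hpg ⟨k, hk⟩
  exact (Nat.prime_dvd_prime_iff_eq (Gagola.supp_pGroup hG h).1 Fact.out).mp
    ((Gagola.supp_pGroup hG h).1.dvd_of_dvd_pow
      (orderOf_dvd_of_pow_eq_one (congrArg Subtype.val hj)))

theorem eq_one_of_commute (hG : 2 < Nat.card G) (h : Gagola.TwoClass χ k) (hN : N = Gagola.supp χ)
    (hpg : IsPGroup p N) {x n : G} (hx : (orderOf x).Coprime p) (hx1 : x ≠ 1) (hn : n ∈ N)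
    (hc : x * n = n * x) : n = 1 := by
  by_contra hn1
  obtain ⟨j, hj⟩ := Gagola.centralizer_pGroup hG h (hN ▸ hpg) (hN.le hn) hn1
    ⟨x, Subgroup.mem_centralizer_singleton_iff.mpr hc⟩
  have h1 : orderOf x ∣ p ^ j := orderOf_dvd_of_pow_eq_one (congrArg Subtype.val hj)
  exact hx1 (orderOf_eq_one_iff.mp (Nat.eq_one_of_dvd_coprimes (hx.pow_right j) dvd_rfl h1))

theorem centralizer_le_self (hG : 2 < Nat.card G) (h : Gagola.TwoClass χ k) (hN : N = Gagola.supp χ)
    (hpg : IsPGroup p N) (hcore : N = Cfsg.pCore p G) :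
    Subgroup.centralizer (N : Set G) ≤ N := by
  haveI : (Subgroup.centralizer (N : Set G)).Normal := Subgroup.normal_centralizer
  have hk : k ∈ N := hN ▸ (Gagola.mem_supp_iff hG h k).mpr (Or.inr (IsConj.refl k))
  conv_rhs => rw [hcore]
  refine Lib.Cores.le_pCore ((Gagola.centralizer_pGroup hG h (hN ▸ hpg) (hN.le hk) h.1).to_le ?_)
  exact Subgroup.centralizer_le (Set.singleton_subset_iff.mpr hk)

theorem exists_complement_odd (hG : 2 < Nat.card G) (h : Gagola.TwoClass χ k)
    (hN : N = Gagola.supp χ) (hpg : IsPGroup p N) (hcore : N = Cfsg.pCore p G) (hp2 : p ≠ 2) :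
    ∃ H : Subgroup G, Subgroup.IsComplement' N H := by
  have hcomm : ∀ a ∈ N, ∀ b ∈ N, a * b = b * a :=
    fun a ha b hb => Gagola.supp_comm hG h a (hN.le ha) b (hN.le hb)
  have hp : p.Prime := Fact.out
  have hpodd : Odd p := hp.odd_of_ne_two hp2
  obtain ⟨j, hj⟩ := IsPGroup.iff_card.mp hpg
  have hclass : Nat.card {g : G // IsConj k g} + 1 = p ^ j :=
    (Gagola.card_supp hG h).symm.trans ((congrArg (fun H : Subgroup G => Nat.card H) hN).symm.trans hj)
  have heven : 2 ∣ Nat.card {g : G // IsConj k g} := by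
    have := hpodd.pow (n := j)
    rw [← hclass] at this
    rw [Nat.odd_iff] at this
    omega
  haveI : Fact (Nat.Prime 2) := ⟨Nat.prime_two⟩
  obtain ⟨t, ht⟩ := exists_prime_orderOf_dvd_card' (G := G) 2
    (heven.trans ⟨_, (Gagola.class_mul_centralizer k).symm⟩)
  have htt : t * t = 1 := by
    have := pow_orderOf_eq_one t
    rwa [ht, sq] at this
  have htcop : (orderOf t).Coprime p := by
    rw [ht]; exact (Nat.coprime_primes Nat.prime_two hp).mpr (Ne.symm hp2)
  have ht1 : t ≠ 1 := fun e => by rw [e, orderOf_one] at ht; omega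
  have hnn := (inferInstance : N.Normal).conj_mem
  have hinv : ∀ n ∈ N, t * n * t⁻¹ = n⁻¹ := by
    intro n hn
    refine eq_inv_of_mul_eq_one_right
      (eq_one_of_commute hG h hN hpg htcop ht1 (N.mul_mem hn (hnn n hn t)) ?_)
    have e1 : t * (n * (t * n * t⁻¹)) = (t * n * t⁻¹) * n * t := by
      calc t * (n * (t * n * t⁻¹)) = (t * n * t⁻¹) * ((t * t) * n * (t⁻¹)) := by group
        _ = (t * n * t⁻¹) * (n * t⁻¹) := by rw [htt, one_mul]
        _ = (t * n * t⁻¹) * n * t := by simp only [inv_eq_of_mul_eq_one_left htt, mul_assoc]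
    rw [e1, hcomm _ (hnn n hn t) n hn]
  have hCN := centralizer_le_self hG h hN hpg hcore
  refine ⟨Subgroup.centralizer ({t} : Set G), Subgroup.isComplement'_of_disjoint_and_mul_eq_univ ?_ ?_⟩
  · rw [Subgroup.disjoint_def]
    intro x hxN hxC
    exact eq_one_of_commute hG h hN hpg htcop ht1 hxN
      (Subgroup.mem_centralizer_singleton_iff.mp hxC).symm
  · rw [Set.eq_univ_iff_forall]
    intro g
    have hm : g * t * g⁻¹ * t ∈ N := by
      refine hCN (Subgroup.mem_centralizer_iff.mpr fun n hn => ?_)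
      have h1 : g⁻¹ * n⁻¹ * g ∈ N := by simpa using hnn _ (N.inv_mem hn) g⁻¹
      have h2 := hinv _ h1
      have h3 := hinv n hn
      have h4 : t * (g⁻¹ * n⁻¹ * g) * t⁻¹ = g⁻¹ * n * g := by rw [h2]; group
      symm
      calc g * t * g⁻¹ * t * n = g * t * g⁻¹ * (t * n * t⁻¹) * t := by group
        _ = g * (t * (g⁻¹ * n⁻¹ * g) * t⁻¹) * t * g⁻¹ * t := by rw [h3]; group
        _ = n * (g * t * g⁻¹ * t) := by rw [h4]; group
    set m := g * t * g⁻¹ * t with hm'
    have hmodd : Odd (orderOf m) := by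
      obtain ⟨i, hi⟩ := hpg ⟨m, hm⟩
      exact Odd.of_dvd_nat hpodd.pow (orderOf_dvd_of_pow_eq_one (congrArg Subtype.val hi))
    obtain ⟨r, hr⟩ := hmodd
    set n := m ^ (r + 1) with hn'
    have hn : n ∈ N := N.pow_mem hm _
    have hnn2 : n * n = m := by
      rw [hn', ← pow_add, show r + 1 + (r + 1) = orderOf m + 1 by omega, pow_succ,
        pow_orderOf_eq_one, one_mul]
    refine Set.mem_mul.mpr ⟨n, hn, n⁻¹ * g, ?_, by group⟩
    rw [SetLike.mem_coe, Subgroup.mem_centralizer_singleton_iff]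
    have h1 : n * t * n⁻¹ = g * t * g⁻¹ := by
      calc n * t * n⁻¹ = n * (t * n⁻¹ * t⁻¹) * t := by group
        _ = m * t := by rw [hinv _ (N.inv_mem hn), inv_inv, hnn2]
        _ = g * t * g⁻¹ * (t * t) := by rw [hm']; group
        _ = g * t * g⁻¹ := by rw [htt, mul_one]
    calc n⁻¹ * g * t = n⁻¹ * (g * t * g⁻¹) * g := by group
      _ = n⁻¹ * (n * t * n⁻¹) * g := by rw [h1]
      _ = t * (n⁻¹ * g) := by group

theorem exists_complement_two {N : Subgroup G} [N.Normal] (hG : 2 < Nat.card G)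
    (h : Gagola.TwoClass χ k) (hN : N = Gagola.supp χ) (hpg : IsPGroup 2 N)
    (hcore : N = Cfsg.pCore 2 G) : ∃ H : Subgroup G, Subgroup.IsComplement' N H := by
  haveI : Fact (Nat.Prime 2) := ⟨Nat.prime_two⟩
  have hcop : Nat.Coprime (Nat.card N) N.index := by
    obtain ⟨j, hj⟩ := IsPGroup.iff_card.mp hpg
    rw [hj]
    refine Nat.Coprime.pow_left j (Nat.prime_two.coprime_iff_not_dvd.mpr fun hd => ?_)
    rw [Subgroup.index_eq_card] at hd
    obtain ⟨tq, htq⟩ := exists_prime_orderOf_dvd_card' (G := G ⧸ N) 2 hd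
    have hbot : Cfsg.pCore 2 (G ⧸ N) = ⊥ := by
      subst hcore
      exact Lib.Cores.pCore_quotient_pCore 2
    obtain ⟨hq, hq1, hqodd, hqinv⟩ := Lib.Involutions.BaerSuzuki.exists_odd_inverted tq htq
      fun M hMn hM2 htM => by
        haveI := hMn
        have h1 : tq ∈ Cfsg.pCore 2 (G ⧸ N) := Lib.Cores.le_pCore hM2 htM
        rw [hbot, Subgroup.mem_bot] at h1
        rw [h1, orderOf_one] at htq
        omega
    obtain ⟨t, rfl⟩ := QuotientGroup.mk_surjective tq
    obtain ⟨h₀, rfl⟩ := QuotientGroup.mk_surjective hq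
    obtain ⟨a, m, hm, hr⟩ := Nat.exists_eq_pow_mul_and_not_dvd (orderOf_pos h₀).ne' 2 (by norm_num)
    set y := h₀ ^ 2 ^ a with hy
    have hyo : orderOf y = m := by
      rw [hy, orderOf_pow_of_dvd (by positivity) ⟨m, hr⟩, hr,
        Nat.mul_div_cancel_left _ (by positivity)]
    have hyN : y ∉ N := by
      intro hyN
      have h1 : ((h₀ : G) : G ⧸ N) ^ 2 ^ a = 1 := by
        rw [← QuotientGroup.mk_pow]; exact (QuotientGroup.eq_one_iff _).mpr hyN
      refine hq1 (orderOf_eq_one_iff.mp (Nat.eq_one_of_dvd_coprimes ?_ dvd_rfl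
        (orderOf_dvd_of_pow_eq_one h1)))
      exact ((Nat.coprime_two_right).mpr hqodd).pow_right a
    have hy1 : y ≠ 1 := fun e => hyN (e ▸ N.one_mem)
    have hycop : (orderOf y).Coprime 2 := by
      rw [hyo, Nat.coprime_two_right, Nat.odd_iff]; omega
    have hty : ((t * y * t⁻¹ : G) : G ⧸ N) = ((y⁻¹ : G) : G ⧸ N) := by
      rw [hy, ← conj_pow, QuotientGroup.mk_pow, QuotientGroup.mk_inv, QuotientGroup.mk_pow,
        ← inv_pow, QuotientGroup.mk_mul, QuotientGroup.mk_mul, QuotientGroup.mk_inv, hqinv]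
    have hmem : y * (t * y * t⁻¹) ∈ N := by
      rw [← QuotientGroup.eq_one_iff, QuotientGroup.mk_mul, hty, ← QuotientGroup.mk_mul,
        mul_inv_cancel, QuotientGroup.mk_one]
    have hnn := (inferInstance : N.Normal).conj_mem
    let f : N → N := fun n => ⟨y * ((n : G) * y⁻¹ * (n : G)⁻¹), by
      have : y * ((n : G) * y⁻¹ * (n : G)⁻¹) = (y * n * y⁻¹) * (n : G)⁻¹ := by group
      rw [this]; exact N.mul_mem (hnn _ n.2 y) (N.inv_mem n.2)⟩
    have hfinj : Function.Injective f := by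
      intro a b hab
      have e : (a : G) * y⁻¹ * (a : G)⁻¹ = (b : G) * y⁻¹ * (b : G)⁻¹ :=
        mul_left_cancel (congrArg Subtype.val hab)
      apply Subtype.ext
      refine (inv_mul_eq_one.mp
        (eq_one_of_commute hG h hN hpg hycop hy1 (N.mul_mem (N.inv_mem b.2) a.2) ?_)).symm
      calc y * ((b : G)⁻¹ * a) = y * (b : G)⁻¹ * ((a : G) * y⁻¹ * (a : G)⁻¹) * a * y := by group
        _ = y * (b : G)⁻¹ * ((b : G) * y⁻¹ * (b : G)⁻¹) * a * y := by rw [e]
        _ = (b : G)⁻¹ * a * y := by group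
    obtain ⟨n, hn⟩ := (Finite.injective_iff_surjective.mp hfinj) ⟨_, hmem⟩
    have hn' : (n : G) * y⁻¹ * (n : G)⁻¹ = t * y * t⁻¹ :=
      mul_left_cancel (congrArg Subtype.val hn)
    set s := (n : G)⁻¹ * t with hs
    have hsy : s * y * s⁻¹ = y⁻¹ := by
      calc s * y * s⁻¹ = (n : G)⁻¹ * (t * y * t⁻¹) * n := by rw [hs]; group
        _ = y⁻¹ := by rw [← hn']; group
    have hsmk : ((s : G) : G ⧸ N) = (t : G ⧸ N) := by
      rw [hs, QuotientGroup.mk_mul, QuotientGroup.mk_inv, (QuotientGroup.eq_one_iff _).mpr n.2,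
        inv_one, one_mul]
    have hsN : s ∉ N := by
      intro h1
      rw [← QuotientGroup.eq_one_iff, hsmk] at h1
      rw [h1, orderOf_one] at htq
      omega
    have hs2N : s * s ∈ N := by
      rw [← QuotientGroup.eq_one_iff, QuotientGroup.mk_mul, hsmk]
      have := pow_orderOf_eq_one (t : G ⧸ N)
      rwa [htq, sq] at this
    have hsy' : s * y⁻¹ * s⁻¹ = y := by
      rw [← conj_inv, hsy, inv_inv]
    have hss : s * s = 1 := eq_one_of_commute hG h hN hpg hycop hy1 hs2N (by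
      calc y * (s * s) = s * y⁻¹ * s⁻¹ * (s * s) := by rw [hsy']
        _ = s * (s * y * s⁻¹) * s := by rw [hsy]; group
        _ = s * s * y := by group)
    apply hsN
    refine centralizer_le_self hG h hN hpg hcore (Subgroup.mem_centralizer_iff.mpr fun x hx => ?_)
    obtain ⟨c, hc⟩ := isConj_iff.mp (Gagola.coset_conj hG h (hN ▸ hsN) (hN.le hx)).symm
    have h1 : s * x * (s * x) = 1 := by
      rw [← hc]
      calc c * s * c⁻¹ * (c * s * c⁻¹) = c * (s * s) * c⁻¹ := by group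
        _ = 1 := by rw [hss]; group
    have hxx : x * x = 1 := by
      by_cases hx1 : x = 1
      · rw [hx1, one_mul]
      · have e := Gagola.orderOf_eq_of_mem_supp hG h (hN.le hx) hx1
        rw [orderOf_k_eq hG h hN hpg] at e
        have := pow_orderOf_eq_one x
        rwa [e, sq] at this
    calc x * s = s * s * (x * s * (x * x)) := by rw [hxx, hss, one_mul, mul_one]
      _ = s * (s * x * (s * x)) * x := by group
      _ = s * x := by rw [h1, mul_one]
  obtain ⟨H, hH⟩ := Subgroup.exists_right_complement'_of_coprime hcop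
  exact ⟨H, hH⟩

theorem gagola_frobenius (hG : 2 < Nat.card G) (h : Gagola.TwoClass χ k) (hN : N = Gagola.supp χ)
    (hpg : IsPGroup p N) (hcore : N = Cfsg.pCore p G) :
    ∃ H : Subgroup G, Cfsg.IsFrobeniusComplement H ∧ Cfsg.frobeniusKernel H = (N : Set G) ∧
      Nat.card H + 1 = Nat.card N := by
  obtain ⟨H, hH⟩ : ∃ H : Subgroup G, Subgroup.IsComplement' N H := by
    by_cases hp2 : p = 2
    · subst hp2
      exact exists_complement_two hG h hN hpg hcore
    · exact exists_complement_odd hG h hN hpg hcore hp2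
  have hk : k ∈ N := hN ▸ (Gagola.mem_supp_iff hG h k).mpr (Or.inr (IsConj.refl k))
  have hcomm : ∀ a ∈ N, ∀ b ∈ N, a * b = b * a :=
    fun a ha b hb => Gagola.supp_comm hG h a (hN.le ha) b (hN.le hb)
  have hnn := (inferInstance : N.Normal).conj_mem
  have hfree : ∀ x ∈ H, x ≠ 1 → N ⊓ Subgroup.centralizer {x} = ⊥ := by
    intro x hx hx1
    have hxN : x ∉ N := fun hxN => hx1 (Subgroup.disjoint_def.mp hH.disjoint hxN hx)
    let f : N → N := fun n => ⟨x⁻¹ * ((n : G) * x * (n : G)⁻¹), by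
      have : x⁻¹ * ((n : G) * x * (n : G)⁻¹) = (x⁻¹ * n * x⁻¹⁻¹) * (n : G)⁻¹ := by group
      rw [this]; exact N.mul_mem (hnn _ n.2 x⁻¹) (N.inv_mem n.2)⟩
    have hsur : Function.Surjective f := by
      rintro ⟨n, hn⟩
      obtain ⟨c, hc⟩ := isConj_iff.mp (Gagola.coset_conj hG h (hN ▸ hxN) (hN.le hn)).symm
      obtain ⟨⟨⟨m, hm⟩, ⟨e, he⟩⟩, hme⟩ := hH.2 c
      simp only at hme
      subst hme
      have h1 : e * x * e⁻¹ = x * ((x⁻¹ * m⁻¹ * x⁻¹⁻¹) * n * m) := by
        have : e * x * e⁻¹ = m⁻¹ * (m * e * x * (m * e)⁻¹) * m := by group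
        rw [this, hc]; group
      have h2 : (x⁻¹ * m⁻¹ * x⁻¹⁻¹) * n * m = 1 := by
        refine Subgroup.disjoint_def.mp hH.disjoint
          (N.mul_mem (N.mul_mem (hnn _ (N.inv_mem hm) x⁻¹) hn) hm) ?_
        have h3 : x⁻¹ * (e * x * e⁻¹) = (x⁻¹ * m⁻¹ * x⁻¹⁻¹) * n * m := by rw [h1]; group
        rw [← h3]
        exact H.mul_mem (H.inv_mem hx) (H.mul_mem (H.mul_mem he hx) (H.inv_mem he))
      rw [h2, mul_one] at h1
      refine ⟨⟨m, hm⟩, Subtype.ext ?_⟩
      show x⁻¹ * (m * x * m⁻¹) = n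
      calc x⁻¹ * (m * x * m⁻¹) = x⁻¹ * (m * (e * x * e⁻¹) * m⁻¹) := by rw [h1]
        _ = x⁻¹ * (m * e * x * (m * e)⁻¹) := by group
        _ = n := by rw [hc]; group
    rw [Subgroup.eq_bot_iff_forall]
    rintro y ⟨hy, hyx⟩
    have := (Finite.injective_iff_surjective.mpr hsur) (a₁ := ⟨y, hy⟩) (a₂ := 1) (Subtype.ext (by
      show x⁻¹ * (y * x * y⁻¹) = x⁻¹ * (1 * x * 1⁻¹)
      rw [Subgroup.mem_centralizer_singleton_iff.mp hyx]; group))
    exact congrArg Subtype.val this
  have hcent : Subgroup.centralizer ({k} : Set G) = N := by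
    refine le_antisymm (fun g hg => ?_) fun g hg => ?_
    · obtain ⟨⟨⟨m, hm⟩, ⟨e, he⟩⟩, hme⟩ := hH.2 g
      simp only at hme
      subst hme
      rcases eq_or_ne e 1 with rfl | he1
      · rwa [mul_one]
      exfalso
      have h1 : e * k = k * e := by
        have h2 := Subgroup.mem_centralizer_singleton_iff.mp hg
        refine mul_left_cancel (a := m) ?_
        rw [← mul_assoc, h2, ← mul_assoc k, hcomm k hk m hm, mul_assoc]
      have h2 : k ∈ N ⊓ Subgroup.centralizer {e} :=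
        ⟨hk, Subgroup.mem_centralizer_singleton_iff.mpr h1.symm⟩
      rw [hfree e he he1, Subgroup.mem_bot] at h2
      exact h.1 h2
    · exact Subgroup.mem_centralizer_singleton_iff.mpr (hcomm g hg k hk)
  have hcard : Nat.card H + 1 = Nat.card N := by
    have h1 := Gagola.class_mul_centralizer k
    rw [hcent, ← hH.card_mul_card, mul_comm (Nat.card N)] at h1
    rw [← Nat.eq_of_mul_eq_mul_right Nat.card_pos h1]
    exact ((congrArg (fun H : Subgroup G => Nat.card H) hN).trans (Gagola.card_supp hG h)).symm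
  have hHne : H ≠ ⊥ := by
    rintro rfl
    rw [Subgroup.card_bot] at hcard
    have := hH.card_mul_card
    rw [Subgroup.card_bot] at this
    omega
  have hFC : Cfsg.IsFrobeniusComplement H :=
    (Lib.Frobenius.isFrobeniusComplement_iff_centralizer hH
      (hN ▸ Gagola.supp_ne_bot hG h) hHne).mpr hfree
  exact ⟨H, hFC, (Lib.Frobenius.coe_eq_frobeniusKernel hFC inferInstance hH).symm, hcard⟩

theorem eq_core_of_frobenius (hpg : IsPGroup p N) (H : Subgroup G)
    (hFC : Cfsg.IsFrobeniusComplement H) (hker : Cfsg.frobeniusKernel H = (N : Set G))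
    (hcard : Nat.card H + 1 = Nat.card N) : N = Cfsg.pCore p G := by
  refine Subgroup.eq_of_le_of_card_ge (Lib.Cores.le_pCore hpg) ?_
  obtain ⟨-, hc⟩ := Lib.Frobenius.normal_and_isComplement'_of_coe_eq hFC hker.symm
  obtain ⟨b, hb⟩ := IsPGroup.iff_card.mp (Lib.Cores.pCore_isPGroup (G := G) p)
  obtain ⟨a, ha⟩ := IsPGroup.iff_card.mp hpg
  have hd : Nat.card (Cfsg.pCore p G) ∣ Nat.card N * Nat.card H := by
    rw [hc.card_mul_card]
    exact Subgroup.card_subgroup_dvd_card _
  have hp : p.Prime := Fact.out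
  have hcop : Nat.Coprime (p ^ b) (Nat.card H) := by
    refine Nat.Coprime.pow_left b (hp.coprime_iff_not_dvd.mpr fun hpd => ?_)
    rcases Nat.eq_zero_or_pos a with rfl | hpos
    · rw [pow_zero] at ha
      rw [ha] at hcard
      have := (Nat.card_pos (α := H))
      omega
    · have h1 : p ∣ Nat.card H + 1 := hcard ▸ ha ▸ dvd_pow_self p hpos.ne'
      exact hp.not_dvd_one ((Nat.dvd_add_right hpd).mp h1)
  rw [hb] at hd ⊢
  exact Nat.le_of_dvd Nat.card_pos (hcop.dvd_of_dvd_mul_right hd)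

/-- Let G be a finite group of order greater than 2 with an irreducible character χ nonzero on exactly two conjugacy classes, and let N be the normal p-subgroup of elements where χ is nonzero. Then N is the whole p-core O_p(G) if and only if G is a doubly transitive Frobenius group with kernel N: G has a Frobenius complement H whose Frobenius kernel is N and whose order is one less than that of N. -/
theorem result {G : Type*} [Group G] [Finite G] (hG : 2 < Nat.card G) (χ : Cfsg.IrrCharacter G) (hχ : Nat.card {C : ConjClasses G // ∃ g ∈ C.carrier, (χ : G → ℂ) g ≠ 0} = 2) (p : ℕ) [Fact p.Prime] (N : Subgroup G) [N.Normal] (hN : ∀ g : G, g ∈ N ↔ (χ : G → ℂ) g ≠ 0) (hNp : IsPGroup p N) (hN1 : N ≠ ⊥) :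
    N = Cfsg.pCore p G ↔ ∃ H : Subgroup G, Cfsg.IsFrobeniusComplement H ∧ Cfsg.frobeniusKernel H = (N : Set G) ∧ Nat.card H + 1 = Nat.card N := by
  obtain ⟨k, h⟩ := Gagola.exists_twoClass hχ
  have hNs : N = Gagola.supp χ := Subgroup.ext fun g =>
    (hN g).trans (Gagola.mem_supp_iff' hG h g).symm
  exact ⟨gagola_frobenius hG h hNs hNp, fun ⟨H, h1, h2, h3⟩ => eq_core_of_frobenius hNp H h1 h2 h3⟩

end Cfsg.Agent.S4839
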