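import Cfsg.Statements.S4840
import Cfsg.Agent.Lib.BlocksChars5.Gagola
import Cfsg.Agent.Lib.BlocksChars5.GagolaQuot.Count
import Cfsg.Agent.Lib.Cores.Basic

set_option autoImplicit false
open Cfsg
open Cfsg.Agent.Lib.BlocksChars5

namespace Cfsg.Agent.S4840

/-- Let G be a finite solvable group of order greater than 2 with an irreducible character nonzero on exactly two conjugacy classes. Then there is exactly one prime p with O_p(G) ≠ 1, and the quotient G/O_p(G) has a normal p-complement and commutative Sylow p-subgroups. -/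
theorem result {G : Type*} [Group G] [Finite G] [hs : Group.IsSolvable G] (hG : 2 < Nat.card G) (χ : Cfsg.IrrCharacter G) (hχ : Nat.card {C : ConjClasses G // ∃ g ∈ C.carrier, (χ : G → ℂ) g ≠ 0} = 2) :
    ∃ p : ℕ, p.Prime ∧ (∀ q : ℕ, q.Prime → (Cfsg.pCore q G ≠ ⊥ ↔ q = p)) ∧
      Cfsg.HasNormalPComplement p (G ⧸ Cfsg.pCore p G) ∧ ∀ Q : Sylow p (G ⧸ Cfsg.pCore p G), IsMulCommutative (Q : Subgroup (G ⧸ Cfsg.pCore p G)) := by
  obtain ⟨k, h⟩ := Gagola.exists_twoClass hχ
  obtain ⟨hp, hpg⟩ := Gagola.supp_pGroup hG h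
  set p := orderOf k with hpdef
  haveI : Fact p.Prime := ⟨hp⟩
  haveI hNn : (Gagola.supp χ).Normal := Gagola.supp_normal χ
  have hk : k ∈ Gagola.supp χ := (Gagola.mem_supp_iff hG h k).mpr (Or.inr (IsConj.refl k))
  have hNcore : Gagola.supp χ ≤ Cfsg.pCore p G := Lib.Cores.le_pCore hpg
  refine ⟨p, hp, fun q hq => ⟨fun hne => ?_, ?_⟩, ?_⟩
  · -- a nontrivial `q`-core contains the support
    haveI : Fact q.Prime := ⟨hq⟩
    haveI : (Cfsg.pCore q G).Normal := inferInstance
    obtain ⟨j, hj⟩ := (Lib.Cores.pCore_isPGroup (G := G) q) ⟨k, Gagola.supp_le hG h _ inferInstance hne hk⟩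
    have hd : p ∣ q ^ j := orderOf_dvd_of_pow_eq_one (by simpa using congrArg Subtype.val hj)
    exact ((Nat.prime_dvd_prime_iff_eq hp hq).mp (hp.dvd_of_dvd_pow hd)).symm
  · rintro rfl e
    exact Gagola.supp_ne_bot hG h (le_bot_iff.mp (hNcore.trans e.le))
  -- `O_p(G)` is the kernel of the action on the support
  let φ : G →* MulAut (Gagola.supp χ) := MulAut.conjNormal
  have hker : Cfsg.pCore p G = φ.ker := by
    refine le_antisymm (fun g hg => ?_) ?_
    · -- `O_p(G)` centralises the support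
      haveI : Nontrivial (Cfsg.pCore p G) := (Subgroup.nontrivial_iff_ne_bot _).mpr fun e =>
        Gagola.supp_ne_bot hG h (le_bot_iff.mp (hNcore.trans e.le))
      have hz : (Subgroup.center (Cfsg.pCore p G)).map (Cfsg.pCore p G).subtype ≠ ⊥ := by
        rw [Ne, Subgroup.map_eq_bot_iff_of_injective _ (Subgroup.subtype_injective _)]
        exact (Subgroup.nontrivial_iff_ne_bot _).mp
          (Lib.Cores.pCore_isPGroup (G := G) p).center_nontrivial
      have hle := Gagola.supp_le hG h _ ConjAct.normal_of_characteristic_of_normal hz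
      refine MulEquiv.ext fun n => Subtype.ext ?_
      obtain ⟨z, hz', hzn⟩ := Subgroup.mem_map.mp (hle n.2)
      have hc := congrArg Subtype.val (Subgroup.mem_center_iff.mp hz' ⟨g, hg⟩)
      simp only [φ, MulAut.conjNormal_apply, MulAut.one_apply]
      have hc' : g * (n : G) = n * g := by rw [← hzn]; exact hc
      rw [hc', mul_inv_cancel_right]
    · refine Lib.Cores.le_pCore ((Gagola.centralizer_pGroup hG h hpg hk h.1).to_le fun g hg => ?_)
      rw [Subgroup.mem_centralizer_singleton_iff]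
      have := congrArg Subtype.val (MulEquiv.congr_fun (MonoidHom.mem_ker.mp hg) ⟨k, hk⟩)
      simpa [φ, mul_inv_eq_iff_eq_mul] using this
  letI : CommGroup (Gagola.supp χ) :=
    { (inferInstance : Group (Gagola.supp χ)) with
      mul_comm := fun a b => Subtype.ext (Gagola.supp_comm hG h a a.2 b b.2) }
  letI : MulDistribMulAction (G ⧸ Cfsg.pCore p G) (Gagola.supp χ) :=
    MulDistribMulAction.compHom _ (QuotientGroup.lift (Cfsg.pCore p G) φ hker.le)
  have hsmul : ∀ (g : G) (n : Gagola.supp χ), (g : G ⧸ Cfsg.pCore p G) • n = φ g n := fun _ _ => rfl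
  have S : Lib.BlocksChars5.GagolaQuot.Setup (L := G ⧸ Cfsg.pCore p G) (V := Gagola.supp χ) p := by
    refine ⟨(Subgroup.nontrivial_iff_ne_bot _).mpr (Gagola.supp_ne_bot hG h), hpg, ?_, ?_, ?_, ?_⟩
    · intro g hg
      obtain ⟨g, rfl⟩ := QuotientGroup.mk_surjective g
      rw [QuotientGroup.eq_one_iff, hker]
      exact MulEquiv.ext fun n => by rw [← hsmul]; exact hg n
    · intro v w hv hw
      obtain ⟨g, hg⟩ := isConj_iff.mp (Gagola.supp_conj hG h v.2 w.2
        (fun e => hv (Subtype.ext e)) (fun e => hw (Subtype.ext e)))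
      exact ⟨g, by rw [hsmul]; exact Subtype.ext (by simpa [φ] using hg)⟩
    · intro v g hv hgv
      obtain ⟨g, rfl⟩ := QuotientGroup.mk_surjective g
      rw [hsmul] at hgv
      obtain ⟨j, hj⟩ := Gagola.centralizer_pGroup hG h hpg v.2 (fun e => hv (Subtype.ext e))
        ⟨g, Subgroup.mem_centralizer_singleton_iff.mpr
          (by simpa [φ, mul_inv_eq_iff_eq_mul] using congrArg Subtype.val hgv)⟩
      exact ⟨j, by rw [← QuotientGroup.mk_pow, show g ^ p ^ j = 1 by simpa using congrArg Subtype.val hj,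
        QuotientGroup.mk_one]⟩
    · intro M hM hMp
      exact le_bot_iff.mp ((Lib.Cores.le_pCore (hN := hM) hMp).trans
        (Lib.Cores.pCore_quotient_pCore (G := G) p).le)
  exact S.main

end Cfsg.Agent.S4840
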