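import Cfsg.Statements.S4845
import Cfsg.Agent.Lib.Chars82.PGroupChars
import Cfsg.Agent.Lib.Blocks.Central

set_option autoImplicit false
open Cfsg

namespace Cfsg.Agent.S4845

universe u

open Cfsg.Agent.Lib.Chars82.PGroupChars in
theorem card_commutator_eq {p : ℕ} [Fact p.Prime] : ∀ (N : ℕ) (Q : Type u) [Group Q] [Finite Q],
    Nat.card Q = N → IsPGroup p Q → SameDegConj Q → commutator Q ≠ ⊥ →
      Nat.card (commutator Q) = p := by
  intro N
  induction N using Nat.strong_induction_on with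
  | _ N ih =>
    intro Q _ _ hN hQ h hne
    obtain ⟨j, hj⟩ := (hQ.to_subgroup (commutator Q)).exists_card_eq
    have hj0 : j ≠ 0 := fun h0 => hne (Subgroup.card_eq_one.mp (by rw [hj, h0, pow_zero]))
    by_contra hcon
    have hj1 : j ≠ 1 := fun h1 => hcon (by rw [hj, h1, pow_one])
    have hj2 : j ≠ 2 := fun h2 => card_commutator_ne_sq hQ h (by rw [hj, h2])
    obtain ⟨c, hc, hcz, hco⟩ := exists_central_order_p hQ hne
    haveI : (Subgroup.zpowers c).Normal := normal_of_le_center (Subgroup.zpowers_le.mpr hcz)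
    have hq := card_map_mk (Subgroup.zpowers c) (commutator Q) (Subgroup.zpowers_le.mpr hc)
    rw [← commutator_quotient, Nat.card_zpowers, hco, hj] at hq
    have hlt : Nat.card (Q ⧸ Subgroup.zpowers c) < N := by
      rw [← hN, Subgroup.card_eq_card_quotient_mul_card_subgroup (Subgroup.zpowers c),
        Nat.card_zpowers, hco]
      exact lt_mul_of_one_lt_right Nat.card_pos (Fact.out : p.Prime).one_lt
    have hq1 : commutator (Q ⧸ Subgroup.zpowers c) ≠ ⊥ := fun e => by
      rw [e, Subgroup.card_bot, one_mul] at hq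
      exact hj1 (Nat.pow_right_injective (Fact.out : p.Prime).two_le (hq.symm.trans (pow_one p).symm))
    have h' := ih _ hlt _ rfl (hQ.to_quotient _) (sameDegConj_quotient h _) hq1
    rw [h', ← pow_two] at hq
    exact hj2 (Nat.pow_right_injective (Fact.out : p.Prime).two_le hq.symm)

/-- Let p be a prime and P a finite non-commutative p-group. Then every two irreducible characters of P of the same degree greater than 1 are Galois conjugate (one is obtained from the other by composing with g ↦ g^k for some k prime to the order of P) if and only if the centre of P is cyclic and the derived subgroup of P has order p. -/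
theorem result {P : Type*} [Group P] [Finite P] (p : ℕ) [Fact p.Prime] (hP : IsPGroup p P) (hna : ¬ IsMulCommutative P) :
    (∀ χ ψ : Cfsg.IrrCharacter P, Cfsg.charDegree (χ : P → ℂ) ≠ 1 → Cfsg.charDegree (χ : P → ℂ) = Cfsg.charDegree (ψ : P → ℂ) → ∃ k : ℕ, Nat.Coprime k (Nat.card P) ∧ ∀ g : P, (ψ : P → ℂ) g = (χ : P → ℂ) (g ^ k)) ↔
      (IsCyclic (Subgroup.center P) ∧ Nat.card (commutator P) = p) := by
  classical
  have hd1 : ∀ χ : Cfsg.IrrCharacter P, Cfsg.charDegree (χ : P → ℂ) = 1 ↔ (χ : P → ℂ) 1 = 1 := by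
    intro χ
    rw [Cfsg.Agent.Lib.Blocks.char_one_eq_degree, Nat.cast_eq_one]
  have hdeg : ∀ χ ψ : Cfsg.IrrCharacter P,
      Cfsg.charDegree (χ : P → ℂ) = Cfsg.charDegree (ψ : P → ℂ) ↔ (χ : P → ℂ) 1 = (ψ : P → ℂ) 1 := by
    intro χ ψ
    rw [Cfsg.Agent.Lib.Blocks.char_one_eq_degree, Cfsg.Agent.Lib.Blocks.char_one_eq_degree,
      Nat.cast_inj]
  have hne : commutator P ≠ ⊥ := fun e => hna ⟨⟨fun a b => by
    refine commutatorElement_eq_one_iff_mul_comm.mp (Subgroup.mem_bot.mp ?_)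
    rw [← e]
    exact Subgroup.commutator_mem_commutator (Subgroup.mem_top a) (Subgroup.mem_top b)⟩⟩
  open Cfsg.Agent.Lib.Chars82.PGroupChars in
  constructor
  · intro h
    have h' : SameDegConj P := fun χ ψ h1 h2 =>
      h χ ψ (fun e => h1 ((hd1 χ).mp e)) ((hdeg χ ψ).mpr h2)
    have hc := card_commutator_eq _ P rfl hP h' hne
    exact ⟨isCyclic_center_of_prime hP h' hc, hc⟩
  · rintro ⟨hcyc, hc⟩ χ ψ hχ heq
    have hle := le_center_of_card_prime hP hc
    have hχ1 : (χ : P → ℂ) 1 ≠ 1 := fun e => hχ ((hd1 χ).mpr e)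
    have hψ1 : (ψ : P → ℂ) 1 ≠ 1 := fun e => hχ1 (((hdeg χ ψ).mp heq).trans e)
    obtain ⟨c, hcG, hcz, hco⟩ := exists_central_order_p hP (N := commutator P) hne
    have hZp : IsPGroup p (Subgroup.center P) := hP.to_subgroup _
    have hinj : ∀ θ : Cfsg.IrrCharacter P, (θ : P → ℂ) 1 ≠ 1 → Function.Injective (omegaZ θ) := by
      intro θ hθ
      refine (injective_iff_map_eq_one _).mpr fun z hz => ?_
      obtain ⟨hf, -⟩ := prime_derived hc hle θ hθ
      rcases mem_zpowers_or hZp z ⟨c, hcz⟩ with h1 | h1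
      · obtain ⟨i, hi⟩ := Subgroup.mem_zpowers_iff.mp h1
        refine Subtype.ext (hf z ?_ ?_)
        · rw [← hi, Subgroup.coe_zpow]
          exact zpow_mem hcG i
        · rw [apply_center θ z, hz, one_mul]
      · exfalso
        obtain ⟨i, hi⟩ := Subgroup.mem_zpowers_iff.mp h1
        have h2 : omegaZ θ ⟨c, hcz⟩ = 1 := by
          obtain ⟨j, hj⟩ := (Submonoid.mem_powers_iff _ _).mp (mem_powers_iff_mem_zpowers.mpr h1)
          rw [← hj, map_pow, hz, one_pow]
        have h3 := hf c hcG (by rw [apply_center θ ⟨c, hcz⟩, h2, one_mul])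
        rw [h3, orderOf_one] at hco
        exact (Fact.out : p.Prime).one_lt.ne hco
    obtain ⟨z₀, hz₀⟩ := IsCyclic.exists_generator (α := Subgroup.center P)
    have hprim : ∀ θ : Cfsg.IrrCharacter P, (θ : P → ℂ) 1 ≠ 1 →
        IsPrimitiveRoot (omegaZ θ z₀) (orderOf z₀) := fun θ hθ => by
      rw [← orderOf_injective (omegaZ θ) (hinj θ hθ) z₀]
      exact IsPrimitiveRoot.orderOf _
    haveI : NeZero (orderOf z₀) := ⟨(orderOf_pos z₀).ne'⟩
    obtain ⟨k, hk, hkeq⟩ := (hprim χ hχ1).eq_pow_of_pow_eq_one (hprim ψ hψ1).pow_eq_one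
    have hcop : Nat.Coprime k (orderOf z₀) :=
      ((hprim χ hχ1).pow_iff_coprime (orderOf_pos z₀) k).mp (hkeq ▸ hprim ψ hψ1)
    have hpz : p ∣ orderOf z₀ := by
      rw [orderOf_eq_card_of_forall_mem_zpowers hz₀, ← hco, ← Nat.card_zpowers c]
      exact Subgroup.card_dvd_of_le (Subgroup.zpowers_le.mpr hcz)
    obtain ⟨n, hn⟩ := hP.exists_card_eq
    have hkp : Nat.Coprime k (Nat.card P) := by
      rw [hn]
      exact (hcop.coprime_dvd_right hpz).pow_right n
    refine ⟨k, hkp, fun g => ?_⟩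
    by_cases hg : g ∈ Subgroup.center P
    · obtain ⟨i, hi⟩ := (Submonoid.mem_powers_iff _ _).mp (mem_powers_iff_mem_zpowers.mpr (hz₀ ⟨g, hg⟩))
      have e1 : (ψ : P → ℂ) g = omegaZ ψ ⟨g, hg⟩ * (ψ : P → ℂ) 1 := apply_center ψ ⟨g, hg⟩
      have e2 : (χ : P → ℂ) (g ^ k) = omegaZ χ (⟨g, hg⟩ ^ k) * (χ : P → ℂ) 1 :=
        apply_center χ (⟨g, hg⟩ ^ k)
      rw [e1, e2, (hdeg χ ψ).mp heq, ← hi, map_pow, map_pow, map_pow, ← hkeq, ← pow_mul, ← pow_mul,
        mul_comm k i]
    · rw [(prime_derived hc hle ψ hψ1).2 g hg, (prime_derived hc hle χ hχ1).2 _ fun hgk => hg ?_]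
      obtain ⟨j, hj⟩ := exists_pow_eq_self_of_coprime (hkp.coprime_dvd_right (orderOf_dvd_natCard g))
      rw [← hj]
      exact pow_mem hgk j

end Cfsg.Agent.S4845
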