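import Cfsg.Statements.S4850
import Cfsg.Agent.Lib.VanishingOrder.Main
import Cfsg.Agent.Lib.SubnormSet.Basic
-- import your own Cfsg.Agent.* helpers here

set_option autoImplicit false
set_option linter.style.haveILetI false
open Cfsg

namespace Cfsg.Agent.S4850

/-- Let p be a prime and G a finite solvable group whose vanishing elements (elements at which some irreducible character is zero) of order divisible by p all have the same order, with at least one such element. Let P be a Sylow p-subgroup of G. Then the derived subgroup of P is subnormal in G and the image of P in G/O_p(G) is cyclic. -/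
theorem result {G : Type*} [Group G] [Finite G] [hs : Group.IsSolvable G] (p : ℕ) [Fact p.Prime] (b : ℕ) (hvo : {n : ℕ | p ∣ n ∧ ∃ (g : G) (χ : Cfsg.IrrCharacter G), orderOf g = n ∧ (χ : G → ℂ) g = 0} = {b}) (P : Sylow p G) :
    ((commutator ↥(P : Subgroup G)).map (P : Subgroup G).subtype).IsSubnormal ∧ IsCyclic ↥((P : Subgroup G).map (QuotientGroup.mk' (Cfsg.pCore p G))) := by
  classical
  set Q := Cfsg.pCore p G with hQ
  have hhyp : Cfsg.Agent.Lib.VanishingOrder.Hyp p G := by
    refine Cfsg.Agent.Lib.VanishingOrder.Hyp.of_order (b := b) ?_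
    rintro x ⟨⟨χ, hχ⟩, hd⟩
    exact Set.mem_singleton_iff.mp (hvo ▸ (⟨hd, x, χ, rfl, hχ⟩ :
      orderOf x ∈ {n : ℕ | p ∣ n ∧ ∃ (g : G) (χ : Cfsg.IrrCharacter G), orderOf g = n ∧ (χ : G → ℂ) g = 0}))
  have hnd := Cfsg.Agent.Lib.VanishingOrder.not_sq_dvd (hhyp.quotient Q)
    (Cfsg.Agent.Lib.Cores.pCore_quotient_pCore p)
  set π := QuotientGroup.mk' Q with hπ
  have hPp : IsPGroup p ((P : Subgroup G).map π) := P.isPGroup'.map _
  obtain ⟨k, hk⟩ := IsPGroup.iff_card.mp hPp
  have hk1 : k ≤ 1 := by
    by_contra hlt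
    exact hnd ((pow_dvd_pow p (by omega : 2 ≤ k)).trans (hk ▸ Subgroup.card_subgroup_dvd_card _))
  have hcyc : IsCyclic ↥((P : Subgroup G).map π) := by
    rcases Nat.le_one_iff_eq_zero_or_eq_one.mp hk1 with rfl | rfl
    · haveI : Subsingleton ↥((P : Subgroup G).map π) :=
        (Nat.card_eq_one_iff_unique.mp (by simpa using hk)).1
      infer_instance
    · exact isCyclic_of_prime_card (p := p) (by simpa using hk)
  refine ⟨?_, hcyc⟩
  have hle : (commutator ↥(P : Subgroup G)).map (P : Subgroup G).subtype ≤ Q := by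
    haveI := hcyc
    rw [Subgroup.map_subtype_commutator, Subgroup.commutator_le]
    intro a ha b hb
    rw [← QuotientGroup.eq_one_iff]
    show π (a * b * a⁻¹ * b⁻¹) = 1
    rw [← commutatorElement_def, map_commutatorElement, commutatorElement_eq_one_iff_mul_comm]
    letI := IsCyclic.commGroup (α := ↥((P : Subgroup G).map π))
    exact congrArg Subtype.val (mul_comm (⟨π a, Subgroup.mem_map_of_mem π ha⟩ :
      ↥((P : Subgroup G).map π)) ⟨π b, Subgroup.mem_map_of_mem π hb⟩)
  haveI : Group.IsNilpotent ↥Q := (Cfsg.Agent.Lib.Cores.pCore_isPGroup (G := G) p).isNilpotent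
  set C := (commutator ↥(P : Subgroup G)).map (P : Subgroup G).subtype
  have h1 : (C.subgroupOf Q).IsSubnormal := Cfsg.Agent.Lib.SubnormSet.isSubnormal_of_isNilpotent _
  have h2 := h1.trans' (Subgroup.Normal.isSubnormal (H := Q) inferInstance)
  rwa [Subgroup.map_subgroupOf_eq_of_le hle] at h2

end Cfsg.Agent.S4850
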