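import Cfsg.Statements.S4859
import Cfsg.Agent.Lib.Chars82.RealChars

set_option autoImplicit false
open Cfsg

namespace Cfsg.Agent.S4859

/-- Let p be an odd prime, G a finite group and x an element of G whose order is a power of p (possibly 1) and whose centralizer has even order. Let y be a 2-element of the centralizer of x whose order is largest among the 2-elements of that centralizer. Then x * y is not a square in G, and some non-principal real-valued irreducible character of G does not vanish at x * y. -/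
theorem result {G : Type*} [Group G] [Finite G] (p : ℕ) [Fact p.Prime] (hp : p ≠ 2) (x : G) (hx : ∃ k : ℕ, orderOf x = p ^ k) (heven : Even (Nat.card (Subgroup.centralizer ({x} : Set G)))) (y : G) (hy : y ∈ Subgroup.centralizer ({x} : Set G)) (hy2 : ∃ k : ℕ, orderOf y = 2 ^ k) (hmax : ∀ z ∈ Subgroup.centralizer ({x} : Set G), (∃ k : ℕ, orderOf z = 2 ^ k) → orderOf z ≤ orderOf y) : (¬ ∃ u : G, u * u = x * y) ∧ ∃ χ : Cfsg.IrrCharacter G, ¬ ((χ : G → ℂ) = fun _ => (1 : ℂ)) ∧ (∀ g : G, ((χ : G → ℂ) g).im = 0) ∧ (χ : G → ℂ) (x * y) ≠ 0 := by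
  classical
  have := Fintype.ofFinite G
  obtain ⟨k, hk⟩ := hx
  obtain ⟨l, hl⟩ := hy2
  set C := Subgroup.centralizer ({x} : Set G)
  have hxy : Commute x y := (Subgroup.mem_centralizer_singleton_iff.mp hy).symm
  have hxodd : Odd (orderOf x) := by
    rw [hk]
    exact ((Fact.out : p.Prime).odd_of_ne_two hp).pow
  -- `y` is not trivial
  have hl0 : 0 < l := by
    refine Nat.pos_of_ne_zero fun h0 => ?_
    obtain ⟨t, ht⟩ := exists_prime_orderOf_dvd_card' 2 (G := C) (even_iff_two_dvd.mp heven)
    have h2 := hmax t.1 t.2 ⟨1, by rw [pow_one, Subgroup.orderOf_coe, ht]⟩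
    rw [Subgroup.orderOf_coe, ht, hl, h0, pow_zero] at h2
    omega
  have hsq : ¬ ∃ u : G, u * u = x * y := by
    rintro ⟨u, hu⟩
    set m := orderOf x with hm
    have hum : (u ^ m) ^ 2 = y ^ m := by
      rw [← pow_mul, mul_comm, pow_mul, pow_two, hu, hxy.mul_pow, pow_orderOf_eq_one, one_mul]
    have hcx : Commute u x := by
      have hc : Commute u (x * y) := hu ▸ (Commute.refl u).mul_right (Commute.refl u)
      obtain ⟨a, ha⟩ : ∃ a, (x * y) ^ a = x := by
        have hcop : Nat.Coprime (orderOf y) (orderOf x) := by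
          rw [hl]
          exact (Nat.coprime_two_left.mpr hxodd).pow_left l
        obtain ⟨j, hj⟩ := exists_pow_eq_self_of_coprime hcop
        exact ⟨orderOf y * j, by
          rw [pow_mul, hxy.mul_pow, pow_orderOf_eq_one, mul_one]
          exact hj⟩
      exact ha ▸ hc.pow_right a
    have hmem : u ^ m ∈ C := Subgroup.mem_centralizer_singleton_iff.mpr (hcx.pow_left m).eq
    have hym : orderOf (y ^ m) = 2 ^ l := by
      rw [Nat.Coprime.orderOf_pow, hl]
      rw [hl]
      exact (Nat.coprime_two_left.mpr hxodd).pow_left l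
    have hord : orderOf (u ^ m) = 2 ^ (l + 1) := by
      have h1 : (u ^ m) ^ 2 ^ (l + 1) = 1 := by
        rw [pow_succ', pow_mul, hum, ← hym, pow_orderOf_eq_one]
      have h2 : ¬ (u ^ m) ^ 2 ^ l = 1 := by
        obtain ⟨l', rfl⟩ : ∃ l', l = l' + 1 := ⟨l - 1, by omega⟩
        rw [pow_succ', pow_mul, hum]
        intro h
        have := orderOf_dvd_of_pow_eq_one h
        rw [hym, Nat.pow_dvd_pow_iff_le_right Nat.one_lt_two] at this
        omega
      exact orderOf_eq_prime_pow h2 h1
    have := hmax _ hmem ⟨l + 1, hord⟩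
    rw [hord, hl, Nat.pow_le_pow_iff_right Nat.one_lt_two] at this
    omega
  refine ⟨hsq, ?_⟩
  by_contra hcon
  push Not at hcon
  have h := Cfsg.Agent.Lib.Chars82.RealChars.root_count (x * y)
  have h0 : Nat.card {s : G // s * s = x * y} = 0 := by
    have : IsEmpty {s : G // s * s = x * y} := ⟨fun s => hsq ⟨s.1, s.2⟩⟩
    exact Nat.card_of_isEmpty
  rw [h0, Nat.cast_zero, finsum_eq_single _ (Cfsg.Agent.Lib.Characters.Basic.oneChar G)] at h
  · rw [Cfsg.Agent.Lib.Chars82.RealChars.nu_oneChar,
      Cfsg.Agent.Lib.Characters.Basic.oneChar_apply, mul_one] at h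
    exact zero_ne_one h
  · intro χ hne
    by_contra hmul
    exact (right_ne_zero_of_mul hmul) (hcon χ (fun e => hne (Subtype.ext e))
      (Cfsg.Agent.Lib.Chars82.RealChars.real_of_nu_ne_zero (left_ne_zero_of_mul hmul)))

end Cfsg.Agent.S4859
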