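-- statement Cfsg.CfsgFrozen.S4860 (Cfsg/Statements/S4860.lean; the theorem Cfsg.chr11_principal_block_second_real_character_not_galois_conjugate)
import Cfsg.Statements.S4860
import Cfsg.Agent.Lib.Blocks.Contrib
import Cfsg.Agent.Lib.Chars82.RealChars

/-!
# A second real character of the principal block

For odd `p` squaring permutes nothing between regular and singular elements, so summing the
expansion of the indicator of the regular elements over all squares gives
`∑ n χ * ν χ = n 1`, where `n χ` is the regular inner product of `1` with `χ`.  The integers `n χ`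
vanish outside the principal block, are non-zero inside, and are constant on Galois orbits, as
are the indicators `ν χ`.
-/

set_option autoImplicit false
set_option linter.style.haveILetI false
set_option linter.unusedSectionVars false
open Cfsg

namespace Cfsg.Agent.S4860

open scoped ComplexConjugate
open Cfsg.Agent.Lib.Blocks Cfsg.Agent.Lib.Blocks.Contrib
open Cfsg.Agent.Lib.Characters.Basic Cfsg.Agent.Lib.Chars82.RealChars

section

universe u

variable {G : Type u} [Group G] [Finite G] {p : ℕ} [hp : Fact p.Prime]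

theorem dvd_orderOf_sq_iff (hp2 : p ≠ 2) (g : G) : p ∣ orderOf (g * g) ↔ p ∣ orderOf g := by
  refine ⟨fun h => h.trans (pow_two g ▸ orderOf_pow_dvd 2), fun h => ?_⟩
  rw [← pow_two, orderOf_pow' g two_ne_zero]
  refine Nat.dvd_div_of_mul_dvd ?_
  refine Nat.Coprime.mul_dvd_of_dvd_of_dvd ?_ (Nat.gcd_dvd_left _ _) h
  exact Nat.Coprime.coprime_dvd_left (Nat.gcd_dvd_right _ _)
    ((Nat.coprime_primes Nat.prime_two hp.out).mpr (Ne.symm hp2))

/-- The regular inner products with the trivial character against the indicators. -/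
theorem sum_contribN_nu [Fintype G] [Fintype (Cfsg.IrrCharacter G)] (hp2 : p ≠ 2) :
    ∑ χ : Cfsg.IrrCharacter G, (contribN p (oneChar G) χ : ℂ) * nu (χ : G → ℂ) =
      (contribN p (oneChar G) (oneChar G) : ℂ) := by
  classical
  have hG : (Nat.card G : ℂ) ≠ 0 := Nat.cast_ne_zero.mpr Nat.card_pos.ne'
  have h1 : ∑ χ : Cfsg.IrrCharacter G, (contribN p (oneChar G) χ : ℂ) * nu (χ : G → ℂ) =
      (Nat.card G : ℂ)⁻¹ *
        ∑ g : G, ∑ χ : Cfsg.IrrCharacter G,
          (contribN p (oneChar G) χ : ℂ) * (χ : G → ℂ) (g * g) := by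
    rw [Finset.sum_comm, Finset.mul_sum]
    refine Finset.sum_congr rfl fun χ _ => ?_
    rw [nu, Finset.mul_sum, Finset.mul_sum, Finset.mul_sum]
    exact Finset.sum_congr rfl fun g _ => by ring
  have h2 : ∑ g : G, (if p ∣ orderOf g then (0 : ℂ) else 1) =
      (primeToCard p G : ℂ) * contribN p (oneChar G) (oneChar G) := by
    rw [← regSum_eq_contribN, regSum_eq_sum]
    exact Finset.sum_congr rfl fun g _ => by split_ifs <;> simp [oneChar_apply]
  rw [h1]
  simp only [sum_contribN_apply, dvd_orderOf_sq_iff hp2, oneChar_apply]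
  rw [← Finset.mul_sum, h2, natCast_card_eq p G]
  have hm : (primeToCard p G : ℂ) ≠ 0 := Nat.cast_ne_zero.mpr (primeToCard_pos p).ne'
  have hq : (p : ℂ) ≠ 0 := Nat.cast_ne_zero.mpr hp.out.ne_zero
  field_simp

omit hp in
theorem nu_comp [Fintype G] {α β : Cfsg.IrrCharacter G} (σ : ℂ →+* ℂ)
    (h : (β : G → ℂ) = (σ : ℂ → ℂ) ∘ (α : G → ℂ)) : nu (β : G → ℂ) = nu (α : G → ℂ) := by
  have h1 : nu (β : G → ℂ) = σ (nu (α : G → ℂ)) := by
    rw [nu, nu, map_mul, map_inv₀, map_natCast, map_sum, h]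
    rfl
  rcases nu_eq_zero_or α with e | e | e <;> simp [h1, e]

theorem contribN_comp {α β : Cfsg.IrrCharacter G} (σ : ℂ →+* ℂ)
    (h : (β : G → ℂ) = (σ : ℂ → ℂ) ∘ (α : G → ℂ)) :
    contribN p (oneChar G) β = contribN p (oneChar G) α := by
  haveI := Fintype.ofFinite G
  have h1 : regSum p (oneChar G : G → ℂ) (β : G → ℂ) =
      σ (regSum p (oneChar G : G → ℂ) (α : G → ℂ)) := by
    rw [regSum_eq_sum, regSum_eq_sum, map_sum]
    exact Finset.sum_congr rfl fun g _ => by split_ifs <;> simp [h, oneChar_apply]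
  rw [regSum_eq_contribN, regSum_eq_contribN, map_mul, map_natCast, map_intCast] at h1
  exact_mod_cast mul_left_cancel₀ (Nat.cast_ne_zero.mpr (primeToCard_pos (G := G) p).ne') h1

theorem vdeg_oneChar : vdeg p (oneChar G) = 0 := by
  have h : Cfsg.charDegree (oneChar G : G → ℂ) = 1 := by
    simp [Cfsg.charDegree, oneChar_apply]
  simp [vdeg, h]

variable {M : Ideal Cfsg.AlgInt} (hM : Cfsg.IsPModular p M)
include hM

theorem exists_second (hp2 : p ≠ 2) (α : Cfsg.IrrCharacter G)
    (hα : α ∈ Cfsg.principalBlock M G) (hα1 : α ≠ oneChar G)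
    (hαr : ∀ g : G, ((α : G → ℂ) g).im = 0) :
    ∃ β : Cfsg.IrrCharacter G, β ∈ Cfsg.principalBlock M G ∧ β ≠ oneChar G ∧
      (∀ g : G, ((β : G → ℂ) g).im = 0) ∧
      ∀ σ : ℂ ≃+* ℂ, (β : G → ℂ) ≠ (σ : ℂ → ℂ) ∘ (α : G → ℂ) := by
  classical
  haveI := Fintype.ofFinite G
  haveI := Fintype.ofFinite (Cfsg.IrrCharacter G)
  haveI := hM.2.1
  by_contra hcon
  push Not at hcon
  set B := Cfsg.principalBlock M G with hBdef
  have hB : Cfsg.IsPBlock M B := isPBlock_principalBlock
  have h1B : oneChar G ∈ B := oneChar_mem_principalBlock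
  have h0 : vdeg p (oneChar G) = minVdeg p B := by
    have := minVdeg_le (p := p) h1B
    rw [vdeg_oneChar] at this ⊢
    omega
  -- the members of `B` other than the trivial one which have a non-zero indicator
  set S : Finset (Cfsg.IrrCharacter G) := Finset.univ.filter fun χ =>
    χ ≠ oneChar G ∧ χ ∈ B ∧ nu (χ : G → ℂ) ≠ 0
  have hνα : nu (α : G → ℂ) ≠ 0 := by
    intro h
    rw [nu] at h
    rcases (Cfsg.Agent.Lib.Characters.Indicator.indicator_spec α).1 hαr with e | e <;>
      exact absurd (e.symm.trans h) (by simp)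
  have hαS : α ∈ S := Finset.mem_filter.mpr ⟨Finset.mem_univ _, hα1, hα, hνα⟩
  have hterm : ∀ χ ∈ S, (contribN p (oneChar G) χ : ℂ) * nu (χ : G → ℂ) =
      (contribN p (oneChar G) α : ℂ) * nu (α : G → ℂ) := by
    intro χ hχ
    obtain ⟨-, hne, hχB, hν⟩ := Finset.mem_filter.mp hχ
    obtain ⟨σ, hσ⟩ := hcon χ hχB hne (real_of_nu_ne_zero hν)
    rw [contribN_comp σ.toRingHom hσ, nu_comp σ.toRingHom hσ]
  have hsum := sum_contribN_nu (G := G) (p := p) hp2
  rw [← Finset.add_sum_erase _ _ (Finset.mem_univ (oneChar G)), nu_oneChar, mul_one,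
    add_eq_left, ← Finset.sum_subset (show S ⊆ Finset.univ.erase (oneChar G) from fun χ hχ =>
      Finset.mem_erase.mpr ⟨(Finset.mem_filter.mp hχ).2.1, Finset.mem_univ _⟩) (fun χ hχ hχS => by
      by_cases hχB : χ ∈ B
      · rw [show nu (χ : G → ℂ) = 0 by
          by_contra hν
          exact hχS (Finset.mem_filter.mpr
            ⟨Finset.mem_univ _, Finset.ne_of_mem_erase hχ, hχB, hν⟩), mul_zero]
      · rw [contribN_eq_zero hM hB h1B hχB, Int.cast_zero, zero_mul]),
    Finset.sum_congr rfl hterm, Finset.sum_const, nsmul_eq_mul] at hsum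
  exact mul_ne_zero (Nat.cast_ne_zero.mpr (Finset.card_ne_zero.mpr ⟨α, hαS⟩))
    (mul_ne_zero (Int.cast_ne_zero.mpr (contribN_ne_zero hM hB h1B h0 hα)) hνα) hsum

end

/-- Let G be a finite group, p an odd prime and M a maximal ideal of the algebraic integers containing p. If the principal p-block of G contains a non-principal real-valued irreducible character α, then it contains a non-principal real-valued irreducible character β different from α, and β may be chosen so that no field automorphism of ℂ carries α to β. -/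
theorem result {G : Type*} [Group G] [Finite G] (p : ℕ) [Fact p.Prime] (hp : p ≠ 2) (M : Ideal Cfsg.AlgInt) (hM : Cfsg.IsPModular p M) (α : Cfsg.IrrCharacter G) (hα : α ∈ Cfsg.principalBlock M G) (hα1 : ¬ ((α : G → ℂ) = fun _ => (1 : ℂ))) (hαr : (∀ g : G, ((α : G → ℂ) g).im = 0)) : ∃ β : Cfsg.IrrCharacter G, β ∈ Cfsg.principalBlock M G ∧ ¬ ((β : G → ℂ) = fun _ => (1 : ℂ)) ∧ (∀ g : G, ((β : G → ℂ) g).im = 0) ∧ β ≠ α ∧ ∀ σ : ℂ ≃+* ℂ, (β : G → ℂ) ≠ (σ : ℂ → ℂ) ∘ (α : G → ℂ) := by
  have e : α ≠ oneChar G := fun h => hα1 (h ▸ funext oneChar_apply)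
  obtain ⟨β, hβ, hβ1, hβr, hσ⟩ := exists_second hM hp α hα e hαr
  exact ⟨β, hβ, fun h => hβ1 (Subtype.ext (h.trans (funext fun g => (oneChar_apply g).symm))), hβr,
    fun h => hσ (RingEquiv.refl ℂ) (by rw [h]; rfl), hσ⟩

end Cfsg.Agent.S4860
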