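import Cfsg.Statements.S4862
import Cfsg.Agent.Lib.Chars82.RealPrime
import Cfsg.Agent.Lib.Chars82.RealLift
import Cfsg.Agent.Lib.BC78.CoprimeFix

set_option autoImplicit false
open Cfsg

namespace Cfsg.Agent.S4862

open Lib.Chars82.RealPrime Lib.Characters Lib.Clifford.Basic

universe u

/-- A character of degree prime to `p` is trivial on a normal subgroup inside `P'`. -/
theorem apply_eq_of_le_commutator {G : Type u} [Group G] [Finite G] {p : ℕ} [Fact p.Prime]
    (P : Sylow p G) (M : Subgroup G) [M.Normal]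
    (hM : M ≤ ⁅(P : Subgroup G), (P : Subgroup G)⁆) {χ : Cfsg.IrrCharacter G}
    (hχ : ¬ p ∣ Cfsg.charDegree (χ : G → ℂ)) {m : G} (hm : m ∈ M) :
    (χ : G → ℂ) m = (χ : G → ℂ) 1 := by
  classical
  letI := Fintype.ofFinite G
  letI := Fintype.ofFinite (P : Subgroup G)
  letI := Fintype.ofFinite M
  have hMP : M ≤ (P : Subgroup G) := hM.trans (Subgroup.commutator_le_self _)
  let χP : ↥(P : Subgroup G) → ℂ := fun x => (χ : G → ℂ) x
  have hχP : Cfsg.IsCharacter (P : Subgroup G) χP :=
    Basic.isCharacter_comp (P : Subgroup G).subtype (Basic.isCharacter_irr χ)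
  obtain ⟨d, hd⟩ := Basic.exists_degree (Basic.isCharacter_irr χ)
  rw [Cfsg.charDegree, hd, Complex.natCast_re, Nat.floor_natCast] at hχ
  obtain ⟨ψ, hψ, hψp⟩ := Lib.BC78.CoprimeFix.exists_constituent_not_dvd hχP
    (show χP 1 = d from hd) hχ
  obtain ⟨e, -, he, heq⟩ := Degree.exists_degree_dvd ψ
  obtain ⟨k, hk⟩ := IsPGroup.iff_card.1 P.2
  obtain ⟨i, -, hi⟩ := (Nat.dvd_prime_pow (Fact.out : p.Prime)).1 (hk ▸ he)
  have hψ1 : (ψ : ↥(P : Subgroup G) → ℂ) 1 = 1 := by
    rcases Nat.eq_zero_or_pos i with hi0 | hi0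
    · rw [heq, hi, hi0, pow_zero, Nat.cast_one]
    · exfalso
      apply hψp
      rw [Lib.BC78.CoprimeFix.deg, Cfsg.charDegree, heq, Complex.natCast_re, Nat.floor_natCast, hi]
      exact dvd_pow_self p hi0.ne'
  let one : Cfsg.IrrCharacter M := Basic.oneChar M
  have hψM : ((ψ : ↥(P : Subgroup G) → ℂ) ∘ Subgroup.inclusion hMP) = (one : M → ℂ) := by
    funext x
    have hx := hM x.2
    rw [← Subgroup.map_subtype_commutator] at hx
    obtain ⟨y, hy, hyx⟩ := hx
    have hker := Abelianization.commutator_subset_ker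
      (Linear.degOneHom (Basic.isCharacter_irr ψ) hψ1) hy
    have hy1 : y = Subgroup.inclusion hMP x := Subtype.ext hyx
    rw [MonoidHom.mem_ker, hy1] at hker
    show (ψ : ↥(P : Subgroup G) → ℂ) (Subgroup.inclusion hMP x) = _
    rw [← Linear.degOneHom_apply (Basic.isCharacter_irr ψ) hψ1, hker, Units.val_one,
      Basic.oneChar_apply]
  have h1 : Cfsg.classInner (fun x : M => (χ : G → ℂ) x) (one : M → ℂ) ≠ 0 :=
    classInner_comp_ne_zero (Subgroup.inclusion hMP) hχP hψ
      (by rw [hψM, Basic.classInner_self_irr]; exact one_ne_zero)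
  have h2 := restrict_eq_smul M χ.2 one h1 fun g => funext fun x => by
    rw [conjC_apply, Basic.oneChar_apply, Basic.oneChar_apply]
  have e1 := congrFun h2 ⟨m, hm⟩
  have e2 := congrFun h2 1
  simp only [Pi.smul_apply, one, Basic.oneChar_apply, Subgroup.coe_one] at e1 e2
  rw [e1, e2]


/-- Let p be an odd prime and G a finite group such that the subgroup generated by the p-elements of G is solvable and every real-valued irreducible complex character of G has degree prime to p. Let K be the subgroup generated by the 2-elements of G and P a Sylow p-subgroup of G. Then every normal subgroup M of G contained in K and in the derived subgroup of P is centralized by K. -/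
theorem result {G : Type*} [Group G] [Finite G] (p : ℕ) [Fact p.Prime] (hp : p ≠ 2) (hsolv : Group.IsSolvable ↥(Subgroup.closure {g : G | ∃ k : ℕ, orderOf g = p ^ k})) (hreal : ∀ χ : Cfsg.IrrCharacter G, (∀ g : G, ((χ : G → ℂ) g).im = 0) → ¬ p ∣ Cfsg.charDegree (χ : G → ℂ)) (P : Sylow p G) (M : Subgroup G) (hM : M.Normal) (hMK : M ≤ (Subgroup.closure {g : G | ∃ k : ℕ, orderOf g = 2 ^ k})) (hMP : M ≤ ⁅(P : Subgroup G), (P : Subgroup G)⁆) : (Subgroup.closure {g : G | ∃ k : ℕ, orderOf g = 2 ^ k}) ≤ Subgroup.centralizer (M : Set G) := by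
  classical
  letI : Fact (Nat.Prime 2) := ⟨Nat.prime_two⟩
  have hMP' : M ≤ (P : Subgroup G) := hMP.trans (Subgroup.commutator_le_self _)
  have hodd : Odd (Nat.card M) := by
    obtain ⟨k, hk⟩ := IsPGroup.iff_card.1 P.2
    obtain ⟨i, -, hi⟩ := (Nat.dvd_prime_pow (Fact.out : p.Prime)).1
      (hk ▸ Subgroup.card_dvd_of_le hMP')
    rw [hi]
    exact (Nat.Prime.odd_of_ne_two Fact.out hp).pow
  refine (Subgroup.closure_le _).2 ?_
  rintro h ⟨i, hi⟩
  rw [SetLike.mem_coe, Subgroup.mem_centralizer_iff]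
  by_contra hcon
  push Not at hcon
  obtain ⟨z, hz, hne⟩ := hcon
  -- an element of `2`-power order inducing an involution on `M`
  have hne0 : MulAut.conjNormal (H := M) h ≠ 1 := fun e => hne (by
    have := congrArg Subtype.val (DFunLike.congr_fun e ⟨z, hz⟩)
    rw [MulAut.conjNormal_apply, MulAut.one_apply] at this
    exact (mul_inv_eq_iff_eq_mul.1 this).symm)
  obtain ⟨j, hj, hj'⟩ : ∃ j, MulAut.conjNormal (H := M) (h ^ 2 ^ j) ≠ 1 ∧
      MulAut.conjNormal (H := M) (h ^ 2 ^ (j + 1)) = 1 := by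
    by_contra hcon
    push Not at hcon
    have hall : ∀ j, MulAut.conjNormal (H := M) (h ^ 2 ^ j) ≠ 1 := by
      intro j
      induction j with
      | zero => simpa using hne0
      | succ j ih => exact hcon j ih
    exact hall i (by rw [← hi, pow_orderOf_eq_one, map_one])
  set g := h ^ 2 ^ j with hg
  have hs2 : ∀ w : M, MulAut.conjNormal g (MulAut.conjNormal g w) = w := fun w => by
    rw [← MulAut.mul_apply, ← map_mul, hg, ← pow_add, ← two_mul, ← pow_succ', hj']; rfl
  obtain ⟨w, hw⟩ : ∃ w : M, MulAut.conjNormal g w ≠ w := by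
    by_contra hcon
    push Not at hcon
    exact hj (MulEquiv.ext hcon)
  set m : M := w⁻¹ * MulAut.conjNormal g w with hm
  have hm1 : (m : G) ≠ 1 := fun e => hw (by
    have : m = 1 := Subtype.ext e
    rwa [hm, inv_mul_eq_one, eq_comm] at this)
  refine hm1 (Lib.Chars82.RealLift.eq_one_of_real M hodd
    (fun χ hχ x hx => apply_eq_of_le_commutator P M hMP (hreal χ hχ) hx) m.2 ?_)
  refine isConj_iff.2 ⟨g, ?_⟩
  have h1 : MulAut.conjNormal g m = m⁻¹ := by
    rw [hm, map_mul, map_inv, hs2, mul_inv_rev, inv_inv]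
  have h2 := congrArg Subtype.val h1
  rwa [MulAut.conjNormal_apply] at h2

end Cfsg.Agent.S4862
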