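import Cfsg.Statements.S4865
import Cfsg.Agent.Lib.Chars82.RealPrimeCorr

set_option autoImplicit false
open Cfsg

namespace Cfsg.Agent.S4865

open Lib.Chars82.RealPrime Lib.Chars82.RealPrimeCorr

universe u

/-- The Sylow subgroup meets the subgroup generated by the `2`-elements in a normal subgroup. -/
theorem normal_subgroupOf {G : Type u} [Group G] [Finite G] {p : ℕ} [Fact p.Prime]
    (hsolv : Group.IsSolvable (pGen p G)) (hreal : RealPPrime p G) (P : Sylow p G) :
    ((P : Subgroup G).subgroupOf (pGen 2 G)).Normal := by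
  haveI : Fact (Nat.Prime 2) := ⟨Nat.prime_two⟩
  obtain ⟨S⟩ : Nonempty (Sylow p (pGen 2 G)) := inferInstance
  haveI hS : (S : Subgroup (pGen 2 G)).Normal :=
    normal_sylow (isSolvable_pGen_subgroup _ hsolv) (hreal.of_odd_index _ (odd_index_pGen_two G))
      ⟨0, by rw [pGen_self, Subgroup.index_top, pow_zero]⟩ S
  haveI := S.characteristic_of_normal hS
  haveI := Lib.Cores.normal_map_subtype (pGen 2 G) (S : Subgroup (pGen 2 G))
  have h1 : (S : Subgroup (pGen 2 G)).map (pGen 2 G).subtype ≤ (P : Subgroup G) :=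
    (S.2.map _).le_sylow_of_normal P
  have h2 : (S : Subgroup (pGen 2 G)) ≤ (P : Subgroup G).subgroupOf (pGen 2 G) :=
    fun x hx => h1 ⟨x, hx, rfl⟩
  show ((P : Subgroup G).comap (pGen 2 G).subtype).Normal
  rw [S.is_maximal' P.2.comap_subtype h2]
  exact hS


/-- Let p be a prime and G a finite group such that the subgroup generated by the p-elements of G is solvable and every real-valued irreducible complex character of G has degree prime to p. Let N be the normalizer of a Sylow p-subgroup of G. Then there is a bijection from the real-valued irreducible characters of G onto the real-valued irreducible characters of N of degree prime to p under which corresponding degrees are congruent modulo p up to sign. -/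
theorem result {G : Type*} [Group G] [Finite G] (p : ℕ) [Fact p.Prime] (hsolv : Group.IsSolvable ↥(Subgroup.closure {g : G | ∃ k : ℕ, orderOf g = p ^ k})) (hreal : ∀ χ : Cfsg.IrrCharacter G, (∀ g : G, ((χ : G → ℂ) g).im = 0) → ¬ p ∣ Cfsg.charDegree (χ : G → ℂ)) (P : Sylow p G) : ∃ f : {χ : Cfsg.IrrCharacter G // ∀ g : G, ((χ : G → ℂ) g).im = 0} → {ξ : Cfsg.IrrCharacter ↥(Subgroup.normalizer ((P : Subgroup G) : Set G)) // (∀ n, ((ξ : ↥(Subgroup.normalizer ((P : Subgroup G) : Set G)) → ℂ) n).im = 0) ∧ ¬ p ∣ Cfsg.charDegree (ξ : ↥(Subgroup.normalizer ((P : Subgroup G) : Set G)) → ℂ)}, Function.Bijective f ∧ ∀ χ, ((Cfsg.charDegree ((f χ).1 : ↥(Subgroup.normalizer ((P : Subgroup G) : Set G)) → ℂ) : ZMod p) = (Cfsg.charDegree (χ.1 : G → ℂ) : ZMod p) ∨ (Cfsg.charDegree ((f χ).1 : ↥(Subgroup.normalizer ((P : Subgroup G) : Set G)) → ℂ) : ZMod p) = -(Cfsg.charDegree (χ.1 : G → ℂ) : ZMod p)) := by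
  letI := Fintype.ofFinite G
  letI : Fact (Nat.Prime 2) := ⟨Nat.prime_two⟩
  exact exists_bijection P (pGen 2 G) (odd_index_pGen_two G) (fun χ hχ => hreal χ hχ)
    (normal_subgroupOf hsolv (fun χ hχ => hreal χ hχ) P)

end Cfsg.Agent.S4865
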