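import Cfsg.Statements.S4864
import Cfsg.Agent.S4865

set_option autoImplicit false
open Cfsg

namespace Cfsg.Agent.S4864

open Lib.Chars82.RealPrime Lib.Characters

universe u

/-- When the subgroup generated by the `2`-elements has order prime to `p`, every real class meets
the normaliser of a Sylow `p`-subgroup. -/
theorem exists_conj_mem {G : Type u} [Group G] [Finite G] {p : ℕ} [Fact p.Prime]
    (hreal : RealPPrime p G) (K : Subgroup G) [K.Normal] (hodd : Odd K.index)
    (hpK : ¬ p ∣ Nat.card K) (P : Sylow p G) {x : G} (hx : IsConj x x⁻¹) :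
    ∃ y ∈ Subgroup.normalizer ((P : Subgroup G) : Set G), IsConj x y := by
  classical
  letI := Fintype.ofFinite G
  set N := Subgroup.normalizer ((P : Subgroup G) : Set G) with hN
  have hbot : (P : Subgroup G) ⊓ K = ⊥ := by
    obtain ⟨k, hk⟩ := IsPGroup.iff_card.1 P.2
    refine Subgroup.inf_eq_bot_of_coprime ?_
    rw [hk]
    exact Nat.Coprime.pow_left k ((Fact.out : p.Prime).coprime_iff_not_dvd.2 hpK)
  have hQn : ((P : Subgroup G).subgroupOf K).Normal := by
    rw [Subgroup.subgroupOf_eq_bot.2 (disjoint_iff.2 hbot)]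
    infer_instance
  obtain ⟨f, hf, -⟩ := Lib.Chars82.RealPrimeCorr.exists_bijection P K hodd hreal hQn
  let CG := {c : ConjClasses G // ∀ g : G, ConjClasses.mk g = c → IsConj g g⁻¹}
  let CN := {c : ConjClasses N // ∀ g : N, ConjClasses.mk g = c → IsConj g g⁻¹}
  have hcard : Nat.card CG ≤ Nat.card CN := by
    rw [← Indicator.card_real_irr, ← Indicator.card_real_irr]
    refine Nat.card_le_card_of_injective (fun χ => ⟨(f χ).1, (f χ).2.1⟩) fun a b h => hf.1 ?_
    exact Subtype.ext (congrArg Subtype.val h :)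
  -- real elements of the normaliser centralise `P`
  have hcent : ∀ n : N, IsConj n n⁻¹ → ∀ s ∈ (P : Subgroup G), s * (n : G) = n * s := by
    intro n hn s hs
    have hnK : (n : G) ∈ K := by
      rw [← QuotientGroup.eq_one_iff]
      refine Indicator.eq_one_of_isConj_inv (G := G ⧸ K) ?_ ?_
      · rwa [← Subgroup.index_eq_card]
      · exact ((QuotientGroup.mk' K).comp N.subtype).map_isConj hn
    have h1 : s * (n : G) * s⁻¹ * (n : G)⁻¹ ∈ (P : Subgroup G) ⊓ K := by
      refine ⟨?_, K.mul_mem (Subgroup.Normal.conj_mem inferInstance _ hnK s) (K.inv_mem hnK)⟩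
      rw [show s * (n : G) * s⁻¹ * (n : G)⁻¹ = s * ((n : G) * s⁻¹ * (n : G)⁻¹) by group]
      exact mul_mem hs ((Subgroup.mem_normalizer_iff.1 n.2 _).1 (inv_mem hs))
    rw [hbot, Subgroup.mem_bot, mul_inv_eq_one, mul_inv_eq_iff_eq_mul] at h1
    exact h1
  let Φ : CN → CG := fun c => ⟨ConjClasses.map N.subtype c.1, fun g hg => by
    obtain ⟨n, hn⟩ := ConjClasses.mk_surjective c.1
    rw [← hn] at hg
    obtain ⟨d, hd⟩ := isConj_iff.1 (ConjClasses.mk_eq_mk_iff_isConj.1 hg)
    obtain ⟨e, he⟩ := isConj_iff.1 (N.subtype.map_isConj (c.2 n hn))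
    change d * g * d⁻¹ = (n : G) at hd
    rw [map_inv] at he
    change e * (n : G) * e⁻¹ = (n : G)⁻¹ at he
    refine isConj_iff.2 ⟨d⁻¹ * e * d, ?_⟩
    calc d⁻¹ * e * d * g * (d⁻¹ * e * d)⁻¹ = d⁻¹ * (e * (d * g * d⁻¹) * e⁻¹) * d := by group
      _ = d⁻¹ * (n : G)⁻¹ * d := by rw [hd, he]
      _ = g⁻¹ := by rw [← hd]; group⟩
  have hinj : Function.Injective Φ := by
    intro a b hab
    obtain ⟨m, hm⟩ := ConjClasses.mk_surjective a.1
    obtain ⟨n, hn⟩ := ConjClasses.mk_surjective b.1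
    refine Subtype.ext ?_
    rw [← hm, ← hn, ConjClasses.mk_eq_mk_iff_isConj]
    have h0 : ConjClasses.map N.subtype a.1 = ConjClasses.map N.subtype b.1 :=
      congrArg Subtype.val hab
    rw [← hm, ← hn] at h0
    obtain ⟨g, hg⟩ := isConj_iff.1 (ConjClasses.mk_eq_mk_iff_isConj.1 h0)
    change g * (m : G) * g⁻¹ = (n : G) at hg
    have hm' := hcent m (a.2 m hm)
    have hn' := hcent n (b.2 n hn)
    let T : Subgroup G := Subgroup.centralizer {(n : G)}
    have hPT : (P : Subgroup G) ≤ T := fun s hs =>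
      Subgroup.mem_centralizer_singleton_iff.2 (hn' s hs)
    obtain ⟨t, ht, htn⟩ := Lib.Chars82.RealPrimeCorr.exists_mul_mem_nor P T hPT g⁻¹ fun s hs => by
      rw [inv_inv]
      refine Subgroup.mem_centralizer_singleton_iff.2 ?_
      rw [← hg]
      calc g * s * g⁻¹ * (g * (m : G) * g⁻¹) = g * (s * (m : G)) * g⁻¹ := by group
        _ = _ := by rw [hm' s hs]; group
    refine isConj_iff.2 ⟨⟨(g⁻¹ * t)⁻¹, N.inv_mem htn⟩, Subtype.ext ?_⟩
    show (g⁻¹ * t)⁻¹ * (m : G) * (g⁻¹ * t)⁻¹⁻¹ = n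
    have htc := Subgroup.mem_centralizer_singleton_iff.1 ht
    calc (g⁻¹ * t)⁻¹ * (m : G) * (g⁻¹ * t)⁻¹⁻¹ = t⁻¹ * (g * (m : G) * g⁻¹) * t := by group
      _ = t⁻¹ * ((n : G) * t) := by rw [hg, mul_assoc]
      _ = n := by rw [← htc]; group
  have hbij := (Nat.bijective_iff_injective_and_card Φ).2
    ⟨hinj, le_antisymm (Nat.card_le_card_of_injective Φ hinj) hcard⟩
  let cx : CG := ⟨ConjClasses.mk x, fun g hg => by
    obtain ⟨d, hd⟩ := isConj_iff.1 (ConjClasses.mk_eq_mk_iff_isConj.1 hg)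
    obtain ⟨e, he⟩ := isConj_iff.1 hx
    refine isConj_iff.2 ⟨d⁻¹ * e * d, ?_⟩
    calc d⁻¹ * e * d * g * (d⁻¹ * e * d)⁻¹ = d⁻¹ * (e * (d * g * d⁻¹) * e⁻¹) * d := by group
      _ = d⁻¹ * x⁻¹ * d := by rw [hd, he]
      _ = g⁻¹ := by rw [← hd]; group⟩
  obtain ⟨c, hc⟩ := hbij.2 cx
  obtain ⟨n, hn⟩ := ConjClasses.mk_surjective c.1
  have h0 : ConjClasses.map N.subtype c.1 = ConjClasses.mk x := congrArg Subtype.val hc
  rw [← hn] at h0
  exact ⟨(n : G), n.2, (ConjClasses.mk_eq_mk_iff_isConj.1 h0).symm⟩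


/-- Let p be a prime and G a finite group such that the subgroup generated by the p-elements of G is solvable and every real-valued irreducible complex character of G has degree prime to p. Then the normalizer of a Sylow p-subgroup of G contains an element of every real conjugacy class of G: every element conjugate to its inverse is conjugate to an element of that normalizer. -/
theorem result {G : Type*} [Group G] [Finite G] (p : ℕ) [Fact p.Prime] (hsolv : Group.IsSolvable ↥(Subgroup.closure {g : G | ∃ k : ℕ, orderOf g = p ^ k})) (hreal : ∀ χ : Cfsg.IrrCharacter G, (∀ g : G, ((χ : G → ℂ) g).im = 0) → ¬ p ∣ Cfsg.charDegree (χ : G → ℂ)) (P : Sylow p G) (x : G) (hx : IsConj x x⁻¹) : ∃ y ∈ Subgroup.normalizer ((P : Subgroup G) : Set G), IsConj x y := by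
  classical
  letI : Fact (Nat.Prime 2) := ⟨Nat.prime_two⟩
  have hr : RealPPrime p G := fun χ hχ => hreal χ hχ
  set K := pGen 2 G with hK
  have hnQ := S4865.normal_subgroupOf hsolv hr P
  set QK := (P : Subgroup G).subgroupOf K with hQK
  haveI : QK.Normal := hnQ
  have hQp : ¬ p ∣ QK.index := fun h => P.not_dvd_index
    (h.trans (Lib.Chars82.CrossDegrees.relIndex_dvd_index (P : Subgroup G) K))
  let S : Sylow p K := P.2.comap_subtype.toSylow hQp
  haveI hSn : (S : Subgroup K).Normal := hnQ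
  haveI := S.characteristic_of_normal hSn
  haveI := Lib.Cores.normal_map_subtype K (S : Subgroup K)
  set Q := (S : Subgroup K).map K.subtype with hQ
  have hQP : Q ≤ (P : Subgroup G) := (S.2.map _).le_sylow_of_normal P
  let f := QuotientGroup.mk' Q
  have hf : Function.Surjective f := QuotientGroup.mk'_surjective Q
  haveI : (K.map f).Normal := Subgroup.Normal.map inferInstance f hf
  have hodd : Odd (K.map f).index :=
    (odd_index_pGen_two G).of_dvd_nat (Subgroup.index_map_dvd K hf)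
  have hp : ¬ p ∣ Nat.card (K.map f) := by
    rw [← Subgroup.relIndex_ker, QuotientGroup.ker_mk']
    have e : Q.relIndex K = (S : Subgroup K).index := by
      rw [Subgroup.relIndex, Subgroup.subgroupOf, hQ,
        Subgroup.comap_map_eq_self_of_injective K.subtype_injective]
    rw [e]
    exact S.not_dvd_index
  obtain ⟨y, hy, hxy⟩ := exists_conj_mem (hr.of_surjective f hf) (K.map f) hodd hp
    (P.mapSurjective hf) (x := f x) (by rw [← map_inv]; exact f.map_isConj hx)
  obtain ⟨d, hd⟩ := isConj_iff.1 hxy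
  obtain ⟨g, rfl⟩ := hf d
  refine ⟨g * x * g⁻¹, ?_, isConj_iff.2 ⟨g, rfl⟩⟩
  set z := g * x * g⁻¹ with hz
  have hzy : f z = y := by rw [hz, map_mul, map_mul, map_inv, hd]
  rw [← hzy] at hy
  refine Sylow.smul_eq_iff_mem_normalizer.1 (Sylow.ext (Subgroup.eq_of_le_of_card_ge ?_ ?_))
  · rw [Sylow.coe_subgroup_smul]
    rintro _ ⟨s, hs, rfl⟩
    have h1 := (Subgroup.mem_normalizer_iff.1 hy (f s)).1
      (by rw [Sylow.coe_mapSurjective]; exact Subgroup.mem_map_of_mem f hs)
    rw [← map_inv, ← map_mul, ← map_mul, Sylow.coe_mapSurjective] at h1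
    obtain ⟨s', hs', e⟩ := h1
    have h2 : s'⁻¹ * (z * s * z⁻¹) ∈ Q := QuotientGroup.eq.1 e
    show z * s * z⁻¹ ∈ (P : Subgroup G)
    have h3 := mul_mem hs' (hQP h2)
    rwa [mul_inv_cancel_left] at h3
  · rw [(z • P).card_eq_multiplicity, P.card_eq_multiplicity]

end Cfsg.Agent.S4864
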