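import Cfsg.Statements.S4871
import Cfsg.Agent.Lib.Chars82.StableExtension
import Cfsg.Agent.Lib.Clifford.Linear

set_option autoImplicit false
open Cfsg

namespace Cfsg.Agent.S4871

/-- Let G be a finite group that is the semidirect product of a normal elementary abelian subgroup N of odd order by a non-trivial 2-subgroup P, with N the unique minimal normal subgroup of G. Consider the strongly real irreducible complex characters of G (Frobenius–Schur indicator +1) whose degree is 1 or even. Then their average degree is at least 4/3: four times their number is at most three times the sum of their degrees. -/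
theorem result {G : Type*} [Group G] [Finite G] (N P : Subgroup G) (hN : N.Normal) (q : ℕ) [Fact q.Prime] (hq : q ≠ 2) (hNel : Cfsg.IsElementaryAbelian q N) (hP : IsPGroup 2 ↥P) (hP1 : P ≠ ⊥) (hdisj : N ⊓ P = ⊥) (hprod : N ⊔ P = ⊤) (hmin : N ≠ ⊥ ∧ ∀ M : Subgroup G, M.Normal → M ≠ ⊥ → N ≤ M) : 4 * Nat.card {χ : Cfsg.IrrCharacter G // (Cfsg.charDegree (χ : G → ℂ) = 1 ∨ 2 ∣ Cfsg.charDegree (χ : G → ℂ)) ∧ (Nat.card G : ℂ)⁻¹ * ∑ᶠ g : G, (χ : G → ℂ) (g * g) = 1} ≤ 3 * (∑ᶠ χ : {χ : Cfsg.IrrCharacter G // (Cfsg.charDegree (χ : G → ℂ) = 1 ∨ 2 ∣ Cfsg.charDegree (χ : G → ℂ)) ∧ (Nat.card G : ℂ)⁻¹ * ∑ᶠ g : G, (χ : G → ℂ) (g * g) = 1}, Cfsg.charDegree (χ.1 : G → ℂ)) := by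
  classical
  have := Fintype.ofFinite G
  have := Fintype.ofFinite N
  have := Fintype.ofFinite (Cfsg.IrrCharacter G)
  haveI := hN
  have hNc : ∀ a b : N, a * b = b * a := fun a b => hNel.1.1.comm a b
  have hcompl : ∀ g : G, ∃ n ∈ N, ∃ h ∈ P, n * h = g := fun g => by
    have hg : g ∈ ((N ⊔ P : Subgroup G) : Set G) := by rw [hprod]; exact Subgroup.mem_top g
    rw [Subgroup.normal_mul] at hg
    exact hg
  -- a central involution of the complement
  obtain ⟨z, hzP, hzc, hz2, hz1⟩ : ∃ z : G, z ∈ P ∧ (∀ h ∈ P, h * z = z * h) ∧ z * z = 1 ∧ z ≠ 1 := by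
    have : Nontrivial P := (Subgroup.nontrivial_iff_ne_bot P).mpr hP1
    have hne : Nontrivial (Subgroup.center P) := hP.center_nontrivial
    obtain ⟨k, hk⟩ := (hP.to_subgroup (Subgroup.center P)).exists_card_eq
    have h2 : 2 ∣ Nat.card (Subgroup.center P) := by
      rw [hk]
      refine dvd_pow_self 2 fun h0 => ?_
      rw [h0, pow_zero] at hk
      exact Finite.one_lt_card.ne' hk
    obtain ⟨t, ht⟩ := exists_prime_orderOf_dvd_card' 2 h2
    refine ⟨(t.1 : G), t.1.2, fun h hh => ?_, ?_, ?_⟩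
    · exact congrArg Subtype.val (Subgroup.mem_center_iff.mp t.2 ⟨h, hh⟩)
    · have h1 : t * t = 1 := by rw [← pow_two, ← ht, pow_orderOf_eq_one]
      exact congrArg (fun u : Subgroup.center P => ((u : P) : G)) h1
    · intro h1
      have : t = 1 := Subtype.ext (Subtype.ext h1)
      rw [this, orderOf_one] at ht
      omega
  have hzinv : z⁻¹ = z := inv_eq_of_mul_eq_one_right hz2
  -- `z` inverts `N`
  have hinvert : ∀ n : N, z * (n : G) * z⁻¹ = (n : G)⁻¹ := by
    let C : Subgroup G := N ⊓ Subgroup.centralizer ({z} : Set G)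
    have hCn : C.Normal := ⟨fun c hc g => by
      obtain ⟨n, hn, h, hh, rfl⟩ := hcompl g
      have hd : h * c * h⁻¹ ∈ C := by
        refine ⟨hN.conj_mem c hc.1 h, Subgroup.mem_centralizer_singleton_iff.mpr ?_⟩
        have h2 := Subgroup.mem_centralizer_singleton_iff.mp hc.2
        have h3 : h⁻¹ * z = z * h⁻¹ := hzc _ (inv_mem hh)
        calc h * c * h⁻¹ * z = h * c * (h⁻¹ * z) := by group
          _ = h * (c * z) * h⁻¹ := by rw [h3]; group
          _ = h * z * c * h⁻¹ := by rw [h2]; group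
          _ = z * (h * c * h⁻¹) := by rw [hzc h hh]; group
      have he : n * h * c * (n * h)⁻¹ = h * c * h⁻¹ := by
        have hc2 := congrArg Subtype.val (hNc ⟨n, hn⟩ ⟨_, hd.1⟩)
        simp only [Subgroup.coe_mul] at hc2
        calc n * h * c * (n * h)⁻¹ = n * (h * c * h⁻¹) * n⁻¹ := by group
          _ = h * c * h⁻¹ := by rw [hc2]; group
      rw [he]
      exact hd⟩
    have hC : C = ⊥ := by
      by_contra hne
      have hNC : N ≤ C := hmin.2 C hCn hne
      have hzn : (Subgroup.zpowers z).Normal := ⟨fun c hc g => by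
        obtain ⟨i, rfl⟩ := Subgroup.mem_zpowers_iff.mp hc
        obtain ⟨n, hn, h, hh, rfl⟩ := hcompl g
        have hcomm : Commute (n * h) z :=
          Commute.mul_left (Subgroup.mem_centralizer_singleton_iff.mp (hNC hn).2) (hzc h hh)
        rw [(hcomm.zpow_right i).eq, mul_inv_cancel_right]
        exact ⟨i, rfl⟩⟩
      have hN_le := hmin.2 _ hzn (by rw [ne_eq, Subgroup.zpowers_eq_bot]; exact hz1)
      refine hmin.1 (le_bot_iff.mp ?_)
      rw [← hdisj]
      exact le_inf le_rfl (hN_le.trans (Subgroup.zpowers_le.mpr hzP))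
    intro n
    have hm : z * (n : G) * z⁻¹ ∈ N := hN.conj_mem _ n.2 z
    have hc2 := congrArg Subtype.val (hNc n ⟨_, hm⟩)
    simp only [Subgroup.coe_mul] at hc2
    have hmemC : (n : G) * (z * n * z⁻¹) ∈ C := by
      refine ⟨mul_mem n.2 hm, Subgroup.mem_centralizer_singleton_iff.mpr ?_⟩
      calc (n : G) * (z * n * z⁻¹) * z = z * n * z⁻¹ * n * z := by rw [hc2]
        _ = z * (n * (z * n * z⁻¹)) := by rw [hzinv]; group
    rw [hC, Subgroup.mem_bot] at hmemC
    exact eq_inv_of_mul_eq_one_right hmemC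
  -- a non-trivial linear character of `N`
  obtain ⟨lam, hlam⟩ : ∃ lam : N →* ℂˣ, lam ≠ 1 := by
    have : Nontrivial N := (Subgroup.nontrivial_iff_ne_bot N).mpr hmin.1
    obtain ⟨a, ha⟩ := exists_ne (1 : N)
    have hC : IsMulCommutative N := hNel.1
    obtain ⟨φ, hφ⟩ := CommGroup.exists_apply_ne_one_of_hasEnoughRootsOfUnity (Abelianization N) ℂ
      (a := Abelianization.of a) (fun h => ha (by
        have h2 : a ∈ commutator N := (QuotientGroup.eq_one_iff _).mp h
        have : commutator N = ⊥ := by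
          rw [commutator_eq_bot_iff_center_eq_top, Subgroup.eq_top_iff']
          exact fun x => Subgroup.mem_center_iff.mpr fun y => hNc y x
        rw [this] at h2
        exact Subgroup.mem_bot.mp h2))
    exact ⟨φ.comp Abelianization.of, fun h => hφ (DFunLike.congr_fun h a)⟩
  have hlq : ∀ n : N, lam n ^ q = 1 := fun n => by
    rw [← map_pow, show n ^ q = 1 from Subtype.ext (hNel.2 n n.2), map_one]
  have hodd : Odd q := (Fact.out : q.Prime).odd_of_ne_two hq
  have hsq : ∀ u : ℂˣ, u * u = 1 → u ^ q = 1 → u = 1 := fun u h2 h3 => by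
    obtain ⟨j, hj⟩ := hodd
    rw [hj, pow_succ, pow_mul, pow_two, h2, one_pow, one_mul] at h3
    exact h3
  have hker : ∀ (μ : G →* ℂˣ), ∀ n ∈ N, μ n = 1 := by
    intro μ n hn
    refine hsq _ ?_ (by rw [← map_pow, hNel.2 n hn, map_one])
    have h := congrArg μ (hinvert ⟨n, hn⟩)
    simp only [map_mul, map_inv, mul_comm (μ z) (μ n), mul_inv_cancel_right] at h
    exact mul_eq_one_iff_eq_inv.mpr h
  let φ : Cfsg.IrrCharacter N := Cfsg.Agent.Lib.Characters.Linear.linChar lam
  let I : Subgroup G := Cfsg.Agent.Lib.Clifford.Basic.inertia N (φ : N → ℂ)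
  have hNI : N ≤ I := Cfsg.Agent.Lib.Clifford.Basic.le_inertia N
    (Cfsg.Agent.Lib.Characters.Basic.isClassFunction_irr φ)
  have := Fintype.ofFinite I
  have hmemI : ∀ g : G, g ∈ I ↔ ∀ n : N, lam ⟨g * n * g⁻¹, hN.conj_mem (n : G) n.2 g⟩ = lam n :=
    fun g => ⟨fun h n => Units.ext (congrFun h n), fun h => funext fun n => congrArg Units.val (h n)⟩
  have hzlam : ∀ n : N, lam ⟨z * n * z⁻¹, hN.conj_mem (n : G) n.2 z⟩ = (lam n)⁻¹ := fun n => by
    rw [← map_inv]
    exact congrArg lam (Subtype.ext (hinvert n))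
  have hzI : z ∉ I := by
    intro h
    refine hlam (MonoidHom.ext fun n => hsq _ ?_ (hlq n))
    have h2 := (hmemI z).mp h n
    rw [hzlam n] at h2
    exact mul_eq_one_iff_eq_inv.mpr h2.symm
  have hzconj : ∀ t ∈ I, z * t * z⁻¹ ∈ I := by
    intro t ht
    rw [hmemI]
    intro n
    have hm : z * (n : G) * z⁻¹ = (n : G)⁻¹ := hinvert n
    have h1 := hzlam ⟨t * (n : G)⁻¹ * t⁻¹, hN.conj_mem _ (inv_mem n.2) t⟩
    have h2 := (hmemI t).mp ht n⁻¹
    calc lam ⟨z * t * z⁻¹ * n * (z * t * z⁻¹)⁻¹, _⟩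
        = lam ⟨z * (t * (n : G)⁻¹ * t⁻¹) * z⁻¹,
            hN.conj_mem _ (hN.conj_mem _ (inv_mem n.2) t) z⟩ := by
          refine congrArg lam (Subtype.ext ?_)
          show z * t * z⁻¹ * n * (z * t * z⁻¹)⁻¹ = z * (t * (n : G)⁻¹ * t⁻¹) * z⁻¹
          rw [← hm, hzinv]
          simp only [mul_inv_rev, hzinv, mul_assoc]
      _ = (lam ⟨t * (n : G)⁻¹ * t⁻¹, _⟩)⁻¹ := h1
      _ = (lam n⁻¹)⁻¹ := by rw [show lam ⟨t * (n : G)⁻¹ * t⁻¹, hN.conj_mem _ (inv_mem n.2) t⟩ = lam n⁻¹ from h2]
      _ = lam n := by rw [map_inv, inv_inv]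
  -- the canonical extension
  let N' : Subgroup I := N.subgroupOf I
  haveI : N'.Normal := hN.subgroupOf I
  let eN : N' ≃* N := Subgroup.subgroupOfEquivOfLe hNI
  let lam' : N' →* ℂˣ := lam.comp eN.toMonoidHom
  have hNidx : ∃ a : ℕ, N.index = 2 ^ a := by
    obtain ⟨a, ha⟩ := hP.exists_card_eq
    have hc : N.IsComplement' P := Subgroup.isComplement'_of_disjoint_and_mul_eq_univ
      (disjoint_iff.mpr hdisj) (by rw [← Subgroup.normal_mul, hprod]; rfl)
    exact ⟨a, hc.symm.index_eq_card.trans ha⟩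
  obtain ⟨a, ha⟩ := hNidx
  have hlamord : orderOf lam' ∣ q := orderOf_dvd_of_pow_eq_one (MonoidHom.ext fun x => hlq (eN x))
  have h2q : Nat.Coprime (2 ^ a) q := Nat.Coprime.pow_left a (Nat.coprime_two_left.mpr hodd)
  have hrel : N'.index ∣ 2 ^ a := by
    rw [← ha]
    exact Subgroup.relIndex_dvd_index_of_normal N I
  have hcop : Nat.Coprime N'.index q := h2q.coprime_dvd_left hrel
  obtain ⟨μ, hμN, hμord⟩ := Cfsg.Agent.Lib.Clifford.Linear.exists_coprime_extension N' lam'
    (fun t x => (hmemI (t : G)).mp t.2 (eN x)) (hcop.coprime_dvd_right hlamord)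
  let μz : I →* ℂˣ :=
    { toFun := fun t => μ ⟨z * t * z⁻¹, hzconj t t.2⟩
      map_one' := by
        rw [show (⟨z * ((1 : I) : G) * z⁻¹, hzconj _ (1 : I).2⟩ : I) = 1 from Subtype.ext (by simp)]
        exact map_one μ
      map_mul' := fun s t => by
        rw [← map_mul]
        exact congrArg μ (Subtype.ext (by simp only [Subgroup.coe_mul]; group)) }
  have hμz : ∀ t : I, μ ⟨z * t * z⁻¹, hzconj t t.2⟩ = (μ t)⁻¹ := by
    have h : μz = μ⁻¹ := by
      refine Cfsg.Agent.Lib.Clifford.Linear.extension_unique N' (fun x => ?_) ?_ ?_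
      · show μ ⟨z * (x : I) * z⁻¹, _⟩ = (μ (x : I))⁻¹
        rw [hμN x]
        show _ = (lam (eN x))⁻¹
        rw [← hzlam (eN x)]
        have hmem : (⟨z * ((x : I) : G) * z⁻¹, hzconj _ (x : I).2⟩ : I) ∈ N' :=
          hN.conj_mem _ x.2 z
        exact hμN ⟨_, hmem⟩
      · refine hcop.coprime_dvd_right (orderOf_dvd_of_pow_eq_one (MonoidHom.ext fun t => ?_))
        show μ _ ^ q = 1
        have := orderOf_dvd_iff_pow_eq_one.mp (hμord ▸ hlamord)
        exact DFunLike.congr_fun this _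
      · refine hcop.coprime_dvd_right (orderOf_dvd_of_pow_eq_one (MonoidHom.ext fun t => ?_))
        show (μ t)⁻¹ ^ q = 1
        have h4 : μ t ^ q = 1 := DFunLike.congr_fun (orderOf_dvd_iff_pow_eq_one.mp (hμord ▸ hlamord)) t
        rw [inv_pow, h4, inv_one]
    exact fun t => DFunLike.congr_fun h t
  let ψ : Cfsg.IrrCharacter I := Cfsg.Agent.Lib.Characters.Linear.linChar μ
  have hψres : ∀ n : N, (ψ : I → ℂ) (Subgroup.inclusion hNI n) = (φ : N → ℂ) n := fun n => by
    show (μ _ : ℂ) = (lam n : ℂ)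
    exact congrArg Units.val (hμN ⟨Subgroup.inclusion hNI n, n.2⟩)
  -- the indicator of the induced character is `1`
  have hνind : Cfsg.Agent.Lib.Chars82.RealChars.nu (Cfsg.indFun I (ψ : I → ℂ)) = 1 := by
    rw [Cfsg.Agent.Lib.Chars82.StableExtension.nu_indFun]
    set F : G → ℂ := fun s => Cfsg.extendByZero I (ψ : I → ℂ) (s * s) with hF
    show _ * ∑ s : G, F s = 1
    have hcoset : ∀ s : G, ∑ n : N, F ((n : G) * s) =
        if z * s ∈ I then (Nat.card N : ℂ) else 0 := by
      intro s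
      have hprod' : ∀ n : N, (n : G) * s * ((n : G) * s) =
          (n : G) * (s * (n : G) * s⁻¹) * (s * s) := fun n => by group
      by_cases h2 : s * s ∈ I
      · let ν : N →* ℂˣ :=
          lam * lam.comp (MulAut.conjNormal s : N ≃* N).toMonoidHom
        have hterm : ∀ n : N, F ((n : G) * s) = (ν n : ℂ) * (μ ⟨s * s, h2⟩ : ℂ) := by
          intro n
          have hmem : (n : G) * (s * (n : G) * s⁻¹) ∈ N := mul_mem n.2 (hN.conj_mem _ n.2 s)
          simp only [hF, hprod']
          rw [Cfsg.Agent.Lib.Induced.Basic.extendByZero_of_mem I _ (mul_mem (hNI hmem) h2)]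
          show (μ _ : ℂ) = _
          rw [← Units.val_mul]
          refine congrArg Units.val ?_
          rw [show (⟨_, mul_mem (hNI hmem) h2⟩ : I) = ⟨_, hNI hmem⟩ * ⟨s * s, h2⟩ from Subtype.ext rfl,
            map_mul]
          congr 1
          rw [show μ ⟨_, hNI hmem⟩ = lam ⟨_, hmem⟩ from hμN ⟨⟨_, hNI hmem⟩, hmem⟩]
          show _ = lam n * lam (MulAut.conjNormal s n)
          rw [← map_mul]
          exact congrArg lam (Subtype.ext (by simp [MulAut.conjNormal_apply]))
        rw [Finset.sum_congr rfl fun n _ => hterm n, ← Finset.sum_mul]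
        have hiff : z * s ∈ I ↔ ν = 1 := by
          rw [hmemI, MonoidHom.ext_iff]
          refine forall_congr' fun n => ?_
          show _ ↔ lam n * lam (MulAut.conjNormal s n) = 1
          have hz' : lam ⟨z * s * n * (z * s)⁻¹, hN.conj_mem (n : G) n.2 (z * s)⟩ =
              (lam (MulAut.conjNormal s n))⁻¹ := by
            rw [← hzlam]
            refine congrArg lam (Subtype.ext ?_)
            simp only [MulAut.conjNormal_apply]
            group
          rw [hz', inv_eq_iff_mul_eq_one, mul_comm]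
        by_cases hν : ν = 1
        · rw [if_pos (hiff.mpr hν)]
          have hmu : μ ⟨s * s, h2⟩ = 1 := by
            have ht : z * s ∈ I := hiff.mpr hν
            rw [show (⟨s * s, h2⟩ : I) = ⟨z * (z * s) * z⁻¹, hzconj _ ht⟩ * ⟨z * s, ht⟩ from Subtype.ext (by
              show s * s = z * (z * s) * z⁻¹ * (z * s)
              calc s * s = (z * z) * s * s := by rw [hz2, one_mul]
                _ = _ := by group),
              map_mul, hμz ⟨z * s, ht⟩, inv_mul_cancel]
          have hone : ∀ n, ν n = 1 := fun n => DFunLike.congr_fun hν n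
          rw [Finset.sum_congr rfl fun n _ => by rw [hone n, Units.val_one], hmu, Units.val_one,
            mul_one, Finset.sum_const, Finset.card_univ, nsmul_eq_mul, mul_one, Fintype.card_eq_nat_card]
        · rw [if_neg fun h => hν (hiff.mp h)]
          have : (Units.coeHom ℂ).comp ν ≠ 1 := fun h => hν (MonoidHom.ext fun n =>
            Units.ext (DFunLike.congr_fun h n))
          rw [show ∑ n : N, (ν n : ℂ) = 0 from sum_hom_units_eq_zero ((Units.coeHom ℂ).comp ν) this,
            zero_mul]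
      · rw [if_neg, Finset.sum_eq_zero]
        · intro n _
          simp only [hF, hprod']
          refine Cfsg.Agent.Lib.Induced.Basic.extendByZero_of_not_mem I _ fun h => h2 ?_
          exact (I.mul_mem_cancel_left (I.mul_mem (hNI n.2) (hNI (hN.conj_mem _ n.2 s)))).mp h
        · intro hts
          apply h2
          have h3 := I.mul_mem (hzconj _ hts) hts
          have e : z * (z * s) * z⁻¹ * (z * s) = s * s := by
            calc z * (z * s) * z⁻¹ * (z * s) = (z * z) * s * s := by group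
              _ = s * s := by rw [hz2, one_mul]
          rwa [e] at h3
    have htot : (Nat.card N : ℂ) * ∑ s : G, F s = (Nat.card N : ℂ) * Nat.card I := by
      have h1 : ∑ s : G, ∑ n : N, F ((n : G) * s) = (Nat.card N : ℂ) * ∑ s : G, F s := by
        have h2 : ∀ n : N, ∑ s : G, F ((n : G) * s) = ∑ s : G, F s := fun n =>
          Fintype.sum_equiv (Equiv.mulLeft (n : G)) _ _ fun s => rfl
        rw [Finset.sum_comm, Finset.sum_congr rfl fun n _ => h2 n, Finset.sum_const, Finset.card_univ,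
          nsmul_eq_mul, Fintype.card_eq_nat_card]
      rw [← h1, Finset.sum_congr rfl fun s _ => hcoset s, Finset.sum_ite, Finset.sum_const_zero,
        add_zero, Finset.sum_const, nsmul_eq_mul, mul_comm]
      congr 2
      rw [← Fintype.card_subtype, ← Nat.card_eq_fintype_card]
      exact Nat.card_congr
        { toFun := fun s => ⟨z * s.1, s.2⟩
          invFun := fun t => ⟨z * t.1, by rw [← mul_assoc, hz2, one_mul]; exact t.2⟩
          left_inv := fun s => Subtype.ext (by show z * (z * s.1) = s.1; rw [← mul_assoc, hz2, one_mul])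
          right_inv := fun t => Subtype.ext (by show z * (z * t.1) = t.1; rw [← mul_assoc, hz2, one_mul]) }
    rw [mul_left_cancel₀ Cfsg.Agent.Lib.Induced.Basic.natCard_ne_zero htot,
      inv_mul_cancel₀ Cfsg.Agent.Lib.Induced.Basic.natCard_ne_zero]
  -- counting
  have hieven : 2 ∣ I.index := by
    have hdvd : I.index ∣ 2 ^ a := by rw [← ha]; exact Subgroup.index_dvd_of_le hNI
    obtain ⟨i, -, hi⟩ := (Nat.dvd_prime_pow Nat.prime_two).mp hdvd
    rw [hi]
    refine dvd_pow_self 2 fun h0 => hzI ?_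
    rw [h0, pow_zero, Subgroup.index_eq_one] at hi
    rw [hi]
    exact Subgroup.mem_top z
  set good : Cfsg.IrrCharacter G → Prop := fun χ =>
    (Cfsg.charDegree (χ : G → ℂ) = 1 ∨ 2 ∣ Cfsg.charDegree (χ : G → ℂ)) ∧
      (Nat.card G : ℂ)⁻¹ * ∑ᶠ g : G, (χ : G → ℂ) (g * g) = 1 with hgood
  have hle := Cfsg.Agent.Lib.Chars82.StableExtension.card_linear_le N (I := I) (hNI := hNI) rfl ψ hψres hker
    (fun χ => Cfsg.charDegree (χ : G → ℂ) = 1 ∧ Cfsg.Agent.Lib.Chars82.RealChars.nu (χ : G → ℂ) = 1)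
    (fun χ => Cfsg.charDegree (χ : G → ℂ) = I.index ∧ Cfsg.Agent.Lib.Chars82.RealChars.nu (χ : G → ℂ) = 1)
    (fun χ hχ => by rw [Cfsg.Agent.Lib.Blocks.char_one_eq_degree, hχ.1, Nat.cast_one])
    (fun χ ξ hχ hξ hdeg => ⟨by
      have hφ1 : (φ : N → ℂ) 1 = 1 := by simp [φ, Cfsg.Agent.Lib.Characters.Linear.linChar_apply]
      rw [Cfsg.Agent.Lib.Blocks.char_one_eq_degree, hφ1, one_mul, Nat.cast_inj] at hdeg
      exact hdeg, by
      have h1 : (χ : G → ℂ) 1 = 1 := by
        rw [Cfsg.Agent.Lib.Blocks.char_one_eq_degree, hχ.1, Nat.cast_one]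
      have hr := Cfsg.Agent.Lib.Chars82.RealChars.real_of_nu_ne_zero (χ := χ) (by rw [hχ.2]; exact one_ne_zero)
      have hsq' : ∀ s : G, (χ : G → ℂ) (s * s) = 1 := by
        intro s
        rw [Cfsg.Agent.Lib.Characters.Linear.apply_mul_of_degree_one
          (Cfsg.Agent.Lib.Characters.Basic.isCharacter_irr χ) h1]
        conv_lhs => arg 2; rw [← Complex.conj_eq_iff_im.mpr (hr s)]
        rw [← Cfsg.Agent.Lib.Characters.Basic.apply_inv (Cfsg.Agent.Lib.Characters.Basic.isCharacter_irr χ),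
          ← Cfsg.Agent.Lib.Characters.Linear.apply_mul_of_degree_one
          (Cfsg.Agent.Lib.Characters.Basic.isCharacter_irr χ) h1, mul_inv_cancel, h1]
      rw [← hνind]
      simp only [Cfsg.Agent.Lib.Chars82.RealChars.nu]
      congr 1
      exact Finset.sum_congr rfl fun s _ => by rw [hξ, hsq', one_mul]⟩)
  obtain ⟨j, hj⟩ := hieven
  have hipos : 0 < I.index := Nat.pos_of_ne_zero Subgroup.index_ne_zero_of_finite
  rw [finsum_eq_sum_of_fintype, Nat.card_eq_fintype_card, Fintype.card_subtype]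
  refine le_of_le_of_eq (b := 3 * ∑ χ ∈ Finset.univ.filter good, Cfsg.charDegree (χ : G → ℂ)) ?_
    (congrArg (3 * ·) (Finset.sum_subtype (p := good) (Finset.univ.filter good) (fun x => by simp only [Finset.mem_filter, Finset.mem_univ, true_and])
      (fun χ : Cfsg.IrrCharacter G => Cfsg.charDegree (χ : G → ℂ))))
  set T := Finset.univ.filter good with hT
  rw [Nat.card_eq_fintype_card, Nat.card_eq_fintype_card, Fintype.card_subtype, Fintype.card_subtype] at hle
  set A := Finset.univ.filter (fun χ : Cfsg.IrrCharacter G => Cfsg.charDegree (χ : G → ℂ) = 1 ∧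
    Cfsg.Agent.Lib.Chars82.RealChars.nu (χ : G → ℂ) = 1) with hA
  set B := Finset.univ.filter (fun χ : Cfsg.IrrCharacter G => Cfsg.charDegree (χ : G → ℂ) = I.index ∧
    Cfsg.Agent.Lib.Chars82.RealChars.nu (χ : G → ℂ) = 1) with hB
  have hAT : T.filter (fun χ : Cfsg.IrrCharacter G => Cfsg.charDegree (χ : G → ℂ) = 1) = A := by
    ext χ
    simp only [hT, hA, hgood, Cfsg.Agent.Lib.Chars82.RealChars.nu_eq_finsum, Finset.mem_filter, Finset.mem_univ, true_and]
    exact ⟨fun h => ⟨h.2, h.1.2⟩, fun h => ⟨⟨Or.inl h.1, h.2⟩, h.1⟩⟩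
  set T2 := T.filter (fun χ : Cfsg.IrrCharacter G => ¬ Cfsg.charDegree (χ : G → ℂ) = 1) with hT2
  have hBT : B ⊆ T2 := by
    intro χ hχ
    simp only [hT, hT2, hB, hgood, Cfsg.Agent.Lib.Chars82.RealChars.nu_eq_finsum, Finset.mem_filter, Finset.mem_univ, true_and] at hχ ⊢
    exact ⟨⟨Or.inr (hχ.1 ▸ ⟨j, hj⟩), hχ.2⟩, by omega⟩
  have hsplit := Finset.sum_filter_add_sum_filter_not T (fun χ : Cfsg.IrrCharacter G => Cfsg.charDegree (χ : G → ℂ) = 1)
    (fun χ : Cfsg.IrrCharacter G => Cfsg.charDegree (χ : G → ℂ))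
  have hA1 : ∑ χ ∈ A, Cfsg.charDegree (χ : G → ℂ) = A.card := by
    rw [Finset.card_eq_sum_ones]
    exact Finset.sum_congr rfl fun χ hχ => (Finset.mem_filter.mp hχ).2.1
  rw [hAT, hA1, ← hT2] at hsplit
  have hcard : A.card + T2.card = T.card := by
    rw [← hAT, hT2]
    exact Finset.card_filter_add_card_filter_not _
  have hlow : ∀ χ ∈ T2, 4 + (if Cfsg.charDegree (χ : G → ℂ) = I.index then I.index else 0) ≤
      3 * Cfsg.charDegree (χ : G → ℂ) := by
    intro χ hχ
    obtain ⟨hg, hne⟩ := Finset.mem_filter.mp hχ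
    have hev := (Finset.mem_filter.mp hg).2.1.resolve_left hne
    obtain ⟨e, he⟩ := hev
    have hpos := Cfsg.Agent.Lib.Blocks.charDegree_pos χ
    split_ifs <;> omega
  have h1 : 4 * T2.card + I.index * B.card ≤ 3 * ∑ χ ∈ T2, Cfsg.charDegree (χ : G → ℂ) := by
    rw [Finset.mul_sum]
    refine le_trans ?_ (Finset.sum_le_sum hlow)
    rw [Finset.sum_add_distrib, Finset.sum_const, smul_eq_mul, mul_comm 4]
    refine Nat.add_le_add_left ?_ _
    refine le_trans ?_ (Finset.sum_le_sum_of_subset hBT)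
    rw [Finset.sum_congr rfl fun χ hχ => if_pos (Finset.mem_filter.mp hχ).2.1, Finset.sum_const,
      smul_eq_mul, mul_comm]
  omega

end Cfsg.Agent.S4871
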