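import Cfsg.Statements.S4872
import Cfsg.Agent.Lib.Chars82.FixedSpaceIndicator
import Cfsg.Agent.Lib.Clifford.Basic
import Cfsg.Agent.Lib.Brauer.DegreeRatio
import Cfsg.Agent.Lib.Characters.DefectZero
import Cfsg.Agent.Lib.Characters.Linear

set_option autoImplicit false
open Cfsg

namespace Cfsg.Agent.S4872

open Lib.Induced.Basic Lib.Characters.Basic Lib.Clifford.Basic

/-- Let N be a normal subgroup of the finite group G with G/N a 2-group, and let φ be an irreducible complex character of N of 2-defect zero (the 2-part of #N divides φ(1)) whose complex conjugate is G-conjugate to φ. Then some irreducible character of G with Frobenius–Schur indicator +1 contains φ with multiplicity exactly one on restriction to N. -/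
theorem result {G : Type*} [Group G] [Finite G] (N : Subgroup G) [N.Normal] (h2 : IsPGroup 2 (G ⧸ N)) (φ : Cfsg.IrrCharacter ↥N) (hdef : 2 ^ (Nat.card ↥N).factorization 2 ∣ Cfsg.charDegree (φ : ↥N → ℂ)) (hconj : ∃ g : G, ∀ n n' : ↥N, (n' : G) = g * (n : G) * g⁻¹ → (φ : ↥N → ℂ) n' = (starRingEnd ℂ) ((φ : ↥N → ℂ) n)) : ∃ χ : Cfsg.IrrCharacter G, (Nat.card G : ℂ)⁻¹ * ∑ᶠ g : G, (χ : G → ℂ) (g * g) = 1 ∧ (Nat.card ↥N : ℂ)⁻¹ * ∑ᶠ n : ↥N, (χ : G → ℂ) n * (starRingEnd ℂ) ((φ : ↥N → ℂ) n) = 1 := by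
  classical
  haveI : Fact (Nat.Prime 2) := ⟨Nat.prime_two⟩
  haveI := Fintype.ofFinite G
  haveI := Fintype.ofFinite N
  obtain ⟨P⟩ : Nonempty (Sylow 2 G) := inferInstance
  haveI := Fintype.ofFinite (P : Subgroup G)
  let S : Subgroup (P : Subgroup G) := N.subgroupOf P
  haveI := Fintype.ofFinite S
  -- `G = N P`
  have hsup : (P : Subgroup G) ⊔ N = ⊤ := by
    rw [← Subgroup.index_eq_one]
    obtain ⟨b, hb⟩ := IsPGroup.iff_card.mp h2
    have h1 : ((P : Subgroup G) ⊔ N).index ∣ (P : Subgroup G).index :=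
      Subgroup.index_dvd_of_le le_sup_left
    have h3 : ((P : Subgroup G) ⊔ N).index ∣ 2 ^ b := by
      rw [← hb, ← Subgroup.index_eq_card]
      exact Subgroup.index_dvd_of_le le_sup_right
    obtain ⟨i, -, hi⟩ := (Nat.dvd_prime_pow Nat.prime_two).1 h3
    rcases Nat.eq_zero_or_pos i with rfl | hi0
    · simpa using hi
    · exact absurd ((dvd_pow_self 2 hi0.ne').trans (hi ▸ h1)) P.not_dvd_index
  -- the order of `S`
  have hSN : Nat.card (P : Subgroup G) * Nat.card N = Nat.card G * Nat.card S := by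
    let f : (P : Subgroup G) →* G ⧸ N :=
      (QuotientGroup.mk' N).comp (P : Subgroup G).subtype
    have hf : Function.Surjective f := by
      intro q
      obtain ⟨g, rfl⟩ := QuotientGroup.mk'_surjective N q
      obtain ⟨a, ha, n, hn, rfl⟩ := Subgroup.mem_sup_of_normal_right.1
        (hsup ▸ Subgroup.mem_top g)
      refine ⟨⟨a, ha⟩, ?_⟩
      show ((a : G) : G ⧸ N) = ((a * n : G) : G ⧸ N)
      rw [QuotientGroup.mk_mul, (QuotientGroup.eq_one_iff n).2 hn, mul_one]
    have hk : f.ker = S := by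
      ext x
      exact QuotientGroup.eq_one_iff (x : G)
    have h1 := Nat.card_congr (QuotientGroup.quotientKerEquivOfSurjective f hf).toEquiv
    rw [← Subgroup.index_eq_card, hk] at h1
    rw [← S.index_mul_card, h1, N.card_eq_card_quotient_mul_card_subgroup]
    ring
  obtain ⟨v, hv⟩ : ∃ v, Nat.card S = 2 ^ v := IsPGroup.iff_card.mp (P.2.to_subgroup S)
  have hfac : (Nat.card N).factorization 2 = v := by
    have hPc : Nat.card (P : Subgroup G) = 2 ^ (Nat.card G).factorization 2 :=
      Sylow.card_eq_multiplicity P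
    have h1 := congrArg (fun n => Nat.factorization n 2) hSN
    simp only [Nat.factorization_mul Nat.card_pos.ne' Nat.card_pos.ne', Finsupp.add_apply] at h1
    rw [hPc, hv, Nat.prime_two.factorization_pow, Nat.prime_two.factorization_pow,
      Finsupp.single_eq_same, Finsupp.single_eq_same] at h1
    omega
  -- `φ` on `S`
  obtain ⟨d, -, hdN, hd⟩ := Lib.Characters.Degree.exists_degree_dvd φ
  have hd2 : 2 ^ v ∣ d := by
    have : Cfsg.charDegree (φ : N → ℂ) = d := by
      rw [Cfsg.charDegree, hd, Complex.natCast_re, Nat.floor_natCast]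
    rw [← this, ← hfac]
    exact hdef
  obtain ⟨r, hr⟩ := hd2
  have hNv : Nat.card N = 2 ^ v * (Nat.card N / 2 ^ v) := by
    rw [← hfac, Nat.ordProj_mul_ordCompl_eq_self]
  have hNodd : ¬ 2 ∣ Nat.card N / 2 ^ v := by
    rw [← hfac]
    exact Nat.not_dvd_ordCompl Nat.prime_two Nat.card_pos.ne'
  have hrodd : Odd r := by
    rw [← Nat.not_even_iff_odd, even_iff_two_dvd]
    intro hr2
    apply hNodd
    rw [hr, hNv] at hdN
    exact hr2.trans (Nat.dvd_of_mul_dvd_mul_left (pow_pos two_pos v) hdN)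
  have hsumS : ∑ x : S, (φ : N → ℂ) ⟨((x : (P : Subgroup G)) : G), x.2⟩ = (d : ℂ) := by
    rw [Finset.sum_eq_single (1 : S)]
    · exact hd
    · intro x _ hx
      refine Lib.Characters.DefectZero.apply_eq_zero Nat.prime_two φ hNv hNodd
        (e := r) (by rw [hd, hr]) ?_
      let y : N := ⟨((x : (P : Subgroup G)) : G), x.2⟩
      have hy : orderOf y = orderOf x := by
        rw [← Subgroup.orderOf_coe y, ← Subgroup.orderOf_coe x, ← Subgroup.orderOf_coe]
      show 2 ∣ orderOf y
      obtain ⟨k, hk⟩ := IsPGroup.iff_orderOf.mp (P.2.to_subgroup S) x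
      rcases Nat.eq_zero_or_pos k with rfl | hk0
      · rw [pow_zero, orderOf_eq_one_iff] at hk
        exact absurd hk hx
      · rw [hy, hk]
        exact dvd_pow_self 2 hk0.ne'
    · simp
  -- the induced character has odd multiplicity of the trivial character on `P`
  have hind : ∑ x : (P : Subgroup G), Cfsg.indFun N (φ : N → ℂ) (x : G) =
      (Nat.card (P : Subgroup G) : ℂ) * r := by
    let F : G → ℂ := fun g =>
      if h : g ∈ N then ∑ z : G, conjC N z (φ : N → ℂ) ⟨g, h⟩ else 0
    have hF : ∀ g, Cfsg.indFun N (φ : N → ℂ) g = (Nat.card N : ℂ)⁻¹ * F g := by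
      intro g
      by_cases h : g ∈ N
      · simp only [F, dif_pos h]
        exact indFun_apply_normal N (φ : N → ℂ) ⟨g, h⟩
      · simp only [F, dif_neg h, mul_zero]
        exact indFun_eq_zero_of_not_mem_normal N (φ : N → ℂ) h
    simp only [hF, ← Finset.mul_sum]
    have hFS : ∑ x : (P : Subgroup G), F x =
        ∑ x : S, ∑ z : G, conjC N z (φ : N → ℂ) ⟨((x : (P : Subgroup G)) : G), x.2⟩ := by
      rw [← Finset.sum_filter_add_sum_filter_not Finset.univ (fun x => x ∈ S)]
      have h0 : ∑ x ∈ Finset.univ.filter (fun x : (P : Subgroup G) => ¬ x ∈ S), F x = 0 :=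
        Finset.sum_eq_zero fun x hx => dif_neg (Finset.mem_filter.1 hx).2
      rw [h0, add_zero, Finset.sum_subtype (p := fun x => x ∈ S) _ (fun x => by simp)]
      exact Finset.sum_congr rfl fun x _ => dif_pos x.2
    rw [hFS, Finset.sum_comm]
    have hz : ∀ z : G,
        ∑ x : S, conjC N z (φ : N → ℂ) ⟨((x : (P : Subgroup G)) : G), x.2⟩ = (d : ℂ) := by
      intro z
      obtain ⟨n, hn, a, ha, rfl⟩ := Subgroup.mem_sup_of_normal_left.1
        ((sup_comm (P : Subgroup G) N ▸ hsup) ▸ Subgroup.mem_top z : z ∈ N ⊔ (P : Subgroup G))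
      rw [conjC_mul, conjC_of_mem N (isClassFunction_irr φ) hn, ← hsumS]
      refine Fintype.sum_equiv (MulAut.conjNormal (⟨a, ha⟩ : (P : Subgroup G))).toEquiv _ _
        fun x => ?_
      rw [conjC_apply]
      exact congrArg _ (Subtype.ext (by simp))
    rw [Finset.sum_congr rfl fun z _ => hz z, Finset.sum_const, Finset.card_univ, nsmul_eq_mul]
    have hN0 : (Nat.card N : ℂ) ≠ 0 := Nat.cast_ne_zero.mpr Nat.card_pos.ne'
    have h1 : (Nat.card (P : Subgroup G) : ℂ) * Nat.card N = Nat.card G * Nat.card S := by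
      exact_mod_cast hSN
    rw [hr, Fintype.card_eq_nat_card]
    rw [hv] at h1
    push_cast at h1 ⊢
    field_simp
    linear_combination (r : ℂ) * h1.symm
  -- expansion along irreducible characters
  haveI := Fintype.ofFinite (Cfsg.IrrCharacter G)
  choose m hm using fun χ : Cfsg.IrrCharacter G =>
    exists_classInner_nat (isCharacter_comp (P : Subgroup G).subtype (isCharacter_irr χ))
      isCharacter_one
  choose e he using fun χ : Cfsg.IrrCharacter G =>
    exists_classInner_nat (isCharacter_comp N.subtype (isCharacter_irr χ)) (isCharacter_irr φ)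
  have hm' : ∀ χ : Cfsg.IrrCharacter G,
      ∑ x : (P : Subgroup G), (χ : G → ℂ) x = (Nat.card (P : Subgroup G) : ℂ) * m χ := by
    intro χ
    rw [← hm χ, Cfsg.classInner, ← mul_assoc,
      mul_inv_cancel₀ (Nat.cast_ne_zero.mpr Nat.card_pos.ne'), one_mul]
    exact Finset.sum_congr rfl fun x _ => by simp
  have hcoef : ∀ χ : Cfsg.IrrCharacter G,
      Cfsg.classInner (Cfsg.indFun N (φ : N → ℂ)) (χ : G → ℂ) = e χ := by
    intro χ
    rw [frobenius_reciprocity N _ (isClassFunction_irr χ), ← classInner_conj_symm]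
    show (starRingEnd ℂ) (Cfsg.classInner ((χ : G → ℂ) ∘ N.subtype) (φ : N → ℂ)) = _
    rw [he, Complex.conj_natCast]
  have hsum : ∑ χ : Cfsg.IrrCharacter G, e χ * m χ = r := by
    have hexp : ∀ g, Cfsg.indFun N (φ : N → ℂ) g =
        ∑ χ : Cfsg.IrrCharacter G, (e χ : ℂ) * (χ : G → ℂ) g := by
      intro g
      conv_lhs => rw [Lib.Characters.Complete.classFunction_eq_sum
        (isClassFunction_indFun N (φ : N → ℂ))]
      rw [Finset.sum_apply]
      exact Finset.sum_congr rfl fun χ _ => by rw [Pi.smul_apply, smul_eq_mul, hcoef]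
    have h1 : (Nat.card (P : Subgroup G) : ℂ) * (∑ χ : Cfsg.IrrCharacter G, e χ * m χ : ℕ) =
        (Nat.card (P : Subgroup G) : ℂ) * r := by
      rw [← hind, Finset.sum_congr rfl fun (x : (P : Subgroup G)) _ => hexp x, Finset.sum_comm]
      push_cast
      rw [Finset.mul_sum]
      refine Finset.sum_congr rfl fun χ _ => ?_
      rw [← Finset.mul_sum, hm']
      ring
    exact_mod_cast mul_left_cancel₀ (Nat.cast_ne_zero.mpr Nat.card_pos.ne') h1
  -- complex conjugation preserves both multiplicities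
  obtain ⟨g₀, hg₀⟩ := hconj
  have hφbar : conjC N g₀ (φ : N → ℂ) = fun n => (starRingEnd ℂ) ((φ : N → ℂ) n) :=
    funext fun n => hg₀ n _ rfl
  have hec : ∀ χ, e (Lib.Characters.Linear.conjChar χ) = e χ := by
    intro χ
    have h1 : (e (Lib.Characters.Linear.conjChar χ) : ℂ) =
        (starRingEnd ℂ) (Cfsg.classInner (fun n : N => (χ : G → ℂ) n)
          (conjC N g₀ (φ : N → ℂ))) := by
      rw [← he, hφbar]
      simp only [Cfsg.classInner, map_mul, map_inv₀, map_natCast, map_sum, Complex.conj_conj]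
      rfl
    rw [classInner_restrict_conjC N (isClassFunction_irr χ)] at h1
    have h3 : Cfsg.classInner (fun n : N => (χ : G → ℂ) n) (φ : N → ℂ) = e χ := he χ
    rw [h3, Complex.conj_natCast] at h1
    exact_mod_cast h1
  have hmc : ∀ χ, m (Lib.Characters.Linear.conjChar χ) = m χ := by
    intro χ
    have h1 := hm' (Lib.Characters.Linear.conjChar χ)
    simp only [Lib.Characters.Linear.conjChar_apply] at h1
    rw [← map_sum, hm' χ, map_mul, Complex.conj_natCast, Complex.conj_natCast] at h1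
    exact_mod_cast (mul_left_cancel₀ (Nat.cast_ne_zero.mpr Nat.card_pos.ne') h1).symm
  -- a real character with both multiplicities odd
  obtain ⟨χ, hfixχ, hemodd⟩ : ∃ χ, Lib.Characters.Linear.conjChar χ = χ ∧ Odd (e χ * m χ) := by
    by_contra hcon
    push Not at hcon
    have h0 : (∑ χ : Cfsg.IrrCharacter G, ((e χ * m χ : ℕ) : ZMod 2)) = 0 := by
      refine Finset.sum_involution (fun χ _ => Lib.Characters.Linear.conjChar χ) ?_ ?_
        (fun χ _ => Finset.mem_univ _) (fun χ _ => Lib.Characters.Linear.conjChar_conjChar χ)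
      · intro χ _
        rw [hec, hmc]
        exact CharTwo.add_self_eq_zero _
      · intro χ _ hne hfix
        exact (hcon χ hfix) (ZMod.natCast_ne_zero_iff_odd.1 hne)
    rw [← Nat.cast_sum, hsum] at h0
    exact ZMod.natCast_ne_zero_iff_odd.2 hrodd h0
  have hreal : ∀ g, ((χ : G → ℂ) g).im = 0 := fun g =>
    Complex.conj_eq_iff_im.1 (congrFun (congrArg Subtype.val hfixχ) g)
  refine ⟨χ, ?_, ?_⟩
  · rw [finsum_eq_sum_of_fintype]
    refine Lib.Chars82.FixedSpaceIndicator.indicator_eq_one_of_odd_fixed χ hreal P (r := m χ) ?_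
      (Nat.odd_mul.1 hemodd).2
    rw [hm', ← mul_assoc, inv_mul_cancel₀ (Nat.cast_ne_zero.mpr Nat.card_pos.ne'), one_mul]
  · rw [finsum_eq_sum_of_fintype]
    show Cfsg.classInner ((χ : G → ℂ) ∘ N.subtype) (φ : N → ℂ) = 1
    have heodd := (Nat.odd_mul.1 hemodd).1
    have he0 : Cfsg.classInner (fun n : N => (χ : G → ℂ) n) (φ : N → ℂ) ≠ 0 := by
      have h3 : Cfsg.classInner (fun n : N => (χ : G → ℂ) n) (φ : N → ℂ) = e χ := he χ
      rw [h3]
      exact Nat.cast_ne_zero.mpr heodd.pos.ne'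
    obtain ⟨k, c, d', hc, hd', hck, hk⟩ := Lib.Brauer.DegreeRatio.ratio_dvd N χ.2 φ.2 he0
    have h4 := clifford_degree N χ.2 φ he0
    rw [hc, hd', show Cfsg.classInner (fun n : N => (χ : G → ℂ) n) (φ : N → ℂ) = e χ from he χ,
      hck] at h4
    have h5 : k * d' = e χ * (inertia N (φ : N → ℂ)).index * d' := by exact_mod_cast h4
    have hd'0 : 0 < d' := Nat.pos_of_ne_zero fun h => apply_one_ne_zero φ (by rw [hd', h]; simp)
    have h6 := Nat.eq_of_mul_eq_mul_right hd'0 h5
    obtain ⟨b, hb⟩ := IsPGroup.iff_card.mp h2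
    have h7 : e χ ∣ 2 ^ b := by
      rw [← hb, ← Subgroup.index_eq_card]
      exact (Dvd.intro _ h6.symm).trans hk
    obtain ⟨i, -, hi⟩ := (Nat.dvd_prime_pow Nat.prime_two).1 h7
    rcases Nat.eq_zero_or_pos i with rfl | hi0
    · rw [he, hi]; simp
    · exact absurd (even_iff_two_dvd.2 (hi ▸ dvd_pow_self 2 hi0.ne')) (Nat.not_even_iff_odd.2 heodd)

end Cfsg.Agent.S4872
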