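import Cfsg.Statements.S4873
import Cfsg.Agent.Lib.Chars82.RealChars

set_option autoImplicit false
open Cfsg

namespace Cfsg.Agent.S4873

/-- Let N be a normal subgroup of odd index in the finite group G. Then every irreducible complex character of N with Frobenius–Schur indicator +1 lies under exactly one irreducible character of G with Frobenius–Schur indicator +1. -/
theorem result {G : Type*} [Group G] [Finite G] (N : Subgroup G) [N.Normal] (hodd : Odd N.index) (φ : Cfsg.IrrCharacter ↥N) (hφ : (Nat.card ↥N : ℂ)⁻¹ * ∑ᶠ g : ↥N, (φ : ↥N → ℂ) (g * g) = 1) : ∃! χ : Cfsg.IrrCharacter G, (Nat.card G : ℂ)⁻¹ * ∑ᶠ g : G, (χ : G → ℂ) (g * g) = 1 ∧ (∑ᶠ n : ↥N, (χ : G → ℂ) n * (starRingEnd ℂ) ((φ : ↥N → ℂ) n)) ≠ 0 := by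
  classical
  have := Fintype.ofFinite G
  have := Fintype.ofFinite N
  simp only [← Cfsg.Agent.Lib.Chars82.RealChars.nu_eq_finsum] at hφ ⊢
  obtain ⟨χ, hreal, hne, heq, huniq⟩ := Cfsg.Agent.Lib.Chars82.RealChars.existsUnique_real_over N hodd φ
    (Cfsg.Agent.Lib.Chars82.RealChars.real_of_nu_ne_zero (by rw [hφ]; exact one_ne_zero))
  have hinner : ∀ ψ : Cfsg.IrrCharacter G,
      Cfsg.classInner (fun k : N => (ψ : G → ℂ) k) (φ : N → ℂ) =
      (Nat.card N : ℂ)⁻¹ * ∑ᶠ n : N, (ψ : G → ℂ) n * (starRingEnd ℂ) ((φ : N → ℂ) n) := by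
    intro ψ
    rw [Cfsg.classInner, finsum_eq_sum_of_fintype]
  obtain ⟨e, he⟩ := Cfsg.Agent.Lib.Characters.Basic.exists_classInner_nat
    (Cfsg.Agent.Lib.Characters.Basic.isCharacter_comp N.subtype
      (Cfsg.Agent.Lib.Characters.Basic.isCharacter_irr χ))
    (Cfsg.Agent.Lib.Characters.Basic.isCharacter_irr φ)
  have he' : Cfsg.classInner (fun k : N => (χ : G → ℂ) k) (φ : N → ℂ) = e := he
  refine ⟨χ, ⟨?_, fun h => hne (by rw [hinner, h, mul_zero])⟩, ?_⟩
  · rw [hφ, he'] at heq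
    rcases (Cfsg.Agent.Lib.Characters.Indicator.indicator_spec χ).1 hreal with h | h
    · exact h
    · have h' : Cfsg.Agent.Lib.Chars82.RealChars.nu (χ : G → ℂ) = -1 := h
      rw [h'] at heq
      have hz : -(e : ℤ) = 1 := by
        have : ((-(e : ℤ) : ℤ) : ℂ) = ((1 : ℤ) : ℂ) := by push_cast; linear_combination heq
        exact_mod_cast this
      omega
  · rintro χ' ⟨h1, h2⟩
    refine huniq χ' (Cfsg.Agent.Lib.Chars82.RealChars.real_of_nu_ne_zero (by rw [h1]; exact one_ne_zero)) ?_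
    rw [hinner]
    exact mul_ne_zero (inv_ne_zero Cfsg.Agent.Lib.Induced.Basic.natCard_ne_zero) h2

end Cfsg.Agent.S4873
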