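import Cfsg.Statements.S4878
import Cfsg.Agent.Lib.KGV46.OneClassP

set_option autoImplicit false
set_option linter.style.haveILetI false
open Cfsg

namespace Cfsg.Agent.S4878

open Cfsg.Agent.Lib Cfsg.Agent.Lib.KGV46 Cfsg.Agent.Lib.KGV46.PRegular

/-- Let p be a prime and G a finite p-solvable group of order divisible by p in which all non-identity p-elements are conjugate. Then G has at least p conjugacy classes of p-regular elements; or G has exactly p − 1 of them and is isomorphic to the one-dimensional affine group over the field with p elements; or p = 11, G has exactly 9 of them, G has order 121·120 and G is a Frobenius group whose complement is isomorphic to SL(2,5). -/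
theorem result {G : Type*} [Group G] [Finite G] (p : ℕ) [Fact p.Prime] (hsolv : Cfsg.IsPSolvable p G) (hdiv : p ∣ Nat.card G) (hconj : ∀ x y : G, x ≠ 1 → y ≠ 1 → (∃ k : ℕ, orderOf x = p ^ k) → (∃ k : ℕ, orderOf y = p ^ k) → IsConj x y) : p ≤ Nat.card {c : ConjClasses G // ∃ g : G, ConjClasses.mk g = c ∧ ¬ p ∣ orderOf g} ∨ (Nat.card {c : ConjClasses G // ∃ g : G, ConjClasses.mk g = c ∧ ¬ p ∣ orderOf g} = p - 1 ∧ Nonempty (G ≃* ↥(Cfsg.affineGroup (ZMod p)))) ∨ (p = 11 ∧ Nat.card {c : ConjClasses G // ∃ g : G, ConjClasses.mk g = c ∧ ¬ p ∣ orderOf g} = 9 ∧ (Nat.card G = 121 * 120 ∧ ∃ H : Subgroup G, Cfsg.IsFrobeniusComplement H ∧ Nonempty (↥H ≃* Matrix.SpecialLinearGroup (Fin 2) (ZMod 5)))) := by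
  classical
  change p ≤ Nat.card (RC p G) ∨
    (Nat.card (RC p G) = p - 1 ∧ Nonempty (G ≃* ↥(Cfsg.affineGroup (ZMod p)))) ∨
    (p = 11 ∧ Nat.card (RC p G) = 9 ∧ (Nat.card G = 121 * 120 ∧ ∃ H : Subgroup G,
      Cfsg.IsFrobeniusComplement H ∧ Nonempty (↥H ≃* Matrix.SpecialLinearGroup (Fin 2) (ZMod 5))))
  have hp : p.Prime := Fact.out
  obtain ⟨K, hK⟩ : ∃ K, K = Cfsg.pPrimeCore p G := ⟨_, rfl⟩
  by_cases hK1 : K = ⊥
  · rcases OneClassP.reduced hsolv hdiv hconj (hK ▸ hK1) with h | h | ⟨h11, h9, hE⟩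
    · exact Or.inl h
    · exact Or.inr (Or.inl h)
    · exact Or.inr (Or.inr ⟨h11, h9, hE.frobenius⟩)
  left
  haveI : K.Normal := hK ▸ PSolvable.pPrimeCore_normal'
  obtain ⟨f, hfdef⟩ : ∃ f, f = QuotientGroup.mk' K := ⟨_, rfl⟩
  have hf : Function.Surjective f := hfdef ▸ QuotientGroup.mk'_surjective K
  have hker : f.ker = K := by rw [hfdef, QuotientGroup.ker_mk']
  have hcopK : ¬ p ∣ Nat.card K :=
    hp.coprime_iff_not_dvd.1 (hK ▸ PSolvable.card_pPrimeCore_coprime (p := p) (G := G)).symm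
  have hdivQ : p ∣ Nat.card (G ⧸ K) := by
    rw [← K.card_mul_index] at hdiv
    exact (hp.dvd_mul.1 hdiv).resolve_left hcopK
  have hconjQ : ∀ x y : G ⧸ K, x ≠ 1 → y ≠ 1 → (∃ k : ℕ, orderOf x = p ^ k) →
      (∃ k : ℕ, orderOf y = p ^ k) → IsConj x y := by
    intro x y hx hy hxk hyk
    obtain ⟨a, ha, hak⟩ := PRegular.exists_plift f hf x hxk
    obtain ⟨b, hb, hbk⟩ := PRegular.exists_plift f hf y hyk
    rw [← ha, ← hb]
    exact f.map_isConj (hconj a b (fun h => hx (by rw [← ha, h, map_one]))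
      (fun h => hy (by rw [← hb, h, map_one])) hak hbk)
  obtain ⟨n, hnK, hn1⟩ := (Subgroup.bot_or_exists_ne_one K).resolve_left hK1
  have hlt := PRegular.card_lt (p := p) f hf hn1 (MonoidHom.mem_ker.1 (hker.symm ▸ hnK))
    fun h => hcopK (h.trans (by rw [← Subgroup.orderOf_mk n hnK]; exact orderOf_dvd_natCard _))
  rcases OneClassP.reduced (PSolvable.isPSolvable_quotient hsolv K) hdivQ hconjQ
    (PSolvable.pPrimeCore_quotient_eq_bot K hK) with h | ⟨h, -⟩ | ⟨h11, h9, hE⟩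
  · omega
  · omega
  · subst h11
    by_contra hlt11
    exact OneClassP.ext_false f hf (hker.symm ▸ hK1) (hker.symm ▸ hcopK) hE h9 (by omega)

end Cfsg.Agent.S4878
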