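import Cfsg.Statements.S4885
import Cfsg.Agent.Lib.Chars82.ConstrainedBlock
import Cfsg.Agent.Lib.Chars82.PrincipalBlock

set_option autoImplicit false
open Cfsg

namespace Cfsg.Agent.S4885

open Lib.Chars82.ConstrainedBlock

universe u

/-- A normal subgroup minimal among those strictly above `Z` and inside `R₀`. -/
theorem exists_chief {H : Type u} [Group H] [Finite H] (p : ℕ) [Fact p.Prime]
    (hs : Cfsg.IsPSolvable p H) {Z R₀ : Subgroup H} [Z.Normal] (hR₀ : R₀.Normal) (hlt : Z < R₀) :
    ∃ R : Subgroup H, R.Normal ∧ Z < R ∧ R ≤ R₀ ∧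
      (∀ S : Subgroup H, S.Normal → Z ≤ S → S ≤ R → S = Z ∨ S = R) ∧
      ((∃ a, Z.relIndex R = p ^ a) ∨ (Z.relIndex R).Coprime p) := by
  obtain ⟨R, hRle, hR⟩ := Finite.exists_le_minimal
    (p := fun S : Subgroup H => S.Normal ∧ Z < S) (a := R₀) ⟨hR₀, hlt⟩
  have hmin : ∀ S : Subgroup H, S.Normal → Z ≤ S → S ≤ R → S = Z ∨ S = R := by
    intro S hS hZS hSR
    rcases eq_or_lt_of_le hZS with h | h
    · exact Or.inl h.symm
    · exact Or.inr (le_antisymm hSR (hR.2 ⟨hS, h⟩ hSR))
  refine ⟨R, hR.1.1, hR.1.2, hRle, hmin, ?_⟩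
  haveI := hR.1.1
  let f := QuotientGroup.mk' Z
  have hf : Function.Surjective f := QuotientGroup.mk'_surjective Z
  haveI : (R.map f).Normal := Subgroup.Normal.map inferInstance f hf
  have hcard : Nat.card (R.map f) = Z.relIndex R := by
    rw [← Subgroup.relIndex_bot_left, ← Subgroup.relIndex_comap, MonoidHom.comap_bot,
      QuotientGroup.ker_mk']
  have hsol := Lib.PSolvable.isPSolvable_quotient hs Z
  have hm : ∀ S : Subgroup (H ⧸ Z), S.Normal → S ≤ R.map f → S = ⊥ ∨ S = R.map f := by
    intro S hS hSR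
    have h1 : S.comap f ≤ R := by
      refine (Subgroup.comap_mono hSR).trans ?_
      rw [Subgroup.comap_map_eq, QuotientGroup.ker_mk', sup_eq_left.2 hR.1.2.le]
    have h2 : Z ≤ S.comap f := fun z hz => by
      rw [Subgroup.mem_comap, show f z = 1 from (QuotientGroup.eq_one_iff z).2 hz]
      exact one_mem S
    rcases hmin _ (Subgroup.Normal.comap hS f) h2 h1 with h | h
    · left
      rw [← Subgroup.map_comap_eq_self_of_surjective hf S, h, Subgroup.map_eq_bot_iff,
        QuotientGroup.ker_mk']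
    · right
      rw [← Subgroup.map_comap_eq_self_of_surjective hf S, h]
  rcases Lib.PSolvable.minimal_normal_isPGroup_or_coprime hsol (R.map f) hm with h | h
  · left
    obtain ⟨a, ha⟩ := IsPGroup.iff_card.mp h
    exact ⟨a, hcard ▸ ha⟩
  · exact Or.inr (hcard ▸ h)

/-- One side: in `G/O_{p'}` the image of a normal subgroup killed by all characters of degree prime
to `p` is a `p`-group below every maximal subgroup. -/
theorem side {G : Type u} [Group G] [Finite G] (p : ℕ) [Fact p.Prime]
    (hs : Cfsg.IsPSolvable p G) (B : Subgroup G) [hBn : B.Normal]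
    (hker : ∀ χ : Cfsg.IrrCharacter G,
      (∀ g ∈ Cfsg.pPrimeCore p G, (χ : G → ℂ) g = (χ : G → ℂ) 1) →
      ¬ p ∣ Cfsg.charDegree (χ : G → ℂ) → ∀ b ∈ B, (χ : G → ℂ) b = (χ : G → ℂ) 1) :
    (∃ a, (Cfsg.pPrimeCore p G).relIndex B = p ^ a) ∧
      ∀ W : Subgroup G, IsCoatom W → Cfsg.pPrimeCore p G ≤ W → B ≤ W := by
  classical
  set A := Cfsg.pPrimeCore p G with hA
  let f := QuotientGroup.mk' A
  have hf : Function.Surjective f := QuotientGroup.mk'_surjective A
  set K := B.map f with hK
  haveI : K.Normal := Subgroup.Normal.map hBn f hf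
  have hsH : Cfsg.IsPSolvable p (G ⧸ A) := Lib.PSolvable.isPSolvable_quotient hs A
  obtain ⟨P⟩ : Nonempty (Sylow p (G ⧸ A)) := inferInstance
  set U := Cfsg.pCore p (G ⧸ A) ⊓ K with hU
  have hUp : IsPGroup p U := (Lib.Cores.pCore_isPGroup p).to_le inf_le_left
  have hUP : U ≤ (P : Subgroup (G ⧸ A)) := inf_le_left.trans (Lib.Cores.pCore_le_sylow P)
  have hUd : U ≤ (commutator (P : Subgroup (G ⧸ A))).map (P : Subgroup (G ⧸ A)).subtype := by
    by_contra hne
    obtain ⟨φ, hφp, x, hx, hφx⟩ := exists_degree_not_dvd_nontrivial P hUP hne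
    obtain ⟨b, hb, rfl⟩ := hx.2
    apply hφx
    have h := hker ⟨(φ : G ⧸ A → ℂ) ∘ f, Lib.Characters.Basic.isIrrCharacter_comp f hf φ.2⟩
      (fun g hg => by
        show (φ : G ⧸ A → ℂ) (f g) = (φ : G ⧸ A → ℂ) (f 1)
        rw [map_one, show f g = 1 from (QuotientGroup.eq_one_iff g).2 hg])
      (by simpa [Cfsg.charDegree] using hφp) b hb
    simpa using h
  have hmax : ∀ W : Subgroup (G ⧸ A), IsCoatom W → U ≤ W :=
    fun W hW => le_coatom_of_le_commutator P hUd hW
  have hKU : K = U := by
    by_contra hne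
    have hlt : U < K := lt_of_le_of_ne inf_le_right (Ne.symm hne)
    obtain ⟨R, hRn, hUR, hRK, -, hR⟩ := exists_chief p hsH (inferInstance : K.Normal) hlt
    rcases hR with ⟨a, ha⟩ | hR
    · have hRp : IsPGroup p R := by
        obtain ⟨c, hc⟩ := IsPGroup.iff_card.mp hUp
        refine IsPGroup.of_card (n := c + a) ?_
        rw [← Subgroup.relIndex_bot_left, ← Subgroup.relIndex_mul_relIndex ⊥ U R bot_le hUR.le,
          Subgroup.relIndex_bot_left, hc, ha, pow_add]
      haveI := hRn
      exact hUR.not_ge (le_inf (Lib.Cores.le_pCore hRp) hRK)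
    · haveI := hRn
      haveI := hUp.isNilpotent
      obtain ⟨c, hc⟩ := IsPGroup.iff_card.mp hUp
      obtain ⟨R₁, hR₁, hsup, hcard⟩ := exists_normal_complement hUR.le hmax inferInstance
        (by rw [hc]; exact hR.symm.pow_left _)
      have h1 : R₁ ≤ Cfsg.pPrimeCore p (G ⧸ A) :=
        Lib.Cores.le_pPrimeCore (hcard.symm ▸ hR)
      rw [Lib.PSolvable.pPrimeCore_quotient_eq_bot A hA, le_bot_iff] at h1
      rw [h1, sup_bot_eq] at hsup
      exact hUR.ne hsup
  constructor
  · obtain ⟨c, hc⟩ := IsPGroup.iff_card.mp hUp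
    refine ⟨c, ?_⟩
    rw [← hc, ← hKU, hK, ← Subgroup.relIndex_bot_left, ← Subgroup.relIndex_comap,
      MonoidHom.comap_bot, QuotientGroup.ker_mk']
  · intro W hW hAW
    have hcm : (W.map f).comap f = W := by
      rw [Subgroup.comap_map_eq, QuotientGroup.ker_mk', sup_eq_left.2 hAW]
    have hWco : IsCoatom (W.map f) := by
      refine ⟨fun h => hW.1 (by rw [← hcm, h, Subgroup.comap_top]), fun V hV => ?_⟩
      have h1 : W < V.comap f := by
        rw [← hcm]
        exact (Subgroup.comap_lt_comap_of_surjective hf).2 hV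
      rw [← Subgroup.map_comap_eq_self_of_surjective hf V, hW.2 _ h1,
        Subgroup.map_top_of_surjective f hf]
    intro b hb
    rw [← hcm]
    exact hmax _ hWco (hKU ▸ Subgroup.mem_map_of_mem f hb)

/-- A coatom supplemented by a normal subgroup has index dividing the order of that subgroup. -/
theorem index_dvd_card {H : Type u} [Group H] [Finite H] {W A : Subgroup H} [A.Normal]
    (h : W ⊔ A = ⊤) : W.index ∣ Nat.card A := by
  have h1 : W.index = W.relIndex A := by
    have e1 : A.relIndex W = A.index := by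
      rw [← Subgroup.relIndex_top_right A, ← h, Subgroup.relIndex_sup_right]
    have e2 : W.relIndex A * A.index = A.relIndex W * W.index := by
      rw [← Subgroup.inf_relIndex_right W A, ← Subgroup.inf_relIndex_right A W,
        Subgroup.relIndex_mul_index inf_le_right, Subgroup.relIndex_mul_index inf_le_right,
        inf_comm]
    rw [e1, mul_comm] at e2
    exact (Nat.eq_of_mul_eq_mul_left (Nat.pos_of_ne_zero Subgroup.index_ne_zero_of_finite) e2).symm
  rw [h1]
  exact Subgroup.relIndex_dvd_card _ _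

/-- Let p and q be primes dividing the order of the finite group G, and suppose G is p-solvable and q-solvable. Fix maximal ideals of the algebraic integers containing p and q, defining the principal p-block and the principal q-block. If the irreducible characters of degree prime to p in the principal p-block are exactly the irreducible characters of degree prime to q in the principal q-block, then p = q. -/
theorem result {G : Type*} [Group G] [Finite G] (p q : ℕ) [Fact p.Prime] [Fact q.Prime] (hp : p ∣ Nat.card G) (hq : q ∣ Nat.card G) (hps : Cfsg.IsPSolvable p G) (hqs : Cfsg.IsPSolvable q G) (Mp Mq : Ideal Cfsg.AlgInt) (hMp : Cfsg.IsPModular p Mp) (hMq : Cfsg.IsPModular q Mq) (h : ∀ χ : Cfsg.IrrCharacter G, (χ ∈ Cfsg.principalBlock Mp G ∧ ¬ p ∣ Cfsg.charDegree (χ : G → ℂ)) ↔ (χ ∈ Cfsg.principalBlock Mq G ∧ ¬ q ∣ Cfsg.charDegree (χ : G → ℂ))) : p = q := by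
  classical
  by_contra hpq
  haveI := hMp.2.1
  haveI := hMq.2.1
  have hpp : p.Prime := Fact.out
  have hqq : q.Prime := Fact.out
  set A := Cfsg.pPrimeCore p G
  set B := Cfsg.pPrimeCore q G
  -- the two halves of the hypothesis
  obtain ⟨⟨a, ha⟩, hWA⟩ := side p hps B fun χ hχ hd => by
    have h1 := (h χ).1 ⟨mem_principalBlock_of_trivialOn hMp hps hχ, hd⟩
    intro b hb
    exact Lib.Chars82.PrincipalBlock.apply_eq_of_mem_principalBlock hMq B
      (Lib.Cores.not_dvd_card_pPrimeCore q) h1.1 ⟨b, hb⟩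
  obtain ⟨⟨c, hc⟩, hWB⟩ := side q hqs A fun χ hχ hd => by
    have h1 := (h χ).2 ⟨mem_principalBlock_of_trivialOn hMq hqs hχ, hd⟩
    intro b hb
    exact Lib.Chars82.PrincipalBlock.apply_eq_of_mem_principalBlock hMp A
      (Lib.Cores.not_dvd_card_pPrimeCore p) h1.1 ⟨b, hb⟩
  set D := A ⊓ B with hD
  let f := QuotientGroup.mk' D
  have hf : Function.Surjective f := QuotientGroup.mk'_surjective D
  set A' := A.map f with hA'
  set B' := B.map f with hB'
  haveI : A'.Normal := Subgroup.Normal.map inferInstance f hf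
  haveI : B'.Normal := Subgroup.Normal.map inferInstance f hf
  have hcardA : Nat.card A' = q ^ c := by
    rw [← hc, hA', ← Subgroup.relIndex_bot_left, ← Subgroup.relIndex_comap, MonoidHom.comap_bot,
      QuotientGroup.ker_mk', hD, inf_comm, Subgroup.inf_relIndex_right]
  have hcardB : Nat.card B' = p ^ a := by
    rw [← ha, hB', ← Subgroup.relIndex_bot_left, ← Subgroup.relIndex_comap, MonoidHom.comap_bot,
      QuotientGroup.ker_mk', hD, Subgroup.inf_relIndex_right]
  have hcopAB : (Nat.card A').Coprime (Nat.card B') := by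
    rw [hcardA, hcardB]
    exact Nat.Coprime.pow c a ((Nat.coprime_primes hqq hpp).2 (Ne.symm hpq))
  set Z := A' ⊔ B' with hZ
  -- pull a maximal subgroup back to `G`
  have hpull : ∀ W : Subgroup (G ⧸ D), IsCoatom W → IsCoatom (W.comap f) := by
    intro W hW
    refine ⟨fun h => hW.1 (by
      rw [← Subgroup.map_comap_eq_self_of_surjective hf W, h,
        Subgroup.map_top_of_surjective f hf]), fun V hV => ?_⟩
    have hker : f.ker ≤ V := (Subgroup.ker_le_comap f W).trans hV.le
    have h1 : W < V.map f := by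
      rw [← Subgroup.map_comap_eq_self_of_surjective hf W]
      refine lt_of_le_of_ne (Subgroup.map_mono hV.le) fun h => hV.ne ?_
      rw [← Subgroup.comap_map_eq_self (Subgroup.ker_le_comap f W),
        ← Subgroup.comap_map_eq_self hker, h]
    rw [← Subgroup.comap_map_eq_self hker, hW.2 _ h1, Subgroup.comap_top]
  have hmax : ∀ W : Subgroup (G ⧸ D), IsCoatom W → Z ≤ W := by
    intro W hW
    have hco := hpull W hW
    by_cases h1 : A' ≤ W
    · refine sup_le h1 (Subgroup.map_le_iff_le_comap.2 (hWA _ hco ?_))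
      exact Subgroup.map_le_iff_le_comap.1 h1
    by_cases h2 : B' ≤ W
    · refine sup_le (Subgroup.map_le_iff_le_comap.2 (hWB _ hco ?_)) h2
      exact Subgroup.map_le_iff_le_comap.1 h2
    exfalso
    have e1 : W ⊔ A' = ⊤ :=
      hW.2 _ (lt_of_le_of_ne le_sup_left fun h => h1 (le_sup_right.trans h.ge))
    have e2 : W ⊔ B' = ⊤ :=
      hW.2 _ (lt_of_le_of_ne le_sup_left fun h => h2 (le_sup_right.trans h.ge))
    exact hW.1 (Subgroup.index_eq_one.1
      (Nat.eq_one_of_dvd_coprimes hcopAB (index_dvd_card e1) (index_dvd_card e2)))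
  have hdisj : A' ⊓ B' = ⊥ := Subgroup.inf_eq_bot_of_coprime hcopAB
  have hcardZ : Nat.card Z = q ^ c * p ^ a := by
    rw [← Subgroup.relIndex_bot_left, ← Subgroup.relIndex_mul_relIndex ⊥ A' Z bot_le le_sup_left,
      Subgroup.relIndex_bot_left, hcardA, hZ, Subgroup.relIndex_sup_left,
      ← Subgroup.inf_relIndex_right, hdisj, Subgroup.relIndex_bot_left, hcardB]
  -- a layer over `Z`
  have hDp : (Nat.card D).Coprime p :=
    (Lib.Cores.pPrimeCore_coprime p).coprime_dvd_left (Subgroup.card_dvd_of_le inf_le_left)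
  have hDq : (Nat.card D).Coprime q :=
    (Lib.Cores.pPrimeCore_coprime q).coprime_dvd_left (Subgroup.card_dvd_of_le inf_le_right)
  haveI : Nontrivial (G ⧸ D) := by
    rw [← not_subsingleton_iff_nontrivial]
    intro hsub
    have h1 : Nat.card (G ⧸ D) = 1 := Nat.card_unique
    have h2 := D.card_eq_card_quotient_mul_card_subgroup
    rw [h1, one_mul] at h2
    exact (hpp.coprime_iff_not_dvd.1 hDp.symm) (h2 ▸ hp)
  have hZlt : Z < ⊤ := by
    rcases eq_top_or_exists_le_coatom (⊥ : Subgroup (G ⧸ D)) with h | ⟨W, hW, -⟩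
    · exact absurd h bot_ne_top
    · exact lt_of_le_of_lt (hmax W hW) hW.lt_top
  obtain ⟨R, hRn, hZR, -, hminp, hRp⟩ := exists_chief p (Lib.PSolvable.isPSolvable_quotient hps D)
    (inferInstance : (⊤ : Subgroup (G ⧸ D)).Normal) hZlt
  haveI := hRn
  -- `R` gives a layer which is a `q`-group or prime to `q` as well
  obtain ⟨R', hR'n, hZR', hR'le, -, hRq⟩ :=
    exists_chief q (Lib.PSolvable.isPSolvable_quotient hqs D) hRn hZR
  obtain rfl : R' = R := (hminp R' hR'n hZR'.le hR'le).resolve_left hZR'.ne'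
  have hA'solv : Group.IsSolvable A' := by
    haveI := (IsPGroup.of_card hcardA).isNilpotent (hp := ⟨hqq⟩)
    infer_instance
  have hB'solv : Group.IsSolvable B' := by
    haveI := (IsPGroup.of_card hcardB).isNilpotent
    infer_instance
  have hcomap : ∀ R₁ : Subgroup (G ⧸ D), Nat.card (R₁.comap f) = Nat.card R₁ * Nat.card D :=
    fun R₁ => by rw [Lib.PSolvable.card_comap_mk']; ring
  have hbad : ∀ R₁ : Subgroup (G ⧸ D), R₁.Normal →
      ((Nat.card R₁).Coprime p ∨ (Nat.card R₁).Coprime q) → R₁ ≤ Z := by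
    intro R₁ hn h
    haveI := hn
    rcases h with h | h
    · have h1 : R₁.comap f ≤ A := Lib.Cores.le_pPrimeCore
        ((hcomap R₁).symm ▸ h.mul_left hDp)
      calc R₁ = (R₁.comap f).map f := (Subgroup.map_comap_eq_self_of_surjective hf R₁).symm
        _ ≤ A' := Subgroup.map_mono h1
        _ ≤ Z := le_sup_left
    · have h1 : R₁.comap f ≤ B := Lib.Cores.le_pPrimeCore
        ((hcomap R₁).symm ▸ h.mul_left hDq)
      calc R₁ = (R₁.comap f).map f := (Subgroup.map_comap_eq_self_of_surjective hf R₁).symm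
        _ ≤ B' := Subgroup.map_mono h1
        _ ≤ Z := le_sup_right
  have hqp : q.Coprime p := (Nat.coprime_primes hqq hpp).2 (Ne.symm hpq)
  have hA'R : A'.relIndex R' = p ^ a * Z.relIndex R' := by
    rw [← Subgroup.relIndex_mul_relIndex A' Z R' le_sup_left hZR.le, hZ,
      Subgroup.relIndex_sup_left, ← Subgroup.inf_relIndex_right, hdisj,
      Subgroup.relIndex_bot_left, hcardB]
  have hB'R : B'.relIndex R' = q ^ c * Z.relIndex R' := by
    rw [← Subgroup.relIndex_mul_relIndex B' Z R' le_sup_right hZR.le, hZ,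
      Subgroup.relIndex_sup_right, ← Subgroup.inf_relIndex_right, inf_comm, hdisj,
      Subgroup.relIndex_bot_left, hcardA]
  rcases hRp with ⟨i, hi⟩ | hRp
  · have hcop : (Nat.card A').Coprime (A'.relIndex R') := by
      rw [hcardA, hA'R, hi, ← pow_add]
      exact Nat.Coprime.pow _ _ hqp
    obtain ⟨R₁, hR₁, hsup, hcard⟩ := exists_normal_complement (le_sup_left.trans hZR.le)
      (fun W hW => le_sup_left.trans (hmax W hW)) hA'solv hcop
    refine hZR.not_ge ?_
    rw [← hsup]
    refine sup_le le_sup_left (hbad R₁ hR₁ (Or.inr ?_))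
    rw [hcard, hA'R, hi, ← pow_add]
    exact Nat.Coprime.pow_left _ hqp.symm
  rcases hRq with ⟨i, hi⟩ | hRq
  · have hcop : (Nat.card B').Coprime (B'.relIndex R') := by
      rw [hcardB, hB'R, hi, ← pow_add]
      exact Nat.Coprime.pow _ _ hqp.symm
    obtain ⟨R₁, hR₁, hsup, hcard⟩ := exists_normal_complement (le_sup_right.trans hZR.le)
      (fun W hW => le_sup_right.trans (hmax W hW)) hB'solv hcop
    refine hZR.not_ge ?_
    rw [← hsup]
    refine sup_le le_sup_right (hbad R₁ hR₁ (Or.inl ?_))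
    rw [hcard, hB'R, hi, ← pow_add]
    exact Nat.Coprime.pow_left _ hqp
  · have hZsolv : Group.IsSolvable Z := by
      haveI : Group.IsNilpotent A' := (IsPGroup.of_card hcardA).isNilpotent (hp := ⟨hqq⟩)
      haveI : Group.IsNilpotent B' := (IsPGroup.of_card hcardB).isNilpotent
      haveI : Group.IsNilpotent Z := Lib.Cores.isNilpotent_sup inferInstance inferInstance
      infer_instance
    have hcop : (Nat.card Z).Coprime (Z.relIndex R') := by
      rw [hcardZ]
      exact Nat.Coprime.mul_left (hRq.symm.pow_left _) (hRp.symm.pow_left _)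
    obtain ⟨R₁, hR₁, hsup, hcard⟩ := exists_normal_complement hZR.le hmax hZsolv hcop
    refine hZR.not_ge ?_
    rw [← hsup]
    exact sup_le le_rfl (hbad R₁ hR₁ (Or.inl (hcard ▸ hRp)))

end Cfsg.Agent.S4885
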