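import Cfsg.Statements.S4886
import Cfsg.Agent.Lib.Chars82.CrossDegrees
import Cfsg.Agent.Lib.Chars82.PrincipalBlock

set_option autoImplicit false
open Cfsg

namespace Cfsg.Agent.S4886

open Lib.Chars82.CrossDegrees Lib.Chars82.ConstrainedBlock

universe u

/-- A character of the principal block has degree prime to any prime not dividing the index of
`O_{p'}`. -/
theorem degree_dvd_index {G : Type u} [Group G] [Finite G] {p : ℕ} [Fact p.Prime]
    {M : Ideal Cfsg.AlgInt} (hM : Cfsg.IsPModular p M) {χ : Cfsg.IrrCharacter G}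
    (hχ : χ ∈ Cfsg.principalBlock M G) :
    Cfsg.charDegree (χ : G → ℂ) ∣ (Cfsg.pPrimeCore p G).index := by
  haveI := hM.2.1
  let f := QuotientGroup.mk' (Cfsg.pPrimeCore p G)
  have hf : Function.Surjective f := QuotientGroup.mk'_surjective _
  obtain ⟨φ, rfl⟩ := Lib.BrauerMap.Inflation.exists_infl f hf χ fun g hg =>
    Lib.Chars82.PrincipalBlock.apply_eq_of_mem_principalBlock hM _
      (Lib.Cores.not_dvd_card_pPrimeCore p) hχ ⟨g, (QuotientGroup.eq_one_iff g).1 hg⟩
  obtain ⟨d, -, hd, he⟩ := Lib.Characters.Degree.exists_degree_dvd φ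
  rw [Subgroup.index_eq_card]
  convert hd
  show ⌊((φ : G ⧸ Cfsg.pPrimeCore p G → ℂ) (f 1)).re⌋₊ = d
  rw [map_one, he, Complex.natCast_re, Nat.floor_natCast]

/-- A Sylow subgroup commuting with a Sylow `p`-subgroup lies in `O_{p'}`. -/
theorem not_dvd_index_of_commute {G : Type u} [Group G] [Finite G] {p q : ℕ} [Fact p.Prime]
    [Fact q.Prime] (hpq : p ≠ q) (hps : Cfsg.IsPSolvable p G) (P : Sylow p G) (Q : Sylow q G)
    (h : ∀ x ∈ (P : Subgroup G), ∀ y ∈ (Q : Subgroup G), x * y = y * x) :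
    ¬ q ∣ (Cfsg.pPrimeCore p G).index := by
  let f := QuotientGroup.mk' (Cfsg.pPrimeCore p G)
  have hf : Function.Surjective f := QuotientGroup.mk'_surjective _
  have hC := Lib.PSolvable.centralizer_pCore_le
    (Lib.PSolvable.isPSolvable_quotient hps (Cfsg.pPrimeCore p G))
    (Lib.PSolvable.pPrimeCore_quotient_eq_bot _ rfl)
  have hQA : (Q : Subgroup G) ≤ Cfsg.pPrimeCore p G := by
    intro y hy
    have h1 : f y ∈ Subgroup.centralizer
        (Cfsg.pCore p (G ⧸ Cfsg.pPrimeCore p G) : Set (G ⧸ Cfsg.pPrimeCore p G)) := by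
      rw [Subgroup.mem_centralizer_iff]
      intro z hz
      have h2 := Lib.Cores.pCore_le_sylow (P.mapSurjective hf) hz
      rw [Sylow.coe_mapSurjective] at h2
      obtain ⟨x, hx, rfl⟩ := h2
      rw [← map_mul, ← map_mul, h x hx y hy]
    obtain ⟨i, hi⟩ := Lib.Cores.pCore_isPGroup p ⟨f y, hC h1⟩
    obtain ⟨j, hj⟩ := Q.2 ⟨y, hy⟩
    have e1 : f y ^ p ^ i = 1 := congrArg Subtype.val hi
    have e2 : f y ^ q ^ j = 1 := by
      rw [← map_pow, show y ^ q ^ j = 1 from congrArg Subtype.val hj, map_one]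
    have e3 := pow_gcd_eq_one.2 ⟨e1, e2⟩
    rw [(((Nat.coprime_primes Fact.out Fact.out).2 hpq).pow i j).gcd_eq_one, pow_one] at e3
    exact (QuotientGroup.eq_one_iff y).1 e3
  exact fun hd => Q.not_dvd_index (hd.trans (Subgroup.index_dvd_of_le hQA))

/-- Commuting Sylow subgroups from the two index conditions. -/
theorem exists_commute {G : Type u} [Group G] [Finite G] {p q : ℕ} [Fact p.Prime] [Fact q.Prime]
    (hA : ¬ q ∣ (Cfsg.pPrimeCore p G).index) (hB : ¬ p ∣ (Cfsg.pPrimeCore q G).index) :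
    ∃ (P : Sylow p G) (Q : Sylow q G),
      ∀ x ∈ (P : Subgroup G), ∀ y ∈ (Q : Subgroup G), x * y = y * x := by
  classical
  obtain ⟨P⟩ : Nonempty (Sylow p G) := inferInstance
  set A := Cfsg.pPrimeCore p G with hAd
  set B := Cfsg.pPrimeCore q G with hBd
  have hpp : p.Prime := Fact.out
  have hqq : q.Prime := Fact.out
  have hPB : (P : Subgroup G) ≤ B := by
    intro x hx
    obtain ⟨i, hi⟩ := P.2 ⟨x, hx⟩
    have h1 : (x : G ⧸ B) ^ p ^ i = 1 := by
      rw [← QuotientGroup.mk_pow, show x ^ p ^ i = 1 from congrArg Subtype.val hi]; rfl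
    have h2 : (x : G ⧸ B) ^ Nat.card (G ⧸ B) = 1 := pow_card_eq_one'
    have h3 := pow_gcd_eq_one.2 ⟨h1, h2⟩
    rw [← Subgroup.index_eq_card,
      (Nat.Coprime.pow_left i (hpp.coprime_iff_not_dvd.2 hB)).gcd_eq_one, pow_one] at h3
    exact (QuotientGroup.eq_one_iff x).1 h3
  haveI : Group.IsSolvable (P : Subgroup G) := by haveI := P.2.isNilpotent; infer_instance
  letI : MulDistribMulAction (P : Subgroup G) A :=
    MulDistribMulAction.compHom _ (conjOn A (P : Subgroup G))
  obtain ⟨Q₀, hQ₀⟩ := Lib.Coprime.Action.exists_invariant_sylow (A := (P : Subgroup G)) (G := A) (by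
      obtain ⟨i, hi⟩ := IsPGroup.iff_card.1 P.2
      rw [hi]
      exact Nat.Coprime.pow_left i
        (hpp.coprime_iff_not_dvd.2 (Lib.Cores.not_dvd_card_pPrimeCore p))) (Or.inl inferInstance) q
  have hcard : Nat.card ((Q₀ : Subgroup A).map A.subtype) = q ^ (Nat.card G).factorization q := by
    rw [Subgroup.card_map_of_injective A.subtype_injective, Q₀.card_eq_multiplicity,
      ← A.card_mul_index,
      Nat.factorization_mul Nat.card_pos.ne' Subgroup.index_ne_zero_of_finite, Finsupp.add_apply,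
      Nat.factorization_eq_zero_of_not_dvd hA, add_zero]
  refine ⟨P, Sylow.ofCard _ hcard, ?_⟩
  rw [Sylow.coe_ofCard]
  rintro g hg _ ⟨x, hx, rfl⟩
  have h1 := hQ₀ ⟨g, hg⟩ x hx
  set z : A := conjOn A (P : Subgroup G) ⟨g, hg⟩ x * x⁻¹ with hz
  have hzQ : z ∈ (Q₀ : Subgroup A) := mul_mem h1 (inv_mem hx)
  have hzv : (z : G) = g * x * g⁻¹ * (x : G)⁻¹ := rfl
  have hzB : (z : G) ∈ B := by
    rw [hzv, show g * (x : G) * g⁻¹ * (x : G)⁻¹ = g * ((x : G) * g⁻¹ * (x : G)⁻¹) by group]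
    exact B.mul_mem (hPB hg) (Subgroup.Normal.conj_mem inferInstance _ (B.inv_mem (hPB hg)) _)
  obtain ⟨i, hi⟩ := Q₀.2 ⟨z, hzQ⟩
  have h2 : (z : G) ^ q ^ i = 1 := congrArg (fun w : (Q₀ : Subgroup A) => ((w : A) : G)) hi
  have h3 : (z : G) ^ Nat.card B = 1 :=
    congrArg Subtype.val (pow_card_eq_one' (x := (⟨(z : G), hzB⟩ : B)))
  have h4 := pow_gcd_eq_one.2 ⟨h2, h3⟩
  rw [((Lib.Cores.pPrimeCore_coprime q).symm.pow_left i).gcd_eq_one, pow_one, hzv,
    mul_inv_eq_one, mul_inv_eq_iff_eq_mul] at h4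
  exact h4


/-- Let p ≠ q be primes and G a finite group that is p-solvable and q-solvable. Fix maximal ideals of the algebraic integers containing p and q, defining the principal p-block and the principal q-block. Then every irreducible character of degree prime to p in the principal p-block has degree prime to q and every irreducible character of degree prime to q in the principal q-block has degree prime to p, if and only if some Sylow p-subgroup of G commutes elementwise with some Sylow q-subgroup. -/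
theorem result {G : Type*} [Group G] [Finite G] (p q : ℕ) [Fact p.Prime] [Fact q.Prime] (hpq : p ≠ q) (Mp Mq : Ideal Cfsg.AlgInt) (hMp : Cfsg.IsPModular p Mp) (hMq : Cfsg.IsPModular q Mq) (hps : Cfsg.IsPSolvable p G) (hqs : Cfsg.IsPSolvable q G) : ((∀ χ : Cfsg.IrrCharacter G, χ ∈ Cfsg.principalBlock Mp G → ¬ p ∣ Cfsg.charDegree (χ : G → ℂ) → ¬ q ∣ Cfsg.charDegree (χ : G → ℂ)) ∧ (∀ χ : Cfsg.IrrCharacter G, χ ∈ Cfsg.principalBlock Mq G → ¬ q ∣ Cfsg.charDegree (χ : G → ℂ) → ¬ p ∣ Cfsg.charDegree (χ : G → ℂ))) ↔ ∃ (P : Sylow p G) (Q : Sylow q G), ∀ x ∈ (P : Subgroup G), ∀ y ∈ (Q : Subgroup G), x * y = y * x := by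
  haveI := hMp.2.1
  haveI := hMq.2.1
  constructor
  · rintro ⟨h1, h2⟩
    have c1 : Cross p q G := fun χ hχ => h1 χ (mem_principalBlock_of_trivialOn hMp hps hχ)
    have c2 : Cross q p G := fun χ hχ => h2 χ (mem_principalBlock_of_trivialOn hMq hqs hχ)
    exact exists_commute (not_dvd_index hpq hps hqs c1 c2) (not_dvd_index hpq.symm hqs hps c2 c1)
  · rintro ⟨P, Q, h⟩
    refine ⟨fun χ hχ _ hd => ?_, fun χ hχ _ hd => ?_⟩
    · exact not_dvd_index_of_commute hpq hps P Q h (hd.trans (degree_dvd_index hMp hχ))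
    · exact not_dvd_index_of_commute hpq.symm hqs Q P (fun x hx y hy => (h y hy x hx).symm)
        (hd.trans (degree_dvd_index hMq hχ))

end Cfsg.Agent.S4886
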