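import Cfsg.Statements.S4888
import Cfsg.Agent.Lib.Chars82.PrincipalBlock

set_option autoImplicit false
open Cfsg

namespace Cfsg.Agent.S4888

/-- Let G be a finite group, p a prime and M a maximal ideal of the algebraic integers containing p. Then all height-zero irreducible characters of the principal p-block of G (equivalently, all its characters of degree prime to p) have the same degree if and only if G has a normal p-complement. -/
theorem result {G : Type*} [Group G] [Finite G] (p : ℕ) [Fact p.Prime] (M : Ideal Cfsg.AlgInt) (hM : Cfsg.IsPModular p M) : (∃ d : ℕ, ∀ χ : Cfsg.IrrCharacter G, χ ∈ (Cfsg.principalBlock M G) → Cfsg.blockHeight p (Cfsg.principalBlock M G) (χ : G → ℂ) = 0 → Cfsg.charDegree (χ : G → ℂ) = d) ↔ Cfsg.HasNormalPComplement p G := by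
  haveI := hM.2.1
  have hpos := fun χ : Cfsg.IrrCharacter G => Cfsg.Agent.Lib.Blocks.charDegree_pos χ
  have hone : Cfsg.charDegree ((Cfsg.Agent.Lib.Characters.Basic.oneChar G : Cfsg.IrrCharacter G) : G → ℂ) = 1 := by
    simp [Cfsg.charDegree, Cfsg.Agent.Lib.Characters.Basic.oneChar_apply]
  have hmin : sInf ((fun ψ : Cfsg.IrrCharacter G => (Cfsg.charDegree (ψ : G → ℂ)).factorization p) ''
      Cfsg.principalBlock M G) = 0 := by
    refine Nat.eq_zero_of_le_zero (Nat.sInf_le ⟨Cfsg.Agent.Lib.Characters.Basic.oneChar G,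
      Cfsg.Agent.Lib.Blocks.oneChar_mem_principalBlock, ?_⟩)
    show (Cfsg.charDegree _).factorization p = 0
    rw [hone]
    simp
  have hht : ∀ χ : Cfsg.IrrCharacter G,
      Cfsg.blockHeight p (Cfsg.principalBlock M G) (χ : G → ℂ) = 0 ↔
        ¬ p ∣ Cfsg.charDegree (χ : G → ℂ) := by
    intro χ
    rw [Cfsg.blockHeight, hmin, Nat.sub_zero, Nat.factorization_eq_zero_iff]
    simp [(Fact.out : p.Prime), (hpos χ).ne']
  constructor
  · rintro ⟨d, hd⟩
    have h1 := hd _ Cfsg.Agent.Lib.Blocks.oneChar_mem_principalBlock ((hht _).mpr (by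
      rw [hone]; exact (Fact.out : p.Prime).not_dvd_one))
    rw [hone] at h1
    exact Cfsg.Agent.Lib.Chars82.PrincipalBlock.hasNormalPComplement_of_linear hM
      fun χ hχ hp => (hd χ hχ ((hht χ).mpr hp)).trans h1.symm
  · intro hG
    exact ⟨1, fun χ hχ h0 =>
      Cfsg.Agent.Lib.Chars82.PrincipalBlock.degree_eq_one_of_hasNormalPComplement hM hG hχ
        ((hht χ).mp h0)⟩

end Cfsg.Agent.S4888
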