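import Cfsg.Statements.S4889
import Cfsg.Agent.Lib.EqualDegree.Main
import Cfsg.Agent.Lib.StarChar.Nilpotent
import Cfsg.Agent.Lib.BrauerPairs.Fusion

set_option autoImplicit false
open Cfsg
open Cfsg.Agent.Lib.BrauerPairs.Center Cfsg.Agent.Lib.BrauerPairs.Pairs
open Cfsg.Agent.Lib.BrauerPairs.Maximal Cfsg.Agent.Lib.BrauerPairs.Bridge
open Cfsg.Agent.Lib.BrauerPairs.Fusion Cfsg.Agent.Lib.StarChar
open Cfsg.Agent.Lib.Blocks.Contrib Cfsg.Agent.Lib.Characters.Basic

attribute [local instance] Ideal.Quotient.field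

namespace Cfsg.Agent.S4889

/-- Let G be a finite group, p a prime, M a maximal ideal of the algebraic integers containing p, and B a p-block of G that has an abelian defect group and in which every irreducible character has height zero. Then all irreducible characters of B have the same degree if and only if B is a nilpotent block. -/
theorem result {G : Type*} [Group G] [Finite G] (p : ℕ) [Fact p.Prime] (M : Ideal Cfsg.AlgInt) (hM : Cfsg.IsPModular p M) (B : Set (Cfsg.IrrCharacter G)) (hB : Cfsg.IsPBlock M B) (D : Subgroup G) (hD : Cfsg.IsDefectGroup p M B D) (hDab : IsMulCommutative ↥D) (h0 : ∀ χ : Cfsg.IrrCharacter G, χ ∈ B → Cfsg.blockHeight p B (χ : G → ℂ) = 0) : (∃ d : ℕ, ∀ χ : Cfsg.IrrCharacter G, χ ∈ B → Cfsg.charDegree (χ : G → ℂ) = d) ↔ Cfsg.IsNilpotentBlock p M B := by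
  classical
  have := hM.2.1
  have := charP_res hM
  haveI := Fintype.ofFinite G
  have hab : ∀ x ∈ D, ∀ y ∈ D, x * y = y * x := fun x hx y hy =>
    congrArg Subtype.val (hDab.is_comm.comm (⟨x, hx⟩ : D) ⟨y, hy⟩)
  have hD' := (isDefectGroup_iff hB D).mp hD
  constructor
  · rintro ⟨d, hd⟩
    exact (isNilpotentBlock_iff hB).mpr
      (Cfsg.Agent.Lib.EqualDegree.Main.nilp_of_degree hB hM hd h0 hD' hab)
  · intro hnil
    have hn := (isNilpotentBlock_iff hB).mp hnil
    obtain ⟨χ₀, hχ₀, h00⟩ := exists_height_zero (p := p) hB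
    obtain ⟨ω, hω⟩ := exists_pairOf_isDef hD'
    have hb : Top p (⟨D, ω⟩ : Idx (Res M) G) := top_of_isDef hω hD'
    obtain ⟨Φ, hΦ⟩ := Nilpotent.exists_equiv hM hb hω hn hχ₀ h00
    refine ⟨Cfsg.charDegree (χ₀ : G → ℂ), fun χ hχ => ?_⟩
    obtain ⟨ζ, hζ⟩ := Φ.surjective ⟨χ, hχ⟩
    have hlin : (ζ : D → ℂ) 1 = 1 :=
      Cfsg.Agent.Lib.BlocksChars5.Basic.degree_eq_one_of_comm ζ
        fun a b => Subtype.ext (hab a a.2 b b.2)
    have h1 : (χ : G → ℂ) 1 = (χ₀ : G → ℂ) 1 := by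
      rw [show (χ : G → ℂ) = _ from (congrArg (fun c : B => ((c : IrrCharacter G) : G → ℂ))
        hζ).symm.trans (hΦ ζ), Nilpotent.star_regular χ₀ _
          (by rw [orderOf_one]; exact (Fact.out : p.Prime).not_dvd_one), hlin, one_mul]
    rw [Cfsg.charDegree, Cfsg.charDegree, h1]

end Cfsg.Agent.S4889
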