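import Cfsg.Statements.S4890
import Cfsg.Agent.Lib.EqualDegree.Quotient
import Cfsg.Agent.Lib.StarChar.Nilpotent
import Cfsg.Agent.Lib.BrauerPairs.Fusion

set_option autoImplicit false
open Cfsg
open Cfsg.Agent.Lib.BrauerPairs.Center Cfsg.Agent.Lib.BrauerPairs.Pairs
open Cfsg.Agent.Lib.BrauerPairs.Maximal Cfsg.Agent.Lib.BrauerPairs.Bridge
open Cfsg.Agent.Lib.BrauerPairs.Fusion Cfsg.Agent.Lib.StarChar
open Cfsg.Agent.Lib.Blocks.Contrib Cfsg.Agent.Lib.Characters.Basic
open Cfsg.Agent.Lib.StarChar.Comp Cfsg.Agent.Lib.StarChar.NilpotentPairing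

attribute [local instance] Ideal.Quotient.field

namespace Cfsg.Agent.S4890

/-- Let G be a finite group, p a prime, M a maximal ideal of the algebraic integers containing p, and B a p-block of G with a defect group that is normal in G. Then all height-zero irreducible characters of B have the same degree if and only if B is a nilpotent block. -/
theorem result {G : Type*} [Group G] [Finite G] (p : ℕ) [Fact p.Prime] (M : Ideal Cfsg.AlgInt) (hM : Cfsg.IsPModular p M) (B : Set (Cfsg.IrrCharacter G)) (hB : Cfsg.IsPBlock M B) (D : Subgroup G) (hD : Cfsg.IsDefectGroup p M B D) (hDn : D.Normal) : (∃ d : ℕ, ∀ χ : Cfsg.IrrCharacter G, χ ∈ B → Cfsg.blockHeight p B (χ : G → ℂ) = 0 → Cfsg.charDegree (χ : G → ℂ) = d) ↔ Cfsg.IsNilpotentBlock p M B := by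
  classical
  have := hM.2.1
  have := charP_res hM
  haveI := Fintype.ofFinite G
  have hD' := (isDefectGroup_iff hB D).mp hD
  constructor
  · rintro ⟨d, hd⟩
    exact (isNilpotentBlock_iff hB).mpr
      (Cfsg.Agent.Lib.EqualDegree.Quotient.nilp_of_degree hM hB hd hD' hDn)
  · intro hnil
    have hn := (isNilpotentBlock_iff hB).mp hnil
    obtain ⟨χ₀, hχ₀, h00⟩ := exists_height_zero (p := p) hB
    obtain ⟨ω, hω⟩ := exists_pairOf_isDef hD'
    have hb : Top p (⟨D, ω⟩ : Idx (Res M) G) := top_of_isDef hω hD'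
    obtain ⟨Φ, hΦ⟩ := Nilpotent.exists_equiv hM hb hω hn hχ₀ h00
    refine ⟨Cfsg.charDegree (χ₀ : G → ℂ), fun χ hχ h0 => ?_⟩
    obtain ⟨ζ, hζ⟩ := Φ.surjective ⟨χ, hχ⟩
    have hfun : (χ : G → ℂ) = starFn χ₀ (fz p (⟨D, ω⟩ : Idx (Res M) G) (ζ : D → ℂ)) p := by
      rw [← hΦ ζ, hζ]
    obtain ⟨d₀, hd₀, hd₀'⟩ := exists_degree_pos χ₀
    obtain ⟨e, he, he'⟩ := exists_degree_pos ζ
    have h1 : (χ : G → ℂ) 1 = ((e * d₀ : ℕ) : ℂ) := by
      rw [hfun, Nilpotent.star_regular χ₀ _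
        (by rw [orderOf_one]; exact (Fact.out : p.Prime).not_dvd_one), Nat.cast_mul, ← hd₀', ← he']
    have hdχ : Cfsg.charDegree (χ : G → ℂ) = e * d₀ := by
      rw [Cfsg.charDegree, h1, Complex.natCast_re, Nat.floor_natCast]
    have hdχ₀ : Cfsg.charDegree (χ₀ : G → ℂ) = d₀ := by
      rw [Cfsg.charDegree, hd₀', Complex.natCast_re, Nat.floor_natCast]
    have hdζ : Cfsg.charDegree (ζ : D → ℂ) = e := by
      rw [Cfsg.charDegree, he', Complex.natCast_re, Nat.floor_natCast]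
    have hv := ((blockHeight_eq_zero_iff hχ).mp h0).trans h00.symm
    rw [vdeg, vdeg, hdχ, hdχ₀, Nat.factorization_mul he.ne' hd₀.ne', Finsupp.add_apply] at hv
    obtain ⟨n, hn'⟩ := IsPGroup.iff_card.mp hb.1
    have hdvd : e ∣ p ^ n := by
      rw [← hn', ← hdζ]
      exact Cfsg.Agent.Lib.BlocksChars5.Basic.degree_dvd_card ζ
    obtain ⟨j, -, hj⟩ := (Nat.dvd_prime_pow (Fact.out : p.Prime)).mp hdvd
    have hj0 : j = 0 := by
      rw [hj, (Fact.out : p.Prime).factorization_pow, Finsupp.single_eq_same] at hv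
      omega
    rw [hdχ, hdχ₀, hj, hj0, pow_zero, one_mul]

end Cfsg.Agent.S4890
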