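import Cfsg.Statements.S4904
import Cfsg.Agent.Lib.Small80.Main

set_option autoImplicit false
open Cfsg

namespace Cfsg.Agent.S4904

/-- Let G be a finite group with a faithful irreducible complex character of degree d < 27, and p a prime with p > d + 1 and P a Sylow p-subgroup of G. Then one of the following holds: P is normal in G; the quotient of G by its centre is isomorphic to PSL(2,p) and 2d = p + 1 or 2d = p − 1; p = 17, d = 15 and G is isomorphic to the direct product of SL(2,16) with an abelian group; p = 7, d = 4 and G modulo its centre is the alternating group of degree 7; p = 5, d = 3 and G modulo its centre is the alternating group of degree 6. -/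
theorem result {G : Type*} [Group G] [Finite G] (d : ℕ) (hd : d < 27) (χ : Cfsg.IrrCharacter G) (hdeg : Cfsg.charDegree (χ : G → ℂ) = d) (hfaith : ∀ g : G, (χ : G → ℂ) g = (χ : G → ℂ) 1 → g = 1) (p : ℕ) [Fact p.Prime] (hp : d + 1 < p) (P : Sylow p G) : (P : Subgroup G).Normal ∨ (Nonempty (G ⧸ Subgroup.center G ≃* Matrix.ProjectiveSpecialLinearGroup (Fin 2) (ZMod p)) ∧ (2 * d = p + 1 ∨ 2 * d = p - 1)) ∨ (p = 17 ∧ d = 15 ∧ ∃ (A : Type) (_ : CommGroup A) (_ : Finite A), Nonempty (G ≃* Matrix.SpecialLinearGroup (Fin 2) (GaloisField 2 4) × A)) ∨ (p = 7 ∧ d = 4 ∧ Nonempty (G ⧸ Subgroup.center G ≃* ↥(alternatingGroup (Fin 7)))) ∨ (p = 5 ∧ d = 3 ∧ Nonempty (G ⧸ Subgroup.center G ≃* ↥(alternatingGroup (Fin 6)))) := by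
  subst hdeg
  have hd0 := Cfsg.Agent.Lib.BlocksChars5.Basic.degree_pos χ
  rcases Cfsg.Agent.Lib.Small80.Main.main χ hd hfaith hp P with h | ⟨h, hc⟩ | ⟨h17, h15, h⟩ |
    h | h
  · exact Or.inl h
  · exact Or.inr (Or.inl ⟨h, by omega⟩)
  · subst h17
    exact Or.inr (Or.inr (Or.inl
      ⟨rfl, h15, Cfsg.Agent.Lib.Small80.Main.sixteen χ hfaith h15 h⟩))
  · exact Or.inr (Or.inr (Or.inr (Or.inl h)))
  · exact Or.inr (Or.inr (Or.inr (Or.inr h)))

end Cfsg.Agent.S4904
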