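import Cfsg.Statements.S4911
import Cfsg.Agent.Lib.Glauberman.Internal
import Cfsg.Agent.Lib.Characters.Linear
import Cfsg.Agent.Lib.Characters.Indicator

set_option autoImplicit false
open Cfsg

namespace Cfsg.Agent.S4911

/-- Let P and K be subgroups of a finite group with P a p-group normalizing K and K of order prime to p. Then the number of P-invariant real-valued irreducible complex characters of K equals the number of conjugacy classes of K that are real (closed under inversion) and P-invariant. Moreover, if every real-valued irreducible character of K is P-invariant, then every real element of K (one conjugate in K to its inverse) is conjugate in K to an element centralized by P. -/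
theorem result {G : Type*} [Group G] [Finite G] (p : ℕ) [Fact p.Prime] (P K : Subgroup G) (hP : IsPGroup p ↥P) (hK : ¬ p ∣ Nat.card ↥K) (hPK : P ≤ Subgroup.normalizer (K : Set G)) : Nat.card {θ : Cfsg.IrrCharacter ↥K // (∀ k : ↥K, ((θ : ↥K → ℂ) k).im = 0) ∧ (∀ x ∈ P, ∀ k k' : ↥K, (k' : G) = x * (k : G) * x⁻¹ → (θ : ↥K → ℂ) k' = (θ : ↥K → ℂ) k)} = Nat.card {c : ConjClasses ↥K // (∀ k : ↥K, ConjClasses.mk k = c → IsConj k k⁻¹) ∧ ∀ k : ↥K, ConjClasses.mk k = c → ∀ x ∈ P, ∀ k' : ↥K, (k' : G) = x * (k : G) * x⁻¹ → ConjClasses.mk k' = c} ∧ ((∀ θ : Cfsg.IrrCharacter ↥K, (∀ k : ↥K, ((θ : ↥K → ℂ) k).im = 0) → (∀ x ∈ P, ∀ k k' : ↥K, (k' : G) = x * (k : G) * x⁻¹ → (θ : ↥K → ℂ) k' = (θ : ↥K → ℂ) k)) → ∀ k : ↥K, IsConj k k⁻¹ → ∃ k' : ↥K, IsConj k k' ∧ ∀ x ∈ P, x * (k' : G) * x⁻¹ = (k' : G)) := by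
  classical
  have hnorm : ∀ x ∈ P, ∀ k ∈ K, x * k * x⁻¹ ∈ K :=
    fun x hx k hk => (Subgroup.mem_normalizer_iff.1 (hPK hx) k).1 hk
  let act := Lib.Glauberman.actOf hnorm
  let C : Subgroup G := K ⊓ Subgroup.centralizer (P : Set G)
  haveI := Fintype.ofFinite K
  haveI := Fintype.ofFinite C
  let ι : C →* K := Subgroup.inclusion (inf_le_left : C ≤ K)
  have hfix : Lib.Glauberman.IsFix act ι := Lib.Glauberman.isFix_actOf hnorm rfl inf_le_left
  have hinv : ∀ θ : Cfsg.IrrCharacter K, Lib.Glauberman.Inv act (θ : K → ℂ) ↔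
      ∀ x ∈ P, ∀ k k' : K, (k' : G) = x * (k : G) * x⁻¹ → (θ : K → ℂ) k' = (θ : K → ℂ) k :=
    fun θ => Lib.Glauberman.inv_actOf_iff hnorm _
  -- complex conjugation commutes with the correspondence
  have hmult : ∀ (χ : Cfsg.IrrCharacter K) (β : Cfsg.IrrCharacter C),
      Lib.Glauberman.mult ι (Lib.Characters.Linear.conjChar χ) (Lib.Characters.Linear.conjChar β) =
        Lib.Glauberman.mult ι χ β := by
    intro χ β
    rw [← Lib.Glauberman.mult_eq_iff]
    have h := Lib.Glauberman.coe_mult ι χ β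
    apply_fun (starRingEnd ℂ) at h
    rw [Complex.conj_natCast] at h
    rw [← h]
    simp only [Cfsg.classInner, map_mul, map_inv₀, map_natCast, map_sum,
      Lib.Characters.Linear.conjChar_apply]
  have hreal : ∀ {X : Type _} [Group X] [Finite X] (θ : Cfsg.IrrCharacter X),
      (∀ k : X, ((θ : X → ℂ) k).im = 0) ↔ Lib.Characters.Linear.conjChar θ = θ := by
    intro X _ _ θ
    constructor
    · exact fun h => Subtype.ext (funext fun k => Complex.conj_eq_iff_im.2 (h k))
    · exact fun h k => Complex.conj_eq_iff_im.1 (congrFun (congrArg Subtype.val h) k)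
  have hconjinv : ∀ θ : Cfsg.IrrCharacter K, Lib.Glauberman.Inv act (θ : K → ℂ) →
      Lib.Glauberman.Inv act (Lib.Characters.Linear.conjChar θ : K → ℂ) := fun θ h s k => by
    rw [Lib.Characters.Linear.conjChar_apply, Lib.Characters.Linear.conjChar_apply, h s k]
  choose f hf using fun χ : Cfsg.IrrCharacter K =>
    Lib.Glauberman.corr_exists hP hK hfix (χ := χ)
  let A := {θ : Cfsg.IrrCharacter ↥K // (∀ k : ↥K, ((θ : ↥K → ℂ) k).im = 0) ∧
    (∀ x ∈ P, ∀ k k' : ↥K, (k' : G) = x * (k : G) * x⁻¹ → (θ : ↥K → ℂ) k' = (θ : ↥K → ℂ) k)}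
  let F : A → {β : Cfsg.IrrCharacter C // ∀ c : C, ((β : C → ℂ) c).im = 0} := fun θ =>
    ⟨f θ.1, (hreal _).2 (Lib.Glauberman.corr_unique hP hK hfix ((hinv _).2 θ.2.2) (by
      have e := (hreal θ.1).1 θ.2.1
      conv => enter [1, 2, 2]; rw [← e]
      rw [hmult]
      exact hf θ.1) (hf θ.1))⟩
  have hF : Function.Bijective F := by
    constructor
    · intro θ θ' h
      have h1 : f θ.1 = f θ'.1 := congrArg Subtype.val h
      exact Subtype.ext (Lib.Glauberman.corr_inj hP hK hfix ((hinv _).2 θ.2.2)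
        ((hinv _).2 θ'.2.2) (hf θ.1) (h1 ▸ hf θ'.1))
    · rintro ⟨β, hβ⟩
      obtain ⟨χ, hχ, hm⟩ := Lib.Glauberman.corr_surj hP hK hfix β
      have hχr : Lib.Characters.Linear.conjChar χ = χ := by
        refine Lib.Glauberman.corr_inj hP hK hfix (hconjinv χ hχ) hχ (β := β) ?_ hm
        rw [← (hreal β).1 hβ, hmult]
        exact hm
      exact ⟨⟨χ, (hreal χ).2 hχr, (hinv χ).1 hχ⟩,
        Subtype.ext (Lib.Glauberman.corr_unique hP hK hfix hχ (hf χ) hm)⟩
  let B := {c : ConjClasses ↥K // (∀ k : ↥K, ConjClasses.mk k = c → IsConj k k⁻¹) ∧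
    ∀ k : ↥K, ConjClasses.mk k = c → ∀ x ∈ P, ∀ k' : ↥K, (k' : G) = x * (k : G) * x⁻¹ →
      ConjClasses.mk k' = c}
  -- invariant classes meet the fixed points
  have hmeet : ∀ (k : K), (∀ x ∈ P, ∀ k' : K, (k' : G) = x * (k : G) * x⁻¹ → IsConj k k') →
      ∃ c : C, IsConj k (ι c) := by
    intro k hk
    let X := {y : K // IsConj k y}
    have hstep : ∀ (s : P) (y : X), IsConj k (act s y.1) := by
      intro s y
      refine (hk s s.2 (act s k) rfl).trans ?_
      exact MonoidHom.map_isConj (act s).toMonoidHom y.2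
    letI : MulAction P X :=
      { smul := fun s y => ⟨act s y.1, hstep s y⟩
        one_smul := fun y => Subtype.ext (by show act 1 y.1 = y.1; simp)
        mul_smul := fun a b y => Subtype.ext (by
          show act (a * b) y.1 = act a (act b y.1); simp) }
    have hX : ¬ p ∣ Nat.card X := fun hd =>
      hK (hd.trans (Dvd.intro _ (Lib.Characters.Complete.card_conjugates_mul_centralizer k)))
    obtain ⟨⟨y, hy⟩, hyfix⟩ := hP.nonempty_fixed_point_of_prime_not_dvd_card X hX
    obtain ⟨c, hc⟩ := (hfix.2 y).2 fun s => congrArg Subtype.val (hyfix s)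
    exact ⟨c, hc ▸ hy⟩
  let R := {D : ConjClasses C // ∀ g : C, ConjClasses.mk g = D → IsConj g g⁻¹}
  let F' : R → B := fun D => ⟨ConjClasses.map ι D.1, by
    obtain ⟨c, hc⟩ := ConjClasses.mk_surjective D.1
    have hr := ι.map_isConj (D.2 c hc)
    rw [map_inv] at hr
    refine ⟨fun k hk => ?_, fun k hk x hx k' hk' => ?_⟩
    · rw [← hc] at hk
      change ConjClasses.mk k = ConjClasses.mk (ι c) at hk
      rw [ConjClasses.mk_eq_mk_iff_isConj] at hk
      obtain ⟨u, hu⟩ := isConj_iff.1 hk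
      refine hk.trans (hr.trans (isConj_iff.2 ⟨u⁻¹, ?_⟩))
      rw [← hu]
      group
    · rw [← hc] at hk ⊢
      change ConjClasses.mk k = ConjClasses.mk (ι c) at hk
      show ConjClasses.mk k' = ConjClasses.mk (ι c)
      rw [ConjClasses.mk_eq_mk_iff_isConj] at hk ⊢
      have h1 := (act ⟨x, hx⟩).toMonoidHom.map_isConj hk
      rw [MulEquiv.coe_toMonoidHom, Lib.Glauberman.fix_apply hfix,
        show act ⟨x, hx⟩ k = k' from Subtype.ext hk'.symm] at h1
      exact h1⟩
  have hF' : Function.Bijective F' := by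
    constructor
    · intro D D' h
      obtain ⟨c, hc⟩ := ConjClasses.mk_surjective D.1
      obtain ⟨c', hc'⟩ := ConjClasses.mk_surjective D'.1
      have h1 : ConjClasses.map ι D.1 = ConjClasses.map ι D'.1 := congrArg Subtype.val h
      rw [← hc, ← hc'] at h1
      change ConjClasses.mk (ι c) = ConjClasses.mk (ι c') at h1
      rw [ConjClasses.mk_eq_mk_iff_isConj] at h1
      apply Subtype.ext
      rw [← hc, ← hc', ConjClasses.mk_eq_mk_iff_isConj]
      exact Lib.Glauberman.conj_in_fix hP hK hfix h1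
    · rintro ⟨D, hD1, hD2⟩
      obtain ⟨k, rfl⟩ := ConjClasses.mk_surjective D
      obtain ⟨c, hc⟩ := hmeet k fun x hx k' hk' =>
        (ConjClasses.mk_eq_mk_iff_isConj.1 (hD2 k rfl x hx k' hk')).symm
      refine ⟨⟨ConjClasses.mk c, fun g hg => ?_⟩, Subtype.ext ?_⟩
      · refine Lib.Glauberman.conj_in_fix hP hK hfix ?_
        rw [map_inv]
        refine hD1 (ι g) ?_
        rw [ConjClasses.mk_eq_mk_iff_isConj] at hg ⊢
        exact (ι.map_isConj hg).trans hc.symm
      · show ConjClasses.mk (ι c) = ConjClasses.mk k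
        exact ConjClasses.mk_eq_mk_iff_isConj.2 hc.symm
  have hcount : Nat.card A = Nat.card B := by
    rw [Nat.card_congr (Equiv.ofBijective F hF), Lib.Characters.Indicator.card_real_irr,
      Nat.card_congr (Equiv.ofBijective F' hF')]
  refine ⟨hcount, fun hall k hk => ?_⟩
  -- if every real character is invariant then so is every real class
  haveI : Finite (ConjClasses K) := Finite.of_surjective _ ConjClasses.mk_surjective
  let g : A → {θ : Cfsg.IrrCharacter K // ∀ k : K, ((θ : K → ℂ) k).im = 0} :=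
    fun θ => ⟨θ.1, θ.2.1⟩
  have hg : Function.Bijective g :=
    ⟨fun a b h => Subtype.ext (congrArg (fun z => z.1) h),
      fun θ => ⟨⟨θ.1, θ.2, hall θ.1 θ.2⟩, rfl⟩⟩
  let j : B → {D : ConjClasses K // ∀ g : K, ConjClasses.mk g = D → IsConj g g⁻¹} :=
    fun D => ⟨D.1, D.2.1⟩
  have hj : Function.Bijective j := by
    refine (Nat.bijective_iff_injective_and_card j).2
      ⟨fun a b h => Subtype.ext (congrArg (fun z => z.1) h), ?_⟩
    rw [← hcount, Nat.card_congr (Equiv.ofBijective g hg), Lib.Characters.Indicator.card_real_irr]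
  have hkreal : ∀ g : K, ConjClasses.mk g = ConjClasses.mk k → IsConj g g⁻¹ := by
    intro g hg
    rw [ConjClasses.mk_eq_mk_iff_isConj] at hg
    obtain ⟨u, hu⟩ := isConj_iff.1 hg
    refine hg.trans (hk.trans (isConj_iff.2 ⟨u⁻¹, ?_⟩))
    rw [← hu]
    group
  obtain ⟨D, hD⟩ := hj.2 ⟨ConjClasses.mk k, hkreal⟩
  have hDk : D.1 = ConjClasses.mk k := congrArg Subtype.val hD
  obtain ⟨c, hc⟩ := hmeet k fun x hx k' hk' =>
    (ConjClasses.mk_eq_mk_iff_isConj.1 ((D.2.2 k hDk.symm x hx k' hk').trans hDk)).symm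
  refine ⟨ι c, hc, fun x hx => ?_⟩
  exact congrArg Subtype.val (Lib.Glauberman.fix_apply hfix (⟨x, hx⟩ : P) c)

end Cfsg.Agent.S4911
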