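import Cfsg.Statements.S4912
import Cfsg.Agent.Lib.Chars82.StableExtension

set_option autoImplicit false
open Cfsg

namespace Cfsg.Agent.S4912

/-- Let G be a finite group with a non-abelian minimal normal subgroup N, and let φ be an irreducible complex character of N with stabilizer I in G such that φ extends to an irreducible character of I with Frobenius–Schur indicator +1. Put d = φ(1)·[G : I]. Then the number of linear characters of G with Frobenius–Schur indicator +1 is at most [G : I] times the number of irreducible characters of G of degree d with Frobenius–Schur indicator +1. -/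
theorem result {G : Type*} [Group G] [Finite G] (N : Subgroup G) (hN : N.Normal) (hN1 : N ≠ ⊥) (hmin : ∀ M : Subgroup G, M.Normal → M ≤ N → M = ⊥ ∨ M = N) (hna : ¬ IsMulCommutative ↥N) (φ : Cfsg.IrrCharacter ↥N) (I : Subgroup G) (hI : ∀ g : G, g ∈ I ↔ ∀ n n' : ↥N, (n' : G) = g * (n : G) * g⁻¹ → (φ : ↥N → ℂ) n' = (φ : ↥N → ℂ) n) (hNI : N ≤ I) (hext : ∃ ψ : Cfsg.IrrCharacter ↥I, (Nat.card ↥I : ℂ)⁻¹ * ∑ᶠ g : ↥I, (ψ : ↥I → ℂ) (g * g) = 1 ∧ ∀ n : ↥N, (ψ : ↥I → ℂ) (Subgroup.inclusion hNI n) = (φ : ↥N → ℂ) n) : Nat.card {χ : Cfsg.IrrCharacter G // Cfsg.charDegree (χ : G → ℂ) = 1 ∧ (Nat.card G : ℂ)⁻¹ * ∑ᶠ g : G, (χ : G → ℂ) (g * g) = 1} ≤ I.index * Nat.card {χ : Cfsg.IrrCharacter G // Cfsg.charDegree (χ : G → ℂ) = Cfsg.charDegree (φ : ↥N → ℂ) * I.index ∧ (Nat.card G : ℂ)⁻¹ * ∑ᶠ g : G, (χ : G → ℂ) (g * g) = 1} := by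
  classical
  have := Fintype.ofFinite G
  have := Fintype.ofFinite I
  have := Fintype.ofFinite N
  simp only [← Cfsg.Agent.Lib.Chars82.RealChars.nu_eq_finsum] at hext ⊢
  obtain ⟨ψ, hν, hψ⟩ := hext
  haveI := hN
  have hreal := Cfsg.Agent.Lib.Chars82.RealChars.real_of_nu_ne_zero (χ := ψ) (by rw [hν]; exact one_ne_zero)
  have hI' := Cfsg.Agent.Lib.Chars82.StableExtension.le_of_stabilizer N hI
  refine Cfsg.Agent.Lib.Chars82.StableExtension.card_linear_le N hI' ψ hψ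
    (Cfsg.Agent.Lib.Chars82.StableExtension.le_ker_of_minimal N hmin hna) _ _
    (fun χ hχ => ?_) (fun χ ξ hχ hξ hdeg => ⟨?_, ?_⟩)
  · rw [Cfsg.Agent.Lib.Blocks.char_one_eq_degree, hχ.1, Nat.cast_one]
  · rw [Cfsg.Agent.Lib.Blocks.char_one_eq_degree, Cfsg.Agent.Lib.Blocks.char_one_eq_degree,
      ← Nat.cast_mul, Nat.cast_inj] at hdeg
    exact hdeg
  · have h1 : (χ : G → ℂ) 1 = 1 := by
      rw [Cfsg.Agent.Lib.Blocks.char_one_eq_degree, hχ.1, Nat.cast_one]
    have hr := Cfsg.Agent.Lib.Chars82.RealChars.real_of_nu_ne_zero (χ := χ) (by rw [hχ.2]; exact one_ne_zero)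
    have hsq : ∀ s : G, (χ : G → ℂ) (s * s) = 1 := by
      intro s
      rw [Cfsg.Agent.Lib.Characters.Linear.apply_mul_of_degree_one
        (Cfsg.Agent.Lib.Characters.Basic.isCharacter_irr χ) h1]
      conv_lhs => arg 2; rw [← Complex.conj_eq_iff_im.mpr (hr s)]
      rw [← Cfsg.Agent.Lib.Characters.Basic.apply_inv (Cfsg.Agent.Lib.Characters.Basic.isCharacter_irr χ),
        ← Cfsg.Agent.Lib.Characters.Linear.apply_mul_of_degree_one
        (Cfsg.Agent.Lib.Characters.Basic.isCharacter_irr χ) h1, mul_inv_cancel, h1]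
    have hsame : Cfsg.Agent.Lib.Chars82.RealChars.nu (ξ : G → ℂ) =
        Cfsg.Agent.Lib.Chars82.RealChars.nu (Cfsg.indFun I (ψ : I → ℂ)) := by
      simp only [Cfsg.Agent.Lib.Chars82.RealChars.nu]
      congr 1
      exact Finset.sum_congr rfl fun s _ => by rw [hξ, hsq, one_mul]
    rw [hsame, Cfsg.Agent.Lib.Chars82.StableExtension.nu_indFun_eq N hI' ψ hreal hψ, hν]

end Cfsg.Agent.S4912
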