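import Cfsg.Statements.S4914
import Cfsg.Agent.Lib.RelGlauberman.Main
import Cfsg.Agent.Lib.Glauberman.Internal
import Cfsg.Agent.Lib.Chars82.PrincipalBlock

set_option autoImplicit false
open Cfsg

namespace Cfsg.Agent.S4914

/-- Let P and K be subgroups of a finite group G with P a p-group normalizing K, and suppose K has a normal Sylow p-subgroup Q. Let C be the subgroup of those k ∈ K whose commutator with every element of P lies in Q (so that C/Q is the fixed-point subgroup of P on K/Q). Then there is a bijection f from the P-invariant irreducible complex characters of K onto the P-invariant irreducible complex characters of C such that, for every P-invariant irreducible character χ of K, the multiplicity of f(χ) in the restriction of χ to C is a natural number congruent to 1 or to −1 modulo p, every other P-invariant irreducible character of C occurs in that restriction with multiplicity divisible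 by p, and the degrees of χ and f(χ) are congruent modulo p up to sign. -/
theorem result {G : Type*} [Group G] [Finite G] (p : ℕ) [Fact p.Prime] (P K Q C : Subgroup G) (hP : IsPGroup p ↥P) (hPK : P ≤ Subgroup.normalizer (K : Set G)) (hQK : Q ≤ K) (hQn : ∀ k ∈ K, ∀ q ∈ Q, k * q * k⁻¹ ∈ Q) (hQp : ∃ a : ℕ, Nat.card ↥Q = p ^ a) (hQsyl : ¬ p ∣ Q.relIndex K) (hCK : C ≤ K) (hC : ∀ k : G, k ∈ C ↔ (k ∈ K ∧ ∀ x ∈ P, x * k * x⁻¹ * k⁻¹ ∈ Q)) : ∃ f : {χ : Cfsg.IrrCharacter ↥K // (∀ x ∈ P, ∀ k k' : ↥K, (k' : G) = x * (k : G) * x⁻¹ → (χ : ↥K → ℂ) k' = (χ : ↥K → ℂ) k)} → {ξ : Cfsg.IrrCharacter ↥C // (∀ x ∈ P, ∀ k k' : ↥C, (k' : G) = x * (k : G) * x⁻¹ → (ξ : ↥C → ℂ) k' = (ξ : ↥C → ℂ) k)}, Function.Bijective f ∧ ∀ χ, (∀ ξ : {ξ : Cfsg.IrrCharacter ↥C // (∀ x ∈ P, ∀ k k' : ↥C, (k' : G) = x * (k : G) * x⁻¹ → (ξ : ↥C → ℂ) k' = (ξ : ↥C → ℂ) k)}, ∃ m : ℕ, (Nat.card ↥C : ℂ)⁻¹ * ∑ᶠ c : ↥C, (χ.1 : ↥K → ℂ) (Subgroup.inclusion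 hCK c) * (starRingEnd ℂ) ((ξ.1 : ↥C → ℂ) c) = (m : ℂ) ∧ (ξ = f χ → ((m : ZMod p) = 1 ∨ (m : ZMod p) = -1)) ∧ (ξ ≠ f χ → p ∣ m)) ∧ ((Cfsg.charDegree ((f χ).1 : ↥C → ℂ) : ZMod p) = (Cfsg.charDegree (χ.1 : ↥K → ℂ) : ZMod p) ∨ (Cfsg.charDegree ((f χ).1 : ↥C → ℂ) : ZMod p) = -(Cfsg.charDegree (χ.1 : ↥K → ℂ) : ZMod p)) := by
  classical
  have hnorm : ∀ x ∈ P, ∀ k ∈ K, x * k * x⁻¹ ∈ K :=
    fun x hx k hk => (Subgroup.mem_normalizer_iff.1 (hPK hx) k).1 hk
  let act := Lib.Glauberman.actOf hnorm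
  let Q' : Subgroup K := Q.subgroupOf K
  let C' : Subgroup K := C.subgroupOf K
  haveI := Fintype.ofFinite K
  haveI := Fintype.ofFinite C
  haveI := Fintype.ofFinite C'
  have hQ'n : Q'.Normal := ⟨fun q hq k => hQn k k.2 q hq⟩
  obtain ⟨a, ha⟩ := hQp
  have hcard : Nat.card Q' = p ^ a :=
    (Nat.card_congr (Subgroup.subgroupOfEquivOfLe hQK).toEquiv).trans ha
  have hidx : ¬ p ∣ Q'.index := hQsyl
  have hstable : ∀ s, ∀ x ∈ Q', act s x ∈ Q' := by
    intro s x hx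
    have h1 : x ^ p ^ a = 1 := by
      have h := pow_card_eq_one' (G := Q') (x := ⟨x, hx⟩)
      rw [hcard] at h
      exact congrArg Subtype.val h
    have h2 : ((act s x : K) : K ⧸ Q') ^ p ^ a = 1 := by
      rw [← QuotientGroup.mk_pow, ← map_pow, h1, map_one, QuotientGroup.mk_one]
    refine (QuotientGroup.eq_one_iff _).1 ?_
    rw [← orderOf_eq_one_iff]
    refine Nat.eq_one_of_dvd_coprimes (k := orderOf _) ?_ (orderOf_dvd_of_pow_eq_one h2)
      (orderOf_dvd_natCard _)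
    rw [← Subgroup.index_eq_card]
    exact Nat.Coprime.pow_left _ ((Fact.out : p.Prime).coprime_iff_not_dvd.2 hidx)
  have hfixed : ∀ x, x ∈ C' ↔ ∀ s, act s x * x⁻¹ ∈ Q' := by
    intro x
    constructor
    · intro hx s
      exact ((hC (x : G)).1 hx).2 s s.2
    · intro hx
      exact (hC (x : G)).2 ⟨x.2, fun y hy => hx ⟨y, hy⟩⟩
  have hset : Lib.RelGlauberman.Setting act p Q' C' := ⟨hP, hQ'n, hstable, hidx, ⟨a, hcard⟩, hfixed⟩
  obtain ⟨hex, hsurj, hinj⟩ := Lib.RelGlauberman.correspondence_main hset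
  let e : C' ≃* C := Subgroup.subgroupOfEquivOfLe hCK
  let down : Cfsg.IrrCharacter C' → Cfsg.IrrCharacter C := fun ξ =>
    ⟨(ξ : C' → ℂ) ∘ e.symm.toMonoidHom,
      Lib.Characters.Basic.isIrrCharacter_comp _ e.symm.surjective ξ.2⟩
  let up : Cfsg.IrrCharacter C → Cfsg.IrrCharacter C' := fun ξ =>
    ⟨(ξ : C → ℂ) ∘ e.toMonoidHom, Lib.Characters.Basic.isIrrCharacter_comp _ e.surjective ξ.2⟩
  have hud : ∀ ξ, up (down ξ) = ξ := fun ξ =>
    Subtype.ext (funext fun c => congrArg (ξ : C' → ℂ) (e.symm_apply_apply c))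
  have hdu : ∀ ξ, down (up ξ) = ξ := fun ξ =>
    Subtype.ext (funext fun c => congrArg (ξ : C → ℂ) (e.apply_symm_apply c))
  have hupinv : ∀ ξ : Cfsg.IrrCharacter C,
      (∀ x ∈ P, ∀ k k' : C, (k' : G) = x * (k : G) * x⁻¹ → (ξ : C → ℂ) k' = (ξ : C → ℂ) k) ↔
        Lib.RelGlauberman.InvOn act C' (up ξ : C' → ℂ) := by
    intro ξ
    constructor
    · intro h s x y hy
      exact h s s.2 (e x) (e y) (congrArg Subtype.val hy)
    · intro h x hx k k' hk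
      have h1 := h ⟨x, hx⟩ (e.symm k) (e.symm k') (Subtype.ext hk)
      simpa [up] using h1
  have hχinv : ∀ χ : Cfsg.IrrCharacter K,
      Lib.Glauberman.Inv act (χ : K → ℂ) ↔
        ∀ x ∈ P, ∀ k k' : K, (k' : G) = x * (k : G) * x⁻¹ → (χ : K → ℂ) k' = (χ : K → ℂ) k :=
    fun χ => Lib.Glauberman.inv_actOf_iff hnorm _
  have hmult : ∀ (χ : Cfsg.IrrCharacter K) (ξ : Cfsg.IrrCharacter C),
      (Nat.card C : ℂ)⁻¹ * ∑ᶠ c : C, (χ : K → ℂ) (Subgroup.inclusion hCK c) *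
        (starRingEnd ℂ) ((ξ : C → ℂ) c) = (Lib.Glauberman.mult C'.subtype χ (up ξ) : ℂ) := by
    intro χ ξ
    rw [finsum_eq_sum_of_fintype, ← Lib.Glauberman.coe_mult]
    show Cfsg.classInner (fun c : C => (χ : K → ℂ) (Subgroup.inclusion hCK c)) (ξ : C → ℂ) =
      Cfsg.classInner (fun c : C' => (χ : K → ℂ) c) ((ξ : C → ℂ) ∘ e)
    rw [Lib.RelGlauberman.classInner_transport]
    rfl
  choose g hginv hgpm hguniq hgdeg using fun χ : {χ : Cfsg.IrrCharacter K //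
    ∀ x ∈ P, ∀ k k' : K, (k' : G) = x * (k : G) * x⁻¹ → (χ : K → ℂ) k' = (χ : K → ℂ) k} =>
    hex χ.1 ((hχinv χ.1).2 χ.2)
  have hgnd : ∀ χ, ¬ p ∣ Lib.Glauberman.mult C'.subtype χ.1 (g χ) := by
    intro χ hd
    rcases hgpm χ with h | h <;> rw [(ZMod.natCast_eq_zero_iff _ _).2 hd] at h
    · exact zero_ne_one h
    · exact one_ne_zero (α := ZMod p) (neg_eq_zero.1 h.symm)
  refine ⟨fun χ => ⟨down (g χ), (hupinv _).2 (by rw [hud]; exact hginv χ)⟩, ⟨?_, ?_⟩, fun χ => ?_⟩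
  · intro χ χ' hh
    have h1 : g χ = g χ' := by
      rw [← hud (g χ), ← hud (g χ')]
      exact congrArg up (congrArg Subtype.val hh)
    exact Subtype.ext (hinj χ.1 χ'.1 (g χ) ((hχinv _).2 χ.2) ((hχinv _).2 χ'.2) (hginv χ)
      (hgnd χ) (h1 ▸ hgnd χ'))
  · rintro ⟨ξ, hξ⟩
    obtain ⟨χ, hχ, hm⟩ := hsurj (up ξ) ((hupinv ξ).1 hξ)
    refine ⟨⟨χ, (hχinv χ).1 hχ⟩, Subtype.ext ?_⟩
    show down (g _) = ξ
    rw [← hguniq ⟨χ, (hχinv χ).1 hχ⟩ (up ξ) ((hupinv ξ).1 hξ) hm, hdu]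
  · refine ⟨fun ξ => ⟨_, hmult χ.1 ξ.1, fun hξ => ?_, fun hξ => ?_⟩, ?_⟩
    · rw [hξ, hud]
      exact hgpm χ
    · by_contra hd
      apply hξ
      refine Subtype.ext ?_
      show ξ.1 = down (g χ)
      rw [← hguniq χ (up ξ.1) ((hupinv _).1 ξ.2) hd, hdu]
    · obtain ⟨d, hd⟩ := Lib.Characters.Basic.exists_degree
        (Lib.Characters.Basic.isCharacter_irr χ.1)
      obtain ⟨c, hc⟩ := Lib.Characters.Basic.exists_degree
        (Lib.Characters.Basic.isCharacter_irr (g χ))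
      have e1 : Cfsg.charDegree ((down (g χ) : Cfsg.IrrCharacter C) : C → ℂ) = c := by
        rw [Cfsg.charDegree, show ((down (g χ) : Cfsg.IrrCharacter C) : C → ℂ) 1 = c from by
          show (g χ : C' → ℂ) (e.symm 1) = _
          rw [map_one, hc], Complex.natCast_re, Nat.floor_natCast]
      have e2 : Cfsg.charDegree (χ.1 : K → ℂ) = d := by
        rw [Cfsg.charDegree, hd, Complex.natCast_re, Nat.floor_natCast]
      rw [e1, e2]
      exact hgdeg χ d c hd hc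

end Cfsg.Agent.S4914
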