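import Cfsg.Statements.S4923
import Cfsg.Agent.Lib.Chars82.FieldOfValues
import Cfsg.Agent.Lib.PGroups.MaximalClass

set_option autoImplicit false
open Cfsg

namespace Cfsg.Agent.S4923

open Cfsg.Agent.Lib.BC78.Galois Cfsg.Agent.Lib.Chars82.FieldOfValues
open scoped commutatorElement

theorem eq_or_of_add_inv {a b : ℂ} (ha : a ≠ 0) (hb : b ≠ 0) :
    a + a⁻¹ = b + b⁻¹ ↔ a = b ∨ a = b⁻¹ := by
  constructor
  · intro h
    have h1 : (a - b) * (a * b - 1) = 0 := by
      have : (a + a⁻¹) * (a * b) = (b + b⁻¹) * (a * b) := by rw [h]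
      field_simp at this
      linear_combination this
    rcases mul_eq_zero.1 h1 with h2 | h2
    · exact Or.inl (sub_eq_zero.1 h2)
    · exact Or.inr (eq_inv_of_mul_eq_one_left (sub_eq_zero.1 h2))
  · rintro (rfl | rfl)
    · rfl
    · rw [inv_inv, add_comm]

theorem eq_or_of_sub_inv {a b : ℂ} (ha : a ≠ 0) (hb : b ≠ 0) :
    a - a⁻¹ = b - b⁻¹ ↔ a = b ∨ a = -b⁻¹ := by
  constructor
  · intro h
    have h1 : (a - b) * (a * b + 1) = 0 := by
      have : (a - a⁻¹) * (a * b) = (b - b⁻¹) * (a * b) := by rw [h]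
      field_simp at this
      linear_combination this
    rcases mul_eq_zero.1 h1 with h2 | h2
    · exact Or.inl (sub_eq_zero.1 h2)
    · refine Or.inr ?_
      rw [← inv_neg]
      exact eq_inv_of_mul_eq_one_left (by linear_combination -h2)
  · rintro (rfl | rfl)
    · rfl
    · rw [inv_neg, inv_inv]
      ring

theorem fixes_add {σ : Alg ≃ₐ[ℚ] Alg} {ζ w : ℂ} (hζ : ζ ≠ 0) (hw : w ≠ 0) (hA : ζ ∈ Alg)
    (hσ : ((σ ⟨ζ, hA⟩ : Alg) : ℂ) = w) :
    Fixes σ (ζ + ζ⁻¹) ↔ w = ζ ∨ w = ζ⁻¹ := by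
  have hm : ζ + ζ⁻¹ ∈ Alg := add_mem hA (inv_mem hA)
  have hv : ((σ ⟨ζ + ζ⁻¹, hm⟩ : Alg) : ℂ) = w + w⁻¹ := by
    rw [show (⟨ζ + ζ⁻¹, hm⟩ : Alg) = ⟨ζ, hA⟩ + (⟨ζ, hA⟩ : Alg)⁻¹ from Subtype.ext (by push_cast; rfl),
      map_add, map_inv₀]
    push_cast
    rw [hσ]
  rw [← eq_or_of_add_inv hw hζ, ← hv]
  exact ⟨fun h => h hm, fun h _ => h⟩

theorem fixes_sub {σ : Alg ≃ₐ[ℚ] Alg} {ζ w : ℂ} (hζ : ζ ≠ 0) (hw : w ≠ 0) (hA : ζ ∈ Alg)
    (hσ : ((σ ⟨ζ, hA⟩ : Alg) : ℂ) = w) :
    Fixes σ (ζ - ζ⁻¹) ↔ w = ζ ∨ w = -ζ⁻¹ := by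
  have hm : ζ - ζ⁻¹ ∈ Alg := sub_mem hA (inv_mem hA)
  have hv : ((σ ⟨ζ - ζ⁻¹, hm⟩ : Alg) : ℂ) = w - w⁻¹ := by
    rw [show (⟨ζ - ζ⁻¹, hm⟩ : Alg) = ⟨ζ, hA⟩ - (⟨ζ, hA⟩ : Alg)⁻¹ from Subtype.ext (by push_cast; rfl),
      map_sub, map_inv₀]
    push_cast
    rw [hσ]
  rw [← eq_or_of_sub_inv hw hζ, ← hv]
  exact ⟨fun h => h hm, fun h _ => h⟩

/-- A group of order `8` that is not commutative has derived subgroup of index `4`. -/
theorem index_commutator_of_card_eight {X : Type*} [Group X] [Finite X] (hX : Nat.card X = 8)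
    (hnc : ¬ IsMulCommutative X) : (commutator X).index = 4 := by
  haveI : Fact (Nat.Prime 2) := ⟨Nat.prime_two⟩
  have hG : IsPGroup 2 X := IsPGroup.of_card (n := 3) (by rw [hX]; norm_num)
  have hne : commutator X ≠ ⊥ := Cfsg.Agent.Lib.PGroups.commutator_ne_bot_of_noncomm hnc
  have hmul : (Subgroup.center X).index * Nat.card (Subgroup.center X) = 8 := by
    rw [mul_comm, Subgroup.card_mul_index, hX]
  obtain ⟨k, hk⟩ := IsPGroup.iff_card.mp (hG.to_subgroup (Subgroup.center X))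
  obtain ⟨m, hm⟩ := IsPGroup.iff_card.mp (hG.to_quotient (Subgroup.center X))
  rw [Subgroup.index_eq_card, hm, hk, ← pow_add, show (8 : ℕ) = 2 ^ 3 by norm_num] at hmul
  have hmk : m + k = 3 := Nat.pow_right_injective le_rfl hmul
  haveI : Nontrivial X := Finite.one_lt_card_iff_nontrivial.mp (by rw [hX]; norm_num)
  have hk1 : k = 1 := by
    have h1 : 1 ≤ k := by
      by_contra h
      have h2 := hG.center_nontrivial
      have h3 := Finite.one_lt_card (α := Subgroup.center X)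
      rw [hk, show k = 0 by omega, pow_zero] at h3
      omega
    by_contra hk'
    apply hnc
    haveI : IsCyclic (X ⧸ Subgroup.center X) := by
      rcases Nat.lt_or_ge m 1 with h0 | h0
      · obtain rfl : m = 0 := by omega
        have : Subsingleton (X ⧸ Subgroup.center X) :=
          (Nat.card_eq_one_iff_unique.mp (by simpa using hm)).1
        infer_instance
      · obtain rfl : m = 1 := by omega
        exact isCyclic_of_prime_card (by simpa using hm)
    exact ⟨⟨commutative_of_cyclic_center_quotient (QuotientGroup.mk' (Subgroup.center X))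
      (QuotientGroup.ker_mk' _).le⟩⟩
  subst hk1
  obtain rfl : m = 2 := by omega
  haveI := IsPGroup.isMulCommutative_of_card_eq_prime_sq (p := 2) hm
  have hle : commutator X ≤ Subgroup.center X := by
    rw [commutator_def, Subgroup.commutator_le]
    intro a _ b _
    rw [← QuotientGroup.eq_one_iff, ← QuotientGroup.mk'_apply, map_commutatorElement,
      commutatorElement_eq_one_iff_mul_comm]
    exact mul_comm' _ _
  have heq : commutator X = Subgroup.center X := by
    refine Subgroup.eq_of_le_of_card_ge hle ?_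
    rw [hk]
    rcases (Nat.dvd_prime Nat.prime_two).mp ((Subgroup.card_dvd_of_le hle).trans
      (dvd_of_eq (hk.trans (pow_one 2)))) with h | h
    · exact absurd (Subgroup.eq_bot_of_card_eq _ h) hne
    · rw [h]; norm_num
  rw [heq, Subgroup.index_eq_card, hm]
  norm_num

/-- The arithmetic of involutory units modulo a power of two. -/
theorem dvd_two_mul_succ {n k : ℕ} (hn : 3 ≤ n) (hk : Odd k) (hsq : 2 ^ (n - 1) ∣ k ^ 2 - 1)
    (h : 4 ≤ n → ¬ 2 ^ (n - 1) ∣ 2 * (k - 1)) : 2 ^ (n - 1) ∣ 2 * (k + 1) := by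
  obtain ⟨a, rfl⟩ := hk
  have hN : 2 ^ (n - 1) = 4 * 2 ^ (n - 3) := by
    rw [show n - 1 = 2 + (n - 3) by omega, pow_add]
    norm_num
  have h1 : (2 * a + 1) ^ 2 - 1 = 4 * (a * (a + 1)) := by
    rw [show (2 * a + 1) ^ 2 = 4 * (a * (a + 1)) + 1 by ring, Nat.add_sub_cancel]
  have h2 : 2 ^ (n - 3) ∣ a * (a + 1) := by
    rw [h1, hN] at hsq
    exact Nat.dvd_of_mul_dvd_mul_left (by norm_num) hsq
  rcases Nat.even_or_odd a with ha | ha
  · rcases Nat.lt_or_ge n 4 with hn4 | hn4
    · rw [hN, show n - 3 = 0 by omega]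
      exact ⟨a + 1, by ring⟩
    · exfalso
      refine h hn4 ?_
      have : (2 ^ (n - 3)).Coprime (a + 1) :=
        Nat.Coprime.pow_left _ (Nat.coprime_two_left.2 ha.add_one)
      rw [hN, show 2 * (2 * a + 1 - 1) = 4 * a by omega]
      exact Nat.mul_dvd_mul_left 4 (this.dvd_of_dvd_mul_right h2)
  · have : (2 ^ (n - 3)).Coprime a := Nat.Coprime.pow_left _ (Nat.coprime_two_left.2 ha)
    rw [hN, show 2 * (2 * a + 1 + 1) = 4 * (a + 1) by omega]
    exact Nat.mul_dvd_mul_left 4 (this.dvd_of_dvd_mul_left h2)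

theorem conj_eq_pow_of_mem {G : Type*} [Group G] [Finite G] {g y : G}
    (h : y * g * y⁻¹ ∈ Subgroup.zpowers g) : ∃ j : ℕ, y * g * y⁻¹ = g ^ j := by
  rw [← mem_powers_iff_mem_zpowers, Submonoid.mem_powers_iff] at h
  obtain ⟨j, hj⟩ := h
  exact ⟨j, hj.symm⟩

theorem coprime_of_conj {G : Type*} [Group G] [Finite G] {g y : G} {j : ℕ}
    (h : y * g * y⁻¹ = g ^ j) : (orderOf g).Coprime j := by
  have h1 : orderOf (g ^ j) = orderOf g := by
    rw [← h, orderOf_injective (MulAut.conj y).toMonoidHom (MulAut.conj y).injective g |>.symm]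
    rfl
  rw [orderOf_pow] at h1
  by_contra hc
  have h2 : (orderOf g).gcd j ≠ 1 := hc
  have hp := orderOf_pos g
  have h3 : 1 < (orderOf g).gcd j := by
    have := Nat.gcd_pos_of_pos_left j hp
    omega
  have := Nat.div_lt_self hp h3
  omega

theorem forward {G : Type*} [Group G] [Finite G] (P : Sylow 2 G) (n : ℕ) (hn : 3 ≤ n)
    (hP : Nat.card P = 2 ^ n) (ζ : ℂ) (hζ : IsPrimitiveRoot ζ (2 ^ (n - 1)))
    (hd : (commutator ↥P).index = 4) :
    ∃ g : G, g ∈ (P : Subgroup G) ∧ 2 ∣ (Subgroup.centralizer ({g} : Set G)).index ∧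
      (IntermediateField.adjoin ℚ (valueSet g) = IntermediateField.adjoin ℚ ({ζ + ζ⁻¹} : Set ℂ) ∨
        IntermediateField.adjoin ℚ (valueSet g) =
          IntermediateField.adjoin ℚ ({ζ - ζ⁻¹} : Set ℂ)) := by
  haveI : Fact (Nat.Prime 2) := ⟨Nat.prime_two⟩
  obtain ⟨C, hC, hCi⟩ := Cfsg.Agent.Lib.PGroups.exists_cyclic_index_two n hn hP hd
  obtain ⟨c, hc⟩ := (C.isCyclic_iff_exists_zpowers_eq_top).mp hC
  set g : G := (c : G) with hgdef
  set N := 2 ^ (n - 1) with hN
  have hcard : Nat.card C = N := by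
    have h := C.card_mul_index
    rw [hCi, hP, show n = n - 1 + 1 by omega, pow_succ] at h
    exact Nat.eq_of_mul_eq_mul_right two_pos h
  have hordc : orderOf c = N := by rw [← Nat.card_zpowers, hc, hcard]
  have hord : orderOf g = N := by rw [hgdef, Subgroup.orderOf_coe, hordc]
  have hζ0 : ζ ≠ 0 := hζ.ne_zero (pow_ne_zero _ two_ne_zero)
  have hζA : ζ ∈ Alg := mem_alg_of_pow_eq_one (pow_pos two_pos _) hζ.pow_eq_one
  have hsame : ∀ i j : ℕ, g ^ i = g ^ j ↔ ζ ^ i = ζ ^ j := fun i j => by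
    rw [pow_eq_pow_iff_modEq, hord, (hζ.isOfFinOrder (pow_ne_zero _ two_ne_zero)).pow_eq_pow_iff_modEq,
      ← hζ.eq_orderOf]
  have hCn : C.Normal := Subgroup.normal_of_index_eq_two hCi
  obtain ⟨x, hx⟩ : ∃ x : (P : Subgroup G), x ∉ C := by
    by_contra! h
    have : C = ⊤ := eq_top_iff.mpr fun x _ => h x
    rw [this, Subgroup.index_top] at hCi
    omega
  have hcC : c ∈ C := hc ▸ Subgroup.mem_zpowers c
  obtain ⟨k, hk⟩ : ∃ k : ℕ, x * c * x⁻¹ = c ^ k :=
    conj_eq_pow_of_mem (by rw [hc]; exact hCn.conj_mem c hcC x)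
  have hkG : (x : G) * g * (x : G)⁻¹ = g ^ k := by
    rw [hgdef, ← Subgroup.coe_pow, ← hk]
    simp
  -- the action is a nontrivial involution
  have hCc : IsMulCommutative C := hC.isMulCommutative
  have hk2 : c ^ (k ^ 2) = c := by
    have hx2 : x * x ∈ C := by have := C.pow_index_mem x; rwa [hCi, sq] at this
    have h1 : (x * x) * c = c * (x * x) := setLike_mul_comm hx2 hcC
    rw [sq, pow_mul, ← hk, conj_pow, ← hk]
    calc x * (x * c * x⁻¹) * x⁻¹ = (x * x) * c * (x * x)⁻¹ := by group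
      _ = c := by rw [h1]; group
  have hkodd : Odd k := by
    have h := coprime_of_conj hkG
    rw [hord, hN, Nat.coprime_pow_left_iff (by omega), Nat.coprime_two_left] at h
    exact h
  have hZeq := Cfsg.Agent.Lib.PGroups.center_eq_fixed hn hP hd C hC hCi x hx
  have hZ2 := Cfsg.Agent.Lib.PGroups.card_center_eq_two hn hP hd
  have hne : c ^ k ≠ c := by
    intro h
    have hcz : c ∈ Subgroup.center P := by
      rw [hZeq]
      refine ⟨hcC, Subgroup.mem_centralizer_singleton_iff.mpr ?_⟩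
      rw [← hk] at h
      exact (mul_inv_eq_iff_eq_mul.mp h).symm
    have h1 := Subgroup.card_dvd_of_le (Subgroup.zpowers_le.2 hcz)
    rw [Nat.card_zpowers, hordc, hZ2] at h1
    have h2 : 2 ^ 2 ≤ N := Nat.pow_le_pow_right two_pos (by omega)
    have := Nat.le_of_dvd two_pos h1
    omega
  have hk1 : 1 ≤ k := hkodd.pos
  have hdiv : N ∣ 2 * (k + 1) := by
    refine dvd_two_mul_succ hn hkodd ?_ ?_
    · show N ∣ _
      rw [← hordc]
      exact (Nat.modEq_iff_dvd' (Nat.one_le_pow _ _ hk1)).1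
        (pow_eq_pow_iff_modEq.1 (by rw [pow_one, hk2]))
    · intro hn4 h
      have h1 : (c ^ 2) ^ k = c ^ 2 := by
        rw [← pow_mul]
        refine pow_eq_pow_iff_modEq.2 (Nat.ModEq.symm ((Nat.modEq_iff_dvd' (by omega)).2 ?_))
        rw [hordc, hN, show 2 * k - 2 = 2 * (k - 1) by omega]
        exact h
      have hcz : c ^ 2 ∈ Subgroup.center P := by
        rw [hZeq]
        refine ⟨C.pow_mem hcC 2, Subgroup.mem_centralizer_singleton_iff.mpr ?_⟩
        rw [← pow_mul, mul_comm, pow_mul, ← hk, conj_pow] at h1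
        exact (mul_inv_eq_iff_eq_mul.mp h1).symm
      have h2 := Subgroup.card_dvd_of_le (Subgroup.zpowers_le.2 hcz)
      rw [Nat.card_zpowers, hZ2, orderOf_pow, hordc, hN,
        Nat.gcd_eq_right (dvd_pow_self 2 (by omega))] at h2
      have h3 : 2 ^ (n - 1) / 2 = 2 ^ (n - 2) := by
        rw [show n - 1 = n - 2 + 1 by omega, pow_succ, Nat.mul_div_cancel _ two_pos]
      rw [h3] at h2
      have h4 : 2 ^ 2 ≤ 2 ^ (n - 2) := Nat.pow_le_pow_right two_pos (by omega)
      have := Nat.le_of_dvd two_pos h2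
      omega
  have hζk : ζ ^ k = ζ⁻¹ ∨ ζ ^ k = -ζ⁻¹ := by
    have h1 : (ζ ^ (k + 1)) ^ 2 = 1 := by
      rw [← pow_mul, mul_comm]
      exact (hζ.pow_eq_one_iff_dvd _).2 hdiv
    rcases sq_eq_one_iff.1 h1 with h | h
    · exact Or.inl (eq_inv_of_mul_eq_one_left (by rwa [← pow_succ]))
    · refine Or.inr ?_
      rw [← inv_neg]
      exact eq_inv_of_mul_eq_one_left (by rw [mul_neg, ← pow_succ, h, neg_neg])
  -- the normalizer acts through `P`
  set H : Subgroup G := Subgroup.normalizer (Subgroup.zpowers g : Set G) with hH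
  set K : Subgroup G := Subgroup.centralizer ({g} : Set G) with hK
  have hPH : (P : Subgroup G) ≤ H := by
    intro p hp
    rw [hH, Subgroup.mem_normalizer_iff]
    have key : ∀ q : (P : Subgroup G), ∀ h ∈ Subgroup.zpowers g,
        (q : G) * h * (q : G)⁻¹ ∈ Subgroup.zpowers g := by
      rintro q _ ⟨i, rfl⟩
      have : q * c ^ i * q⁻¹ ∈ Subgroup.zpowers c := by
        rw [hc]
        exact hCn.conj_mem _ (C.zpow_mem hcC i) q
      obtain ⟨e, he⟩ := this
      exact ⟨e, by simpa using congrArg Subtype.val he⟩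
    intro h
    refine ⟨key ⟨p, hp⟩ h, fun h' => ?_⟩
    have := key (⟨p, hp⟩ : (P : Subgroup G))⁻¹ _ h'
    simpa [mul_assoc] using this
  have hact : ∀ y ∈ H, ∃ j : ℕ, y * g * y⁻¹ = g ^ j := fun y hy =>
    conj_eq_pow_of_mem ((Subgroup.mem_normalizer_iff.1 hy g).1 (Subgroup.mem_zpowers g))
  haveI hKn : (K.subgroupOf H).Normal := ⟨fun a ha b => by
    obtain ⟨j, hj⟩ := hact _ (H.inv_mem b.2)
    simp only [Subgroup.mem_subgroupOf, Subgroup.coe_mul, Subgroup.coe_inv, hK,
      Subgroup.mem_centralizer_singleton_iff] at ha ⊢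
    rw [inv_inv] at hj
    have h1 : Commute (a : G) ((b : G)⁻¹ * g * b) := hj ▸ Commute.pow_right ha j
    calc (b : G) * a * (b : G)⁻¹ * g = b * (a * ((b : G)⁻¹ * g * b)) * (b : G)⁻¹ := by group
      _ = b * (((b : G)⁻¹ * g * b) * a) * (b : G)⁻¹ := by rw [h1.eq]
      _ = g * (b * a * (b : G)⁻¹) := by group⟩
  have hpg : IsPGroup 2 (H ⧸ K.subgroupOf H) := by
    intro q
    obtain ⟨y, rfl⟩ := QuotientGroup.mk'_surjective _ q
    refine ⟨n - 2, ?_⟩
    rw [← map_pow, QuotientGroup.mk'_apply, QuotientGroup.eq_one_iff, Subgroup.mem_subgroupOf, hK,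
      Subgroup.mem_centralizer_singleton_iff]
    obtain ⟨j, hj⟩ := hact _ y.2
    have h1 : ∀ i : ℕ, ((y : G) ^ i) * g * ((y : G) ^ i)⁻¹ = g ^ (j ^ i) := by
      intro i
      induction i with
      | zero => simp
      | succ i ih =>
        calc (y : G) ^ (i + 1) * g * ((y : G) ^ (i + 1))⁻¹
            = y * ((y : G) ^ i * g * ((y : G) ^ i)⁻¹) * (y : G)⁻¹ := by
              rw [pow_succ']; group
          _ = g ^ (j ^ (i + 1)) := by rw [ih, ← conj_pow, hj, ← pow_mul, pow_succ']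
    have h2 := h1 (2 ^ (n - 2))
    have h3 : g ^ (j ^ 2 ^ (n - 2)) = g := by
      conv_rhs => rw [← pow_one g]
      rw [pow_eq_pow_iff_modEq, hord, hN]
      have h4 := Nat.ModEq.pow_totient (coprime_of_conj hj).symm
      rw [hord, hN, Nat.totient_prime_pow Nat.prime_two (by omega),
        show 2 - 1 = 1 by norm_num, mul_one, show n - 1 - 1 = n - 2 by omega] at h4
      exact h4
    rw [h3] at h2
    rw [Subgroup.coe_pow]
    exact mul_inv_eq_iff_eq_mul.mp h2
  obtain ⟨b, hb⟩ := IsPGroup.iff_card.mp hpg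
  have hPodd : ¬ 2 ∣ (P : Subgroup G).index := P.not_dvd_index
  have htop : (P : Subgroup G).subgroupOf H ⊔ K.subgroupOf H = ⊤ := by
    rw [← Subgroup.index_eq_one]
    have h1 := Subgroup.index_dvd_of_le (le_sup_left :
      (P : Subgroup G).subgroupOf H ≤ (P : Subgroup G).subgroupOf H ⊔ K.subgroupOf H)
    have h2 := Subgroup.index_dvd_of_le (le_sup_right :
      K.subgroupOf H ≤ (P : Subgroup G).subgroupOf H ⊔ K.subgroupOf H)
    rw [Subgroup.index_eq_card (K.subgroupOf H), hb, Nat.dvd_prime_pow Nat.prime_two] at h2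
    obtain ⟨i, -, hi⟩ := h2
    rcases Nat.eq_zero_or_pos i with rfl | hipos
    · simpa using hi
    · exfalso
      apply hPodd
      rw [← Subgroup.relIndex_mul_index hPH]
      refine Dvd.dvd.mul_right ?_ _
      exact (dvd_pow_self 2 hipos.ne').trans (hi ▸ h1)
  have hconj : ∀ y ∈ H, y * g * y⁻¹ = g ∨ y * g * y⁻¹ = g ^ k := by
    intro y hy
    have hy' : (⟨y, hy⟩ : H) ∈ (P : Subgroup G).subgroupOf H ⊔ K.subgroupOf H := htop ▸ trivial
    rw [Subgroup.mem_sup_of_normal_right] at hy'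
    obtain ⟨p, hp, z, hz, hpz⟩ := hy'
    have hpz' : (p : G) * z = y := congrArg Subtype.val hpz
    rw [Subgroup.mem_subgroupOf] at hp hz
    rw [hK, Subgroup.mem_centralizer_singleton_iff] at hz
    have h1 : y * g * y⁻¹ = (p : G) * g * (p : G)⁻¹ := by
      rw [← hpz', mul_inv_rev, mul_assoc (p : G), hz]; group
    rw [h1]
    set p' : (P : Subgroup G) := ⟨p, hp⟩ with hp'
    by_cases hpC : p' ∈ C
    · left
      have h2 : p' * c = c * p' := setLike_mul_comm hpC hcC
      have h3 : (p : G) * g = g * p := congrArg Subtype.val h2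
      rw [h3, mul_inv_cancel_right]
    · right
      have h2 : x⁻¹ * p' ∈ C := by
        rw [Subgroup.mul_mem_iff_of_index_two hCi, Subgroup.inv_mem_iff]
        exact iff_of_false hx hpC
      have h4 : (x⁻¹ * p') * c = c * (x⁻¹ * p') := setLike_mul_comm h2 hcC
      have h5 : ((x : G)⁻¹ * p) * g = g * ((x : G)⁻¹ * p) := congrArg Subtype.val h4
      rw [← hkG]
      calc (p : G) * g * (p : G)⁻¹
          = x * (((x : G)⁻¹ * p) * g) * ((x : G)⁻¹ * p)⁻¹ * (x : G)⁻¹ := by group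
        _ = x * g * (x : G)⁻¹ := by rw [h5]; group
  refine ⟨g, c.2, ?_, ?_⟩
  · by_contra hodd
    have h1 : (K.subgroupOf H).index = 1 := by
      have hKH : K ≤ H := by
        intro z hz
        rw [hK, Subgroup.mem_centralizer_singleton_iff] at hz
        rw [hH, Subgroup.mem_normalizer_iff]
        intro h
        have h1 : z * g * z⁻¹ = g := by rw [hz, mul_inv_cancel_right]
        constructor
        · rintro ⟨i, rfl⟩
          exact ⟨i, by rw [← conj_zpow, h1]⟩
        · rintro ⟨i, hi⟩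
          refine ⟨i, ?_⟩
          have h2 : z * g ^ i * z⁻¹ = z * h * z⁻¹ := by rw [← conj_zpow, h1]; exact hi
          exact mul_left_cancel (mul_right_cancel h2)
      have h2 : (K.subgroupOf H).index ∣ K.index := by
        rw [← Subgroup.relIndex_mul_index hKH]
        exact dvd_mul_right _ _
      rw [Subgroup.index_eq_card (K.subgroupOf H), hb] at h2 ⊢
      rcases Nat.eq_zero_or_pos b with rfl | hbpos
      · rfl
      · exact absurd ((dvd_pow_self 2 hbpos.ne').trans h2) hodd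
    rw [Subgroup.index_eq_one] at h1
    apply hne
    have h3 : (⟨x, hPH x.2⟩ : H) ∈ K.subgroupOf H := h1 ▸ trivial
    rw [Subgroup.mem_subgroupOf, hK, Subgroup.mem_centralizer_singleton_iff] at h3
    apply Subtype.ext
    rw [← hk]
    push_cast
    rw [h3, mul_inv_cancel_right]
  · have hcase : ∀ (σ : Alg ≃ₐ[ℚ] Alg), ∃ w : ℂ, w ≠ 0 ∧ ((σ ⟨ζ, hζA⟩ : Alg) : ℂ) = w ∧
        ((∀ z ∈ valueSet g, Fixes σ z) ↔ w = ζ ∨ w = ζ ^ k) := by
      intro σ
      obtain ⟨j, hj, hjζ, hjfix⟩ := exists_exponent_fixes (G := G) σ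
      have hζG : ζ ^ Nat.card G = 1 := by
        rw [hζ.pow_eq_one_iff_dvd, ← hord]
        exact orderOf_dvd_natCard g
      refine ⟨ζ ^ j, pow_ne_zero _ hζ0, hjζ ζ hζG hζA, ?_⟩
      rw [hjfix g]
      have hjN : j.Coprime (orderOf g) :=
        hj.coprime_dvd_right (orderOf_dvd_natCard g)
      constructor
      · intro h
        obtain ⟨y, hy⟩ := isConj_iff.1 h.symm
        have hzp : Subgroup.zpowers (g ^ j) = Subgroup.zpowers g := by
          refine Subgroup.eq_of_le_of_card_ge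
            (Subgroup.zpowers_le.2 (Subgroup.pow_mem _ (Subgroup.mem_zpowers g) j)) ?_
          rw [Nat.card_zpowers, Nat.card_zpowers, hjN.symm.orderOf_pow]
        have hyH : y ∈ H := by
          rw [hH, Subgroup.mem_normalizer_iff]
          intro z
          constructor
          · rintro ⟨i, rfl⟩
            rw [← hzp]
            exact ⟨i, by rw [← conj_zpow, hy]⟩
          · intro hz
            rw [← hzp] at hz
            obtain ⟨i, hi⟩ := hz
            refine ⟨i, ?_⟩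
            have h2 : y * g ^ i * y⁻¹ = y * z * y⁻¹ := by rw [← conj_zpow, hy]; exact hi
            exact mul_left_cancel (mul_right_cancel h2)
        rcases hconj y hyH with h1 | h1
        · left
          rw [hy] at h1
          exact ((hsame j 1).1 (by rw [pow_one, h1])).trans (pow_one ζ)
        · right
          rw [hy] at h1
          exact (hsame j k).1 h1
      · rintro (h | h)
        · rw [(hsame j 1).2 (by rw [pow_one, h]), pow_one]
        · rw [(hsame j k).2 h]
          exact isConj_iff.2 ⟨(x : G)⁻¹, by rw [← hkG]; group⟩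
    have hsub1 : ({ζ + ζ⁻¹} : Set ℂ) ⊆ (Alg : Set ℂ) :=
      Set.singleton_subset_iff.2 (add_mem hζA (inv_mem hζA))
    have hsub2 : ({ζ - ζ⁻¹} : Set ℂ) ⊆ (Alg : Set ℂ) :=
      Set.singleton_subset_iff.2 (sub_mem hζA (inv_mem hζA))
    rcases hζk with hk' | hk'
    · left
      refine adjoin_eq_of_fixes (valueSet_subset g) hsub1 fun σ => ?_
      obtain ⟨w, hw0, hwσ, hiff⟩ := hcase σ
      rw [hiff, hk']; simp only [Set.mem_singleton_iff, forall_eq]; rw [fixes_add hζ0 hw0 hζA hwσ]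
    · right
      refine adjoin_eq_of_fixes (valueSet_subset g) hsub2 fun σ => ?_
      obtain ⟨w, hw0, hwσ, hiff⟩ := hcase σ
      rw [hiff, hk']; simp only [Set.mem_singleton_iff, forall_eq]; rw [fixes_sub hζ0 hw0 hζA hwσ]

theorem backward {G : Type*} [Group G] [Finite G] (P : Sylow 2 G) (n : ℕ) (hn : 3 ≤ n)
    (hP : Nat.card P = 2 ^ n) (ζ : ℂ) (hζ : IsPrimitiveRoot ζ (2 ^ (n - 1))) (g : G)
    (hgP : g ∈ (P : Subgroup G)) (heven : 2 ∣ (Subgroup.centralizer ({g} : Set G)).index)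
    (hfield : IntermediateField.adjoin ℚ (valueSet g) =
        IntermediateField.adjoin ℚ ({ζ + ζ⁻¹} : Set ℂ) ∨
      IntermediateField.adjoin ℚ (valueSet g) = IntermediateField.adjoin ℚ ({ζ - ζ⁻¹} : Set ℂ)) :
    (commutator (P : Subgroup G)).index = 4 := by
  haveI : Fact (Nat.Prime 2) := ⟨Nat.prime_two⟩
  set c : (P : Subgroup G) := ⟨g, hgP⟩ with hcdef
  -- `g` is not central in `P`
  obtain ⟨x, hx⟩ : ∃ x : (P : Subgroup G), x * c ≠ c * x := by
    by_contra! h
    have hle : (P : Subgroup G) ≤ Subgroup.centralizer ({g} : Set G) := fun p hp =>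
      Subgroup.mem_centralizer_singleton_iff.2 (congrArg Subtype.val (h ⟨p, hp⟩))
    exact P.not_dvd_index (heven.trans (Subgroup.index_dvd_of_le hle))
  have hnc : ¬ IsMulCommutative (P : Subgroup G) := fun h => hx (h.is_comm.comm x c)
  rcases Nat.lt_or_ge n 4 with hn4 | hn4
  · obtain rfl : n = 3 := by omega
    exact index_commutator_of_card_eight (X := (P : Subgroup G)) (by rw [hP]; norm_num) hnc
  set N := 2 ^ (n - 1) with hN
  have hζ0 : ζ ≠ 0 := hζ.ne_zero (pow_ne_zero _ two_ne_zero)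
  have hζA : ζ ∈ Alg := mem_alg_of_pow_eq_one (pow_pos two_pos _) hζ.pow_eq_one
  have hNG : N ∣ Nat.card G := by
    refine (pow_dvd_pow 2 (Nat.sub_le n 1)).trans ?_
    rw [← hP]
    exact Subgroup.card_subgroup_dvd_card _
  -- fixing the values forces one of three actions on `ζ`
  have key : ∀ (k : ℕ), Odd k → (∀ j : ℕ, ζ ^ j = ζ ^ k → IsConj (g ^ j) g) →
      ζ ^ k = ζ ∨ ζ ^ k = ζ⁻¹ ∨ ζ ^ k = -ζ⁻¹ := by
    intro k hk hconj
    obtain ⟨σ, hσ⟩ := exists_aut_pow (pow_pos two_pos (n - 1))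
      (Nat.Coprime.pow_right _ (Nat.coprime_two_right.2 hk)) hζ hζA
    obtain ⟨j, hj, hjζ, hjfix⟩ := exists_exponent_fixes (G := G) σ
    have hjk : ζ ^ j = ζ ^ k := by
      rw [← hσ, hjζ ζ ((hζ.pow_eq_one_iff_dvd _).2 hNG) hζA]
    have hfix := (hjfix g).2 (hconj j hjk)
    have hw0 : ζ ^ k ≠ 0 := pow_ne_zero _ hζ0
    rcases hfield with h | h
    · rcases (fixes_add hζ0 hw0 hζA hσ).1
        (fixes_of_adjoin_eq (valueSet_subset g) h hfix rfl) with h' | h'
      · exact Or.inl h'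
      · exact Or.inr (Or.inl h')
    · rcases (fixes_sub hζ0 hw0 hζA hσ).1
        (fixes_of_adjoin_eq (valueSet_subset g) h hfix rfl) with h' | h'
      · exact Or.inl h'
      · exact Or.inr (Or.inr h')
  obtain ⟨a, ha⟩ := IsPGroup.iff_orderOf.mp P.2 c
  have hord : orderOf g = 2 ^ a := by rw [← ha, hcdef, Subgroup.orderOf_mk]
  have hfour : ∀ z : ℕ, ζ ^ z = 1 → N ∣ z := fun z h => (hζ.pow_eq_one_iff_dvd z).1 h
  have han : a = n - 1 := by
    have hle : a ≤ n := by
      have := (orderOf_dvd_natCard c).trans (dvd_of_eq hP)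
      rw [ha] at this
      exact (Nat.pow_dvd_pow_iff_le_right one_lt_two).1 this
    have hne : a ≠ n := by
      intro han
      apply hnc
      have htop : Subgroup.zpowers c = ⊤ :=
        Subgroup.eq_top_of_le_card _ (by rw [Nat.card_zpowers, ha, han, hP])
      refine ⟨⟨fun u v => ?_⟩⟩
      obtain ⟨i, rfl⟩ := (htop.symm ▸ trivial : u ∈ Subgroup.zpowers c)
      obtain ⟨j, rfl⟩ := (htop.symm ▸ trivial : v ∈ Subgroup.zpowers c)
      exact ((Commute.refl c).zpow_zpow i j).eq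
    by_contra hlt
    have hmid : ζ ^ 2 ^ (n - 2) = -1 := by
      apply IsPrimitiveRoot.eq_neg_one_of_two_right
      exact hζ.pow (pow_pos two_pos _) (by
        rw [show n - 1 = n - 2 + 1 by omega, pow_succ])
    rcases key (1 + 2 ^ (n - 2)) (by
        rw [add_comm]
        exact (Nat.even_pow.2 ⟨even_two, by omega⟩).add_one) (fun j hj => by
      have h1 : g ^ j = g := by
        conv_rhs => rw [← pow_one g]
        rw [pow_eq_pow_iff_modEq, hord]
        rw [(hζ.isOfFinOrder (pow_ne_zero _ two_ne_zero)).pow_eq_pow_iff_modEq, ← hζ.eq_orderOf] at hj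
        refine (hj.of_dvd (pow_dvd_pow 2 (by omega))).trans ?_
        refine ((Nat.modEq_iff_dvd' (Nat.le_add_right _ _)).2 ?_).symm
        rw [Nat.add_sub_cancel_left]
        exact pow_dvd_pow 2 (by omega)
      rw [h1]) with h | h | h
    all_goals rw [pow_add, pow_one, hmid, mul_neg_one] at h
    · exact hζ0 (by linear_combination (-1 / 2 : ℂ) * h)
    · have h2 : ζ ^ 4 = 1 := by
        field_simp at h
        linear_combination (ζ ^ 2 - 1) * (-h)
      have h3 := Nat.le_of_dvd (by norm_num) (hfour 4 h2)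
      have h4 : 2 ^ 3 ≤ N := Nat.pow_le_pow_right two_pos (by omega)
      omega
    · have h2 : ζ ^ 2 = 1 := by
        field_simp at h
        linear_combination -h
      have h3 := Nat.le_of_dvd (by norm_num) (hfour 2 h2)
      have h4 : 2 ^ 3 ≤ N := Nat.pow_le_pow_right two_pos (by omega)
      omega
  subst han
  set C : Subgroup (P : Subgroup G) := Subgroup.zpowers c with hC
  have hCi : C.index = 2 := by
    have h := C.card_mul_index
    rw [hC, Nat.card_zpowers, ha, hP, show n = n - 1 + 1 by omega, pow_succ] at h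
    exact Nat.eq_of_mul_eq_mul_left (pow_pos two_pos _) h
  have hCn : C.Normal := Subgroup.normal_of_index_eq_two hCi
  have hcC : c ∈ C := Subgroup.mem_zpowers c
  obtain ⟨k, hk⟩ := conj_eq_pow_of_mem (hCn.conj_mem c hcC x)
  have hkodd : Odd k := by
    have h := coprime_of_conj hk
    rw [ha, Nat.coprime_pow_left_iff (by omega), Nat.coprime_two_left] at h
    exact h
  have hkG : (x : G) * g * (x : G)⁻¹ = g ^ k := by
    have := congrArg Subtype.val hk
    simpa [hcdef] using this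
  have hsame : ∀ i j : ℕ, g ^ i = g ^ j ↔ ζ ^ i = ζ ^ j := fun i j => by
    rw [pow_eq_pow_iff_modEq, hord, (hζ.isOfFinOrder (pow_ne_zero _ two_ne_zero)).pow_eq_pow_iff_modEq,
      ← hζ.eq_orderOf]
  have hζk : ζ ^ (2 * (k + 1)) = 1 := by
    rcases key k hkodd (fun j hj => by
      rw [(hsame j k).2 hj]
      exact isConj_iff.2 ⟨(x : G)⁻¹, by rw [← hkG]; group⟩) with h | h | h
    · exfalso
      apply hx
      have h1 : g ^ k = g := by
        conv_rhs => rw [← pow_one g]
        exact (hsame k 1).2 (by rw [pow_one, h])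
      apply Subtype.ext
      push_cast
      exact mul_inv_eq_iff_eq_mul.mp (hkG.trans h1)
    · rw [show 2 * (k + 1) = (k + 1) * 2 by ring, pow_mul, pow_succ ζ k, h, inv_mul_cancel₀ hζ0, one_pow]
    · rw [show 2 * (k + 1) = (k + 1) * 2 by ring, pow_mul, pow_succ ζ k, h, neg_mul, inv_mul_cancel₀ hζ0, neg_one_sq]
  have hdiv := (hζ.pow_eq_one_iff_dvd _).1 hζk
  obtain ⟨u, hu⟩ := hkodd
  have huodd : Odd u := by
    have h4 : 2 ^ 3 ∣ 2 * (k + 1) := (pow_dvd_pow 2 (by omega)).trans hdiv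
    rw [hu, show (2 : ℕ) ^ 3 = 8 by norm_num] at h4
    rw [Nat.odd_iff]
    omega
  -- the commutator generates the squares
  set D : Subgroup (P : Subgroup G) := Subgroup.zpowers (c ^ 2) with hD
  have hDi : D.index = 4 := by
    have h := D.card_mul_index
    rw [hD, Nat.card_zpowers, orderOf_pow, ha, hP,
      Nat.gcd_eq_right (dvd_pow_self 2 (by omega)),
      show n - 1 = n - 2 + 1 by omega, pow_succ, Nat.mul_div_cancel _ two_pos,
      show n = n - 2 + 2 by omega, pow_add, show n - 2 + 2 - 2 = n - 2 by omega] at h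
    exact Nat.eq_of_mul_eq_mul_left (pow_pos two_pos _) h
  haveI : D.Normal := ⟨fun z hz y => by
    obtain ⟨i, rfl⟩ := hz
    obtain ⟨e, he⟩ := hCn.conj_mem c hcC y
    refine ⟨e * i, ?_⟩
    show (c ^ 2) ^ (e * i) = y * (c ^ 2) ^ i * y⁻¹
    rw [← conj_zpow, ← conj_pow, zpow_mul]
    show ((c ^ 2) ^ e) ^ i = ((y * c * y⁻¹) ^ 2) ^ i
    rw [← (he : c ^ e = y * c * y⁻¹)]
    congr 1
    rw [← zpow_natCast, ← zpow_natCast, ← zpow_mul, ← zpow_mul, mul_comm]⟩
  have hle : commutator (P : Subgroup G) ≤ D := by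
    have hq : Nat.card ((P : Subgroup G) ⧸ D) = 2 ^ 2 := by rw [← Subgroup.index_eq_card, hDi]; norm_num
    haveI := IsPGroup.isMulCommutative_of_card_eq_prime_sq hq
    rw [commutator_def, Subgroup.commutator_le]
    intro a _ b _
    rw [← QuotientGroup.eq_one_iff, ← QuotientGroup.mk'_apply, map_commutatorElement,
      commutatorElement_eq_one_iff_mul_comm]
    exact mul_comm' _ _
  have hge : D ≤ commutator (P : Subgroup G) := by
    have h1 : c ^ (2 * u) ∈ commutator (P : Subgroup G) := by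
      have h2 : ⁅x, c⁆ ∈ commutator (P : Subgroup G) :=
        Subgroup.commutator_mem_commutator (Subgroup.mem_top x) (Subgroup.mem_top c)
      rw [commutatorElement_def, hk, hu, pow_succ, mul_inv_cancel_right] at h2
      exact h2
    rw [pow_mul] at h1
    have h3 : Subgroup.zpowers ((c ^ 2) ^ u) = D := by
      refine Subgroup.eq_of_le_of_card_ge
        (Subgroup.zpowers_le.2 (Subgroup.pow_mem _ (Subgroup.mem_zpowers _) u)) ?_
      rw [hD, Nat.card_zpowers, Nat.card_zpowers]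
      have hco : (orderOf (c ^ 2)).Coprime u := by
        refine Nat.Coprime.coprime_dvd_left (orderOf_pow_dvd 2) ?_
        rw [ha]
        exact Nat.Coprime.pow_left _ (Nat.coprime_two_left.2 huodd)
      rw [hco.orderOf_pow]
    rw [← h3]
    exact Subgroup.zpowers_le.2 h1
  rw [le_antisymm hle hge, hDi]

/-- Let G be a finite group with Sylow 2-subgroup P of order 2^n ≥ 8, and let ζ be a primitive 2^(n−1)-th root of unity in ℂ. Then the commutator subgroup of P has index 4 in P if and only if there is an element g of P whose conjugacy class in G has even size and such that the field generated over ℚ by the values at g of all irreducible complex characters of G equals ℚ(ζ + ζ⁻¹) or ℚ(ζ − ζ⁻¹). -/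
theorem result {G : Type*} [Group G] [Finite G] (P : Sylow 2 G) (n : ℕ) (hn : 3 ≤ n) (hP : Nat.card P = 2 ^ n) (ζ : ℂ) (hζ : IsPrimitiveRoot ζ (2 ^ (n - 1))) :
    (commutator ↥P).index = 4 ↔
      ∃ g : G, g ∈ (P : Subgroup G) ∧ 2 ∣ (Subgroup.centralizer ({g} : Set G)).index ∧
        (IntermediateField.adjoin ℚ {z : ℂ | ∃ χ : Cfsg.IrrCharacter G, (χ : G → ℂ) g = z} = IntermediateField.adjoin ℚ ({ζ + ζ⁻¹} : Set ℂ) ∨
          IntermediateField.adjoin ℚ {z : ℂ | ∃ χ : Cfsg.IrrCharacter G, (χ : G → ℂ) g = z} = IntermediateField.adjoin ℚ ({ζ - ζ⁻¹} : Set ℂ)) := by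
  constructor
  · exact forward P n hn hP ζ hζ
  · rintro ⟨g, h1, h2, h3⟩
    exact backward P n hn hP ζ hζ g h1 h2 h3

end Cfsg.Agent.S4923
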