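import Cfsg.Statements.S4931
import Mathlib
import Cfsg.Agent.Lib.BC78.CoprimeFix
import Cfsg.Agent.Lib.Characters.Linear
import Cfsg.Agent.Lib.Characters.Kernel
import Cfsg.Agent.Lib.Characters.Degree
import Cfsg.Agent.Lib.Clifford.Basic
import Cfsg.Agent.Lib.Transfer.Tate
import Cfsg.Agent.Lib.PGroups.Frattini

set_option autoImplicit false
open Cfsg

namespace Cfsg.Agent.S4931

open scoped commutatorElement
open Cfsg.Agent.Lib.Induced.Basic Cfsg.Agent.Lib.Characters.Basic Cfsg.Agent.Lib.BC78.CoprimeFix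
  Cfsg.Agent.Lib.Characters.Kernel

universe u

variable {G : Type u} [Group G]

/-- A character of a subgroup of index prime to `p` lies under one of degree prime to `p`. -/
theorem exists_above [Fintype G] (H : Subgroup G) [Fintype H] {p : ℕ} (hp : p.Prime)
    (hidx : ¬ p ∣ H.index) (η : Cfsg.IrrCharacter H) (hη : ¬ p ∣ deg η) :
    ∃ ψ : Cfsg.IrrCharacter G, ¬ p ∣ deg ψ ∧
      Cfsg.classInner ((ψ : G → ℂ) ∘ H.subtype) η ≠ 0 := by
  have hξ := Cfsg.Agent.Lib.Induced.Character.isCharacter_indFun H (isCharacter_irr η)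
  obtain ⟨ψ, h1, h2⟩ := exists_constituent_not_dvd hξ (p := p) (n := H.index * deg η)
    (by rw [indFun_one, apply_one_eq_deg, Nat.cast_mul])
    (fun h => (hp.dvd_mul.1 h).elim hidx hη)
  refine ⟨ψ, h2, fun h => h1 ?_⟩
  rw [frobenius_reciprocity H _ (isClassFunction_irr ψ), ← classInner_conj_symm]
  change (starRingEnd ℂ) (Cfsg.classInner ((ψ : G → ℂ) ∘ H.subtype) η) = 0
  rw [h, map_zero]

/-- A character of degree prime to `p` kills the derived subgroup of a normal `p`-subgroup. -/
theorem apply_commutator [Finite G] {p : ℕ} [hp : Fact p.Prime] (S : Subgroup G) [S.Normal]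
    (hS : IsPGroup p S) (θ : Cfsg.IrrCharacter G) (hθ : ¬ p ∣ deg θ) (a b : S) :
    (θ : G → ℂ) ((⁅a, b⁆ : S) : G) = (θ : G → ℂ) 1 := by
  classical
  haveI := Fintype.ofFinite G
  haveI := Fintype.ofFinite S
  haveI := Fintype.ofFinite (Cfsg.IrrCharacter S)
  have hres : Cfsg.IsCharacter S (fun x : S => (θ : G → ℂ) x) :=
    isCharacter_comp S.subtype (isCharacter_irr θ)
  have hlin : ∀ μ : Cfsg.IrrCharacter S, Cfsg.classInner (fun x : S => (θ : G → ℂ) x) μ ≠ 0 →
      (μ : S → ℂ) 1 = 1 := by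
    intro μ hμ
    obtain ⟨c, hc⟩ := exists_classInner_nat hres (isCharacter_irr μ)
    obtain ⟨d, -, hdvd, hd⟩ := Cfsg.Agent.Lib.Characters.Degree.exists_degree_dvd μ
    have h := Cfsg.Agent.Lib.Clifford.Basic.clifford_degree S θ.2 μ hμ
    rw [hc, hd, apply_one_eq_deg, ← Nat.cast_mul, ← Nat.cast_mul, Nat.cast_inj] at h
    obtain ⟨m, hm⟩ := IsPGroup.iff_card.1 hS
    rw [hm] at hdvd
    obtain ⟨i, -, rfl⟩ := (Nat.dvd_prime_pow hp.out).1 hdvd
    rcases i with _ | i
    · rw [hd]; simp
    · exact absurd (h ▸ dvd_mul_of_dvd_right (dvd_pow_self p i.succ_ne_zero) _) hθ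
  have key : ∀ μ : Cfsg.IrrCharacter S,
      Cfsg.classInner (fun x : S => (θ : G → ℂ) x) μ * (μ : S → ℂ) ⁅a, b⁆ =
        Cfsg.classInner (fun x : S => (θ : G → ℂ) x) μ * (μ : S → ℂ) 1 := by
    intro μ
    by_cases hμ : Cfsg.classInner (fun x : S => (θ : G → ℂ) x) μ = 0
    · rw [hμ, zero_mul, zero_mul]
    congr 1
    have hm := Cfsg.Agent.Lib.Characters.Linear.apply_mul_of_degree_one (isCharacter_irr μ) (hlin μ hμ)
    have hinv : ∀ g : S, (μ : S → ℂ) g * (μ : S → ℂ) g⁻¹ = 1 := fun g => by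
      rw [← hm, mul_inv_cancel, hlin μ hμ]
    rw [commutatorElement_def, hm, hm, hm, hlin μ hμ, mul_comm ((μ : S → ℂ) a), mul_assoc _ _ ((μ : S → ℂ) a⁻¹),
      hinv, mul_one, hinv]
  have hd := character_eq_finsum hres
  rw [finsum_eq_sum_of_fintype] at hd
  have h1 := congrFun hd ⁅a, b⁆
  have h2 := congrFun hd (1 : S)
  simp only [Finset.sum_apply, Pi.smul_apply, smul_eq_mul] at h1 h2
  rw [Finset.sum_congr rfl fun μ _ => key μ, ← h2] at h1
  simpa using h1

/-- An element outside a normal subgroup of index prime to `p` is moved by some irreducible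
character of degree prime to `p` containing that subgroup in its kernel. -/
theorem exists_moving [Finite G] {p : ℕ} [hp : Fact p.Prime] (S : Subgroup G) [S.Normal]
    (hidx : ¬ p ∣ S.index) {x : G} (hx : x ∉ S) :
    ∃ θ : Cfsg.IrrCharacter G, ¬ p ∣ deg θ ∧ (∀ y ∈ S, (θ : G → ℂ) y = (θ : G → ℂ) 1) ∧
      (θ : G → ℂ) x ≠ (θ : G → ℂ) 1 := by
  obtain ⟨φ, hφ⟩ := exists_apply_ne_degree
    (show (x : G ⧸ S) ≠ 1 from fun h => hx ((QuotientGroup.eq_one_iff x).1 h))
  refine ⟨(inflateEquiv S φ).1, fun h => hidx ?_, (inflateEquiv S φ).2, ?_⟩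
  · obtain ⟨d, -, hdvd, hd⟩ := Cfsg.Agent.Lib.Characters.Degree.exists_degree_dvd φ
    have e : deg (inflateEquiv S φ).1 = d := by
      have h1 := inflateEquiv_apply S φ 1
      rw [apply_one_eq_deg, QuotientGroup.mk_one, hd, Nat.cast_inj] at h1
      exact h1
    rw [e] at h
    exact h.trans hdvd
  · rw [inflateEquiv_apply, inflateEquiv_apply, QuotientGroup.mk_one]
    exact hφ

/-- Let G be a finite group, p a prime and P a Sylow p-subgroup of G with normalizer N. Then every irreducible complex character of N of degree not divisible by p is the restriction of an irreducible character of G if and only if there is a normal subgroup K of G with KN = G and K ∩ N = 1. -/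
theorem result {G : Type*} [Group G] [Finite G] (p : ℕ) [Fact p.Prime] (P : Sylow p G) :
    (∀ θ : Cfsg.IrrCharacter ↥(Subgroup.normalizer ((P : Subgroup G) : Set G)), ¬ p ∣ Cfsg.charDegree (θ : ↥(Subgroup.normalizer ((P : Subgroup G) : Set G)) → ℂ) →
        ∃ χ : Cfsg.IrrCharacter G, ∀ x : ↥(Subgroup.normalizer ((P : Subgroup G) : Set G)), (χ : G → ℂ) x = (θ : ↥(Subgroup.normalizer ((P : Subgroup G) : Set G)) → ℂ) x) ↔
      ∃ K : Subgroup G, K.Normal ∧ K ⊔ Subgroup.normalizer ((P : Subgroup G) : Set G) = ⊤ ∧ K ⊓ Subgroup.normalizer ((P : Subgroup G) : Set G) = ⊥ := by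
  classical
  haveI := Fintype.ofFinite G
  haveI : ∀ H : Subgroup G, Fintype H := fun H => Fintype.ofFinite H
  have hp : p.Prime := Fact.out
  constructor
  swap
  · rintro ⟨K, hK, hsup, hinf⟩
    have hc : Subgroup.IsComplement' (Subgroup.normalizer ((P : Subgroup G) : Set G)) K := by
      apply Subgroup.isComplement'_of_disjoint_and_mul_eq_univ
      · rw [disjoint_iff, inf_comm]; exact hinf
      · rw [← Subgroup.mul_normal, sup_comm, hsup]; rfl
    let π : G →* ↥(Subgroup.normalizer ((P : Subgroup G) : Set G)) :=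
      hc.QuotientMulEquiv.toMonoidHom.comp (QuotientGroup.mk' K)
    have hπ : ∀ x : ↥(Subgroup.normalizer ((P : Subgroup G) : Set G)), π x = x := fun x =>
      (MulEquiv.eq_symm_apply hc.QuotientMulEquiv).1
        (show (QuotientGroup.mk' K) (x : G) = hc.QuotientMulEquiv.symm x from rfl)
    intro θ hθ
    refine ⟨⟨(θ : _ → ℂ) ∘ π, isIrrCharacter_comp π ?_ θ.2⟩, fun x => ?_⟩
    · exact fun x => ⟨x, hπ x⟩
    · change (θ : _ → ℂ) (π x) = _
      rw [hπ x]
  intro hext
  set N := Subgroup.normalizer ((P : Subgroup G) : Set G) with hN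
  choose ext hext using hext
  let S : Subgroup G := (P : Subgroup G)
  have hSN : S ≤ N := Subgroup.le_normalizer
  let S' : Subgroup N := S.subgroupOf N
  haveI : S'.Normal := Subgroup.normal_in_normalizer
  have hS' : IsPGroup p S' := P.isPGroup'.comap_subtype
  have hidx : ¬ p ∣ S'.index := fun h => P.not_dvd_index
    (h.trans (Subgroup.relIndex_dvd_index_of_le hSN))
  let e : S' ≃* S := Subgroup.subgroupOfEquivOfLe hSN
  -- the kernels
  let K : Subgroup G := ⨅ θ : {θ : Cfsg.IrrCharacter N // ¬ p ∣ deg θ},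
    charKer (isCharacter_irr (ext θ.1 θ.2))
  let M : Subgroup G := ⨅ θ : {θ : Cfsg.IrrCharacter N // ¬ p ∣ deg θ ∧
      ∀ y ∈ S', (θ : N → ℂ) y = (θ : N → ℂ) 1}, charKer (isCharacter_irr (ext θ.1 θ.2.1))
  haveI hKn : K.Normal := Subgroup.normal_iInf_normal fun _ => charKer_normal _
  haveI hMn : M.Normal := Subgroup.normal_iInf_normal fun _ => charKer_normal _
  have hone : ∀ θ h, (ext θ h : G → ℂ) 1 = (θ : N → ℂ) 1 := fun θ h => hext θ h 1
  have hmemK : ∀ x : N, (x : G) ∈ K ↔
      ∀ θ : Cfsg.IrrCharacter N, ¬ p ∣ deg θ → (θ : N → ℂ) x = (θ : N → ℂ) 1 := by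
    intro x
    simp only [K, Subgroup.mem_iInf, mem_charKer]
    constructor
    · intro h θ hθ
      have := h ⟨θ, hθ⟩
      rwa [hone θ hθ, hext θ hθ x] at this
    · rintro h ⟨θ, hθ⟩
      rw [hone θ hθ, hext θ hθ x]
      exact h θ hθ
  have hmemM : ∀ x : N, (x : G) ∈ M ↔
      ∀ θ : Cfsg.IrrCharacter N, ¬ p ∣ deg θ → (∀ y ∈ S', (θ : N → ℂ) y = (θ : N → ℂ) 1) →
        (θ : N → ℂ) x = (θ : N → ℂ) 1 := by
    intro x
    simp only [M, Subgroup.mem_iInf, mem_charKer]
    constructor
    · intro h θ hθ hy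
      have := h ⟨θ, hθ, hy⟩
      rwa [hone θ hθ, hext θ hθ x] at this
    · rintro h ⟨θ, hθ, hy⟩
      rw [hone θ hθ, hext θ hθ x]
      exact h θ hθ hy
  have hSM : S ≤ M := fun x hx => (hmemM ⟨x, hSN hx⟩).2 fun θ _ h => h _ hx
  have hMN : M ⊓ N ≤ S := by
    rintro x ⟨hxM, hxN⟩
    by_contra hxS
    obtain ⟨θ, h1, h2, h3⟩ := exists_moving S' hidx (x := ⟨x, hxN⟩) hxS
    exact h3 ((hmemM ⟨x, hxN⟩).1 hxM θ h1 h2)
  have hcomm : ⁅S, S⁆ ≤ K := by
    rw [Subgroup.commutator_le]
    intro a ha b hb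
    have := (hmemK ((⁅(⟨⟨a, hSN ha⟩, ha⟩ : S'), (⟨⟨b, hSN hb⟩, hb⟩ : S')⁆ : S') : N)).2
      fun θ hθ => apply_commutator S' hS' θ hθ _ _
    simpa [commutatorElement_def] using this
  have hKS : K ⊓ S ≤ ⁅S, S⁆ := by
    rintro x ⟨hxK, hxS⟩
    rw [← Subgroup.map_subtype_commutator S]
    refine ⟨⟨x, hxS⟩, ?_, rfl⟩
    rw [← Abelianization.ker_of]
    by_contra hne
    obtain ⟨l, hl⟩ := CommGroup.exists_apply_ne_one_of_hasEnoughRootsOfUnity
      (Abelianization S) ℂ hne
    let η := Cfsg.Agent.Lib.Characters.Linear.linChar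
      ((l.comp (Abelianization.of (G := S))).comp e.toMonoidHom)
    have hη : deg η = 1 := by
      have h := apply_one_eq_deg η
      rw [Cfsg.Agent.Lib.Characters.Linear.linChar_apply, map_one, Units.val_one] at h
      exact_mod_cast h.symm
    haveI : Fintype S' := Fintype.ofFinite _
    obtain ⟨ψ, hψ, hψη⟩ := exists_above S' hp hidx η (by rw [hη]; exact hp.not_dvd_one)
    have h := constituent_ker (isCharacter_comp S'.subtype (isCharacter_irr ψ)) η hψη
      (g := ⟨⟨x, hSN hxS⟩, hxS⟩) ((hmemK ⟨x, hSN hxS⟩).1 hxK ψ hψ)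
    rw [apply_one_eq_deg, hη, Nat.cast_one, Cfsg.Agent.Lib.Characters.Linear.linChar_apply] at h
    exact hl (Units.ext h)
  -- `M` has a normal `p`-complement
  let PM : Sylow p M := P.subtype hSM
  have hPM : ∀ x : M, x ∈ (PM : Subgroup M) ↔ (x : G) ∈ S := fun x => Iff.rfl
  have hMnil : HasNormalPComplement p M := by
    let π : M →* M ⧸ K.subgroupOf M := QuotientGroup.mk' _
    have hπ : Function.Surjective π := QuotientGroup.mk'_surjective _
    let Pb : Sylow p (M ⧸ K.subgroupOf M) := PM.mapSurjective hπ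
    have hPb : (Pb : Subgroup (M ⧸ K.subgroupOf M)) = (PM : Subgroup M).map π := rfl
    have hburn : Subgroup.normalizer ((Pb : Subgroup (M ⧸ K.subgroupOf M)) : Set (M ⧸ K.subgroupOf M)) ≤
        Subgroup.centralizer ((Pb : Subgroup (M ⧸ K.subgroupOf M)) : Set (M ⧸ K.subgroupOf M)) := by
      intro q hq
      have hqP : q ∈ (Pb : Subgroup (M ⧸ K.subgroupOf M)) := by
        obtain ⟨g, rfl⟩ := hπ q
        rw [hPb] at hq ⊢
        let T : Subgroup M := ((PM : Subgroup M).map π).comap π
        have hgT : g ∈ Subgroup.normalizer (T : Set M) := by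
          rw [Subgroup.mem_normalizer_iff]
          intro y
          have := Subgroup.mem_normalizer_iff.1 hq (π y)
          simpa [T, ← map_mul, ← map_inv] using this
        let U := Subgroup.normalizer (T : Set M)
        haveI : (T.subgroupOf U).Normal := Subgroup.normal_in_normalizer
        have hPT : (PM : Subgroup M) ≤ T := Subgroup.le_comap_map _ _
        have hPU : (PM : Subgroup M) ≤ U := hPT.trans Subgroup.le_normalizer
        have htop := Sylow.normalizer_sup_eq_top' (PM.subtype hPU) (N := T.subgroupOf U)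
          (fun y hy => hPT hy)
        obtain ⟨n, hn, t, ht, hnt⟩ : ∃ n ∈ Subgroup.normalizer
            ((PM.subtype hPU : Subgroup U) : Set U), ∃ t ∈ T.subgroupOf U, n * t = (⟨g, hgT⟩ : U) := by
          exact Subgroup.mem_sup_of_normal_right.1 (htop.ge (Subgroup.mem_top _))
        have hnS : ((n : M) : G) ∈ S := by
          refine hMN ⟨(n : M).2, Subgroup.mem_normalizer_iff.2 fun y => ?_⟩
          constructor
          · intro hy
            exact ((Subgroup.mem_normalizer_iff.1 hn ⟨⟨y, hSM hy⟩, hPU hy⟩).1 hy :)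
          · intro hy
            have hyM : y ∈ M := by
              have h1 := M.mul_mem (M.mul_mem (M.inv_mem (n : M).2) (hSM hy)) (n : M).2
              simpa [mul_assoc] using h1
            have hyU : (⟨y, hyM⟩ : M) ∈ U := by
              have h1 : (⟨((n : M) : G) * y * ((n : M) : G)⁻¹, hSM hy⟩ : M) ∈ U := hPU hy
              have h2 := U.mul_mem (U.mul_mem (U.inv_mem n.2) h1) n.2
              convert h2 using 1
              ext; simp [mul_assoc]
            exact ((Subgroup.mem_normalizer_iff.1 hn ⟨⟨y, hyM⟩, hyU⟩).2 hy :)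
        have hgT' : g ∈ T := by
          have := congrArg Subtype.val hnt
          change (n : M) * (t : M) = g at this
          rw [← this]
          exact T.mul_mem (hPT hnS) ht
        exact hgT'
      rw [Subgroup.mem_centralizer_iff]
      intro r hr
      rw [hPb] at hqP hr
      obtain ⟨a, ha, rfl⟩ := hqP
      obtain ⟨b, hb, rfl⟩ := hr
      rw [← map_mul, ← map_mul]
      refine QuotientGroup.eq.2 ?_
      rw [Subgroup.mem_subgroupOf]
      have := hcomm (Subgroup.commutator_mem_commutator (S.inv_mem ha) (S.inv_mem hb))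
      push_cast
      convert this using 1
      simp [commutatorElement_def, mul_assoc]
    refine Cfsg.Agent.Lib.Transfer.Tate.hasNormalPComplement_of_inf_pResidual_le_frattini PM ?_
    rintro x ⟨hxR, hxP⟩
    let f := (MonoidHom.transferSylow Pb hburn).comp π
    have h1 := Cfsg.Agent.Lib.Transfer.PResidual.pResidual_le_ker f Pb.isPGroup' hxR
    have h2 : π x = 1 := Subgroup.disjoint_def.1
      (MonoidHom.ker_transferSylow_isComplement' Pb hburn).disjoint h1 ⟨x, hxP, rfl⟩
    have h3 : (x : G) ∈ ⁅S, S⁆ := hKS ⟨(QuotientGroup.eq_one_iff x).1 h2, hxP⟩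
    have hmap : ⁅(PM : Subgroup M), (PM : Subgroup M)⁆.map M.subtype = ⁅S, S⁆ := by
      rw [Subgroup.map_commutator, Sylow.coe_subtype, Subgroup.subgroupOf_map_subtype, inf_of_le_left hSM]
    rw [← hmap] at h3
    obtain ⟨x', hx', he⟩ := h3
    rw [Subtype.ext (a1 := x') (a2 := x) he] at hx'
    rw [← Subgroup.map_subtype_commutator] at hx'
    exact Subgroup.map_mono (Cfsg.Agent.Lib.PGroups.commutator_le_frattini PM.isPGroup') hx'
  -- the complement
  let L : Subgroup G := (pResidual p M).map M.subtype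
  haveI : (pResidual p M).Characteristic := Subgroup.characteristic_iff_map_eq.2
    fun φ => Cfsg.Agent.Lib.Transfer.PResidual.map_pResidual_equiv φ
  haveI hLn : L.Normal := ConjAct.normal_of_characteristic_of_normal
  have hLcard : ¬ p ∣ Nat.card L := by
    rw [Subgroup.card_map_of_injective M.subtype_injective]
    exact Cfsg.Agent.Lib.Transfer.PResidual.hasNormalPComplement_iff_not_dvd.1 hMnil
  refine ⟨L, hLn, ?_, ?_⟩
  · have h1 : M ≤ L ⊔ S := by
      have h := congrArg (Subgroup.map M.subtype)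
        (Cfsg.Agent.Lib.Transfer.PResidual.sup_sylow_eq_top PM)
      rw [Subgroup.map_sup, Sylow.coe_subtype, Subgroup.subgroupOf_map_subtype, inf_of_le_left hSM,
        ← MonoidHom.range_eq_map, Subgroup.range_subtype] at h
      exact h.ge
    have h2 := Sylow.normalizer_sup_eq_top' P (N := M) hSM
    rw [eq_top_iff, ← h2]
    exact sup_le le_sup_right (h1.trans (sup_le le_sup_left (hSN.trans le_sup_right)))
  · rw [eq_bot_iff]
    rintro x ⟨hxL, hxN⟩
    exact Subgroup.disjoint_def.1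
      (Cfsg.Agent.Lib.Transfer.PResidual.disjoint_of_not_dvd hLcard P.isPGroup') hxL
      (hMN ⟨Subgroup.map_subtype_le _ hxL, hxN⟩)

end Cfsg.Agent.S4931
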