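import Cfsg.Statements.S4937
import Cfsg.Agent.Lib.Blocks.Basic
import Cfsg.Agent.Lib.Chars82.StableExtension
import Cfsg.Agent.Lib.Characters.Linear

set_option autoImplicit false
open Cfsg

namespace Cfsg.Agent.S4937

open scoped ComplexConjugate
open Cfsg.Agent.Lib.Blocks Cfsg.Agent.Lib.Characters.Basic

universe u

section orbits

variable {G : Type u} [Group G] (N : Subgroup G) [Fintype N] [DecidableEq G]

/-- The orbit of `g` under conjugation by `N`. -/
def orb (g : G) : Finset G := (Finset.univ : Finset N).image fun n : N => (n : G) * g * (n : G)⁻¹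

theorem mem_orb {g a : G} : a ∈ orb N g ↔ ∃ n : N, (n : G) * g * (n : G)⁻¹ = a := by simp [orb]

theorem self_mem_orb (g : G) : g ∈ orb N g := (mem_orb N).mpr ⟨1, by simp⟩

theorem orb_eq {g a : G} (h : a ∈ orb N g) : orb N a = orb N g := by
  obtain ⟨m, rfl⟩ := (mem_orb N).mp h
  ext x
  rw [mem_orb, mem_orb]
  constructor
  · rintro ⟨n, rfl⟩
    exact ⟨n * m, by push_cast; group⟩
  · rintro ⟨n, rfl⟩
    exact ⟨n * m⁻¹, by push_cast; group⟩

theorem card_orb_dvd (g : G) (S : Subgroup N) (hS : ∀ s ∈ S, ((s : N) : G) * g = g * (s : G)) :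
    (orb N g).card ∣ S.index := by
  classical
  set C := (Subgroup.centralizer ({g} : Set G)).subgroupOf N with hC
  have hmC : ∀ x : N, x ∈ C ↔ g * (x : G) = (x : G) * g := fun x => by
    rw [hC, Subgroup.mem_subgroupOf, Subgroup.mem_centralizer_iff]
    simp
  have hSC : S ≤ C := fun s hs => (hmC s).mpr (hS s hs).symm
  have h1 : Fintype.card N = (orb N g).card * Nat.card C := by
    rw [← Finset.card_univ, Finset.card_eq_sum_card_image (fun n : N => (n : G) * g * (n : G)⁻¹),
      Finset.sum_const_nat (m := Nat.card C)]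
    · rfl
    intro a ha
    obtain ⟨m, rfl⟩ := (mem_orb N).mp ha
    rw [Nat.card_eq_fintype_card, ← Fintype.card_subtype]
    refine Fintype.card_congr
      { toFun := fun n => ⟨m⁻¹ * n.1, (hmC _).mpr ?_⟩
        invFun := fun c => ⟨m * c.1, ?_⟩
        left_inv := fun n => by simp
        right_inv := fun c => by simp }
    · push_cast
      calc g * ((m : G)⁻¹ * (n.1 : G)) = (m : G)⁻¹ * ((m : G) * g * (m : G)⁻¹) * (n.1 : G) := by group
        _ = (m : G)⁻¹ * ((n.1 : G) * g * (n.1 : G)⁻¹) * (n.1 : G) := by rw [n.2]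
        _ = _ := by group
    · have hc : g * (c.1 : G) = (c.1 : G) * g := (hmC _).mp c.2
      push_cast
      calc (m : G) * (c.1 : G) * g * ((m : G) * (c.1 : G))⁻¹
          = (m : G) * ((c.1 : G) * g) * (c.1 : G)⁻¹ * (m : G)⁻¹ := by group
        _ = (m : G) * g * (m : G)⁻¹ := by rw [← hc]; group
  have h2 : C.index = (orb N g).card := by
    have := C.index_mul_card
    rw [Nat.card_eq_fintype_card (α := N), h1] at this
    exact Nat.eq_of_mul_eq_mul_right Nat.card_pos this
  exact h2 ▸ Subgroup.index_dvd_of_le hSC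

end orbits

/-- A character congruent to the principal one on the orbits of `N` lies in the principal block
of every overgroup of `N`. -/
theorem principal_of_cong {G : Type u} [Group G] [DecidableEq G] (N : Subgroup G) [Fintype N]
    {M : Ideal Cfsg.AlgInt} [M.IsMaximal] (χ : G → ℂ) (hχ : ∀ g, ∀ a ∈ orb N g, χ a = χ g)
    (hcong : ∀ g, Cfsg.MemLocalIdeal M (((orb N g).card : ℂ) * χ g / χ 1 - ((orb N g).card : ℂ)))
    {J : Type u} [Group J] [Finite J] (i : J →* G) (hi : Function.Injective i) (hN : N ≤ i.range)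
    (ξ : Cfsg.IrrCharacter J) (hξ : ∀ j, (ξ : J → ℂ) j = χ (i j)) :
    ξ ∈ Cfsg.principalBlock M J := by
  classical
  have := Fintype.ofFinite J
  intro j
  change Cfsg.MemLocalIdeal M
    (Cfsg.centralChar (fun _ : J => (1 : ℂ)) j - Cfsg.centralChar (ξ : J → ℂ) j)
  set S : Finset J := Finset.univ.filter fun y => IsConj j y with hS
  have hcard : ((Subgroup.centralizer ({j} : Set J)).index : ℂ) = (S.card : ℂ) := by
    rw [← Cfsg.Agent.Lib.BrauerMap.ClassSum.card_isConj, hS, Nat.card_eq_fintype_card,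
      Fintype.card_subtype]
  have h1 : Cfsg.centralChar (fun _ : J => (1 : ℂ)) j = ∑ _y ∈ S, (1 : ℂ) := by
    simp [Cfsg.centralChar, hcard]
  have h2 : Cfsg.centralChar (ξ : J → ℂ) j = ∑ y ∈ S, χ (i y) / χ 1 := by
    rw [Cfsg.centralChar, hcard, hξ 1, map_one]
    have : ∀ y ∈ S, χ (i y) / χ 1 = (ξ : J → ℂ) j / χ 1 := fun y hy => by
      rw [← hξ, char_eq_of_isConj ξ (Finset.mem_filter.mp hy).2]
    rw [Finset.sum_congr rfl this, Finset.sum_const, nsmul_eq_mul, mul_div_assoc]
  rw [h1, h2, ← Finset.sum_sub_distrib,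
    ← Finset.sum_fiberwise_of_maps_to (s := S) (t := S.image fun y => orb N (i y))
      (g := fun y => orb N (i y)) (fun y hy => Finset.mem_image_of_mem _ hy)]
  refine memLocalIdeal_sum _ fun o ho => ?_
  obtain ⟨y, hy, rfl⟩ := Finset.mem_image.mp ho
  have hfib : (S.filter fun y' => orb N (i y') = orb N (i y)).map ⟨i, hi⟩ = orb N (i y) := by
    ext a
    simp only [Finset.mem_map, Finset.mem_filter, Function.Embedding.coeFn_mk]
    constructor
    · rintro ⟨y', ⟨-, e⟩, rfl⟩
      rw [← e]; exact self_mem_orb N _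
    · intro ha
      obtain ⟨n, hn⟩ := (mem_orb N).mp ha
      obtain ⟨u, hu⟩ := hN n.2
      have e : i (u * y * u⁻¹) = a := by rw [map_mul, map_mul, map_inv, hu, hn]
      refine ⟨u * y * u⁻¹, ⟨?_, by rw [e]; exact orb_eq N ha⟩, e⟩
      exact Finset.mem_filter.mpr ⟨Finset.mem_univ _,
        (Finset.mem_filter.mp hy).2.trans (isConj_iff.mpr ⟨u, rfl⟩)⟩
  have h3 : ∑ y' ∈ S.filter (fun y' => orb N (i y') = orb N (i y)), (1 - χ (i y') / χ 1) =
      ∑ a ∈ orb N (i y), (1 - χ a / χ 1) := by
    conv_rhs => rw [← hfib, Finset.sum_map]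
    rfl
  rw [h3, Finset.sum_congr rfl (fun a ha => by rw [hχ _ a ha]), Finset.sum_const, nsmul_eq_mul,
    mul_sub, mul_one, ← mul_div_assoc, ← neg_sub]
  exact memLocalIdeal_neg (hcong (i y))

/-- Let G be a finite group, p a prime, M a maximal ideal of the algebraic integers containing p, N a normal subgroup of G and P a Sylow p-subgroup of N such that G = N·C_G(P). Let θ be an irreducible character in the principal p-block of N that is the restriction of some irreducible character of G. Then θ is the restriction of an irreducible character χ of G lying in the principal p-block of G such that, for every subgroup J of G containing N, the restriction of χ to J is an irreducible character of J lying in the principal p-block of J. -/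
theorem result {G : Type*} [Group G] [Finite G] (p : ℕ) [Fact p.Prime] (M : Ideal Cfsg.AlgInt) (hM : Cfsg.IsPModular p M) (N : Subgroup G) [N.Normal] (P : Sylow p ↥N)
    (hcov : N ⊔ Subgroup.centralizer (((P : Subgroup ↥N).map N.subtype : Subgroup G) : Set G) = ⊤)
    (θ : Cfsg.IrrCharacter ↥N) (hθ : θ ∈ Cfsg.principalBlock M ↥N)
    (hext : ∃ ψ : Cfsg.IrrCharacter G, ∀ x : ↥N, (ψ : G → ℂ) x = (θ : ↥N → ℂ) x) :
    ∃ χ : Cfsg.IrrCharacter G, χ ∈ Cfsg.principalBlock M G ∧ (∀ x : ↥N, (χ : G → ℂ) x = (θ : ↥N → ℂ) x) ∧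
      ∀ J : Subgroup G, N ≤ J → ∃ ξ : Cfsg.IrrCharacter ↥J, ξ ∈ Cfsg.principalBlock M ↥J ∧ ∀ y : ↥J, (ξ : ↥J → ℂ) y = (χ : G → ℂ) y := by
  classical
  have hp : p.Prime := Fact.out
  haveI : M.IsMaximal := hM.2.1
  letI := Ideal.Quotient.field M
  haveI := charP_residue hM
  have := Fintype.ofFinite G
  have := Fintype.ofFinite N
  obtain ⟨ψ, hψθ⟩ := hext
  obtain ⟨d, ρ, hρirr, hρ⟩ := ψ.2
  have hd : ψ.1 1 = (d : ℂ) := by rw [← hρ, Representation.char_one, Module.finrank_fin_fun]
  have hd0 : (d : ℂ) ≠ 0 := hd ▸ apply_one_ne_zero ψ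
  -- irreducible on `N`
  let ρN : Representation ℂ N (Fin d → ℂ) := ρ.comp N.subtype
  have hρN : ρN.IsIrreducible := by
    rw [isIrreducible_iff_classInner_self]
    have : ρN.character = (θ : N → ℂ) := funext fun n => by rw [← hψθ n, ← hρ]; rfl
    rw [this]
    exact classInner_self_irr θ
  let T : G → Module.End ℂ (Fin d → ℂ) := fun g => ∑ a ∈ orb N g, ρ a
  let w : G → ℂ := fun g => ((orb N g).card : ℂ) * ψ.1 g / ψ.1 1
  have hψorb : ∀ g, ∀ a ∈ orb N g, ψ.1 a = ψ.1 g := fun g a ha => by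
    obtain ⟨n, rfl⟩ := (mem_orb N).mp ha
    exact (char_eq_of_isConj ψ (isConj_iff.mpr ⟨(n : G), rfl⟩)).symm
  have hT : ∀ g, T g = w g • 1 := by
    intro g
    have hcomm : ∀ n : N, T g * ρ n = ρ n * T g := by
      intro n
      simp only [T, Finset.sum_mul, Finset.mul_sum, ← map_mul]
      refine Finset.sum_bij' (fun a _ => (n : G)⁻¹ * a * n) (fun a _ => (n : G) * a * (n : G)⁻¹)
        ?_ ?_ ?_ ?_ ?_
      · intro a ha
        obtain ⟨m, rfl⟩ := (mem_orb N).mp ha
        exact (mem_orb N).mpr ⟨n⁻¹ * m, by push_cast; group⟩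
      · intro a ha
        obtain ⟨m, rfl⟩ := (mem_orb N).mp ha
        exact (mem_orb N).mpr ⟨n * m, by push_cast; group⟩
      · intro a _; group
      · intro a _; group
      · intro a _
        congr 1
        group
    let f : Representation.IntertwiningMap ρN ρN :=
      { T g with isIntertwining' := fun n => hcomm n }
    have := hρN
    obtain ⟨c, hc⟩ := (Representation.IsIrreducible.algebraMap_intertwiningMap_bijective_of_isAlgClosed
      (ρ := ρN)).2 f
    have hTc : T g = c • (1 : Module.End ℂ (Fin d → ℂ)) :=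
      (congrArg Representation.IntertwiningMap.toLinearMap hc).symm
    have htr : LinearMap.trace ℂ _ (T g) = ((orb N g).card : ℂ) * ψ.1 g := by
      simp only [T, map_sum]
      rw [Finset.sum_congr rfl fun a ha => show LinearMap.trace ℂ _ (ρ a) = ψ.1 g by
        rw [← hψorb g a ha, ← hρ]; rfl, Finset.sum_const, nsmul_eq_mul]
    rw [hTc, map_smul, LinearMap.trace_one, Module.finrank_fin_fun, smul_eq_mul] at htr
    rw [hTc]
    congr 1
    simp only [w, hd]
    field_simp
    exact htr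
  have hwint : ∀ g, IsIntegral ℤ (w g) := by
    intro g
    let ev : MonoidAlgebra ℤ G →ₐ[ℤ] Module.End ℂ (Fin d → ℂ) :=
      MonoidAlgebra.lift ℤ (Module.End ℂ (Fin d → ℂ)) G ρ
    have h1 : IsIntegral ℤ (ev (∑ a ∈ orb N g, MonoidAlgebra.single a (1 : ℤ))) :=
      (IsIntegral.of_finite ℤ _).map ev
    have h2 : ev (∑ a ∈ orb N g, MonoidAlgebra.single a (1 : ℤ)) = algebraMap ℂ _ (w g) := by
      rw [Algebra.algebraMap_eq_smul_one, ← hT g]
      simp [ev, T, MonoidAlgebra.lift_single]
    rw [h2] at h1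
    have : Nontrivial (Fin d → ℂ) := by
      have : Nonempty (Fin d) := ⟨⟨0, Nat.pos_of_ne_zero (by exact_mod_cast hd0)⟩⟩
      infer_instance
    rwa [isIntegral_algebraMap_iff (algebraMap ℂ (Module.End ℂ (Fin d → ℂ))).injective] at h1
  let wR : G → localRing M := fun g => ⟨w g, mem_localRing_of_isIntegral (hwint g)⟩
  let W : G → Cfsg.AlgInt ⧸ M := fun g => residue M (wR g)
  let c : G → Cfsg.AlgInt ⧸ M := fun g => (((orb N g).card : ℕ) : Cfsg.AlgInt ⧸ M)
  -- the coset lemma
  have hmemN : ∀ (g : G), ∀ a ∈ orb N g, g⁻¹ * a ∈ N := fun g a ha => by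
    obtain ⟨n, rfl⟩ := (mem_orb N).mp ha
    have e : g⁻¹ * ((n : G) * g * (n : G)⁻¹) = (g⁻¹ * (n : G) * g) * (n : G)⁻¹ := by group
    rw [e]
    refine N.mul_mem ?_ (N.inv_mem n.2)
    simpa using ‹N.Normal›.conj_mem (n : G) n.2 g⁻¹
  have hprod : ∀ (a b : G) (r : Cfsg.AlgInt ⧸ M),
      (∀ g, (a * b)⁻¹ * g ∈ N → W g = r * c g) → W a * W b = r * (c a * c b) := by
    intro a b r hr
    let Pr := orb N a ×ˢ orb N b
    let key : G × G → Finset G := fun x => orb N (x.1 * x.2)
    have hk : ∀ x ∈ Pr, (a * b)⁻¹ * (x.1 * x.2) ∈ N := by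
      intro x hx
      obtain ⟨h1, h2⟩ := Finset.mem_product.mp hx
      have e : (a * b)⁻¹ * (x.1 * x.2) = (b⁻¹ * (a⁻¹ * x.1) * b) * (b⁻¹ * x.2) := by group
      rw [e]
      refine N.mul_mem ?_ (hmemN b _ h2)
      simpa using ‹N.Normal›.conj_mem _ (hmemN a _ h1) b⁻¹
    -- each fibre is a multiple of an orbit
    have hfib : ∀ o ∈ Pr.image key, ∃ (z : G) (k : ℕ), (a * b)⁻¹ * z ∈ N ∧
        (Pr.filter fun x => key x = o).card = k * (orb N z).card ∧
        ∑ x ∈ Pr.filter (fun x => key x = o), ψ.1 (x.1 * x.2) / ψ.1 1 = (k : ℂ) * w z := by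
      intro o ho
      obtain ⟨x₀, hx₀, rfl⟩ := Finset.mem_image.mp ho
      set z := x₀.1 * x₀.2
      refine ⟨z, (Pr.filter fun x => x.1 * x.2 = z).card, hk x₀ hx₀, ?_, ?_⟩
      · rw [Finset.card_eq_sum_card_fiberwise (f := fun x : G × G => x.1 * x.2) (t := orb N z) ?_,
          Finset.sum_const_nat (m := (Pr.filter fun x => x.1 * x.2 = z).card), mul_comm]
        · intro z' hz'
          obtain ⟨n, rfl⟩ := (mem_orb N).mp hz'
          symm
          refine Finset.card_bij'
            (fun x _ => ((n : G) * x.1 * (n : G)⁻¹, (n : G) * x.2 * (n : G)⁻¹))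
            (fun x _ => ((n : G)⁻¹ * x.1 * (n : G), (n : G)⁻¹ * x.2 * (n : G))) ?_ ?_ ?_ ?_
          · intro x hx
            obtain ⟨hxP, hxz⟩ := Finset.mem_filter.mp hx
            obtain ⟨h1, h2⟩ := Finset.mem_product.mp hxP
            have e1 : (n : G) * x.1 * (n : G)⁻¹ * ((n : G) * x.2 * (n : G)⁻¹) =
                (n : G) * z * (n : G)⁻¹ := by rw [← hxz]; group
            refine Finset.mem_filter.mpr ⟨Finset.mem_filter.mpr ⟨Finset.mem_product.mpr ⟨?_, ?_⟩, ?_⟩, e1⟩
            · rw [← orb_eq N h1]; exact (mem_orb N).mpr ⟨n, rfl⟩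
            · rw [← orb_eq N h2]; exact (mem_orb N).mpr ⟨n, rfl⟩
            · change orb N _ = orb N z
              rw [e1]; exact orb_eq N hz'
          · intro x hx
            obtain ⟨hxP, hxz⟩ := Finset.mem_filter.mp hx
            obtain ⟨h1, h2⟩ := Finset.mem_product.mp (Finset.mem_filter.mp hxP).1
            refine Finset.mem_filter.mpr ⟨Finset.mem_product.mpr ⟨?_, ?_⟩, ?_⟩
            · rw [← orb_eq N h1]; exact (mem_orb N).mpr ⟨n⁻¹, by simp⟩
            · rw [← orb_eq N h2]; exact (mem_orb N).mpr ⟨n⁻¹, by simp⟩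
            · calc (n : G)⁻¹ * x.1 * (n : G) * ((n : G)⁻¹ * x.2 * (n : G))
                  = (n : G)⁻¹ * (x.1 * x.2) * (n : G) := by group
                _ = z := by rw [hxz]; group
          · intro x _; ext <;> simp <;> group
          · intro x _; ext <;> simp <;> group
        · intro x hx
          have := (Finset.mem_filter.mp hx).2
          exact Finset.mem_coe.mpr (show x.1 * x.2 ∈ orb N z by
            rw [show orb N z = orb N (x.1 * x.2) from this.symm]; exact self_mem_orb N _)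
      · have hconst : ∀ x ∈ Pr.filter (fun x => key x = key x₀), ψ.1 (x.1 * x.2) / ψ.1 1 = ψ.1 z / ψ.1 1 :=
          fun x hx => by
            rw [hψorb z _ (show x.1 * x.2 ∈ orb N z by
              rw [show orb N z = orb N (x.1 * x.2) from (Finset.mem_filter.mp hx).2.symm]
              exact self_mem_orb N _)]
        rw [Finset.sum_congr rfl hconst, Finset.sum_const, nsmul_eq_mul]
        have hcard : ((Pr.filter fun x => key x = key x₀).card : ℂ) =
            ((Pr.filter fun x => x.1 * x.2 = z).card : ℂ) * ((orb N z).card : ℂ) := by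
          rw [← Nat.cast_mul]
          congr 1
          rw [Finset.card_eq_sum_card_fiberwise (f := fun x : G × G => x.1 * x.2) (t := orb N z) ?_,
            Finset.sum_const_nat (m := (Pr.filter fun x => x.1 * x.2 = z).card), mul_comm]
          · intro z' hz'
            obtain ⟨n, rfl⟩ := (mem_orb N).mp hz'
            symm
            refine Finset.card_bij'
              (fun x _ => ((n : G) * x.1 * (n : G)⁻¹, (n : G) * x.2 * (n : G)⁻¹))
              (fun x _ => ((n : G)⁻¹ * x.1 * (n : G), (n : G)⁻¹ * x.2 * (n : G))) ?_ ?_ ?_ ?_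
            · intro x hx
              obtain ⟨hxP, hxz⟩ := Finset.mem_filter.mp hx
              obtain ⟨h1, h2⟩ := Finset.mem_product.mp hxP
              have e1 : (n : G) * x.1 * (n : G)⁻¹ * ((n : G) * x.2 * (n : G)⁻¹) =
                  (n : G) * z * (n : G)⁻¹ := by rw [← hxz]; group
              refine Finset.mem_filter.mpr ⟨Finset.mem_filter.mpr ⟨Finset.mem_product.mpr ⟨?_, ?_⟩, ?_⟩, e1⟩
              · rw [← orb_eq N h1]; exact (mem_orb N).mpr ⟨n, rfl⟩
              · rw [← orb_eq N h2]; exact (mem_orb N).mpr ⟨n, rfl⟩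
              · change orb N _ = orb N z
                rw [e1]; exact orb_eq N hz'
            · intro x hx
              obtain ⟨hxP, hxz⟩ := Finset.mem_filter.mp hx
              obtain ⟨h1, h2⟩ := Finset.mem_product.mp (Finset.mem_filter.mp hxP).1
              refine Finset.mem_filter.mpr ⟨Finset.mem_product.mpr ⟨?_, ?_⟩, ?_⟩
              · rw [← orb_eq N h1]; exact (mem_orb N).mpr ⟨n⁻¹, by simp⟩
              · rw [← orb_eq N h2]; exact (mem_orb N).mpr ⟨n⁻¹, by simp⟩
              · calc (n : G)⁻¹ * x.1 * (n : G) * ((n : G)⁻¹ * x.2 * (n : G))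
                    = (n : G)⁻¹ * (x.1 * x.2) * (n : G) := by group
                  _ = z := by rw [hxz]; group
            · intro x _; ext <;> simp <;> group
            · intro x _; ext <;> simp <;> group
          · intro x hx
            have := (Finset.mem_filter.mp hx).2
            exact Finset.mem_coe.mpr (show x.1 * x.2 ∈ orb N z by
            rw [show orb N z = orb N (x.1 * x.2) from this.symm]; exact self_mem_orb N _)
        rw [hcard]
        simp only [w]
        ring
    choose! zf kf hzN hkcard hksum using hfib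
    have hww : w a * w b = ∑ x ∈ Pr, ψ.1 (x.1 * x.2) / ψ.1 1 := by
      have h1 : LinearMap.trace ℂ _ (T a * T b) = ∑ x ∈ Pr, ψ.1 (x.1 * x.2) := by
        simp only [T, Finset.sum_mul_sum, map_sum, ← map_mul]
        rw [Finset.sum_product, ← hρ]
        rfl
      rw [hT, hT, smul_mul_smul_comm, one_mul, map_smul, LinearMap.trace_one, Module.finrank_fin_fun,
        smul_eq_mul] at h1
      rw [← Finset.sum_div, ← h1, hd, mul_div_assoc, div_self hd0, mul_one]
    have hR : wR a * wR b = ∑ o ∈ Pr.image key, (kf o : localRing M) * wR (zf o) := by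
      apply Subtype.ext
      push_cast
      rw [hww, ← Finset.sum_fiberwise_of_maps_to (s := Pr) (t := Pr.image key) (g := key)
        (fun x hx => Finset.mem_image_of_mem _ hx)]
      exact Finset.sum_congr rfl fun o ho => hksum o ho
    calc W a * W b = residue M (wR a * wR b) := (map_mul _ _ _).symm
      _ = ∑ o ∈ Pr.image key, (kf o : Cfsg.AlgInt ⧸ M) * W (zf o) := by
        rw [hR, map_sum]; exact Finset.sum_congr rfl fun o _ => by rw [map_mul, map_natCast]
      _ = ∑ o ∈ Pr.image key, r * (((Pr.filter fun x => key x = o).card : ℕ) : Cfsg.AlgInt ⧸ M) := by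
        refine Finset.sum_congr rfl fun o ho => ?_
        rw [hr _ (hzN o ho), hkcard o ho]
        push_cast
        ring
      _ = r * (c a * c b) := by
        rw [← Finset.mul_sum, ← Nat.cast_sum, ← Finset.card_eq_sum_card_fiberwise
          (fun x hx => Finset.mem_coe.mpr (Finset.mem_image_of_mem key hx)), Finset.card_product, Nat.cast_mul]
  -- on `N`
  have hN1 : ∀ n ∈ N, W n = c n := by
    intro n hn
    have hidx : ((Subgroup.centralizer ({(⟨n, hn⟩ : N)} : Set N)).index) = (orb N n).card := by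
      rw [← Cfsg.Agent.Lib.BrauerMap.ClassSum.card_isConj, Nat.card_eq_fintype_card, Fintype.card_subtype]
      refine Finset.card_bij (fun y _ => (y : G)) ?_ (fun _ _ _ _ e => Subtype.ext e) ?_
      · intro y hy
        obtain ⟨u, hu⟩ := isConj_iff.mp (Finset.mem_filter.mp hy).2
        exact (mem_orb N).mpr ⟨u, by rw [← hu]; rfl⟩
      · intro y hy
        obtain ⟨u, rfl⟩ := (mem_orb N).mp hy
        exact ⟨u * ⟨n, hn⟩ * u⁻¹, Finset.mem_filter.mpr ⟨Finset.mem_univ _, isConj_iff.mpr ⟨u, rfl⟩⟩, rfl⟩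
    have h := hθ ⟨n, hn⟩
    have e1 : Cfsg.centralChar (θ : N → ℂ) ⟨n, hn⟩ = w n := by
      simp only [Cfsg.centralChar, w, hidx]
      rw [← hψθ, ← hψθ]
      rfl
    have e2 : Cfsg.centralChar (fun _ : N => (1 : ℂ)) ⟨n, hn⟩ = ((orb N n).card : ℂ) := by
      simp [Cfsg.centralChar, hidx]
    rw [e1, e2] at h
    have h2 := (memLocalIdeal_sub_iff (x := (((orb N n).card : ℕ) : localRing M)) (y := wR n)).mp
      (by push_cast; exact h)
    rw [map_natCast] at h2
    exact h2.symm
  -- elements centralizing `P`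
  set PP := ((P : Subgroup N).map N.subtype : Subgroup G) with hPP
  have hcP : ∀ g ∈ Subgroup.centralizer (PP : Set G), c g ≠ 0 := by
    intro g hg h0
    have h1 := card_orb_dvd N g (P : Subgroup N) (fun s hs =>
      (Subgroup.mem_centralizer_iff.mp hg (s : G) ⟨s, hs, rfl⟩))
    have h2 : p ∣ (orb N g).card := (CharP.cast_eq_zero_iff (Cfsg.AlgInt ⧸ M) p _).mp h0
    exact P.not_dvd_index (h2.trans h1)
  have hcoset : ∀ g, ∃ a ∈ Subgroup.centralizer (PP : Set G), g * a ∈ N := by
    intro g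
    have : g⁻¹ ∈ N ⊔ Subgroup.centralizer (PP : Set G) := hcov ▸ Subgroup.mem_top _
    obtain ⟨n, hn, a, ha, e⟩ := Subgroup.mem_sup_of_normal_left.mp this
    refine ⟨a, ha, ?_⟩
    have e2 : g * a = g * n⁻¹ * g⁻¹ := by
      rw [show a = n⁻¹ * g⁻¹ by rw [← e]; group, mul_assoc]
    rw [e2]
    exact ‹N.Normal›.conj_mem _ (N.inv_mem hn) g
  choose af hafC hafN using hcoset
  have hW : ∀ g g', g⁻¹ * g' ∈ N → W g' * W (af g) = c g' * c (af g) := by
    intro g g' h
    have hin : g' * af g ∈ N := by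
      have e : g' * af g = (g * (g⁻¹ * g') * g⁻¹) * (g * af g) := by group
      rw [e]
      exact N.mul_mem (‹N.Normal›.conj_mem _ h g) (hafN g)
    have := hprod g' (af g) 1 (fun x hx => by
      rw [one_mul]
      refine hN1 x ?_
      have := N.mul_mem hin hx
      rwa [mul_inv_cancel_left] at this)
    simpa using this
  have hrep : ∀ g, g⁻¹ * (af g)⁻¹ ∈ N := fun g => by
    have := ‹N.Normal›.conj_mem _ (N.inv_mem (hafN g)) g⁻¹
    simpa [mul_assoc] using this
  have hWa : ∀ g, W (af g) ≠ 0 := fun g h0 => by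
    have := hW g _ (hrep g)
    rw [h0, mul_zero] at this
    exact mul_ne_zero (hcP _ (Subgroup.inv_mem _ (hafC g))) (hcP _ (hafC g)) this.symm
  let r : G → Cfsg.AlgInt ⧸ M := fun g => c (af g) / W (af g)
  have hr : ∀ g g', g⁻¹ * g' ∈ N → W g' = r g * c g' := fun g g' h => by
    have := hW g g' h
    simp only [r]
    field_simp [hWa g]
    linear_combination this
  have huniq : ∀ g r', (∀ g', g⁻¹ * g' ∈ N → W g' = r' * c g') → r' = r g := fun g r' h => by
    have h1 := h _ (hrep g)
    rw [hr g _ (hrep g)] at h1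
    exact mul_right_cancel₀ (hcP _ (Subgroup.inv_mem _ (hafC g))) h1.symm
  have hrN : ∀ n ∈ N, r n = 1 := fun n hn => (huniq n 1 fun g' h => by
    rw [one_mul]; exact hN1 g' (by simpa using N.mul_mem hn h)).symm
  have hrmul : ∀ g h, r (g * h) = r g * r h := by
    intro g h
    have hh : (g * h)⁻¹ * ((af g)⁻¹ * (af h)⁻¹) ∈ N := by
      have e : (g * h)⁻¹ * ((af g)⁻¹ * (af h)⁻¹) =
          (h⁻¹ * (g⁻¹ * (af g)⁻¹) * h) * (h⁻¹ * (af h)⁻¹) := by group
      rw [e]
      refine N.mul_mem ?_ (hrep h)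
      simpa using ‹N.Normal›.conj_mem _ (hrep g) h⁻¹
    have h1 := hprod (af g)⁻¹ (af h)⁻¹ (r (g * h)) (fun x hx => hr _ x (by
      simpa [mul_assoc] using N.mul_mem hh hx))
    rw [hr g _ (hrep g), hr h _ (hrep h)] at h1
    have hne := mul_ne_zero (hcP _ (Subgroup.inv_mem _ (hafC g))) (hcP _ (Subgroup.inv_mem _ (hafC h)))
    exact mul_right_cancel₀ hne (by linear_combination -h1)
  let rH : G →* Cfsg.AlgInt ⧸ M :=
    { toFun := r
      map_one' := hrN 1 N.one_mem
      map_mul' := hrmul }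
  -- lift to roots of unity
  set m := (Nat.card G / p ^ (Nat.card G).factorization p) with hm
  have hmp : ¬ p ∣ m := Nat.not_dvd_ordCompl hp Nat.card_pos.ne'
  have hrm : ∀ g, r g ^ m = 1 := by
    intro g
    have h1 : (r g ^ m) ^ (p ^ (Nat.card G).factorization p) = 1 := by
      rw [← pow_mul, hm, mul_comm, Nat.ordProj_mul_ordCompl_eq_self]
      change rH g ^ Nat.card G = 1
      rw [← map_pow, pow_card_eq_one', map_one]
    have h2 : (r g ^ m - 1) ^ (p ^ (Nat.card G).factorization p) = 0 := by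
      rw [sub_pow_char_pow, h1, one_pow, sub_self]
    exact sub_eq_zero.mp (pow_eq_zero_iff (pow_ne_zero _ hp.ne_zero) |>.mp h2)
  have hlift : ∀ g, ∃ ε : Cfsg.AlgInt, (ε : ℂ) ^ m = 1 ∧ Ideal.Quotient.mk M ε = r g⁻¹ := by
    intro g
    obtain ⟨a, ha⟩ := Ideal.Quotient.mk_surjective (r g⁻¹)
    have hm0 : m ≠ 0 := fun h => hmp (h ▸ dvd_zero p)
    have haM : a ∉ M := fun h => by
      have := hrm g⁻¹
      rw [← ha, Ideal.Quotient.eq_zero_iff_mem.mpr h, zero_pow hm0] at this
      exact zero_ne_one this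
    obtain ⟨ε, ⟨m', hm', hεm'⟩, hε⟩ := exists_rootOfUnity_lift hM haM
    have hεr : Ideal.Quotient.mk M ε = r g⁻¹ := by rw [← ha]; exact (Ideal.Quotient.eq.mpr hε).symm
    refine ⟨ε, ?_, hεr⟩
    have h1 : (((ε ^ m : Cfsg.AlgInt)) : ℂ) ^ m' = 1 := by
      push_cast
      rw [← pow_mul, mul_comm, pow_mul, hεm', one_pow]
    have h2 : ε ^ m = 1 := rootOfUnity_eq_of_sub_mem hM hm' h1 (by simp) (by
      rw [← Ideal.Quotient.eq, map_pow, hεr, hrm, map_one])
    exact_mod_cast congrArg Subtype.val h2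
  choose ε hεm hεr using hlift
  have hεmul : ∀ g h, ε (g * h) = ε g * ε h := fun g h =>
    rootOfUnity_eq_of_sub_mem hM hmp (hεm _) (by push_cast; rw [mul_pow, hεm, hεm, one_mul]) (by
      rw [← Ideal.Quotient.eq, map_mul, hεr, hεr, hεr, mul_inv_rev, hrmul, mul_comm])
  have hε1 : ∀ n ∈ N, ε n = 1 := fun n hn =>
    rootOfUnity_eq_of_sub_mem hM hmp (hεm _) (by simp) (by
      rw [← Ideal.Quotient.eq, hεr, hrN _ (N.inv_mem hn), map_one])
  let lam : G →* ℂˣ := MonoidHom.toHomUnits
    { toFun := fun g => (ε g : ℂ)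
      map_one' := by rw [hε1 1 N.one_mem]; rfl
      map_mul' := fun g h => by rw [hεmul]; rfl }
  let χf : G → ℂ := (ψ : G → ℂ) * fun g => (Cfsg.Agent.Lib.Characters.Linear.linChar lam : G → ℂ) g
  have hχc : Cfsg.IsCharacter G χf := isCharacter_mul (isCharacter_irr ψ) (isCharacter_irr _)
  have hχap : ∀ g, χf g = ψ.1 g * (ε g : ℂ) := fun g => rfl
  have hχN : ∀ x : N, χf x = (θ : N → ℂ) x := fun x => by
    rw [hχap, hε1 x x.2, hψθ]
    simp
  have hirr : Cfsg.IsIrrCharacter G χf :=
    Cfsg.Agent.Lib.Chars82.StableExtension.isIrr_of_restrict_irr N.subtype hχc θ hχN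
  refine ⟨⟨χf, hirr⟩, ?_, hχN, ?_⟩
  all_goals
    have hcong : ∀ g, Cfsg.MemLocalIdeal M (((orb N g).card : ℂ) * χf g / χf 1 - ((orb N g).card : ℂ)) := by
      intro g
      have e : ((orb N g).card : ℂ) * χf g / χf 1 = (ε g : ℂ) * w g := by
        rw [hχap, hχap, hε1 1 N.one_mem]
        simp only [w, OneMemClass.coe_one, mul_one]
        ring
      rw [e]
      refine (memLocalIdeal_sub_iff (x := ofAlgInt M (ε g) * wR g)
        (y := (((orb N g).card : ℕ) : localRing M))).mpr ?_
      rw [map_mul, residue_ofAlgInt, map_natCast, hεr]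
      change r g⁻¹ * W g = c g
      rw [hr g g (by simp), ← mul_assoc, ← hrmul, inv_mul_cancel, hrN 1 N.one_mem, one_mul]
    have horb : ∀ g, ∀ a ∈ orb N g, χf a = χf g := fun g a ha => by
      obtain ⟨n, rfl⟩ := (mem_orb N).mp ha
      exact (classFunction_apply_of_isConj (isClassFunction_of_isCharacter hχc)
        (isConj_iff.mpr ⟨(n : G), rfl⟩)).symm
  · exact principal_of_cong N χf horb hcong (MonoidHom.id G) Function.injective_id
      (fun x _ => ⟨x, rfl⟩) ⟨χf, hirr⟩ (fun _ => rfl)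
  · intro J hJ
    have hξ : Cfsg.IsIrrCharacter J (χf ∘ J.subtype) :=
      Cfsg.Agent.Lib.Chars82.StableExtension.isIrr_of_restrict_irr (Subgroup.inclusion hJ)
        (isCharacter_comp J.subtype hχc) θ (fun n => hχN n)
    exact ⟨⟨_, hξ⟩, principal_of_cong N χf horb hcong J.subtype Subtype.val_injective
      (by rw [J.range_subtype]; exact hJ) ⟨_, hξ⟩ (fun _ => rfl), fun _ => rfl⟩

end Cfsg.Agent.S4937
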