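import Cfsg.Statements.S4955
import Cfsg.Agent.Lib.GaloisMean.CoprimeSylow

set_option autoImplicit false
open Cfsg

namespace Cfsg.Agent.S4955

/-- Let X be a finite group with an abelian normal Sylow p-subgroup V (a normal p-subgroup of index prime to p in which any two elements commute), and let G be a complement to V in X. Then for every v in V, writing C for the centralizer of v in G, the number k(X) of conjugacy classes of X satisfies k(X) ≤ (order of C)·(order of V) − ((order of G) − k(G)); the statement is written with the subtracted term moved to the left. In particular, if some v in V is centralized by no nonidentity element of G, then k(X) is at most the order of V. -/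
theorem result {X : Type*} [Group X] [Finite X] (p : ℕ) [Fact p.Prime] (V : Subgroup X) [V.Normal] (hVp : IsPGroup p V) (hidx : ¬ p ∣ V.index) (hab : ∀ a ∈ V, ∀ b ∈ V, a * b = b * a) (G : Subgroup X) (hGV : Subgroup.IsComplement' V G) (v : X) (hv : v ∈ V) : Nat.card (ConjClasses X) + Nat.card G ≤ Nat.card ↥(G ⊓ Subgroup.centralizer ({v} : Set X)) * Nat.card V + Nat.card (ConjClasses G) := by
  classical
  have := Fintype.ofFinite X
  have := Fintype.ofFinite (Cfsg.IrrCharacter X)
  have := Fintype.ofFinite (Cfsg.IrrCharacter (X ⧸ V))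
  have := Cfsg.Agent.Lib.GaloisMean.CoprimeSylow.orderOf_neZero v
  let U := (ZMod (orderOf v))ˣ
  let inf : Cfsg.IrrCharacter (X ⧸ V) → Cfsg.IrrCharacter X := fun ψ =>
    ⟨(ψ : X ⧸ V → ℂ) ∘ QuotientGroup.mk' V,
      Cfsg.Agent.Lib.Characters.Basic.isIrrCharacter_comp _ (QuotientGroup.mk'_surjective V) ψ.2⟩
  have hinf : Function.Injective inf := fun a b h => Subtype.ext
    ((QuotientGroup.mk'_surjective V).injective_comp_right (congrArg Subtype.val h))
  let I : Finset (Cfsg.IrrCharacter X) := Finset.univ.image inf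
  let q : Cfsg.IrrCharacter X → X → ℝ := fun χ w => Complex.normSq ((χ : X → ℂ) w)
  have hcol : ∀ w : X, ∑ χ : Cfsg.IrrCharacter X, q χ w =
      (Nat.card (Subgroup.centralizer ({w} : Set X)) : ℝ) := by
    intro w
    have h := Cfsg.Agent.Lib.Characters.Complete.sum_irr_mul_conj w w
    rw [if_pos (IsConj.refl w)] at h
    simp only [Complex.mul_conj] at h
    exact Complex.ofReal_injective (by push_cast; exact h)
  have hI : ∀ w ∈ V, ∑ χ ∈ I, q χ w = (Nat.card G : ℝ) := by
    intro w hw
    rw [Finset.sum_image (fun a _ b _ h => hinf h)]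
    have h := Cfsg.Agent.Lib.Characters.Complete.sum_irr_mul_conj (1 : X ⧸ V) 1
    rw [if_pos (IsConj.refl _)] at h
    simp only [Complex.mul_conj] at h
    have hc : Nat.card (Subgroup.centralizer ({(1 : X ⧸ V)} : Set (X ⧸ V))) = Nat.card G := by
      have e : Subgroup.centralizer ({(1 : X ⧸ V)} : Set (X ⧸ V)) = ⊤ := by
        ext x; simp [Subgroup.mem_centralizer_iff]
      rw [e, Subgroup.card_top]
      exact hGV.symm.index_eq_card
    have hw1 : (QuotientGroup.mk' V) w = 1 := (QuotientGroup.eq_one_iff w).mpr hw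
    simp only [q, inf, Function.comp_apply, hw1]
    rw [hc] at h
    exact Complex.ofReal_injective (by push_cast; exact h)
  let T := ↥(Iᶜ) × U
  let x : T → ℝ := fun t => q t.1.1 (v ^ (t.2 : ZMod (orderOf v)).val)
  have hint : ∀ t : T, IsIntegral ℤ ((x t : ℝ) : ℂ) := by
    intro t
    simp only [x, q]
    rw [← Complex.mul_conj]
    have h1 := Cfsg.Agent.Lib.Characters.Basic.isIntegral_apply
      (Cfsg.Agent.Lib.Characters.Basic.isCharacter_irr t.1.1) (v ^ (t.2 : ZMod (orderOf v)).val)
    exact h1.mul (h1.map (Complex.conjAe.toAlgHom.restrictScalars ℤ))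
  have hmain := Cfsg.Agent.Lib.GaloisMean.Basic.card_le_sum x hint
    (fun t => Complex.normSq_pos.mpr (Cfsg.Agent.Lib.GaloisMean.CoprimeSylow.apply_ne_zero p V hVp hidx hab
      (V.pow_mem hv _) t.1.1)) (by
    intro σ
    obtain ⟨k, hk, hσ⟩ := Cfsg.Agent.Lib.BC78.Galois.exists_exponent_char (G := X) σ
    have hko : k.Coprime (orderOf v) := hk.coprime_dvd_right (orderOf_dvd_natCard v)
    refine ⟨(Equiv.refl _).prodCongr (Equiv.mulRight (ZMod.unitOfCoprime k hko)), fun t => ?_⟩
    have hmul := Cfsg.Agent.Lib.Characters.Basic.isCharacter_mul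
      (Cfsg.Agent.Lib.Characters.Basic.isCharacter_irr t.1.1)
      (Cfsg.Agent.Lib.Characters.Basic.isCharacter_conj
        (Cfsg.Agent.Lib.Characters.Basic.isCharacter_irr t.1.1))
    set χ2 : X → ℂ := ((t.1.1 : X → ℂ) * fun g => (starRingEnd ℂ) ((t.1.1 : X → ℂ) g)) with hχ2
    have e : ∀ w : X, χ2 w = ((q t.1.1 w : ℝ) : ℂ) := by
      intro w
      simp [hχ2, q, Complex.mul_conj]
    have hm : χ2 (v ^ (t.2 : ZMod (orderOf v)).val) ∈ Cfsg.Agent.Lib.BC78.Galois.Alg :=
      Cfsg.Agent.Lib.BC78.Galois.mem_alg_of_isIntegral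
        (Cfsg.Agent.Lib.Characters.Basic.isIntegral_apply hmul _)
    have h1 := hσ χ2 hmul _ hm
    simp only [e] at h1
    rw [h1]
    simp only [x, Equiv.prodCongr_apply, Prod.map_fst, Prod.map_snd, Equiv.coe_refl, id_eq,
      Equiv.coe_mulRight]
    rw [← Cfsg.Agent.Lib.GaloisMean.CoprimeSylow.pow_unit_mul v t.2 hko]
    rfl)
  have hsum : ∑ t : T, x t = (Fintype.card U : ℝ) *
      ((Nat.card (Subgroup.centralizer ({v} : Set X)) : ℝ) - Nat.card G) := by
    rw [Fintype.sum_prod_type, Finset.sum_comm]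
    have : ∀ u : U, ∑ c : ↥(Iᶜ), x (c, u) =
        (Nat.card (Subgroup.centralizer ({v} : Set X)) : ℝ) - Nat.card G := by
      intro u
      have h1 := hcol (v ^ (u : ZMod (orderOf v)).val)
      rw [Cfsg.Agent.Lib.GaloisMean.CoprimeSylow.centralizer_pow v
        (Cfsg.Agent.Lib.GaloisMean.CoprimeSylow.val_coprime v u),
        ← Finset.sum_add_sum_compl I, hI _ (V.pow_mem hv _)] at h1
      change ∑ c : ↥(Iᶜ), q c.1 _ = _
      rw [Finset.sum_coe_sort (Iᶜ) (fun c => q c (v ^ (u : ZMod (orderOf v)).val))]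
      linarith
    simp only [this, Finset.sum_const, Finset.card_univ, nsmul_eq_mul]
  have hcardT : (Fintype.card T : ℝ) = (Fintype.card U : ℝ) * (Iᶜ.card : ℝ) := by
    rw [Fintype.card_prod, Fintype.card_coe, Nat.cast_mul, mul_comm]
  rw [hsum, hcardT] at hmain
  have hU : (0 : ℝ) < Fintype.card U := Nat.cast_pos.mpr Fintype.card_pos
  have h2 := le_of_mul_le_mul_left hmain hU
  have hk : Nat.card (ConjClasses X) = I.card + Iᶜ.card := by
    rw [← Cfsg.Agent.Lib.Characters.Complete.card_irr_eq_card_conjClasses, Nat.card_eq_fintype_card,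
      Finset.card_compl]
    have := Finset.card_le_univ I
    omega
  have hIc : I.card = Nat.card (ConjClasses G) := by
    rw [Finset.card_image_of_injective _ hinf, Finset.card_univ, ← Nat.card_eq_fintype_card,
      Cfsg.Agent.Lib.Characters.Complete.card_irr_eq_card_conjClasses]
    let e : X ⧸ V ≃* G := hGV.symm.QuotientMulEquiv
    exact Nat.card_congr (Equiv.ofBijective (ConjClasses.map e.toMonoidHom)
      ⟨by
        intro a b hab'
        obtain ⟨a, rfl⟩ := ConjClasses.mk_surjective a
        obtain ⟨b, rfl⟩ := ConjClasses.mk_surjective b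
        rw [ConjClasses.mk_eq_mk_iff_isConj]
        obtain ⟨c, hc⟩ := isConj_iff.mp (ConjClasses.mk_eq_mk_iff_isConj.mp hab')
        exact isConj_iff.mpr ⟨e.symm c, e.injective (by simpa using hc)⟩, ConjClasses.map_surjective e.surjective⟩)
  rw [Cfsg.Agent.Lib.GaloisMean.CoprimeSylow.card_centralizer_mem V hab G hGV hv] at h2
  have h3 : ((Iᶜ.card + Nat.card G : ℕ) : ℝ) ≤
      ((Nat.card ↥(G ⊓ Subgroup.centralizer ({v} : Set X)) * Nat.card V : ℕ) : ℝ) := by
    push_cast at h2 ⊢; linarith
  have h4 := Nat.cast_le.mp h3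
  omega

end Cfsg.Agent.S4955
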