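import Cfsg.Statements.S4956
import Mathlib

set_option autoImplicit false
open Cfsg

namespace Cfsg.Agent.S4956

section

variable {W : Type*} [CommGroup W] [Finite W] {A : Type*} [Group A] [Finite A] (φ : A →* MulAut W)

/-- For two elements `g`, `h` acting coprimely, the twisted commutation equation has
`|W| * |C_W(g,h)|` solutions. -/
lemma card_solutions (hcop : (Nat.card W).Coprime (Nat.card A)) (g h : A) :
    Nat.card {p : W × W // p.1 * φ g p.2 = p.2 * φ h p.1} =
      Nat.card W * Nat.card {v : W // φ g v = v ∧ φ h v = v} := by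
  classical
  have := Fintype.ofFinite A
  let ψ : W × W →* W :=
    { toFun := fun p => (p.1 / φ h p.1) * (φ g p.2 / p.2)
      map_one' := by simp
      map_mul' := by
        intro p q
        simp only [Prod.fst_mul, Prod.snd_mul, map_mul, mul_div_mul_comm]
        exact mul_mul_mul_comm _ _ _ _ }
  have hker : Nat.card {p : W × W // p.1 * φ g p.2 = p.2 * φ h p.1} = Nat.card ψ.ker := by
    refine Nat.card_congr (Equiv.subtypeEquivRight fun p => ?_)
    rw [MonoidHom.mem_ker]
    change _ ↔ (p.1 / φ h p.1) * (φ g p.2 / p.2) = 1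
    rw [div_mul_div_comm, div_eq_one, mul_comm (φ h p.1) p.2]
  let C : Subgroup W :=
    { carrier := {v | φ g v = v ∧ φ h v = v}
      mul_mem' := fun ha hb => ⟨by simp [ha.1, hb.1], by simp [ha.2, hb.2]⟩
      one_mem' := ⟨map_one _, map_one _⟩
      inv_mem' := fun ha => ⟨by simp [ha.1], by simp [ha.2]⟩ }
  let B : Subgroup A := Subgroup.closure {g, h}
  let e : W →* W :=
    { toFun := fun v => ∏ a : B, φ (a : A) v
      map_one' := by simp
      map_mul' := fun v w => by simp only [map_mul, Finset.prod_mul_distrib] }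
  have he_inv : ∀ (b : B) (v : W), e (φ (b : A) v) = e v := by
    intro b v
    exact Fintype.prod_equiv (Equiv.mulRight b) _ _ (fun a => by simp [MulAut.mul_apply])
  have hgB : g ∈ B := Subgroup.subset_closure (by simp)
  have hhB : h ∈ B := Subgroup.subset_closure (by simp)
  have he_mem : ∀ v, e v ∈ C := by
    intro v
    constructor
    · change φ g (∏ a : B, φ (a : A) v) = ∏ a : B, φ (a : A) v
      rw [map_prod]
      exact Fintype.prod_equiv (Equiv.mulLeft ⟨g, hgB⟩) _ _ (fun a => by simp [MulAut.mul_apply])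
    · change φ h (∏ a : B, φ (a : A) v) = ∏ a : B, φ (a : A) v
      rw [map_prod]
      exact Fintype.prod_equiv (Equiv.mulLeft ⟨h, hhB⟩) _ _ (fun a => by simp [MulAut.mul_apply])
  have hI : ∀ i ∈ ψ.range, e i = 1 := by
    rintro i ⟨p, rfl⟩
    change e ((p.1 / φ h p.1) * (φ g p.2 / p.2)) = 1
    rw [map_mul, map_div, map_div, he_inv ⟨h, hhB⟩, he_inv ⟨g, hgB⟩, div_self', div_self', one_mul]
  have hB : ∀ b ∈ B, ∀ v : W, v / φ b v ∈ ψ.range := by
    intro b hb
    induction hb using Subgroup.closure_induction with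
    | mem x hx =>
      intro v
      rcases hx with rfl | hx
      · exact ⟨(1, v⁻¹), by simp [ψ, div_eq_mul_inv, mul_comm]⟩
      · rw [Set.mem_singleton_iff] at hx; subst hx
        exact ⟨(v, 1), by simp [ψ]⟩
    | one => intro v; simp
    | mul x y _ _ hx hy =>
      intro v
      have := mul_mem (hy v) (hx (φ y v))
      simpa [MulAut.mul_apply, map_mul] using this
    | inv x _ hx =>
      intro v
      have := inv_mem (hx (φ x⁻¹ v))
      have e : φ x (φ x⁻¹ v) = v := by rw [← MulAut.mul_apply, ← map_mul]; simp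
      rwa [e, inv_div] at this
  have hcB : (Nat.card W).Coprime (Nat.card B) :=
    hcop.coprime_dvd_right (Subgroup.card_subgroup_dvd_card B)
  have hcompl : Subgroup.IsComplement' ψ.range C := by
    apply Subgroup.isComplement'_of_disjoint_and_mul_eq_univ
    · rw [Subgroup.disjoint_def]
      intro c hcI hcC
      have hfix : ∀ b ∈ B, φ b c = c := by
        intro b hb
        induction hb using Subgroup.closure_induction with
        | mem x hx =>
          rcases hx with rfl | hx
          · exact hcC.1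
          · rw [Set.mem_singleton_iff] at hx; subst hx; exact hcC.2
        | one => simp
        | mul x y _ _ hx hy => simp [MulAut.mul_apply, hx, hy]
        | inv x _ hx => rw [map_inv, MulAut.inv_apply, MulEquiv.symm_apply_eq]; exact hx.symm
      have hec : e c = c ^ Nat.card B := by
        change ∏ a : B, φ (a : A) c = _
        rw [Finset.prod_congr rfl (fun (a : B) _ => hfix a a.2)]
        simp [Nat.card_eq_fintype_card]
      rw [hI c hcI] at hec
      apply (powCoprime hcB).injective
      change c ^ Nat.card B = 1 ^ Nat.card B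
      rw [one_pow, ← hec]
    · rw [Set.eq_univ_iff_forall]
      intro u
      obtain ⟨v, rfl⟩ := (powCoprime hcB).surjective u
      refine ⟨∏ a : B, v / φ (a : A) v, ?_, e v, he_mem v, ?_⟩
      · exact Subgroup.prod_mem _ (fun a _ => hB a a.2 v)
      · change (∏ a : B, v / φ (a : A) v) * (∏ a : B, φ (a : A) v) = _
        rw [← Finset.prod_mul_distrib]
        simp [powCoprime, Nat.card_eq_fintype_card]
  have h1 : Nat.card (W × W) = Nat.card ψ.range * Nat.card ψ.ker := by
    rw [Subgroup.card_eq_card_quotient_mul_card_subgroup ψ.ker]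
    congr 1
    exact Nat.card_congr (QuotientGroup.quotientKerEquivRange ψ).toEquiv
  have h2 : Nat.card ψ.range * Nat.card C = Nat.card W := hcompl.card_mul_card
  rw [hker]
  rw [Nat.card_prod] at h1
  have hpos : 0 < Nat.card ψ.range := Nat.card_pos
  apply Nat.eq_of_mul_eq_mul_left hpos
  rw [← h1]
  change _ = Nat.card ψ.range * (Nat.card W * Nat.card C)
  rw [mul_left_comm, h2]

end

/-- Let X be a finite group, V an abelian normal subgroup of X (any two elements of V commute) and G a complement to V in X whose order is coprime to that of V. Let S be a set of representatives of the orbits of G on V under conjugation: S lies in V and every element of V is conjugate under G to exactly one member of S. Then the number of conjugacy classes of X equals the sum, over s in S, of the number of conjugacy classes of the centralizer of s in G. -/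
theorem result {X : Type*} [Group X] [Finite X] (V : Subgroup X) [V.Normal] (hab : ∀ a ∈ V, ∀ b ∈ V, a * b = b * a) (G : Subgroup X) (hGV : Subgroup.IsComplement' V G) (hcop : (Nat.card V).Coprime (Nat.card G)) (S : Finset X) (hSV : ∀ s ∈ S, s ∈ V) (hrep : ∀ v ∈ V, ∃! s, s ∈ S ∧ ∃ g ∈ G, g * v * g⁻¹ = s) : Nat.card (ConjClasses X) = ∑ s ∈ S, Nat.card (ConjClasses ↥(G ⊓ Subgroup.centralizer ({s} : Set X))) := by
  classical
  have := Fintype.ofFinite X
  let instV : CommGroup ↥V :=
    { (inferInstance : Group ↥V) with mul_comm := fun a b => Subtype.ext (hab a a.2 b b.2) }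
  let φ : ↥G →* MulAut ↥V := MulAut.conjNormal.comp G.subtype
  have hφ : ∀ (g : G) (v : V), ((φ g v : V) : X) = g * v * (g : X)⁻¹ := fun g v => rfl
  let eX : ↥V × ↥G ≃ X := Equiv.ofBijective (fun p => (p.1 : X) * p.2) hGV
  -- commutation in coordinates
  have hcomm : ∀ v w : V, ∀ g h : G, Commute ((v : X) * g) ((w : X) * h) ↔
      (Commute g h ∧ v * φ g w = w * φ h v) := by
    intro v w g h
    have e1 : (v : X) * g * ((w : X) * h) = eX (v * φ g w, g * h) := by
      change _ = ((v * φ g w : V) : X) * ((g * h : G) : X)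
      push_cast [hφ]; group
    have e2 : (w : X) * h * ((v : X) * g) = eX (w * φ h v, h * g) := by
      change _ = ((w * φ h v : V) : X) * ((h * g : G) : X)
      push_cast [hφ]; group
    rw [commute_iff_eq, e1, e2, eX.apply_eq_iff_eq, Prod.mk.injEq, commute_iff_eq]
    exact And.comm
  let T := {p : G × G // Commute p.1 p.2}
  let E : {p : X × X // Commute p.1 p.2} ≃
      Σ t : T, {q : V × V // q.1 * φ t.1.1 q.2 = q.2 * φ t.1.2 q.1} :=
    { toFun := fun p =>
        ⟨⟨((eX.symm p.1.1).2, (eX.symm p.1.2).2),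
          ((hcomm (eX.symm p.1.1).1 (eX.symm p.1.2).1 _ _).mp (by
            have h := p.2
            rw [← eX.apply_symm_apply p.1.1, ← eX.apply_symm_apply p.1.2] at h
            exact h)).1⟩,
          ⟨((eX.symm p.1.1).1, (eX.symm p.1.2).1),
          ((hcomm (eX.symm p.1.1).1 (eX.symm p.1.2).1 _ _).mp (by
            have h := p.2
            rw [← eX.apply_symm_apply p.1.1, ← eX.apply_symm_apply p.1.2] at h
            exact h)).2⟩⟩
      invFun := fun s => ⟨(eX (s.2.1.1, s.1.1.1), eX (s.2.1.2, s.1.1.2)),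
        (hcomm _ _ _ _).mpr ⟨s.1.2, s.2.2⟩⟩
      left_inv := fun p => by
        apply Subtype.ext
        exact Prod.ext (eX.apply_symm_apply _) (eX.apply_symm_apply _)
      right_inv := by
        rintro ⟨⟨⟨a, b⟩, hab'⟩, ⟨⟨c, d⟩, hcd⟩⟩
        have e1 := eX.symm_apply_apply (c, a)
        have e2 := eX.symm_apply_apply (d, b)
        refine Sigma.subtype_ext (Subtype.ext ?_) ?_
        · simp only [e1, e2]
        · simp only [e1, e2] }
  have hX : Nat.card (ConjClasses X) * Nat.card X =
      Nat.card V * ∑ t : T, Nat.card {v : V // φ t.1.1 v = v ∧ φ t.1.2 v = v} := by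
    rw [← card_comm_eq_card_conjClasses_mul_card, Nat.card_congr E, Nat.card_sigma, Finset.mul_sum]
    exact Finset.sum_congr rfl fun t _ => card_solutions φ hcop _ _
  let St : V → Subgroup X := fun v => G ⊓ Subgroup.centralizer ({(v : X)} : Set X)
  have hmemSt : ∀ (v : V) (g : G), φ g v = v ↔ (g : X) ∈ St v := by
    intro v g
    rw [Subgroup.mem_inf, Subgroup.mem_centralizer_iff, Subtype.ext_iff, hφ, mul_inv_eq_iff_eq_mul]
    simp only [Set.mem_singleton_iff, forall_eq, g.2, true_and]
    exact eq_comm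
  let E2 : (Σ t : T, {v : V // φ t.1.1 v = v ∧ φ t.1.2 v = v}) ≃
      Σ v : V, {p : St v × St v // Commute p.1 p.2} :=
    { toFun := fun s => ⟨s.2.1, ⟨(⟨s.1.1.1, (hmemSt _ _).mp s.2.2.1⟩, ⟨s.1.1.2, (hmemSt _ _).mp s.2.2.2⟩),
        Subtype.ext (by simpa using congrArg Subtype.val s.1.2.eq)⟩⟩
      invFun := fun s => ⟨⟨(⟨s.2.1.1, s.2.1.1.2.1⟩, ⟨s.2.1.2, s.2.1.2.2.1⟩),
        Subtype.ext (by simpa using congrArg Subtype.val s.2.2.eq)⟩,
        ⟨s.1, (hmemSt _ _).mpr s.2.1.1.2, (hmemSt _ _).mpr s.2.1.2.2⟩⟩
      left_inv := fun s => rfl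
      right_inv := fun s => rfl }
  have hsum : ∑ t : T, Nat.card {v : V // φ t.1.1 v = v ∧ φ t.1.2 v = v} =
      ∑ v : V, Nat.card (ConjClasses (St v)) * Nat.card (St v) := by
    rw [← Nat.card_sigma, Nat.card_congr E2, Nat.card_sigma]
    exact Finset.sum_congr rfl fun v _ => card_comm_eq_card_conjClasses_mul_card _
  choose rep hrep1 hrep2 using fun v : V => hrep v v.2
  let _ : MulAction ↥G ↥V := MulAction.compHom _ φ
  let sv : {s // s ∈ S} → V := fun s => ⟨s.1, hSV _ s.2⟩
  let r : V → {s // s ∈ S} := fun v => ⟨rep v, (hrep1 v).1⟩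
  have hr : ∀ (v : V) (s : {s // s ∈ S}), r v = s ↔ v ∈ MulAction.orbit ↥G (sv s) := by
    intro v s
    constructor
    · rintro rfl
      obtain ⟨g, hg, he⟩ := (hrep1 v).2
      refine ⟨(⟨g, hg⟩ : G)⁻¹, ?_⟩
      apply Subtype.ext
      change ((φ (⟨g, hg⟩ : G)⁻¹ (sv (r v)) : V) : X) = _
      rw [hφ]
      change g⁻¹ * rep v * g⁻¹⁻¹ = _
      rw [← he]; group
    · rintro ⟨g, rfl⟩
      apply Subtype.ext
      refine (hrep2 _ _ ⟨s.2, (g⁻¹ : G), (g⁻¹ : G).2, ?_⟩).symm
      change ((g⁻¹ : G) : X) * ((φ g (sv s) : V) : X) * ((g⁻¹ : G) : X)⁻¹ = s.1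
      rw [hφ, Subgroup.coe_inv]
      group
      rfl
  have hconj : ∀ (v w : V) (g : G), φ g v = w →
      Nat.card (ConjClasses (St v)) * Nat.card (St v) = Nat.card (ConjClasses (St w)) * Nat.card (St w) := by
    rintro v w g rfl
    rw [← card_comm_eq_card_conjClasses_mul_card, ← card_comm_eq_card_conjClasses_mul_card]
    have hmap : (St v).map (MulAut.conj (g : X)).toMonoidHom = St (φ g v) := by
      ext x
      refine Iff.trans (Subgroup.mem_map_equiv (f := MulAut.conj (g : X))) ?_
      rw [MulAut.conj_symm_apply]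
      simp only [St, Subgroup.mem_inf, Subgroup.mem_centralizer_iff, Set.mem_singleton_iff, forall_eq, hφ]
      apply and_congr
      · rw [G.mul_mem_cancel_right g.2, G.mul_mem_cancel_left (G.inv_mem g.2)]
      · constructor
        · intro h
          calc (g : X) * v * (g : X)⁻¹ * x = g * (v * ((g : X)⁻¹ * x * g)) * (g : X)⁻¹ := by group
            _ = g * ((g : X)⁻¹ * x * g * v) * (g : X)⁻¹ := by rw [h]
            _ = x * (g * v * (g : X)⁻¹) := by group
        · intro h
          calc (v : X) * ((g : X)⁻¹ * x * g) = (g : X)⁻¹ * (g * v * (g : X)⁻¹ * x) * g := by group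
            _ = (g : X)⁻¹ * (x * (g * v * (g : X)⁻¹)) * g := by rw [h]
            _ = (g : X)⁻¹ * x * g * v := by group
    let e : St v ≃* St (φ g v) :=
      ((MulAut.conj (g : X)).subgroupMap (St v)).trans (MulEquiv.subgroupCongr hmap)
    exact Nat.card_congr ((e.toEquiv.prodCongr e.toEquiv).subtypeEquiv fun p => by
      simp [commute_iff_eq, ← map_mul])
  have hfib : ∀ s : {s // s ∈ S}, ∑ v ∈ Finset.univ.filter (fun v => r v = s),
      Nat.card (ConjClasses (St v)) * Nat.card (St v) =
        Nat.card (ConjClasses (St (sv s))) * Nat.card G := by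
    intro s
    have h1 : ∀ v ∈ Finset.univ.filter (fun v => r v = s),
        Nat.card (ConjClasses (St v)) * Nat.card (St v) =
          Nat.card (ConjClasses (St (sv s))) * Nat.card (St (sv s)) := by
      intro v hv
      obtain ⟨g, hg⟩ := (hr v s).mp (Finset.mem_filter.mp hv).2
      exact (hconj (sv s) v g hg).symm
    rw [Finset.sum_congr rfl h1, Finset.sum_const, smul_eq_mul, mul_left_comm]
    congr 1
    have h2 : (Finset.univ.filter (fun v => r v = s)).card = Nat.card (MulAction.orbit ↥G (sv s)) := by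
      rw [Nat.card_eq_fintype_card, ← Set.toFinset_card]
      congr 1
      ext v
      simp [hr]
    have h3 : Nat.card (St (sv s)) = Nat.card (MulAction.stabilizer ↥G (sv s)) := Nat.card_congr
      { toFun := fun x => ⟨⟨x.1, x.2.1⟩, (hmemSt _ _).mpr x.2⟩
        invFun := fun x => ⟨x.1, (hmemSt _ _).mp x.2⟩
        left_inv := fun x => rfl
        right_inv := fun x => rfl }
    rw [h2, h3]
    simp only [Nat.card_eq_fintype_card]
    exact MulAction.card_orbit_mul_card_stabilizer_eq_card_group ↥G (sv s)
  have htot : ∑ v : V, Nat.card (ConjClasses (St v)) * Nat.card (St v) =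
      (∑ s ∈ S, Nat.card (ConjClasses ↥(G ⊓ Subgroup.centralizer ({s} : Set X)))) * Nat.card G := by
    rw [← Finset.sum_fiberwise Finset.univ r, Finset.sum_congr rfl (fun s _ => hfib s),
      Finset.sum_mul]
    exact Finset.sum_coe_sort S (fun s => Nat.card (ConjClasses ↥(G ⊓ Subgroup.centralizer ({s} : Set X))) * Nat.card G)
  rw [hsum, htot, ← Subgroup.IsComplement'.card_mul_card hGV] at hX
  apply Nat.eq_of_mul_eq_mul_right (show 0 < Nat.card V * Nat.card G from Nat.mul_pos Nat.card_pos Nat.card_pos)
  rw [hX]; ring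

end Cfsg.Agent.S4956
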