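import Cfsg.Statements.S4957
import Cfsg.Agent.Lib.KGV46.Field
import Cfsg.Agent.Lib.KGV46.Semilinear
import Cfsg.Agent.Lib.KGV46.Plane
import Cfsg.Agent.Lib.KGV46.EightyOne
import Cfsg.Agent.Lib.KGV46.Nonsolvable
import Cfsg.Agent.S3360

set_option autoImplicit false
set_option linter.style.haveILetI false
open Cfsg

namespace Cfsg.Agent.S4957

open Cfsg.Agent.Lib Cfsg.Agent.Lib.KGV46

/-- A group all of whose conjugations by it are transitive on the non-zero vectors of a line is
commutative. -/
theorem comm_of_line {p : ℕ} [Fact p.Prime] {V : Type*} [AddCommGroup V] [Module (ZMod p) V]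
    [Finite V] [Nontrivial V] {G : Type*} [Group G] (ρ : G →* (V ≃ₗ[ZMod p] V))
    (hρ : Function.Injective ρ) (hn : Nat.card V = p) (a b : G) : a * b = b * a := by
  have hfr : Module.finrank (ZMod p) V = 1 := by
    have h := Module.natCard_eq_pow_finrank (K := ZMod p) (V := V)
    rw [hn, Nat.card_zmod] at h
    refine (Nat.pow_right_injective (Fact.out : p.Prime).two_le ?_).symm
    show p ^ 1 = p ^ Module.finrank (ZMod p) V
    rw [pow_one]; exact h
  obtain ⟨v, hv⟩ := exists_ne (0 : V)
  refine hρ (LinearEquiv.ext fun w => ?_)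
  obtain ⟨c, rfl⟩ := exists_smul_eq_of_finrank_eq_one hfr hv w
  obtain ⟨x, hx⟩ := exists_smul_eq_of_finrank_eq_one hfr hv (ρ a v)
  obtain ⟨y, hy⟩ := exists_smul_eq_of_finrank_eq_one hfr hv (ρ b v)
  rw [map_smul, map_smul, rho_mul_apply, rho_mul_apply, ← hy, ← hx, map_smul, map_smul, ← hy, ← hx,
    smul_smul, smul_smul, smul_smul, smul_smul]
  congr 1
  ring

/-- The linear form of the theorem. -/
theorem linear_form {p : ℕ} [Fact p.Prime] {V : Type*} [AddCommGroup V] [Module (ZMod p) V]
    [Finite V] [Nontrivial V] {G : Type*} [Group G] [Finite G] (ρ : G →* (V ≃ₗ[ZMod p] V))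
    (hρ : Function.Injective ρ) (htrans : ∀ v w : V, v ≠ 0 → w ≠ 0 → ∃ g : G, ρ g v = w)
    (hG : ¬ p ∣ Nat.card G) {v : V} (hv : v ≠ 0) :
    Nat.card (ConjClasses G) + Nat.card (ConjClasses (stab ρ v)) ≤ Nat.card V ∧
      (Nat.card (ConjClasses G) + Nat.card (ConjClasses (stab ρ v)) = Nat.card V →
        IsCyclic G ∨ (Nat.card V = 8 ∧ Nat.card G = 21) ∨ (Nat.card V = 9 ∧ Nat.card G = 16)) := by
  classical
  have hp : p.Prime := Fact.out
  haveI := Fintype.ofFinite G
  by_cases hc : ∀ a b : G, a * b = b * a
  · haveI hcyc : IsCyclic G := isCyclic_of_comm ρ hρ htrans hG hc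
    refine ⟨?_, fun _ => Or.inl hcyc⟩
    have hst : stab ρ v = ⊥ := by
      rw [eq_bot_iff]
      intro g hg
      rw [Subgroup.mem_bot]
      refine hρ (LinearEquiv.ext fun w => ?_)
      rcases eq_or_ne w 0 with rfl | hw
      · rw [map_zero, map_zero]
      · obtain ⟨h, rfl⟩ := htrans v w hv hw
        rw [← rho_mul_apply, hc g h, rho_mul_apply, (mem_stab ρ).1 hg, rho_one_apply]
    have h1 : Nat.card (ConjClasses G) ≤ Nat.card G :=
      Nat.card_le_card_of_surjective ConjClasses.mk fun x => Quotient.exists_rep x
    have h2 : Nat.card (ConjClasses (stab ρ v)) ≤ Nat.card (stab ρ v) :=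
      Nat.card_le_card_of_surjective ConjClasses.mk fun x => Quotient.exists_rep x
    have h3 := card_stab_mul ρ htrans hv
    rw [hst, Subgroup.card_bot] at h3
    rw [hst] at h2 ⊢
    rw [Subgroup.card_bot] at h2
    have hV : 1 < Nat.card V := Finite.one_lt_card
    omega
  have hVp : IsPGroup p (Multiplicative V) := fun x => ⟨1, by
    rw [pow_one]
    apply Multiplicative.toAdd.injective
    rw [toAdd_pow, toAdd_one, ← Nat.cast_smul_eq_nsmul (ZMod p), ZMod.natCast_self, zero_smul]⟩
  obtain ⟨n, hn'⟩ := hVp.exists_card_eq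
  have hn : Nat.card V = p ^ n := hn'
  rcases Nat.lt_or_ge n 2 with hn1 | hn2
  · refine absurd (comm_of_line ρ hρ ?_) hc
    have hV : 1 < Nat.card V := Finite.one_lt_card
    interval_cases n <;> simp_all
  rcases eq_or_lt_of_le hn2 with rfl | hn3
  · obtain ⟨h1, h2⟩ := plane_bound ρ hρ htrans hG hn hc hv
    rw [hn]
    refine ⟨h1, fun h => Or.inr (Or.inr ?_)⟩
    obtain ⟨rfl, hG16⟩ := h2 h
    exact ⟨by norm_num, hG16⟩
  have hsol := solvable_of_transitive ρ hρ htrans hG hn hn3
  by_cases hsl : Spectrum.Huppert.IsSemilinear ρ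
  · obtain ⟨h1, h2⟩ := semilinear_bound ρ hρ htrans hG hn hn3 hc hsl hv
    rw [hn]
    refine ⟨h1, fun h => Or.inr (Or.inl ?_)⟩
    obtain ⟨rfl, rfl, hG21⟩ := h2 h
    exact ⟨by norm_num, hG21⟩
  · have hmem := (Cfsg.Agent.S3360.result p hsol ρ hρ htrans).resolve_left hsl
    have h81 : Nat.card V = 81 := by
      rcases hmem with h | h | h | h | h | h
      all_goals first
        | exact h
        | (exfalso
           rw [hn] at h
           have hpN : p ∣ p ^ n := dvd_pow_self p (by omega)
           rw [h] at hpN
           have hle := Nat.le_of_dvd (by norm_num) hpN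
           have hcube : p ^ 3 ≤ p ^ n := Nat.pow_le_pow_right hp.pos hn3
           rw [h] at hcube
           have hlt : p < 9 := by
             by_contra hcon
             have := Nat.pow_le_pow_left (not_lt.1 hcon) 3
             omega
           have := hp.two_le
           interval_cases p <;> omega)
    have h := eighty_one_bound ρ hρ htrans hG hsol hsl h81 hv
    rw [h81]
    exact ⟨h.le, fun h' => absurd h' (Nat.ne_of_lt h)⟩

/-- Let X be a finite group and V a normal subgroup of X in which every element has order dividing the prime p, whose index in X is prime to p and which is its own centralizer in X; so V is an elementary abelian normal Sylow p-subgroup, and any complement G to V in X is a group of order prime to p acting faithfully on the vector space V by conjugation (the coprime linear setting of the k(GV) problem). Suppose a complement G to V in X is transitive by conjugation on the nonidentity elements of V. Then X has at most (order of V) conjugacy classes, and if equality holds then G is cyclic (hence, being transitive,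 a Singer cycle), or V has order 8 and G has order 21 (the nonabelian group of order 21 inside the simple group of order 168), or V has order 9 and G has order 16 (a semidihedral Sylow 2-subgroup of the 2-dimensional general linear group over the field with 3 elements). -/
theorem result {X : Type*} [Group X] [Finite X] (p : ℕ) [Fact p.Prime] (V : Subgroup X) [V.Normal] (hVexp : ∀ v ∈ V, v ^ p = 1) (hidx : ¬ p ∣ V.index) (hself : Subgroup.centralizer (V : Set X) = V) (G : Subgroup X) (hGV : Subgroup.IsComplement' V G) (htrans : ∀ v ∈ V, ∀ w ∈ V, v ≠ 1 → w ≠ 1 → ∃ g ∈ G, g * v * g⁻¹ = w) : Nat.card (ConjClasses X) ≤ Nat.card V ∧ (Nat.card (ConjClasses X) = Nat.card V → (IsCyclic G ∨ (Nat.card V = 8 ∧ Nat.card G = 21) ∨ (Nat.card V = 9 ∧ Nat.card G = 16))) := by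
  classical
  have hp : p.Prime := Fact.out
  rcases eq_or_ne V ⊥ with hV | hV
  · subst hV
    have hX : ∀ x : X, x = 1 := by
      intro x
      have hx : x ∈ Subgroup.centralizer ((⊥ : Subgroup X) : Set X) :=
        Subgroup.mem_centralizer_iff.2 fun m hm => by
          rw [Subgroup.coe_bot, Set.mem_singleton_iff] at hm
          rw [hm, one_mul, mul_one]
      rwa [hself, Subgroup.mem_bot] at hx
    haveI : Subsingleton X := ⟨fun a b => (hX a).trans (hX b).symm⟩
    refine ⟨?_, fun _ => Or.inl inferInstance⟩
    haveI : Subsingleton (ConjClasses X) := ConjClasses.mk_surjective.subsingleton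
    exact (Finite.card_le_one_iff_subsingleton.2 inferInstance).trans Nat.card_pos
  letI : CommGroup V :=
    { (inferInstance : Group V) with
      mul_comm := fun a b => Subtype.ext (by
        have ha : (a : X) ∈ Subgroup.centralizer (V : Set X) := hself.symm ▸ a.2
        exact (Subgroup.mem_centralizer_iff.1 ha b b.2).symm) }
  have hexp : ∀ w : Additive V, p • w = 0 := fun w =>
    Additive.toMul.injective (Subtype.ext (by simpa using hVexp _ (Additive.toMul w).2))
  letI : Module (ZMod p) (Additive V) := AddCommGroup.zmodModule (n := p) hexp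
  haveI : Nontrivial V := (Subgroup.nontrivial_iff_ne_bot V).2 hV
  let ρ : G →* (Additive V ≃ₗ[ZMod p] Additive V) :=
    { toFun := fun g => (MulEquiv.toAdditive (MulAut.conjNormal (g : X) : MulAut V)).toLinearEquiv
        (fun c x => ZMod.map_smul (MulEquiv.toAdditive (MulAut.conjNormal (g : X) : MulAut V)) c x)
      map_one' := LinearEquiv.ext fun w => Additive.toMul.injective (Subtype.ext (by simp))
      map_mul' := fun a b => LinearEquiv.ext fun w => Additive.toMul.injective (Subtype.ext (by
        simp [mul_assoc])) }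
  have hval : ∀ (g : G) (w : Additive V),
      ((Additive.toMul (ρ g w) : V) : X) = g * (Additive.toMul w : V) * (g : X)⁻¹ := by
    intro g w
    simp [ρ]
  have hcard : Nat.card (Additive V) = Nat.card V := Nat.card_congr Additive.toMul
  have hρ : Function.Injective ρ := by
    intro a b hab
    have h : ((b : X))⁻¹ * a ∈ Subgroup.centralizer (V : Set X) := by
      refine Subgroup.mem_centralizer_iff.2 fun m hm => ?_
      have h1 := congrArg (fun e : Additive V ≃ₗ[ZMod p] Additive V =>
        ((Additive.toMul (e (Additive.ofMul (⟨m, hm⟩ : V))) : V) : X)) hab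
      simp only [hval, toMul_ofMul] at h1
      calc m * ((b : X)⁻¹ * a) = (b : X)⁻¹ * ((b : X) * m * (b : X)⁻¹) * a := by group
        _ = (b : X)⁻¹ * ((a : X) * m * (a : X)⁻¹) * a := by rw [h1]
        _ = (b : X)⁻¹ * a * m := by group
    rw [hself] at h
    have h2 : ((b : X))⁻¹ * a ∈ G := G.mul_mem (G.inv_mem b.2) a.2
    have h3 : (b : X)⁻¹ * a = 1 := Subgroup.disjoint_def.1 hGV.disjoint h h2
    exact Subtype.ext (inv_mul_eq_one.1 h3).symm
  have htr : ∀ u w : Additive V, u ≠ 0 → w ≠ 0 → ∃ g : G, ρ g u = w := by
    intro u w hu hw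
    obtain ⟨g, hg, hgw⟩ := htrans _ (Additive.toMul u).2 _ (Additive.toMul w).2
      (fun h => hu (Additive.toMul.injective (Subtype.ext h)))
      (fun h => hw (Additive.toMul.injective (Subtype.ext h)))
    exact ⟨⟨g, hg⟩, Additive.toMul.injective (Subtype.ext ((hval _ _).trans hgw))⟩
  have hGp : ¬ p ∣ Nat.card G := by
    rwa [← hGV.symm.index_eq_card]
  let e : Additive V × G ≃ X :=
    (Additive.toMul.prodCongr (Equiv.refl G)).trans (Equiv.ofBijective _ hGV)
  have he : ∀ a b : Additive V × G, Commute (e a) (e b) ↔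
      Commute a.2 b.2 ∧ a.1 + ρ a.2 b.1 = b.1 + ρ b.2 a.1 := by
    intro a b
    have hinj : Function.Injective e := e.injective
    have heval : ∀ c : Additive V × G, e c = ((Additive.toMul c.1 : V) : X) * (c.2 : X) :=
      fun c => rfl
    have hmul : ∀ c d : Additive V × G, e c * e d = e (c.1 + ρ c.2 d.1, c.2 * d.2) := by
      intro c d
      rw [heval, heval, heval]
      simp only [toMul_add, Subgroup.coe_mul, hval]
      group
    show e a * e b = e b * e a ↔ _
    rw [hmul, hmul, hinj.eq_iff, Prod.ext_iff, and_comm]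
    exact Iff.rfl
  obtain ⟨v, hv⟩ := exists_ne (0 : Additive V)
  have hk := card_conjClasses_of_equiv ρ e he htr hGp hv
  rw [hk, ← hcard]
  exact linear_form ρ hρ htr hGp hv

end Cfsg.Agent.S4957
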