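import Cfsg.Statements.S4959
import Cfsg.Agent.Lib.SelfDual.Basic
import Cfsg.Agent.Lib.GaloisMean.Gauss
import Cfsg.Agent.Lib.GaloisMean.RealVector

set_option autoImplicit false
open Cfsg

namespace Cfsg.Agent.S4959

open scoped ComplexConjugate

/-- The number of fixed points is a character. -/
theorem isCharacter_fix {H : Type*} [Group H] {U : Type*} [AddCommGroup U] [Fintype U]
    (a : H →* AddMonoid.End U) :
    Cfsg.IsCharacter H (fun h => (Nat.card {u : U // a h u = u} : ℂ)) := by
  classical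
  have hcomp : ∀ g h u, a g (a h u) = a (g * h) u := fun g h u => by rw [map_mul]; rfl
  let ρ : Representation ℂ H (U → ℂ) :=
    { toFun := fun h =>
        { toFun := fun f y => f (a h⁻¹ y)
          map_add' := fun f g => rfl
          map_smul' := fun c f => rfl }
      map_one' := LinearMap.ext fun f => funext fun y => by simp
      map_mul' := fun g h => LinearMap.ext fun f => funext fun y => by
        simp only [LinearMap.coe_mk, AddHom.coe_mk, Module.End.mul_apply, mul_inv_rev, hcomp] }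
  convert Cfsg.Agent.Lib.Characters.Basic.isCharacter_character ρ using 1
  funext h
  rw [Representation.character, LinearMap.trace_eq_matrix_trace ℂ (Pi.basisFun ℂ U), Matrix.trace]
  simp only [Matrix.diag_apply, LinearMap.toMatrix_apply, Pi.basisFun_apply, Pi.basisFun_repr]
  simp only [ρ, MonoidHom.coe_mk, OneHom.coe_mk, LinearMap.coe_mk, AddHom.coe_mk, Pi.single_apply]
  rw [Finset.sum_boole, Nat.card_eq_fintype_card, Fintype.card_subtype]
  congr 2
  ext x
  simp only [Finset.mem_filter, Finset.mem_univ, true_and]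
  constructor <;> intro hx
  · conv_lhs => rw [← hx]
    rw [hcomp, inv_mul_cancel, map_one]; rfl
  · conv_lhs => rw [← hx]
    rw [hcomp, mul_inv_cancel, map_one]; rfl

/-- An alternating form is the commutator of an invariant bilinear form. -/
theorem exists_cocycle {p : ℕ} [Fact p.Prime] {W : Type*} [AddCommGroup W] [Module (ZMod p) W]
    [FiniteDimensional (ZMod p) W] {H : Type*} [Group H] [Finite H] (hcop : (Nat.card H : ZMod p) ≠ 0)
    (ρ : Representation (ZMod p) H W) (A : LinearMap.BilinForm (ZMod p) W) (halt : ∀ x, A x x = 0)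
    (hA : ∀ h x y, A (ρ h x) (ρ h y) = A x y) :
    ∃ q : W →+ W →+ ZMod p, (∀ x y, q x y - q y x = A x y) ∧
      ∀ h x y, q (ρ h x) (ρ h y) = q x y := by
  classical
  have := Fintype.ofFinite H
  let bs := Module.finBasis (ZMod p) W
  let b : LinearMap.BilinForm (ZMod p) W :=
    bs.constr (ZMod p) fun i => bs.constr (ZMod p) fun j => if i < j then A (bs i) (bs j) else 0
  have hb : b - b.flip = A := by
    refine bs.ext fun i => bs.ext fun j => ?_
    simp only [LinearMap.sub_apply, LinearMap.BilinForm.flip_apply, LinearMap.flip_apply, b, Module.Basis.constr_basis]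
    rcases lt_trichotomy i j with h | h | h
    · rw [if_pos h, if_neg h.not_gt, sub_zero]
    · subst h
      simp [halt]
    · rw [if_neg h.not_gt, if_pos h, zero_sub]
      have e := halt (bs i + bs j)
      simp only [map_add, LinearMap.add_apply, halt] at e
      linear_combination -e
  let q : LinearMap.BilinForm (ZMod p) W :=
    (Nat.card H : ZMod p)⁻¹ • ∑ h : H, b.compl₁₂ (ρ h) (ρ h)
  refine ⟨AddMonoidHom.mk' (fun x => (q x).toAddMonoidHom) (fun x y => by ext z; simp),
    fun x y => ?_, fun g x y => ?_⟩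
  · simp only [AddMonoidHom.mk'_apply, LinearMap.toAddMonoidHom_coe, q, LinearMap.smul_apply,
      LinearMap.sum_apply, LinearMap.compl₁₂_apply, smul_eq_mul]
    rw [← mul_sub, ← Finset.sum_sub_distrib]
    have : ∀ h : H, b (ρ h x) (ρ h y) - b (ρ h y) (ρ h x) = A x y := fun h => by
      rw [← hA h x y, ← hb]
      rfl
    rw [Finset.sum_congr rfl fun h _ => this h, Finset.sum_const, Finset.card_univ, nsmul_eq_mul,
      ← Nat.card_eq_fintype_card, ← mul_assoc, inv_mul_cancel₀ hcop, one_mul]
  · simp only [AddMonoidHom.mk'_apply, LinearMap.toAddMonoidHom_coe, q, LinearMap.smul_apply,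
      LinearMap.sum_apply, LinearMap.compl₁₂_apply, smul_eq_mul]
    congr 1
    refine Fintype.sum_equiv (Equiv.mulRight g) _ _ fun h => ?_
    simp [map_mul]

/-- The theorem with the module `U` given abstractly. -/
theorem main {X : Type*} [Group X] [Finite X] (p : ℕ) [Fact p.Prime] (V : Subgroup X) [V.Normal]
    (hVexp : ∀ v ∈ V, v ^ p = 1) (hidx : ¬ p ∣ V.index) (hab : ∀ a ∈ V, ∀ b ∈ V, a * b = b * a)
    (G : Subgroup X) (hGV : Subgroup.IsComplement' V G) {v : X} (hv : v ∈ V)
    (H : Subgroup X) (hHG : H ≤ G) (hHv : ∀ h ∈ H, Commute v h)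
    (hHmax : ∀ g ∈ G, Commute v g → g ∈ H)
    {E : Type*} [AddCommGroup E] [Module (ZMod p) E] [Finite E] (ι : E → X)
    (hιadd : ∀ x y, ι (x + y) = ι x * ι y) (hιinj : Function.Injective ι) (hιV : ∀ x, ι x ∈ V)
    (a : H →* AddMonoid.End E) (hιa : ∀ (h : H) (x : E), ι (a h x) = (h : X) * ι x * (h : X)⁻¹)
    (B : LinearMap.BilinForm (ZMod p) E) (hBinv : ∀ h x y, B (a h x) (a h y) = B x y)
    (hBnd : ∀ x, (∀ y, B x y = 0) → x = 0) (hfaith : ∀ h, (∀ x, a h x = x) → h = 1) :
    Nat.card (ConjClasses X) ≤ Nat.card V := by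
  classical
  have hp : p.Prime := Fact.out
  have := Fintype.ofFinite X
  have : FiniteDimensional (ZMod p) E := Module.Finite.of_finite
  have hexp : ∀ u : E, p • u = 0 := fun u => ZModModule.char_nsmul_eq_zero p u
  let ρ : Representation (ZMod p) H E :=
    { toFun := fun h =>
        { toFun := a h
          map_add' := map_add (a h)
          map_smul' := fun c u => ZMod.map_smul (a h) c u }
      map_one' := LinearMap.ext fun u => DFunLike.congr_fun (map_one a) u
      map_mul' := fun g h => LinearMap.ext fun u => DFunLike.congr_fun (map_mul a g h) u }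
  have hHdvd : Nat.card H ∣ V.index := by
    rw [hGV.symm.index_eq_card]
    exact Subgroup.card_dvd_of_le hHG
  have hpH : ¬ p ∣ Nat.card H := fun h => hidx (h.trans hHdvd)
  have hcop : (Nat.card H : ZMod p) ≠ 0 := fun h => hpH ((ZMod.natCast_eq_zero_iff _ _).mp h)
  obtain ⟨U₁, U₂, hdisj, hsup, hU₁, hU₂, ⟨A, A1, A2, A3⟩, ⟨S, S1, S2, S3⟩, htriv⟩ :=
    Cfsg.Agent.Lib.SelfDual.exists_split (B := B) (ρ := ρ) hBinv hcop _ ⊤ rfl (fun _ _ _ => Submodule.mem_top)
      (fun x _ h0 => hBnd x fun y => h0 y Submodule.mem_top)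
  have := Fintype.ofFinite E
  -- the conclusion from one faithful invariant subspace with a suitable character
  have finish : ∀ U₀ : Submodule (ZMod p) E, (∀ h u, u ∈ U₀ → a h u ∈ U₀) →
      (∀ h, (∀ u ∈ U₀, a h u = u) → h = 1) →
      (∃ F : ↥H × Multiplicative (ZMod p) → ℂ, Cfsg.IsCharacter _ F ∧ ∀ h c, c ≠ 0 →
        F (h, Multiplicative.ofAdd c) * conj (F (h, Multiplicative.ofAdd c)) =
          (Nat.card {u : U₀ // a h u = u} : ℂ) ∧
        IsIntegral ℤ (F (h, Multiplicative.ofAdd c) ^ 4 /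
          (Nat.card {u : U₀ // a h u = u} : ℂ) ^ 2)) →
      Nat.card (ConjClasses X) ≤ Nat.card V := by
    intro U₀ hinv hfaith hF
    obtain ⟨F, hF, hF'⟩ := hF
    let a₀ : H →* AddMonoid.End U₀ :=
      { toFun := fun h => AddMonoidHom.mk' (fun u => ⟨a h u, hinv h u u.2⟩)
          (fun u w => Subtype.ext (map_add (a h) (u : E) w))
        map_one' := AddMonoidHom.ext fun u => Subtype.ext (by
          change a 1 (u : E) = u
          rw [map_one]; rfl)
        map_mul' := fun g h => AddMonoidHom.ext fun u => Subtype.ext (by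
          change a (g * h) (u : E) = a g (a h u)
          rw [map_mul]; rfl) }
    have hiff : ∀ h (u : U₀), a₀ h u = u ↔ a h u = u := fun h u => Subtype.ext_iff
    have hcard : ∀ h, Nat.card (Cfsg.Agent.Lib.GaloisMean.Gauss.fix a₀ h) =
        Nat.card {u : U₀ // a h u = u} := fun h => Nat.card_congr (Equiv.subtypeEquivRight (hiff h))
    refine Cfsg.Agent.Lib.GaloisMean.RealVector.card_conjClasses_le p V hVexp hidx hab G hGV hv H
      hHG hHv hHmax F hF (Nat.card U₀) (fun h => Nat.card {u : U₀ // a h u = u}) ?_ ?_ ?_ ?_ ?_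
      (fun h c hc => (hF' h c hc).1) (fun h c hc => (hF' h c hc).2) ?_
    · convert isCharacter_fix a₀ using 1
      funext h
      rw [← hcard]
      rfl
    · simp only [map_one]
      exact Nat.card_congr (Equiv.subtypeUnivEquiv fun u => rfl)
    · intro h
      rw [← hcard]
      exact AddSubgroup.card_addSubgroup_dvd_card _
    · intro h hh
      obtain ⟨k, hk⟩ : ∃ k, Nat.card U₀ = p ^ k := ⟨_, (Module.natCard_eq_pow_finrank (K := ZMod p)).trans (by rw [Nat.card_zmod])⟩
      have hd := AddSubgroup.card_addSubgroup_dvd_card (Cfsg.Agent.Lib.GaloisMean.Gauss.fix a₀ h)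
      rw [hcard, hk] at hd
      obtain ⟨i, hi, hie⟩ := (Nat.dvd_prime_pow hp).mp hd
      rw [hk, hie, ← pow_succ']
      refine pow_dvd_pow p (lt_of_le_of_ne hi fun e => hh (hfaith h fun u hu => ?_))
      have : Cfsg.Agent.Lib.GaloisMean.Gauss.fix a₀ h = ⊤ := by
        refine AddSubgroup.eq_top_of_card_eq _ ?_
        rw [hcard, hie, e, hk]
      have h2 : (⟨u, hu⟩ : U₀) ∈ Cfsg.Agent.Lib.GaloisMean.Gauss.fix a₀ h := by
        rw [this]; trivial
      exact (hiff h ⟨u, hu⟩).mp h2
    · exact ⟨_, (Module.natCard_eq_pow_finrank (K := ZMod p)).trans (by rw [Nat.card_zmod])⟩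
    · intro h
      have hconj : ∀ w : V, (h : X) * (w : X) * (h : X)⁻¹ ∈ V := fun w => ‹V.Normal›.conj_mem w w.2 h
      let ι₀ : U₀ → X := fun u => ι u
      let fixV := {w : V // (h : X) * w * (h : X)⁻¹ = w}
      let s : X → U₀ := fun w => if e : ∃ u : U₀, ∃ c : fixV, ι₀ u * (c.1 : X) = w then e.choose else 0
      have hs : ∀ (u : U₀) (c : fixV), ∃ c' : fixV, ι₀ (s (ι₀ u * (c.1 : X))) * (c'.1 : X) = ι₀ u * (c.1 : X) := by
        intro u c
        have e : ∃ u' : U₀, ∃ c' : fixV, ι₀ u' * (c'.1 : X) = ι₀ u * (c.1 : X) := ⟨u, c, rfl⟩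
        simp only [s, dif_pos e]
        exact e.choose_spec
      have hdiff : ∀ (u : U₀) (c : fixV), a h ((u - s (ι₀ u * (c.1 : X)) : U₀) : E) =
          ((u - s (ι₀ u * (c.1 : X)) : U₀) : E) := by
        intro u c
        obtain ⟨c', hc'⟩ := hs u c
        set w := s (ι₀ u * (c.1 : X))
        apply hιinj
        rw [hιa]
        have e1 : ι ((u - w : U₀) : E) = ι₀ u * (ι₀ w)⁻¹ := by
          rw [eq_mul_inv_iff_mul_eq]
          change ι ((u - w : U₀) : E) * ι (w : E) = ι (u : E)
          rw [← hιadd, ← Submodule.coe_add, sub_add_cancel]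
        have hwV : ι₀ w ∈ V := hιV _
        have e2 : ι₀ u * (ι₀ w)⁻¹ = (c'.1 : X) * (c.1 : X)⁻¹ := by
          have e3 : ι₀ u = ι₀ w * ((c'.1 : X) * (c.1 : X)⁻¹) := by
            rw [← mul_assoc, hc', mul_inv_cancel_right]
          rw [e3, hab _ hwV _ (V.mul_mem c'.1.2 (V.inv_mem c.1.2)), mul_inv_cancel_right]
        rw [e1, e2]
        calc (h : X) * ((c'.1 : X) * (c.1 : X)⁻¹) * (h : X)⁻¹
            = ((h : X) * (c'.1 : X) * (h : X)⁻¹) * ((h : X) * (c.1 : X) * (h : X)⁻¹)⁻¹ := by group
          _ = (c'.1 : X) * (c.1 : X)⁻¹ := by rw [c'.2, c.2]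
      rw [← Nat.card_prod, ← Nat.card_prod]
      refine Nat.card_le_card_of_injective (fun x : U₀ × fixV =>
        ((⟨ι₀ x.1 * (x.2.1 : X), V.mul_mem (hιV _) x.2.1.2⟩ : V),
          (⟨x.1 - s (ι₀ x.1 * (x.2.1 : X)), hdiff x.1 x.2⟩ : {u : U₀ // a h u = u}))) ?_
      intro x y hxy
      simp only [Prod.mk.injEq, Subtype.mk.injEq] at hxy
      have h3 := hxy.1
      rw [hxy.1] at hxy
      have h1 : x.1 = y.1 := sub_left_inj.mp hxy.2
      refine Prod.ext h1 (Subtype.ext (Subtype.ext ?_))
      exact mul_left_cancel (h1 ▸ h3)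
  -- the symplectic part
  have hρa : ∀ h u, ρ h u = a h u := fun h u => rfl
  let ρ₁ : Representation (ZMod p) H U₁ :=
    { toFun := fun h => (ρ h).restrict (hU₁ h)
      map_one' := LinearMap.ext fun u => Subtype.ext (by
        change ρ 1 (u : E) = u
        rw [map_one]; rfl)
      map_mul' := fun g h => LinearMap.ext fun u => Subtype.ext (by
        change ρ (g * h) (u : E) = ρ g (ρ h u)
        rw [map_mul]; rfl) }
  let A' : LinearMap.BilinForm (ZMod p) U₁ := A.compl₁₂ U₁.subtype U₁.subtype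
  obtain ⟨q, hq, hqinv⟩ := exists_cocycle hcop ρ₁ A' (fun x => A1 x)
    (fun h x y => A2 h x x.2 y y.2)
  have hqnd : Cfsg.Agent.Lib.GaloisMean.Weil.ND q := fun u hu => by
    refine Subtype.ext (A3 u u.2 fun y hy => ?_)
    have := hq u ⟨y, hy⟩
    rw [hu ⟨y, hy⟩, sub_self] at this
    exact this.symm
  let a₁ : H →* AddMonoid.End U₁ :=
    { toFun := fun h => (ρ₁ h).toAddMonoidHom
      map_one' := by rw [map_one]; rfl
      map_mul' := fun g h => by rw [map_mul]; rfl }
  have hcopU : (Nat.card H).Coprime (Fintype.card U₁) := by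
    rw [← Nat.card_eq_fintype_card, Module.natCard_eq_pow_finrank (K := ZMod p) (V := U₁), Nat.card_zmod]
    exact ((Nat.Prime.coprime_iff_not_dvd hp).mpr hpH).symm.pow_right _
  obtain ⟨χ, hχ, hχn, hχ4⟩ := Cfsg.Agent.Lib.GaloisMean.Weil.exists_char a₁ hqinv hqnd
    (fun u => Subtype.ext (hexp u)) hcopU
  have hfix₁ : ∀ h, Nat.card {u : U₁ // a₁ h u = u} = Nat.card {u : U₁ // a h u = u} := fun h =>
    Nat.card_congr (Equiv.subtypeEquivRight fun u => Subtype.ext_iff)
  have hroot : ∀ (l : ℂ), l ^ Nat.card H = 1 → IsIntegral ℤ l := fun l hl =>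
    IsIntegral.of_pow Nat.card_pos (by rw [hl]; exact isIntegral_one)
  by_cases hp2 : p = 2
  · refine finish U₁ (fun h u hu => hU₁ h u hu) (fun h hh => ?_)
      ⟨fun x => χ x.1, Cfsg.Agent.Lib.Characters.Basic.isCharacter_comp (MonoidHom.fst H (Multiplicative (ZMod p))) hχ,
        fun h c _ => ⟨?_, ?_⟩⟩
    · have hall : ∀ u : E, a h u = u := fun u => by
        obtain ⟨x, hx, y, hy, rfl⟩ := Submodule.mem_sup.mp (hsup.symm ▸ Submodule.mem_top (x := u))
        rw [map_add, hh x hx]
        have : (2 : ZMod p) = 0 := by subst hp2; rfl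
        rw [show a h y = y from htriv this h y hy]
      exact hfaith h hall
    · rw [Complex.mul_conj, ← hfix₁]
      exact_mod_cast hχn h
    · obtain ⟨l, hl, hl4⟩ := hχ4 h
      rw [← hfix₁, hl4, mul_div_cancel_right₀]
      · exact hroot l hl
      · refine pow_ne_zero 2 (Nat.cast_ne_zero.mpr ?_)
        haveI : Nonempty {u : U₁ // a₁ h u = u} := ⟨⟨0, map_zero _⟩⟩
        exact Nat.card_pos.ne'
  -- the orthogonal part
  let ρ₂ : Representation (ZMod p) H U₂ :=
    { toFun := fun h => (ρ h).restrict (hU₂ h)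
      map_one' := LinearMap.ext fun u => Subtype.ext (by
        change ρ 1 (u : E) = u
        rw [map_one]; rfl)
      map_mul' := fun g h => LinearMap.ext fun u => Subtype.ext (by
        change ρ (g * h) (u : E) = ρ g (ρ h u)
        rw [map_mul]; rfl) }
  let a₂ : H →* AddMonoid.End U₂ :=
    { toFun := fun h => (ρ₂ h).toAddMonoidHom
      map_one' := by rw [map_one]; rfl
      map_mul' := fun g h => by rw [map_mul]; rfl }
  let S' : U₂ →+ U₂ →+ ZMod p :=
    AddMonoidHom.mk' (fun x => ((S (x : E)).comp U₂.subtype).toAddMonoidHom)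
      (fun x y => by ext z; simp)
  obtain ⟨Fg, hFg, hFg'⟩ := Cfsg.Agent.Lib.GaloisMean.Gauss.exists_char (q := S') a₂
    (fun h x y => S2 h x x.2 y y.2) (fun x y => S1 x y)
    (fun x hx => Subtype.ext (S3 x x.2 fun y hy => hx ⟨y, hy⟩)) hp2 (fun u => Subtype.ext (hexp u)) hpH
  refine finish ⊤ (fun _ _ _ => Submodule.mem_top) (fun h hh => ?_)
    ⟨fun x => χ x.1 * Fg x, Cfsg.Agent.Lib.Characters.Basic.isCharacter_mul
      (Cfsg.Agent.Lib.Characters.Basic.isCharacter_comp (MonoidHom.fst H (Multiplicative (ZMod p))) hχ) hFg, fun h c hc => ?_⟩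
  · exact hfaith h fun u => hh u Submodule.mem_top
  have hn : Nat.card {u : U₁ // a₁ h u = u} * Nat.card {u : U₂ // a₂ h u = u} =
      Nat.card {u : (⊤ : Submodule (ZMod p) E) // a h u = u} := by
    rw [← Nat.card_prod]
    refine Nat.card_congr (Equiv.ofBijective (fun x => ⟨⟨(x.1.1 : E) + x.2.1, Submodule.mem_top⟩, by
      change a h ((x.1.1 : E) + x.2.1) = (x.1.1 : E) + x.2.1
      have e1 : a h (x.1.1 : E) = x.1.1 := congrArg Subtype.val x.1.2
      have e2 : a h (x.2.1 : E) = x.2.1 := congrArg Subtype.val x.2.2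
      rw [map_add, e1, e2]⟩) ⟨?_, ?_⟩)
    · intro x y hxy
      have e : (x.1.1 : E) + x.2.1 = y.1.1 + y.2.1 :=
        congrArg (fun z => ((z.1 : (⊤ : Submodule (ZMod p) E)) : E)) hxy
      have h1 : (x.1.1 : E) - y.1.1 = y.2.1 - x.2.1 := by
        rw [sub_eq_sub_iff_add_eq_add, e, add_comm]
      have h2 : (x.1.1 : E) - y.1.1 ∈ U₁ ⊓ U₂ :=
        ⟨U₁.sub_mem x.1.1.2 y.1.1.2, h1 ▸ U₂.sub_mem y.2.1.2 x.2.1.2⟩
      rw [hdisj, Submodule.mem_bot] at h2
      rw [h2, eq_comm, sub_eq_zero] at h1
      exact Prod.ext (Subtype.ext (Subtype.ext (sub_eq_zero.mp h2))) (Subtype.ext (Subtype.ext h1.symm))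
    · rintro ⟨⟨u, -⟩, hu⟩
      obtain ⟨x, hx, y, hy, rfl⟩ := Submodule.mem_sup.mp (hsup.symm ▸ Submodule.mem_top (x := u))
      have hu' : a h x + a h y = x + y := by rw [← map_add]; exact hu
      have h2 : a h x - x ∈ U₁ ⊓ U₂ := by
        refine ⟨U₁.sub_mem (hU₁ h x hx) hx, ?_⟩
        have : a h x - x = y - a h y := by rw [sub_eq_sub_iff_add_eq_add, hu', add_comm]
        rw [this]
        exact U₂.sub_mem hy (hU₂ h y hy)
      rw [hdisj, Submodule.mem_bot, sub_eq_zero] at h2
      rw [h2, add_right_inj] at hu'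
      exact ⟨(⟨⟨x, hx⟩, Subtype.ext h2⟩, ⟨⟨y, hy⟩, Subtype.ext hu'⟩), rfl⟩
  obtain ⟨g1, g2⟩ := hFg' h c hc
  constructor
  · rw [← hn, Nat.cast_mul, map_mul, mul_mul_mul_comm, g1, Complex.mul_conj]
    congr 1
    exact_mod_cast hχn h
  · obtain ⟨l, hl, hl4⟩ := hχ4 h
    rw [← hn, Nat.cast_mul, mul_pow, mul_pow, hl4, g2, mul_assoc l, mul_div_cancel_right₀]
    · exact hroot l hl
    · haveI : Nonempty {u : U₁ // a₁ h u = u} := ⟨⟨0, map_zero _⟩⟩
      haveI : Nonempty {u : U₂ // a₂ h u = u} := ⟨⟨0, map_zero _⟩⟩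
      exact mul_ne_zero (pow_ne_zero 2 (Nat.cast_ne_zero.mpr Nat.card_pos.ne'))
        (pow_ne_zero 2 (Nat.cast_ne_zero.mpr Nat.card_pos.ne'))

/-- Let X be a finite group and V a normal subgroup of X in which every element has order dividing the prime p, whose index in X is prime to p and which is its own centralizer in X; so V is an elementary abelian normal Sylow p-subgroup, and any complement G to V in X is a group of order prime to p acting faithfully on the vector space V by conjugation (the coprime linear setting of the k(GV) problem). Let G be a complement to V in X, let v be in V and let H be the centralizer of v in G. Suppose there is a subgroup U of V normalized by H, on which H acts faithfully, and carrying an H-invariant bi-additive pairing β with values in the integers modulo p that is nondegenerate on U (equivalently: the restriction of the module V to H has a faithful self-dual submodule; such a v is called a real vector for G). Then the number of conjugacy classes of X is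 at most the order of V (the real-vector criterion for the k(GV) problem). The pairing is given as a function on X whose relevant values are those on pairs from U. -/
theorem result {X : Type*} [Group X] [Finite X] (p : ℕ) [Fact p.Prime] (V : Subgroup X) [V.Normal] (hVexp : ∀ v ∈ V, v ^ p = 1) (hidx : ¬ p ∣ V.index) (hself : Subgroup.centralizer (V : Set X) = V) (G : Subgroup X) (hGV : Subgroup.IsComplement' V G) (v : X) (hv : v ∈ V) (U : Subgroup X) (hUV : U ≤ V) (hUinv : ∀ h ∈ G, h * v * h⁻¹ = v → ∀ u ∈ U, h * u * h⁻¹ ∈ U) (hUfaith : ∀ h ∈ G, h * v * h⁻¹ = v → (∀ u ∈ U, h * u * h⁻¹ = u) → h = 1) (β : X → X → ZMod p) (hβl : ∀ u ∈ U, ∀ u' ∈ U, ∀ w ∈ U, β (u * u') w = β u w + β u' w) (hβr : ∀ u ∈ U, ∀ w ∈ U, ∀ w' ∈ U, β u (w * w') = β u w + β u w') (hβinv : ∀ h ∈ G, h * v * h⁻¹ = v → ∀ u ∈ U, ∀ w ∈ U, β (h * u * h⁻¹) (h * w * h⁻¹) = β u w) (hβnd : ∀ u ∈ U, (∀ w ∈ U, β u w = 0) → u = 1) : Nat.card (ConjClasses X) ≤ Nat.card V := by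
  classical
  have hab : ∀ a ∈ V, ∀ b ∈ V, a * b = b * a := fun a ha b hb => by
    rw [← hself] at hb
    exact Subgroup.mem_centralizer_iff.mp hb a ha
  have hUab : ∀ a ∈ U, ∀ b ∈ U, a * b = b * a := fun a ha b hb => hab a (hUV ha) b (hUV hb)
  letI instU : CommGroup U :=
    { (inferInstance : Group U) with
      mul_comm := fun a b => Subtype.ext (hUab a a.2 b b.2) }
  set H : Subgroup X := G ⊓ Subgroup.centralizer ({v} : Set X) with hHdef
  have hHG : H ≤ G := inf_le_left
  have hHv : ∀ h ∈ H, Commute v h := fun h hh => Subgroup.mem_centralizer_iff.mp hh.2 v rfl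
  have hHmax : ∀ g ∈ G, Commute v g → g ∈ H := fun g hg hc => ⟨hg, by
    refine Subgroup.mem_centralizer_iff.mpr ?_
    rintro _ rfl; exact hc.eq⟩
  have hfix : ∀ h ∈ H, h * v * h⁻¹ = v := fun h hh => by
    rw [← (hHv h hh).eq, mul_inv_cancel_right]
  clear_value H
  let mv : H → Additive U → Additive U := fun h u => Additive.ofMul
    ⟨(h : X) * (u.toMul : X) * (h : X)⁻¹, hUinv h (hHG h.2) (hfix h h.2) _ u.toMul.2⟩
  let a : H →* AddMonoid.End (Additive U) :=
    { toFun := fun h => AddMonoidHom.mk' (mv h) (fun u w => by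
        apply Additive.toMul.injective
        apply Subtype.ext
        change (h : X) * ((u.toMul : X) * (w.toMul : X)) * (h : X)⁻¹ =
          ((h : X) * (u.toMul : X) * (h : X)⁻¹) * ((h : X) * (w.toMul : X) * (h : X)⁻¹)
        group)
      map_one' := by
        refine AddMonoidHom.ext fun u => ?_
        apply Additive.toMul.injective
        apply Subtype.ext
        change ((1 : H) : X) * (u.toMul : X) * ((1 : H) : X)⁻¹ = (u.toMul : X)
        simp
      map_mul' := fun g h => by
        refine AddMonoidHom.ext fun u => ?_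
        apply Additive.toMul.injective
        apply Subtype.ext
        change ((g * h : H) : X) * (u.toMul : X) * ((g * h : H) : X)⁻¹ =
          (g : X) * ((h : X) * (u.toMul : X) * (h : X)⁻¹) * (g : X)⁻¹
        push_cast
        group }
  have hexp : ∀ u : Additive U, p • u = 0 := fun u => by
    apply Additive.toMul.injective
    apply Subtype.ext
    change ((u.toMul ^ p : U) : X) = 1
    rw [SubmonoidClass.coe_pow]
    exact hVexp _ (hUV u.toMul.2)
  letI : Module (ZMod p) (Additive U) := AddCommGroup.zmodModule hexp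
  let bl : Additive U → Additive U →+ ZMod p := fun u => AddMonoidHom.mk'
    (fun w : Additive U => β (u.toMul : X) (w.toMul : X))
    (fun w w' : Additive U => hβr _ u.toMul.2 _ w.toMul.2 _ w'.toMul.2)
  let br : Additive U → Additive U →+ ZMod p := fun w => AddMonoidHom.mk'
    (fun u : Additive U => β (u.toMul : X) (w.toMul : X))
    (fun u u' : Additive U => hβl _ u.toMul.2 _ u'.toMul.2 _ w.toMul.2)
  refine main p V hVexp hidx hab G hGV hv H hHG hHv hHmax (E := Additive U)
    (fun u => (u.toMul : X)) (fun x y => rfl)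
    (fun x y h => Additive.toMul.injective (Subtype.ext h)) (fun x => hUV x.toMul.2) a (fun h x => rfl)
    (LinearMap.mk₂ (ZMod p) (fun u w : Additive U => β (u.toMul : X) (w.toMul : X))
      (fun u u' w => map_add (br w) u u') (fun c u w => ZMod.map_smul (br w) c u)
      (fun u w w' => map_add (bl u) w w') (fun c u w => ZMod.map_smul (bl u) c w))
    (fun h x y => hβinv h (hHG h.2) (hfix h h.2) _ x.toMul.2 _ y.toMul.2) (fun x h0 => ?_)
    (fun h hh => ?_)
  · apply Additive.toMul.injective
    apply Subtype.ext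
    exact hβnd _ x.toMul.2 (fun w hw => h0 (Additive.ofMul ⟨w, hw⟩))
  · apply Subtype.ext
    refine hUfaith h (hHG h.2) (hfix h h.2) fun u hu => ?_
    exact congrArg (fun w : Additive U => (w.toMul : X)) (hh (Additive.ofMul ⟨u, hu⟩))

end Cfsg.Agent.S4959
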