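import Cfsg.Statements.S4964
import Cfsg.Agent.Lib.BrauerMap.PKernel
import Cfsg.Agent.Lib.BrauerMap.Nilpotent
import Cfsg.Agent.Lib.Blocks.Orthogonality
import Cfsg.Agent.Lib.Coprime.Commutator
import Cfsg.Agent.Lib.PGroups.Frattini

set_option autoImplicit false
open Cfsg

namespace Cfsg.Agent.S4964

open Cfsg.Agent.Lib.Blocks Cfsg.Agent.Lib.BrauerMap.Inflation

/-- Let D be a normal p-subgroup of the finite group G, let D′ be its commutator subgroup (normal in G), and fix a maximal ideal M of the algebraic integers containing p. Then (i) two irreducible characters of G ⧸ D′ lie in the same p-block if and only if their inflations to G do, and (ii) every p-block of G contains the inflation of some irreducible character of G ⧸ D′; so inflation induces a bijection between the p-blocks of G ⧸ D′ and the p-blocks of G. -/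
theorem result {G : Type*} [Group G] [Finite G] (p : ℕ) [Fact p.Prime] (M : Ideal Cfsg.AlgInt) (hM : Cfsg.IsPModular p M) (D : Subgroup G) [D.Normal] (hD : IsPGroup p D) : (∀ χ ψ : Cfsg.IrrCharacter (G ⧸ ⁅D, D⁆), Cfsg.SameBlock M (χ : G ⧸ ⁅D, D⁆ → ℂ) (ψ : G ⧸ ⁅D, D⁆ → ℂ) ↔ Cfsg.SameBlock M ((χ : G ⧸ ⁅D, D⁆ → ℂ) ∘ QuotientGroup.mk) ((ψ : G ⧸ ⁅D, D⁆ → ℂ) ∘ QuotientGroup.mk)) ∧ ∀ B : Set (Cfsg.IrrCharacter G), Cfsg.IsPBlock M B → ∃ χ : Cfsg.IrrCharacter (G ⧸ ⁅D, D⁆), ∃ θ ∈ B, (θ : G → ℂ) = (χ : G ⧸ ⁅D, D⁆ → ℂ) ∘ QuotientGroup.mk := by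
  classical
  let f : G →* G ⧸ ⁅D, D⁆ := QuotientGroup.mk' ⁅D, D⁆
  have hf : Function.Surjective f := QuotientGroup.mk'_surjective _
  haveI : M.IsMaximal := hM.2.1
  have hp : p.Prime := Fact.out
  have hDD : ⁅D, D⁆ ≤ D := Subgroup.commutator_le_self D
  have hkerp : IsPGroup p f.ker := by
    rw [QuotientGroup.ker_mk']; exact hD.to_le hDD
  refine ⟨fun χ ψ => ⟨fun h => sameBlock_infl f hf h, fun h => ?_⟩, fun B hB => ?_⟩
  swap
  · obtain ⟨χ, hχ⟩ := Cfsg.Agent.Lib.BrauerMap.PKernel.exists_infl_mem hM f hf hkerp hB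
    exact ⟨χ, infl f hf χ, hχ, rfl⟩
  letI := Ideal.Quotient.field M
  haveI := charP_residue hM
  haveI : Finite (ConjClasses (G ⧸ ⁅D, D⁆)) := Quotient.finite _
  letI := Fintype.ofFinite (ConjClasses (G ⧸ ⁅D, D⁆))
  have hB := isPBlock_blockOf (M := M) χ
  have h' : Cfsg.SameBlock M (infl f hf χ : G → ℂ) (infl f hf ψ : G → ℂ) := h
  -- the central characters agree on regular classes
  have key : ∀ c : G ⧸ ⁅D, D⁆, ¬ p ∣ orderOf c →
      residue M (ccR M χ c) = residue M (ccR M ψ c) := by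
    intro c hc
    haveI : (D.map f).Normal := Subgroup.Normal.map inferInstance f hf
    by_cases hcD : c ∈ Subgroup.centralizer (D.map f : Set (G ⧸ ⁅D, D⁆))
    swap
    · rw [← omegaBar_classSumC, ← omegaBar_classSumC,
        Cfsg.Agent.Lib.BrauerMap.Nilpotent.algHom_classSum_eq_zero (hD.map f) hcD,
        Cfsg.Agent.Lib.BrauerMap.Nilpotent.algHom_classSum_eq_zero (hD.map f) hcD]
    -- a regular preimage
    obtain ⟨g, rfl, hg⟩ : ∃ g : G, f g = c ∧ ¬ p ∣ orderOf g := by
      obtain ⟨x, rfl⟩ := hf c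
      obtain ⟨a, r, hr, hxo⟩ : ∃ a r : ℕ, ¬ p ∣ r ∧ orderOf x = p ^ a * r :=
        ⟨_, _, Nat.not_dvd_ordCompl hp (orderOf_pos x).ne', (Nat.ordProj_mul_ordCompl_eq_self _ p).symm⟩
      have hco : orderOf (f x) ∣ r := by
        refine Nat.Coprime.dvd_of_dvd_mul_left ?_ (hxo ▸ orderOf_map_dvd f x)
        exact ((Nat.Prime.coprime_iff_not_dvd hp).mpr hc).symm.pow_right a
      obtain ⟨k, hk1, hk2⟩ := Nat.chineseRemainder
        (((Nat.Prime.coprime_iff_not_dvd hp).mpr hr).pow_left a) 0 1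
      refine ⟨x ^ k, ?_, ?_⟩
      · rw [map_pow]
        conv_rhs => rw [← pow_one (f x)]
        exact pow_eq_pow_iff_modEq.mpr (hk2.of_dvd hco)
      · intro hdvd
        have h1 : (x ^ k) ^ r = 1 := by
          rw [← pow_mul, ← orderOf_dvd_iff_pow_eq_one, hxo]
          exact Nat.mul_dvd_mul_right ((Nat.modEq_zero_iff_dvd).mp hk1) r
        exact hr (hdvd.trans (orderOf_dvd_of_pow_eq_one h1))
    -- it centralizes `D`
    have hgD : g ∈ Subgroup.centralizer (D : Set G) := by
      have := Cfsg.Agent.Lib.Coprime.le_centralizer_of_frattini (A := Subgroup.zpowers g)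
        (K := D) (by rw [Subgroup.normalizer_eq_top (H := D)]; exact le_top) ?_ ?_
      · exact this (Subgroup.mem_zpowers g)
      · obtain ⟨i, hi⟩ := IsPGroup.iff_card.mp (hD.to_subgroup (frattini D))
        rw [Nat.card_zpowers, hi]
        exact (((Nat.Prime.coprime_iff_not_dvd hp).mpr hg).symm).pow_right i
      · intro a ha d hd
        obtain ⟨j, rfl⟩ := Subgroup.mem_zpowers_iff.mp ha
        have hmem : g ^ j * d * (g ^ j)⁻¹ * d⁻¹ ∈ ⁅D, D⁆ := by
          rw [← QuotientGroup.eq_one_iff]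
          change f (g ^ j * d * (g ^ j)⁻¹ * d⁻¹) = 1
          rw [map_mul, map_mul, map_mul, map_inv, map_inv, map_zpow]
          have hcomm : Commute (f g) (f d) := ((Subgroup.mem_centralizer_iff.mp hcD) (f d) ⟨d, hd, rfl⟩).symm
          rw [(hcomm.zpow_left j).eq, mul_inv_cancel_right, mul_inv_cancel]
        have hle : ⁅D, D⁆ ≤ (frattini D).map D.subtype := by
          rw [← D.map_subtype_commutator]
          exact Subgroup.map_mono (Cfsg.Agent.Lib.PGroups.commutator_le_frattini hD)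
        exact hle hmem
    -- the classes have the same size
    have hcomap : (Subgroup.centralizer ({f g} : Set (G ⧸ ⁅D, D⁆))).comap f =
        Subgroup.centralizer ({g} : Set G) := by
      ext x
      simp only [Subgroup.mem_comap, Subgroup.mem_centralizer_iff, Set.mem_singleton_iff, forall_eq]
      refine ⟨fun hx => ?_, fun hx => by rw [← map_mul, ← map_mul, hx]⟩
      let d := g⁻¹ * (x * g * x⁻¹)
      have hd : d ∈ ⁅D, D⁆ := by
        rw [← QuotientGroup.eq_one_iff]
        change f (g⁻¹ * (x * g * x⁻¹)) = 1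
        rw [map_mul, map_mul, map_mul, map_inv, map_inv, ← hx]
        group
      have hcd : Commute g d := ((Subgroup.mem_centralizer_iff.mp hgD) d (hDD hd)).symm
      have h1 : d ^ orderOf g = 1 := by
        have e : g * d = x * g * x⁻¹ := by simp [d]
        have e2 : (g * d) ^ orderOf g = 1 := by rw [e, conj_pow, pow_orderOf_eq_one, mul_one, mul_inv_cancel]
        rwa [hcd.mul_pow, pow_orderOf_eq_one, one_mul] at e2
      obtain ⟨i, hi⟩ := hD ⟨d, hDD hd⟩
      have h2 : d ^ p ^ i = 1 := congrArg Subtype.val hi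
      have hd1 : d = 1 := by
        have := pow_gcd_eq_one.mpr ⟨h1, h2⟩
        rwa [((Nat.Prime.coprime_iff_not_dvd hp).mpr hg).symm.pow_right i, pow_one] at this
      have e : x * g * x⁻¹ = g := (inv_mul_eq_one.mp (show g⁻¹ * (x * g * x⁻¹) = 1 from hd1)).symm
      exact (mul_inv_eq_iff_eq_mul.mp e).symm
    have hcc : ∀ φ : Cfsg.IrrCharacter (G ⧸ ⁅D, D⁆), ccR M (infl f hf φ) g = ccR M φ (f g) := by
      intro φ
      apply Subtype.ext
      change Cfsg.centralChar (infl f hf φ : G → ℂ) g = Cfsg.centralChar (φ : _ → ℂ) (f g)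
      simp only [Cfsg.centralChar, infl_apply, map_one]
      rw [← hcomap, Subgroup.index_comap_of_surjective _ hf]
    rw [← hcc χ, ← hcc ψ]
    exact sameBlock_iff_residue.mp h' g
  have hψ : ψ ∈ Cfsg.blockOf M (χ : _ → ℂ) := by
    by_contra hn
    have h1 := omegaBar_blockIdemBar hB χ
    have h2 := omegaBar_blockIdemBar hB ψ
    rw [if_pos (mem_blockOf_self χ)] at h1
    rw [if_neg hn] at h2
    refine one_ne_zero (h1.symm.trans (Eq.trans ?_ h2))
    rw [omegaBar_eq_sum, omegaBar_eq_sum]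
    refine Finset.sum_congr rfl fun c _ => ?_
    by_cases hc : p ∣ orderOf c.out
    · have : (blockIdemR hB).1.coeff c.out = 0 := Subtype.ext
        (by rw [coe_coeff_blockIdemR, blockCoeff_eq_zero_of_dvd hM hB hc]; rfl)
      rw [blockIdemBar, coeff_mapCenter, this, map_zero, zero_mul, zero_mul]
    · rw [key _ hc]
  rw [sameBlock_iff_omegaBar]
  exact (mem_blockOf_iff.mp hψ)

end Cfsg.Agent.S4964
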