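import Cfsg.Statements.S4965
import Mathlib

set_option autoImplicit false
open Cfsg

namespace Cfsg.Agent.S4965

/-- Let X be a finite group with an abelian normal subgroup V (any two elements of V commute), and let φ be the action of X ⧸ V on V induced by conjugation (well defined because V is abelian; the hypothesis hφ says that the class of x acts as conjugation by x). Then X has at most as many conjugacy classes as the semidirect product of V by X ⧸ V formed with this action: the split extension has the largest class number among extensions with the given action. -/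
theorem result {X : Type*} [Group X] [Finite X] (V : Subgroup X) [V.Normal] (hab : ∀ a ∈ V, ∀ b ∈ V, a * b = b * a) (φ : X ⧸ V →* MulAut ↥V) (hφ : ∀ (x : X) (v : ↥V), ((φ (QuotientGroup.mk x) v : ↥V) : X) = x * v * x⁻¹) : Nat.card (ConjClasses X) ≤ Nat.card (ConjClasses (SemidirectProduct ↥V (X ⧸ V) φ)) := by
  classical
  let CX := {p : X × X // Commute p.1 p.2}
  let Q := SemidirectProduct ↥V (X ⧸ V) φ
  have hfinQ : Finite Q := Finite.of_equiv _ SemidirectProduct.equivProd.symm
  have hcard : Nat.card Q = Nat.card X := by
    rw [Nat.card_congr SemidirectProduct.equivProd, Nat.card_prod, mul_comm,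
      ← Subgroup.card_eq_card_quotient_mul_card_subgroup]
  have hle : Nat.card CX ≤ Nat.card {p : Q × Q // Commute p.1 p.2} := by
    let π : CX → (X ⧸ V) × (X ⧸ V) := fun c => (c.1.1, c.1.2)
    have hex : ∀ c : CX, ∃ d : CX, π d = π c := fun c => ⟨c, rfl⟩
    let base : (X ⧸ V) × (X ⧸ V) → CX := fun q =>
      if h : ∃ d : CX, π d = q then h.choose else ⟨(1, 1), Commute.one_left 1⟩
    have hbase : ∀ c : CX, π (base (π c)) = π c := by
      intro c
      simp only [base, dif_pos (hex c)]
      exact (hex c).choose_spec
    have m1 : ∀ c : CX, c.1.1 * (base (π c)).1.1⁻¹ ∈ V := by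
      intro c
      rw [← QuotientGroup.eq_one_iff, QuotientGroup.mk_mul, QuotientGroup.mk_inv]
      rw [mul_inv_eq_one]
      exact (congrArg Prod.fst (hbase c)).symm
    have m2 : ∀ c : CX, c.1.2 * (base (π c)).1.2⁻¹ ∈ V := by
      intro c
      rw [← QuotientGroup.eq_one_iff, QuotientGroup.mk_mul, QuotientGroup.mk_inv]
      rw [mul_inv_eq_one]
      exact (congrArg Prod.snd (hbase c)).symm
    let f : CX → {p : Q × Q // Commute p.1 p.2} := fun c =>
      ⟨(⟨⟨_, m1 c⟩, (π c).1⟩, ⟨⟨_, m2 c⟩, (π c).2⟩), by
        set d := base (π c) with hd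
        set v : ↥V := ⟨_, m1 c⟩ with hv
        set w : ↥V := ⟨_, m2 c⟩ with hw
        have ex : c.1.1 = v * d.1.1 := by rw [hv]; exact (inv_mul_cancel_right _ _).symm
        have ey : c.1.2 = w * d.1.2 := by rw [hw]; exact (inv_mul_cancel_right _ _).symm
        have e1 : (π c).1 = QuotientGroup.mk d.1.1 := (congrArg Prod.fst (hbase c)).symm
        have e2 : (π c).2 = QuotientGroup.mk d.1.2 := (congrArg Prod.snd (hbase c)).symm
        change (⟨v, (π c).1⟩ : Q) * ⟨w, (π c).2⟩ = ⟨w, (π c).2⟩ * ⟨v, (π c).1⟩
        apply SemidirectProduct.ext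
        · rw [SemidirectProduct.mul_left, SemidirectProduct.mul_left]
          apply Subtype.ext
          simp only [Subgroup.coe_mul, e1, e2, hφ]
          have h := c.2.eq
          rw [ex, ey] at h
          have hdd := d.2.eq
          calc (v : X) * (d.1.1 * (w : X) * d.1.1⁻¹)
              = ((v : X) * d.1.1 * ((w : X) * d.1.2)) * (d.1.1 * d.1.2)⁻¹ := by group
            _ = ((w : X) * d.1.2 * ((v : X) * d.1.1)) * (d.1.2 * d.1.1)⁻¹ := by rw [h, hdd]
            _ = (w : X) * (d.1.2 * (v : X) * d.1.2⁻¹) := by group
        · rw [SemidirectProduct.mul_right, SemidirectProduct.mul_right]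
          have h := congrArg (QuotientGroup.mk' V) c.2.eq
          rw [map_mul, map_mul] at h; exact h⟩
    refine Nat.card_le_card_of_injective f ?_
    intro c c' h
    have h' := congrArg Subtype.val h
    have a1 := congrArg (fun q : Q × Q => (q.1.left : X)) h'
    have a2 := congrArg (fun q : Q × Q => (q.2.left : X)) h'
    have b1 : (π c).1 = (π c').1 := congrArg (fun q : Q × Q => q.1.right) h'
    have b2 : (π c).2 = (π c').2 := congrArg (fun q : Q × Q => q.2.right) h'
    simp only [f] at a1 a2
    have hπ : π c = π c' := Prod.ext b1 b2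
    rw [hπ] at a1 a2
    exact Subtype.ext (Prod.ext (mul_right_cancel a1) (mul_right_cancel a2))
  rw [card_comm_eq_card_conjClasses_mul_card, card_comm_eq_card_conjClasses_mul_card, hcard] at hle
  exact Nat.le_of_mul_le_mul_right hle Nat.card_pos

end Cfsg.Agent.S4965
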