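import Cfsg.Statements.S4967
import Cfsg.Agent.Lib.SelfDual.IrrAbelian

set_option autoImplicit false
open Cfsg

namespace Cfsg.Agent.S4967

/-- Let F be a finite field with r elements and of characteristic p, H a finite abelian group of order prime to p, and V a faithful irreducible representation of H over F of dimension n (faithful: distinct elements act differently; irreducible: the only H-invariant subspaces are 0 and V). Call V self-dual when it carries a nondegenerate H-invariant bilinear form. If n = 1 and V is self-dual then H has order at most 2. If n ≥ 2 then V is self-dual if and only if n is even and the order of H divides r^(n/2) + 1. -/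
theorem result {F : Type*} [Field F] [Fintype F] (p : ℕ) [Fact p.Prime] [CharP F p] {H : Type*} [CommGroup H] [Finite H] (hcop : ¬ p ∣ Nat.card H) {V : Type*} [AddCommGroup V] [Module F V] [FiniteDimensional F V] (ρ : Representation F H V) (hfaith : Function.Injective ρ) (hirr : ∀ U : Submodule F V, (∀ h : H, ∀ u ∈ U, ρ h u ∈ U) → U = ⊥ ∨ U = ⊤) : (Module.finrank F V = 1 → (∃ B : LinearMap.BilinForm F V, B.Nondegenerate ∧ ∀ h : H, ∀ x y : V, B (ρ h x) (ρ h y) = B x y) → Nat.card H ≤ 2) ∧ (2 ≤ Module.finrank F V → ((∃ B : LinearMap.BilinForm F V, B.Nondegenerate ∧ ∀ h : H, ∀ x y : V, B (ρ h x) (ρ h y) = B x y) ↔ (Even (Module.finrank F V) ∧ Nat.card H ∣ Fintype.card F ^ (Module.finrank F V / 2) + 1))) := by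
  classical
  set r := Fintype.card F with hr
  set n := Module.finrank F V with hn
  refine ⟨fun hn1 => ?_, fun hn2 => ?_⟩
  · rintro ⟨B, hB, hinv⟩
    obtain ⟨v, hv, hspan⟩ := finrank_eq_one_iff'.mp hn1
    choose c hc using fun h => hspan (ρ h v)
    have hBv : B v v ≠ 0 := fun h0 => hv (hB.1 v (fun y => by
      obtain ⟨a, rfl⟩ := hspan y
      simp [h0]))
    have hc2 : ∀ h, c h = 1 ∨ c h = -1 := fun h => by
      have e := hinv h v v
      rw [← hc h] at e
      simp only [map_smul, LinearMap.smul_apply, smul_eq_mul] at e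
      exact mul_self_eq_one_iff.mp (mul_right_cancel₀ hBv (by linear_combination e : c h * c h * B v v = 1 * B v v))
    have hcinj : Function.Injective c := fun a b hab => hfaith (LinearMap.ext fun y => by
      obtain ⟨d, rfl⟩ := hspan y
      rw [map_smul, map_smul, ← hc a, ← hc b, hab])
    let f : H → ({1, -1} : Finset F) := fun h => ⟨c h, by
      rcases hc2 h with e | e <;> simp [e]⟩
    refine (Nat.card_le_card_of_injective f (fun a b hab => hcinj (congrArg Subtype.val hab))).trans ?_
    rw [Nat.card_eq_fintype_card, Fintype.card_coe]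
    exact Finset.card_le_two
  have hnt : Nontrivial V := Module.nontrivial_of_finrank_pos (R := F) (by omega)
  obtain ⟨v, hv⟩ := exists_ne (0 : V)
  let K := Cfsg.Agent.Lib.SelfDual.spanAlg ρ
  letI : Field K := (Cfsg.Agent.Lib.SelfDual.isField_spanAlg hirr).toField
  let e : K ≃ₗ[F] V := Cfsg.Agent.Lib.SelfDual.evalEquiv hirr hv
  have hKn : Module.finrank F K = n := e.finrank_eq
  have : Finite (Module.End F V) := Module.finite_of_finite F
  have : Finite K := inferInstance
  have : FiniteDimensional F K := Module.Finite.of_finite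
  let el : H → K := fun h => ⟨ρ h, Cfsg.Agent.Lib.SelfDual.map_mem_spanAlg h⟩
  have el_mul : ∀ a b, el (a * b) = el a * el b := fun a b => Subtype.ext (map_mul ρ a b)
  have el_one : el 1 = 1 := Subtype.ext (map_one ρ)
  have el_pow : ∀ a (j : ℕ), el (a ^ j) = el a ^ j := fun a j => by
    induction j with
    | zero => simp [el_one]
    | succ j ih => rw [pow_succ, pow_succ, el_mul, ih]
  have el_inj : Function.Injective el := fun a b h => hfaith (congrArg Subtype.val h)
  -- powers of Frobenius
  have hfrob : ∀ (j : ℕ) (x : K), ((FiniteField.frobeniusAlgHom F K) ^ j) x = x ^ r ^ j := by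
    intro j
    induction j with
    | zero => simp
    | succ j ih =>
      intro x
      rw [pow_succ', AlgHom.mul_apply, ih, FiniteField.frobeniusAlgHom_apply, ← pow_mul, ← pow_succ]
  constructor
  · rintro ⟨B, hB, hinv⟩
    haveI := Cfsg.Agent.Lib.SelfDual.isCyclic_of_faithful hirr hfaith
    obtain ⟨g, hg⟩ := IsCyclic.exists_monoid_generator (α := H)
    have hper : ∀ d : ℕ, el g ^ r ^ d = el g → n ∣ d := by
      intro d hd
      rw [← hKn, ← FiniteField.orderOf_frobeniusAlgHom F K, orderOf_dvd_iff_pow_eq_one]
      refine AlgHom.ext fun x => ?_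
      obtain ⟨k, hk⟩ := x
      induction hk using Algebra.adjoin_induction with
      | mem y hy =>
        obtain ⟨a, rfl⟩ := hy
        obtain ⟨j, rfl⟩ := Submonoid.mem_powers_iff _ _ |>.mp (hg a)
        change ((FiniteField.frobeniusAlgHom F K) ^ d) (el (g ^ j)) = el (g ^ j)
        rw [hfrob, el_pow, pow_right_comm, hd]
      | algebraMap c => exact ((FiniteField.frobeniusAlgHom F K) ^ d).commutes c
      | add a b ha hb iha ihb =>
        change ((FiniteField.frobeniusAlgHom F K) ^ d) ((⟨a, ha⟩ : K) + ⟨b, hb⟩) = ⟨a, ha⟩ + ⟨b, hb⟩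
        rw [map_add, iha, ihb]; rfl
      | mul a b ha hb iha ihb =>
        change ((FiniteField.frobeniusAlgHom F K) ^ d) ((⟨a, ha⟩ : K) * ⟨b, hb⟩) = ⟨a, ha⟩ * ⟨b, hb⟩
        rw [map_mul, iha, ihb]; rfl
    have hadj : ∀ (P : Polynomial F) (x y : V),
        B (Polynomial.aeval (ρ g⁻¹) P x) y = B x (Polynomial.aeval (ρ g) P y) := by
      intro P
      induction P using Polynomial.induction_on' with
      | add P Q hP hQ => intro x y; simp [hP x y, hQ x y]
      | monomial j c =>
        intro x y
        simp only [Polynomial.aeval_monomial, ← map_pow, Module.End.mul_apply,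
          Module.algebraMap_end_apply, map_smul, LinearMap.smul_apply, smul_eq_mul]
        congr 1
        rw [← hinv (g ^ j) ((ρ (g⁻¹ ^ j)) x) y, inv_pow, ρ.self_inv_apply]
    have hroot : Polynomial.aeval (el g⁻¹) (minpoly F (el g)) = 0 := by
      apply Subtype.ext
      change K.val (Polynomial.aeval (el g⁻¹) (minpoly F (el g))) = 0
      rw [← Polynomial.aeval_algHom_apply]
      change Polynomial.aeval (ρ g⁻¹) (minpoly F (el g)) = 0
      refine LinearMap.ext fun x => hB.1 _ (fun y => ?_)
      refine (hadj (minpoly F (el g)) x y).trans ?_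
      have h0 : Polynomial.aeval (ρ g) (minpoly F (el g)) = 0 := by
        have := Polynomial.aeval_algHom_apply K.val (el g) (minpoly F (el g))
        rw [minpoly.aeval, map_zero] at this
        exact this
      simp [h0]
    obtain ⟨σ, hσ⟩ := IsConjRoot.exists_algEquiv
      (isConjRoot_of_aeval_eq_zero (IsIntegral.of_finite F (el g)) hroot)
    obtain ⟨⟨i, hi⟩, hσi⟩ := (FiniteField.bijective_frobeniusAlgEquivOfAlgebraic_pow F K).2 σ
    have hfrobE : ∀ (j : ℕ) (x : K),
        ((FiniteField.frobeniusAlgEquivOfAlgebraic F K) ^ j) x = x ^ r ^ j := by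
      intro j
      induction j with
      | zero => simp
      | succ j ih =>
        intro x
        rw [pow_succ', AlgEquiv.mul_apply, ih, FiniteField.coe_frobeniusAlgEquivOfAlgebraic]
        change (x ^ r ^ j) ^ r = _
        rw [← pow_mul, ← pow_succ]
    rw [← hσi, hfrobE] at hσ
    -- `el g⁻¹ ^ r ^ i = el g`
    have hneg : el g ^ r ^ i = el g⁻¹ := by
      have := el_inj ((el_pow _ _).trans hσ)
      rw [inv_pow, inv_eq_iff_eq_inv] at this
      rw [← el_pow, this]
    have h2i : n ∣ 2 * i := hper _ (by
      rw [two_mul, pow_add, pow_mul, hneg]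
      exact hσ)
    have hi0 : i ≠ 0 := by
      intro h0
      subst h0
      rw [pow_zero, pow_one] at hσ
      have hsq : el g * el g = 1 := by
        have := el_mul g g⁻¹
        rw [mul_inv_cancel, el_one, hσ] at this
        exact this.symm
      have h1 : el g ^ r ^ 1 = el g := by
        rcases mul_self_eq_one_iff.mp hsq with h | h
        · rw [h, one_pow]
        · have := ((FiniteField.frobeniusAlgHom F K) ^ 1).commutes (-1 : F)
          rw [hfrob, map_neg, map_one] at this
          rw [h, this]
      have := Nat.le_of_dvd one_pos (hper 1 h1)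
      omega
    have hi2 : n = 2 * i := by
      obtain ⟨q, hq⟩ := h2i
      rw [hKn] at hi
      rcases q with _ | _ | q
      · simp at hq; omega
      · omega
      · nlinarith
    refine ⟨⟨i, by omega⟩, ?_⟩
    rw [show n / 2 = i by omega, ← orderOf_eq_card_of_forall_mem_powers hg, orderOf_dvd_iff_pow_eq_one]
    apply el_inj
    rw [el_pow, pow_succ, hneg, ← el_mul, inv_mul_cancel]
  · rintro ⟨⟨m, hm⟩, hdvd⟩
    rw [show n / 2 = m by omega] at hdvd
    let σ := (FiniteField.frobeniusAlgHom F K) ^ m
    have hσ : ∀ h, σ (el h) = el h⁻¹ := fun h => by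
      have : h ^ r ^ m = h⁻¹ := by
        have e := orderOf_dvd_iff_pow_eq_one.mp ((orderOf_dvd_natCard h).trans hdvd)
        rw [pow_succ] at e
        exact eq_inv_of_mul_eq_one_left e
      rw [hfrob, ← el_pow, this]
    have hσinj : Function.Injective σ := σ.toRingHom.injective
    obtain ⟨l, hl⟩ : ∃ l : Module.Dual F K, l 1 ≠ 0 := by
      by_contra! hall
      exact one_ne_zero ((Module.forall_dual_apply_eq_zero_iff F (1 : K)).mp hall)
    let B : LinearMap.BilinForm F V := ((LinearMap.mul F K).compr₂ l).compl₁₂ e.symm.toLinearMap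
      (σ.toLinearMap ∘ₗ e.symm.toLinearMap)
    have hBap : ∀ x y, B x y = l (e.symm x * σ (e.symm y)) := fun _ _ => rfl
    have heq : ∀ h x, e.symm (ρ h x) = el h * e.symm x := fun h x => by
      rw [LinearEquiv.symm_apply_eq]
      change ρ h x = ρ h (e (e.symm x))
      rw [e.apply_symm_apply]
    refine ⟨B, ⟨fun x hx => ?_, fun y hy => ?_⟩, fun h x y => ?_⟩
    · by_contra hx0
      have ha : e.symm x ≠ 0 := fun h => hx0 (by simpa using congrArg e h)
      obtain ⟨b, hb⟩ := Finite.surjective_of_injective hσinj (e.symm x)⁻¹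
      apply hl
      have := hx (e b)
      rwa [hBap, e.symm_apply_apply, hb, mul_inv_cancel₀ ha] at this
    · by_contra hy0
      have ha : σ (e.symm y) ≠ 0 := fun h => hy0 (by
        have : e.symm y = 0 := hσinj (h.trans (map_zero σ).symm)
        simpa using congrArg e this)
      apply hl
      have := hy (e (σ (e.symm y))⁻¹)
      rwa [hBap, e.symm_apply_apply, inv_mul_cancel₀ ha] at this
    · rw [hBap, hBap, heq, heq, map_mul σ, hσ, mul_mul_mul_comm, ← el_mul, mul_inv_cancel, el_one,
        one_mul]

end Cfsg.Agent.S4967
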