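import Cfsg.Statements.S4976
import Cfsg.Agent.Lib.Goldschmidt53.Main
import Cfsg.Agent.Lib.Goldschmidt53.RankTwoMin.StructureMain
import Cfsg.Agent.Lib.Goldschmidt53.RankTwoMin.Main
import Cfsg.Agent.Lib.Goldschmidt53.RankTwoMin.Case1
import Cfsg.Agent.Lib.Walter.NoFieldDone
import Cfsg.Agent.Lib.Walter.OrderDone
import Cfsg.Agent.Lib.Walter.Main
import Cfsg.Agent.Lib.BenderOne.Final
import Cfsg.Agent.Lib.GorensteinWalter.Main
import Cfsg.Agent.Lib.SThreeFree21.Row4031
import Cfsg.Agent.Lib.SFourFree67.Main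
import Cfsg.Agent.Lib.NoRealThree57.Main

set_option autoImplicit false
open Cfsg

namespace Cfsg.Agent.S4976

/-- Let G be a finite group of order divisible by 3 that is generated by its 2-elements (G has no proper normal subgroup of odd index). Then no element of order 3 in G is conjugate to its inverse if and only if the quotient of G by its largest normal subgroup of order prime to 3 is isomorphic to a direct product of groups PSL₂ over fields with 3^{2f+1} elements, f ≥ 1 (the exponents may differ between factors). -/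
theorem result {G : Type*} [Group G] [Finite G] (h3 : 3 ∣ Nat.card G) (hgen : Subgroup.closure {g : G | ∃ k : ℕ, orderOf g = 2 ^ k} = ⊤) : (∀ x : G, orderOf x = 3 → ¬ IsConj x x⁻¹) ↔ ∃ (k : ℕ) (f : Fin k → ℕ), (∀ i, 1 ≤ f i) ∧ Nonempty (G ⧸ Cfsg.pPrimeCore 3 G ≃* ((i : Fin k) → Matrix.ProjectiveSpecialLinearGroup (Fin 2) (GaloisField 3 (2 * f i + 1)))) := by
  exact Cfsg.Agent.Lib.NoRealThree57.row4976 (Cfsg.Agent.Lib.SFourFree67.sThreeFreeSimple (Cfsg.Agent.Lib.Goldschmidt53.simple_of_sections (Cfsg.Agent.Lib.Goldschmidt53.sections_of (Cfsg.Agent.Lib.Goldschmidt53.RankTwoMin.rankTwoMin Cfsg.Agent.Lib.Goldschmidt53.RankTwoMin.structure_ Cfsg.Agent.Lib.Goldschmidt53.RankTwoMin.propCase1))) Cfsg.Agent.Lib.Walter.propNoField (Cfsg.Agent.Lib.Walter.propOrder)) hgen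

end Cfsg.Agent.S4976
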