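import Cfsg.Statements.S4989
import Cfsg.Agent.Lib.GaloisMean.Basic

set_option autoImplicit false
open Cfsg

namespace Cfsg.Agent.S4989

/-- Let H be a subgroup of the finite group G and χ an irreducible complex character of G. Then the inner product of the restriction of χ to H with itself, (1/#H)·Σ_{h ∈ H} |χ(h)|², is at most 1 + #(Z ∖ H)/#H, where Z is the set of zeros of χ in G. -/
theorem result {G : Type*} [Group G] [Finite G] (H : Subgroup G) (χ : Cfsg.IrrCharacter G) : (Nat.card ↥H : ℝ)⁻¹ * ∑ᶠ h : ↥H, ‖(χ : G → ℂ) h‖ ^ 2 ≤ 1 + (Set.ncard ({x : G | (χ : G → ℂ) x = 0} \ (H : Set G)) : ℝ) / (Nat.card ↥H : ℝ) := by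
  classical
  have := Fintype.ofFinite G
  obtain ⟨χ, hirr⟩ := χ
  have hχ : Cfsg.IsCharacter G χ := Cfsg.Agent.Lib.Characters.Basic.IsCharacter_of_isIrrCharacter hirr
  simp only
  have hsq : ∀ g, ‖χ g‖ ^ 2 = Complex.normSq (χ g) := fun g => by rw [Complex.normSq_eq_norm_sq]
  have htot : ∑ g : G, Complex.normSq (χ g) = (Nat.card G : ℝ) := by
    have h := Cfsg.Agent.Lib.Characters.Basic.classInner_self_irr (⟨χ, hirr⟩ : Cfsg.IrrCharacter G)
    simp only [Cfsg.classInner, Complex.mul_conj] at h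
    rw [inv_mul_eq_one₀ (Nat.cast_ne_zero.mpr Nat.card_pos.ne')] at h
    exact_mod_cast h.symm
  let A : Finset G := Finset.univ.filter (fun g => g ∈ H)
  let S : Finset G := Finset.univ.filter (fun g => g ∉ H ∧ χ g ≠ 0)
  let Z : Finset G := Finset.univ.filter (fun g => g ∉ H ∧ χ g = 0)
  have hZ : Set.ncard ({x : G | χ x = 0} \ (H : Set G)) = Z.card := by
    rw [Set.ncard_eq_toFinset_card']
    congr 1
    ext x
    simp [Z, and_comm]
  have hA : (Nat.card H : ℝ) = (A.card : ℝ) := by
    rw [Nat.card_eq_fintype_card, Fintype.card_subtype]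
  have hcard : (Nat.card G : ℝ) = A.card + (S.card + Z.card) := by
    have h1 : A.card + (S.card + Z.card) = Fintype.card G := by
      have e1 := Finset.card_filter_add_card_filter_not
        (s := (Finset.univ : Finset G)) (fun g => g ∈ H)
      have e2 := Finset.card_filter_add_card_filter_not
        (s := Finset.univ.filter (fun g : G => g ∉ H)) (fun g => χ g ≠ 0)
      simp only [Finset.filter_filter, not_not] at e2
      rw [Finset.card_univ] at e1
      simp only [A, S, Z, ne_eq] at e1 e2 ⊢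
      omega
    rw [Nat.card_eq_fintype_card, ← h1]
    push_cast
    ring
  have hsum : ∑ g ∈ A, Complex.normSq (χ g) + ∑ g ∈ S, Complex.normSq (χ g) ≤ (Nat.card G : ℝ) := by
    rw [← htot, ← Finset.sum_union]
    · exact Finset.sum_le_sum_of_subset_of_nonneg (Finset.subset_univ _)
        (fun g _ _ => Complex.normSq_nonneg _)
    · rw [Finset.disjoint_left]
      intro g hg hg'
      simp only [A, S, Finset.mem_filter] at hg hg'
      exact hg'.2.1 hg.2
  have hS : (S.card : ℝ) ≤ ∑ g ∈ S, Complex.normSq (χ g) := by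
    refine Cfsg.Agent.Lib.BC78.Galois.card_le_sum_normSq hχ S ?_ ?_
    · intro g hg k hk
      simp only [S, Finset.mem_filter, Finset.mem_univ, true_and] at hg ⊢
      refine ⟨Cfsg.Agent.Lib.GaloisMean.Basic.pow_notMem H hg.1 hk, ?_⟩
      exact Cfsg.Agent.Lib.GaloisMean.Basic.char_pow_ne_zero hχ hg.2 hk
    · intro g hg
      simp only [S, Finset.mem_filter] at hg
      exact hg.2.2
  have hH : ∑ᶠ h : H, ‖χ h‖ ^ 2 = ∑ g ∈ A, Complex.normSq (χ g) := by
    rw [finsum_eq_sum_of_fintype]
    simp only [hsq]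
    exact (Finset.sum_subtype A (fun x => by simp [A]) (fun g => Complex.normSq (χ g))).symm
  rw [hH, hZ]
  have hpos : (0 : ℝ) < Nat.card H := Nat.cast_pos.mpr Nat.card_pos
  rw [inv_mul_le_iff₀ hpos, mul_add, mul_one, mul_div_cancel₀ _ hpos.ne']
  linarith

end Cfsg.Agent.S4989
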