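import Cfsg.Statements.S4990
import Cfsg.Agent.Lib.SolvClass.OverTheta
import Cfsg.Agent.Lib.SolvClass.BlockSize
import Cfsg.Agent.Lib.BC77.FongBlocks
import Cfsg.Agent.Lib.BlockOverCore.Main

set_option autoImplicit false
open Cfsg

namespace Cfsg.Agent.S4990

open Cfsg.Agent.Lib

universe u

/-- The bound, by induction on the order of the group. -/
theorem block_size_le {p : ℕ} [Fact p.Prime] {M : Ideal Cfsg.AlgInt} (hM : Cfsg.IsPModular p M)
    (n : ℕ) {G : Type u} [Group G] [Finite G] (hn : Nat.card G = n) (hsolv : Group.IsSolvable G)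
    {B : Set (Cfsg.IrrCharacter G)} (hB : Cfsg.IsPBlock M B) (hd : 0 < Cfsg.blockDefect p B) :
    Set.ncard B ≤ 3 ^ (Cfsg.blockDefect p B - 1) * p ^ Cfsg.blockDefect p B := by
  classical
  induction n using Nat.strong_induction_on generalizing G with
  | _ n ih =>
  haveI := hsolv
  haveI : M.IsMaximal := hM.2.1
  haveI := Fintype.ofFinite G
  set N := Cfsg.pPrimeCore p G with hN
  haveI := Fintype.ofFinite N
  have hNp : ¬ p ∣ Nat.card N := Cores.not_dvd_card_pPrimeCore p
  obtain ⟨χ₀, hχ₀⟩ := Blocks.isPBlock_nonempty hB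
  obtain ⟨θ, hθ⟩ := Clifford.Basic.exists_constituent_restrict N χ₀.2
  by_cases htop : Clifford.Basic.inertia N (θ : N → ℂ) = ⊤
  · have hinv : ∀ g, Clifford.Basic.conjC N g θ = (θ : N → ℂ) := fun g =>
      show g ∈ Clifford.Basic.inertia N (θ : N → ℂ) from htop ▸ Subgroup.mem_top g
    have hsol : Cfsg.IsPSolvable p G := PSolvable.isPSolvable_of_isSolvable
    obtain ⟨B₀, hB₀, hmem, hsyl, -⟩ := BlockOverCore.Main.exists_block hM N hNp
      (PSolvable.centralizer_pCore_le (PSolvable.isPSolvable_quotient hsol N)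
        (PSolvable.pPrimeCore_quotient_eq_bot N hN)) θ hinv
    have hBB : B = B₀ := (Blocks.isPBlock_eq_blockOf hB hχ₀).trans
      (Blocks.isPBlock_eq_blockOf hB₀ ((hmem χ₀).2 hθ)).symm
    obtain ⟨P⟩ : Nonempty (Sylow p G) := inferInstance
    have hdv : Cfsg.blockDefect p B = (Nat.card G).factorization p := by
      have h1 := Blocks.card_isDefectGroup hM (hBB ▸ hB₀ : Cfsg.IsPBlock M B) (hBB ▸ hsyl P :)
      rw [P.card_eq_multiplicity] at h1
      exact (Nat.pow_right_injective (Fact.out : p.Prime).two_le h1).symm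
    have hvN : (Nat.card G).factorization p = (Nat.card (G ⧸ N)).factorization p := by
      rw [Subgroup.card_eq_card_quotient_mul_card_subgroup N,
        Nat.factorization_mul Nat.card_pos.ne' Nat.card_pos.ne', Finsupp.add_apply,
        Nat.factorization_eq_zero_of_not_dvd hNp, add_zero]
    haveI : Nontrivial (G ⧸ N) := by
      rw [← Finite.one_lt_card_iff_nontrivial]
      by_contra h
      have h2 : Nat.card (G ⧸ N) = 1 :=
        le_antisymm (Nat.le_of_not_lt h) Nat.card_pos
      rw [hdv, hvN, h2, Nat.factorization_one, Finsupp.zero_apply] at hd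
      exact lt_irrefl _ hd
    obtain ⟨M₀, _, hM₀⟩ := SolvClass.BlockSize.exists_normal_bound (K := G ⧸ N) p
      (PSolvable.pPrimeCore_quotient_eq_bot N hN)
    haveI := Fintype.ofFinite (M₀.comap (QuotientGroup.mk' N))
    have hNle : N ≤ M₀.comap (QuotientGroup.mk' N) := fun x hx => by
      rw [Subgroup.mem_comap, QuotientGroup.mk'_apply, (QuotientGroup.eq_one_iff x).2 hx]
      exact one_mem _
    refine le_of_eq_of_le ?_ (SolvClass.OverTheta.card_over_le_mul N θ hinv
      (M₀.comap (QuotientGroup.mk' N)) hNle _ fun T => ?_)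
    · rw [← Nat.card_coe_set_eq, hBB]
      exact Nat.card_congr (Equiv.subtypeEquivRight fun χ => hmem χ)
    · rw [hdv, hvN, Subgroup.map_comap_eq_self_of_surjective (QuotientGroup.mk'_surjective N)]
      refine le_of_eq_of_le (congrArg (SolvClass.k M₀ * ·) ?_) (hM₀ (T.map (QuotientGroup.mk' N)))
      rw [Subgroup.map_map]
      exact SolvClass.k_map_congr _ _ _ fun x _ => by simp
  · set T := Clifford.Basic.inertia N (θ : N → ℂ) with hT
    haveI := Fintype.ofFinite T
    have hb : Cfsg.IsPBlock M (Cfsg.blockOf M (θ : N → ℂ)) := ⟨θ, rfl⟩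
    have hmem : ∀ η, η ∈ Cfsg.blockOf M (θ : N → ℂ) → η = θ := fun η hη =>
      BlockOverCore.FullDefect.eq_of_sameBlock N hM hNp hη
    have h : BC77.Fong.IsStab N (Cfsg.blockOf M (θ : N → ℂ)) T := by
      refine ⟨Clifford.Basic.le_inertia N (Characters.Basic.isClassFunction_irr θ),
        fun g hg η hη => ?_, fun g hg η hη hc => ?_⟩
      · rw [hmem η hη]
        rw [show BrauerMap.Normal.conjIrr N g θ = θ from Subtype.ext hg]
        exact Blocks.mem_blockOf_self θ
      · rw [hmem η hη] at hc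
        exact hg (congrArg Subtype.val (hmem _ hc))
    obtain ⟨ψ, hψ, hup⟩ := BC77.Fong.exists_up_eq N _ T h χ₀ (Blocks.mem_blockOf_self θ) hθ
    have hB' : Cfsg.IsPBlock M (Cfsg.blockOf M (ψ : T → ℂ)) := ⟨ψ, rfl⟩
    have hψB := Blocks.mem_blockOf_self (M := M) ψ
    have hind := BC77.Fong.isInducedBlock_up N _ T hb h hB' hψB hψ
    have hBeq : B = Cfsg.blockOf M (BC77.Fong.up N _ T h ψ hψ : G → ℂ) := by
      rw [hup]; exact Blocks.isPBlock_eq_blockOf hB hχ₀
    rw [← hBeq] at hind
    have hdef : Cfsg.blockDefect p B = Cfsg.blockDefect p (Cfsg.blockOf M (ψ : T → ℂ)) :=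
      BC77.Fong.blockDefect_eq N _ T hb h hB' ⟨ψ, hψB, hψ⟩ hind
    have hlt : Nat.card T < n := hn ▸ lt_of_le_of_ne T.card_le_card_group
      fun he => htop (Subgroup.eq_top_of_card_eq T he)
    rw [hdef] at hd ⊢
    refine le_trans ?_ (ih _ hlt rfl inferInstance hB' hd)
    choose g hg hgval using fun χ : B =>
      (BC77.Fong.mem_block_up_iff N _ T hb h hB' hψB hψ χ.1).1
        (show χ.1 ∈ Cfsg.blockOf M (BC77.Fong.up N _ T h ψ hψ : G → ℂ) from hBeq ▸ χ.2)
    rw [← Nat.card_coe_set_eq, ← Nat.card_coe_set_eq]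
    refine Nat.card_le_card_of_injective
      (fun χ : B => (⟨g χ, hg χ⟩ : Cfsg.blockOf M (ψ : T → ℂ))) fun χ χ' he => ?_
    have he' : g χ = g χ' := congrArg Subtype.val he
    exact Subtype.ext (Subtype.ext (by rw [hgval χ, hgval χ', he']))

/-- Let G be a finite solvable group, p a prime, M a maximal ideal of the algebraic integers containing p, and B a p-block of G of positive defect d. Then B contains at most 3^{d−1}·p^d irreducible complex characters. -/
theorem result {G : Type*} [Group G] [Finite G] (hsolv : Group.IsSolvable G) (p : ℕ) [Fact p.Prime] (M : Ideal Cfsg.AlgInt) (hM : Cfsg.IsPModular p M) (B : Set (Cfsg.IrrCharacter G)) (hB : Cfsg.IsPBlock M B) (hd : 0 < Cfsg.blockDefect p B) : Set.ncard B ≤ 3 ^ (Cfsg.blockDefect p B - 1) * p ^ Cfsg.blockDefect p B := by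
  exact block_size_le hM _ rfl hsolv hB hd

end Cfsg.Agent.S4990
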