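import Cfsg.Statements.S4993
import Cfsg.Agent.Lib.PrimitiveMeta.Main

set_option autoImplicit false
open Cfsg

namespace Cfsg.Agent.S4993

/-- Let G be a group of odd order whose order has exactly two prime divisors and whose quotient by its Fitting subgroup is nilpotent (G is metanilpotent), and let χ be a primitive irreducible complex character of G (not induced from a character of any proper subgroup). Then χ(1) divides the size of some conjugacy class of G. -/
theorem result {G : Type*} [Group G] [Fintype G] (hodd : Odd (Nat.card G)) (h2 : (Nat.card G).primeFactors.card = 2) [hF : (Cfsg.fittingSubgroup G).Normal] (hmeta : Group.IsNilpotent (G ⧸ Cfsg.fittingSubgroup G)) (χ : Cfsg.IrrCharacter G) (hprim : ¬ ∃ (H : Subgroup G), H ≠ ⊤ ∧ ∃ θ : ↥H → ℂ, Cfsg.IsCharacter ↥H θ ∧ Cfsg.indFun H θ = (χ : G → ℂ)) : ∃ g : G, Cfsg.charDegree (χ : G → ℂ) ∣ (Subgroup.centralizer ({g} : Set G)).index := by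
  classical
  obtain ⟨n, ρ, hρ, hρc⟩ := Cfsg.Agent.Lib.Characters.Basic.exists_rep χ
  haveI := hρ
  obtain ⟨g, hg⟩ := Cfsg.Agent.Lib.PrimitiveMeta.Main.degree_dvd_class ρ
    (Cfsg.Agent.Lib.PrimitiveMeta.Restrict.homogeneous_of_primitive
      (Cfsg.Agent.Lib.Characters.Basic.isIrrCharacter_character ρ) (by rw [hρc]; exact hprim))
    h2 _ rfl hmeta
  refine ⟨g, ?_⟩
  have hd : Cfsg.charDegree (χ : G → ℂ) = n := by
    unfold Cfsg.charDegree
    rw [← hρc, Representation.char_one, Module.finrank_fin_fun]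
    simp
  rw [hd]
  exact hg

end Cfsg.Agent.S4993
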