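import Cfsg.Statements.S4996
import Cfsg.Agent.Lib.GaloisMean.Basic
import Cfsg.Agent.Lib.GaloisMean.CosetAvg
import Cfsg.Agent.Lib.Clifford.Linear

set_option autoImplicit false
open Cfsg

namespace Cfsg.Agent.S4996

/-- Let N be a normal subgroup of the finite group G and χ an irreducible complex character of G. Then the restriction of χ to N is not irreducible if and only if χ vanishes on some whole coset Nx of N in G. -/
theorem result {G : Type*} [Group G] [Finite G] (N : Subgroup G) [N.Normal] (χ : Cfsg.IrrCharacter G) : ¬ Cfsg.IsIrrCharacter ↥N (fun n : ↥N => (χ : G → ℂ) n) ↔ ∃ x : G, ∀ n : ↥N, (χ : G → ℂ) ((n : G) * x) = 0 := by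
  classical
  have := Fintype.ofFinite G
  obtain ⟨χ, hirr⟩ := χ
  simp only
  have hχ : Cfsg.IsCharacter G χ := Cfsg.Agent.Lib.Characters.Basic.IsCharacter_of_isIrrCharacter hirr
  have hres : Cfsg.IsCharacter N (fun n : N => χ n) :=
    Cfsg.Agent.Lib.Characters.Basic.isCharacter_comp N.subtype hχ
  let f : G → ℝ := fun x => (Nat.card N : ℝ)⁻¹ * ∑ n : N, Complex.normSq (χ ((n : G) * x))
  have hf : Cfsg.IsCharacter G (fun x => (f x : ℂ)) := by
    convert Cfsg.Agent.Lib.GaloisMean.CosetAvg.isCharacter_avg N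
      (Cfsg.Agent.Lib.Characters.Basic.isCharacter_mul hχ
        (Cfsg.Agent.Lib.Characters.Basic.isCharacter_conj hχ)) using 1
    funext x
    simp [f, Complex.mul_conj]
  have hzero : ∀ x, f x = 0 ↔ ∀ n : N, χ ((n : G) * x) = 0 := by
    intro x
    have hn : (Nat.card N : ℝ)⁻¹ ≠ 0 := inv_ne_zero (Nat.cast_ne_zero.mpr Nat.card_pos.ne')
    rw [mul_eq_zero, or_iff_right hn, Finset.sum_eq_zero_iff_of_nonneg (fun _ _ => Complex.normSq_nonneg _)]
    simp [Complex.normSq_eq_zero]
  have hnn : ∀ x, 0 ≤ f x := fun x => mul_nonneg (inv_nonneg.mpr (Nat.cast_nonneg _))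
    (Finset.sum_nonneg fun _ _ => Complex.normSq_nonneg _)
  have hinner : Cfsg.classInner (fun n : N => χ n) (fun n : N => χ n) = (f 1 : ℂ) := by
    simp [Cfsg.classInner, f, Complex.mul_conj]
  have hN : ∀ n : N, f n = f 1 := by
    intro n
    simp only [f, mul_one]
    congr 1
    exact Fintype.sum_equiv (Equiv.mulRight n) _ _ (fun m => rfl)
  have htot : ∑ g : G, f g = (Nat.card G : ℝ) := by
    have h := Cfsg.Agent.Lib.Characters.Basic.classInner_self_irr (⟨χ, hirr⟩ : Cfsg.IrrCharacter G)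
    simp only [Cfsg.classInner, Complex.mul_conj] at h
    rw [inv_mul_eq_one₀ (Nat.cast_ne_zero.mpr Nat.card_pos.ne')] at h
    have hG : ∑ g : G, Complex.normSq (χ g) = (Nat.card G : ℝ) := by exact_mod_cast h.symm
    simp only [f, ← Finset.mul_sum]
    rw [Finset.sum_comm]
    rw [Finset.sum_congr rfl (fun (n : N) _ =>
      show ∑ g : G, Complex.normSq (χ ((n : G) * g)) = (Nat.card G : ℝ) from
      (Equiv.sum_comp (Equiv.mulLeft (n : G)) (fun g => Complex.normSq (χ g))).trans hG)]
    rw [Finset.sum_const, nsmul_eq_mul, Finset.card_univ, ← Nat.card_eq_fintype_card (α := N),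
      ← mul_assoc, inv_mul_cancel₀ (Nat.cast_ne_zero.mpr Nat.card_pos.ne'), one_mul]
  constructor
  · intro hred
    obtain ⟨k, hk⟩ := Cfsg.Agent.Lib.Characters.Basic.exists_classInner_nat hres hres
    have hfk : f 1 = k := by
      have := hinner.symm.trans hk
      exact_mod_cast this
    have hk1 : k ≠ 1 := fun h1 => hred
      (Cfsg.Agent.Lib.Characters.Basic.isIrrCharacter_of_classInner_self hres (by rw [hk, h1, Nat.cast_one]))
    have hk0 : k ≠ 0 := by
      intro h0
      rw [h0, Nat.cast_zero] at hfk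
      have := (hzero 1).mp hfk 1
      simp only [Subgroup.coe_one, mul_one] at this
      exact Cfsg.Agent.Lib.Characters.Basic.apply_one_ne_zero (⟨χ, hirr⟩ : Cfsg.IrrCharacter G) this
    by_contra hcon
    push Not at hcon
    have hpos : ∀ x, 0 < f x := fun x => lt_of_le_of_ne (hnn x) fun h0 => by
      obtain ⟨n, hn⟩ := hcon x
      exact hn ((hzero x).mp h0.symm n)
    let A : Finset G := Finset.univ.filter (fun g => g ∈ N)
    let S : Finset G := Finset.univ.filter (fun g => g ∉ N)
    have hsum : ∑ g ∈ A, f g + ∑ g ∈ S, f g = (Nat.card G : ℝ) :=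
      (Finset.sum_filter_add_sum_filter_not Finset.univ (fun g => g ∈ N) f).trans htot
    have hcard : (A.card : ℝ) + S.card = (Nat.card G : ℝ) := by
      rw [Nat.card_eq_fintype_card, ← Finset.card_univ]
      exact_mod_cast Finset.card_filter_add_card_filter_not (fun g => g ∈ N)
    have hA : ∑ g ∈ A, f g = (A.card : ℝ) * k := by
      rw [Finset.sum_congr rfl (fun g hg => (hN ⟨g, (Finset.mem_filter.mp hg).2⟩).trans hfk),
        Finset.sum_const, nsmul_eq_mul]
    have hS := Cfsg.Agent.Lib.GaloisMean.Basic.card_le_sum_char hf S (fun g hg k hk => by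
      simp only [S, Finset.mem_filter, Finset.mem_univ, true_and] at hg ⊢
      exact Cfsg.Agent.Lib.GaloisMean.Basic.pow_notMem N hg hk) f (fun g _ => rfl) (fun g _ => hpos g)
    have hApos : (0 : ℝ) < A.card := Nat.cast_pos.mpr (Finset.card_pos.mpr ⟨1, by simp [A]⟩)
    have h2 : (2 : ℝ) ≤ k := by exact_mod_cast (show 2 ≤ k by omega)
    nlinarith
  · rintro ⟨x, hx⟩ hi
    have h1 : (f 1 : ℂ) = 1 := by
      rw [← hinner]
      exact Cfsg.Agent.Lib.Characters.Basic.classInner_self_irr (⟨_, hi⟩ : Cfsg.IrrCharacter N)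
    have h0 : (f x : ℂ) = 0 := by rw [(hzero x).mpr hx]; simp
    obtain ⟨μ, hμ⟩ := Cfsg.Agent.Lib.Clifford.Linear.exists_hom (⟨hf, h1⟩)
    have := congrFun hμ x
    rw [h0] at this
    first
      | exact (μ x).ne_zero this.symm
      | exact (μ x).ne_zero this

end Cfsg.Agent.S4996
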