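import Cfsg.Statements.S5001
import Mathlib
import Cfsg.Agent.Lib.Blocks.DefectGroup
import Cfsg.Agent.Lib.Clifford.Rep
import Cfsg.Agent.Lib.Characters.Diag

set_option autoImplicit false
open Cfsg

namespace Cfsg.Agent.S5001

/-- Let p be a prime, G a finite group and B a p-block of G (relative to a maximal ideal M of the algebraic integers containing p) with defect group D. Let Z be a central p-subgroup of G contained in D and λ a linear character of Z (a homomorphism to the nonzero complex numbers). Say an irreducible character χ of G lies over λ when χ(z) = χ(1)λ(z) for all z ∈ Z. If some irreducible character in B lying over λ has height zero, then λ extends to a linear character of D. -/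
theorem result {G : Type*} [Group G] [Finite G] (p : ℕ) [Fact p.Prime] (M : Ideal Cfsg.AlgInt) (hM : Cfsg.IsPModular p M) (B : Set (Cfsg.IrrCharacter G)) (hB : Cfsg.IsPBlock M B) (D : Subgroup G) (hD : Cfsg.IsDefectGroup p M B D) (Z : Subgroup G) (hZc : Z ≤ Subgroup.center G) (hZp : IsPGroup p ↥Z) (hZD : Z ≤ D) (lam : ↥Z →* ℂˣ) (χ : Cfsg.IrrCharacter G) (hχ : χ ∈ B) (hover : (∀ z : ↥Z, (χ : G → ℂ) z = (χ : G → ℂ) 1 * (lam z : ℂ))) (h0 : Cfsg.blockHeight p B (χ : G → ℂ) = 0) : (∃ μ : ↥D →* ℂˣ, ∀ z : ↥Z, μ ⟨(z : G), hZD z.2⟩ = lam z) := by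
  classical
  obtain ⟨g, hg, P, hP⟩ := hD
  have hD' : Cfsg.IsDefectGroup p M B D := ⟨g, hg, P, hP⟩
  -- the p-part of the class size of g is that of the degree
  have : M.IsMaximal := hM.2.1
  have hDC : D ≤ (Subgroup.centralizer ({g} : Set G)) := hP ▸ Subgroup.map_subtype_le _
  have hrel : ¬ p ∣ D.relIndex (Subgroup.centralizer ({g} : Set G)) := by
    rw [hP]; exact Cfsg.Agent.Lib.Blocks.not_dvd_relIndex_sylow P
  have hp : p.Prime := hM.1
  have hdfac : D.index.factorization p = (Subgroup.centralizer ({g} : Set G)).index.factorization p := by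
    rw [← Subgroup.relIndex_mul_index hDC, Nat.factorization_mul
      (fun h => hrel (by rw [h]; exact dvd_zero p)) Subgroup.index_ne_zero_of_finite]
    simp [Nat.factorization_eq_zero_of_not_dvd hrel]
  have hn := Cfsg.Agent.Lib.Blocks.charDegree_pos χ
  set n := Cfsg.charDegree (χ : G → ℂ) with hndef
  have hnC : n.factorization p = (Subgroup.centralizer ({g} : Set G)).index.factorization p := by
    have h1 := Cfsg.Agent.Lib.Blocks.blockHeight_eq hM hB hD' χ
    rw [h0, ← hndef] at h1
    have h2 := (hp.pow_dvd_iff_le_factorization hn.ne').mp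
      (Cfsg.Agent.Lib.Blocks.pow_dvd_charDegree hM hB hD' hχ)
    omega
  have hidx0 : (Subgroup.centralizer ({g} : Set G)).index ≠ 0 := Subgroup.index_ne_zero_of_finite
  obtain ⟨a, ha, hna⟩ : ∃ a, ¬ p ∣ a ∧ n = p ^ (Subgroup.centralizer ({g} : Set G)).index.factorization p * a :=
    ⟨n / p ^ n.factorization p, Nat.not_dvd_ordCompl hp hn.ne', by
      rw [← hnC]; exact (Nat.ordProj_mul_ordCompl_eq_self n p).symm⟩
  obtain ⟨b, hb, hib⟩ : ∃ b, ¬ p ∣ b ∧ (Subgroup.centralizer ({g} : Set G)).index = p ^ (Subgroup.centralizer ({g} : Set G)).index.factorization p * b :=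
    ⟨(Subgroup.centralizer ({g} : Set G)).index / p ^ (Subgroup.centralizer ({g} : Set G)).index.factorization p, Nat.not_dvd_ordCompl hp hidx0,
      (Nat.ordProj_mul_ordCompl_eq_self (Subgroup.centralizer ({g} : Set G)).index p).symm⟩
  have hb0 : (b : ℂ) ≠ 0 := Nat.cast_ne_zero.mpr fun h => hb (h ▸ dvd_zero p)
  have ha0 : (a : ℂ) ≠ 0 := Nat.cast_ne_zero.mpr fun h => ha (h ▸ dvd_zero p)
  have hchi : ¬ Cfsg.MemLocalIdeal M ((χ : G → ℂ) g) := by
    intro hbad
    apply hg.2.2 χ hχ
    have hpe : ((p : ℂ) ^ (Subgroup.centralizer ({g} : Set G)).index.factorization p) ≠ 0 := pow_ne_zero _ (Nat.cast_ne_zero.mpr hp.ne_zero)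
    have hcc : Cfsg.centralChar (χ : G → ℂ) g = (b : ℂ) * (a : ℂ)⁻¹ * (χ : G → ℂ) g := by
      unfold Cfsg.centralChar
      rw [Cfsg.Agent.Lib.Blocks.char_one_eq_degree, ← hndef, hna]
      generalize (Subgroup.centralizer ({g} : Set G)).index.factorization p = E at hib hpe
      rw [hib]
      push_cast
      field_simp
    rw [hcc]
    exact Cfsg.Agent.Lib.Blocks.memLocalIdeal_mul_left
      (mul_mem (natCast_mem _ b) (Cfsg.Agent.Lib.Blocks.natCast_inv_mem_localRing hM ha)) hbad
  -- eigenspaces of g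
  obtain ⟨d, ρ, hirr, hρ⟩ := χ.2
  obtain ⟨ι, hι, bas, ζ, hζ, hcard, hchar⟩ :=
    Cfsg.Agent.Lib.Characters.Diag.exists_eigenbasis_card ρ g
  obtain ⟨μ, hμ⟩ : ∃ μ : ℂ, ¬ p ∣ (Finset.univ.filter (fun i => ζ i = μ)).card := by
    by_contra hcon
    push Not at hcon
    apply hchi
    rw [← hρ, hchar, ← Finset.sum_fiberwise_of_maps_to
      (g := ζ) (t := Finset.univ.image ζ) (fun i hi => Finset.mem_image_of_mem ζ hi)]
    refine Cfsg.Agent.Lib.Blocks.memLocalIdeal_sum _ fun μ hμ => ?_
    rw [Finset.sum_congr rfl (fun i hi => (Finset.mem_filter.mp hi).2), Finset.sum_const, nsmul_eq_mul]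
    obtain ⟨i, -, rfl⟩ := Finset.mem_image.mp hμ
    exact Cfsg.Agent.Lib.Blocks.memLocalIdeal_mul_right
      ((Cfsg.Agent.Lib.Blocks.memLocalIdeal_natCast_iff hM _).mpr (hcon _))
      (Cfsg.Agent.Lib.Blocks.mem_localRing_of_isIntegral
        (IsIntegral.of_pow Nat.card_pos (by rw [(hζ i).2]; exact isIntegral_one)))
  let S : Set ι := {i | ζ i = μ}
  let W : Subrepresentation (ρ.comp D.subtype) :=
    { toSubmodule := Submodule.span ℂ (bas '' S)
      apply_mem_toSubmodule := by
        intro x v hv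
        rw [Module.Basis.mem_span_image] at hv ⊢
        intro j hj
        by_contra hne
        have hcomm : ρ g * ρ (x : G) = ρ (x : G) * ρ g := by
          rw [← map_mul, ← map_mul]
          exact congrArg ρ (Subgroup.mem_centralizer_iff.mp (hDC x.2) g (Set.mem_singleton g))
        have hgv : ρ g v = μ • v := by
          conv_lhs => rw [← bas.sum_repr v]
          conv_rhs => rw [← bas.sum_repr v]
          simp only [map_sum, map_smul, Finset.smul_sum]
          refine Finset.sum_congr rfl fun i _ => ?_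
          by_cases hi : bas.repr v i = 0
          · simp [hi]
          · have : ζ i = μ := hv (Finsupp.mem_support_iff.mpr hi)
            rw [(hζ i).1, this, smul_comm]
        have hgw : ρ g (ρ (x : G) v) = μ • ρ (x : G) v := by
          rw [← Module.End.mul_apply, hcomm, Module.End.mul_apply, hgv, map_smul]
        have e : bas.repr (ρ g (ρ (x : G) v)) j = ζ j * bas.repr (ρ (x : G) v) j := by
          have hgen : ∀ u, ρ g u = ∑ i, (ζ i * bas.repr u i) • bas i := by
            intro u
            conv_lhs => rw [← bas.sum_repr u]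
            rw [map_sum]
            refine Finset.sum_congr rfl fun i _ => ?_
            rw [map_smul, (hζ i).1, smul_smul, mul_comm]
          rw [hgen]
          exact congrFun (bas.repr_sum_self _) j
        rw [hgw, map_smul, Finsupp.smul_apply, smul_eq_mul] at e
        exact hne (mul_right_cancel₀ (Finsupp.mem_support_iff.mp hj) e.symm) }
  have hfr : Module.finrank ℂ W.toSubmodule = (Finset.univ.filter (fun i => ζ i = μ)).card := by
    change Module.finrank ℂ (Submodule.span ℂ (bas '' S)) = _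
    rw [Set.image_eq_range, finrank_span_eq_card (b := fun i : S => bas i)
      (bas.linearIndependent.comp _ Subtype.val_injective), Fintype.card_subtype]
    rfl
  set m := Module.finrank ℂ W.toSubmodule with hm
  rw [← hfr] at hμ
  have : Fact p.Prime := ⟨hp⟩
  obtain ⟨k, hk⟩ := IsPGroup.iff_card.mp hZp
  have hcop : m.Coprime (Nat.card Z) := by
    rw [hk]; exact ((hp.coprime_iff_not_dvd.mpr hμ).symm).pow_right k
  have : NeZero (Nat.card Z) := ⟨Nat.card_pos.ne'⟩
  set j : ℕ := (((ZMod.unitOfCoprime m hcop)⁻¹ : (ZMod (Nat.card Z))ˣ) : ZMod (Nat.card Z)).val with hjdef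
  have hjm : j * m ≡ 1 [MOD Nat.card Z] := by
    rw [← ZMod.natCast_eq_natCast_iff, Nat.cast_mul, Nat.cast_one, hjdef, ZMod.natCast_zmod_val,
      ← ZMod.coe_unitOfCoprime m hcop]
    exact (ZMod.unitOfCoprime m hcop).inv_mul
  refine ⟨(Cfsg.Agent.Lib.Clifford.Rep.detHom W.toRepresentation) ^ j, fun z => ?_⟩
  have hlz : lam z ^ Nat.card Z = 1 := by rw [← map_pow, pow_card_eq_one', map_one]
  have hscal : ρ (z : G) = (lam z : ℂ) • (LinearMap.id : (Fin d → ℂ) →ₗ[ℂ] Fin d → ℂ) := by
    have hz := hover z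
    rw [← hρ, Representation.char_one] at hz
    have hnorm : ‖(lam z : ℂ)‖ = 1 := Complex.norm_eq_one_of_pow_eq_one
      (by rw [← Units.val_pow_eq_pow_val, hlz, Units.val_one]) Nat.card_pos.ne'
    obtain ⟨ω, hω⟩ := Cfsg.Agent.Lib.Characters.Diag.exists_smul_of_norm_char_eq ρ (z : G)
      (by rw [hz, norm_mul, hnorm, mul_one, Complex.norm_natCast])
    have hd0 : (d : ℂ) ≠ 0 := by
      intro h
      apply Cfsg.Agent.Lib.Blocks.char_one_ne_zero χ
      rw [← hρ, Representation.char_one, Module.finrank_fin_fun, h]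
    rw [Representation.character, hω, map_smul, LinearMap.trace_id, Module.finrank_fin_fun,
      smul_eq_mul, mul_comm] at hz
    rw [hω, mul_left_cancel₀ hd0 hz]
  have hdet : ((Cfsg.Agent.Lib.Clifford.Rep.detHom W.toRepresentation) ⟨(z : G), hZD z.2⟩ : ℂ) =
      (lam z : ℂ) ^ m := by
    rw [Cfsg.Agent.Lib.Clifford.Rep.detHom_apply]
    have e : W.toRepresentation ⟨(z : G), hZD z.2⟩ = (lam z : ℂ) • (LinearMap.id : W.toSubmodule →ₗ[ℂ] W.toSubmodule) := by
      apply LinearMap.ext
      intro w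
      apply Subtype.ext
      change ρ (z : G) (w : Fin d → ℂ) = _
      rw [hscal]
      rfl
    rw [e, LinearMap.det_smul, LinearMap.det_id, mul_one]
  apply Units.ext
  rw [MonoidHom.pow_apply, Units.val_pow_eq_pow_val, hdet, ← pow_mul, ← Units.val_pow_eq_pow_val]
  congr 1
  conv_rhs => rw [← pow_one (lam z)]
  rw [mul_comm]
  exact pow_eq_pow_of_modEq hjm hlz

end Cfsg.Agent.S5001
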