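import Cfsg.Statements.S5005
import Cfsg.Agent.Lib.MathieuBlocks.Criterion
import Cfsg.Agent.Lib.MathieuBlocks.M22Local
import Cfsg.Agent.Lib.MathieuBlocks.M22Degree

set_option autoImplicit false
open Cfsg

namespace Cfsg.Agent.S5005

/-- All irreducible complex characters of the Mathieu group `M₂₂` lie in a single 2-block: any two of them lie in the same block relative to every maximal ideal of the algebraic integers containing 2. -/
theorem result (M : Ideal Cfsg.AlgInt) (hM : Cfsg.IsPModular 2 M)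
    (χ ψ : Cfsg.IrrCharacter ↥Cfsg.Spor.M22) : Cfsg.SameBlock M (χ : ↥Cfsg.Spor.M22 → ℂ) (ψ : ↥Cfsg.Spor.M22 → ℂ) := by
  refine Cfsg.Agent.Lib.MathieuBlocks.Criterion.sameBlock_of_local hM
    Cfsg.Agent.Lib.MathieuBlocks.M22Local.local22 (fun θ h => ?_) χ ψ
  refine Cfsg.Agent.Lib.MathieuBlocks.M22Degree.not_dvd_degree θ ((dvd_of_eq ?_).trans h)
  rw [Cfsg.Agent.Lib.FusionAlperin.MathieuInst.card22,
    show (443520 : ℕ) = 2 ^ 7 * 3465 by norm_num, Nat.factorization_mul (by norm_num)
      (by norm_num), Finsupp.add_apply, Nat.Prime.factorization_pow Nat.prime_two,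
    Finsupp.single_eq_same, Nat.factorization_eq_zero_of_not_dvd (by norm_num : ¬ 2 ∣ 3465)]
  norm_num

end Cfsg.Agent.S5005
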