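import Cfsg.Statements.S5011
import Mathlib

set_option autoImplicit false
open Cfsg

namespace Cfsg.Agent.S5011

/-- Let G be a finite non-abelian simple group and ρ an irreducible complex representation of G on a space of dimension greater than one (irreducible in the sense that the only subspaces invariant under every ρ(x) are 0 and the whole space). Then for every non-identity element g of G, the centralizer of g does not act irreducibly: there is a non-zero proper subspace invariant under ρ(c) for every c commuting with g. -/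
theorem result {G : Type*} [Group G] [Finite G] [IsSimpleGroup G]
    (hG : ¬ IsMulCommutative G) {V : Type*} [AddCommGroup V] [Module ℂ V] [FiniteDimensional ℂ V]
    (ρ : Representation ℂ G V)
    (hirr : ∀ W : Submodule ℂ V, (∀ x : G, ∀ v ∈ W, ρ x v ∈ W) → W = ⊥ ∨ W = ⊤)
    (hdim : 1 < Module.finrank ℂ V) (g : G) (hg : g ≠ 1) :
    ∃ W : Submodule ℂ V, W ≠ ⊥ ∧ W ≠ ⊤ ∧ ∀ c ∈ Subgroup.centralizer ({g} : Set G), ∀ v ∈ W, ρ c v ∈ W := by
  classical
  by_contra hcon
  push Not at hcon
  have hir : ∀ W : Submodule ℂ V, W ≠ ⊥ →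
      (∀ c ∈ Subgroup.centralizer ({g} : Set G), ∀ v ∈ W, ρ c v ∈ W) → W = ⊤ := by
    intro W h1 h2
    by_contra h3
    obtain ⟨c, hc, v, hv, hnv⟩ := hcon W h1 h3
    exact hnv (h2 c hc v hv)
  have : Nontrivial V := Module.nontrivial_of_finrank_pos (R := ℂ) (lt_trans one_pos hdim)
  obtain ⟨μ, hμ⟩ := Module.End.exists_eigenvalue (ρ g)
  have hWne : Module.End.eigenspace (ρ g) μ ≠ ⊥ := hμ
  have htop := hir _ hWne (by
    intro c hc v hv
    rw [Module.End.mem_eigenspace_iff] at hv ⊢
    have hcg : g * c = c * g := by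
      have := Subgroup.mem_centralizer_iff.mp hc g (Set.mem_singleton g)
      exact this
    have h1 : ρ g (ρ c v) = ρ c (ρ g v) := by
      rw [← Module.End.mul_apply, ← map_mul, hcg, map_mul, Module.End.mul_apply]
    rw [h1, hv, map_smul])
  have hsc : ∀ v, ρ g v = μ • v := fun v =>
    Module.End.mem_eigenspace_iff.mp (htop ▸ Submodule.mem_top)
  have hker : ρ.ker = ⊥ := by
    rcases (IsSimpleGroup.eq_bot_or_eq_top_of_normal ρ.ker inferInstance) with h | h
    · exact h
    · exfalso
      obtain ⟨v, hv⟩ := exists_ne (0 : V)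
      rcases hirr (Submodule.span ℂ {v}) (by
        intro x w hw
        have : ρ x = 1 := MonoidHom.mem_ker.mp (h ▸ Subgroup.mem_top x)
        rw [this]; exact hw) with h1 | h1
      · exact hv (Submodule.span_singleton_eq_bot.mp h1)
      · have h2 := finrank_span_singleton (K := ℂ) hv
        rw [h1, finrank_top] at h2
        omega
  have hc : ∀ x : G, x * g = g * x := by
    intro x
    have hinj : Function.Injective ρ := (MonoidHom.ker_eq_bot_iff ρ).mp hker
    apply hinj
    rw [map_mul, map_mul]
    ext v
    simp only [Module.End.mul_apply, hsc, map_smul]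
  have hgz : g ∈ Subgroup.center G := Subgroup.mem_center_iff.mpr hc
  rcases IsSimpleGroup.eq_bot_or_eq_top_of_normal (Subgroup.center G) inferInstance with h | h
  · exact hg (Subgroup.mem_bot.mp (h ▸ hgz))
  · exact hG ⟨⟨fun a b => (Subgroup.mem_center_iff.mp (h ▸ Subgroup.mem_top b) a)⟩⟩

end Cfsg.Agent.S5011
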