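import Cfsg.Statements.S5015
import Cfsg.Agent.Lib.RootSubgroups.RankOne

open Cfsg.Agent.Lib.RootSubgroups

set_option autoImplicit false
open Cfsg

namespace Cfsg.Agent.S5015

/-- Let a group Y act doubly transitively on a set Ω with at least three points, and suppose that the stabilizer of a point α contains a nilpotent subgroup A, normalized by that stabilizer, which acts regularly on the points other than α. Then for any y in Y moving α, the subgroups A and y A y⁻¹ are the unipotent subgroups of a rank one group, and the normal closure of A in Y (the subgroup generated by all conjugates of A) is generated by A and y A y⁻¹ alone. -/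
theorem result {Y Ω : Type*} [Group Y] [MulAction Y Ω]
    (h2 : MulAction.IsMultiplyPretransitive Y Ω 2) (hΩ : 3 ≤ ENat.card Ω) (α : Ω) (A : Subgroup Y)
    (hA : A ≤ MulAction.stabilizer Y α) (hAn : ∀ y ∈ MulAction.stabilizer Y α, Cfsg.conjBy A y = A)
    (hnil : Group.IsNilpotent A) (hreg : ∀ β γ : Ω, β ≠ α → γ ≠ α → ∃! a : Y, a ∈ A ∧ a • β = γ)
    (y : Y) (hy : y ∉ MulAction.stabilizer Y α) :
    Cfsg.IsRankOnePair A (Cfsg.conjBy A y) ∧ Subgroup.normalClosure (A : Set Y) = A ⊔ Cfsg.conjBy A y := by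
  haveI : MulAction.IsPretransitive Y Ω := MulAction.isPretransitive_of_is_two_pretransitive
  have hyα : y • α ≠ α := hy
  -- a conjugate of `A` only depends on the image of `α`
  have dep : ∀ g k : Y, g • α = k • α → conjBy A g = conjBy A k := by
    intro g k e
    have : k⁻¹ * g ∈ MulAction.stabilizer Y α := by
      show (k⁻¹ * g) • α = α
      rw [mul_smul, e, inv_smul_smul]
    calc conjBy A g = conjBy (conjBy A (k⁻¹ * g)) k := by
          rw [conjBy_conjBy, mul_inv_cancel_left]
      _ = conjBy A k := by rw [hAn _ this]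
  have regI : ∀ (p : Ω) (g : Y), g • α = p → ∀ β γ : Ω, β ≠ p → γ ≠ p →
      ∃! a : Y, a ∈ conjBy A g ∧ a • β = γ := by
    intro p g hg β γ hβ hγ
    have h1 : g⁻¹ • β ≠ α := fun e => hβ (by rw [← hg, ← e, smul_inv_smul])
    have h2' : g⁻¹ • γ ≠ α := fun e => hγ (by rw [← hg, ← e, smul_inv_smul])
    obtain ⟨a, ⟨ha, hae⟩, hu⟩ := hreg _ _ h1 h2'
    refine ⟨g * a * g⁻¹, ⟨conj_mem_conjBy ha, ?_⟩, ?_⟩
    · rw [mul_smul, mul_smul, hae, smul_inv_smul]
    · rintro x ⟨hx, hxe⟩
      have := hu (g⁻¹ * x * g) ⟨mem_conjBy.mp hx, by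
        rw [mul_smul, mul_smul, smul_inv_smul, hxe]⟩
      rw [← this]; group
  -- one-sided rank one condition between the subgroups of two points
  have cond : ∀ g k : Y, g • α ≠ k • α → RankOneCondition (conjBy A g) (conjBy A k) := by
    intro g k hne a ha ha1
    have hgA : a • (g • α) = g • α := by
      have h1 : g⁻¹ * a * g ∈ MulAction.stabilizer Y α := hA (mem_conjBy.mp ha)
      have h2'' : (g⁻¹ * a * g) • α = α := h1
      rw [mul_smul, mul_smul, inv_smul_eq_iff] at h2''
      exact h2''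
    have hγ : a⁻¹ • k • α ≠ g • α := fun e => hne (by
      rw [inv_smul_eq_iff.mp e, hgA])
    have hmv : a⁻¹ • k • α ≠ k • α := by
      intro e
      obtain ⟨u, -, hu⟩ := regI (g • α) g rfl (k • α) (k • α) hne.symm hne.symm
      have h1 := hu a⁻¹ ⟨inv_mem ha, e⟩
      have h2'' := hu 1 ⟨one_mem _, one_smul _ _⟩
      exact ha1 (inv_eq_one.mp (h1.trans h2''.symm))
    obtain ⟨b, ⟨hb, hbe⟩, -⟩ := regI (k • α) k rfl (g • α) (a⁻¹ • k • α) hne hmv
    refine ⟨b⁻¹, inv_mem hb, ?_, ?_⟩
    · intro e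
      rw [inv_eq_one.mp e, one_smul] at hbe
      exact hγ hbe.symm
    · rw [inv_inv, conjBy_conjBy, conjBy_conjBy]
      exact dep _ _ (by rw [mul_smul, mul_smul, hbe])
  have e1 : conjBy A (1 : Y) = A := conjBy_one A
  have hne1 : (1 : Y) • α ≠ y • α := by rw [one_smul]; exact hyα.symm
  have cl := cond 1 y hne1
  have cr := cond y 1 hne1.symm
  rw [e1] at cl cr
  have hAB : A ≠ conjBy A y := by
    intro e
    obtain ⟨γ, hγa, hγy⟩ : ∃ γ : Ω, γ ≠ α ∧ γ ≠ y • α := by
      by_contra hc
      push Not at hc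
      have hsub : (Set.univ : Set Ω) ⊆ {α, y • α} := fun γ _ => by
        by_cases h : γ = α
        · exact Or.inl h
        · exact Or.inr (hc γ h)
      have h3 := (Set.encard_le_encard hsub).trans (Set.encard_pair hyα.symm).le
      rw [Set.encard_univ] at h3
      exact absurd (hΩ.trans h3) (by norm_num)
    obtain ⟨b, ⟨hb, hbe⟩, -⟩ := regI (y • α) y rfl α γ hyα.symm hγy
    rw [← e] at hb
    exact hγa (hbe.symm.trans (hA hb))
  have hB : Group.IsNilpotent ↥(conjBy A y) :=
    Group.nilpotent_of_mulEquiv (Subgroup.equivMapOfInjective A _ (MulAut.conj y).injective)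
  refine ⟨⟨hAB, hnil, hB, cl, cr⟩, le_antisymm ?_ ?_⟩
  · refine (Subgroup.closure_le _).mpr ?_
    intro x hx
    obtain ⟨a, ha, hc⟩ := Group.mem_conjugatesOfSet_iff.mp hx
    obtain ⟨g, rfl⟩ := isConj_iff.mp hc
    have hmem : g * a * g⁻¹ ∈ conjBy A g := conj_mem_conjBy ha
    by_cases hg : g • α = α
    · rw [hAn g hg] at hmem
      exact Subgroup.mem_sup_left hmem
    · obtain ⟨c, ⟨hc, hce⟩, -⟩ := hreg (y • α) (g • α) hyα hg
      rw [dep g (c * y) (by rw [mul_smul, hce]), ← conjBy_conjBy] at hmem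
      exact conjBy_le_of_mem le_sup_right (Subgroup.mem_sup_left hc) hmem
  · refine sup_le Subgroup.subset_normalClosure ?_
    rintro _ ⟨a, ha, rfl⟩
    exact Subgroup.normalClosure_normal.conj_mem _ (Subgroup.subset_normalClosure ha) y

end Cfsg.Agent.S5015
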