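import Cfsg.Statements.S5017
import Cfsg.Agent.Lib.RootSubgroups.RankOne

open Cfsg.Agent.Lib.RootSubgroups Cfsg.Agent.Lib.RootSubgroups.RankOne

set_option autoImplicit false
open Cfsg

namespace Cfsg.Agent.S5017

/-- Let X be a rank one group with unipotent subgroups A and B and N a normal subgroup of X. Then either X = N A or N lies in the centre of X. Consequently a perfect rank one group is quasisimple. -/
theorem result {X : Type*} [Group X] {A B : Subgroup X} (h : Cfsg.IsRankOneGroup X A B) :
    (∀ N : Subgroup X, N.Normal → N ⊔ A = ⊤ ∨ N ≤ Subgroup.center X) ∧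
    (Group.IsPerfect X → Cfsg.IsQuasisimple X) := by
  obtain ⟨hgen, hp⟩ := h
  have dich : ∀ N : Subgroup X, N.Normal → N ⊔ A = ⊤ ∨ N ≤ Subgroup.center X := by
    intro N hN
    rcases central_or_supplement hp (N := N) (by rw [hgen]; exact le_top)
      (fun y _ n hn => hN.conj_mem n hn y) with hc | hs
    · exact Or.inr fun n hn => Subgroup.mem_center_iff.mpr fun y =>
        (hc n hn y (by rw [hgen]; trivial)).symm
    · exact Or.inl (hs.trans hgen)
  refine ⟨dich, fun hperf => ⟨hperf, ?_⟩⟩
  haveI := hperf
  have hne : Subgroup.center X ≠ ⊤ := by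
    intro e
    apply not_commute hp
    exact commutator_eq_bot_of_comm fun a _ b _ =>
      (Subgroup.mem_center_iff.mp (e ▸ Subgroup.mem_top a) b).symm
  haveI : Nontrivial (X ⧸ Subgroup.center X) := by
    rw [QuotientGroup.nontrivial_iff]
    exact hne
  constructor
  intro M hM
  rcases dich (M.comap (QuotientGroup.mk' (Subgroup.center X))) inferInstance with hs | hc
  · right
    -- the quotient is perfect and nilpotent
    by_contra hMtop
    haveI := hp.nilpotent_left
    let f : X →* (X ⧸ Subgroup.center X) ⧸ M :=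
      (QuotientGroup.mk' M).comp (QuotientGroup.mk' _)
    have hfs : Function.Surjective (f.comp A.subtype) := by
      intro z
      obtain ⟨x, rfl⟩ := ((QuotientGroup.mk'_surjective M).comp (QuotientGroup.mk'_surjective _)) z
      have hx : x ∈ M.comap (QuotientGroup.mk' (Subgroup.center X)) ⊔ A := by rw [hs]; trivial
      rw [← SetLike.mem_coe, Subgroup.normal_mul] at hx
      obtain ⟨m, hm, a, ha, rfl⟩ := hx
      have hm1 : f m = 1 := (QuotientGroup.eq_one_iff _).mpr hm
      exact ⟨⟨a, ha⟩, by show f a = f (m * a); rw [map_mul, hm1, one_mul]⟩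
    haveI : Group.IsNilpotent ((X ⧸ Subgroup.center X) ⧸ M) :=
      Group.nilpotent_of_surjective _ hfs
    haveI : Group.IsPerfect ((X ⧸ Subgroup.center X) ⧸ M) :=
      Group.IsPerfect.ofSurjective (f := f)
        ((QuotientGroup.mk'_surjective M).comp (QuotientGroup.mk'_surjective _))
    haveI : Nontrivial ((X ⧸ Subgroup.center X) ⧸ M) := QuotientGroup.nontrivial_iff.mpr hMtop
    exact Group.IsPerfect.not_isNilpotent ((X ⧸ Subgroup.center X) ⧸ M) inferInstance
  · left
    rw [eq_bot_iff]
    intro z hz
    obtain ⟨x, rfl⟩ := QuotientGroup.mk'_surjective _ z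
    exact (QuotientGroup.eq_one_iff x).mpr (hc hz)

end Cfsg.Agent.S5017
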