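import Cfsg.Statements.S5018
import Cfsg.Agent.Lib.RootSubgroups.RankOne

open Cfsg.Agent.Lib.RootSubgroups Cfsg.Agent.Lib.RootSubgroups.RankOne

set_option autoImplicit false
open Cfsg

namespace Cfsg.Agent.S5018

/-- A rank one group is not nilpotent, and its second centre equals its centre. -/
theorem result {X : Type*} [Group X] {A B : Subgroup X} (h : Cfsg.IsRankOneGroup X A B) :
    Subgroup.upperCentralSeries X 2 = Subgroup.center X ∧ ¬ Group.IsNilpotent X := by
  obtain ⟨hgen, hp⟩ := h
  refine ⟨le_antisymm ?_ ?_, ?_⟩
  · intro z hz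
    rw [Subgroup.mem_center_iff]
    intro y
    refine (comm_of_comm_mod hp (z := z) (by rw [hgen]; trivial) (fun y _ u _ => ?_) y
      (by rw [hgen]; trivial)).symm
    have h1 := Subgroup.mem_upperCentralSeries_succ_iff.mp hz y
    rw [Subgroup.upperCentralSeries_one, Subgroup.mem_center_iff] at h1
    exact (h1 u).symm
  · rw [← Subgroup.upperCentralSeries_one]
    exact Subgroup.upperCentralSeries_mono X (by norm_num)
  · intro hn
    apply not_isNilpotent hp
    rw [hgen]
    exact Group.nilpotent_of_mulEquiv Subgroup.topEquiv.symm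

end Cfsg.Agent.S5018
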