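import Cfsg.Statements.S5020
import Cfsg.Agent.Lib.RootSubgroups.Quasisimple
import Cfsg.Agent.Lib.RootSubgroups.SL2PrimeSpecial

open Cfsg.Agent.Lib.RootSubgroups
open scoped commutatorElement

set_option autoImplicit false
open Cfsg

namespace Cfsg.Agent.S5020

/-- Let X be a special rank one group with abelian unipotent subgroups A and B, and H = N(A) ∩ N(B) its diagonal subgroup. Then either A has at most three elements and X is isomorphic to SL₂(2), SL₂(3) or PSL₂(3); or X = X' A with the commutator subgroup X' quasisimple and the commutator subgroup ⁅A, H⁆ having more than three elements. -/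
theorem result {X : Type*} [Group X] {A B : Subgroup X} (h : Cfsg.IsRankOneGroup X A B)
    (hs : Cfsg.IsSpecialRankOnePair A B) (hab : Cfsg.HasAbelianUnipotents A B) :
    (ENat.card A ≤ 3 ∧ (Nonempty (X ≃* Matrix.SpecialLinearGroup (Fin 2) (ZMod 2)) ∨
        Nonempty (X ≃* Matrix.SpecialLinearGroup (Fin 2) (ZMod 3)) ∨
        Nonempty (X ≃* Matrix.ProjectiveSpecialLinearGroup (Fin 2) (ZMod 3)))) ∨
    (commutator X ⊔ A = ⊤ ∧ Cfsg.IsQuasisimple (commutator X) ∧
      3 < ENat.card ↥(⁅A, Cfsg.rankOneDiagonal A B⁆ : Subgroup X)) := by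
  have hA : ∀ a ∈ A, ∀ a' ∈ A, a * a' = a' * a := fun a ha a' ha' =>
    congrArg Subtype.val (hab.1.is_comm.comm (⟨a, ha⟩ : A) ⟨a', ha'⟩)
  have hB : ∀ b ∈ B, ∀ b' ∈ B, b * b' = b' * b := fun b hb b' hb' =>
    congrArg Subtype.val (hab.2.is_comm.comm (⟨b, hb⟩ : B) ⟨b', hb'⟩)
  by_cases hbig : 3 < ENat.card A
  · right
    have hP : commutator X = ⁅A ⊔ B, A ⊔ B⁆ := by rw [h.1, commutator_def]
    have hperf : ⁅commutator X, commutator X⁆ = commutator X := by
      rw [hP]; exact (RankOne.derived_perfect hs hA hB hbig).symm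
    have hcoreP : RankOne.core1 A B ≤ commutator X := by rw [hP]; exact RankOne.core1_le_commutator
    have hcoreP' : RankOne.core1 B A ≤ commutator X := by
      rw [hP, sup_comm A B]; exact RankOne.core1_le_commutator
    have hnorm : ∀ N : Subgroup X, N.Normal →
        (∀ n ∈ N, ∀ y ∈ A ⊔ B, n * y = y * n) ∨ N ⊔ A = ⊤ := fun N hN => by
      have := RankOne.central_or_supplement (N := N) h.2 (by rw [h.1]; exact le_top)
        fun y _ n hn => hN.conj_mem n hn y
      rwa [h.1] at this ⊢
    have hne : commutator X ≠ ⊥ := fun e =>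
      RankOne.core1_ne_bot hs hA hbig (le_bot_iff.mp (e ▸ hcoreP))
    have hsupp : commutator X ⊔ A = ⊤ := by
      rcases hnorm (commutator X) inferInstance with hc | hh
      · exfalso
        apply hne
        rw [← hperf]
        exact commutator_eq_bot_of_comm fun x hx y _ => hc x hx y (by rw [h.1]; trivial)
      · exact hh
    have dec : ∀ x : X, ∃ q ∈ commutator X, ∃ a ∈ A, x = q * a := by
      intro x
      have hx : x ∈ commutator X ⊔ A := by rw [hsupp]; trivial
      rw [← SetLike.mem_coe, Subgroup.normal_mul] at hx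
      obtain ⟨q, hq, a, ha, rfl⟩ := hx
      exact ⟨q, hq, a, ha, rfl⟩
    refine ⟨hsupp, isQuasisimple_of_dichotomy hperf hne ?_, RankOne.core1_large hs hA hbig⟩
    intro M hMP hMn
    by_cases hfix : ∀ m ∈ M, ∀ C ∈ unipotentSubgroups A B, conjBy C m = C
    · exact Or.inl fun m hm y _ =>
        RankOne.comm_of_fixes h.2 (hfix m hm) y (by rw [h.1]; trivial)
    right
    push Not at hfix
    obtain ⟨m₀, hm₀, C, ⟨x₀, -, rfl⟩, hmove₀⟩ := hfix
    obtain ⟨q, hq, a₀, ha₀, rfl⟩ := dec x₀
    have hC : conjBy A (q * a₀) = conjBy A q := by rw [← conjBy_conjBy, conjBy_of_mem ha₀]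
    rw [hC] at hmove₀
    obtain ⟨m, hm, hmove⟩ : ∃ m ∈ M, conjBy A m ≠ A := by
      refine ⟨q⁻¹ * m₀ * q, by simpa using hMn q⁻¹ (inv_mem hq) m₀ hm₀, fun e => hmove₀ ?_⟩
      calc conjBy (conjBy A q) m₀ = conjBy (conjBy A (q⁻¹ * m₀ * q)) q := by
            rw [conjBy_conjBy, conjBy_conjBy]; congr 1; group
        _ = conjBy A q := by rw [e]
    obtain ⟨a, ha, he⟩ := RankOne.eq_translate h.2
      (RankOne.conjBy_mem_unipotent (by rw [h.1]; trivial) (RankOne.left_mem A B)) hmove
    have hy : conjBy A (a⁻¹ * m) = B := by rw [← conjBy_conjBy, he, conjBy_inv_cancel]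
    have hy' := RankOne.conjBy_core1 h.2 hB (y := a⁻¹ * m) (by rw [h.1]; trivial) hy
    -- commutators of the cores lie in a conjugate of `M`
    have hcomm : ∀ c ∈ RankOne.core1 A B, ∀ d ∈ RankOne.core1 B A,
        ⁅c, d⁆ ∈ conjBy M a⁻¹ := by
      intro c hc d hd
      have hε : a⁻¹ * m * c * (a⁻¹ * m)⁻¹ ∈ RankOne.core1 B A := hy' ▸ conj_mem_conjBy hc
      have hedB : (a⁻¹ * m * c * (a⁻¹ * m)⁻¹) * d = d * (a⁻¹ * m * c * (a⁻¹ * m)⁻¹) :=
        hB _ (RankOne.core1_le hε) _ (RankOne.core1_le hd)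
      set d' := a * d * a⁻¹ with hd'
      set ε := m * c * m⁻¹ with hε'
      have hd'P : d' ∈ commutator X :=
        (inferInstance : (commutator X).Normal).conj_mem d (hcoreP' hd) a
      have hεP : ε ∈ commutator X :=
        (inferInstance : (commutator X).Normal).conj_mem c (hcoreP hc) m
      have hμ : ε⁻¹ * c ∈ M := by
        rw [show ε⁻¹ * c = m * (c⁻¹ * m⁻¹ * c) by rw [hε']; group]
        exact mul_mem hm (by simpa using hMn c⁻¹ (inv_mem (hcoreP hc)) m⁻¹ (inv_mem hm))
      have hed : ε * d' = d' * ε := by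
        have e := congrArg (fun z => a * z * a⁻¹) hedB
        rw [hε', hd']
        calc m * c * m⁻¹ * (a * d * a⁻¹) = a * (a⁻¹ * m * c * (a⁻¹ * m)⁻¹ * d) * a⁻¹ := by group
          _ = a * (d * (a⁻¹ * m * c * (a⁻¹ * m)⁻¹)) * a⁻¹ := e
          _ = _ := by group
      have h1 : ⁅c, d'⁆ ∈ M := by
        rw [show ⁅c, d'⁆ = ε * ⁅ε⁻¹ * c, d'⁆ * ε⁻¹ by
          calc ⁅c, d'⁆ = ε * ⁅ε⁻¹ * c, d'⁆ * ε⁻¹ * (ε * d' * ε⁻¹ * d'⁻¹) := by
                simp only [commutatorElement_def]; group
            _ = _ := by rw [hed]; group]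
        refine hMn ε hεP _ ?_
        rw [show ⁅ε⁻¹ * c, d'⁆ = ε⁻¹ * c * (d' * (ε⁻¹ * c)⁻¹ * d'⁻¹) by
          simp only [commutatorElement_def]; group]
        exact mul_mem hμ (hMn d' hd'P _ (inv_mem hμ))
      rw [mem_conjBy, inv_inv]
      convert h1 using 1
      have hca : Commute a c := hA a ha c (RankOne.core1_le hc)
      calc a * ⁅c, d⁆ * a⁻¹ = (a * c * a⁻¹) * d' * (a * c * a⁻¹)⁻¹ * d'⁻¹ := by
            rw [hd']; simp only [commutatorElement_def]; group
        _ = ⁅c, d'⁆ := by rw [hca.eq, mul_inv_cancel_right, commutatorElement_def]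
    obtain ⟨x, hxA, hxM, hx1⟩ := RankOne.exists_inf_ne_one hs hA hB hbig (conjBy M a⁻¹) hcomm
      (fun y hy z hz => by
        rw [mem_conjBy, inv_inv] at hz ⊢
        have := hMn (a * y * a⁻¹)
          ((inferInstance : (commutator X).Normal).conj_mem y (by rw [hP]; exact hy) a) _ hz
        convert this using 1
        group)
    rw [mem_conjBy, inv_inv, hA a ha x hxA, mul_inv_cancel_right] at hxM
    have hcore : x ∈ M.normalCore := by
      intro g
      obtain ⟨q, hq, a, ha, rfl⟩ := dec g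
      rw [show q * a * x * (q * a)⁻¹ = q * (a * x * a⁻¹) * q⁻¹ by group, hA a ha x hxA,
        mul_inv_cancel_right]
      exact hMn q hq x hxM
    rcases hnorm M.normalCore inferInstance with hc | hh
    · exact absurd (RankOne.eq_one_of_centralizes h.2 hxA fun b hb =>
        hc x hcore b (Subgroup.mem_sup_right hb)) hx1
    · refine le_antisymm hMP ?_
      have := commutator_le_of_supplement (N := M.normalCore) (A := A)
        (fun y _ n hn => (inferInstance : M.normalCore.Normal).conj_mem n hn y) hA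
      rw [hh, ← commutator_def] at this
      exact this.trans (Subgroup.normalCore_le M)
  · left
    refine ⟨not_lt.mp hbig, ?_⟩
    haveI : Finite ↥A := by
      rw [← ENat.card_lt_top]
      exact lt_of_le_of_lt (not_lt.mp hbig) (by exact ENat.coe_lt_top 3)
    obtain ⟨a, ha, ha1⟩ := exists_ne_one (RankOne.left_ne_bot h.2)
    obtain ⟨b, r⟩ := RankOne.exists_rel h.2 ha ha1
    have hcard : Nat.card ↥A = 2 ∨ Nat.card ↥A = 3 := by
      have h3 : Nat.card ↥A ≤ 3 := by
        have := not_lt.mp hbig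
        rw [ENat.card_eq_coe_natCard] at this
        exact_mod_cast this
      have h2 : 2 ≤ Nat.card ↥A := by
        haveI : Nontrivial ↥A := ⟨⟨⟨a, ha⟩, 1, fun e => ha1 (congrArg Subtype.val e)⟩⟩
        exact Finite.one_lt_card
      omega
    obtain ⟨p, hpf, hpc⟩ : ∃ p : ℕ, Fact p.Prime ∧ Nat.card ↥A = p :=
      ⟨_, ⟨by rcases hcard with h' | h' <;> rw [h'] <;> norm_num⟩, rfl⟩
    haveI := hpf
    have hap : a ^ p = 1 := hpc ▸ congrArg Subtype.val (pow_card_eq_one' (x := (⟨a, ha⟩ : ↥A)))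
    have hAz : A = Subgroup.zpowers a := by
      refine (Subgroup.eq_of_le_of_card_ge (Subgroup.zpowers_le.mpr ha) ?_).symm
      rw [Nat.card_zpowers, hpc, orderOf_eq_prime hap ha1]
    have hcl : Subgroup.closure ({a, b} : Set X) = ⊤ := by
      rw [eq_top_iff, ← h.1]
      have h1 : A ≤ Subgroup.closure ({a, b} : Set X) := by
        rw [hAz, Subgroup.zpowers_le]
        exact Subgroup.subset_closure (Set.mem_insert a {b})
      refine sup_le h1 ?_
      rw [← RankOne.conjBy_mu_left hs r]
      have hm : mu a b ∈ Subgroup.closure ({a, b} : Set X) :=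
        mul_mem (mul_mem (Subgroup.subset_closure (Set.mem_insert a {b}))
          (inv_mem (Subgroup.subset_closure (Set.mem_insert_of_mem a rfl))))
          (Subgroup.subset_closure (Set.mem_insert a {b}))
      exact conjBy_le_of_mem h1 hm
    let e : ↥(Subgroup.closure ({a, b} : Set X)) ≃* X :=
      (MulEquiv.subgroupCongr hcl).trans Subgroup.topEquiv
    rcases SL2Prime.nonempty_mulEquiv hs r hap with ⟨i⟩ | ⟨i⟩
    · rcases hcard with h' | h' <;> (obtain rfl : _ = p := h'.symm.trans hpc)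
      · exact Or.inl ⟨e.symm.trans i.some⟩
      · exact Or.inr (Or.inl ⟨e.symm.trans i.some⟩)
    · rcases hcard with h' | h' <;> (obtain rfl : _ = p := h'.symm.trans hpc)
      · refine Or.inl ⟨(e.symm.trans i.some).trans
          ((QuotientGroup.quotientMulEquivOfEq ?_).trans QuotientGroup.quotientBot)⟩
        rw [Subgroup.eq_bot_iff_forall]
        intro z hz
        obtain ⟨c, hc, hz'⟩ := Matrix.SpecialLinearGroup.mem_center_iff.mp hz
        have : c = 1 := by
          rcases (show c = 1 ∨ c = -1 by simpa using hc) with h1 | h1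
          · exact h1
          · rw [h1, ZMod.neg_eq_self_mod_two]
        subst this
        exact Subtype.ext (hz'.symm.trans (map_one _))
      · exact Or.inr (Or.inr ⟨e.symm.trans i.some⟩)

end Cfsg.Agent.S5020
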