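import Cfsg.Statements.S5023
import Cfsg.Agent.Lib.RootSubgroups.Special

open Cfsg.Agent.Lib.RootSubgroups Cfsg.Agent.Lib.RootSubgroups.RankOne

set_option autoImplicit false
open Cfsg

namespace Cfsg.Agent.S5023

/-- Let X be a rank one group with unipotent subgroups A and B that acts faithfully on an abelian group V (written additively) with A acting quadratically: a' • (a • v − v) = a • v − v for all a, a' in A and v in V. Then A is either torsion-free or an elementary abelian p-group for some prime p. -/
theorem result {X : Type*} [Group X] {A B : Subgroup X} (h : Cfsg.IsRankOneGroup X A B)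
    {V : Type*} [AddCommGroup V] [DistribMulAction X V] (hf : ∀ x : X, (∀ v : V, x • v = v) → x = 1)
    (hq : ∀ a ∈ A, ∀ a' ∈ A, ∀ v : V, a' • (a • v - v) = a • v - v) :
    (∀ a ∈ A, a ≠ 1 → ¬ IsOfFinOrder a) ∨ ∃ p : ℕ, p.Prime ∧ Cfsg.IsElementaryAbelian p A := by
  obtain ⟨hgen, hp⟩ := h
  have hcomm : ∀ a ∈ A, ∀ a' ∈ A, a * a' = a' * a := by
    intro a ha a' ha'
    have e : ∀ c ∈ A, ∀ d ∈ A, ∀ v : V, (c * d) • v = (d • v - v) + c • v := by
      intro c hc d hd v
      rw [mul_smul]
      conv_rhs => rw [← hq d hd c hc v]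
      rw [smul_sub, sub_add_cancel]
    have : (a' * a)⁻¹ * (a * a') = 1 := hf _ fun v => by
      rw [mul_smul, e a ha a' ha' v, inv_smul_eq_iff, e a' ha' a ha v]
      abel
    exact (inv_mul_eq_one.mp this).symm
  haveI hA : IsMulCommutative A := ⟨⟨fun x y => Subtype.ext (hcomm x x.2 y y.2)⟩⟩
  have hX : ∃ x y : X, ∃ n : V, y • (x • n - n) ≠ x • n - n := by
    by_contra hc
    push Not at hc
    apply not_commute hp
    refine commutator_eq_bot_of_comm fun a _ b _ => ?_
    have e : ∀ c d : X, ∀ v : V, (c * d) • v = (d • v - v) + c • v := by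
      intro c d v
      rw [mul_smul]
      conv_rhs => rw [← hc d c v]
      rw [smul_sub, sub_add_cancel]
    have : (b * a)⁻¹ * (a * b) = 1 := hf _ fun v => by
      rw [mul_smul, e a b v, inv_smul_eq_iff, e b a v]
      abel
    exact (inv_mul_eq_one.mp this).symm
  rcases elementary_or_divisible (special_of_quadratic hgen hp hq hX) hA with h1 | h1
  · exact Or.inr h1
  · exact Or.inl h1.1

end Cfsg.Agent.S5023
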