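import Cfsg.Statements.S5024
import Cfsg.Agent.Lib.RootSubgroups.Basic

open Cfsg.Agent.Lib.RootSubgroups

set_option autoImplicit false
open Cfsg

namespace Cfsg.Agent.S5024

/-- Let S be a set of abstract root subgroups of G, A and C members of S, B a rank one partner of A in S and D a rank one partner of C in S. If the rank one group ⟨A, B⟩ is contained in ⟨C, D⟩ then the two coincide, and C and D are conjugates of A inside ⟨A, B⟩. -/
theorem result {G : Type*} [Group G] {S : Set (Subgroup G)} (hS : Cfsg.IsRootSubgroupSet S)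
    {A B C D : Subgroup G} (hA : A ∈ S) (hC : C ∈ S) (hB : B ∈ Cfsg.rankOnePartners S A) (hD : D ∈ Cfsg.rankOnePartners S C)
    (hle : A ⊔ B ≤ C ⊔ D) : A ⊔ B = C ⊔ D ∧ C ∈ Cfsg.unipotentSubgroups A B ∧ D ∈ Cfsg.unipotentSubgroups A B := by
  obtain ⟨hBS, hAB⟩ := hB
  obtain ⟨hDS, hCD⟩ := hD
  have key : ∀ X ∈ S, ∀ Y ∈ S, X ≤ C ⊔ D → Y ≤ C ⊔ D → IsRankOnePair X Y →
      X ∈ unipotentSubgroups C D := by
    intro X hX Y _ hXle hYle hXY
    refine (Root.mem_points_or_comm hS hC hDS hCD hX hXle).resolve_right fun hc => ?_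
    exact RankOne.not_commute hXY (commutator_eq_bot_of_comm fun x hx y hy =>
      hc x hx y (hYle hy))
  have hA' := key A hA B hBS (le_sup_left.trans hle) (le_sup_right.trans hle) hAB
  have hB' := key B hBS A hA (le_sup_right.trans hle) (le_sup_left.trans hle) (RankOnePair_symm hAB)
  have heq := (RankOne.pair_of_mem hCD hA' hB' hAB.ne).2
  obtain ⟨x, hx, hxe⟩ := hA'
  have hC' : C ∈ unipotentSubgroups A B :=
    ⟨x⁻¹, by rw [heq]; exact inv_mem hx, by rw [hxe, conjBy_inv_cancel]⟩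
  refine ⟨heq, hC', ?_⟩
  obtain ⟨y, hy, hye⟩ := RankOne.exists_swap_left hCD
  rw [← hye]
  exact RankOne.conjBy_mem_unipotent (by rw [heq]; exact hy) hC'

end Cfsg.Agent.S5024
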