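import Cfsg.Statements.S5026
import Cfsg.Agent.Lib.RootSubgroups.Basic

open Cfsg.Agent.Lib.RootSubgroups

set_option autoImplicit false
open Cfsg

namespace Cfsg.Agent.S5026

/-- Let S be a degenerate set of abstract root subgroups of G (a set of abstract transvection groups) and let a, b be commuting non-identity elements of members of S with a b ≠ 1. Then the members of S centralizing a b are exactly those centralizing both a and b. -/
theorem result {G : Type*} [Group G] {S : Set (Subgroup G)} (hS : Cfsg.IsRootSubgroupSet S) (hdeg : Cfsg.IsDegenerateRootSet S)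
    {a b : G} (ha : a ∈ Cfsg.rootElements S) (hb : b ∈ Cfsg.rootElements S) (hab : a * b = b * a) (hab1 : a * b ≠ 1) :
    Cfsg.centralizingMembers S (Subgroup.zpowers (a * b)) =
      Cfsg.centralizingMembers S (Subgroup.zpowers a) ∩ Cfsg.centralizingMembers S (Subgroup.zpowers b) := by
  have hle : ∀ (E : Subgroup G) (g : G),
      E ≤ Subgroup.centralizer ((Subgroup.zpowers g : Subgroup G) : Set G) ↔
        ∀ x ∈ E, g * x = x * g := by
    intro E g
    constructor
    · intro h x hx
      exact Subgroup.mem_centralizer_iff.mp (h hx) g (Subgroup.mem_zpowers g)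
    · intro h x hx
      refine Subgroup.mem_centralizer_iff.mpr fun y hy => ?_
      obtain ⟨n, rfl⟩ := Subgroup.mem_zpowers_iff.mp hy
      exact (Commute.zpow_left (h x hx) n).eq
  obtain ⟨ha1, A, hA, haA⟩ := ha
  obtain ⟨hb1, B, hB, hbB⟩ := hb
  ext E
  constructor
  · rintro ⟨hE, hcE⟩
    rw [hle] at hcE
    suffices h : ∀ x ∈ E, a * x = x * a by
      refine ⟨⟨hE, (hle E a).mpr h⟩, hE, (hle E b).mpr fun x hx => ?_⟩
      have h1 := hcE x hx
      rw [mul_assoc, ← mul_assoc x, ← h x hx, mul_assoc] at h1
      exact mul_left_cancel h1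
    rcases hS.pair A hA E hE with hc | hAE | hr
    · exact fun x hx => comm_of_commutator_eq_bot hc haA hx
    · exfalso
      have hba : conjBy E b = conjBy E a⁻¹ := by
        rw [show b = a⁻¹ * (a * b) by group, ← conjBy_conjBy, conjBy_of_comm hcE]
      have hP : conjBy E a⁻¹ ∈ unipotentSubgroups A E :=
        RankOne.conjBy_mem_unipotent (Subgroup.mem_sup_left (inv_mem haA)) (RankOne.right_mem hAE)
      have hne : conjBy E a⁻¹ ≠ E := fun e =>
        ha1 (inv_eq_one.mp (RankOne.eq_one_of_normalizes hAE (inv_mem haA) e))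
      rcases hS.pair B hB E hE with hc | hBE | hr
      · exact hne (hba ▸ conjBy_of_comm fun x hx => comm_of_commutator_eq_bot hc hbB hx)
      · have hle' : B ≤ A ⊔ E := by
          have h1 := (RankOne.pair_of_mem hAE (RankOne.right_mem hAE) hP hne.symm).2
          have h2 := (RankOne.pair_of_mem hBE (RankOne.right_mem hBE)
            (RankOne.conjBy_mem_unipotent (Subgroup.mem_sup_left hbB) (RankOne.right_mem hBE))
            (by rw [hba]; exact hne.symm)).2
          rw [hba, h1] at h2
          rw [h2]; exact le_sup_left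
        have hBpt := (Root.mem_points_or_comm hS hA hE hAE hB hle').resolve_right fun hc =>
          RankOne.not_commute hBE (commutator_eq_bot_of_comm fun x hx y hy =>
            hc x hx y (Subgroup.mem_sup_right hy))
        by_cases hBA : B = A
        · rw [hBA] at hbB
          exact hab1 (RankOne.eq_one_of_centralizes hAE (mul_mem haA hbB) hcE)
        · refine ha1 (RankOne.eq_one_of_fix_point hAE (RankOne.left_mem A E) hBpt (Ne.symm hBA)
            haA ?_)
          refine RankOne.eq_of_mem_both hAE
            (RankOne.conjBy_mem_unipotent (Subgroup.mem_sup_left haA) hBpt) hBpt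
            (x := b) ?_ hbB hb1
          rw [mem_conjBy, mul_assoc, ← hab, inv_mul_cancel_left]
          exact hbB
      · exact hdeg B hB E hE hr
    · exact absurd hr (hdeg A hA E hE)
  · rintro ⟨⟨hE, h1⟩, -, h2⟩
    refine ⟨hE, (hle E (a * b)).mpr fun x hx => ?_⟩
    rw [mul_assoc, (hle E b).mp h2 x hx, ← mul_assoc, (hle E a).mp h1 x hx, mul_assoc]

end Cfsg.Agent.S5026
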