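import Cfsg.Statements.S5027
import Cfsg.Agent.Lib.RootSubgroups.Basic

open Cfsg.Agent.Lib.RootSubgroups
open scoped commutatorElement

set_option autoImplicit false
open Cfsg

namespace Cfsg.Agent.S5027

/-- Let S be a set of abstract root subgroups of G such that every member of S has a rank one partner in S (the graph of rank one pairs on S has no isolated vertex). Then the second centre of G equals its centre. -/
theorem result {G : Type*} [Group G] {S : Set (Subgroup G)} (hS : Cfsg.IsRootSubgroupSet S)
    (hF : ∀ A ∈ S, ¬ Cfsg.IsIsolatedIn (Cfsg.FAdj S) S A) : Subgroup.upperCentralSeries G 2 = Subgroup.center G := by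
  refine le_antisymm ?_ ?_
  · intro z hz
    have hgen : ∀ A ∈ S, A ≤ Subgroup.centralizer ({z} : Set G) := by
      intro A hA a ha
      refine Subgroup.mem_centralizer_iff.mpr fun w hw => ?_
      rw [Set.mem_singleton_iff.mp hw]
      by_cases ha1 : a = 1
      · simp [ha1]
      obtain ⟨E, hE, hAE⟩ := (Root.hasPartner_iff hA).mpr (hF A hA)
      have h1 := Subgroup.mem_upperCentralSeries_succ_iff.mp hz a
      rw [Subgroup.upperCentralSeries_one, Subgroup.mem_center_iff] at h1
      have h2 : ⁅z, a⁆ = 1 := Root.eq_one_of_central_shift hS hE hAE (hS.conj_mem A hA z) ha ha1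
        (fun x _ => (h1 x).symm) (fun x _ => (h1 x).symm)
        (by rw [commutatorElement_def, inv_mul_cancel_right]; exact conj_mem_conjBy ha)
      exact commutatorElement_eq_one_iff_mul_comm.mp h2
    have : Subgroup.centralizer ({z} : Set G) = ⊤ :=
      eq_top_iff.mpr (hS.generates ▸ iSup₂_le hgen)
    refine Subgroup.mem_center_iff.mpr fun g => ?_
    have hg : g ∈ Subgroup.centralizer ({z} : Set G) := by rw [this]; trivial
    exact (Subgroup.mem_centralizer_iff.mp hg z rfl).symm
  · rw [← Subgroup.upperCentralSeries_one]
    exact Subgroup.upperCentralSeries_mono G (by norm_num)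

end Cfsg.Agent.S5027
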