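import Cfsg.Statements.S5029
import Cfsg.Agent.Lib.RootSubgroups.Components

open Cfsg.Agent.Lib.RootSubgroups
open scoped commutatorElement

set_option autoImplicit false
open Cfsg

namespace Cfsg.Agent.S5029

/-- Let S be a set of abstract root subgroups of G, A ∈ S having a rank one partner in S, and B ∈ S with C = ⁅A, B⁆ ∈ S. Then the members of S contained in AC are the conjugates of A by elements of B together with C, they partition AC, the members of S inside AC partition AC so that A is a line partner of C, and for every non-identity a ∈ A the map b ↦ a⁻¹ b⁻¹ a b is an isomorphism from B onto C. -/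
theorem result {G : Type*} [Group G] {S : Set (Subgroup G)} (hS : Cfsg.IsRootSubgroupSet S)
    {A B : Subgroup G} (hA : ¬ Cfsg.IsIsolatedIn (Cfsg.FAdj S) S A) (hAS : A ∈ S) (hB : B ∈ S) (hC : ⁅A, B⁆ ∈ S) :
    Cfsg.membersIn S (A ⊔ ⁅A, B⁆) = (fun b : G => Cfsg.conjBy A b) '' (B : Set G) ∪ {⁅A, B⁆} ∧
    Cfsg.IsSubgroupPartition (A ⊔ ⁅A, B⁆) (Cfsg.membersIn S (A ⊔ ⁅A, B⁆)) ∧
    A ∈ Cfsg.linePartners S ⁅A, B⁆ ∧
    ∀ a ∈ A, a ≠ 1 → ∃ φ : ↥B ≃* ↥⁅A, B⁆, ∀ b : ↥B, (φ b : G) = a⁻¹ * (b : G)⁻¹ * a * b := by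
  have hr := Root.rcc_of_commutator_mem hS hAS hB hC
  have hp := (Root.hasPartner_iff hAS).mpr hA
  refine ⟨Root.membersIn_line hS hAS hp hr, Root.partition_line hS hAS hp hr,
    Root.mem_linePartners hS hAS hp hr, fun a ha ha1 => ?_⟩
  let φ : ↥B →* ↥⁅A, B⁆ := MonoidHom.mk'
    (fun b => ⟨⁅a⁻¹, (b : G)⁻¹⁆,
      Subgroup.commutator_mem_commutator (inv_mem ha) (inv_mem b.2)⟩)
    (fun b b' => Subtype.ext (by
      simp only [Subgroup.coe_mul, mul_inv_rev]
      rw [commutatorElement_mul_right_of_central (hr.2.1 _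
        (Subgroup.commutator_mem_commutator (inv_mem ha) (inv_mem b.2)) _
        (Subgroup.mem_sup_right (inv_mem b'.2)))]
      exact (hr.2.1 _ (Subgroup.commutator_mem_commutator (inv_mem ha) (inv_mem b.2)) _
        (SetLike.le_def.mp (Subgroup.commutator_le_sup A B)
          (Subgroup.commutator_mem_commutator (inv_mem ha) (inv_mem b'.2)))).symm))
  have hinj : Function.Injective φ := by
    rw [injective_iff_map_eq_one]
    intro b hb
    have h1 : ⁅a⁻¹, (b : G)⁻¹⁆ = 1 := congrArg Subtype.val hb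
    by_contra hb1
    exact Root.commutatorElement_ne_one hS hAS hp hr (inv_mem ha) (by simpa using ha1)
      (inv_mem b.2) (fun e => hb1 (Subtype.ext (inv_eq_one.mp e))) h1
  have hsurj : Function.Surjective φ := by
    rintro ⟨c, hc⟩
    obtain ⟨b, hb, e⟩ := Root.exists_eq_left hr (inv_mem ha) (by simpa using ha1) hc
    exact ⟨⟨b⁻¹, inv_mem hb⟩, Subtype.ext (by simp [φ, e])⟩
  refine ⟨MulEquiv.ofBijective φ ⟨hinj, hsurj⟩, fun b => ?_⟩
  show ⁅a⁻¹, (b : G)⁻¹⁆ = _
  simp [commutatorElement_def]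

end Cfsg.Agent.S5029
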