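import Cfsg.Statements.S5030
import Cfsg.Agent.Lib.RootSubgroups.Square

open Cfsg.Agent.Lib.RootSubgroups
open scoped commutatorElement

set_option autoImplicit false
open Cfsg

namespace Cfsg.Agent.S5030

/-- Let S be a set of abstract root subgroups of G and A, B, C ∈ S with ⁅A, B⁆ ∈ S and ⁅B, C⁆ ∈ S, where A and C are different and commute. For a non-identity b ∈ B put X = ⟨A, b⁻¹ C b⟩ and Y = ⟨b⁻¹ A b, C⟩ and R = ⟨A, B, C⟩. Then X and Y are either both abelian or both nilpotent of class exactly two; X and Y commute elementwise; XY is normal in R with R = (XY) B; and R is nilpotent. -/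
theorem result {G : Type*} [Group G] {S : Set (Subgroup G)} (hS : Cfsg.IsRootSubgroupSet S)
    {A B C : Subgroup G} (hA : A ∈ S) (hB : B ∈ S) (hC : C ∈ S) (hAB : ⁅A, B⁆ ∈ S) (hBC : ⁅B, C⁆ ∈ S)
    (hAC : C ∈ Cfsg.commutingPartners S A)
    {b : G} (hb : b ∈ B) (hb1 : b ≠ 1) :
    ((IsMulCommutative ↥(A ⊔ Cfsg.conjBy C b⁻¹) ∧ IsMulCommutative ↥(Cfsg.conjBy A b⁻¹ ⊔ C)) ∨
      ((¬ IsMulCommutative ↥(A ⊔ Cfsg.conjBy C b⁻¹) ∧
          ⁅⁅A ⊔ Cfsg.conjBy C b⁻¹, A ⊔ Cfsg.conjBy C b⁻¹⁆, A ⊔ Cfsg.conjBy C b⁻¹⁆ = ⊥) ∧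
        (¬ IsMulCommutative ↥(Cfsg.conjBy A b⁻¹ ⊔ C) ∧
          ⁅⁅Cfsg.conjBy A b⁻¹ ⊔ C, Cfsg.conjBy A b⁻¹ ⊔ C⁆, Cfsg.conjBy A b⁻¹ ⊔ C⁆ = ⊥))) ∧
    ⁅A ⊔ Cfsg.conjBy C b⁻¹, Cfsg.conjBy A b⁻¹ ⊔ C⁆ = ⊥ ∧
    (∀ r ∈ A ⊔ B ⊔ C, Cfsg.conjBy ((A ⊔ Cfsg.conjBy C b⁻¹) ⊔ (Cfsg.conjBy A b⁻¹ ⊔ C)) r =
      (A ⊔ Cfsg.conjBy C b⁻¹) ⊔ (Cfsg.conjBy A b⁻¹ ⊔ C)) ∧
    ((A ⊔ Cfsg.conjBy C b⁻¹) ⊔ (Cfsg.conjBy A b⁻¹ ⊔ C)) ⊔ B = A ⊔ B ⊔ C ∧
    Group.IsNilpotent ↥(A ⊔ B ⊔ C) := by
  have hr1 : RootCommutatorCase S A B := Root.rcc_of_commutator_mem hS hA hB hAB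
  have hr2 : RootCommutatorCase S C B := Root.rcc_symm (Root.rcc_of_commutator_mem hS hB hC hBC)
  have hAC' : ⁅A, C⁆ = ⊥ := hAC.2.2
  have hCA : ⁅C, A⁆ = ⊥ := commutator_comm_eq_bot.mp hAC'
  have hx : b⁻¹ ∈ B := inv_mem hb
  have hx1 : b⁻¹ ≠ 1 := inv_ne_one.mpr hb1
  -- commutators of a member with a fixed element
  have gen : ∀ X : Subgroup G, RootCommutatorCase S X B → ∀ y ∈ B, y ≠ 1 →
      ⁅X, B⁆ ≤ X ⊔ conjBy X y := by
    intro X hr y hy hy1
    rw [← hr.2.2.2 y hy hy1, Subgroup.closure_le]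
    rintro _ ⟨a, ha, rfl⟩
    show a * y * a⁻¹ * y⁻¹ ∈ X ⊔ conjBy X y
    rw [show a * y * a⁻¹ * y⁻¹ = a * (y * a⁻¹ * y⁻¹) by group]
    exact mul_mem (Subgroup.mem_sup_left ha)
      (Subgroup.mem_sup_right (conj_mem_conjBy (inv_mem ha)))
  -- commuting one pair gives commuting of the other
  have one_way : ∀ X Y : Subgroup G, RootCommutatorCase S X B → ⁅X, Y⁆ = ⊥ →
      ⁅X, conjBy Y b⁻¹⁆ = ⊥ → ⁅conjBy X b⁻¹, Y⁆ = ⊥ := by
    intro X Y hr h0 h1
    have h2 : ⁅conjBy X b, Y⁆ = ⊥ := by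
      have := congrArg (fun Z => conjBy Z b) h1
      simpa only [conjBy_commutator, conjBy_bot, conjBy_conjBy, mul_inv_cancel, conjBy_one]
        using this
    rw [Subgroup.commutator_eq_bot_iff_le_centralizer] at h0 h2 ⊢
    exact ((Root.conjBy_le_line hr hx).trans
      (sup_le le_sup_left (gen X hr b hb hb1))).trans (sup_le h0 h2)
  -- no rank one pairs
  have no_rank : ∀ X Y : Subgroup G, X ∈ S → Y ∈ S → RootCommutatorCase S X B → ⁅X, Y⁆ = ⊥ →
      ¬ IsRankOnePair X (conjBy Y b⁻¹) := by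
    intro X Y hX hY hr h0 hrk
    obtain ⟨a, ha, ha1⟩ := exists_ne_one (RankOne.left_ne_bot hrk)
    have hz : b⁻¹ * a * b⁻¹⁻¹ ∈ conjBy X b⁻¹ := conj_mem_conjBy ha
    have hzl : b⁻¹ * a * b⁻¹⁻¹ ∈ X ⊔ ⁅X, B⁆ := Root.conjBy_le_line hr hx hz
    refine ha1 ?_
    have h := Root.eq_one_of_central_shift hS (hS.conj_mem Y hY b⁻¹) hrk hr.1 (inv_mem ha)
      (inv_ne_one.mpr ha1) (z := b⁻¹ * a * b⁻¹⁻¹)
      (fun y hy => (comm_sup (z := y) (fun a' ha' => Root.comm_self hS hX hy ha')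
        (fun c hc => Root.comm_left_commutator hr y hy c hc) _ hzl).symm)
      (fun y hy => comm_of_commutator_eq_bot
        (A := conjBy X b⁻¹) (B := conjBy Y b⁻¹) (by rw [← conjBy_commutator, h0, conjBy_bot]) hz hy)
      (by
        have hc := hr.2.1 _ (Subgroup.commutator_mem_commutator ha hx) a (Subgroup.mem_sup_left ha)
        have e : b⁻¹ * a * b⁻¹⁻¹ = ⁅a, b⁻¹⁆⁻¹ * a := by
          simp [commutatorElement_def, mul_assoc]
        rw [e, mul_inv_cancel_right]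
        exact inv_mem (Subgroup.commutator_mem_commutator ha hx))
    simpa [mul_assoc] using congrArg (fun u => b * u * b⁻¹) h
  have caseL : ⁅A, conjBy C b⁻¹⁆ = ⊥ ∨ RootCommutatorCase S A (conjBy C b⁻¹) :=
    (hS.pair A hA _ (hS.conj_mem C hC b⁻¹)).imp_right fun h =>
      h.resolve_left (no_rank A C hA hC hr1 hAC')
  have caseR : ⁅conjBy A b⁻¹, C⁆ = ⊥ ∨ RootCommutatorCase S (conjBy A b⁻¹) C :=
    (hS.pair _ (hS.conj_mem A hA b⁻¹) C hC).imp_right fun h =>
      h.resolve_left fun h' => no_rank C A hC hA hr2 hCA (RankOnePair_symm h')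
  have sup_eq : ∀ X Y : Subgroup G, Subgroup.closure ((X : Set G) ∪ Y) = X ⊔ Y := fun X Y => by
    rw [Subgroup.closure_union, Subgroup.closure_eq, Subgroup.closure_eq]
  -- the structure of each half
  have half : ∀ X Y : Subgroup G, X ∈ S → Y ∈ S →
      (⁅X, Y⁆ = ⊥ → IsMulCommutative ↥(X ⊔ Y)) ∧
      (RootCommutatorCase S X Y →
        ⁅X ⊔ Y, X ⊔ Y⁆ ≤ ⁅X, Y⁆ ∧ ¬ IsMulCommutative ↥(X ⊔ Y) ∧
        ⁅⁅X ⊔ Y, X ⊔ Y⁆, X ⊔ Y⁆ = ⊥) := by
    intro X Y hX hY
    refine ⟨fun h => ⟨⟨fun u v => Subtype.ext ?_⟩⟩, fun hr => ?_⟩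
    · exact comm_sup (z := u.1)
        (fun x hx' => (comm_sup (z := x) (fun x' h' => Root.comm_self hS hX hx' h')
          (fun y hy => comm_of_commutator_eq_bot h hx' hy) _ u.2).symm)
        (fun y hy => (comm_sup (z := y) (fun x h' => (comm_of_commutator_eq_bot h h' hy).symm)
          (fun y' h' => Root.comm_self hS hY hy h') _ u.2).symm) v.1 v.2
    · have hle : ⁅X ⊔ Y, X ⊔ Y⁆ ≤ ⁅X, Y⁆ := by
        rw [← sup_eq X Y]
        refine commutator_closure_le (fun z hz t ht => hr.2.1 z hz t ?_) ?_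
        · rcases ht with ht | ht
          exacts [Subgroup.mem_sup_left ht, Subgroup.mem_sup_right ht]
        · rintro s (hs | hs) t (ht | ht)
          · rw [commutatorElement_eq_one_iff_mul_comm.mpr (Root.comm_self hS hX hs ht)]
            exact one_mem _
          · exact Subgroup.commutator_mem_commutator hs ht
          · rw [Subgroup.commutator_comm]
            exact Subgroup.commutator_mem_commutator hs ht
          · rw [commutatorElement_eq_one_iff_mul_comm.mpr (Root.comm_self hS hY hs ht)]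
            exact one_mem _
      refine ⟨hle, fun hcm => ?_, commutator_eq_bot_of_comm fun z hz w hw =>
        hr.2.1 z (hle hz) w hw⟩
      exact hS.ne_bot _ hr.1 (commutator_eq_bot_of_comm fun x hx' y hy =>
        congrArg Subtype.val (hcm.is_comm.comm (⟨x, Subgroup.mem_sup_left hx'⟩ : ↥(X ⊔ Y))
          ⟨y, Subgroup.mem_sup_right hy⟩))
  have halfL := half A _ hA (hS.conj_mem C hC b⁻¹)
  have halfR := half _ C (hS.conj_mem A hA b⁻¹) hC
  -- the two halves commute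
  have hMN : ⁅A ⊔ conjBy C b⁻¹, conjBy A b⁻¹ ⊔ C⁆ = ⊥ := by
    rw [Subgroup.commutator_eq_bot_iff_le_centralizer]
    refine sup_le ?_ ?_ <;> rw [← Subgroup.commutator_eq_bot_iff_le_centralizer,
      commutator_comm_eq_bot, Subgroup.commutator_eq_bot_iff_le_centralizer] <;>
      refine sup_le ?_ ?_ <;> rw [← Subgroup.commutator_eq_bot_iff_le_centralizer]
    · exact commutator_comm_eq_bot.mp (Root.rcc_conj_commute hS hA (Root.rcc_symm hr1) hx)
    · exact hCA
    · rw [← conjBy_commutator, hAC', conjBy_bot]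
    · exact Root.rcc_conj_commute hS hC (Root.rcc_symm hr2) hx
  -- the normal subgroup
  set W := (A ⊔ conjBy C b⁻¹) ⊔ (conjBy A b⁻¹ ⊔ C) with hW
  set R := A ⊔ B ⊔ C with hR
  have hAW : A ≤ W := le_sup_left.trans le_sup_left
  have hCW : C ≤ W := le_sup_right.trans le_sup_right
  have hPW : ⁅A, B⁆ ≤ W :=
    (gen A hr1 _ hx hx1).trans (sup_le hAW (le_sup_left.trans le_sup_right))
  have hQW : ⁅C, B⁆ ≤ W :=
    (gen C hr2 _ hx hx1).trans (sup_le hCW (le_sup_right.trans le_sup_left))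
  have hfix : ∀ y ∈ B, conjBy W y ≤ W := by
    intro y hy
    have hA1 : conjBy A b⁻¹ ≤ A ⊔ ⁅A, B⁆ := Root.conjBy_le_line hr1 hx
    have hC1 : conjBy C b⁻¹ ≤ C ⊔ ⁅C, B⁆ := Root.conjBy_le_line hr2 hx
    have hWle : W ≤ (A ⊔ ⁅A, B⁆) ⊔ (C ⊔ ⁅C, B⁆) :=
      sup_le (sup_le (le_sup_left.trans le_sup_left) (hC1.trans le_sup_right))
        (sup_le (hA1.trans le_sup_left) (le_sup_left.trans le_sup_right))
    have hP : conjBy ⁅A, B⁆ y = ⁅A, B⁆ :=
      conjBy_of_comm fun c hc => (hr1.2.1 c hc y (Subgroup.mem_sup_right hy)).symm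
    have hQ : conjBy ⁅C, B⁆ y = ⁅C, B⁆ :=
      conjBy_of_comm fun c hc => (hr2.2.1 c hc y (Subgroup.mem_sup_right hy)).symm
    refine (conjBy_mono y hWle).trans ?_
    simp only [conjBy_sup, hP, hQ]
    exact sup_le (sup_le ((Root.conjBy_le_line hr1 hy).trans (sup_le hAW hPW)) hPW)
      (sup_le ((Root.conjBy_le_line hr2 hy).trans (sup_le hCW hQW)) hQW)
  have hnorm : ∀ r ∈ R, conjBy W r = W := by
    intro r hr'
    refine conjBy_eq_self_iff.mpr ((sup_le (sup_le (hAW.trans Subgroup.le_normalizer) ?_)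
      (hCW.trans Subgroup.le_normalizer) : R ≤ Subgroup.normalizer (W : Set G)) hr')
    intro y hy
    refine conjBy_eq_self_iff.mp (le_antisymm (hfix y hy) ?_)
    have h1 := conjBy_mono y (hfix y⁻¹ (inv_mem hy))
    rwa [conjBy_cancel] at h1
  have hWR : W ≤ R := by
    have hbR : b⁻¹ ∈ R := Subgroup.mem_sup_left (Subgroup.mem_sup_right hx)
    exact sup_le (sup_le (le_sup_left.trans le_sup_left) (conjBy_le_of_mem le_sup_right hbR))
      (sup_le (conjBy_le_of_mem (le_sup_left.trans le_sup_left) hbR) le_sup_right)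
  have hWB : W ⊔ B = R :=
    le_antisymm (sup_le hWR (le_sup_right.trans le_sup_left))
      (sup_le (sup_le (hAW.trans le_sup_left) le_sup_right) (hCW.trans le_sup_left))
  -- commutators of the normal subgroup are central in it
  set D := ⁅A, conjBy C b⁻¹⁆ ⊔ ⁅conjBy A b⁻¹, C⁆ with hD
  have hDcomm : ∀ z ∈ D, ∀ w ∈ W, z * w = w * z := by
    intro z hz w hw
    refine (comm_sup (z := w) ?_ ?_ z hz).symm <;> intro c hc <;>
      refine (comm_sup (z := c) ?_ ?_ w hw).symm <;> intro u hu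
    · rcases caseL with h | h
      · rw [h] at hc; rw [Subgroup.mem_bot.mp hc, one_mul, mul_one]
      · exact h.2.1 c hc u hu
    · exact comm_of_commutator_eq_bot hMN (Subgroup.commutator_le_sup _ _ hc) hu
    · exact (comm_of_commutator_eq_bot hMN hu (Subgroup.commutator_le_sup _ _ hc)).symm
    · rcases caseR with h | h
      · rw [h] at hc; rw [Subgroup.mem_bot.mp hc, one_mul, mul_one]
      · exact h.2.1 c hc u hu
  have hWD : ⁅W, W⁆ ≤ D := by
    have hWcl : Subgroup.closure (((A : Set G) ∪ conjBy C b⁻¹) ∪ ((conjBy A b⁻¹ : Set G) ∪ C)) = W := by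
      rw [Subgroup.closure_union, sup_eq, sup_eq]
    rw [← hWcl]
    refine commutator_closure_le (fun z hz t ht => hDcomm z hz t (hWcl ▸ Subgroup.subset_closure ht)) ?_
    have self : ∀ X ∈ S, ∀ s ∈ X, ∀ t ∈ X, ⁅s, t⁆ ∈ D := fun X hX s hs t ht => by
      rw [commutatorElement_eq_one_iff_mul_comm.mpr (Root.comm_self hS hX hs ht)]
      exact one_mem _
    have cross : ∀ s ∈ A ⊔ conjBy C b⁻¹, ∀ t ∈ conjBy A b⁻¹ ⊔ C, ⁅s, t⁆ ∈ D ∧ ⁅t, s⁆ ∈ D :=
      fun s hs t ht => by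
        have e := comm_of_commutator_eq_bot hMN hs ht
        rw [commutatorElement_eq_one_iff_mul_comm.mpr e,
          commutatorElement_eq_one_iff_mul_comm.mpr e.symm]
        exact ⟨one_mem _, one_mem _⟩
    have swap : ∀ s t : G, ⁅s, t⁆ ∈ D → ⁅t, s⁆ ∈ D := fun s t h => by
      rw [← commutatorElement_inv]; exact inv_mem h
    rintro s ((hs | hs) | (hs | hs)) t ((ht | ht) | (ht | ht))
    · exact self A hA s hs t ht
    · exact Subgroup.mem_sup_left (Subgroup.commutator_mem_commutator hs ht)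
    · exact (cross s (Subgroup.mem_sup_left hs) t (Subgroup.mem_sup_left ht)).1
    · exact (cross s (Subgroup.mem_sup_left hs) t (Subgroup.mem_sup_right ht)).1
    · exact swap t s (Subgroup.mem_sup_left (Subgroup.commutator_mem_commutator ht hs))
    · exact self _ (hS.conj_mem C hC _) s hs t ht
    · exact (cross s (Subgroup.mem_sup_right hs) t (Subgroup.mem_sup_left ht)).1
    · exact (cross s (Subgroup.mem_sup_right hs) t (Subgroup.mem_sup_right ht)).1
    · exact (cross t (Subgroup.mem_sup_left ht) s (Subgroup.mem_sup_left hs)).2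
    · exact (cross t (Subgroup.mem_sup_right ht) s (Subgroup.mem_sup_left hs)).2
    · exact self _ (hS.conj_mem A hA _) s hs t ht
    · exact Subgroup.mem_sup_right (Subgroup.commutator_mem_commutator hs ht)
    · exact (cross t (Subgroup.mem_sup_left ht) s (Subgroup.mem_sup_right hs)).2
    · exact (cross t (Subgroup.mem_sup_right ht) s (Subgroup.mem_sup_right hs)).2
    · exact swap t s (Subgroup.mem_sup_right (Subgroup.commutator_mem_commutator ht hs))
    · exact self C hC s hs t ht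
  have hnil : Group.IsNilpotent ↥R := by
    set T : Set G := (A : Set G) ∪ B ∪ C with hT
    have hcl : Subgroup.closure T = R := by
      rw [hT, Subgroup.closure_union, sup_eq, Subgroup.closure_eq]
    have inR : ∀ u ∈ W, u ∈ Subgroup.closure T := fun u hu => hcl ▸ hWR hu
    have triv : ∀ (n : ℕ) (u v : G), u * v = v * u → ⁅u, v⁆ ∈ zseries (Subgroup.closure T) n :=
      fun n u v h => by
        rw [commutatorElement_eq_one_iff_mul_comm.mpr h]
        exact one_mem _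
    have conjD : ∀ u ∈ W, ∀ v ∈ W, ∀ w ∈ W, ∀ e : G, e = w * ⁅u, v⁆ * w⁻¹ → e = ⁅u, v⁆ := by
      intro u hu v hv w hw e he
      rw [he, ← hDcomm _ (hWD (Subgroup.commutator_mem_commutator hu hv)) w hw,
        mul_inv_cancel_right]
    have h1 : ∀ p ∈ ⁅A, B⁆, ∀ q ∈ ⁅C, B⁆, ⁅p, q⁆ ∈ zseries (Subgroup.closure T) 1 := by
      intro p hp q hq
      have hd : ⁅p, q⁆ ∈ D := hWD (Subgroup.commutator_mem_commutator (hPW hp) (hQW hq))
      refine mem_zseries_succ (inR _ (Subgroup.commutator_le_self W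
        (Subgroup.commutator_mem_commutator (hPW hp) (hQW hq)))) fun t ht => triv 0 _ _ ?_
      rcases ht with (ht | ht) | ht
      · exact hDcomm _ hd t (hAW ht)
      · have e1 : Commute p t := hr1.2.1 p hp t (Subgroup.mem_sup_right ht)
        have e2 : Commute q t := hr2.2.1 q hq t (Subgroup.mem_sup_right ht)
        exact (((e1.mul_left e2).mul_left e1.inv_left).mul_left e2.inv_left).eq
      · exact hDcomm _ hd t (hCW ht)
    have h2 : ∀ X Y : Subgroup G, X ∈ S → X ≤ W → RootCommutatorCase S X B →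
        RootCommutatorCase S Y B → ⁅X, B⁆ ≤ W → ⁅Y, B⁆ ≤ W →
        (∀ p ∈ ⁅X, B⁆, ∀ q ∈ ⁅Y, B⁆, ⁅p, q⁆ ∈ zseries (Subgroup.closure T) 1) →
        ∀ a ∈ X, ∀ q ∈ ⁅Y, B⁆, ⁅a, q⁆ ∈ zseries (Subgroup.closure T) 2 := by
      intro X Y _ hXW hrX hrY hPX hQY h1' a ha q hq
      have hd : ⁅a, q⁆ ∈ D := hWD (Subgroup.commutator_mem_commutator (hXW ha) (hQY hq))
      have hin : ⁅a, q⁆ ∈ W := Subgroup.commutator_le_self W
        (Subgroup.commutator_mem_commutator (hXW ha) (hQY hq))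
      refine mem_zseries_succ (inR _ hin) fun t ht => ?_
      rcases ht with (ht | ht) | ht
      · exact triv 1 _ _ (hDcomm _ hd t (hAW ht))
      · have hp : ⁅t, a⁆ ∈ ⁅X, B⁆ := by
          rw [Subgroup.commutator_comm]; exact Subgroup.commutator_mem_commutator ht ha
        have e2 : Commute q t := hrY.2.1 q hq t (Subgroup.mem_sup_right ht)
        have hq' : t * q * t⁻¹ = q := by rw [← e2.eq, mul_inv_cancel_right]
        have e : t * ⁅a, q⁆ * t⁻¹ = ⁅⁅t, a⁆, q⁆ * ⁅a, q⁆ := by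
          calc t * ⁅a, q⁆ * t⁻¹
              = (⁅t, a⁆ * a) * (t * q * t⁻¹) * (⁅t, a⁆ * a)⁻¹ * (t * q * t⁻¹)⁻¹ := by
                simp only [commutatorElement_def]; group
            _ = (⁅t, a⁆ * a) * q * (⁅t, a⁆ * a)⁻¹ * q⁻¹ := by rw [hq']
            _ = (⁅t, a⁆ * ⁅a, q⁆ * ⁅t, a⁆⁻¹) * ⁅⁅t, a⁆, q⁆ := by
                simp only [commutatorElement_def]; group
            _ = ⁅a, q⁆ * ⁅⁅t, a⁆, q⁆ := by
                rw [conjD a (hXW ha) q (hQY hq) _ (hPX hp) _ rfl]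
            _ = ⁅⁅t, a⁆, q⁆ * ⁅a, q⁆ :=
                hDcomm _ hd _ (Subgroup.commutator_le_self W
                  (Subgroup.commutator_mem_commutator (hPX hp) (hQY hq)))
        have e' : ⁅⁅a, q⁆, t⁆ = ⁅⁅t, a⁆, q⁆⁻¹ := by
          have : ⁅⁅a, q⁆, t⁆ = ⁅a, q⁆ * (t * ⁅a, q⁆ * t⁻¹)⁻¹ := by
            simp only [commutatorElement_def]; group
          rw [this, e, mul_inv_rev, mul_inv_cancel_left]
        rw [e']
        exact inv_mem (h1' _ hp q hq)
      · exact triv 1 _ _ (hDcomm _ hd t (hCW ht))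
    have swap : ∀ (n : ℕ) (u v : G), ⁅u, v⁆ ∈ zseries (Subgroup.closure T) n →
        ⁅v, u⁆ ∈ zseries (Subgroup.closure T) n := fun n u v h => by
      rw [← commutatorElement_inv]; exact inv_mem h
    have hP3 : ∀ p ∈ ⁅A, B⁆, p ∈ zseries (Subgroup.closure T) 3 := by
      intro p hp
      refine mem_zseries_succ (inR _ (hPW hp)) fun t ht => ?_
      rcases ht with (ht | ht) | ht
      · exact triv 2 _ _ (hr1.2.1 p hp t (Subgroup.mem_sup_left ht))
      · exact triv 2 _ _ (hr1.2.1 p hp t (Subgroup.mem_sup_right ht))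
      · exact swap 2 _ _ (h2 C A hC hCW hr2 hr1 hQW hPW
          (fun q hq p' hp' => swap 1 _ _ (h1 p' hp' q hq)) t ht p hp)
    have hQ3 : ∀ q ∈ ⁅C, B⁆, q ∈ zseries (Subgroup.closure T) 3 := by
      intro q hq
      refine mem_zseries_succ (inR _ (hQW hq)) fun t ht => ?_
      rcases ht with (ht | ht) | ht
      · exact swap 2 _ _ (h2 A C hA hAW hr1 hr2 hPW hQW h1 t ht q hq)
      · exact triv 2 _ _ (hr2.2.1 q hq t (Subgroup.mem_sup_right ht))
      · exact triv 2 _ _ (hr2.2.1 q hq t (Subgroup.mem_sup_left ht))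
    rw [← hcl]
    refine isNilpotent_of_zseries (n := 4) fun t ht => ?_
    refine mem_zseries_succ (Subgroup.subset_closure ht) fun u hu => ?_
    rcases ht with (ht | ht) | ht <;> rcases hu with (hu | hu) | hu
    · exact triv 3 _ _ (Root.comm_self hS hA ht hu)
    · exact hP3 _ (Subgroup.commutator_mem_commutator ht hu)
    · exact triv 3 _ _ (comm_of_commutator_eq_bot hAC' ht hu)
    · exact swap 3 _ _ (hP3 _ (Subgroup.commutator_mem_commutator hu ht))
    · exact triv 3 _ _ (Root.comm_self hS hB ht hu)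
    · exact swap 3 _ _ (hQ3 _ (Subgroup.commutator_mem_commutator hu ht))
    · exact triv 3 _ _ (comm_of_commutator_eq_bot hCA ht hu)
    · exact hQ3 _ (Subgroup.commutator_mem_commutator ht hu)
    · exact triv 3 _ _ (Root.comm_self hS hC ht hu)
  refine ⟨?_, hMN, hnorm, hWB, hnil⟩
  rcases caseL with hL | hL
  · exact Or.inl ⟨halfL.1 hL, halfR.1 (one_way A C hr1 hAC' hL)⟩
  · rcases caseR with h | h
    · exact absurd (commutator_comm_eq_bot.mp (one_way C A hr2 hCA (commutator_comm_eq_bot.mp h)))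
        (hS.ne_bot _ hL.1)
    · exact Or.inr ⟨(halfL.2 hL).2, (halfR.2 h).2⟩

end Cfsg.Agent.S5030
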