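import Cfsg.Statements.S5032
import Cfsg.Agent.Lib.RootSubgroups.Components

open Cfsg.Agent.Lib.RootSubgroups

set_option autoImplicit false
open Cfsg

namespace Cfsg.Agent.S5032

/-- Let S be a set of abstract root subgroups of G with more than one member. Then the graph of rank one pairs on S is connected if and only if S is a single conjugacy class of G and some member of S has a rank one partner in S. -/
theorem result {G : Type*} [Group G] {S : Set (Subgroup G)} (hS : Cfsg.IsRootSubgroupSet S) (h2 : ∃ A ∈ S, ∃ B ∈ S, A ≠ B) :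
    Cfsg.IsConnectedFamily (Cfsg.FAdj S) S ↔
      (Cfsg.IsConjClassOfSubgroups S ∧ ∃ A ∈ S, ¬ Cfsg.IsIsolatedIn (Cfsg.FAdj S) S A) := by
  obtain ⟨A₀, hA₀, B₀, hB₀, hne₀⟩ := h2
  constructor
  · intro hc
    refine ⟨⟨⟨A₀, hA₀⟩, fun A hA B hB => ?_⟩, A₀, hA₀, (Root.hasPartner_iff hA₀).mp ?_⟩
    · induction hc A hA B hB with
      | refl => exact ⟨1, (conjBy_one A).symm⟩
      | tail _ hxy ih =>
        obtain ⟨g, hg⟩ := ih hxy.1
        obtain ⟨x, -, hx⟩ := RankOne.exists_swap_left hxy.2.2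
        exact ⟨x * g, by rw [← conjBy_conjBy, ← hg, hx]⟩
    · rcases Relation.ReflTransGen.cases_head (hc A₀ hA₀ B₀ hB₀) with e | ⟨E, he, -⟩
      · exact absurd e hne₀
      · exact ⟨E, he.2.1, he.2.2⟩
  · rintro ⟨⟨-, hcl⟩, A₁, hA₁, hiso⟩ A hA B hB
    have hp : ∀ X ∈ S, HasPartner S X := by
      intro X hX
      obtain ⟨g, rfl⟩ := hcl A₁ hA₁ X hX
      exact Root.hasPartner_conjBy hS ((Root.hasPartner_iff hA₁).mpr hiso) g
    obtain ⟨g, rfl⟩ := hcl A hA B hB
    exact Root.reach_conj hS hp g A hA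

end Cfsg.Agent.S5032
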