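import Cfsg.Statements.S5033
import Cfsg.Agent.Lib.RootSubgroups.Quasisimple
import Cfsg.Agent.Lib.RootSubgroups.Components
import Cfsg.Agent.Lib.RootSubgroups.Lines

open Cfsg.Agent.Lib.RootSubgroups
open scoped commutatorElement

set_option autoImplicit false
open Cfsg

namespace Cfsg.Agent.S5033

/-- Quasisimplicity criterion for groups generated by abstract root subgroups. Let S be a set of abstract root subgroups of G with more than one member such that: the graph of rank one pairs on S is connected; no two different members of S have the same set of commuting members of S; if S is degenerate then every member of S has more than three elements; and every rank one pair in S is special. Then for every A ∈ S one has G = G' A with A ∩ G' ≠ 1, and the commutator subgroup G' is quasisimple. Moreover G is perfect if S is non-degenerate, or if some rank one pair A, B in S generates a perfect group. -/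
theorem result {G : Type*} [Group G] {S : Set (Subgroup G)} (hS : Cfsg.IsRootSubgroupSet S) (h2 : ∃ A ∈ S, ∃ B ∈ S, A ≠ B)
    (h1 : Cfsg.IsConnectedFamily (Cfsg.FAdj S) S)
    (h2' : ∀ A ∈ S, ∀ C ∈ S, A ≠ C → Cfsg.centralizingMembers S A ≠ Cfsg.centralizingMembers S C)
    (h3 : Cfsg.IsDegenerateRootSet S → ∀ A ∈ S, 3 < ENat.card A)
    (h4 : ∀ A ∈ S, ∀ B ∈ Cfsg.rankOnePartners S A, Cfsg.IsSpecialRankOnePair A B) :
    (∀ A ∈ S, commutator G ⊔ A = ⊤ ∧ A ⊓ commutator G ≠ ⊥) ∧ Cfsg.IsQuasisimple ↥(commutator G) ∧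
    (Cfsg.IsNondegenerateRootSet S → commutator G = ⊤) ∧
    ((∃ A ∈ S, ∃ B ∈ Cfsg.rankOnePartners S A, Group.IsPerfect ↥(A ⊔ B)) → commutator G = ⊤) := by
  obtain ⟨A₀, hA₀, B₀, hB₀, hne₀⟩ := h2
  have hp : ∀ X ∈ S, HasPartner S X := by
    intro X hX
    obtain ⟨Y, hY, hne⟩ : ∃ Y ∈ S, X ≠ Y := by
      by_cases e : X = A₀
      · exact ⟨B₀, hB₀, e ▸ hne₀⟩
      · exact ⟨A₀, hA₀, e⟩
    rcases Relation.ReflTransGen.cases_head (h1 X hX Y hY) with e | ⟨E, he, -⟩
    · exact absurd e hne
    · exact ⟨E, he.2.1, he.2.2⟩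
  have hconj : ∀ X ∈ S, ∀ Y ∈ S, ∃ g : G, Y = conjBy X g := by
    intro X hX Y hY
    induction h1 X hX Y hY with
    | refl => exact ⟨1, (conjBy_one X).symm⟩
    | tail _ hxy ih =>
      obtain ⟨g, hg⟩ := ih hxy.1
      obtain ⟨x, -, hx⟩ := RankOne.exists_swap_left hxy.2.2
      exact ⟨x * g, by rw [← conjBy_conjBy, ← hg, hx]⟩
  have hab : ∀ X ∈ S, ∀ a ∈ X, ∀ a' ∈ X, a * a' = a' * a :=
    fun X hX a ha a' ha' => Root.comm_self hS hX ha ha'
  -- central elements
  have central_of_fix : ∀ n : G, (∀ X ∈ S, conjBy X n = X) → n ∈ Subgroup.center G := by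
    intro n hn
    have hle : ∀ X ∈ S, X ≤ Subgroup.centralizer ({n} : Set G) := by
      intro X hX x hx
      refine Subgroup.mem_centralizer_iff.mpr fun w hw => ?_
      rw [Set.mem_singleton_iff.mp hw]
      obtain ⟨E, hE, hXE⟩ := hp X hX
      refine RankOne.comm_of_fixes hXE (fun C hC => hn C ?_) x (Subgroup.mem_sup_left hx)
      obtain ⟨y, -, rfl⟩ := hC
      exact hS.conj_mem X hX y
    refine Subgroup.mem_center_iff.mpr fun g => ?_
    have hg : g ∈ Subgroup.centralizer ({n} : Set G) := (hS.generates ▸ iSup₂_le hle) (Subgroup.mem_top g)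
    exact (Subgroup.mem_centralizer_iff.mp hg n rfl).symm
  -- either degenerate with large members or a commutator pair exists
  have nondeg : ¬ IsDegenerateRootSet S → IsNondegenerateRootSet S := by
    intro hd
    simp only [IsDegenerateRootSet, not_forall, not_not] at hd
    obtain ⟨X, hX, Y, hY, hr⟩ := hd
    obtain ⟨E, hE, hXE⟩ := hp X hX
    exact ⟨⟨X, hX, _, hr.1, (Root.commutator_ne_left hS hr).symm,
      commutator_eq_bot_of_comm (Root.comm_left_commutator hr)⟩, ⟨X, hX, E, hE, hXE⟩,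
      ⟨X, hX, Y, hY, hr⟩⟩
  have member_top : ∀ N : Subgroup G, N.Normal → ∀ X ∈ S, X ≤ N → N = ⊤ := by
    intro N hN X hX hle
    rw [eq_top_iff, ← hS.generates]
    refine iSup₂_le fun Y hY => ?_
    obtain ⟨g, rfl⟩ := hconj X hX Y hY
    rintro _ ⟨x, hx, rfl⟩
    exact hN.conj_mem x (hle hx) g
  -- a normal subgroup moving a member contains commutators of a rank one pair or is everything
  have moved : ∀ n : G, ∀ X ∈ S, conjBy X n ≠ X → ∃ (n' : G) (C : Subgroup G) (D : Subgroup G),
      (n' = n ∨ n' = n⁻¹) ∧ C ∈ S ∧ D ∈ S ∧ ⁅C, D⁆ ≠ ⊥ ∧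
      ∀ c ∈ C, ∀ d ∈ D, n'⁻¹ * c * n' * d = d * (n'⁻¹ * c * n') := by
    intro n X hX hne
    obtain ⟨D, hD⟩ : ∃ D, ¬ (D ∈ centralizingMembers S X ↔
        D ∈ centralizingMembers S (conjBy X n)) := by
      by_contra hc
      push Not at hc
      exact h2' X hX _ (hS.conj_mem X hX n) hne.symm (Set.ext hc)
    have memC : ∀ U, D ∈ centralizingMembers S U ↔ D ∈ S ∧ ⁅U, D⁆ = ⊥ := fun U => by
      simp only [centralizingMembers, Set.mem_setOf_eq]
      rw [commutator_comm_eq_bot, Subgroup.commutator_eq_bot_iff_le_centralizer]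
    rw [memC, memC] at hD
    by_cases hDS : D ∈ S
    · simp only [hDS, true_and] at hD
      by_cases hXD : ⁅X, D⁆ = ⊥
      · refine ⟨n, conjBy X n, D, Or.inl rfl, hS.conj_mem X hX n, hDS,
          fun h => hD ⟨fun _ => h, fun _ => hXD⟩, fun c hc d hd => ?_⟩
        exact comm_of_commutator_eq_bot hXD (mem_conjBy.mp hc) hd
      · refine ⟨n⁻¹, X, D, Or.inr rfl, hX, hDS, hXD, fun c hc d hd => ?_⟩
        have h : ⁅conjBy X n, D⁆ = ⊥ := by
          by_contra h
          exact hD ⟨fun h' => absurd h' hXD, fun h' => absurd h' h⟩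
        rw [inv_inv]
        exact comm_of_commutator_eq_bot h (conj_mem_conjBy hc) hd
    · exact absurd (Iff.intro (fun h => absurd h.1 hDS) (fun h => absurd h.1 hDS)) hD
  -- commutators lie in `N`
  have commN : ∀ (N : Subgroup G) (n' c d : G),
      (∀ m ∈ N, d * m * d⁻¹ ∈ N) → (∀ m ∈ N, (n'⁻¹ * c * n') * m * (n'⁻¹ * c * n')⁻¹ ∈ N) →
      n' ∈ N → n'⁻¹ * c * n' * d = d * (n'⁻¹ * c * n') → ⁅c, d⁆ ∈ N := by
    intro N n' c d hd ha hn' he
    set a := n'⁻¹ * c * n' with hadef
    have hw : c * a⁻¹ ∈ N := by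
      rw [show c * a⁻¹ = n' * (a * n'⁻¹ * a⁻¹) by rw [hadef]; group]
      exact mul_mem hn' (ha _ (inv_mem hn'))
    rw [show ⁅c, d⁆ = c * a⁻¹ * ((d * (c * a⁻¹)⁻¹ * d⁻¹)) by
      calc ⁅c, d⁆ = c * a⁻¹ * (a * d) * c⁻¹ * d⁻¹ := by simp [commutatorElement_def, mul_assoc]
        _ = c * a⁻¹ * (d * a) * c⁻¹ * d⁻¹ := by rw [he]
        _ = _ := by group]
    exact mul_mem hw (hd _ (inv_mem hw))
  have normal_supp : ∀ N : Subgroup G, N.Normal → ¬ N ≤ Subgroup.center G →
      (∀ X ∈ S, N ⊔ X = ⊤) ∧ (¬ IsDegenerateRootSet S → N = ⊤) ∧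
      (IsDegenerateRootSet S → ∀ X ∈ S, N ⊓ X ≠ ⊥) := by
    intro N hN hNc
    obtain ⟨n, hn, hnc⟩ := SetLike.not_le_iff_exists.mp hNc
    obtain ⟨X, hX, hne⟩ : ∃ X ∈ S, conjBy X n ≠ X := by
      by_contra hc; push Not at hc; exact hnc (central_of_fix n hc)
    obtain ⟨n', C, D, hn', hC, hD, hCD, hcomm⟩ := moved n X hX hne
    have hn'N : n' ∈ N := by rcases hn' with rfl | rfl; exacts [hn, inv_mem hn]
    have hM : ∀ c ∈ C, ∀ d ∈ D, ⁅c, d⁆ ∈ N := fun c hc d hd =>
      commN N n' c d (fun m hm => hN.conj_mem m hm d) (fun m hm => hN.conj_mem m hm _) hn'N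
        (hcomm c hc d hd)
    have hle : ⁅C, D⁆ ≤ N := Subgroup.commutator_le.mpr hM
    by_cases hdeg : IsDegenerateRootSet S
    · have hCD' : IsRankOnePair C D :=
        ((hS.pair C hC D hD).resolve_left hCD).resolve_right (hdeg C hC D hD)
      obtain ⟨x, hxC, hxN, hx1⟩ := RankOne.exists_inf_ne_one (h4 C hC D ⟨hD, hCD'⟩)
        (hab C hC) (hab D hD) (h3 hdeg C hC) N
        (fun c hc d hd => hM c (RankOne.core1_le hc) d (RankOne.core1_le hd))
        (fun y _ m hm => hN.conj_mem m hm y)
      have hmeet : ∀ Y ∈ S, N ⊓ Y ≠ ⊥ := by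
        intro Y hY e
        obtain ⟨g, rfl⟩ := hconj C hC Y hY
        have hm : g * x * g⁻¹ ∈ (⊥ : Subgroup G) := by
          rw [← e]; exact ⟨hN.conj_mem x hxN g, conj_mem_conjBy hxC⟩
        exact hx1 (by simpa using hm)
      refine ⟨fun Y hY => ?_, fun h => absurd hdeg h, fun _ => hmeet⟩
      rw [eq_top_iff, ← hS.generates]
      refine iSup₂_le fun Z hZ => ?_
      induction h1 Y hY Z hZ with
      | refl => exact le_sup_right
      | @tail Z Z' _ hzz ih =>
        have hsupp : (N ⊓ (Z ⊔ Z')) ⊔ Z = Z ⊔ Z' := by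
          refine (RankOne.central_or_supplement (N := N ⊓ (Z ⊔ Z')) hzz.2.2 inf_le_right
            (fun y hy m hm => Subgroup.mem_inf.mpr
            ⟨hN.conj_mem m (Subgroup.mem_inf.mp hm).1 y,
              mul_mem (mul_mem hy (Subgroup.mem_inf.mp hm).2) (inv_mem hy)⟩)).resolve_left ?_
          intro hc
          obtain ⟨z, hz, hz1⟩ := exists_ne_one (hmeet Z hzz.1)
          exact hz1 (RankOne.eq_one_of_centralizes hzz.2.2 (Subgroup.mem_inf.mp hz).2 fun b hb =>
            hc z (Subgroup.mem_inf.mpr ⟨(Subgroup.mem_inf.mp hz).1,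
              Subgroup.mem_sup_left (Subgroup.mem_inf.mp hz).2⟩) b (Subgroup.mem_sup_right hb))
        have h1' : Z' ≤ (N ⊓ (Z ⊔ Z')) ⊔ Z := by rw [hsupp]; exact le_sup_right
        exact h1'.trans (sup_le (inf_le_left.trans le_sup_left) (ih hzz.1))
    · have htop : N = ⊤ := by
        rcases hS.pair C hC D hD with h | h | h
        · exact absurd h hCD
        · obtain ⟨-, -, X₀, hX₀, Y₀, hY₀, hr₀⟩ := nondeg hdeg
          obtain ⟨g, rfl⟩ := hconj X₀ hX₀ C hC
          have hl : ⁅conjBy X₀ g, conjBy Y₀ g⁆ ∈ S := by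
            rw [← conjBy_commutator]; exact hS.conj_mem _ hr₀.1 g
          have hr := Root.rcc_of_commutator_mem hS hC (hS.conj_mem Y₀ hY₀ g) hl
          obtain ⟨F, hF, hq, -, -, hline, -⟩ := Root.line_structure hS hC hD h
            (Root.mem_linePartners' hS hC (hp _ hC) hr)
          -- commutators of `F` with `D ≤ N ⊔ C` lie in `N`
          refine member_top N hN _ hq.1 (Subgroup.commutator_le.mpr fun f hf d hd => ?_)
          have hfC : ∀ c ∈ conjBy X₀ g, f * c = c * f := fun c hc => (comm_sup (z := c)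
            (fun c' hc' => hab _ hC c hc c' hc')
            (fun l hl' => Root.comm_left_commutator hr c hc l hl') f
            (show f ∈ conjBy X₀ g ⊔ ⁅conjBy X₀ g, conjBy Y₀ g⁆ by
              rw [hline]; exact Subgroup.mem_sup_right hf)).symm
          have hs : (N ⊓ (conjBy X₀ g ⊔ D)) ⊔ conjBy X₀ g = conjBy X₀ g ⊔ D := by
            refine (RankOne.central_or_supplement (N := N ⊓ (conjBy X₀ g ⊔ D)) h inf_le_right
              (fun y hy m hm => Subgroup.mem_inf.mpr
              ⟨hN.conj_mem m (Subgroup.mem_inf.mp hm).1 y,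
                mul_mem (mul_mem hy (Subgroup.mem_inf.mp hm).2) (inv_mem hy)⟩)).resolve_left ?_
            intro hc'
            obtain ⟨c, hc, hc1⟩ := exists_ne_one (RankOne.left_ne_bot h)
            refine Root.translate_not_commute h hc hc1
              (commutator_eq_bot_of_comm fun b hb y hy => ?_)
            obtain ⟨b', hb', rfl⟩ := hy
            have hk := hc' ⁅c, b'⁆ (Subgroup.mem_inf.mpr ⟨hM c hc b' hb', Subgroup.commutator_le_sup _ _
              (Subgroup.commutator_mem_commutator hc hb')⟩) b (Subgroup.mem_sup_right hb)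
            show b * (c * b' * c⁻¹) = c * b' * c⁻¹ * b
            rw [show c * b' * c⁻¹ = ⁅c, b'⁆ * b' by simp [commutatorElement_def]]
            exact (Commute.mul_right (show Commute b ⁅c, b'⁆ from hk.symm)
              (hab D hD b hb b' hb')).eq
          have hd' : d ∈ N ⊔ conjBy X₀ g :=
            sup_le_sup_right inf_le_left (conjBy X₀ g) (by rw [hs]; exact Subgroup.mem_sup_right hd)
          rw [← SetLike.mem_coe, Subgroup.normal_mul] at hd'
          obtain ⟨k, hk, c, hc, rfl⟩ := hd'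
          have hfk : ⁅f, k * c⁆ = f * k * f⁻¹ * k⁻¹ := by
            calc ⁅f, k * c⁆ = f * k * c * f⁻¹ * c⁻¹ * k⁻¹ := by
                  simp [commutatorElement_def, mul_assoc]
              _ = f * k * (c * f⁻¹) * c⁻¹ * k⁻¹ := by group
              _ = f * k * (f⁻¹ * c) * c⁻¹ * k⁻¹ := by
                rw [(Commute.inv_right (hfC c hc).symm).eq]
              _ = f * k * f⁻¹ * k⁻¹ := by group
          rw [hfk]
          exact mul_mem (hN.conj_mem k hk f) (inv_mem hk)
        · exact member_top N hN _ h.1 hle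
      exact ⟨fun Y hY => by rw [htop, top_sup_eq], fun _ => htop, fun h => absurd h hdeg⟩
  -- the derived group
  have hPc : ¬ commutator G ≤ Subgroup.center G := by
    intro hle
    obtain ⟨E, hE, h⟩ := hp A₀ hA₀
    obtain ⟨a, ha, ha1⟩ := exists_ne_one (RankOne.left_ne_bot h)
    refine Root.translate_not_commute h ha ha1 (commutator_eq_bot_of_comm fun b hb y hy => ?_)
    obtain ⟨b', hb', rfl⟩ := hy
    have hk : ⁅a, b'⁆ ∈ Subgroup.center G := hle (by
      rw [commutator_def]; exact Subgroup.commutator_mem_commutator trivial trivial)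
    show b * (a * b' * a⁻¹) = a * b' * a⁻¹ * b
    rw [show a * b' * a⁻¹ = ⁅a, b'⁆ * b' by simp [commutatorElement_def]]
    exact (Commute.mul_right (show Commute b ⁅a, b'⁆ from Subgroup.mem_center_iff.mp hk b)
      (hab E hE b hb b' hb')).eq
  obtain ⟨hPsupp, hPtop, hPmeet⟩ := normal_supp (commutator G) inferInstance hPc
  have supp_le : ∀ N : Subgroup G, N.Normal → ∀ X ∈ S, N ⊔ X = ⊤ → commutator G ≤ N := by
    intro N hN X hX h
    have := commutator_le_of_supplement (N := N) (A := X) (fun y _ m hm => hN.conj_mem m hm y)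
      (hab X hX)
    rwa [h, ← commutator_def] at this
  have hperf : ⁅commutator G, commutator G⁆ = commutator G := by
    refine le_antisymm ((Subgroup.commutator_mono le_top le_top).trans (le_of_eq (commutator_def G).symm)) ?_
    by_cases hdeg : IsDegenerateRootSet S
    · obtain ⟨E, hE, h⟩ := hp A₀ hA₀
      have hsp := h4 A₀ hA₀ E ⟨hE, h⟩
      have hY : ⁅A₀ ⊔ E, A₀ ⊔ E⁆ ≤ ⁅commutator G, commutator G⁆ := by
        rw [RankOne.derived_perfect hsp (hab A₀ hA₀) (hab E hE) (h3 hdeg A₀ hA₀)]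
        exact Subgroup.commutator_mono
          ((Subgroup.commutator_mono le_top le_top).trans (le_of_eq (commutator_def G).symm))
          ((Subgroup.commutator_mono le_top le_top).trans (le_of_eq (commutator_def G).symm))
      have hnc : ¬ ⁅commutator G, commutator G⁆ ≤ Subgroup.center G := by
        intro hle
        obtain ⟨e, he, he1⟩ :=
          exists_ne_one (RankOne.core1_ne_bot hsp (hab A₀ hA₀) (h3 hdeg A₀ hA₀))
        exact he1 (RankOne.eq_one_of_centralizes h (RankOne.core1_le he) fun b _ =>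
          (Subgroup.mem_center_iff.mp (hle (hY (RankOne.core1_le_commutator he))) b).symm)
      exact supp_le _ inferInstance A₀ hA₀ ((normal_supp _ inferInstance hnc).1 A₀ hA₀)
    · rw [hPtop hdeg, ← commutator_def, hPtop hdeg]
  refine ⟨fun A hA => ⟨hPsupp A hA, ?_⟩, ?_, fun hnd => hPtop ?_, ?_⟩
  · by_cases hdeg : IsDegenerateRootSet S
    · rw [inf_comm]; exact hPmeet hdeg A hA
    · rw [hPtop hdeg, inf_top_eq]; exact hS.ne_bot A hA
  · refine isQuasisimple_of_dichotomy hperf (fun e => hPc (by rw [e]; exact bot_le)) ?_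
    intro M hMP hMn
    by_cases hfix : ∀ m ∈ M, ∀ X ∈ S, conjBy X m = X
    · exact Or.inl fun m hm y _ =>
        (Subgroup.mem_center_iff.mp (central_of_fix m (hfix m hm)) y).symm
    right
    push Not at hfix
    obtain ⟨m, hm, X, hX, hne⟩ := hfix
    refine le_antisymm hMP ?_
    by_cases hdeg : IsDegenerateRootSet S
    · obtain ⟨n', C, D, hn', hC, hD, hCD, hcomm⟩ := moved m X hX hne
      have hn'M : n' ∈ M := by rcases hn' with rfl | rfl; exacts [hm, inv_mem hm]
      have hCD' : IsRankOnePair C D :=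
        ((hS.pair C hC D hD).resolve_left hCD).resolve_right (hdeg C hC D hD)
      have hY : ⁅C ⊔ D, C ⊔ D⁆ ≤ commutator G :=
        (Subgroup.commutator_mono le_top le_top).trans (le_of_eq (commutator_def G).symm)
      have hY' : ⁅D ⊔ C, D ⊔ C⁆ ≤ commutator G :=
        (Subgroup.commutator_mono le_top le_top).trans (le_of_eq (commutator_def G).symm)
      obtain ⟨x, hxC, hxM, hx1⟩ := RankOne.exists_inf_ne_one (h4 C hC D ⟨hD, hCD'⟩)
        (hab C hC) (hab D hD) (h3 hdeg C hC) M
        (fun c hc d hd => commN M n' c d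
          (fun k hk => hMn d (hY' (RankOne.core1_le_commutator hd)) k hk)
          (fun k hk => hMn _ (by
            have := (inferInstance : (commutator G).Normal).conj_mem c
              (hY (RankOne.core1_le_commutator hc)) n'⁻¹
            rwa [inv_inv] at this) k hk) hn'M
          (hcomm c (RankOne.core1_le hc) d (RankOne.core1_le hd)))
        (fun y hy k hk => hMn y (hY hy) k hk)
      have hcore : x ∈ M.normalCore := by
        intro g
        have hg : g ∈ commutator G ⊔ C := by rw [hPsupp C hC]; trivial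
        rw [← SetLike.mem_coe, Subgroup.normal_mul] at hg
        obtain ⟨p, hp', c, hc, rfl⟩ := hg
        show p * c * x * (p * c)⁻¹ ∈ M
        rw [show p * c * x * (p * c)⁻¹ = p * (c * x * c⁻¹) * p⁻¹ by group,
          hab C hC c hc x hxC, mul_inv_cancel_right]
        exact hMn p hp' x hxM
      have hnc : ¬ M.normalCore ≤ Subgroup.center G := fun hle =>
        hx1 (RankOne.eq_one_of_centralizes hCD' hxC fun b _ =>
          (Subgroup.mem_center_iff.mp (hle hcore) b).symm)
      exact (supp_le _ inferInstance C hC ((normal_supp _ inferInstance hnc).1 C hC)).trans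
        (Subgroup.normalCore_le M)
    · have hN : M.Normal := ⟨fun k hk y => hMn y (by rw [hPtop hdeg]; trivial) k hk⟩
      have hnc : ¬ M ≤ Subgroup.center G := fun hle => hne (conjBy_of_comm fun a _ =>
        (Subgroup.mem_center_iff.mp (hle hm) a).symm)
      rw [(normal_supp M hN hnc).2.1 hdeg]
      exact le_top
  · intro hdeg
    obtain ⟨X, hX, Y, hY, hr⟩ := hnd.2.2
    exact hdeg X hX Y hY hr
  · rintro ⟨A, hA, B, ⟨hB, hAB⟩, hperfY⟩
    have hYle : A ⊔ B ≤ commutator G := by
      rw [← Subgroup.isPerfect_iff.mp hperfY]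
      exact (Subgroup.commutator_mono le_top le_top).trans (le_of_eq (commutator_def G).symm)
    rw [← hPsupp A hA]
    exact (sup_eq_left.mpr (le_sup_left.trans hYle)).symm

end Cfsg.Agent.S5033
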