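import Cfsg.Statements.S5035
import Cfsg.Agent.Lib.RootSubgroups.Basic

open Cfsg.Agent.Lib.RootSubgroups
open scoped commutatorElement

set_option autoImplicit false
open Cfsg

namespace Cfsg.Agent.S5035

/-- Let S be a set of abstract root subgroups of G whose graph of rank one pairs is connected, and f a homomorphism from G onto a group H. Then either the images of the members of S form a set of abstract root subgroups of H whose graph of rank one pairs is again connected, or H equals the image of a member of S. -/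
theorem result {G H : Type*} [Group G] [Group H] {S : Set (Subgroup G)} (hS : Cfsg.IsRootSubgroupSet S)
    (hc : Cfsg.IsConnectedFamily (Cfsg.FAdj S) S) (f : G →* H) (hf : Function.Surjective f) :
    (Cfsg.IsRootSubgroupSet ((fun A : Subgroup G => A.map f) '' S) ∧
      Cfsg.IsConnectedFamily (Cfsg.FAdj ((fun A : Subgroup G => A.map f) '' S)) ((fun A : Subgroup G => A.map f) '' S)) ∨
    ∃ A ∈ S, A.map f = ⊤ := by
  have dich : ∀ A ∈ S, ∀ B ∈ S, IsRankOnePair A B →
      IsRankOnePair (A.map f) (B.map f) ∨ A.map f = B.map f := by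
    intro A hA B hB h
    have hn : ∀ y ∈ A ⊔ B, ∀ n ∈ f.ker ⊓ (A ⊔ B), y * n * y⁻¹ ∈ f.ker ⊓ (A ⊔ B) :=
      fun y hy n hn => Subgroup.mem_inf.mpr
        ⟨(inferInstance : f.ker.Normal).conj_mem n (Subgroup.mem_inf.mp hn).1 y,
          mul_mem (mul_mem hy (Subgroup.mem_inf.mp hn).2) (inv_mem hy)⟩
    have himg : ∀ C : Subgroup G, f.ker ⊓ (A ⊔ B) ⊔ C = A ⊔ B → (A ⊔ B).map f = C.map f := by
      intro C e
      rw [← e, Subgroup.map_sup, sup_eq_right, Subgroup.map_le_iff_le_comap]
      intro x hx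
      rw [Subgroup.mem_comap, (MonoidHom.mem_ker).mp (Subgroup.mem_inf.mp hx).1]
      exact one_mem _
    rcases RankOne.central_or_supplement (N := f.ker ⊓ (A ⊔ B)) h inf_le_right hn with hc | hs
    · by_cases e : A.map f = B.map f
      · exact Or.inr e
      refine Or.inl (RankOne.map f h (fun a ha h1 => ?_) (fun b hb h1 => ?_) e)
      · exact RankOne.eq_one_of_centralizes h ha fun b hb =>
          hc a (Subgroup.mem_inf.mpr ⟨h1, Subgroup.mem_sup_left ha⟩) b (Subgroup.mem_sup_right hb)
      · exact RankOne.eq_one_of_centralizes (RankOnePair_symm h) hb fun a ha =>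
          hc b (Subgroup.mem_inf.mpr ⟨h1, Subgroup.mem_sup_right hb⟩) a (Subgroup.mem_sup_left ha)
    · right
      rcases RankOne.central_or_supplement (A := B) (B := A) (N := f.ker ⊓ (A ⊔ B))
        (RankOnePair_symm h) (sup_comm A B ▸ inf_le_right) (sup_comm A B ▸ hn) with hc | hs'
      · exfalso
        obtain ⟨a, ha, ha1⟩ := exists_ne_one (hS.ne_bot A hA)
        refine ha1 (RankOne.eq_one_of_centralizes h ha fun b hb => ?_)
        have hle : A ⊔ B ≤ Subgroup.centralizer (A : Set G) := by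
          rw [← hs]
          refine sup_le (fun n hn' => Subgroup.mem_centralizer_iff.mpr fun a' ha' =>
            (hc n hn' a' (Subgroup.mem_sup_right ha')).symm) fun a' ha' =>
              Subgroup.mem_centralizer_iff.mpr fun a'' ha'' => Root.comm_self hS hA ha'' ha'
        exact Subgroup.mem_centralizer_iff.mp (hle (Subgroup.mem_sup_right hb)) a ha
      · exact (himg A hs).symm.trans (himg B (by rw [hs', sup_comm]))
  by_cases hker : ∃ A ∈ S, A ≤ f.ker
  · right
    obtain ⟨A, hA, hle⟩ := hker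
    have hall : ∀ B ∈ S, B ≤ f.ker := by
      intro B hB
      induction hc A hA B hB with
      | refl => exact hle
      | @tail Z Z' _ hzz ih =>
        rcases dich Z hzz.1 Z' hzz.2.1 hzz.2.2 with h | h
        · exact absurd ((Subgroup.map_eq_bot_iff Z).mpr (ih hzz.1)) (RankOne.left_ne_bot h)
        · exact (Subgroup.map_eq_bot_iff Z').mp (h ▸ (Subgroup.map_eq_bot_iff Z).mpr (ih hzz.1))
    refine ⟨A, hA, eq_top_iff.mpr fun y _ => ?_⟩
    obtain ⟨x, rfl⟩ := hf y
    have hx : x ∈ f.ker := (hS.generates ▸ iSup₂_le hall) (Subgroup.mem_top x)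
    rw [MonoidHom.mem_ker.mp hx]
    exact one_mem _
  left
  refine ⟨⟨?_, ?_, ?_, ?_, ?_⟩, ?_⟩
  · rintro _ ⟨A, hA, rfl⟩
    refine ⟨⟨?_⟩⟩
    rintro ⟨_, a, ha, rfl⟩ ⟨_, a', ha', rfl⟩
    exact Subtype.ext (show f a * f a' = f a' * f a by
      rw [← map_mul, ← map_mul, Root.comm_self hS hA ha ha'])
  · rintro _ ⟨A, hA, rfl⟩ e
    exact hker ⟨A, hA, (Subgroup.map_eq_bot_iff A).mp e⟩
  · refine eq_top_iff.mpr ?_
    rw [← Subgroup.map_top_of_surjective f hf, ← hS.generates, Subgroup.map_iSup]
    refine iSup_le fun A => ?_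
    rw [Subgroup.map_iSup]
    exact iSup_le fun hA => le_iSup₂ (f := fun B (_ : B ∈ (fun A : Subgroup G => A.map f) '' S) => B)
      (A.map f) ⟨A, hA, rfl⟩
  · rintro _ ⟨A, hA, rfl⟩ y
    obtain ⟨x, rfl⟩ := hf y
    exact ⟨conjBy A x, hS.conj_mem A hA x, map_conjBy f A x⟩
  · rintro _ ⟨A, hA, rfl⟩ _ ⟨B, hB, rfl⟩
    rcases hS.pair A hA B hB with h | h | ⟨h1, h2, h3, h4⟩
    · left; rw [← Subgroup.map_commutator, h, Subgroup.map_bot]
    · rcases dich A hA B hB h with h' | h'
      · exact Or.inr (Or.inl h')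
      · left
        refine commutator_eq_bot_of_comm fun a ha b hb => ?_
        dsimp only at ha hb
        rw [← h'] at hb
        obtain ⟨a, ha, rfl⟩ := ha
        obtain ⟨b, hb, rfl⟩ := hb
        rw [← map_mul, ← map_mul, Root.comm_self hS hA ha hb]
    · right; right
      refine ⟨⟨⁅A, B⁆, h1, Subgroup.map_commutator A B f⟩, ?_, ?_, ?_⟩
      · rw [← Subgroup.map_commutator, ← Subgroup.map_sup]
        rintro _ ⟨c, hc', rfl⟩ _ ⟨x, hx, rfl⟩
        rw [← map_mul, ← map_mul, h2 c hc' x hx]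
      · rintro _ ⟨a, ha, rfl⟩ ha1
        rw [← Subgroup.map_commutator, ← h3 a ha (fun e => ha1 (by rw [e, map_one])),
          MonoidHom.map_closure, Subgroup.coe_map, Set.image_image, Set.image_image]
        simp only [map_mul, map_inv]
      · rintro _ ⟨b, hb, rfl⟩ hb1
        rw [← Subgroup.map_commutator, ← h4 b hb (fun e => hb1 (by rw [e, map_one])),
          MonoidHom.map_closure, Subgroup.coe_map, Set.image_image, Set.image_image]
        simp only [map_mul, map_inv]
  · rintro _ ⟨A, hA, rfl⟩ _ ⟨B, hB, rfl⟩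
    induction hc A hA B hB with
    | refl => exact Relation.ReflTransGen.refl
    | @tail Z Z' _ hzz ih =>
      rcases dich Z hzz.1 Z' hzz.2.1 hzz.2.2 with h | h
      · exact (ih hzz.1).tail ⟨⟨Z, hzz.1, rfl⟩, ⟨Z', hzz.2.1, rfl⟩, h⟩
      · have h1 := ih hzz.1
        dsimp only at h1 ⊢
        rwa [← h]

end Cfsg.Agent.S5035
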