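import Cfsg.Statements.S5036
import Cfsg.Agent.Lib.RootSubgroups.LineGroup

open Cfsg.Agent.Lib.RootSubgroups

set_option autoImplicit false
open Cfsg

namespace Cfsg.Agent.S5036

/-- Let S be a set of abstract root subgroups of G, A, B ∈ S with C = ⁅A, B⁆ ∈ S, and D ∈ S with ⁅D, C⁆ = A. Put X = ⟨B, D⟩ and N = AC. Then B, D form a rank one pair; the conjugates of A under X are the conjugates of C under X, namely the conjugates of A by elements of B together with C, equally the conjugates of C by elements of D together with A, and they partition N; and the centralizer of N in X is central in X. -/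
theorem result {G : Type*} [Group G] {S : Set (Subgroup G)} (hS : Cfsg.IsRootSubgroupSet S)
    {A B D : Subgroup G} (hA : A ∈ S) (hB : B ∈ S) (hC : ⁅A, B⁆ ∈ S) (hD : D ∈ S) (hDC : ⁅D, ⁅A, B⁆⁆ = A) :
    Cfsg.IsRankOnePair B D ∧
    {E | ∃ x ∈ B ⊔ D, E = Cfsg.conjBy A x} = {E | ∃ x ∈ B ⊔ D, E = Cfsg.conjBy ⁅A, B⁆ x} ∧
    {E | ∃ x ∈ B ⊔ D, E = Cfsg.conjBy A x} = (fun b : G => Cfsg.conjBy A b) '' (B : Set G) ∪ {⁅A, B⁆} ∧
    {E | ∃ x ∈ B ⊔ D, E = Cfsg.conjBy A x} = (fun d : G => Cfsg.conjBy ⁅A, B⁆ d) '' (D : Set G) ∪ {A} ∧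
    Cfsg.IsSubgroupPartition (A ⊔ ⁅A, B⁆) {E | ∃ x ∈ B ⊔ D, E = Cfsg.conjBy A x} ∧
    ∀ x ∈ (B ⊔ D) ⊓ Subgroup.centralizer ((A ⊔ ⁅A, B⁆ : Subgroup G) : Set G), ∀ y ∈ B ⊔ D, x * y = y * x := by
  have hBD := Root.movers_rankOne hS hA hB hC hD hDC
  have hr := Root.rcc_of_commutator_mem hS hA hB hC
  have hq := Root.rcc_of_commutator_mem hS hD hC (by rw [hDC]; exact hA)
  have hfixA : ∀ d ∈ D, conjBy A d = A := fun d hd => conjBy_of_comm fun a ha =>
    (hq.2.1 a (by rw [hDC]; exact ha) d (Subgroup.mem_sup_left hd)).symm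
  have hfixC : ∀ b ∈ B, conjBy ⁅A, B⁆ b = ⁅A, B⁆ := fun b hb => conjBy_of_comm fun c hc =>
    (hr.2.1 c hc b (Subgroup.mem_sup_right hb)).symm
  have orb : ∀ d ∈ D, d ≠ 1 → ∃ b ∈ B, b ≠ 1 ∧ conjBy ⁅A, B⁆ d = conjBy A b := by
    intro d hd hd1
    obtain ⟨b, hb, hb1, e⟩ := hBD.cond_right d⁻¹ (inv_mem hd) (by simpa using hd1)
    refine ⟨b⁻¹, inv_mem hb, by simpa using hb1,
      Root.movers_orbit hS hA hB hC hD hDC (inv_mem hb) hd (by simpa using hb1) ?_⟩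
    simpa using e.symm
  have orb' : ∀ b ∈ B, b ≠ 1 → ∃ d ∈ D, conjBy ⁅A, B⁆ d = conjBy A b := by
    intro b hb hb1
    obtain ⟨d, hd, hd1, e⟩ := hBD.cond_left b⁻¹ (inv_mem hb) (by simpa using hb1)
    refine ⟨d⁻¹, inv_mem hd, Root.movers_orbit hS hA hB hC hD hDC hb (inv_mem hd) hb1 ?_⟩
    simpa using e
  let T : Set (Subgroup G) := (fun b : G => conjBy A b) '' (B : Set G) ∪ {⁅A, B⁆}
  have hT1 : ∀ C' ∈ T, ∀ d ∈ D, conjBy C' d ∈ T := by
    intro C' hC' d hd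
    have hCd : ∀ d ∈ D, conjBy ⁅A, B⁆ d ∈ T := by
      intro d hd
      by_cases hd1 : d = 1
      · rw [hd1, conjBy_one]; exact Or.inr rfl
      · obtain ⟨b, hb, -, e⟩ := orb d hd hd1
        exact Or.inl ⟨b, hb, e.symm⟩
    rcases hC' with ⟨b, hb, rfl⟩ | rfl
    · by_cases hb1 : b = 1
      · subst hb1
        exact Or.inl ⟨1, one_mem B, by show conjBy A 1 = conjBy (conjBy A 1) d; rw [conjBy_one, hfixA d hd]⟩
      · obtain ⟨d', hd', e⟩ := orb' b hb hb1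
        show conjBy (conjBy A b) d ∈ T
        rw [← e, conjBy_conjBy]
        exact hCd _ (mul_mem hd hd')
    · exact hCd d hd
  have hT2 : ∀ C' ∈ T, ∀ b ∈ B, conjBy C' b ∈ T := by
    rintro C' (⟨b', hb', rfl⟩ | rfl) b hb
    · exact Or.inl ⟨b * b', mul_mem hb hb', (conjBy_conjBy _ _ _).symm⟩
    · rw [hfixC b hb]; exact Or.inr rfl
  have hTall : ∀ x ∈ B ⊔ D, ∀ C' ∈ T, conjBy C' x ∈ T ∧ conjBy C' x⁻¹ ∈ T := by
    intro x hx
    rw [Subgroup.sup_eq_closure] at hx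
    induction hx using Subgroup.closure_induction with
    | mem g hg =>
      intro C' hC'
      rcases hg with hg | hg
      · exact ⟨hT2 C' hC' g hg, hT2 C' hC' _ (inv_mem hg)⟩
      · exact ⟨hT1 C' hC' g hg, hT1 C' hC' _ (inv_mem hg)⟩
    | one => intro C' hC'; simp [hC']
    | mul g k _ _ ihg ihk =>
      intro C' hC'
      constructor
      · rw [← conjBy_conjBy]; exact (ihg _ (ihk C' hC').1).1
      · rw [mul_inv_rev, ← conjBy_conjBy]; exact (ihk _ (ihg C' hC').2).2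
    | inv g _ ih => intro C' hC'; rw [inv_inv]; exact ⟨(ih C' hC').2, (ih C' hC').1⟩
  obtain ⟨d₀, hd₀, hd₀1⟩ := exists_ne_one (hS.ne_bot D hD)
  obtain ⟨b₀, hb₀, -, e₀⟩ := orb d₀ hd₀ hd₀1
  have hAC : conjBy A (d₀⁻¹ * b₀) = ⁅A, B⁆ := by
    rw [← conjBy_conjBy, ← e₀, conjBy_inv_cancel]
  have hxm : d₀⁻¹ * b₀ ∈ B ⊔ D :=
    mul_mem (Subgroup.mem_sup_right (inv_mem hd₀)) (Subgroup.mem_sup_left hb₀)
  have horbit : {E | ∃ x ∈ B ⊔ D, E = conjBy A x} = T := by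
    ext E
    constructor
    · rintro ⟨x, hx, rfl⟩
      exact (hTall x hx A (Or.inl ⟨1, one_mem B, conjBy_one A⟩)).1
    · rintro (⟨b, hb, rfl⟩ | rfl)
      · exact ⟨b, Subgroup.mem_sup_left hb, rfl⟩
      · exact ⟨_, hxm, hAC.symm⟩
  have hsame : {E | ∃ x ∈ B ⊔ D, E = conjBy A x} =
      {E | ∃ x ∈ B ⊔ D, E = conjBy ⁅A, B⁆ x} := by
    ext E
    constructor
    · rintro ⟨x, hx, rfl⟩
      exact ⟨x * (d₀⁻¹ * b₀)⁻¹, mul_mem hx (inv_mem hxm), by
        rw [← conjBy_conjBy, ← hAC, conjBy_inv_cancel]⟩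
    · rintro ⟨x, hx, rfl⟩
      exact ⟨x * (d₀⁻¹ * b₀), mul_mem hx hxm, by rw [← hAC, conjBy_conjBy]⟩
  have hT' : T = (fun d : G => conjBy ⁅A, B⁆ d) '' (D : Set G) ∪ {A} := by
    ext E
    constructor
    · rintro (⟨b, hb, rfl⟩ | rfl)
      · by_cases hb1 : b = 1
        · subst hb1; exact Or.inr (conjBy_one A)
        · obtain ⟨d, hd, e⟩ := orb' b hb hb1
          exact Or.inl ⟨d, hd, e⟩
      · exact Or.inl ⟨1, one_mem D, conjBy_one _⟩
    · rintro (⟨d, hd, rfl⟩ | rfl)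
      · exact hT1 _ (Or.inr rfl) d hd
      · exact Or.inl ⟨1, one_mem B, conjBy_one _⟩
  have hinf := Root.inf_commutator_eq_bot hS hr
  refine ⟨hBD, hsame, horbit, horbit.trans hT', ?_, ?_⟩
  · rw [horbit]
    refine ⟨?_, ?_, ?_⟩
    · rintro C' (⟨b, hb, rfl⟩ | rfl)
      · exact Root.conjBy_le_line hr hb
      · exact le_sup_right
    · intro x hx hx1
      by_cases hxC : x ∈ ⁅A, B⁆
      · exact ⟨_, Or.inr rfl, hxC⟩
      · obtain ⟨b, hb, hxb⟩ := Root.line_cover hr hx hxC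
        exact ⟨_, Or.inl ⟨b, hb, rfl⟩, hxb⟩
    · have hbC : ∀ b ∈ B, conjBy A b ⊓ ⁅A, B⁆ = ⊥ := fun b hb => by
        rw [← hfixC b hb, ← conjBy_inf, hinf, conjBy_bot]
      have hbb : ∀ b ∈ B, b ≠ 1 → A ⊓ conjBy A b = ⊥ := fun b hb hb1 => by
        obtain ⟨d, hd, e⟩ := orb' b hb hb1
        rw [← e]; nth_rewrite 1 [← hfixA d hd]; rw [← conjBy_inf, hinf, conjBy_bot]
      rintro C₁ (⟨b, hb, rfl⟩ | rfl) C₂ (⟨b', hb', rfl⟩ | rfl) hne
      · have : conjBy A b' = conjBy (conjBy A (b⁻¹ * b')) b := by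
          rw [conjBy_conjBy, mul_inv_cancel_left]
        show conjBy A b ⊓ conjBy A b' = ⊥
        rw [this, ← conjBy_inf, hbb _ (mul_mem (inv_mem hb) hb') (fun e => hne (by
          show conjBy A b = conjBy A b'
          rw [inv_mul_eq_one.mp e])), conjBy_bot]
      · exact hbC b hb
      · rw [inf_comm]; exact hbC b' hb'
      · exact absurd rfl hne
  · intro x hx y hy
    have hNinv : ∀ z ∈ B ⊔ D, conjBy (A ⊔ ⁅A, B⁆) z ≤ A ⊔ ⁅A, B⁆ := by
      intro z hz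
      rw [conjBy_sup]
      have hle : ∀ C' ∈ T, C' ≤ A ⊔ ⁅A, B⁆ := by
        rintro C' (⟨b, hb, rfl⟩ | rfl)
        · exact Root.conjBy_le_line hr hb
        · exact le_sup_right
      exact sup_le (hle _ (hTall z hz A (Or.inl ⟨1, one_mem B, conjBy_one A⟩)).1)
        (hle _ (hTall z hz _ (Or.inr rfl)).1)
    rcases RankOne.central_or_supplement hBD
      (N := (B ⊔ D) ⊓ Subgroup.centralizer ((A ⊔ ⁅A, B⁆ : Subgroup G) : Set G)) inf_le_left
      (fun z hz n hn => ⟨(mul_mem (mul_mem hz hn.1) (inv_mem hz) : z * n * z⁻¹ ∈ B ⊔ D),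
        Subgroup.mem_centralizer_iff.mpr fun v hv => by
          have hm := hNinv z⁻¹ (inv_mem hz) (conj_mem_conjBy hv)
          rw [inv_inv] at hm
          have h1 := Subgroup.mem_centralizer_iff.mp hn.2 _ hm
          calc v * (z * n * z⁻¹) = z * ((z⁻¹ * v * z) * n) * z⁻¹ := by group
            _ = z * (n * (z⁻¹ * v * z)) * z⁻¹ := by rw [h1]
            _ = z * n * z⁻¹ * v := by group⟩) with hc | hs
    · exact hc x hx y hy
    · exfalso
      have hsub : B ⊔ D ≤ Subgroup.normalizer ((⁅A, B⁆ : Subgroup G) : Set G) := by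
        rw [← hs]
        refine sup_le (fun n hn => conjBy_eq_self_iff.mp (conjBy_of_comm fun c hc =>
          (Subgroup.mem_centralizer_iff.mp hn.2 c (Subgroup.mem_sup_right hc)).symm))
          fun b hb => conjBy_eq_self_iff.mp (hfixC b hb)
      apply Root.commutator_ne_left hS hr
      have h1 := conjBy_eq_self_iff.mpr (hsub (inv_mem hxm))
      rw [← hAC, conjBy_inv_cancel] at h1
      rw [← hAC]; exact h1.symm

end Cfsg.Agent.S5036
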