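import Cfsg.Statements.S5037
import Cfsg.Agent.Lib.RootSubgroups.Centralizing

open Cfsg.Agent.Lib.RootSubgroups Cfsg.Agent.Lib.RootSubgroups.Root

set_option autoImplicit false
open Cfsg

namespace Cfsg.Agent.S5037

/-- Let S be a class of abstract root subgroups of G that is either degenerate or non-degenerate (so either the commutator case never occurs, or all three cases occur), and A ≠ C members of S. If every member of S commuting with A commutes with C, then A and C have the same commuting members of S; and if every rank one partner of A is a rank one partner of C, then A and C commute and have the same rank one partners. -/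
theorem result {G : Type*} [Group G] {S : Set (Subgroup G)} (hS : Cfsg.IsRootSubgroupClass S)
    (hdn : Cfsg.IsDegenerateRootSet S ∨ Cfsg.IsNondegenerateRootSet S)
    {A C : Subgroup G} (hA : A ∈ S) (hC : C ∈ S) (hAC : A ≠ C) :
    (Cfsg.centralizingMembers S A ⊆ Cfsg.centralizingMembers S C →
      Cfsg.centralizingMembers S A = Cfsg.centralizingMembers S C) ∧
    (Cfsg.rankOnePartners S A ⊆ Cfsg.rankOnePartners S C →
      ⁅A, C⁆ = ⊥ ∧ Cfsg.rankOnePartners S A = Cfsg.rankOnePartners S C) := by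
  have memC : ∀ X U, X ∈ centralizingMembers S U ↔ X ∈ S ∧ ⁅U, X⁆ = ⊥ := fun X U => by
    simp only [centralizingMembers, Set.mem_setOf_eq, le_centralizer_iff_comm]
  have self : ∀ X ∈ S, ⁅X, X⁆ = ⊥ := fun X hX =>
    commutator_eq_bot_of_comm fun a ha b hb => comm_self hS.1 hX ha hb
  rcases hdn with hdeg | hnd
  · have cases : ∀ X ∈ S, ∀ Y ∈ S, ⁅X, Y⁆ ≠ ⊥ → IsRankOnePair X Y := fun X hX Y hY h =>
      ((hS.1.pair X hX Y hY).resolve_left h).resolve_right (hdeg X hX Y hY)
    have main : ∀ A ∈ S, ∀ C ∈ S, A ≠ C → (∀ X ∈ S, ⁅A, X⁆ = ⊥ → ⁅C, X⁆ = ⊥) →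
        ∀ X ∈ S, ⁅C, X⁆ = ⊥ → ⁅A, X⁆ = ⊥ := by
      intro A hA C hC hne hsub X hX h
      have hAC : ⁅A, C⁆ = ⊥ := commutator_comm_eq_bot.mp (hsub A hA (self A hA))
      by_cases hpC : HasPartner S C
      · exact degenerate_centralizing hS.1 hdeg hA hC hpC hAC hsub X hX h
      · by_contra hne'
        refine hpC ?_
        obtain ⟨g, rfl⟩ := hS.2.2 A hA C hC
        exact hasPartner_conjBy hS.1 ⟨X, hX, cases A hA X hX hne'⟩ g
    constructor
    · intro h
      refine Set.Subset.antisymm h fun X hX => ?_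
      rw [memC] at hX ⊢
      exact ⟨hX.1, main A hA C hC hAC (fun Y hY hAY =>
        ((memC Y C).mp (h ((memC Y A).mpr ⟨hY, hAY⟩))).2) X hX.1 hX.2⟩
    · intro h
      have hsub : ∀ X ∈ S, ⁅C, X⁆ = ⊥ → ⁅A, X⁆ = ⊥ := fun X hX hc => by_contra fun hne =>
        RankOne.not_commute (h ⟨hX, cases A hA X hX hne⟩).2 hc
      refine ⟨hsub C hC (self C hC), Set.Subset.antisymm h fun X hX => ⟨hX.1, ?_⟩⟩
      refine cases A hA X hX.1 fun h0 => RankOne.not_commute hX.2 ?_
      exact main C hC A hA hAC.symm hsub X hX.1 h0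
  · constructor
    · intro h
      refine Set.Subset.antisymm h fun X hX => ?_
      rw [memC] at hX ⊢
      exact ⟨hX.1, nondegenerate_centralizing hS hnd hA hC hAC (fun Y hY hAY =>
        ((memC Y C).mp (h ((memC Y A).mpr ⟨hY, hAY⟩))).2) X hX.1 hX.2⟩
    · intro h
      have hsub : ∀ X ∈ S, IsRankOnePair A X → IsRankOnePair C X := fun X hX hr => (h ⟨hX, hr⟩).2
      have hc := nondegenerate_partners_commute hS hnd hA hC hsub
      exact ⟨hc, Set.Subset.antisymm h fun X hX =>
        ⟨hX.1, nondegenerate_partners hS hnd hA hC hsub hc hX.1 hX.2⟩⟩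

end Cfsg.Agent.S5037
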