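import Cfsg.Statements.S5038
import Cfsg.Agent.Lib.RootSubgroups.Lines

open Cfsg.Agent.Lib.RootSubgroups
open scoped commutatorElement

set_option autoImplicit false
open Cfsg

namespace Cfsg.Agent.S5038

/-- Let S be a set of abstract root subgroups of G in which every member has a rank one partner, A ∈ S and B a line partner of A. Then the subgroup generated by the members of S normalizing AB permutes the members of S inside AB doubly transitively by conjugation. -/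
theorem result {G : Type*} [Group G] {S : Set (Subgroup G)} (hS : Cfsg.IsRootSubgroupSet S)
    (hF : ∀ A ∈ S, ¬ Cfsg.IsIsolatedIn (Cfsg.FAdj S) S A) {A B : Subgroup G} (hA : A ∈ S) (hB : B ∈ Cfsg.linePartners S A) :
    ∀ C₁ ∈ Cfsg.membersIn S (A ⊔ B), ∀ C₂ ∈ Cfsg.membersIn S (A ⊔ B), ∀ D₁ ∈ Cfsg.membersIn S (A ⊔ B),
      ∀ D₂ ∈ Cfsg.membersIn S (A ⊔ B), C₁ ≠ C₂ → D₁ ≠ D₂ →
        ∃ x ∈ ⨆ E ∈ Cfsg.normalizingMembers S (A ⊔ B), E, Cfsg.conjBy C₁ x = D₁ ∧ Cfsg.conjBy C₂ x = D₂ := by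
  have hp : ∀ X ∈ S, HasPartner S X := fun X hX => (Root.hasPartner_iff hX).mpr (hF X hX)
  obtain ⟨E, hE, hAE⟩ := hp A hA
  obtain ⟨F, hFS, hr, hr', heq, hline, hne⟩ := Root.line_structure hS hA hE hAE hB
  rw [hline]
  let Nℓ : Subgroup G := ⨆ X ∈ normalizingMembers S (A ⊔ F), X
  -- movers on the line with a given centre
  have mov : ∀ (X Y : Subgroup G), X ∈ S → RootCommutatorCase S X Y → Y ∈ S →
      X ⊔ ⁅X, Y⁆ = A ⊔ F → Y ≤ Nℓ := by
    intro X Y hX hXY hY hl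
    refine le_biSup (fun X => X) ⟨hY, ?_⟩
    rw [← hl]
    intro y hy
    refine conjBy_eq_self_iff.mp ?_
    have hle : ∀ z ∈ Y, conjBy (X ⊔ ⁅X, Y⁆) z ≤ X ⊔ ⁅X, Y⁆ := by
      intro z hz
      rw [conjBy_sup]
      refine sup_le (Root.conjBy_le_line hXY hz) ?_
      rw [conjBy_of_comm fun c hc => (hXY.2.1 c hc z (Subgroup.mem_sup_right hz)).symm]
      exact le_sup_right
    refine le_antisymm (hle y hy) ?_
    have h2 := conjBy_mono y (hle y⁻¹ (inv_mem hy))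
    rwa [conjBy_cancel] at h2
  have hmem : membersIn S (A ⊔ F) = (fun d : G => conjBy A d) '' ((⁅F, E⁆ : Subgroup G) : Set G) ∪ {F} := by
    have := Root.membersIn_line hS hA (hp A hA) hr'
    rwa [heq] at this
  have hDN : ⁅F, E⁆ ≤ Nℓ := mov A _ hA hr' hr.1 (by rw [heq])
  have fixF : ∀ d ∈ ⁅F, E⁆, conjBy F d = F := fun d hd =>
    conjBy_of_comm fun f hf => hr.2.1 d hd f (Subgroup.mem_sup_left hf)
  -- a mover centred at another member
  have hA' : A ∈ linePartners S F := by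
    have := Root.mem_linePartners hS hA (hp A hA) hr'
    rwa [heq] at this
  obtain ⟨P, hP, hFP⟩ := hp F hFS
  obtain ⟨F', hF'S, hq, hq', heq', hline', hne'⟩ := Root.line_structure hS hFS hP hFP hA'
  have hl' : F ⊔ F' = A ⊔ F := by rw [← hline', sup_comm]
  have hD'N : ⁅F', P⁆ ≤ Nℓ := mov F _ hFS hq' hq.1 (by rw [heq', hl'])
  have hmem' : membersIn S (A ⊔ F) = (fun d : G => conjBy F d) '' ((⁅F', P⁆ : Subgroup G) : Set G) ∪ {F'} := by
    have := Root.membersIn_line hS hFS (hp F hFS) hq'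
    rwa [heq', hl'] at this
  have fixF' : ∀ d ∈ ⁅F', P⁆, conjBy F' d = F' := fun d hd =>
    conjBy_of_comm fun f hf => hq.2.1 d hd f (Subgroup.mem_sup_left hf)
  have hF'mem : F' ∈ membersIn S (A ⊔ F) := by rw [hmem']; exact Or.inr rfl
  -- every member can be moved to `F`
  have toF : ∀ C ∈ membersIn S (A ⊔ F), ∃ x ∈ Nℓ, conjBy C x = F := by
    intro C hC
    rw [hmem'] at hC
    rcases hC with ⟨d, hd, rfl⟩ | hC
    · exact ⟨d⁻¹, inv_mem (hD'N hd), conjBy_inv_cancel F d⟩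
    · -- `F'` is a translate of `A`, as is some translate of `F`
      rw [Set.mem_singleton_iff.mp hC]
      have hF'A : F' ∈ (fun d : G => conjBy A d) '' ((⁅F, E⁆ : Subgroup G) : Set G) := by
        rw [hmem] at hF'mem
        exact hF'mem.resolve_right fun e => hne' (Set.mem_singleton_iff.mp e)
      obtain ⟨d₀, hd₀, hd₀e⟩ := hF'A
      obtain ⟨u, hu, hu1⟩ := exists_ne_one (hS.ne_bot _ hr.1)
      have hY : conjBy A (d₀ * u) ∈ membersIn S (A ⊔ F) := by
        rw [hmem]; exact Or.inl ⟨d₀ * u, mul_mem hd₀ hu, rfl⟩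
      rw [hmem'] at hY
      have hYne : conjBy A (d₀ * u) ≠ F' := by
        rw [← hd₀e]
        intro e
        have e' : conjBy A u = A := by
          rw [← conjBy_conjBy] at e; exact conjBy_inj e
        obtain ⟨a, ha, ha1⟩ := exists_ne_one (hS.ne_bot A hA)
        have hc : ⁅a, u⁆ ∈ A := by
          rw [commutatorElement_def, mul_assoc, mul_assoc]
          have h1 := conj_mem_conjBy (g := u) (inv_mem ha)
          rw [e'] at h1
          simpa [mul_assoc] using mul_mem ha h1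
        exact Root.commutatorElement_ne_one hS hA (hp A hA) hr' ha ha1 hu hu1
          ((Subgroup.eq_bot_iff_forall _).mp
            (Root.inf_eq_bot hS hA hFS (hp A hA) hne) _
            ⟨hc, by rw [← heq]; exact Subgroup.commutator_mem_commutator ha hu⟩)
      obtain ⟨d, hd, hde⟩ := hY.resolve_right (fun e => hYne (Set.mem_singleton_iff.mp e))
      refine ⟨d⁻¹ * (d₀ * u * d₀⁻¹), mul_mem (inv_mem (hD'N hd))
        (hDN (mul_mem (mul_mem hd₀ hu) (inv_mem hd₀))), ?_⟩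
      rw [← conjBy_conjBy, ← hd₀e, conjBy_conjBy A, inv_mul_cancel_right, ← hde,
        conjBy_inv_cancel]
  have norm : ∀ x ∈ Nℓ, ∀ C ∈ membersIn S (A ⊔ F), conjBy C x ∈ membersIn S (A ⊔ F) := by
    intro x hx C hC
    refine ⟨hS.conj_mem C hC.1 x, ?_⟩
    have hxn : x ∈ Subgroup.normalizer ((A ⊔ F : Subgroup G) : Set G) :=
      (iSup₂_le fun X hX => hX.2 : Nℓ ≤ _) hx
    exact (conjBy_mono x hC.2).trans_eq (conjBy_eq_self_iff.mpr hxn)
  intro C₁ h₁ C₂ h₂ D₁ k₁ D₂ k₂ hne₁ hne₂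
  obtain ⟨x, hx, hxe⟩ := toF C₁ h₁
  obtain ⟨y, hy, hye⟩ := toF D₁ k₁
  have m₁ := norm x hx C₂ h₂
  have m₂ := norm y hy D₂ k₂
  rw [hmem] at m₁ m₂
  obtain ⟨d₁, hd₁, e₁⟩ := m₁.resolve_right
    (fun e => hne₁ (conjBy_inj (hxe.trans (Set.mem_singleton_iff.mp e).symm)))
  obtain ⟨d₂, hd₂, e₂⟩ := m₂.resolve_right
    (fun e => hne₂ (conjBy_inj (hye.trans (Set.mem_singleton_iff.mp e).symm)))
  simp only at e₁ e₂
  refine ⟨y⁻¹ * (d₂ * d₁⁻¹) * x, mul_mem (mul_mem (inv_mem hy)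
    (hDN (mul_mem hd₂ (inv_mem hd₁)))) hx, ?_, ?_⟩
  · rw [← conjBy_conjBy, hxe, ← conjBy_conjBy, fixF _ (mul_mem hd₂ (inv_mem hd₁)), ← hye,
      conjBy_inv_cancel]
  · rw [← conjBy_conjBy, ← e₁, conjBy_conjBy, show y⁻¹ * (d₂ * d₁⁻¹) * d₁ = y⁻¹ * d₂ by group,
      ← conjBy_conjBy, e₂, conjBy_inv_cancel]

end Cfsg.Agent.S5038
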