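import Cfsg.Statements.S5039
import Cfsg.Agent.Lib.RootSpecial84.Opposite
import Cfsg.Agent.Lib.RootSpecial84.Small
import Cfsg.Agent.Lib.RootSubgroups.NonDegenerate

set_option autoImplicit false
universe u
open Cfsg
open Cfsg.Agent.Lib.RootSubgroups Cfsg.Agent.Lib.RootSpecial84

namespace Cfsg.Agent.S5039

/-- Let S be a class of abstract root subgroups of G containing two different commuting members. Suppose that, in case S is degenerate and every element of every member of S has order at most 3, the following holds: for every A ∈ S and every rank one partner B of A there are subgroups A₀ ≤ A and B₀ ≤ B generating an image of SL₂(k) with central kernel, k a field with at least four elements, A₀ and B₀ being the images of the unitriangular subgroups. Then every rank one pair A, B in S is special. -/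
theorem result {G : Type u} [Group G] {S : Set (Subgroup G)} (hS : Cfsg.IsRootSubgroupClass S)
    (hcomm : ∃ A ∈ S, ∃ C ∈ S, A ≠ C ∧ ⁅A, C⁆ = ⊥)
    (hH : Cfsg.IsDegenerateRootSet S → (∀ A ∈ S, ∀ a ∈ A, 0 < orderOf a ∧ orderOf a ≤ 3) →
      ∀ A ∈ S, ∀ B ∈ Cfsg.rankOnePartners S A, ∃ A₀ B₀ : Subgroup G, A₀ ≤ A ∧ B₀ ≤ B ∧
        ∃ (k : Type u) (_ : Field k), 3 < ENat.card k ∧ Cfsg.IsPSL2PairOver k A₀ B₀)
    {A B : Subgroup G} (hA : A ∈ S) (hB : B ∈ Cfsg.rankOnePartners S A) : Cfsg.IsSpecialRankOnePair A B := by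
  obtain ⟨hBS, hAB⟩ := hB
  by_cases hdeg : Cfsg.IsDegenerateRootSet S
  swap
  · refine Root.special_of_class hS ⟨hcomm, ⟨A, hA, B, hBS, hAB⟩, ?_⟩ hA hBS hAB
    simpa [Cfsg.IsDegenerateRootSet] using hdeg
  by_cases h : ∃ C ∈ S, Cm A C ∧ C ≠ A ∧ ¬ Cm C B
  · obtain ⟨C, hC, hAC, hne, hCB⟩ := h
    refine Cfsg.Agent.Lib.RootSpecial84.special hS.1 hA hBS hAB hC hAC ?_ hne
    exact ((hS.1.pair C hC B hBS).resolve_left fun e =>
      hCB fun c hc b hb => comm_of_commutator_eq_bot e hc hb).resolve_right (hdeg C hC B hBS)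
  push Not at h
  by_cases hgood : Good A
  · obtain ⟨A', hA', C', hC', hne', hc'⟩ := hcomm
    obtain ⟨g, rfl⟩ := hS.2.2 A' hA' A hA
    obtain ⟨C, hC, E, hE, hAC, hne, hAE, hCE⟩ := exists_opposite hS hdeg hA hBS hAB
      (hS.1.conj_mem C' hC' g)
      ((show Cm A' C' from fun a ha c hc => comm_of_commutator_eq_bot hc' ha hc).conj g)
      (fun e => hne' (conjBy_inj e).symm)
    obtain ⟨k, rfl⟩ := hS.2.2 _ hA E hE
    exact (false_of_good hS.1 hA hE hAE hBS hAB hC hAC hCE hne (hgood.conj k) h).elim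
  · have hgood' : ∀ X ∈ S, ¬ Good X := fun X hX hg => by
      obtain ⟨g, rfl⟩ := hS.2.2 X hX A hA
      exact hgood (hg.conj g)
    obtain ⟨A₀, B₀, hA₀, hB₀, k, _, hk, hφ⟩ := hH hdeg
      (fun X hX x hx => orderOf_le_three (hgood' X hX) hx) A hA B ⟨hBS, hAB⟩
    exact special_of_small hAB (hgood' A hA) (hgood' B hBS) hA₀ hB₀ hk hφ

end Cfsg.Agent.S5039
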