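import Cfsg.Statements.S5040
import Cfsg.Agent.Lib.RootSubgroups.NonDegenerate

open Cfsg.Agent.Lib.RootSubgroups

set_option autoImplicit false
open Cfsg

namespace Cfsg.Agent.S5040

/-- Let S be a non-degenerate class of abstract root subgroups of G and Δ a weak TI-subset of S. Then the members of Δ commute with one another elementwise. -/
theorem result {G : Type*} [Group G] {S : Set (Subgroup G)} (hS : Cfsg.IsRootSubgroupClass S) (hnd : Cfsg.IsNondegenerateRootSet S)
    {Δ : Set (Subgroup G)} (hΔ : Cfsg.IsWeakTISubset S Δ) : Cfsg.IsAbelianFamily Δ := by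
  obtain ⟨hsub, -, hneS, hTI⟩ := hΔ
  let Stab : Subgroup G :=
    { carrier := {g | (fun X => conjBy X g) '' Δ = Δ}
      one_mem' := by simp
      mul_mem' := by
        intro g h hg hh
        show (fun X => conjBy X (g * h)) '' Δ = Δ
        conv_rhs => rw [← hg, ← hh, Set.image_image]
        simp [conjBy_conjBy]
      inv_mem' := by
        intro g hg
        show (fun X => conjBy X g⁻¹) '' Δ = Δ
        conv_lhs => rw [← hg, Set.image_image]
        simp only [conjBy_inv_cancel, Set.image_id'] }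
  have stab_mem : ∀ g ∈ Stab, ∀ X ∈ Δ, conjBy X g ∈ Δ := fun g hg X hX => by
    rw [← (show (fun X => conjBy X g) '' Δ = Δ from hg)]
    exact ⟨X, hX, rfl⟩
  have fix : ∀ R ∈ S, ∀ X ∈ Δ, (∀ r ∈ R, conjBy X r = X) → R ≤ Stab := by
    intro R hR X hX h r hr
    by_cases hr1 : r = 1
    · rw [hr1]; exact one_mem _
    rcases hTI r ⟨hr1, R, hR, hr⟩ with e | e
    · exact e
    · exact absurd e (Set.not_disjoint_iff.mpr ⟨X, ⟨X, hX, h r hr⟩, hX⟩)
  have comm_le : ∀ R ∈ S, ∀ X ∈ Δ, ⁅X, R⁆ = ⊥ → R ≤ Stab := fun R hR X hX hc =>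
    fix R hR X hX fun r hr => conjBy_of_comm fun x hx => (comm_of_commutator_eq_bot hc hx hr).symm
  have hp : ∀ X ∈ S, HasPartner S X := fun X hX => Root.hasPartner_of_class hS hnd hX
  have noRankOne : ∀ A ∈ Δ, ∀ B ∈ Δ, ¬ IsRankOnePair A B := by
    intro A hA B hB hAB
    have htop : Stab = ⊤ := by
      rw [eq_top_iff, ← Root.generated_line_partner hS hnd (hsub hA) (hsub hB) hAB]
      exact sup_le (iSup₂_le fun X hX => comm_le X hX.1.1 A hA hX.1.2.2)
        (fix B (hsub hB) B hB fun r hr => conjBy_of_mem hr)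
    apply hneS
    refine Set.Subset.antisymm hsub fun X hX => ?_
    obtain ⟨g, rfl⟩ := hS.2.2 A (hsub hA) X hX
    exact stab_mem g (by rw [htop]; trivial) A hA
  intro A hA B hB a ha b hb
  rcases hS.1.pair A (hsub hA) B (hsub hB) with hc | hr | hr
  · exact comm_of_commutator_eq_bot hc ha hb
  · exact absurd hr (noRankOne A hA B hB)
  · exfalso
    have hAS := hsub hA
    have hBS := hsub hB
    obtain ⟨T, hT, hrT, hTe⟩ := Root.exists_centre_mover hS.1 hAS (hp A hAS) hr (hp _ hr.1)
    have hTA : ⁅A, T⁆ = ⊥ := commutator_eq_bot_of_comm fun x hx t ht =>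
      hrT.2.1 x (by rw [hTe]; exact hx) t (Subgroup.mem_sup_right ht)
    have hTs : T ≤ Stab := comm_le T hT A hA hTA
    have hBs : B ≤ Stab := fix B hBS B hB fun r hr => conjBy_of_mem hr
    have hBT : IsRankOnePair B T := Root.movers_rankOne hS.1 hAS hBS hr.1 hT
      (by rw [Subgroup.commutator_comm]; exact hTe)
    obtain ⟨t, ht, ht1⟩ := exists_ne_one (hS.1.ne_bot T hT)
    have hne : conjBy B t ≠ B := fun e =>
      ht1 (RankOne.eq_one_of_normalizes (RankOnePair_symm hBT) ht e)
    exact noRankOne B hB _ (stab_mem t (hTs ht) B hB)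
      (RankOne.pair_of_mem hBT (RankOne.left_mem B T)
        (RankOne.conjBy_mem_unipotent (Subgroup.mem_sup_right ht) (RankOne.left_mem B T))
        hne.symm).1

end Cfsg.Agent.S5040
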