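import Cfsg.Statements.S5047
import Cfsg.Agent.Lib.RootInv.SameOdd
open Cfsg.Agent.Lib.RootInv Cfsg.Agent.Lib.Elem70

set_option autoImplicit false
open Cfsg

namespace Cfsg.Agent.S5047

/-- Let G be a finite group generated by a set D of root involutions whose odd-order-product graph is connected, a ∈ D, and b a member of D different from a, commuting with a, with ab ∈ D, but not having the same commuting members as a. Then some member x of D with bx of order 4 has ax of order 3. -/
theorem result {G : Type*} [Group G] [Finite G] {D : Set G} (hD : Cfsg.IsRootInvolutionSet D)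
    (hc : Cfsg.IsConnectedSet (Cfsg.OddAdj D) D) {a b : G} (ha : a ∈ D) (hb : b ∈ Cfsg.productPartners D a)
    (hbE : b ∉ Cfsg.sameCommutingClass D a) : ∃ x ∈ Cfsg.fourPartners D b, orderOf (a * x) = 3 := by
  have hne : Cfsg.commutingMembers D a ≠ Cfsg.commutingMembers D b := fun h => hbE ⟨hb.1.1, h⟩
  obtain ⟨p, hp, hpn⟩ := exists_odd_outside hD hc ha hb hne
  have hp4 := (four_of_not_odd hD ha hb hp hpn).1
  obtain ⟨f, hf, h4, hfb⟩ := exists_mover hD ha hp hb hp4
  have hbD := hb.1.1
  have hbf : f ∈ Cfsg.productPartners D b := by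
    have h4' : orderOf (f * a) = 4 := by rw [orderOf_comm hD ha hf]; exact h4
    have hb' : (f * a) ^ 2 = b := by rw [four_symm hD ha hf h4, hfb]
    have hmem := RootInvolutions.sq_mem_productPartners hD hf ha h4' (by rw [hb']; exact hbD)
    rw [hb'] at hmem
    exact RootInvolutions.productPartners_symm hD hf hmem
  have hne2 : Cfsg.commutingMembers D b ≠ Cfsg.commutingMembers D f := fun h => by
    have : a ∈ Cfsg.commutingMembers D b := ⟨ha, hb.1.2.1.symm⟩
    rw [h] at this
    exact not_comm_of_four hD ha hf h4 this.2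
  obtain ⟨q, hq, hqn⟩ := exists_odd_outside hD hc hbD hbf hne2
  obtain ⟨x, hx, hbx, hax, -⟩ := exists_order_three hD ha hf h4 hfb hbD hq
    (four_of_not_odd hD hbD hbf hq hqn).1
  exact ⟨x, ⟨hx, hbx⟩, hax⟩

end Cfsg.Agent.S5047
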