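import Cfsg.Statements.S5049
import Cfsg.Agent.Lib.PSolvable.Basic

open scoped commutatorElement

set_option autoImplicit false
open Cfsg

namespace Cfsg.Agent.S5049

/-- Let G be a finite group generated by a set D of odd transpositions (root involutions with no product of order 4), Q = O₂(G), and for a ∈ D let Q_a be the commutator subgroup of Q with a. Then every member of D commuting with a centralizes Q_a; and for b ∈ D with ab of odd order greater than 1, the centralizer of ab in Q is the intersection of the centralizers of a and b in Q. -/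
theorem result {G : Type*} [Group G] [Finite G] {D : Set G} (hD : Cfsg.IsOddTranspositionSet D) {a : G} (ha : a ∈ D) :
    (∀ e ∈ Cfsg.commutingMembers D a, ∀ q ∈ ⁅Cfsg.pCore 2 G, Subgroup.zpowers a⁆, e * q = q * e) ∧
    (∀ b ∈ Cfsg.oddPartners D a,
      Cfsg.pCore 2 G ⊓ Subgroup.centralizer {a * b} = Cfsg.pCore 2 G ⊓ Subgroup.centralizer {a} ⊓ Subgroup.centralizer {b}) := by
  set Q := Cfsg.pCore 2 G with hQ
  haveI hQn : Q.Normal := Cfsg.Agent.Lib.PSolvable.pCore_normal'
  have hQ2 : IsPGroup 2 ↥Q := Cfsg.Agent.Lib.PSolvable.isPGroup_pCore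
  have inv : ∀ d ∈ D, d⁻¹ = d := fun d hd => inv_eq_of_mul_eq_one_right (by
    rw [← sq, ← hD.1.orderOf_eq d hd, pow_orderOf_eq_one])
  have qtwo : ∀ x ∈ Q, ∃ i, orderOf x = 2 ^ i := fun x hx => by
    obtain ⟨i, hi⟩ := IsPGroup.iff_orderOf.mp hQ2 ⟨x, hx⟩
    exact ⟨i, by rw [← hi, ← Subgroup.orderOf_coe]⟩
  -- commuting members commute with conjugates under `Q`
  have conjQ : ∀ e ∈ D, ∀ d ∈ D, e * d = d * e → ∀ q ∈ Q, e * (q * d * q⁻¹) = q * d * q⁻¹ * e := by
    intro e he d hd hed q hq
    have hd' : q * d * q⁻¹ ∈ D := hD.1.conj_mem d hd q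
    rcases hD.1.pair e he _ hd' with h | h | h
    · exact h
    · -- the product has a power of two as order
      have h2 : (e * (q * d * q⁻¹)) ^ 2 ∈ Q := by
        rw [← QuotientGroup.eq_one_iff]
        have hq1 : (q : G ⧸ Q) = 1 := (QuotientGroup.eq_one_iff q).mpr hq
        rw [QuotientGroup.mk_pow, QuotientGroup.mk_mul, QuotientGroup.mk_mul, QuotientGroup.mk_mul,
          QuotientGroup.mk_inv]
        rw [hq1, one_mul, inv_one, mul_one, sq]
        rw [← QuotientGroup.mk_mul, ← QuotientGroup.mk_mul,
          show e * d * (e * d) = 1 by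
            calc e * d * (e * d) = e * d * (d⁻¹ * e⁻¹) := by rw [inv e he, inv d hd, hed]
              _ = 1 := by group, QuotientGroup.mk_one]
      obtain ⟨i, hi⟩ := qtwo _ h2
      have h1 : orderOf (e * (q * d * q⁻¹)) = 1 := by
        have hcop : Nat.Coprime (orderOf (e * (q * d * q⁻¹))) 2 := Nat.coprime_two_right.mpr h
        rw [← hcop.orderOf_pow, hi]
        rcases Nat.eq_zero_or_pos i with rfl | hi0
        · rfl
        · rw [← hcop.orderOf_pow, hi] at h
          have he2 : Even (2 ^ i) := Nat.even_pow.mpr ⟨even_two, by omega⟩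
          exact absurd he2 (Nat.not_even_iff_odd.mpr h)
      have := eq_inv_of_mul_eq_one_right (orderOf_eq_one_iff.mp h1)
      rw [inv e he] at this
      rw [this]
    · exact absurd h.1 (hD.2 e he _ hd')
  refine ⟨fun e he q hq => ?_, fun b hb => ?_⟩
  · have hle : ⁅Q, Subgroup.zpowers a⁆ ≤ Subgroup.centralizer ({e} : Set G) := by
      rw [Subgroup.commutator_le]
      intro x hx y hy
      obtain ⟨n, rfl⟩ := Subgroup.mem_zpowers_iff.mp hy
      refine Subgroup.mem_centralizer_iff.mpr fun w hw => ?_
      rw [Set.mem_singleton_iff.mp hw]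
      have e1 : Commute e (x * a * x⁻¹) := conjQ e he.1 a ha he.2 x hx
      have e2 : Commute e a := he.2
      show e * ⁅x, a ^ n⁆ = ⁅x, a ^ n⁆ * e
      rw [show ⁅x, a ^ n⁆ = (x * a * x⁻¹) ^ n * (a ^ n)⁻¹ by
        rw [commutatorElement_def, conj_zpow]]
      exact ((e1.zpow_right n).mul_right (e2.zpow_right n).inv_right).eq
    exact Subgroup.mem_centralizer_iff.mp (hle hq) e rfl
  · obtain ⟨hbD, hba, hodd⟩ := hb
    ext q
    simp only [Subgroup.mem_inf, Subgroup.mem_centralizer_iff, Set.mem_singleton_iff, forall_eq]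
    constructor
    · rintro ⟨hq, hqab⟩
      set a' := q * a * q⁻¹ with ha'
      set c := a' * a with hc
      have haa' : a * a' = a' * a := conjQ a ha a ha rfl q hq
      have ha'D : a' ∈ D := hD.1.conj_mem a ha q
      have hc2 : c * c = 1 := by
        rw [hc]
        calc a' * a * (a' * a) = a' * a * (a * a') := by rw [haa']
          _ = a' * a * (a⁻¹ * a'⁻¹) := by rw [inv a ha, inv a' ha'D]
          _ = 1 := by group
      have hcab : Commute c (a * b) := by
        -- both involutions invert `a * b`
        have haab : a * (a * b) * a⁻¹ = (a * b)⁻¹ := by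
          rw [mul_inv_rev, inv a ha, inv b hbD, show a * (a * b) * a = a * a * (b * a) by group,
            show a * a = 1 by rw [← sq, ← hD.1.orderOf_eq a ha, pow_orderOf_eq_one], one_mul]
        have hq' : q * (a * b) * q⁻¹ = a * b := by rw [← hqab, mul_inv_cancel_right]
        have hq'' : q⁻¹ * (a * b) * q = a * b := by rw [mul_assoc, hqab, inv_mul_cancel_left]
        have ha'ab : a' * (a * b) * a'⁻¹ = (a * b)⁻¹ := by
          calc a' * (a * b) * a'⁻¹ = q * (a * (q⁻¹ * (a * b) * q) * a⁻¹) * q⁻¹ := by rw [ha']; group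
            _ = (q * (a * b) * q⁻¹)⁻¹ := by rw [hq'', haab]; group
            _ = _ := by rw [hq']
        show c * (a * b) = a * b * c
        calc c * (a * b) = a' * (a * (a * b) * a⁻¹) * a'⁻¹ * (a' * a) := by rw [hc]; group
          _ = (a' * (a * b) * a'⁻¹)⁻¹ * (a' * a) := by rw [haab]; group
          _ = a * b * c := by rw [ha'ab, inv_inv]
      have hc1 : c = 1 := by
        have hprod : a' * b = c * (a * b) := by
          rw [hc, show a' * a * (a * b) = a' * (a * a) * b by group,
            show a * a = 1 by rw [← sq, ← hD.1.orderOf_eq a ha, pow_orderOf_eq_one], mul_one]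
        by_contra hne
        have hoc : orderOf c = 2 := orderOf_eq_prime (by rw [sq, hc2]) hne
        have hord : orderOf (a' * b) = 2 * orderOf (a * b) := by
          rw [hprod, hcab.orderOf_mul_eq_mul_orderOf_of_coprime
            (by rw [hoc]; exact Nat.coprime_two_left.mpr hodd), hoc]
        rcases hD.1.pair a' ha'D b hbD with h | h | h
        · have hsq : (a' * b) ^ 2 = 1 := by
            rw [sq]
            calc a' * b * (a' * b) = a' * b * (b⁻¹ * a'⁻¹) := by rw [inv b hbD, inv a' ha'D, h]
              _ = 1 := by group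
          have hd := orderOf_dvd_of_pow_eq_one hsq
          rw [hord] at hd
          have h1 : orderOf (a * b) = 1 := Nat.dvd_one.mp
            ((Nat.mul_dvd_mul_iff_left (by norm_num : 0 < 2)).mp (by simpa using hd))
          have := eq_inv_of_mul_eq_one_left (orderOf_eq_one_iff.mp h1)
          exact hba (by rw [this, inv b hbD])
        · rw [hord] at h
          exact absurd (even_two_mul _) (Nat.not_even_iff_odd.mpr h)
        · obtain ⟨t, ht⟩ := hodd
          have := hord ▸ h.1
          omega
      have hqa : a * q = q * a := by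
        have : a' = a := by
          rw [hc] at hc1
          rw [eq_inv_of_mul_eq_one_left hc1, inv a ha]
        rw [ha', mul_inv_eq_iff_eq_mul] at this
        exact this.symm
      refine ⟨⟨hq, hqa⟩, ?_⟩
      have h2 : a * (b * q) = a * (q * b) := by
        calc a * (b * q) = q * (a * b) := by rw [← hqab]; group
          _ = a * (q * b) := by rw [← mul_assoc, ← hqa]; group
      exact mul_left_cancel h2
    · rintro ⟨⟨hq, hqa⟩, hqb⟩
      exact ⟨hq, by rw [mul_assoc, hqb, ← mul_assoc, hqa, mul_assoc]⟩

end Cfsg.Agent.S5049
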