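import Cfsg.Statements.S5050
import Cfsg.Agent.Lib.OddTransp84.Config
open Cfsg.Agent.Lib.OddTransp84

set_option autoImplicit false
open Cfsg

namespace Cfsg.Agent.S5050

/-- Let G be a finite group generated by a class D of odd transpositions whose commuting graph is connected, with some product of two different commuting members again in D. Then for every d ∈ D and every x ∈ D with dx of odd order greater than 1, some member of D commutes with both d and x. -/
theorem result {G : Type*} [Group G] [Finite G] {D : Set G} (hD : Cfsg.IsOddTranspositionSet D) (hcl : Cfsg.IsRootInvolutionClass D)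
    (hc : Cfsg.IsConnectedSet (Cfsg.CommAdj D) D) (hDD : (D ∩ Cfsg.commutingProducts D).Nonempty)
    {d x : G} (hd : d ∈ D) (hx : x ∈ Cfsg.oddPartners D d) : ∃ e ∈ D, e * d = d * e ∧ e * x = x * e := by
  classical
  obtain ⟨⟨hR, h4⟩, hcl'⟩ := And.intro hD hcl.2.2
  have inv : ∀ a ∈ D, a * a = 1 := fun a ha => by
    have := pow_orderOf_eq_one a
    rwa [hR.orderOf_eq a ha, sq] at this
  have invself : ∀ a ∈ D, a⁻¹ = a := fun a ha => inv_eq_of_mul_eq_one_right (inv a ha)
  obtain ⟨-, hpD, a₀, ha₀, b₀, hb₀, hab, hne, rfl⟩ := hDD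
  have hne' : b₀ ≠ a₀ := by
    rintro rfl
    exact hne (inv b₀ ha₀)
  have hB : Base D := by
    refine ⟨inv, fun a ha h => ?_, ?_, ?_, ?_, ?_⟩
    · have := hR.orderOf_eq a ha
      rw [h, orderOf_one] at this
      omega
    · intro a ha b hb
      have := hR.conj_mem b hb a
      rwa [invself a ha] at this
    · intro a ha b hb
      rcases hR.pair a ha b hb with h | h | ⟨h, -⟩
      · exact Or.inl h
      · exact Or.inr h
      · exact absurd h (h4 a ha b hb)
    · intro y hy
      obtain ⟨g, rfl⟩ := hcl' a₀ ha₀ y hy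
      refine ⟨g * b₀ * g⁻¹, hR.conj_mem b₀ hb₀ g, ?_, (commute_conj_iff g).mpr hab.symm, ?_⟩
      · exact fun h => hne' (mul_left_cancel (mul_right_cancel h))
      · rw [← Cfsg.Agent.Lib.OddTransp84.conj_mul]
        exact hR.conj_mem _ hpD g
    · intro y hy
      by_contra hall
      push Not at hall
      have hc : Subgroup.closure D ≤ Subgroup.centralizer {y} := (Subgroup.closure_le _).mpr
        fun v hv => Subgroup.mem_centralizer_singleton_iff.mpr (hall v hv).eq
      rw [hR.generates] at hc
      have hy1 : ∀ z ∈ D, z = y := by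
        intro z hz
        obtain ⟨g, rfl⟩ := hcl' y hy z hz
        rw [Subgroup.mem_centralizer_singleton_iff.mp (hc (Subgroup.mem_top g)),
          mul_inv_cancel_right]
      exact hne' ((hy1 b₀ hb₀).trans (hy1 a₀ ha₀).symm)
  have hreach : Reach D d x := by
    have key : ∀ y, Relation.ReflTransGen (Cfsg.CommAdj D) d y → Reach D d y := by
      intro y h
      induction h with
      | refl => exact .refl
      | tail _ h2 ih => exact Reach.trans ih (Reach.of_comm h2.1 h2.2.1 h2.2.2.2)
    exact key x (hc d hd x hx.1)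
  obtain ⟨e, he, h1, h2⟩ := exists_common (cfg_and_conn D hB).1 hd hreach
  exact ⟨e, he, h1, h2⟩

end Cfsg.Agent.S5050
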