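import Cfsg.Statements.S5051
import Cfsg.Agent.Lib.OddTransp84.Quotient
import Cfsg.Agent.Lib.OddTransp84.Core.Structure
import Cfsg.Agent.Lib.BenderOne.Final
import Cfsg.Agent.Lib.Involutions.Basic

set_option autoImplicit false
open Cfsg
open Cfsg.Agent.Lib Cfsg.Agent.Lib.OddTransp84 Cfsg.Agent.Lib.OddTransp84.Reduction

namespace Cfsg.Agent.S5051

/-- Let G be a finite group generated by a set D of odd transpositions, d ∈ D, x ∈ D with dx of odd order greater than 1, and X the subgroup generated by x together with the members of D having the same commuting members as d. Then X/O₂(X) is isomorphic to L₂(q) or Sz(q) for a power q > 2 of 2, or is a dihedral group. -/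
theorem result {G : Type*} [Group G] [Finite G] {D : Set G} (hD : Cfsg.IsOddTranspositionSet D) {d x : G} (hd : d ∈ D)
    (hx : x ∈ Cfsg.oddPartners D d) :
    (∃ (F : Type) (_ : Field F) (_ : Fintype F), CharP F 2 ∧ 4 ≤ Fintype.card F ∧
      Nonempty ((↥(Subgroup.closure (Cfsg.sameCommutingClass D d ∪ {x})) ⧸
        Cfsg.pCore 2 ↥(Subgroup.closure (Cfsg.sameCommutingClass D d ∪ {x}))) ≃* Matrix.ProjectiveSpecialLinearGroup (Fin 2) F)) ∨
    Cfsg.Lie.IsoSuzuki ((↥(Subgroup.closure (Cfsg.sameCommutingClass D d ∪ {x})) ⧸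
        Cfsg.pCore 2 ↥(Subgroup.closure (Cfsg.sameCommutingClass D d ∪ {x})))) ∨
    (∃ n : ℕ, Nonempty ((↥(Subgroup.closure (Cfsg.sameCommutingClass D d ∪ {x})) ⧸
        Cfsg.pCore 2 ↥(Subgroup.closure (Cfsg.sameCommutingClass D d ∪ {x}))) ≃* DihedralGroup n)) := by
  classical
  obtain ⟨hR, h4⟩ := hD
  obtain ⟨hxD, hxne, hodd⟩ := hx
  have inv : ∀ a ∈ D, a * a = 1 := fun a ha => by
    have := pow_orderOf_eq_one a
    rwa [hR.orderOf_eq a ha, pow_two] at this
  have hpair : ∀ a ∈ D, ∀ b ∈ D, ¬ Commute a b → Odd (orderOf (a * b)) := by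
    intro a ha b hb hab
    rcases hR.pair a ha b hb with h | h | ⟨h, -⟩
    · exact absurd h hab
    · exact h
    · exact absurd h (h4 a ha b hb)
  have hndx : ¬ Commute d x := by
    intro hc
    apply hxne
    have h2 : (d * x) ^ 2 = 1 := by rw [hc.mul_pow, pow_two, pow_two, inv d hd, inv x hxD, one_mul]
    have h1 : orderOf (d * x) = 1 :=
      Nat.Coprime.eq_one_of_dvd (Nat.coprime_two_right.2 hodd) (orderOf_dvd_of_pow_eq_one h2)
    rw [orderOf_eq_one_iff] at h1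
    rw [eq_inv_of_mul_eq_one_right h1, inv_eq_of_mul_eq_one_right (inv d hd)]
  set X := Subgroup.closure (Cfsg.sameCommutingClass D d ∪ {x}) with hXdef
  have hxX : x ∈ X := Subgroup.subset_closure (Or.inr rfl)
  have hEX : ∀ e ∈ Cfsg.sameCommutingClass D d, e ∈ X := fun e he =>
    Subgroup.subset_closure (Or.inl he)
  have hdE : d ∈ Cfsg.sameCommutingClass D d := ⟨hd, rfl⟩
  let D₀ : Set X := {a | ∃ g : X, g * ⟨x, hxX⟩ * g⁻¹ = a}
  have hsub : ∀ a ∈ D₀, (a : G) ∈ D := by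
    rintro _ ⟨g, rfl⟩
    exact hR.conj_mem x hxD g
  have hcomm : ∀ e ∈ Cfsg.sameCommutingClass D d, ∀ v ∈ D, (Commute v d ↔ Commute v e) := by
    intro e he v hv
    have h1 : v ∈ Cfsg.commutingMembers D d ↔ v ∈ Cfsg.commutingMembers D e := by rw [he.2]
    exact ⟨fun h => (h1.1 ⟨hv, h.eq⟩).2, fun h => (h1.2 ⟨hv, h.eq⟩).2⟩
  have hncx : ∀ e ∈ Cfsg.sameCommutingClass D d, ¬ Commute x e := fun e he hc =>
    hndx ((hcomm e he x hxD).2 hc).symm
  have hEmem : ∀ e (he : e ∈ Cfsg.sameCommutingClass D d), (⟨e, hEX e he⟩ : X) ∈ D₀ := by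
    intro e he
    obtain ⟨h, ⟨g, hg⟩, hh, -, -⟩ := exists_swap (a := (⟨x, hxX⟩ : X)) (b := ⟨e, hEX e he⟩)
      (Subtype.ext (inv x hxD)) (Subtype.ext (inv e he.1))
      (by rw [← Subgroup.orderOf_coe]; exact hpair x hxD e he.1 (hncx e he))
    have hi : h⁻¹ = h :=
      inv_eq_of_mul_eq_one_right (hg ▸ conj_sq (Subtype.ext (inv x hxD)) g)
    exact ⟨h, by rw [hi]; exact hh⟩
  have hGen : Gen D₀ (⟨d, hEX d hdE⟩ : X) (⟨x, hxX⟩ : X) := by
    refine ⟨fun a ha => Subtype.ext (inv _ (hsub a ha)), fun a ha e => ?_, ?_, ?_, ?_,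
      hEmem d hdE, ⟨1, by simp⟩, ?_, fun hc => hndx (congrArg Subtype.val hc.eq)⟩
    · have h1 := hR.orderOf_eq _ (hsub a ha)
      rw [e, OneMemClass.coe_one, orderOf_one] at h1
      omega
    · rintro g _ ⟨k, rfl⟩
      exact ⟨g * k, by group⟩
    · intro a ha b hb hab
      rw [← Subgroup.orderOf_coe]
      exact hpair _ (hsub a ha) _ (hsub b hb) fun e => hab (Subtype.ext e.eq)
    · rintro _ ⟨k, rfl⟩ _ ⟨l, rfl⟩
      exact ⟨l * k⁻¹, by group⟩
    · refine top_le_iff.1 ?_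
      rw [← Subgroup.closure_closure_coe_preimage
        (k := Cfsg.sameCommutingClass D d ∪ {x})]
      refine Subgroup.closure_mono ?_
      rintro ⟨e, heX⟩ (he | he)
      · refine Or.inl ⟨hEmem e he, fun v hv => ?_⟩
        exact ⟨fun hc => Subtype.ext ((hcomm e he _ (hsub v hv)).1 (congrArg Subtype.val hc.eq)).eq,
          fun hc => Subtype.ext ((hcomm e he _ (hsub v hv)).2 (congrArg Subtype.val hc.eq)).eq⟩
      · exact Or.inr (Subtype.ext he)
  set π := QuotientGroup.mk' (Cfsg.pCore 2 ↥X) with hπ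
  have hQ := hGen.quotient
  by_cases hall : ∀ u ∈ cls D₀ (⟨d, hEX d hdE⟩ : X), π u = π ⟨d, hEX d hdE⟩
  · refine Or.inr (Or.inr ⟨orderOf (π ⟨d, hEX d hdE⟩ * π ⟨x, hxX⟩), ⟨?_⟩⟩)
    have hod : ∀ a ∈ D₀, orderOf (π a) = 2 := fun a ha =>
      orderOf_eq_prime (by rw [pow_two]; exact hQ.sq _ ⟨a, ha, rfl⟩) (hQ.ne _ ⟨a, ha, rfl⟩)
    have htop : Subgroup.closure ({π ⟨d, hEX d hdE⟩, π ⟨x, hxX⟩} : Set _) = ⊤ := by
      refine le_antisymm le_top ?_
      rw [← Subgroup.map_top_of_surjective π (QuotientGroup.mk'_surjective _), ← hGen.gen,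
        MonoidHom.map_closure]
      refine Subgroup.closure_mono ?_
      rintro _ ⟨e, he | he, rfl⟩
      · exact Or.inl (hall e he)
      · exact Or.inr (by rw [Set.mem_singleton_iff.1 he]; rfl)
    exact (((MulEquiv.subgroupCongr htop).trans Subgroup.topEquiv).symm.trans
      (Involutions.Basic.closurePairEquiv (hod _ hGen.dmem) (hod _ hGen.xmem)))
  · push Not at hall
    obtain ⟨u, hu, hud⟩ := hall
    obtain ⟨hC, hgen, P, R, hne, hline⟩ :=
      hQ.conf (Cores.pCore_quotient_pCore 2) (hGen.map_mem_cls hu) hud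
    rcases Core.Conf.linearOrSuzuki BenderOne.propSplitFinal hgen (Cores.pCore_quotient_pCore 2)
      hne hline with ⟨F, iF, iT, hch, h4', -, he⟩ | hS
    · exact Or.inl ⟨F, iF, iT, hch, h4', he⟩
    · exact Or.inr (Or.inl hS)

end Cfsg.Agent.S5051
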