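import Cfsg.Statements.S5052
import Cfsg.Agent.Lib.OddTransp84.Root.Iso
import Cfsg.Agent.Lib.BenderOne.Final

set_option autoImplicit false
open Cfsg
open Cfsg.Agent.Lib Cfsg.Agent.Lib.OddTransp84 Cfsg.Agent.Lib.OddTransp84.Root

namespace Cfsg.Agent.S5052

/-- Let G be a finite group with O₂(G) = 1 and trivial centre, generated by a class D of odd transpositions whose commuting graph is connected, with some product of two different commuting members again in D. Then for each d ∈ D the members of D with the same commuting members as d, together with 1, form a subgroup E(d); and for every x ∈ D with dx of odd order greater than 1, the subgroup generated by E(d) and x is isomorphic to L₂(q) where q is the order of E(d). -/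
theorem result {G : Type*} [Group G] [Finite G] {D : Set G} (hD : Cfsg.IsOddTranspositionSet D) (hcl : Cfsg.IsRootInvolutionClass D)
    (hO : Cfsg.pCore 2 G = ⊥) (hZ : Subgroup.center G = ⊥) (hDD : (D ∩ Cfsg.commutingProducts D).Nonempty)
    (hc : Cfsg.IsConnectedSet (Cfsg.CommAdj D) D) {d : G} (hd : d ∈ D) :
    (Cfsg.sameCommutingSubgroup D d : Set G) = Cfsg.sameCommutingClass D d ∪ {1} ∧
    ∀ x ∈ Cfsg.oddPartners D d, ∃ (F : Type) (_ : Field F) (_ : Fintype F),
      Fintype.card F = Nat.card ↥(Cfsg.sameCommutingSubgroup D d) ∧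
      Nonempty (↥(Subgroup.closure (Cfsg.sameCommutingClass D d ∪ {x})) ≃* Matrix.ProjectiveSpecialLinearGroup (Fin 2) F) := by
  classical
  obtain ⟨⟨hR, h4⟩, hcl'⟩ := And.intro hD hcl.2.2
  have inv : ∀ a ∈ D, a * a = 1 := fun a ha => by
    have := pow_orderOf_eq_one a
    rwa [hR.orderOf_eq a ha, sq] at this
  have invself : ∀ a ∈ D, a⁻¹ = a := fun a ha => inv_eq_of_mul_eq_one_right (inv a ha)
  obtain ⟨-, hpD, a₀, ha₀, b₀, hb₀, hab, hne, rfl⟩ := hDD
  have hne' : b₀ ≠ a₀ := by
    rintro rfl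
    exact hne (inv b₀ ha₀)
  have hconjg : ∀ a ∈ D, ∀ b ∈ D, Conjg D a b := fun a ha b hb => by
    obtain ⟨g, rfl⟩ := hcl' a ha b hb
    exact ⟨g, hR.generates.symm ▸ Subgroup.mem_top g, rfl⟩
  have hB : Base D := by
    refine ⟨inv, fun a ha h => ?_, ?_, ?_, ?_, ?_⟩
    · have := hR.orderOf_eq a ha
      rw [h, orderOf_one] at this
      omega
    · intro a ha b hb
      have := hR.conj_mem b hb a
      rwa [invself a ha] at this
    · intro a ha b hb
      rcases hR.pair a ha b hb with h | h | ⟨h, -⟩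
      · exact Or.inl h
      · exact Or.inr h
      · exact absurd h (h4 a ha b hb)
    · intro y hy
      obtain ⟨g, rfl⟩ := hcl' a₀ ha₀ y hy
      refine ⟨g * b₀ * g⁻¹, hR.conj_mem b₀ hb₀ g, ?_, (commute_conj_iff g).mpr hab.symm, ?_⟩
      · exact fun h => hne' (mul_left_cancel (mul_right_cancel h))
      · rw [← Cfsg.Agent.Lib.OddTransp84.conj_mul]
        exact hR.conj_mem _ hpD g
    · intro y hy
      by_contra hall
      push Not at hall
      have hc : Subgroup.closure D ≤ Subgroup.centralizer {y} := (Subgroup.closure_le _).mpr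
        fun v hv => Subgroup.mem_centralizer_singleton_iff.mpr (hall v hv).eq
      rw [hR.generates] at hc
      have hy1 : ∀ z ∈ D, z = y := by
        intro z hz
        obtain ⟨g, rfl⟩ := hcl' y hy z hz
        rw [Subgroup.mem_centralizer_singleton_iff.mp (hc (Subgroup.mem_top g)),
          mul_inv_cancel_right]
      exact hne' ((hy1 b₀ hb₀).trans (hy1 a₀ ha₀).symm)
  have hthick : Thick D := by
    by_contra ht
    obtain ⟨v, hv, hvd⟩ := hB.nc d hd
    have key : ∀ y, Relation.ReflTransGen (Cfsg.CommAdj D) d y → y ∈ D ∧ Commute y d := by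
      intro y h
      induction h with
      | refl => exact ⟨hd, Commute.refl d⟩
      | @tail a b _ h2 ih =>
        exact ⟨h2.2.1, trans_of_thin ht h2.2.1 h2.1 hd (Commute.symm h2.2.2.2) ih.2⟩
    exact hvd (key v (hc d hd v hv)).2
  have hStd : Std D := ⟨hB, hR.generates, hthick, hconjg, hO⟩
  have hcls : Cfsg.sameCommutingClass D d = cls D d := by
    ext e
    refine ⟨fun he => ⟨he.1, fun v hv => ?_⟩, fun he => ⟨he.1, ?_⟩⟩
    · have h1 : v ∈ Cfsg.commutingMembers D d ↔ v ∈ Cfsg.commutingMembers D e := by rw [he.2]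
      exact ⟨fun h => (h1.1 ⟨hv, h.eq⟩).2, fun h => (h1.2 ⟨hv, h.eq⟩).2⟩
    · ext v
      exact ⟨fun hv => ⟨hv.1, ((he.2 v hv.1).1 hv.2).eq⟩, fun hv => ⟨hv.1, ((he.2 v hv.1).2 hv.2).eq⟩⟩
  have h1 : (Cfsg.sameCommutingSubgroup D d : Set G) = Cfsg.sameCommutingClass D d ∪ {1} := by
    rw [Cfsg.sameCommutingSubgroup, hcls]
    exact hStd.closure_cls hd
  refine ⟨h1, fun x hx => ?_⟩
  obtain ⟨hxD, hxne, hodd⟩ := hx
  have hndx : ¬ Commute d x := by
    intro hc
    apply hxne
    have h2 : (d * x) ^ 2 = 1 := by rw [hc.mul_pow, pow_two, pow_two, inv d hd, inv x hxD, one_mul]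
    have h3 : orderOf (d * x) = 1 :=
      Nat.Coprime.eq_one_of_dvd (Nat.coprime_two_right.2 hodd) (orderOf_dvd_of_pow_eq_one h2)
    rw [orderOf_eq_one_iff] at h3
    rw [eq_inv_of_mul_eq_one_right h3, invself d hd]
  obtain ⟨F, iF, iT, hF, he⟩ := hStd.iso BenderOne.propSplitFinal hd hxD hndx
  refine ⟨F, iF, iT, ?_, ?_⟩
  · rw [show Nat.card ↥(Cfsg.sameCommutingSubgroup D d)
      = (Cfsg.sameCommutingSubgroup D d : Set G).ncard from Nat.card_coe_set_eq _, h1, hcls,
      Set.union_singleton, Set.ncard_insert_of_notMem (fun h2 => hB.ne _ h2.1 rfl) (Set.toFinite _),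
      hF]
  · rw [hcls]
    exact he

end Cfsg.Agent.S5052
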