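import Cfsg.Statements.S5057
import Mathlib


set_option autoImplicit false
open Cfsg

namespace Cfsg.Agent.S5057

/-- The involutions of the alternating group of degree 6 form a class of root involutions (a single conjugacy class of involutions generating the group, any two of which commute, have product of odd order, or have product of order 4 whose square is again an involution of the class), and the product of any two of them has order at most 5. -/
theorem result :
    Cfsg.IsRootInvolutionClass {g : ↥(alternatingGroup (Fin 6)) | orderOf g = 2} ∧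
    ∀ d ∈ {g : ↥(alternatingGroup (Fin 6)) | orderOf g = 2}, ∀ e ∈ {g : ↥(alternatingGroup (Fin 6)) | orderOf g = 2},
      orderOf (d * e) ≤ 5 := by
  have hpart : ∀ q : Nat.Partition 6, Even q.parts.card → q.parts.lcm ∈ [1, 2, 3, 4, 5] := by
    have dec : ∀ (c₁ : Fin 7) (c₂ : Fin 4) (c₃ : Fin 3) (c₄ c₅ c₆ : Fin 2),
        (c₁ : ℕ) + 2 * (c₂ : ℕ) + 3 * (c₃ : ℕ) + 4 * (c₄ : ℕ) + 5 * (c₅ : ℕ) + 6 * (c₆ : ℕ) = 6 →
        ((c₁ : ℕ) + c₂ + c₃ + c₄ + c₅ + c₆) % 2 = 0 →
        (Multiset.replicate (c₁ : ℕ) 1 + Multiset.replicate (c₂ : ℕ) 2 +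
          Multiset.replicate (c₃ : ℕ) 3 + Multiset.replicate (c₄ : ℕ) 4 +
          Multiset.replicate (c₅ : ℕ) 5 + Multiset.replicate (c₆ : ℕ) 6).lcm ∈ [1, 2, 3, 4, 5] := by
      decide +kernel
    intro q hev
    have hs : q.parts = Multiset.replicate (q.parts.count 1) 1 + Multiset.replicate (q.parts.count 2) 2 +
        Multiset.replicate (q.parts.count 3) 3 + Multiset.replicate (q.parts.count 4) 4 +
        Multiset.replicate (q.parts.count 5) 5 + Multiset.replicate (q.parts.count 6) 6 := by
      ext i
      simp only [Multiset.count_add, Multiset.count_replicate]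
      by_cases hi : i ∈ q.parts
      · have h1 := q.parts_pos hi
        have h2 : i ≤ 6 := q.parts_sum ▸ Multiset.le_sum_of_mem hi
        interval_cases i <;> simp
      · have hz : ∀ j, (if j = i then q.parts.count j else 0) = 0 := by
          intro j
          split_ifs with h
          · rw [h, Multiset.count_eq_zero.mpr hi]
          · rfl
        simp only [hz, Multiset.count_eq_zero.mpr hi, add_zero]
    have hsum := q.parts_sum
    generalize q.parts.count 1 = c₁ at hs
    generalize q.parts.count 2 = c₂ at hs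
    generalize q.parts.count 3 = c₃ at hs
    generalize q.parts.count 4 = c₄ at hs
    generalize q.parts.count 5 = c₅ at hs
    generalize q.parts.count 6 = c₆ at hs
    rw [hs] at hev hsum ⊢
    simp only [Multiset.card_add, Multiset.card_replicate] at hev
    simp only [Multiset.sum_add, Multiset.sum_replicate, smul_eq_mul] at hsum
    exact dec ⟨_, by omega⟩ ⟨_, by omega⟩ ⟨_, by omega⟩ ⟨_, by omega⟩ ⟨_, by omega⟩ ⟨_, by omega⟩
      (by simp only; omega) (Nat.even_iff.mp hev)
  have hord : ∀ g : ↥(alternatingGroup (Fin 6)), orderOf g ∈ [1, 2, 3, 4, 5] := by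
    rintro ⟨g, hg⟩
    rw [← Subgroup.orderOf_coe, ← Equiv.Perm.lcm_cycleType]
    have hs := Equiv.Perm.mem_alternatingGroup.mp hg
    rw [Equiv.Perm.sign_of_cycleType, neg_one_pow_eq_one_iff_even (by decide),
      Equiv.Perm.sum_cycleType] at hs
    have hle : g.support.card ≤ 6 := le_trans (Finset.card_le_univ _) (by simp)
    have key : ∀ (n : ℕ), n = 6 → ∀ q : Nat.Partition n, Even q.parts.card →
        q.parts.lcm ∈ [1, 2, 3, 4, 5] := by
      rintro n rfl; exact hpart
    have := key _ (Fintype.card_fin 6) g.partition (by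
      rw [Equiv.Perm.parts_partition, Multiset.card_add, Multiset.card_replicate, Fintype.card_fin]
      obtain ⟨t, ht⟩ := hs
      exact ⟨3 + t - g.support.card, by omega⟩)
    have hrep : ∀ k : ℕ, (Multiset.replicate k 1).lcm = 1 := by
      intro k; induction k with
      | zero => simp
      | succ k ih => rw [Multiset.replicate_succ, Multiset.lcm_cons, ih]; rfl
    rwa [Equiv.Perm.parts_partition, Multiset.lcm_add, hrep, show ∀ a : ℕ, GCDMonoid.lcm a 1 = a from
      fun a => Nat.lcm_one_right a] at this
  have hle5 : ∀ g : ↥(alternatingGroup (Fin 6)), orderOf g ≤ 5 := fun g => by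
    have := hord g
    simp only [List.mem_cons, List.not_mem_nil, or_false] at this
    omega
  have hc : ∀ (d g : ↥(alternatingGroup (Fin 6))), orderOf (g * d * g⁻¹) = orderOf d := fun d g =>
    MulEquiv.orderOf_eq (MulAut.conj g) d
  have hgen : Subgroup.closure {g : ↥(alternatingGroup (Fin 6)) | orderOf g = 2} = ⊤ := by
    haveI := alternatingGroup.isSimpleGroup (α := Fin 6) (by simp)
    have hn : (Subgroup.closure {g : ↥(alternatingGroup (Fin 6)) | orderOf g = 2}).Normal := by
      refine ⟨fun x hx g => ?_⟩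
      have hle : Subgroup.closure {g : ↥(alternatingGroup (Fin 6)) | orderOf g = 2} ≤
          (Subgroup.closure {g : ↥(alternatingGroup (Fin 6)) | orderOf g = 2}).comap
            (MulAut.conj g).toMonoidHom := by
        rw [Subgroup.closure_le]
        intro d hd
        exact Subgroup.subset_closure ((hc d g).trans hd)
      exact hle hx
    refine (IsSimpleGroup.eq_bot_or_eq_top_of_normal _ hn).resolve_left fun e => ?_
    have hm : (⟨Equiv.swap 0 1 * Equiv.swap 2 3, by
        rw [Equiv.Perm.mem_alternatingGroup]; decide⟩ : ↥(alternatingGroup (Fin 6))) ∈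
        Subgroup.closure {g : ↥(alternatingGroup (Fin 6)) | orderOf g = 2} := by
      refine Subgroup.subset_closure (orderOf_eq_prime (p := 2) (Subtype.ext ?_) ?_)
      · show (Equiv.swap (0 : Fin 6) 1 * Equiv.swap 2 3) ^ 2 = 1
        decide
      · intro h
        exact absurd (congrArg Subtype.val h)
          (show Equiv.swap (0 : Fin 6) 1 * Equiv.swap 2 3 ≠ 1 by decide)
    rw [e, Subgroup.mem_bot] at hm
    exact absurd (congrArg Subtype.val hm)
      (show Equiv.swap (0 : Fin 6) 1 * Equiv.swap 2 3 ≠ 1 by decide)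
  refine ⟨⟨⟨fun d hd => hd, hgen, fun d hd g => (hc d g).trans hd, fun a ha b hb => ?_⟩, ?_, ?_⟩,
    fun d _ e _ => hle5 _⟩
  · have hinv : ∀ x : ↥(alternatingGroup (Fin 6)), orderOf x = 2 → x⁻¹ = x := fun x hx => by
      refine inv_eq_of_mul_eq_one_right ?_
      rw [← sq, ← hx, pow_orderOf_eq_one]
    have ho := hord (a * b)
    simp only [List.mem_cons, List.not_mem_nil, or_false] at ho
    rcases ho with h | h | h | h | h
    · exact Or.inr (Or.inl (by rw [h]; decide))
    · refine Or.inl ?_
      have := hinv _ h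
      rw [mul_inv_rev, hinv a ha, hinv b hb] at this
      exact this.symm
    · exact Or.inr (Or.inl (by rw [h]; decide))
    · refine Or.inr (Or.inr ⟨h, ?_⟩)
      show orderOf ((a * b) ^ 2) = 2
      rw [orderOf_pow' _ (by norm_num), h]; norm_num
    · exact Or.inr (Or.inl (by rw [h]; decide))
  · by_contra hempty
    rw [Set.not_nonempty_iff_eq_empty] at hempty
    rw [hempty, Subgroup.closure_empty] at hgen
    haveI := alternatingGroup.isSimpleGroup (α := Fin 6) (by simp)
    exact bot_ne_top hgen
  · have ct : ∀ x : ↥(alternatingGroup (Fin 6)), orderOf x = 2 →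
        (x : Equiv.Perm (Fin 6)).cycleType = Multiset.replicate 2 2 := by
      rintro ⟨x, hx⟩ h
      rw [← Subgroup.orderOf_coe] at h
      obtain ⟨n, hn⟩ := Equiv.Perm.cycleType_prime_order (σ := x) (by rw [h]; norm_num)
      rw [h] at hn
      have hs := Equiv.Perm.mem_alternatingGroup.mp hx
      rw [Equiv.Perm.sign_of_cycleType, hn, neg_one_pow_eq_one_iff_even (by decide),
        Multiset.sum_replicate, Multiset.card_replicate] at hs
      have h6 : x.cycleType.sum ≤ 6 :=
        (Equiv.Perm.sum_cycleType x).le.trans ((Finset.card_le_univ _).trans (by simp))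
      rw [hn, Multiset.sum_replicate] at h6
      simp only [smul_eq_mul] at hs h6
      obtain ⟨t, ht⟩ := hs
      obtain rfl : n = 1 := by omega
      exact hn
    intro a ha b hb
    obtain ⟨g, hg⟩ := isConj_iff.mp (Equiv.Perm.isConj_iff_cycleType_eq.mpr
      ((ct a ha).trans (ct b hb).symm))
    rcases Int.units_eq_one_or (Equiv.Perm.sign g) with hs | hs
    · exact ⟨⟨g, Equiv.Perm.mem_alternatingGroup.mpr hs⟩, Subtype.ext hg.symm⟩
    obtain ⟨x, hx⟩ : ∃ x, (a : Equiv.Perm (Fin 6)) x ≠ x := by
      by_contra hall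
      push Not at hall
      have : (a : Equiv.Perm (Fin 6)) = 1 := Equiv.ext hall
      have h2 : orderOf (a : Equiv.Perm (Fin 6)) = 2 := (Subgroup.orderOf_coe a).trans ha
      rw [this, orderOf_one] at h2
      omega
    have hsq : (a : Equiv.Perm (Fin 6)) * (a : Equiv.Perm (Fin 6)) = 1 := by
      have h2 : orderOf (a : Equiv.Perm (Fin 6)) = 2 := (Subgroup.orderOf_coe a).trans ha
      rw [← sq, ← h2, pow_orderOf_eq_one]
    have hcomm : (a : Equiv.Perm (Fin 6)) * Equiv.swap x ((a : Equiv.Perm (Fin 6)) x) *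
        (a : Equiv.Perm (Fin 6))⁻¹ = Equiv.swap x ((a : Equiv.Perm (Fin 6)) x) := by
      rw [← Equiv.swap_apply_apply, ← Equiv.Perm.mul_apply, hsq, Equiv.Perm.one_apply,
        Equiv.swap_comm]
    refine ⟨⟨g * Equiv.swap x ((a : Equiv.Perm (Fin 6)) x), Equiv.Perm.mem_alternatingGroup.mpr ?_⟩,
      Subtype.ext ?_⟩
    · rw [map_mul, hs, Equiv.Perm.sign_swap (Ne.symm hx)]; rfl
    · show (b : Equiv.Perm (Fin 6)) = g * Equiv.swap x _ * a * (g * Equiv.swap x _)⁻¹
      rw [mul_inv_eq_iff_eq_mul] at hcomm
      rw [← hg, mul_inv_rev, mul_assoc g _ (a : Equiv.Perm (Fin 6)), ← hcomm]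
      group

end Cfsg.Agent.S5057
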