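import Cfsg.Statements.S5058
import Cfsg.Agent.Lib.RootModels.SLPairs

set_option autoImplicit false
open Matrix
open Cfsg

namespace Cfsg.Agent.S5058


open Cfsg.Agent.Lib.RootModels Cfsg.Agent.Lib.RootModels.SLPairs Cfsg.Agent.Lib.TransvectionClass
open Polynomial

variable {F : Type*} [Field F] {n : ℕ}

local notation "SL" => Matrix.SpecialLinearGroup (Fin n) F

/-- The transvections of `SL_n`. -/
def trans (n : ℕ) (F : Type*) [Field F] : Set (Matrix.SpecialLinearGroup (Fin n) F) :=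
  {t | ∃ v φ, IsPair v φ ∧ (t : Matrix (Fin n) (Fin n) F) = tm v φ}

theorem cubic {v φ w ψ : Fin n → F} (hv : φ ⬝ᵥ v = 0) (hw : ψ ⬝ᵥ w = 0)
    (X : Matrix (Fin n) (Fin n) F) (hX : X = tm v φ * tm w ψ - 1) :
    X * (X * X) - ((φ ⬝ᵥ w) * (ψ ⬝ᵥ v)) • (X * X) - ((φ ⬝ᵥ w) * (ψ ⬝ᵥ v)) • X = 0 := by
  subst hX
  simp only [tm, mul_add, add_mul, mul_sub, sub_mul, one_mul, mul_one, smul_mul_assoc, mul_smul_comm,
    vecMulVec_mul_vecMulVec, hv, hw, zero_smul, smul_zero, vecMulVec_zero, smul_vecMulVec,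
    vecMulVec_smul, smul_smul, smul_add, smul_sub, add_zero, zero_add, mul_zero]
  module

section
variable [CharP F 2]

theorem two_zero : (2 : F) = 0 := CharTwo.two_eq_zero

theorem sq_one {a : SL} (ha : a ∈ trans n F) : a * a = 1 := by
  obtain ⟨v, φ, h, e⟩ := ha
  refine Subtype.ext ?_
  rw [coe_mul', e, tm_add h.2.2, ← two_smul F v, two_zero, zero_smul, tm_zero]
  rfl

theorem ne_one {a : SL} (ha : a ∈ trans n F) : a ≠ 1 := by
  obtain ⟨v, φ, h, e⟩ := ha
  rintro rfl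
  obtain ⟨z, hz⟩ := exists_dot_eq_one h.2.1
  have h1 := congrArg (fun M : Matrix (Fin n) (Fin n) F => M *ᵥ z) e
  simp only [coe_one', one_mulVec, tm_mulVec, hz, one_smul, left_eq_add] at h1
  exact h.1 h1

theorem orderOf_two {a : SL} (ha : a ∈ trans n F) : orderOf a = 2 :=
  orderOf_eq_prime (by rw [sq]; exact sq_one ha) (ne_one ha)

theorem half {a b : SL} {v φ w ψ : Fin n → F} (hv : IsPair v φ) (hw : IsPair w ψ)
    (ha : (a : Matrix (Fin n) (Fin n) F) = tm v φ) (hb : (b : Matrix (Fin n) (Fin n) F) = tm w ψ)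
    (h1 : φ ⬝ᵥ w ≠ 0) (h2 : ψ ⬝ᵥ v = 0) :
    orderOf (a * b) = 4 ∧ (a * b) ^ 2 ∈ trans n F := by
  let t : SL := tv (dot_smul h2 (φ ⬝ᵥ w))
  have ht : t ∈ trans n F :=
    ⟨(φ ⬝ᵥ w) • v, ψ, ⟨smul_ne_zero h1 hv.1, hw.2.1, dot_smul h2 _⟩, rfl⟩
  have haa := sq_one ⟨v, φ, hv, ha⟩
  have hbb := sq_one ⟨w, ψ, hw, hb⟩
  have e : a * b = t * (b * a) := Subtype.ext (by
    rw [coe_mul', coe_mul', coe_mul', ha, hb]
    exact tm_swap h2 hw.2.2)
  have e2 : (a * b) ^ 2 = t := by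
    calc (a * b) ^ 2 = t * (b * a) * (a * b) := by rw [sq]; nth_rw 1 [e]
      _ = t * (b * (a * a) * b) := by group
      _ = t := by rw [haa, mul_one, hbb, mul_one]
  have : Fact (Nat.Prime 2) := ⟨Nat.prime_two⟩
  refine ⟨orderOf_eq_prime_pow (p := 2) (n := 1) ?_ ?_, e2 ▸ ht⟩
  · rw [pow_one, e2]; exact ne_one ht
  · rw [show 2 ^ (1 + 1) = 2 * 2 from rfl, pow_mul, e2, sq]; exact sq_one ht

theorem quadratic {a b : SL} {v φ w ψ : Fin n → F} (hv : IsPair v φ) (hw : IsPair w ψ)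
    (ha : (a : Matrix (Fin n) (Fin n) F) = tm v φ) (hb : (b : Matrix (Fin n) (Fin n) F) = tm w ψ) :
    aeval ((a * b : SL) : Matrix (Fin n) (Fin n) F)
      ((X + 1) * (X ^ 2 + C ((φ ⬝ᵥ w) * (ψ ⬝ᵥ v)) * X + 1) : F[X]) = 0 := by
  set τ := (φ ⬝ᵥ w) * (ψ ⬝ᵥ v)
  set g := ((a * b : SL) : Matrix (Fin n) (Fin n) F)
  have hg : g = tm v φ * tm w ψ := by rw [← ha, ← hb]; rfl
  have h := cubic hv.2.2 hw.2.2 (g - 1) (by rw [hg])
  simp only [map_mul, map_add, map_one, aeval_X, aeval_X_pow, aeval_C, Algebra.algebraMap_eq_smul_one]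
  rw [← h]
  simp only [sq, mul_add, add_mul, mul_sub, sub_mul, one_mul, mul_one, smul_mul_assoc, mul_smul_comm,
    smul_sub, smul_add, Matrix.mul_assoc]
  match_scalars <;>
    first
      | ring1
      | linear_combination (two_zero (F := F))
      | linear_combination τ * (two_zero (F := F))
      | linear_combination (-τ) * (two_zero (F := F))
      | linear_combination (2 : F) * (two_zero (F := F))
      | linear_combination (-1 : F) * (two_zero (F := F))
      | linear_combination (1 + τ) * (two_zero (F := F))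
      | linear_combination (1 - τ) * (two_zero (F := F))
      | linear_combination (1 + 2 * τ) * (two_zero (F := F))
      | linear_combination (2 + τ) * (two_zero (F := F))
      | linear_combination (2 - τ) * (two_zero (F := F))
      | linear_combination (-2 - τ) * (two_zero (F := F))
      | linear_combination (-1 - 2 * τ) * (two_zero (F := F))

theorem odd_full [Finite F] {a b : SL} {v φ w ψ : Fin n → F} (hv : IsPair v φ) (hw : IsPair w ψ)
    (ha : (a : Matrix (Fin n) (Fin n) F) = tm v φ) (hb : (b : Matrix (Fin n) (Fin n) F) = tm w ψ)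
    (h1 : φ ⬝ᵥ w ≠ 0) (h2 : ψ ⬝ᵥ v ≠ 0) : Odd (orderOf (a * b)) := by
  set τ := (φ ⬝ᵥ w) * (ψ ⬝ᵥ v)
  have hτ : τ ≠ 0 := mul_ne_zero h1 h2
  set p : F[X] := (X + 1) * (X ^ 2 + C τ * X + 1) with hp
  have h22 : (2 : F[X]) = 0 := by rw [← map_ofNat C 2, two_zero, map_zero]
  have hC : C τ⁻¹ * C τ = (1 : F[X]) := by rw [← C_mul, inv_mul_cancel₀ hτ, C_1]
  have hsep : p.Separable := by
    refine ⟨C τ⁻¹ ^ 2, C τ⁻¹ ^ 2 * (X + C τ + 1), ?_⟩
    simp only [hp, derivative_mul, derivative_add, derivative_X, derivative_one, derivative_X_pow,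
      derivative_C, zero_mul, add_zero, zero_add, mul_one, one_mul, Nat.cast_ofNat, map_ofNat,
      Nat.add_one_sub_one, pow_one]
    linear_combination (C τ⁻¹ ^ 2 * (2 * X ^ 3 + 3 * (C τ + 1) * X ^ 2 + (C τ + 1) * X +
      (C τ + 1) ^ 2 * X + C τ + 1)) * h22 + (1 + C τ⁻¹ * C τ) * hC
  set g := ((a * b : SL) : Matrix (Fin n) (Fin n) F) with hg
  have hsq : Squarefree (minpoly F g) :=
    hsep.squarefree.squarefree_of_dvd (minpoly.dvd F g (quadratic hv hw ha hb))
  have hpow : ∀ m : ℕ, (((a * b) ^ m : SL) : Matrix (Fin n) (Fin n) F) = g ^ m := fun m => by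
    induction m with
    | zero => rw [pow_zero, pow_zero]; rfl
    | succ m ih => rw [pow_succ, coe_mul', ih, pow_succ]
  rw [← Nat.not_even_iff_odd]
  intro he
  obtain ⟨m, hm⟩ := he
  have hN : 0 < orderOf (a * b) := orderOf_pos _
  have h1' : g ^ (m + m) = 1 := by rw [← hpow, ← hm, pow_orderOf_eq_one]; rfl
  have hd : minpoly F g ∣ (X ^ m + 1) ^ 2 := minpoly.dvd F g (by
    have : ((X ^ m + 1) ^ 2 : F[X]) = X ^ (m + m) + 1 := by
      linear_combination (X ^ m) * h22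
    rw [this, map_add, map_one, aeval_X_pow, h1', ← two_smul F (1 : Matrix (Fin n) (Fin n) F),
      two_zero, zero_smul])
  have h3 := aeval_eq_zero_of_dvd_aeval_eq_zero (hsq.isRadical 2 _ hd) (minpoly.aeval F g)
  rw [map_add, map_one, aeval_X_pow] at h3
  have h4 : (a * b) ^ m = 1 := Subtype.ext (by
    rw [hpow, coe_one', eq_neg_of_add_eq_zero_left h3, neg_eq_iff_add_eq_zero,
      ← two_smul F (1 : Matrix (Fin n) (Fin n) F), two_zero, zero_smul])
  have := Nat.le_of_dvd (by omega) (orderOf_dvd_of_pow_eq_one h4)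
  omega

theorem three [Finite F] (hF : ∀ x : F, x ≠ 0 → x = 1) {a b : SL} {v φ w ψ : Fin n → F}
    (hv : IsPair v φ) (hw : IsPair w ψ) (ha : (a : Matrix (Fin n) (Fin n) F) = tm v φ)
    (hb : (b : Matrix (Fin n) (Fin n) F) = tm w ψ) (h1 : φ ⬝ᵥ w ≠ 0) (h2 : ψ ⬝ᵥ v ≠ 0) :
    (a * b) ^ 3 = 1 := by
  have h := quadratic hv hw ha hb
  have h22 : (2 : F[X]) = 0 := by rw [← map_ofNat C 2, two_zero, map_zero]
  have hp : ((X + 1) * (X ^ 2 + C ((φ ⬝ᵥ w) * (ψ ⬝ᵥ v)) * X + 1) : F[X]) = X ^ 3 + 1 := by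
    rw [hF _ (mul_ne_zero h1 h2), C_1]
    linear_combination (X ^ 2 + X) * h22
  rw [hp, map_add, map_one, aeval_X_pow] at h
  refine Subtype.ext ?_
  have e : (((a * b) ^ 3 : SL) : Matrix (Fin n) (Fin n) F) =
      ((a * b : SL) : Matrix (Fin n) (Fin n) F) ^ 3 := by
    simp only [pow_succ, pow_zero, one_mul, coe_mul']
  rw [e, coe_one', eq_neg_of_add_eq_zero_left h, neg_eq_iff_add_eq_zero,
    ← two_smul F (1 : Matrix (Fin n) (Fin n) F), two_zero, zero_smul]

theorem comm_of_zero {a b : SL} {v φ w ψ : Fin n → F}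
    (ha : (a : Matrix (Fin n) (Fin n) F) = tm v φ) (hb : (b : Matrix (Fin n) (Fin n) F) = tm w ψ)
    (h1 : φ ⬝ᵥ w = 0) (h2 : ψ ⬝ᵥ v = 0) : a * b = b * a :=
  Subtype.ext (by rw [coe_mul', coe_mul', ha, hb]; exact tm_comm h1 h2)

theorem cases [Finite F] {a b : SL} (ha : a ∈ trans n F) (hb : b ∈ trans n F) :
    a * b = b * a ∨ (Odd (orderOf (a * b)) ∧ ((∀ x : F, x ≠ 0 → x = 1) → (a * b) ^ 3 = 1)) ∨
      (orderOf (a * b) = 4 ∧ (a * b) ^ 2 ∈ trans n F) := by
  obtain ⟨v, φ, hv, hav⟩ := ha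
  obtain ⟨w, ψ, hw, hbw⟩ := hb
  by_cases h1 : φ ⬝ᵥ w = 0 <;> by_cases h2 : ψ ⬝ᵥ v = 0
  · exact Or.inl (comm_of_zero hav hbw h1 h2)
  · obtain ⟨h, h'⟩ := half hw hv hbw hav h2 h1
    have e : a * b = (b * a)⁻¹ := by
      rw [_root_.mul_inv_rev, inv_eq_of_mul_eq_one_right (sq_one ⟨v, φ, hv, hav⟩),
        inv_eq_of_mul_eq_one_right (sq_one ⟨w, ψ, hw, hbw⟩)]
    exact Or.inr (Or.inr ⟨by rw [e, orderOf_inv, h], by
      rw [e, inv_pow, inv_eq_of_mul_eq_one_right (sq_one h')]; exact h'⟩)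
  · exact Or.inr (Or.inr (half hv hw hav hbw h1 h2))
  · exact Or.inr (Or.inl ⟨odd_full hv hw hav hbw h1 h2,
      fun hF => three hF hv hw hav hbw h1 h2⟩)

theorem rootInvolutionSet [Finite F] : IsRootInvolutionSet (trans n F) := by
  refine ⟨fun d hd => orderOf_two hd, ?_, ?_, fun a ha b hb => ?_⟩
  · refine Lib.Linear.sl_eq_top_of_transvection_mem _ fun i j hij c => ?_
    by_cases hc : c = 0
    · rw [hc, show Matrix.SpecialLinearGroup.transvection hij (0 : F) = 1 from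
        Subtype.ext (by simp [Matrix.SpecialLinearGroup.transvection_coe, transvection_zero, coe_one'])]
      exact one_mem _
    · exact Subgroup.subset_closure ⟨c • Pi.single i 1, Pi.single j 1,
        ⟨smul_ne_zero hc (single_pair hij).1, (single_pair hij).2.1, dot_smul (single_pair hij).2.2 c⟩,
        by rw [Matrix.SpecialLinearGroup.transvection_coe]; exact transvection_eq c⟩
  · rintro d ⟨v, φ, hv, e⟩ g
    refine ⟨_, _, pair_map hv g, ?_⟩
    rw [conj_tv g (c := (1 : F)) (v := v) (φ := φ) (by rw [one_smul]; exact e), one_smul]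
  · rcases cases ha hb with h | h | h
    · exact Or.inl h
    · exact Or.inr (Or.inl h.1)
    · exact Or.inr (Or.inr h)

theorem threeFourPlus [Finite F] (hF : ∀ x : F, x ≠ 0 → x = 1) :
    IsThreeFourPlusTranspositionSet (trans n F) := by
  refine ⟨rootInvolutionSet, fun a ha b hb hodd => ?_⟩
  rcases cases ha hb with h | h | h
  · left
    have h2 : (a * b) ^ 2 = 1 := by
      rw [sq]; nth_rw 2 [h]
      rw [mul_assoc, ← mul_assoc b, sq_one hb, one_mul, sq_one ha]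
    rcases (Nat.dvd_prime Nat.prime_two).mp (orderOf_dvd_of_pow_eq_one h2) with h3 | h3
    · exact h3
    · rw [h3] at hodd; exact absurd hodd (by decide)
  · exact (Nat.dvd_prime Nat.prime_three).mp (orderOf_dvd_of_pow_eq_one (h.2 hF))
  · rw [h.1] at hodd; exact absurd hodd (by decide)

theorem conj_class (hn : 3 ≤ n) :
    ∀ a ∈ trans n F, ∀ b ∈ trans n F, ∃ g : SL, b = g * a * g⁻¹ := by
  rintro a ⟨v, φ, hv, ea⟩ b ⟨w, ψ, hw, eb⟩
  obtain ⟨g, h1, h2⟩ := exists_sl_map hn hv hw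
  refine ⟨g, Subtype.ext ?_⟩
  rw [conj_tv g (c := (1 : F)) (v := v) (φ := φ) (by rw [one_smul]; exact ea), one_smul, h1, h2, eb]

end

theorem set_eq (hn : 3 ≤ n) {i j : Fin n} (hij : i ≠ j) :
    {t : SL | ∃ c : F, c ≠ 0 ∧ ∃ g : SL, ((g⁻¹ * t * g : SL) : Matrix (Fin n) (Fin n) F) =
      Matrix.transvection i j c} = trans n F := by
  ext t
  constructor
  · rintro ⟨c, hc, g, hg⟩
    have hp : IsPair (c • Pi.single i (1 : F)) (Pi.single j (1 : F)) :=
      ⟨smul_ne_zero hc (single_pair hij).1, (single_pair hij).2.1, dot_smul (single_pair hij).2.2 c⟩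
    refine ⟨_, _, pair_map hp g, ?_⟩
    have h := conj_tv g (c := (1 : F)) (v := c • Pi.single i (1 : F)) (φ := Pi.single j (1 : F))
      (t := g⁻¹ * t * g) (by rw [one_smul, hg]; exact transvection_eq c)
    rwa [one_smul, show g * (g⁻¹ * t * g) * g⁻¹ = t by group] at h
  · rintro ⟨v, φ, hv, ht⟩
    obtain ⟨g, h1, h2⟩ := exists_sl_map hn hv (single_pair (k := F) hij)
    refine ⟨1, one_ne_zero, g⁻¹, ?_⟩
    rw [inv_inv, conj_tv g (c := (1 : F)) (v := v) (φ := φ) (by rw [one_smul]; exact ht), h1, h2]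
    exact (transvection_eq (1 : F)).symm

/-- Let F be a finite field of characteristic 2 and n a natural number. Then the transvections of SL_{n+3}(F) (so in every dimension at least 3) (the conjugates of the elementary matrices 1 + c E₁₂, c ≠ 0) form a class of root involutions of SL_{n+3}(F); when F has two elements they form a class of {3,4}⁺-transpositions (every product of odd order has order 1 or 3). -/
theorem result (F : Type*) [Field F] [Fintype F] [CharP F 2] (n : ℕ) :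
    Cfsg.IsRootInvolutionClass {t : Matrix.SpecialLinearGroup (Fin (n + 3)) F | ∃ c : F, c ≠ 0 ∧
        ∃ g : Matrix.SpecialLinearGroup (Fin (n + 3)) F, ((g⁻¹ * t * g : Matrix.SpecialLinearGroup (Fin (n + 3)) F) :
          Matrix (Fin (n + 3)) (Fin (n + 3)) F) = Matrix.transvection 0 1 c} ∧
    (Fintype.card F = 2 → Cfsg.IsThreeFourPlusTranspositionSet {t : Matrix.SpecialLinearGroup (Fin (n + 3)) F | ∃ c : F, c ≠ 0 ∧
        ∃ g : Matrix.SpecialLinearGroup (Fin (n + 3)) F, ((g⁻¹ * t * g : Matrix.SpecialLinearGroup (Fin (n + 3)) F) :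
          Matrix (Fin (n + 3)) (Fin (n + 3)) F) = Matrix.transvection 0 1 c}) := by
  have hn : 3 ≤ n + 3 := by omega
  rw [set_eq hn (i := (0 : Fin (n + 3))) (j := 1) (by simp [Fin.ext_iff])]
  refine ⟨⟨rootInvolutionSet, ?_, conj_class hn⟩, fun hq => threeFourPlus fun x hx => ?_⟩
  · exact ⟨tv (single_pair (k := F) (show (0 : Fin (n + 3)) ≠ 1 by simp [Fin.ext_iff])).2.2,
      _, _, single_pair (show (0 : Fin (n + 3)) ≠ 1 by simp [Fin.ext_iff]), rfl⟩
  · have h := FiniteField.pow_card_sub_one_eq_one x hx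
    rw [hq] at h
    simpa using h

end Cfsg.Agent.S5058
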