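import Cfsg.Statements.S5059
import Mathlib


set_option autoImplicit false
universe u
open Cfsg

namespace Cfsg.Agent.S5059

/-- Let k be a field of characteristic not 2 with k not of order 3, M a finite-dimensional k-vector space and G ≤ GL(M) such that (G, M) is a quadratic pair (M irreducible for G, and G generated by its quadratically acting elements σ whose scalar family 1 + c(σ − 1), c ∈ k, lies in G). Write 𝒬_d for the quadratic elements of G of minimal commutator rank, E(σ) for the subgroup generated by the members of 𝒬_d with the same fixed space and commutator space as σ, and Σ for the set of these subgroups. Then for σ ∈ 𝒬_d the subgroup E(σ) consists exactly of those members together with the identity, it is abelian, and if k has prime characteristic p every element of E(σ) has order dividing p. -/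
theorem result {k : Type u} [Field k] (hk2 : ringChar k ≠ 2) (hk3 : Nat.card k ≠ 3)
    {M : Type u} [AddCommGroup M] [Module k M] [FiniteDimensional k M]
    {G : Subgroup (LinearMap.GeneralLinearGroup k M)} (hG : Cfsg.IsQuadraticPair G)
    {σ : LinearMap.GeneralLinearGroup k M} (hσ : σ ∈ Cfsg.minimalQuadraticElements G) :
    (Cfsg.sameActionSubgroup G σ : Set (LinearMap.GeneralLinearGroup k M)) = Cfsg.sameActionClass G σ ∪ {1} ∧
    IsMulCommutative ↥(Cfsg.sameActionSubgroup G σ) ∧
    (∀ p : ℕ, p.Prime → ringChar k = p → ∀ x ∈ Cfsg.sameActionSubgroup G σ, x ^ p = 1) := by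
  classical
  set N : LinearMap.GeneralLinearGroup k M → (M →ₗ[k] M) := fun x => (x : M →ₗ[k] M) - 1 with hN
  set U := LinearMap.ker (N σ) with hU
  set W := LinearMap.range (N σ) with hW
  have hWU : W ≤ U := by
    rintro _ ⟨m, rfl⟩
    exact LinearMap.mem_ker.mpr (by
      have := LinearMap.congr_fun hσ.1.2.1.1 m
      simpa [hN] using this)
  let T : Set (LinearMap.GeneralLinearGroup k M) :=
    {x | x ∈ G ∧ U ≤ LinearMap.ker (N x) ∧ LinearMap.range (N x) ≤ W ∧
      ∀ c : k, ∀ τ : LinearMap.GeneralLinearGroup k M, (τ : M →ₗ[k] M) = 1 + c • N x → τ ∈ G}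
  have prod0 : ∀ x ∈ T, ∀ y ∈ T, N x * N y = 0 := fun x hx y hy => LinearMap.ext fun m =>
    LinearMap.mem_ker.mp (hx.2.1 (hWU (hy.2.2.1 ⟨m, rfl⟩)))
  have Nmul : ∀ x ∈ T, ∀ y ∈ T, N (x * y) = N x + N y := by
    intro x hx y hy
    have h : N (x * y) = N x + N y + N x * N y := by
      simp only [hN, Units.val_mul, mul_sub, sub_mul, one_mul, mul_one]; abel
    rw [h, prod0 x hx y hy, add_zero]
  have memT : ∀ x ∈ T, x ≠ 1 → x ∈ sameActionClass G σ := by
    intro x hx hx1
    have hq : x ∈ quadraticElements G := ⟨hx.1, ⟨prod0 x hx x hx, fun e => hx1 (Units.ext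
      (sub_eq_zero.mp e))⟩, fun τ ⟨c, hc⟩ => hx.2.2.2 c τ hc⟩
    have hle : commutatorRank σ ≤ commutatorRank x := hσ.2 x hq
    have hr : LinearMap.range (N x) = W := Submodule.eq_of_le_of_finrank_le hx.2.2.1 hle
    refine ⟨⟨hq, fun τ hτ => ?_⟩, ?_, hr⟩
    · refine le_trans (le_of_eq ?_) (hσ.2 τ hτ)
      show Module.finrank k (LinearMap.range (N x)) = Module.finrank k W
      rw [hr]
    · refine (Submodule.eq_of_le_of_finrank_le hx.2.1 ?_).symm
      have h1 := LinearMap.finrank_range_add_finrank_ker (N x)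
      have h2 := LinearMap.finrank_range_add_finrank_ker (N σ)
      rw [hr] at h1
      rw [← hU, ← hW] at h2
      omega
  have classT : ∀ x ∈ sameActionClass G σ, x ∈ T := fun x hx =>
    ⟨hx.1.1.1, ge_of_eq hx.2.1, le_of_eq hx.2.2, fun c τ hc => hx.1.1.2.2 ⟨c, hc⟩⟩
  have oneT : (1 : LinearMap.GeneralLinearGroup k M) ∈ T := by
    refine ⟨one_mem G, by simp [hN], by simp [hN], fun c τ hc => ?_⟩
    rw [show τ = 1 from Units.ext (by simpa [hN] using hc)]
    exact one_mem G
  have unit : ∀ x ∈ T, ∀ c : k, ∃ τ ∈ G, (τ : M →ₗ[k] M) = 1 + c • N x := by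
    intro x hx c
    have h0 : N x * N x = 0 := prod0 x hx x hx
    have e1 : (1 + c • N x) * (1 - c • N x) = 1 := by
      simp [mul_sub, add_mul, smul_mul_smul_comm, h0]
    have e2 : (1 - c • N x) * (1 + c • N x) = 1 := by
      simp [mul_add, sub_mul, smul_mul_smul_comm, h0]
    exact ⟨⟨_, _, e1, e2⟩, hx.2.2.2 c _ rfl, rfl⟩
  have mulT : ∀ x ∈ T, ∀ y ∈ T, x * y ∈ T := by
    intro x hx y hy
    refine ⟨mul_mem hx.1 hy.1, ?_, ?_, fun c τ hc => ?_⟩
    · rw [Nmul x hx y hy]
      intro m hm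
      rw [LinearMap.mem_ker, LinearMap.add_apply, LinearMap.mem_ker.mp (hx.2.1 hm),
        LinearMap.mem_ker.mp (hy.2.1 hm), add_zero]
    · rw [Nmul x hx y hy]
      rintro _ ⟨m, rfl⟩
      exact W.add_mem (hx.2.2.1 ⟨m, rfl⟩) (hy.2.2.1 ⟨m, rfl⟩)
    · obtain ⟨a, ha, ea⟩ := unit x hx c
      obtain ⟨b, hb, eb⟩ := unit y hy c
      rw [show τ = a * b from Units.ext (by
        rw [hc, Units.val_mul, ea, eb, Nmul x hx y hy]
        simp [mul_add, add_mul, smul_mul_smul_comm, prod0 x hx y hy, add_assoc])]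
      exact mul_mem ha hb
  have invT : ∀ x ∈ T, x⁻¹ ∈ T := by
    intro x hx
    have e : N x⁻¹ = -N x := by
      have h0 : N x * N x = 0 := prod0 x hx x hx
      have h1 : (x : M →ₗ[k] M) = 1 + N x := by simp [hN]
      have h2 : (x : M →ₗ[k] M) * (1 - N x) = 1 := by
        rw [h1]; simp [mul_sub, add_mul, h0]
      have h3 : ((x⁻¹ : LinearMap.GeneralLinearGroup k M) : M →ₗ[k] M) = 1 - N x :=
        Units.inv_eq_of_mul_eq_one_right h2
      show ((x⁻¹ : LinearMap.GeneralLinearGroup k M) : M →ₗ[k] M) - 1 = -N x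
      rw [h3]; abel
    refine ⟨inv_mem hx.1, ?_, ?_, fun c τ hc => hx.2.2.2 (-c) τ ?_⟩
    · rw [e]; intro m hm; simpa using hx.2.1 hm
    · rw [e]; rintro _ ⟨m, rfl⟩; exact W.neg_mem (hx.2.2.1 ⟨m, rfl⟩)
    · rw [hc, e, smul_neg, neg_smul]
  let K : Subgroup (LinearMap.GeneralLinearGroup k M) :=
    { carrier := T, mul_mem' := fun {a b} ha hb => mulT a ha b hb, one_mem' := oneT,
      inv_mem' := fun {a} ha => invT a ha }
  have hK : sameActionSubgroup G σ = K := by
    refine le_antisymm ((Subgroup.closure_le _).mpr classT) fun x hx => ?_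
    by_cases hx1 : x = 1
    · rw [hx1]; exact one_mem _
    · exact Subgroup.subset_closure (memT x hx hx1)
  refine ⟨?_, ⟨⟨fun u v => Subtype.ext ?_⟩⟩, fun p _ hpk x hx => ?_⟩
  · ext x
    rw [SetLike.mem_coe, hK]
    constructor
    · intro hx
      by_cases hx1 : x = 1
      · exact Or.inr hx1
      · exact Or.inl (memT x hx hx1)
    · rintro (hx | hx)
      · exact classT x hx
      · rw [Set.mem_singleton_iff.mp hx]; exact one_mem K
  · have hu : u.1 ∈ T := hK.le u.2
    have hv : v.1 ∈ T := hK.le v.2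
    refine Units.ext (sub_left_injective (b := (1 : M →ₗ[k] M)) ?_)
    show N (u.1 * v.1) = N (v.1 * u.1)
    rw [Nmul _ hu _ hv, Nmul _ hv _ hu, add_comm]
  · have hxT : x ∈ T := by rwa [hK] at hx
    have hpow : ∀ n : ℕ, N (x ^ n) = (n : k) • N x ∧ x ^ n ∈ T := by
      intro n
      induction n with
      | zero => exact ⟨by simp [hN], by rw [pow_zero]; exact oneT⟩
      | succ n ih =>
        rw [pow_succ]
        exact ⟨by rw [Nmul _ ih.2 _ hxT, ih.1, Nat.cast_succ, add_smul, one_smul],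
          mulT _ ih.2 _ hxT⟩
    refine Units.ext (sub_eq_zero.mp ?_)
    show N (x ^ p) = 0
    rw [(hpow p).1, (ringChar.spec k p).mpr (by rw [hpk]), zero_smul]

end Cfsg.Agent.S5059
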