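import Cfsg.Statements.S5060
import Cfsg.Agent.Lib.QuadPair.Main
open Cfsg.Agent.Lib.QuadPair Polynomial
open scoped MatrixGroups

set_option autoImplicit false
open Cfsg

namespace Cfsg.Agent.S5060

/-- Let k ⊆ K be fields with the characteristic of k not 2 and k not of order 3, and let α ∈ K be a non-zero element algebraic over k. Then the subgroup of SL₂(K) generated by the upper unitriangular matrices with entry c and the lower unitriangular matrices with entry cα, c ranging over k, is exactly the group of matrices of SL₂(K) with all entries in k(α). -/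
theorem result {k K : Type*} [Field k] [Field K] [Algebra k K] (hk2 : ringChar k ≠ 2) (hk3 : Nat.card k ≠ 3)
    (α : K) (hα : IsAlgebraic k α) (hα0 : α ≠ 0) :
    (Subgroup.closure ({g : Matrix.SpecialLinearGroup (Fin 2) K | ∃ c : k, (g : Matrix (Fin 2) (Fin 2) K) = !![1, algebraMap k K c; 0, 1]} ∪
        {g : Matrix.SpecialLinearGroup (Fin 2) K | ∃ c : k, (g : Matrix (Fin 2) (Fin 2) K) = !![1, 0; algebraMap k K c * α, 1]}) :
      Set (Matrix.SpecialLinearGroup (Fin 2) K)) =
    {g : Matrix.SpecialLinearGroup (Fin 2) K | ∀ i j : Fin 2, (g : Matrix (Fin 2) (Fin 2) K) i j ∈ IntermediateField.adjoin k ({α} : Set K)} := by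
  have h2 : (2 : k) ≠ 0 := Ring.two_ne_zero hk2
  let F := IntermediateField.adjoin k ({α} : Set K)
  have : FiniteDimensional k F := IntermediateField.adjoin.finiteDimensional hα.isIntegral
  let uF : F := ⟨α, IntermediateField.mem_adjoin_simple_self k α⟩
  have hgen : ∀ a : F, ∃ q : k[X], a = aeval uF q := fun a => by
    have ha : (a : K) ∈ Algebra.adjoin k ({α} : Set K) := by
      rw [← IntermediateField.adjoin_simple_toSubalgebra_of_isAlgebraic hα]; exact a.2
    rw [Algebra.adjoin_singleton_eq_range_aeval] at ha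
    obtain ⟨q, hq⟩ := ha
    refine ⟨q, Subtype.ext ?_⟩
    rw [← IntermediateField.coe_val, ← aeval_algHom_apply]
    exact hq.symm
  have htop := gamma_eq_top h2 hk3 hgen (fun h => hα0 (congrArg Subtype.val h))
  have himg := red_gamma F.val uF
  rw [htop, ← MonoidHom.range_eq_map] at himg
  have hcl : Subgroup.closure ({g : Matrix.SpecialLinearGroup (Fin 2) K | ∃ c : k, (g : Matrix (Fin 2) (Fin 2) K) = !![1, algebraMap k K c; 0, 1]} ∪
        {g : Matrix.SpecialLinearGroup (Fin 2) K | ∃ c : k, (g : Matrix (Fin 2) (Fin 2) K) = !![1, 0; algebraMap k K c * α, 1]}) =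
      gamma k α := by
    unfold gamma
    congr 2
    · ext g
      exact ⟨fun ⟨c, h⟩ => ⟨c, (Subtype.ext h).symm⟩, fun ⟨c, h⟩ => ⟨c, (congrArg Subtype.val h).symm⟩⟩
    · ext g
      exact ⟨fun ⟨c, h⟩ => ⟨c, (Subtype.ext h).symm⟩, fun ⟨c, h⟩ => ⟨c, (congrArg Subtype.val h).symm⟩⟩
  rw [hcl, show gamma k α = (red F.val.toRingHom).range from himg.symm]
  ext g
  constructor
  · rintro ⟨h, rfl⟩ i j
    exact (h i j).2
  · intro hg
    let h : Matrix (Fin 2) (Fin 2) F := Matrix.of fun i j => ⟨_, hg i j⟩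
    refine ⟨⟨h, ?_⟩, Subtype.ext (Matrix.ext fun i j => rfl)⟩
    apply Subtype.ext
    rw [Matrix.det_fin_two]
    have := det2 g
    simpa [h] using this

end Cfsg.Agent.S5060
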