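import Cfsg.Statements.S5066
import Cfsg.Agent.Lib.QuadPair.Groups
open Cfsg.Agent.Lib.QuadPair

set_option autoImplicit false
universe u
open Cfsg

namespace Cfsg.Agent.S5066

/-- Let k be a field of characteristic not 2 with k not of order 3, M a finite-dimensional k-vector space and G ≤ GL(M) such that (G, M) is a quadratic pair (M irreducible for G, and G generated by its quadratically acting elements σ whose scalar family 1 + c(σ − 1), c ∈ k, lies in G). Write 𝒬_d for the quadratic elements of G of minimal commutator rank, E(σ) for the subgroup generated by the members of 𝒬_d with the same fixed space and commutator space as σ, and Σ for the set of these subgroups. Let E, F ∈ Σ generate a subgroup that is nilpotent of class exactly two. Then D = ⁅E, F⁆ belongs to Σ, equals the subgroup generated by the commutators of e with F, and also of E with f, for every non-identity e ∈ E, f ∈ F, and ⟨E, F⟩ lies in U(D), the set of elements g of G normalizing D with (g − 1)M inside the fixed space of D, (g − 1)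 mapping that fixed space into the commutator space of D, and g acting trivially on the commutator space of D. -/
theorem result {k : Type u} [Field k] (hk2 : ringChar k ≠ 2) (hk3 : Nat.card k ≠ 3)
    {M : Type u} [AddCommGroup M] [Module k M] [FiniteDimensional k M]
    {G : Subgroup (LinearMap.GeneralLinearGroup k M)} (hG : Cfsg.IsQuadraticPair G)
    {E F : Subgroup (LinearMap.GeneralLinearGroup k M)} (hE : E ∈ Cfsg.quadraticRootSubgroups G) (hF : F ∈ Cfsg.quadraticRootSubgroups G)
    (h2 : ⁅E ⊔ F, E ⊔ F⁆ ≠ ⊥ ∧ ⁅⁅E ⊔ F, E ⊔ F⁆, E ⊔ F⁆ = ⊥) :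
    ⁅E, F⁆ ∈ Cfsg.quadraticRootSubgroups G ∧
    (∀ e ∈ E, e ≠ 1 → Subgroup.closure ((fun f : LinearMap.GeneralLinearGroup k M => e * f * e⁻¹ * f⁻¹) '' (F : Set (LinearMap.GeneralLinearGroup k M))) = ⁅E, F⁆) ∧
    (∀ f ∈ F, f ≠ 1 → Subgroup.closure ((fun e : LinearMap.GeneralLinearGroup k M => e * f * e⁻¹ * f⁻¹) '' (E : Set (LinearMap.GeneralLinearGroup k M))) = ⁅E, F⁆) ∧
    ((E ⊔ F : Subgroup (LinearMap.GeneralLinearGroup k M)) : Set (LinearMap.GeneralLinearGroup k M)) ⊆ Cfsg.quadraticUnipotentCore G ⁅E, F⁆ := by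
  have hk2' : (2 : k) ≠ 0 := Ring.two_ne_zero hk2
  obtain ⟨σ, hσ, rfl⟩ := hE
  obtain ⟨τ, hτ, rfl⟩ := hF
  have hN := mem_minimal_iff.mp hσ
  have hP := mem_minimal_iff.mp hτ
  have hσA := (mem_sameAction_iff hσ).mpr (inCls_self hN.good)
  have hτB := (mem_sameAction_iff hτ).mpr (inCls_self hP.good)
  have hσX := le_sup_left (a := sameActionSubgroup G σ) (b := sameActionSubgroup G τ) hσA
  have hτX := le_sup_right (a := sameActionSubgroup G σ) (b := sameActionSubgroup G τ) hτB
  have a := skew_of_class_two hk2' hk3 hσ hτ hσX hτX h2.2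
  have b := mul_mul_zero_symm hk2' hN hP a
  by_cases hc : ((σ : M →ₗ[k] M) - 1) * ((τ : M →ₗ[k] M) - 1) =
      ((τ : M →ₗ[k] M) - 1) * ((σ : M →ₗ[k] M) - 1)
  · exfalso
    have hbot := bot_of_commute hk2' hk3 hσ hτ hσA (by rintro rfl; exact hN.ne_zero (sub_self _))
      hτB (by rintro rfl; exact hP.ne_zero (sub_self _)) (commute_iff_val.mpr hc)
    apply h2.1
    rw [Subgroup.commutator_eq_bot_iff_le_centralizer] at hbot ⊢
    have selfA : ∀ ρ ∈ minimalQuadraticElements G,
        sameActionSubgroup G ρ ≤ Subgroup.centralizer (sameActionSubgroup G ρ : Set _) := by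
      intro ρ hρ x hx
      refine Subgroup.mem_centralizer_iff.mpr fun y hy => commute_iff_val.mpr ?_
      have hsq := (mem_minimal_iff.mp hρ).good.sq
      rw [((mem_sameAction_iff hρ).mp hx).mul_eq_zero hsq ((mem_sameAction_iff hρ).mp hy),
        ((mem_sameAction_iff hρ).mp hy).mul_eq_zero hsq ((mem_sameAction_iff hρ).mp hx)]
    have hbot' : sameActionSubgroup G τ ≤ Subgroup.centralizer (sameActionSubgroup G σ : Set _) :=
      fun x hx => Subgroup.mem_centralizer_iff.mpr fun y hy =>
        (Subgroup.mem_centralizer_iff.mp (hbot hy) x hx).symm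
    refine sup_le ?_ ?_
    all_goals
      rw [Subgroup.le_centralizer_iff]
      refine sup_le ?_ ?_
    · exact selfA σ hσ
    · exact hbot'
    · exact hbot
    · exact selfA τ hτ
  · obtain ⟨r1, r2, r3, -, -, r6⟩ := main_skew hk2' hk3 hG hσ hτ ⟨hN, hP, a, b, hc⟩
    exact ⟨r1, r2, r3, r6⟩

end Cfsg.Agent.S5066
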