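import Cfsg.Statements.S5067
import Mathlib

open scoped commutatorElement

set_option autoImplicit false
open Cfsg

namespace Cfsg.Agent.S5067

/-- Let P be a non-abelian nilpotent p-group (every element of p-power order; P possibly infinite) generated by two abelian subgroups E and F. Then the normal closure of E in P, and likewise that of F, has nilpotency class strictly smaller than that of P. -/
theorem result {P : Type*} [Group P] {p : ℕ} [Fact p.Prime] (hP : IsPGroup p P) [Group.IsNilpotent P]
    (hna : ¬ IsMulCommutative P) {E F : Subgroup P} (hE : IsMulCommutative ↥E) (hF : IsMulCommutative ↥F) (hgen : E ⊔ F = ⊤) :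
    Group.nilpotencyClass ↥(Subgroup.normalClosure (E : Set P)) < Group.nilpotencyClass P ∧
    Group.nilpotencyClass ↥(Subgroup.normalClosure (F : Set P)) < Group.nilpotencyClass P := by
  have main : ∀ E : Subgroup P, IsMulCommutative ↥E →
      Group.nilpotencyClass ↥(Subgroup.normalClosure (E : Set P)) < Group.nilpotencyClass P := by
    intro E hE
    set N := Subgroup.normalClosure (E : Set P) with hN
    set L := (⊤ : Subgroup P).lowerCentralSeries with hL
    have hL1 : L 1 = commutator P := by
      rw [hL, Subgroup.lowerCentralSeries_succ, Subgroup.lowerCentralSeries_zero, commutator_def]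
    have hLn : ∀ i, (L i).Normal := fun i => inferInstance
    haveI : (E ⊔ L 1).Normal := by
      refine ⟨fun x hx g => ?_⟩
      rw [show g * x * g⁻¹ = ⁅g, x⁆ * x by simp [commutatorElement_def]]
      refine mul_mem (Subgroup.mem_sup_right ?_) hx
      rw [hL1, commutator_def]
      exact Subgroup.commutator_mem_commutator (Subgroup.mem_top _) (Subgroup.mem_top _)
    have hNle : N ≤ E ⊔ L 1 := Subgroup.normalClosure_le_normal (SetLike.coe_subset_coe.mpr le_sup_left)
    have hstep : ∀ i, ⁅L i, (⊤ : Subgroup P)⁆ = L (i + 1) := fun i =>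
      (Subgroup.lowerCentralSeries_succ _ _).symm
    have base : ⁅E ⊔ L 1, E ⊔ L 1⁆ ≤ L 2 := by
      haveI := hLn 2
      have key : ∀ A B : Subgroup P, ⁅A, B⁆ ≤ L 2 ↔
          ⁅A.map (QuotientGroup.mk' (L 2)), B.map (QuotientGroup.mk' (L 2))⁆ = ⊥ := by
        intro A B
        rw [← Subgroup.map_commutator, Subgroup.map_eq_bot_iff, QuotientGroup.ker_mk']
      rw [key, Subgroup.map_sup, Subgroup.commutator_eq_bot_iff_le_centralizer]
      refine sup_le ?_ ?_ <;> rw [← Subgroup.commutator_eq_bot_iff_le_centralizer,
        Subgroup.commutator_comm, Subgroup.commutator_eq_bot_iff_le_centralizer] <;>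
        refine sup_le ?_ ?_ <;> rw [← Subgroup.commutator_eq_bot_iff_le_centralizer, ← key]
      · refine le_of_eq_of_le ?_ bot_le
        rw [Subgroup.commutator_eq_bot_iff_le_centralizer]
        exact fun x hx => Subgroup.mem_centralizer_iff.mpr fun y hy =>
          congrArg Subtype.val (hE.is_comm.comm (⟨y, hy⟩ : E) ⟨x, hx⟩)
      · exact (Subgroup.commutator_mono le_rfl le_top).trans (hstep 1).le
      · rw [Subgroup.commutator_comm]
        exact (Subgroup.commutator_mono le_rfl le_top).trans (hstep 1).le
      · exact (Subgroup.commutator_mono le_rfl le_top).trans (hstep 1).le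
    have hc2 : 2 ≤ Group.nilpotencyClass P := by
      by_contra hlt
      exact hna (Group.IsNilpotent.nilpotencyClass_le_one_iff.mp (by omega))
    have hj : ∀ j, N.lowerCentralSeries (j + 1) ≤ L (j + 2) := by
      intro j
      induction j with
      | zero =>
        rw [Subgroup.lowerCentralSeries_succ, Subgroup.lowerCentralSeries_zero]
        exact (Subgroup.commutator_mono hNle hNle).trans base
      | succ j ih =>
        rw [Subgroup.lowerCentralSeries_succ]
        exact (Subgroup.commutator_mono ih le_top).trans (hstep _).le
    obtain ⟨m, hm⟩ : ∃ m, Group.nilpotencyClass P = m + 2 :=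
      ⟨Group.nilpotencyClass P - 2, by omega⟩
    have hbot : N.lowerCentralSeries (m + 1) = ⊥ := by
      refine le_bot_iff.mp ((hj m).trans ?_)
      rw [← hm, hL, Subgroup.lowerCentralSeries_nilpotencyClass]
    have : (⊤ : Subgroup ↥N).lowerCentralSeries (m + 1) = ⊥ := by
      rw [← Subgroup.map_eq_bot_iff_of_injective _ N.subtype_injective,
        Subgroup.map_lowerCentralSeries, ← MonoidHom.range_eq_map, Subgroup.range_subtype, hbot]
    have := Subgroup.lowerCentralSeries_eq_bot_iff_nilpotencyClass_le.mp this
    omega
  exact ⟨main E hE, main F hF⟩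

end Cfsg.Agent.S5067
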