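import Cfsg.Statements.S5068
import Cfsg.Agent.Lib.QuadPair.Groups
open Cfsg.Agent.Lib.QuadPair

set_option autoImplicit false
universe u
open Cfsg

namespace Cfsg.Agent.S5068

/-- Let k be a field of characteristic not 2 with k not of order 3, M a finite-dimensional k-vector space and G ≤ GL(M) such that (G, M) is a quadratic pair (M irreducible for G, and G generated by its quadratically acting elements σ whose scalar family 1 + c(σ − 1), c ∈ k, lies in G). Write 𝒬_d for the quadratic elements of G of minimal commutator rank, E(σ) for the subgroup generated by the members of 𝒬_d with the same fixed space and commutator space as σ, and Σ for the set of these subgroups. Let E, F ∈ Σ generate a subgroup acting unipotently on M. Then either E and F commute elementwise, or L = ⁅E, F⁆ belongs to Σ, equals the subgroup generated by the commutators of e with F, and of E with f, for all non-identity e ∈ E, f ∈ F, the group ⟨E, F⟩ is nilpotent of class two, and ⟨E, F⟩ lies in U(L), the set of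 elements g of G normalizing L with (g − 1)M inside the fixed space of L, (g − 1) mapping that fixed space into the commutator space of L, and g acting trivially on the commutator space of L. -/
theorem result {k : Type u} [Field k] (hk2 : ringChar k ≠ 2) (hk3 : Nat.card k ≠ 3)
    {M : Type u} [AddCommGroup M] [Module k M] [FiniteDimensional k M]
    {G : Subgroup (LinearMap.GeneralLinearGroup k M)} (hG : Cfsg.IsQuadraticPair G)
    {E F : Subgroup (LinearMap.GeneralLinearGroup k M)} (hE : E ∈ Cfsg.quadraticRootSubgroups G) (hF : F ∈ Cfsg.quadraticRootSubgroups G)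
    (hu : Cfsg.IsUnipotentOn (E ⊔ F)) :
    ⁅E, F⁆ = ⊥ ∨
    (⁅E, F⁆ ∈ Cfsg.quadraticRootSubgroups G ∧
      (∀ e ∈ E, e ≠ 1 → Subgroup.closure ((fun f : LinearMap.GeneralLinearGroup k M => e * f * e⁻¹ * f⁻¹) '' (F : Set (LinearMap.GeneralLinearGroup k M))) = ⁅E, F⁆) ∧
      (∀ f ∈ F, f ≠ 1 → Subgroup.closure ((fun e : LinearMap.GeneralLinearGroup k M => e * f * e⁻¹ * f⁻¹) '' (E : Set (LinearMap.GeneralLinearGroup k M))) = ⁅E, F⁆) ∧
      ⁅E ⊔ F, E ⊔ F⁆ ≠ ⊥ ∧ ⁅⁅E ⊔ F, E ⊔ F⁆, E ⊔ F⁆ = ⊥ ∧
      ((E ⊔ F : Subgroup (LinearMap.GeneralLinearGroup k M)) : Set (LinearMap.GeneralLinearGroup k M)) ⊆ Cfsg.quadraticUnipotentCore G ⁅E, F⁆) := by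
  have h2 : (2 : k) ≠ 0 := Ring.two_ne_zero hk2
  obtain ⟨σ, hσ, rfl⟩ := hE
  obtain ⟨τ, hτ, rfl⟩ := hF
  have hN := mem_minimal_iff.mp hσ
  have hP := mem_minimal_iff.mp hτ
  have hσA := (mem_sameAction_iff hσ).mpr (inCls_self hN.good)
  have hτB := (mem_sameAction_iff hτ).mpr (inCls_self hP.good)
  rcases type_cases h2 hk3 hN hP with ⟨a, b⟩ | ⟨a, b⟩
  · by_cases hc : ((σ : M →ₗ[k] M) - 1) * ((τ : M →ₗ[k] M) - 1) =
        ((τ : M →ₗ[k] M) - 1) * ((σ : M →ₗ[k] M) - 1)
    · refine Or.inl (bot_of_commute h2 hk3 hσ hτ hσA ?_ hτB ?_ (commute_iff_val.mpr hc))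
      · rintro rfl; exact hN.ne_zero (sub_self _)
      · rintro rfl; exact hP.ne_zero (sub_self _)
    · exact Or.inr (main_skew h2 hk3 hG hσ hτ ⟨hN, hP, a, b, hc⟩)
  · exact (not_typeTwo_of_unipotent hu (le_sup_left (a := sameActionSubgroup G σ) hσA)
      (le_sup_right (b := sameActionSubgroup G τ) hτB) ⟨hN, hP, a, b⟩).elim

end Cfsg.Agent.S5068
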