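import Cfsg.Statements.S5069
import Cfsg.Agent.Lib.QuadPair.Split
open Cfsg.Agent.Lib.QuadPair

set_option autoImplicit false
universe u
open Cfsg

namespace Cfsg.Agent.S5069

/-- Let k be a field of characteristic not 2 with k not of order 3, M a finite-dimensional k-vector space and G ≤ GL(M) such that (G, M) is a quadratic pair (M irreducible for G, and G generated by its quadratically acting elements σ whose scalar family 1 + c(σ − 1), c ∈ k, lies in G). Write 𝒬_d for the quadratic elements of G of minimal commutator rank, E(σ) for the subgroup generated by the members of 𝒬_d with the same fixed space and commutator space as σ, and Σ for the set of these subgroups. Then Σ is a disjoint union of finitely many parts Σ₁, …, Σ_r such that the subgroups G_i generated by the Σ_i commute pairwise, each G_i is quasisimple, and inside G_i the members of Σ_i form a class of abstract root subgroups in which every rank one pair A, B contains subgroups A₀ ≤ A, B₀ ≤ B generating an image of SL₂(k₁) with central kernel on unitriangular subgroups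 for some field k₁ with at least four elements. -/
theorem result {k : Type u} [Field k] (hk2 : ringChar k ≠ 2) (hk3 : Nat.card k ≠ 3)
    {M : Type u} [AddCommGroup M] [Module k M] [FiniteDimensional k M]
    {G : Subgroup (LinearMap.GeneralLinearGroup k M)} (hG : Cfsg.IsQuadraticPair G) :
    ∃ (r : ℕ) (part : Fin r → Set (Subgroup (LinearMap.GeneralLinearGroup k M))),
      (⋃ i, part i) = Cfsg.quadraticRootSubgroups G ∧ (∀ i j, i ≠ j → Disjoint (part i) (part j)) ∧ (∀ i, (part i).Nonempty) ∧
      (∀ i j, i ≠ j → ⁅(⨆ A ∈ part i, A), (⨆ A ∈ part j, A)⁆ = ⊥) ∧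
      (∀ i, Cfsg.IsQuasisimple ↥(⨆ A ∈ part i, A) ∧
        Cfsg.IsRootSubgroupClass ((fun A : Subgroup (LinearMap.GeneralLinearGroup k M) => A.subgroupOf (⨆ B ∈ part i, B)) '' (part i)) ∧
        ∀ A ∈ part i, ∀ B ∈ Cfsg.rankOnePartners (part i) A, ∃ A₀ B₀ : Subgroup (LinearMap.GeneralLinearGroup k M), A₀ ≤ A ∧ B₀ ≤ B ∧
          ∃ (k₁ : Type u) (_ : Field k₁), 3 < ENat.card k₁ ∧ Cfsg.IsPSL2PairOver k₁ A₀ B₀) := by
  classical
  have h2 : (2 : k) ≠ 0 := Ring.two_ne_zero hk2
  set P := Cfsg.Agent.Lib.QuadPair.part G '' Cfsg.quadraticRootSubgroups G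
  have : Finite P := (finite_parts h2 hk3 hG).to_subtype
  refine ⟨Nat.card P, fun i => ((Finite.equivFin P).symm i).1, ?_, ?_, ?_, ?_, ?_⟩ <;>
    beta_reduce
  · refine subset_antisymm (Set.iUnion_subset fun i => ?_) fun A hA => ?_
    · obtain ⟨A, -, he⟩ := ((Finite.equivFin P).symm i).2
      rw [← he]; exact fun B hB => hB.1
    · refine Set.mem_iUnion.mpr ⟨Finite.equivFin P ⟨_, A, hA, rfl⟩, ?_⟩
      rw [Equiv.symm_apply_apply]; exact part_self hA
  · intro i j hij
    obtain ⟨A, -, he⟩ := ((Finite.equivFin P).symm i).2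
    obtain ⟨A', -, he'⟩ := ((Finite.equivFin P).symm j).2
    rw [Set.disjoint_left]
    intro B hB hB'
    rw [← he] at hB
    rw [← he'] at hB'
    apply hij
    apply (Finite.equivFin P).symm.injective
    apply Subtype.ext
    rw [← he, ← he', part_eq_of_mem hB, part_eq_of_mem hB']
  · intro i
    obtain ⟨A, hA, he⟩ := ((Finite.equivFin P).symm i).2
    exact ⟨A, he ▸ part_self hA⟩
  · intro i j hij
    obtain ⟨A, hA, he⟩ := ((Finite.equivFin P).symm i).2
    obtain ⟨A', hA', he'⟩ := ((Finite.equivFin P).symm j).2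
    rw [← he, ← he']
    exact commute_parts h2 hk3 hG fun e => hij ((Finite.equivFin P).symm.injective
      (Subtype.ext (he.symm.trans (e.trans he'))))
  · intro i
    obtain ⟨A, hA, he⟩ := ((Finite.equivFin P).symm i).2
    rw [← he]
    exact ⟨part_isQuasisimple h2 hk3 hG hA, part_isRootSubgroupClass h2 hk3 hG hA,
      fun B hB C hC => part_sl2 h2 hk3 hG hB hC⟩

end Cfsg.Agent.S5069
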