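import Cfsg.Statements.S5075
import Cfsg.Agent.Lib.TransvGroups.Decomp

set_option autoImplicit false
open Cfsg

namespace Cfsg.Agent.S5075

open Cfsg.Agent.Lib.TransvGroups Module in
theorem assemble {p : ℕ} [Fact p.Prime] {V : Type*} [AddCommGroup V] [Module (ZMod p) V] [Finite V]
    {H : Subgroup (V ≃ₗ[ZMod p] V)} (hG : Gen H) :
    ∃ (n : ℕ) (W : Fin (n + 1) → Submodule (ZMod p) V) (K : Fin n → Subgroup (V ≃ₗ[ZMod p] V)),
      1 ≤ n ∧ DirectSum.IsInternal W ∧
      (∀ h ∈ H, ∀ i, (W i).map (h : V →ₗ[ZMod p] V) = W i) ∧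
      (∀ j, K j ≤ H ∧ ((K j).subgroupOf H).Normal) ∧ ⨆ j, K j = H ∧
      (∀ j, K j ⊓ (⨆ j' ∈ {j' : Fin n | j' ≠ j}, K j') = ⊥) ∧
      (∀ j j', j ≠ j' → ∀ a ∈ K j, ∀ b ∈ K j', a * b = b * a) ∧
      (∀ j, ∀ h ∈ K j, ∀ i : Fin (n + 1), i ≠ j.succ → ∀ v ∈ W i, h v = v) ∧
      (∀ j, ∃ ρ : ↥(K j) →* (↥(W j.succ) ≃ₗ[ZMod p] ↥(W j.succ)),
        (∀ (h : ↥(K j)) (v : ↥(W j.succ)), ((ρ h v : ↥(W j.succ)) : V) = (h : V ≃ₗ[ZMod p] V) (v : V)) ∧
        ((ρ.range : Set (↥(W j.succ) ≃ₗ[ZMod p] ↥(W j.succ))) =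
            {f : ↥(W j.succ) ≃ₗ[ZMod p] ↥(W j.succ) | LinearMap.det (f : ↥(W j.succ) →ₗ[ZMod p] ↥(W j.succ)) = 1} ∨
          ∃ B : LinearMap.BilinForm (ZMod p) ↥(W j.succ), B.IsAlt ∧ B.Nondegenerate ∧
            (ρ.range : Set (↥(W j.succ) ≃ₗ[ZMod p] ↥(W j.succ))) = {f : ↥(W j.succ) ≃ₗ[ZMod p] ↥(W j.succ) | ∀ x y, B (f x) (f y) = B x y})) := by
  classical
  have : Finite (Submodule (ZMod p) V) :=
    Finite.of_injective (fun Y : Submodule (ZMod p) V => (Y : Set V)) SetLike.coe_injective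
  by_cases hne : ∃ a α, Tv H a α
  swap
  · have hH : H = ⊥ := by
      rw [← hG.gen, Cfsg.Agent.Lib.TransvGroups.sub, Subgroup.closure_eq_bot_iff]
      rintro _ ⟨a, α, h0, h, -, rfl⟩
      exact absurd ⟨a, α, h⟩ hne
    refine ⟨1, ![⊤, ⊥], fun _ => ⊥, le_rfl, ?_, ?_, fun j => ⟨bot_le, ?_⟩, ?_, fun j => bot_inf_eq _,
      ?_, ?_, fun j => ⟨1, ?_, Or.inl ?_⟩⟩
    · rw [DirectSum.isInternal_submodule_iff_isCompl (![⊤, ⊥] : Fin 2 → Submodule (ZMod p) V)
        (i := 0) (j := 1) (by decide) (by ext x; fin_cases x <;> simp)]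
      exact isCompl_top_bot
    · intro h _ i
      fin_cases i <;> simp [Submodule.map_top]
    · rw [Subgroup.bot_subgroupOf]; infer_instance
    · rw [hH, iSup_bot]
    · intro j j' _ a ha b hb
      rw [Subgroup.mem_bot] at ha hb
      rw [ha, hb]
    · intro j h hh i _ v _
      rw [Subgroup.mem_bot] at hh
      rw [hh]; rfl
    · rintro ⟨h, hh⟩ v
      obtain rfl := Subgroup.mem_bot.1 hh
      rfl
    · obtain rfl : j = 0 := Subsingleton.elim j 0
      ext f
      have : Subsingleton ↥((![⊤, ⊥] : Fin 2 → Submodule (ZMod p) V) (Fin.succ 0)) :=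
        (Submodule.subsingleton_iff_eq_bot).2 rfl
      have hf : f = 1 := LinearEquiv.ext fun x => Subsingleton.elim _ _
      subst hf
      exact ⟨fun _ => LinearMap.det_id, fun _ => one_mem _⟩
  have : Fintype {U : Submodule (ZMod p) V // Gen.IsBlock (H := H) U} := Fintype.ofFinite _
  set n := Fintype.card {U : Submodule (ZMod p) V // Gen.IsBlock (H := H) U}
  let e := (Fintype.equivFin {U : Submodule (ZMod p) V // Gen.IsBlock (H := H) U}).symm
  let U : Fin n → Submodule (ZMod p) V := fun j => (e j).1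
  have hU : ∀ j, Gen.IsBlock (H := H) (U j) := fun j => (e j).2
  have hUne : ∀ {j j'}, j ≠ j' → U j ≠ U j' := fun h h' => h (e.injective (Subtype.ext h'))
  have hUall : ∀ {a α}, Tv H a α → ∃ j, a ∈ U j := fun {a α} h =>
    ⟨e.symm ⟨orb H a, a, α, h, rfl⟩, by simp only [U, Equiv.apply_symm_apply]; exact Gen.mem_orb a⟩
  have hother : ∀ {j j'}, j ≠ j' → U j' ≤ axKer H (U j) := fun h =>
    hG.block_le_axKer (hU _) (hU _) (hUne h)
  let X : Submodule (ZMod p) V := axKer H ⊤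
  have hX : ∀ j, X ≤ axKer H (U j) := fun j x hx a α h _ => hx a α h Submodule.mem_top
  have hsplit : ∀ j, U j ⊓ axKer H (U j) = ⊥ ∧ U j ⊔ axKer H (U j) = ⊤ :=
    fun j => hG.block_split (hU j)
  have hindep : ∀ s : Finset (Fin n), X ⊓ s.sup U = ⊥ := by
    intro s
    induction s using Finset.induction_on with
    | empty => simp
    | @insert j s hj ih =>
      rw [eq_bot_iff]
      rintro x ⟨hx, hxs⟩
      rw [SetLike.mem_coe, Finset.sup_insert, Submodule.mem_sup] at hxs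
      obtain ⟨u, hu, y, hy, rfl⟩ := hxs
      have hle : s.sup U ≤ axKer H (U j) :=
        Finset.sup_le fun j' hj' => hother fun h => hj (h ▸ hj')
      have hu' : u ∈ axKer H (U j) := by
        have h1 := Submodule.sub_mem _ (hX j hx) (hle hy)
        rwa [add_sub_cancel_right] at h1
      have hu0 : u ∈ (⊥ : Submodule (ZMod p) V) := (hsplit j).1 ▸ ⟨hu, hu'⟩
      rw [Submodule.mem_bot] at hu0
      subst hu0
      rw [zero_add] at hx ⊢
      exact ih ▸ ⟨hx, hy⟩
  have hspan : ∀ s : Finset (Fin n), ∀ x, ∃ y ∈ s.sup U, ∀ j ∈ s, x - y ∈ axKer H (U j) := by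
    intro s
    induction s using Finset.induction_on with
    | empty => exact fun x => ⟨0, zero_mem _, by simp⟩
    | @insert j s hj ih =>
      intro x
      obtain ⟨y, hy, hys⟩ := ih x
      have hm : x - y ∈ U j ⊔ axKer H (U j) := (hsplit j).2 ▸ Submodule.mem_top
      obtain ⟨u, hu, z, hz, huz⟩ := Submodule.mem_sup.1 hm
      refine ⟨y + u, ?_, fun j' hj' => ?_⟩
      · rw [Finset.sup_insert]
        exact Submodule.add_mem _ (Submodule.mem_sup_right hy) (Submodule.mem_sup_left hu)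
      · rw [sub_add_eq_sub_sub]
        rcases Finset.mem_insert.1 hj' with rfl | hj''
        · rwa [← huz, add_sub_cancel_left]
        · exact Submodule.sub_mem _ (hys j' hj'') (hother (fun h => hj (by rwa [h] at hj'')) hu)
  have hWinv : ∀ h ∈ H, ∀ i, ∀ v ∈ (Fin.cons X U : Fin (n + 1) → Submodule (ZMod p) V) i,
      h v ∈ (Fin.cons X U : Fin (n + 1) → Submodule (ZMod p) V) i := by
    intro h hh i
    induction i using Fin.cases with
    | zero =>
      simp only [Fin.cons_zero]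
      exact Gen.axKer_inv (fun g _ y _ => Submodule.mem_top) h hh
    | succ j => simp only [Fin.cons_succ]; exact Gen.block_inv (hU j) h hh
  have hfix : ∀ j, ∀ h ∈ Cfsg.Agent.Lib.TransvGroups.sub H (U j), ∀ i : Fin (n + 1), i ≠ j.succ →
      ∀ v ∈ (Fin.cons X U : Fin (n + 1) → Submodule (ZMod p) V) i, h v = v := by
    intro j h hh i
    induction i using Fin.cases with
    | zero => exact fun _ v hv => sub_fix hh (hX j (by simpa using hv))
    | succ j' =>
      exact fun hi v hv => sub_fix hh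
        (hother (fun e => hi (by rw [e])) (by simpa using hv))
  refine ⟨n, Fin.cons X U, fun j => Cfsg.Agent.Lib.TransvGroups.sub H (U j), ?_, ?_, ?_,
    fun j => ⟨sub_le _, sub_normal (Gen.block_inv (hU j))⟩, ?_, ?_, ?_, hfix, fun j => ?_⟩
  · obtain ⟨a, α, h⟩ := hne
    obtain ⟨j, -⟩ := hUall h
    exact j.pos
  · rw [DirectSum.isInternal_submodule_iff_iSupIndep_and_iSup_eq_top]
    refine ⟨fun i => ?_, eq_top_iff.2 fun x _ => ?_⟩
    · rw [disjoint_iff]
      induction i using Fin.cases with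
      | zero =>
        rw [Fin.cons_zero, eq_bot_iff, ← hindep Finset.univ]
        refine inf_le_inf_left _ (iSup₂_le fun i hi => ?_)
        induction i using Fin.cases with
        | zero => exact absurd rfl hi
        | succ j => rw [Fin.cons_succ]; exact Finset.le_sup (f := U) (Finset.mem_univ j)
      | succ j =>
        rw [Fin.cons_succ, eq_bot_iff, ← (hsplit j).1]
        refine inf_le_inf_left _ (iSup₂_le fun i hi => ?_)
        induction i using Fin.cases with
        | zero => rw [Fin.cons_zero]; exact hX j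
        | succ j' => rw [Fin.cons_succ]; exact hother fun e => hi (by rw [e])
    · obtain ⟨y, hy, hys⟩ := hspan Finset.univ x
      have h1 : x - y ∈ X := fun a α h _ => by
        obtain ⟨j, hj⟩ := hUall h
        exact hys j (Finset.mem_univ j) a α h hj
      rw [← sub_add_cancel x y]
      refine Submodule.add_mem _ (le_iSup (Fin.cons X U : Fin (n + 1) → Submodule (ZMod p) V) 0 ?_)
        (SetLike.le_def.1 (Finset.sup_le (f := U) fun j _ => ?_) hy)
      · simpa using h1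
      · exact le_of_eq_of_le (Fin.cons_succ (α := fun _ => Submodule (ZMod p) V) X U j).symm
          (le_iSup (Fin.cons X U : Fin (n + 1) → Submodule (ZMod p) V) j.succ)
  · intro h hh i
    refine Submodule.eq_of_le_of_finrank_le ?_ (le_of_eq (LinearEquiv.finrank_map_eq h _).symm)
    rintro _ ⟨v, hv, rfl⟩
    exact hWinv h hh i v hv
  · refine le_antisymm (iSup_le fun j => sub_le _) ?_
    conv_lhs => rw [← hG.gen, Cfsg.Agent.Lib.TransvGroups.sub]
    rw [Subgroup.closure_le]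
    rintro _ ⟨a, α, h0, h, -, rfl⟩
    obtain ⟨j, hj⟩ := hUall h
    exact Subgroup.mem_iSup_of_mem j (transvection_mem_sub h hj)
  · intro j
    rw [eq_bot_iff]
    rintro g ⟨hg, hg'⟩
    have hle : (⨆ j' ∈ {j' : Fin n | j' ≠ j}, Cfsg.Agent.Lib.TransvGroups.sub H (U j')) ≤
        fixingSubgroup (V ≃ₗ[ZMod p] V) (U j : Set V) :=
      iSup₂_le fun j' hj' g' hg'' => (mem_fixingSubgroup_iff (V ≃ₗ[ZMod p] V)).2 fun v hv =>
        hfix j' g' hg'' j.succ (fun e => hj' (Fin.succ_injective _ e).symm) v (by simpa using hv)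
    refine Subgroup.mem_bot.2 (LinearEquiv.ext fun x => ?_)
    have hx : x ∈ U j ⊔ axKer H (U j) := (hsplit j).2 ▸ Submodule.mem_top
    obtain ⟨u, hu, z, hz, rfl⟩ := Submodule.mem_sup.1 hx
    rw [map_add, sub_fix hg hz]
    rw [show g u = u from (mem_fixingSubgroup_iff (V ≃ₗ[ZMod p] V)).1 (hle hg') u hu]
    rfl
  · exact fun j j' hne a ha b hb => hG.commute_blocks (hU j) (hU j') (hUne hne) ha hb
  · exact hG.block_action (hU j) (Fin.cons_succ (α := fun _ => Submodule (ZMod p) V) X U j)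

/-- Let p be an odd prime, V a finite-dimensional vector space over the field with p elements, and H a group of linear automorphisms of V generated by transvections (elements of order p fixing a hyperplane pointwise) and having no nontrivial normal p-subgroup. Then for some n ≥ 1 there are a decomposition V = V₀ ⊕ V₁ ⊕ ⋯ ⊕ Vₙ into H-invariant subspaces and a decomposition of H as the internal direct product of normal subgroups H₁, …, Hₙ such that Hⱼ acts trivially on every Vᵢ with i ≠ j, and Hⱼ induces on Vⱼ exactly the special linear group of Vⱼ or exactly the isometry group of a non-degenerate alternating form on Vⱼ. -/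
theorem result {p : ℕ} [Fact p.Prime] (hp : Odd p) {V : Type*} [AddCommGroup V] [Module (ZMod p) V] [Finite V]
    (H : Subgroup (V ≃ₗ[ZMod p] V)) (T : Set (V ≃ₗ[ZMod p] V)) (hHT : H = Subgroup.closure T)
    (hT : ∀ t ∈ T, orderOf t = p ∧
      Module.finrank (ZMod p) ↥(LinearMap.ker ((t : V →ₗ[ZMod p] V) - LinearMap.id)) + 1 =
        Module.finrank (ZMod p) V)
    (hOp : Cfsg.pCore p ↥H = ⊥) :
    ∃ (n : ℕ) (W : Fin (n + 1) → Submodule (ZMod p) V) (K : Fin n → Subgroup (V ≃ₗ[ZMod p] V)),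
      1 ≤ n ∧ DirectSum.IsInternal W ∧
      (∀ h ∈ H, ∀ i, (W i).map (h : V →ₗ[ZMod p] V) = W i) ∧
      (∀ j, K j ≤ H ∧ ((K j).subgroupOf H).Normal) ∧ ⨆ j, K j = H ∧
      (∀ j, K j ⊓ (⨆ j' ∈ {j' : Fin n | j' ≠ j}, K j') = ⊥) ∧
      (∀ j j', j ≠ j' → ∀ a ∈ K j, ∀ b ∈ K j', a * b = b * a) ∧
      (∀ j, ∀ h ∈ K j, ∀ i : Fin (n + 1), i ≠ j.succ → ∀ v ∈ W i, h v = v) ∧
      (∀ j, ∃ ρ : ↥(K j) →* (↥(W j.succ) ≃ₗ[ZMod p] ↥(W j.succ)),
        (∀ (h : ↥(K j)) (v : ↥(W j.succ)), ((ρ h v : ↥(W j.succ)) : V) = (h : V ≃ₗ[ZMod p] V) (v : V)) ∧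
        ((ρ.range : Set (↥(W j.succ) ≃ₗ[ZMod p] ↥(W j.succ))) =
            {f : ↥(W j.succ) ≃ₗ[ZMod p] ↥(W j.succ) | LinearMap.det (f : ↥(W j.succ) →ₗ[ZMod p] ↥(W j.succ)) = 1} ∨
          ∃ B : LinearMap.BilinForm (ZMod p) ↥(W j.succ), B.IsAlt ∧ B.Nondegenerate ∧
            (ρ.range : Set (↥(W j.succ) ≃ₗ[ZMod p] ↥(W j.succ))) = {f : ↥(W j.succ) ≃ₗ[ZMod p] ↥(W j.succ) | ∀ x y, B (f x) (f y) = B x y})) := by
  classical
  open Cfsg.Agent.Lib.TransvGroups Module in
  have hG : Gen H := gen_of hp hHT hT hOp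
  open Cfsg.Agent.Lib.TransvGroups Module in
  exact assemble hG

end Cfsg.Agent.S5075
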