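import Cfsg.Agent.Lib.FusionSystem.ModelUnique
import Cfsg.Statements.S5091
-- import your own Cfsg.Agent.* helpers here

set_option autoImplicit false
open Cfsg

namespace Cfsg.Agent.S5091

/-- Model Theorem, uniqueness: two models of a constrained saturated fusion system over a finite p-group S are isomorphic by an isomorphism compatible with the two embeddings of S. -/
theorem result {Ω : Type*} [Group Ω] {S : Subgroup Ω} [Finite S] (p : ℕ) [Fact p.Prime] (hS : IsPGroup p S) (F : Cfsg.FusionSystem S) (hF : F.IsConstrained p) {G₁ G₂ : Type*} [Group G₁] [Group G₂] (ι₁ : S →* G₁) (ι₂ : S →* G₂) (h₁ : F.IsModel p G₁ ι₁) (h₂ : F.IsModel p G₂ ι₂) : ∃ φ : G₁ ≃* G₂, ∀ x : S, φ (ι₁ x) = ι₂ x :=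
by
  haveI := h₁.1
  haveI := h₂.1
  obtain ⟨φ, hφ, hφι⟩ := Cfsg.Agent.Lib.FS.exists_model_hom hS h₁ h₂
  obtain ⟨φ', hφ', -⟩ := Cfsg.Agent.Lib.FS.exists_model_hom hS h₂ h₁
  have hcard : Nat.card G₁ = Nat.card G₂ :=
    le_antisymm (Nat.card_le_card_of_injective φ hφ) (Nat.card_le_card_of_injective φ' hφ')
  exact ⟨MulEquiv.ofBijective φ ((Nat.bijective_iff_injective_and_card φ).2 ⟨hφ, hcard⟩), hφι⟩

end Cfsg.Agent.S5091
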