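import Cfsg.Statements.S5112
import Cfsg.Agent.Lib.FusionSystem.Saturation
import Cfsg.Agent.Lib.TwoGroups.MetacyclicTwo
import Cfsg.Agent.Lib.TwoGroups.OddAut

set_option autoImplicit false
set_option linter.style.haveILetI false
open Cfsg

namespace Cfsg.Agent.S5112

/-- If S is a dihedral or generalized quaternion 2-group of order at least 16, then in every saturated fusion system over S (at the prime 2) the automorphism group Aut_F(S) consists of the inner automorphisms of S. -/
theorem result {Ω : Type*} [Group Ω] {S : Subgroup Ω} [Finite S] (n : ℕ) (hn : 4 ≤ n) (hshape : Nonempty (S ≃* DihedralGroup (2 ^ (n - 1))) ∨ Nonempty (S ≃* QuaternionGroup (2 ^ (n - 2)))) (F : Cfsg.FusionSystem S) (hF : F.IsSaturated 2) : F.autGroup S = Cfsg.Inn S := by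
  classical
  have hNm : IsPGroup 2 S ∧ Cfsg.IsMetacyclic ↥S ∧ ¬ IsMulCommutative ↥S ∧ Nat.card S = 2 ^ n := by
    rcases hshape with ⟨⟨e⟩⟩ | ⟨⟨e⟩⟩
    · haveI : NeZero (2 ^ (n - 1)) := ⟨by positivity⟩
      have hc : Nat.card S = 2 ^ n := by
        rw [Nat.card_congr e.toEquiv, DihedralGroup.nat_card, ← pow_succ']; congr 1; omega
      refine ⟨IsPGroup.of_card hc, ?_, fun h => ?_, hc⟩
      · let N := Subgroup.zpowers (e.symm (DihedralGroup.r 1))
        have hi : N.index = 2 := by
          have := N.card_mul_index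
          rw [Nat.card_zpowers, MulEquiv.orderOf_eq, DihedralGroup.orderOf_r_one,
            Nat.card_congr e.toEquiv, DihedralGroup.nat_card] at this
          exact Nat.eq_of_mul_eq_mul_left (show 0 < 2 ^ (n - 1) by positivity) (by rw [this]; ring)
        haveI := Subgroup.normal_of_index_eq_two hi
        exact ⟨N, inferInstance, inferInstance,
          @isCyclic_of_prime_card _ _ 2 ⟨Nat.prime_two⟩ (by rw [← Subgroup.index_eq_card, hi])⟩
      · have h1 := congrArg e (h.is_comm.comm (e.symm (DihedralGroup.sr 0))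
          (e.symm (DihedralGroup.sr 1)))
        rw [map_mul, map_mul] at h1
        simp only [MulEquiv.apply_symm_apply, DihedralGroup.sr_mul_sr] at h1
        have h2 := DihedralGroup.r.inj h1
        have h3 : ((2 : ℕ) : ZMod (2 ^ (n - 1))) = 0 := by push_cast; linear_combination h2
        rw [ZMod.natCast_eq_zero_iff] at h3
        have := Nat.le_of_dvd two_pos h3
        have := Nat.pow_le_pow_right two_pos (show 2 ≤ n - 1 by omega)
        omega
    · haveI : NeZero (2 ^ (n - 2)) := ⟨by positivity⟩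
      have hc : Nat.card S = 2 ^ n := by
        rw [Nat.card_congr e.toEquiv, Nat.card_eq_fintype_card, QuaternionGroup.card,
          show 4 = 2 ^ 2 from rfl, ← pow_add]
        congr 1; omega
      refine ⟨IsPGroup.of_card hc, ?_, fun h => ?_, hc⟩
      · let N := Subgroup.zpowers (e.symm (QuaternionGroup.a 1))
        have hi : N.index = 2 := by
          have := N.card_mul_index
          rw [Nat.card_zpowers, MulEquiv.orderOf_eq, QuaternionGroup.orderOf_a_one,
            Nat.card_congr e.toEquiv, Nat.card_eq_fintype_card, QuaternionGroup.card] at this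
          exact Nat.eq_of_mul_eq_mul_left (show 0 < 2 * 2 ^ (n - 2) by positivity)
            (by rw [this]; ring)
        haveI := Subgroup.normal_of_index_eq_two hi
        exact ⟨N, inferInstance, inferInstance,
          @isCyclic_of_prime_card _ _ 2 ⟨Nat.prime_two⟩ (by rw [← Subgroup.index_eq_card, hi])⟩
      · have h1 := congrArg e (h.is_comm.comm (e.symm (QuaternionGroup.xa 0))
          (e.symm (QuaternionGroup.xa 1)))
        rw [map_mul, map_mul] at h1
        simp only [MulEquiv.apply_symm_apply, QuaternionGroup.xa_mul_xa] at h1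
        have h2 := QuaternionGroup.a.inj h1
        have h3 : ((2 : ℕ) : ZMod (2 * 2 ^ (n - 2))) = 0 := by push_cast; linear_combination h2
        rw [ZMod.natCast_eq_zero_iff] at h3
        have := Nat.le_of_dvd two_pos h3
        have := Nat.pow_le_pow_right two_pos (show 1 ≤ n - 2 by omega)
        omega
  obtain ⟨hS, hm, hna, hcard⟩ := hNm
  have hAut : IsPGroup 2 (MulAut S) := Lib.TwoGroups.OddAut.isPGroup_mulAut fun φ hφ => by
    by_contra h1
    rcases Lib.TwoGroups.MetacyclicTwo.aut_cases hS hm hφ h1 with ⟨⟨e⟩⟩ | ⟨k, -, ⟨e⟩⟩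
    · have h8 : Nat.card S = 8 := by
        rw [Nat.card_congr e.toEquiv, Nat.card_eq_fintype_card, QuaternionGroup.card]
      have := Nat.pow_le_pow_right two_pos hn
      omega
    · exact hna ⟨⟨fun a b => e.injective (by rw [map_mul, map_mul, mul_comm])⟩⟩
  obtain ⟨Q, hQ, ⟨-, R, hR⟩, -⟩ := hF S le_rfl
  obtain rfl : Q = S := by
    obtain ⟨φ, hφ, rfl⟩ := hQ
    exact Lib.FS.range_eq_of_mem hφ (Lib.FS.apply_mem hφ) le_rfl
  have hle : F.autGroup Q ≤ autInducedBy Q Q := by
    have htop : (R : Subgroup (F.autGroup Q)) = ⊤ := (R.is_maximal'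
      (show IsPGroup 2 (⊤ : Subgroup (F.autGroup Q)) from (hAut.to_subgroup _).to_subgroup ⊤) le_top).symm
    intro α hα
    have h : (⟨α, hα⟩ : F.autGroup Q) ∈ (R : Subgroup (F.autGroup Q)) := by rw [htop]; trivial
    rw [hR] at h
    exact Subgroup.mem_subgroupOf.1 h
  refine le_antisymm (fun α hα => ?_) ?_
  · obtain ⟨g, hg, hgα⟩ := Lib.FS.mem_autInducedBy.1 (hle hα)
    exact ⟨⟨g, hg⟩, MulEquiv.ext fun x => Subtype.ext (hgα x).symm⟩
  · rintro _ ⟨g, rfl⟩
    exact (Lib.FS.mem_autGroup le_rfl).2 (Lib.FS.mem_of_conj F le_rfl g.2 fun x => rfl)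

end Cfsg.Agent.S5112
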