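import Cfsg.Statements.S5126
import Cfsg.Agent.Lib.Transfer.FusionLocal
import Cfsg.Agent.Lib.FusionSystem.ModelUnique
import Cfsg.Agent.Lib.FusionAlperin.Join

set_option autoImplicit false
open Cfsg

namespace Cfsg.Agent.S5126

open Cfsg.FusionSystem Cfsg.Agent.Lib.FS

/-- In a saturated fusion system over a finite p-group S, the normalizer system of a fully normalized, centric, radical subgroup R is constrained, and in every model of that normalizer system the largest normal p-subgroup is the image of R. -/
theorem result {Ω : Type*} [Group Ω] {S : Subgroup Ω} [Finite S] (p : ℕ) [Fact p.Prime] (hS : IsPGroup p S) (F : Cfsg.FusionSystem S) (hF : F.IsSaturated p) (R : Subgroup Ω) (hRn : F.IsFullyNormalized R) (hRc : F.IsCentric R) (hRr : F.IsRadical p R) (E : Cfsg.FusionSystem (Cfsg.FusionSystem.normalizerIn S R)) (hE : F.IsNormalizerSystem R E) {G : Type*} [Group G] (ι : ↥(Cfsg.FusionSystem.normalizerIn S R) →* G) : E.IsConstrained p ∧ (E.IsModel p G ι → (Cfsg.pCore p G : Subgroup G) = (R.subgroupOf (Cfsg.FusionSystem.normalizerIn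 S R)).map ι) := by
  haveI := finite_sub hRn.1
  haveI : Finite (normalizerIn S R) := finite_sub (normalizerIn_le R)
  obtain ⟨hc, hcon⟩ := Cfsg.Agent.Lib.Transfer.FusionLocal.isConstrained_normalizerSystem hS hF hRn hRc hE
  refine ⟨hcon, fun hM => ?_⟩
  have hNn := Cfsg.Agent.Lib.Transfer.FusionLocal.isNormal_normalizerSystem hRn.1 hE
  have hRN : R ≤ normalizerIn S R := le_normalizerIn hRn.1
  have heq : E.autGroup R = F.autGroup R := by
    apply le_antisymm
    · intro a ha
      have h := (mem_autGroup hRN).1 ha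
      rw [hE] at h
      exact (mem_autGroup hRn.1).2 h.1
    · intro a ha
      obtain ⟨b, hb, -, hbe⟩ := exists_hom_of_aut hRn.1 ha
      refine mem_autGroup_of_hom (φ := b) ?_ fun y => (hbe y).symm
      rw [hE]
      refine ⟨hb, hRN, fun x => ?_, ?_⟩
      · rw [hbe]
        exact hRN (a x).2
      obtain ⟨b', hb', eb'⟩ := exists_restrict hb (sup_le le_rfl le_rfl : R ⊔ R ≤ R)
      refine ⟨b', hb', fun x => by rw [eb']; rfl, ?_⟩
      ext y
      constructor
      · rintro ⟨x, -, rfl⟩
        rw [eb', hbe]
        exact (a _).2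
      · intro hy
        obtain ⟨x, hx⟩ := a.surjective ⟨y, hy⟩
        refine ⟨Subgroup.inclusion le_sup_left x, Subgroup.mem_subgroupOf.2 x.2, ?_⟩
        rw [eb', hbe]
        exact congrArg Subtype.val hx
  have hrad : E.IsRadical p R := ⟨hRN, by rw [heq]; exact hRr.2⟩
  have hcore : E.core = R :=
    le_antisymm (isNormal_le_centricRadical (hS.to_le (normalizerIn_le R))
      (Cfsg.Agent.Lib.FusionAlperin.Join.isNormal_core E) hc hrad) (le_core_of_isNormal hNn)
  haveI := hM.1
  rw [model_pCore_eq hM, hcore]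

end Cfsg.Agent.S5126
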