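import Cfsg.Agent.Lib.FusionSystem.NormalCentralizerClosed
import Cfsg.Statements.S5127
-- import your own Cfsg.Agent.* helpers here

set_option autoImplicit false
open Cfsg

namespace Cfsg.Agent.S5127

/-- Let F be a saturated fusion system over a finite p-group S and E a normal subsystem of F over T. Among the subgroups Y of C_S(T) whose centralizer system C_F(Y) contains E there is a largest one, C_S(E), and it is strongly closed in F. -/
theorem result {Ω : Type*} [Group Ω] {S : Subgroup Ω} [Finite S] (p : ℕ) [Fact p.Prime] (hS : IsPGroup p S) (F : Cfsg.FusionSystem S) (hF : F.IsSaturated p) {T : Subgroup Ω} (E : Cfsg.FusionSystem T) (hE : E.IsNormalIn F p) : ∃ C : Subgroup Ω, C ≤ Cfsg.FusionSystem.centralizerIn S T ∧ (∀ P : Subgroup Ω, E.Hom P ⊆ F.centralizerHom C P) ∧ (∀ Y : Subgroup Ω, Y ≤ Cfsg.FusionSystem.centralizerIn S T → (∀ P : Subgroup Ω, E.Hom P ⊆ F.centralizerHom Y P) → Y ≤ C) ∧ F.StronglyClosed C :=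
by
  open Cfsg.FusionSystem Cfsg.Agent.Lib.FS Cfsg.Agent.Lib.FS.NormalCentralizer in
  refine ⟨centralizerSub F E, centralizerSub_le, fun P φ hφ => ?_, fun Y hY h y hy => ?_,
    stronglyClosed_centralizerSub hS hE⟩
  · open Cfsg.FusionSystem Cfsg.Agent.Lib.FS Cfsg.Agent.Lib.FS.NormalCentralizer in
    have hcen : ∀ t ∈ T, t ∈ centralizerIn S (centralizerSub F E) := fun t ht =>
      mem_centralizerIn.2 ⟨hE.1.2.2.2.1.1 ht, fun y hy =>
        ((mem_centralizerIn.1 (centralizerSub_le hy)).2 t ht).symm⟩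
    open Cfsg.Agent.Lib.FS Cfsg.Agent.Lib.FS.NormalCentralizer in
    exact ⟨hE.1.2.2.1 P hφ, fun t ht => hcen t (src_le hφ ht), fun x => hcen _ (apply_mem hφ x),
      fixes_centralizerSub hS hE hφ⟩
  · open Cfsg.Agent.Lib.FS.NormalCentralizer in
    exact Subgroup.subset_closure ⟨hY hy, fun P φ hφ =>
      Fixes.mono (Subgroup.zpowers_le.2 hy) (h P hφ).2.2.2⟩


end Cfsg.Agent.S5127
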