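import Cfsg.Agent.Lib.FusionSystem.Factor
import Cfsg.Statements.S5128
-- import your own Cfsg.Agent.* helpers here

set_option autoImplicit false
open Cfsg

namespace Cfsg.Agent.S5128

/-- In a saturated fusion system over a finite p-group S, the product of two strongly closed subgroups is strongly closed. -/
theorem result {Ω : Type*} [Group Ω] {S : Subgroup Ω} [Finite S] (p : ℕ) [Fact p.Prime] (hS : IsPGroup p S) (F : Cfsg.FusionSystem S) (hF : F.IsSaturated p) (T₁ T₂ : Subgroup Ω) (h₁ : F.StronglyClosed T₁) (h₂ : F.StronglyClosed T₂) : F.StronglyClosed (T₁ ⊔ T₂) :=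
  by
  refine ⟨sup_le h₁.1 h₂.1, fun R hR φ hφ x => ?_⟩
  obtain ⟨ψ, hψ, hc⟩ := Cfsg.Agent.Lib.FusionP3.StronglyClosed.hasLift hS hF h₁ hφ
  have hnorm : ∀ u ∈ T₂, ∀ t ∈ T₁, u * t * u⁻¹ ∈ T₁ := fun u hu t ht =>
    Cfsg.Agent.Lib.FS.conj_mem_of_normalizer (Cfsg.Agent.Lib.FS.stronglyClosed_le_normalizer h₁ (h₂.1 hu)) ht
  obtain ⟨u, hu, t, ht, hut⟩ := Cfsg.Agent.Lib.FusionP3.StronglyClosed.exists_mul_of_mem_sup hnorm
    (show (x : Ω) ∈ T₂ ⊔ T₁ from sup_comm T₁ T₂ ▸ hR x.2)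
  have htm : t ∈ R ⊔ T₁ := (le_sup_right : T₁ ≤ R ⊔ T₁) ht
  have hum : u ∈ R ⊔ T₁ := by
    rw [show u = (x : Ω) * t⁻¹ by rw [hut, mul_inv_cancel_right]]
    exact (R ⊔ T₁).mul_mem ((le_sup_left : R ≤ R ⊔ T₁) x.2) ((R ⊔ T₁).inv_mem htm)
  have e : ψ (Subgroup.inclusion le_sup_left x) = ψ ⟨u, hum⟩ * ψ ⟨t, htm⟩ := by
    rw [← map_mul]
    exact congrArg ψ (Subtype.ext hut)
  have h3 : ψ (Subgroup.inclusion le_sup_left x) ∈ T₁ ⊔ T₂ := by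
    rw [e]
    exact mul_mem ((le_sup_right : T₂ ≤ T₁ ⊔ T₂) (Cfsg.Agent.Lib.FS.stronglyClosed_apply_mem h₂ hψ hu))
      ((le_sup_left : T₁ ≤ T₁ ⊔ T₂) (Cfsg.Agent.Lib.FS.stronglyClosed_apply_mem h₁ hψ ht))
  have h4 := mul_mem h3 (inv_mem ((le_sup_left : T₁ ≤ T₁ ⊔ T₂) (hc x)))
  simpa [mul_inv_rev, ← mul_assoc] using h4

end Cfsg.Agent.S5128
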