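import Cfsg.Statements.S5130
import Cfsg.Agent.Lib.FusionP3.Prime.Normality

set_option autoImplicit false
open Cfsg

namespace Cfsg.Agent.S5130

open Cfsg Cfsg.FusionSystem Cfsg.Agent.Lib.FS
open Cfsg.Agent.Lib.FusionP3.Prime
open Cfsg.Agent.Lib.FusionP3.Prime.Normality (exists_mul_of_mem_sup)
open Cfsg.Agent.Lib.FusionP3.StronglyClosed (apply_mem_of_stronglyClosed)

section Aux

variable {Ω : Type*} [Group Ω]

theorem card_sup_eq {S₁ S₂ A B : Subgroup Ω} (hc : ∀ a ∈ S₁, ∀ b ∈ S₂, a * b = b * a) (hi : S₁ ⊓ S₂ = ⊥)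
    (hA : A ≤ S₁) (hB : B ≤ S₂) : Nat.card ↥(A ⊔ B) = Nat.card A * Nat.card B := by
  rw [← Nat.card_prod]
  refine (Nat.card_congr (Equiv.ofBijective (fun x : A × B => (⟨(x.1 : Ω) * x.2,
    mul_mem (le_sup_left (b := B) x.1.2) (le_sup_right (a := A) x.2.2)⟩ : ↥(A ⊔ B))) ⟨?_, ?_⟩)).symm
  · rintro ⟨a, b⟩ ⟨a', b'⟩ h
    have h1 : (a : Ω) * b = a' * b' := congrArg Subtype.val h
    have h2 : (a' : Ω)⁻¹ * a = b' * (b : Ω)⁻¹ := by
      rw [eq_mul_inv_iff_mul_eq, mul_assoc, h1, inv_mul_cancel_left]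
    have h3 : (a' : Ω)⁻¹ * a ∈ S₁ ⊓ S₂ :=
      ⟨mul_mem (Subgroup.inv_mem _ (hA a'.2)) (hA a.2), h2 ▸ mul_mem (hB b'.2) (Subgroup.inv_mem _ (hB b.2))⟩
    rw [hi, Subgroup.mem_bot] at h3
    have h4 : (a : Ω) = a' := (inv_mul_eq_one.1 h3).symm
    exact Prod.ext (Subtype.ext h4) (Subtype.ext (mul_left_cancel (h4 ▸ h1)))
  · rintro ⟨w, hw⟩
    obtain ⟨a, ha, b, hb, rfl⟩ := exists_mul_of_mem_sup (fun a ha b hb => hc a (hA ha) b (hB hb)) hw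
    exact ⟨⟨⟨a, ha⟩, ⟨b, hb⟩⟩, rfl⟩

variable {S : Subgroup Ω} [Finite S] {p : ℕ} [Fact p.Prime] {F : FusionSystem S} {S₁ S₂ : Subgroup Ω}

theorem decomp (hd : IsInternalDirectProduct S₁ S₂ S) {w : Ω} (hw : w ∈ S) :
    ∃ a ∈ S₁, ∃ b ∈ S₂, a * b = w :=
  exists_mul_of_mem_sup hd.2.2.1 (hd.2.2.2.2.symm ▸ hw : w ∈ S₁ ⊔ S₂)

theorem range_sup (hd : IsInternalDirectProduct S₁ S₂ S) (h₂ : F.StronglyClosed S₂) {P Q : Subgroup Ω}
    (hP : P ≤ S₁) {ψ : ↥(P ⊔ S₂) →* Ω} (hψ : ψ ∈ F.Hom (P ⊔ S₂)) {φ : P →* Ω} (hQ : φ.range = Q)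
    (he : ∀ x : P, ψ ⟨x, le_sup_left (b := S₂) x.2⟩ = φ x) : ψ.range = Q ⊔ S₂ := by
  have := finite_sub hd.2.1
  have hm : ∀ b : S₂, ψ ⟨b, le_sup_right (a := P) b.2⟩ ∈ S₂ := fun b =>
    apply_mem_of_stronglyClosed h₂ hψ _ b.2
  have hsurj : Function.Surjective fun b : S₂ => (⟨_, hm b⟩ : S₂) :=
    Finite.surjective_of_injective fun b b' e => Subtype.ext
      (congrArg (fun z : ↥(P ⊔ S₂) => (z : Ω)) (F.injective_of_mem hψ (congrArg Subtype.val e)))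
  refine le_antisymm ?_ (sup_le ?_ ?_)
  · rintro _ ⟨⟨w, hw⟩, rfl⟩
    obtain ⟨a, ha, b, hb, rfl⟩ := exists_mul_of_mem_sup (fun a ha b hb => hd.2.2.1 a (hP ha) b hb) hw
    rw [show (⟨a * b, hw⟩ : ↥(P ⊔ S₂)) = ⟨a, le_sup_left (b := S₂) ha⟩ * ⟨b, le_sup_right (a := P) hb⟩ from rfl,
      map_mul, he ⟨a, ha⟩]
    exact mul_mem (le_sup_left (b := S₂) (hQ.le ⟨_, rfl⟩)) (le_sup_right (a := Q) (hm ⟨b, hb⟩))
  · rw [← hQ]; rintro _ ⟨x, rfl⟩; exact ⟨_, he x⟩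
  · intro b hb
    obtain ⟨b', hb'⟩ := hsurj ⟨b, hb⟩
    exact ⟨_, congrArg Subtype.val hb'⟩

theorem centralizer_decomp (hd : IsInternalDirectProduct S₁ S₂ S) {V : Subgroup Ω} (hV : V ≤ S₁) :
    centralizerIn S V = centralizerIn S₁ V ⊔ S₂ := by
  refine le_antisymm (fun w hw => ?_) (sup_le (fun a ha => ⟨hd.1 ha.1, ha.2⟩)
    (fun b hb => ⟨hd.2.1 hb, fun x hx => hd.2.2.1 x (hV hx) b hb⟩))
  obtain ⟨a, ha, b, hb, rfl⟩ := decomp hd hw.1
  refine mul_mem (le_sup_left (b := S₂) ⟨ha, fun x hx => ?_⟩) (le_sup_right (a := centralizerIn S₁ V) hb)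
  have h1 := hw.2 x hx
  have h2 := hd.2.2.1 x (hV hx) b hb
  calc x * a = x * (a * b) * b⁻¹ := by group
    _ = a * (b * x) * b⁻¹ := by rw [h1]; group
    _ = a * x := by rw [← h2]; group

theorem centralizer_decomp₂ (hd : IsInternalDirectProduct S₁ S₂ S) {V : Subgroup Ω} (hV : V ≤ S₁) :
    centralizerIn S (V ⊔ S₂) = centralizerIn S₁ V ⊔ centralizerIn S₂ S₂ := by
  refine le_antisymm (fun w hw => ?_) (sup_le (fun a ha => ⟨hd.1 ha.1, ?_⟩) (fun b hb => ⟨hd.2.1 hb.1, ?_⟩))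
  · obtain ⟨a, ha, b, hb, rfl⟩ := decomp hd hw.1
    refine mul_mem (le_sup_left (b := centralizerIn S₂ S₂) ⟨ha, fun x hx => ?_⟩)
      (le_sup_right (a := centralizerIn S₁ V) ⟨hb, fun x hx => ?_⟩)
    · have h1 := hw.2 x (le_sup_left (b := S₂) hx)
      have h2 := hd.2.2.1 x (hV hx) b hb
      calc x * a = x * (a * b) * b⁻¹ := by group
        _ = a * (b * x) * b⁻¹ := by rw [h1]; group
        _ = a * x := by rw [← h2]; group
    · have h1 := hw.2 x (le_sup_right (a := V) hx)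
      have h2 := hd.2.2.1 a ha x hx
      calc x * b = a⁻¹ * (a * x) * b := by group
        _ = a⁻¹ * (x * (a * b)) := by rw [h2]; group
        _ = b * x := by rw [h1]; group
  · intro w hw
    obtain ⟨x, hx, y, hy, rfl⟩ := exists_mul_of_mem_sup (fun x hx y hy => hd.2.2.1 x (hV hx) y hy) hw
    exact (show Commute (x * y) a from Commute.mul_left (ha.2 x hx) (hd.2.2.1 a ha.1 y hy).symm)
  · intro w hw
    obtain ⟨x, hx, y, hy, rfl⟩ := exists_mul_of_mem_sup (fun x hx y hy => hd.2.2.1 x (hV hx) y hy) hw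
    exact (show Commute (x * y) b from Commute.mul_left (hd.2.2.1 x (hV hx) b hb.1) (hb.2 y hy))

variable (hS : IsPGroup p S) (hF : F.IsSaturated p) (hd : IsInternalDirectProduct S₁ S₂ S)
  (h₁ : F.StronglyClosed S₁) (h₂ : F.StronglyClosed S₂)

include hS hF hd h₁ h₂

/-- Maps inside the first factor extend over the second one. -/
theorem exists_over {P : Subgroup Ω} (hP : P ≤ S₁) {φ : P →* Ω} (hφ : φ ∈ F.Hom P) :
    ∃ ψ ∈ F.Hom (P ⊔ S₂), ∀ x : P, ψ ⟨x, le_sup_left (b := S₂) x.2⟩ = φ x := by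
  have hP' : φ.range ≤ S₁ := by
    rintro _ ⟨x, rfl⟩; exact apply_mem_of_stronglyClosed h₁ hφ x (hP x.2)
  obtain ⟨Q, ⟨π', hπ', hπ'r⟩, hQn⟩ := exists_isFullyNormalized F (hP'.trans hd.1)
  have hQ1 : Q ≤ S₁ := by
    rw [← hπ'r]; rintro _ ⟨x, rfl⟩; exact apply_mem_of_stronglyClosed h₁ hπ' x (hP' x.2)
  have hrec := receptive_of_fullyNormalized hS hF hQn
  have hext : ∀ (A : Subgroup Ω), A ≤ S₁ → ∀ χ ∈ F.Hom A, χ.range = Q → ∃ ψ ∈ F.Hom (A ⊔ S₂),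
      (∀ x : A, ψ ⟨x, le_sup_left (b := S₂) x.2⟩ = χ x) ∧ ψ.range = Q ⊔ S₂ := by
    intro A hA χ hχ hr
    obtain ⟨χ₁, hχ₁, hχ₁e⟩ := hrec.2 A χ hχ hr
    have hle : A ⊔ S₂ ≤ extender S A χ := sup_le (le_extender (hA.trans hd.1) (apply_mem hχ))
      ((show S₂ ≤ centralizerIn S A from fun b hb => ⟨hd.2.1 hb, fun x hx => hd.2.2.1 x (hA hx) b hb⟩).trans (centralizerIn_le_extender A χ))
    obtain ⟨ψ, hψ, hψe⟩ := exists_restrict hχ₁ hle
    have he : ∀ x : A, ψ ⟨x, le_sup_left (b := S₂) x.2⟩ = χ x := fun x => by rw [hψe]; exact hχ₁e x x.2 _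
    exact ⟨ψ, hψ, he, range_sup hd h₂ hA hψ hr he⟩
  obtain ⟨π, hπ, hπe⟩ := exists_comp hφ hπ' fun x => ⟨x, rfl⟩
  have hπr : π.range = Q := by
    rw [← hπ'r]
    ext y
    constructor
    · rintro ⟨x, rfl⟩; exact ⟨_, (hπe x).symm⟩
    · rintro ⟨⟨_, x, rfl⟩, rfl⟩; exact ⟨x, hπe x⟩
  obtain ⟨a, ha, hae, har⟩ := hext P hP π hπ hπr
  obtain ⟨b, hb, hbe, hbr⟩ := hext φ.range hP' π' hπ' hπ'r
  obtain ⟨b', hb', -, hb'l, -⟩ := exists_inv hb hbr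
  obtain ⟨ψ, hψ, hψe⟩ := exists_comp ha hb' fun w => har.le ⟨w, rfl⟩
  refine ⟨ψ, hψ, fun x => ?_⟩
  rw [hψe]
  have e : a ⟨x, le_sup_left (b := S₂) x.2⟩ = b ⟨φ x, le_sup_left (b := S₂) ⟨x, rfl⟩⟩ := by
    rw [hae, hπe]; exact (hbe ⟨φ x, x, rfl⟩).symm
  exact (congrArg b' (Subtype.ext e : _ = (⟨b _, hbr.le ⟨_, rfl⟩⟩ : ↥(Q ⊔ S₂)))).trans (hb'l _ _)

/-- Every map inside the first factor is an automorphism of `S` followed by one fixing the second factor. -/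
theorem split {P : Subgroup Ω} (hP : P ≤ S₁) {φ : P →* Ω} (hφ : φ ∈ F.Hom P) :
    ∃ β ∈ F.autGroup S, ∃ e ∈ F.centralizerHom S₂ P, ∀ (x : P) (hx : e x ∈ S),
      e x ∈ S₁ ∧ φ x = ((β ⟨e x, hx⟩ : S) : Ω) := by
  obtain ⟨ψ, hψ, hψe⟩ := exists_over hS hF hd h₁ h₂ hP hφ
  haveI := finite_sub hd.2.1
  obtain ⟨ψ₂, hψ₂, hψ₂e⟩ := exists_restrict hψ (le_sup_right : S₂ ≤ P ⊔ S₂)
  have hψ₂r : ψ₂.range = S₂ := range_eq_of_mem hψ₂ (fun x => apply_mem_of_stronglyClosed h₂ hψ₂ x x.2) le_rfl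
  have hn : F.IsFullyNormalized S₂ := ⟨hd.2.1, fun Q ⟨χ, hχ, hr⟩ => by
    rw [← hr, range_eq_of_mem hχ (fun x => apply_mem_of_stronglyClosed h₂ hχ x x.2) le_rfl]⟩
  have hSn : S ≤ normalizerIn S S₂ := fun g hg => ⟨hg, mem_normalizer_of_conj_mem fun x hx => by
    simpa using apply_mem_of_stronglyClosed h₂ (F.conj_mem le_rfl hg) ⟨x, hd.2.1 hx⟩ hx⟩
  obtain ⟨B, hB, hBe⟩ := Cfsg.Agent.Lib.FusionP3.Induction.exists_extend_aut
    (receptive_of_fullyNormalized hS hF hn) hSn (homEquiv_mem_autGroup hψ₂ hψ₂r) (by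
      intro g hg
      obtain ⟨a, ha, b, hb, rfl⟩ := decomp hd hg
      refine ⟨((homEquiv hψ₂ hψ₂r ⟨b, hb⟩ : S₂) : Ω), hd.2.1 (homEquiv hψ₂ hψ₂r _).2, fun x hx => ?_⟩
      have h0 : a * b * (x : Ω) * (a * b)⁻¹ = b * x * b⁻¹ := by
        have := hd.2.2.1 a ha (b * x * b⁻¹) (mul_mem (mul_mem hb x.2) (Subgroup.inv_mem _ hb))
        calc a * b * (x : Ω) * (a * b)⁻¹ = a * (b * x * b⁻¹) * a⁻¹ := by group
          _ = b * x * b⁻¹ := by rw [this, mul_inv_cancel_right]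
      rw [show (⟨a * b * (x : Ω) * (a * b)⁻¹, hx⟩ : S₂) = ⟨b, hb⟩ * x * ⟨b, hb⟩⁻¹ from Subtype.ext h0, map_mul,
        map_mul, map_inv]
      rfl)
  have hBr : B.range = S := range_eq_of_mem hB (apply_mem hB) le_rfl
  set β := homEquiv hB hBr with hβ
  have hβF : β ∈ F.autGroup S := homEquiv_mem_autGroup hB hBr
  obtain ⟨B', hB', -, hB'e⟩ := exists_hom_of_aut le_rfl ((F.autGroup S).inv_mem hβF)
  obtain ⟨e', he', he'e⟩ := exists_comp hψ hB' (apply_mem hψ)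
  have hval : ∀ x : P, e' ⟨x, le_sup_left (b := S₂) x.2⟩ = ((β⁻¹ ⟨φ x, apply_mem hφ x⟩ : S) : Ω) := fun x => by
    rw [he'e, hB'e]; exact congrArg (fun z => ((β⁻¹ z : S) : Ω)) (Subtype.ext (hψe x))
  obtain ⟨e, he, hee⟩ := exists_restrict he' (le_sup_left : P ≤ P ⊔ S₂)
  have he1 : ∀ x : P, e x ∈ S₁ := fun x => apply_mem_of_stronglyClosed h₁ he x (hP x.2)
  have hcen : S₁ ≤ centralizerIn S S₂ := fun a ha => ⟨hd.1 ha, fun b hb => (hd.2.2.1 a ha b hb).symm⟩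
  refine ⟨β, hβF, e, ⟨he, hP.trans hcen, fun x => hcen (he1 x), e', he', fun x => (hee x).symm, fun b => ?_⟩,
    fun x hx => ⟨he1 x, ?_⟩⟩
  · rw [he'e, hB'e]
    have h1 : β ⟨b, hd.2.1 b.2⟩ = ⟨ψ (Subgroup.inclusion le_sup_right b), apply_mem hψ _⟩ := by
      apply Subtype.ext
      show B _ = _
      rw [hBe b b.2]
      exact hψ₂e b
    rw [← h1, MulAut.inv_apply_self]
  · rw [show (⟨e x, hx⟩ : S) = β⁻¹ ⟨φ x, apply_mem hφ x⟩ from Subtype.ext ((hee x).trans (hval x)),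
      MulAut.apply_inv_self]

end Aux

/-- Let F be a saturated fusion system over a finite p-group S that is the direct product of two subgroups S₁ and S₂, each strongly closed in F. Let R be the full subsystem of F over S₁ (all maps of F between subgroups of S₁) and R′ the subsystem over S₁ of those maps that extend to the subgroup generated with S₂ fixing S₂ elementwise. Then R and R′ are saturated, R′ is normal in F and in R, and R is weakly normal in F. -/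
theorem result {Ω : Type*} [Group Ω] {S : Subgroup Ω} [Finite S] (p : ℕ) [Fact p.Prime] (hS : IsPGroup p S) (F : Cfsg.FusionSystem S) (hF : F.IsSaturated p) (S₁ S₂ : Subgroup Ω) (hprod : Cfsg.IsInternalDirectProduct S₁ S₂ S) (h₁ : F.StronglyClosed S₁) (h₂ : F.StronglyClosed S₂) (R R' : Cfsg.FusionSystem S₁) (hR : ∀ P : Subgroup Ω, P ≤ S₁ → R.Hom P = F.Hom P) (hR' : ∀ P : Subgroup Ω, P ≤ S₁ → R'.Hom P = F.centralizerHom S₂ P) : R.IsSaturated p ∧ R'.IsSaturated p ∧ R'.IsNormalIn F p ∧ R'.IsNormalIn R p ∧ R.IsWeaklyNormalIn F p := by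
  obtain ⟨hs1, hs2, hc, hi, hsup⟩ := id hprod
  haveI := finite_sub hs1
  haveI := finite_sub hs2
  have hcen : S₁ ≤ centralizerIn S S₂ := fun a ha => ⟨hs1 ha, fun b hb => (hc a ha b hb).symm⟩
  have hRsub : R.IsSubsystemOf F := fun P φ h => hR P (src_le h) ▸ h
  have hR'sub : R'.IsSubsystemOf F := fun P φ h => (hR' P (src_le h) ▸ h : φ ∈ F.centralizerHom S₂ P).1
  have hR'R : R'.IsSubsystemOf R := fun P φ h => (hR P (src_le h)).symm ▸ hR'sub P h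
  have hfull : ∀ Q, Q ≤ S₁ → R.autGroup Q = F.autGroup Q := fun Q hQ => by
    ext α; rw [mem_autGroup hQ, mem_autGroup (hQ.trans hs1), hR Q hQ]
  have hInd : ∀ Q, Q ≤ S₁ → autInducedBy S₁ Q = autInducedBy S Q := fun Q hQ => by
    ext α
    rw [mem_autInducedBy, mem_autInducedBy]
    constructor
    · rintro ⟨g, hg, he⟩; exact ⟨g, hs1 hg, he⟩
    · rintro ⟨g, hg, he⟩
      obtain ⟨a, ha, b, hb, rfl⟩ := decomp hprod hg
      refine ⟨a, ha, fun x => ?_⟩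
      have := hc x (hQ x.2) b hb
      rw [he]
      calc a * b * (x : Ω) * (a * b)⁻¹ = a * (b * x) * b⁻¹ * a⁻¹ := by group
        _ = a * x * a⁻¹ := by rw [← this]; group
  have hRs : R.IsSaturated p := by
    intro P hP
    obtain ⟨Q, ⟨φ, hφ, hr⟩, hQn⟩ := exists_isFullyNormalized F (hP.trans hs1)
    have hQ1 : Q ≤ S₁ := by
      rw [← hr]; rintro _ ⟨x, rfl⟩; exact apply_mem_of_stronglyClosed h₁ hφ x (hP x.2)
    refine ⟨Q, ⟨φ, (hR P hP).symm ▸ hφ, hr⟩, ⟨hQ1, ?_⟩, hQ1, fun A χ hχ hχr => ?_⟩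
    · rw [hfull Q hQ1, hInd Q hQ1]; exact (fullyAutomized_of_fullyNormalized hS hF hQn).2
    · obtain ⟨χ₁, hχ₁, hχ₁e⟩ := (receptive_of_fullyNormalized hS hF hQn).2 A χ (hRsub A hχ) hχr
      have hle : extender S₁ A χ ≤ extender S A χ := (Subgroup.closure_le _).2 fun g ⟨hg, hn, h, hh, he⟩ =>
        mem_extender_of ⟨hs1 hg, hn⟩ (hs1 hh) he
      obtain ⟨ψ, hψ, hψe⟩ := exists_restrict hχ₁ hle
      have h1 : extender S₁ A χ ≤ S₁ := (extender_le_normalizerIn A χ).trans (normalizerIn_le A)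
      exact ⟨ψ, (hR _ h1).symm ▸ hψ, fun x hx hx' => (hψe _).trans (hχ₁e x hx (hle hx'))⟩
  have hInv : ∀ α ∈ F.autGroup S₁, Inv R' α := by
    intro α hα P hP φ hφ
    obtain ⟨-, -, -, ψ, hψ, hψP, hψ2⟩ := (hR' P hP ▸ hφ : φ ∈ F.centralizerHom S₂ P)
    obtain ⟨a, ha, har, hae⟩ := exists_hom_of_aut hs1 hα
    obtain ⟨A, hA, hAe⟩ := exists_over hS hF hprod h₁ h₂ le_rfl ha
    have hW : img α P ⊔ S₂ ≤ A.range := by
      rw [range_sup hprod h₂ le_rfl hA har hAe]; exact sup_le_sup_right (img_le α P) S₂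
    obtain ⟨A', hA', -, hA'l, -⟩ := exists_inv hA rfl
    obtain ⟨A₀, hA₀, hA₀e⟩ := exists_restrict hA' hW
    have hcomm : ∀ u ∈ img α P, ∀ b ∈ S₂, u * b = b * u := fun u hu b hb => hc u (img_le α P hu) b hb
    have hA₀P : ∀ (x : Ω) (hx : x ∈ P), A₀ ⟨((α ⟨x, hP hx⟩ : S₁) : Ω),
        le_sup_left (b := S₂) (apply_mem_img α hP ⟨x, hx⟩)⟩ = x := fun x hx => by
      rw [hA₀e, show (⟨((α ⟨x, hP hx⟩ : S₁) : Ω), hW (le_sup_left (b := S₂) (apply_mem_img α hP ⟨x, hx⟩))⟩ : A.range)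
        = ⟨A ⟨x, le_sup_left (b := S₂) (hP hx)⟩, _, rfl⟩ from Subtype.ext ((hAe ⟨x, hP hx⟩).trans (hae _)).symm]
      exact hA'l _ _
    have hA₀2 : ∀ b (hb : b ∈ S₂), A₀ ⟨b, le_sup_right (a := img α P) hb⟩ ∈ S₂ := fun b hb =>
      apply_mem_of_stronglyClosed h₂ hA₀ _ hb
    have hval : ∀ w, A₀ w ∈ P ⊔ S₂ := by
      rintro ⟨w, hw⟩
      obtain ⟨u, hu, b, hb, rfl⟩ := exists_mul_of_mem_sup hcomm hw
      rw [show (⟨u * b, hw⟩ : ↥(img α P ⊔ S₂)) =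
        ⟨u, le_sup_left (b := S₂) hu⟩ * ⟨b, le_sup_right (a := img α P) hb⟩ from rfl, map_mul]
      obtain ⟨⟨x, hx1⟩, hx, rfl⟩ := hu
      exact mul_mem (le_sup_left (b := S₂) ((hA₀P x hx).symm ▸ hx : _ ∈ P)) (le_sup_right (a := P) (hA₀2 b hb))
    obtain ⟨c₁, hc₁, hc₁e⟩ := exists_comp hA₀ hψ hval
    have hψm : ∀ w, ψ w ∈ S₁ ⊔ S₂ := fun w => hsup.symm ▸ apply_mem hψ w
    obtain ⟨c₂, hc₂, hc₂e⟩ := exists_comp hc₁ hA fun w => by rw [hc₁e]; exact hψm _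
    obtain ⟨χ, hχ, hχe⟩ := exists_restrict hc₂ (le_sup_left : img α P ≤ img α P ⊔ S₂)
    refine ⟨χ, (hR' _ (img_le α P)).symm ▸ ⟨hχ, (img_le α P).trans hcen, fun x =>
      hcen (apply_mem_of_stronglyClosed h₁ hχ x (img_le α P x.2)), c₂, hc₂, fun x => (hχe x).symm, ?_⟩,
      fun x hφx hαx => ?_⟩
    · rintro ⟨b, hb⟩
      show c₂ ⟨b, le_sup_right (a := img α P) hb⟩ = b
      rw [hc₂e]
      have h1 : c₁ ⟨b, le_sup_right (a := img α P) hb⟩ = A₀ ⟨b, le_sup_right (a := img α P) hb⟩ := by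
        rw [hc₁e]; exact hψ2 ⟨_, hA₀2 b hb⟩
      obtain ⟨y, hy⟩ : ∃ y, A y = b := hW (le_sup_right (a := img α P) hb)
      have h2 : A₀ ⟨b, le_sup_right (a := img α P) hb⟩ = y := by
        rw [hA₀e, show (⟨b, hW (le_sup_right (a := img α P) hb)⟩ : A.range) = ⟨A y, y, rfl⟩ from Subtype.ext hy.symm]
        exact hA'l _ _
      exact (congrArg A (Subtype.ext (h1.trans h2) : _ = y)).trans hy
    · rw [hχe, hc₂e]
      have h1 : c₁ ⟨((α ⟨x, hP x.2⟩ : S₁) : Ω), le_sup_left (b := S₂) hαx⟩ = φ x := by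
        rw [hc₁e]
        exact (congrArg ψ (Subtype.ext (hA₀P x x.2) : _ = Subgroup.inclusion le_sup_left x)).trans (hψP x)
      exact (congrArg A (Subtype.ext h1 : _ = (⟨φ x, le_sup_left (b := S₂) hφx⟩ : ↥(S₁ ⊔ S₂)))).trans
        ((hAe ⟨φ x, hφx⟩).trans (hae _))
  have hFrat : ∀ P, P ≤ S₁ → ∀ φ ∈ F.Hom P, Dec (F.autGroup S₁) R' φ := by
    intro P hP φ hφ
    obtain ⟨β, hβ, e, he, h⟩ := split hS hF hprod h₁ h₂ hP hφ
    obtain ⟨b, hb, -, hbe⟩ := exists_hom_of_aut le_rfl hβ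
    obtain ⟨b₁, hb₁, hb₁e⟩ := exists_restrict hb hs1
    have hb₁r : b₁.range = S₁ := range_eq_of_mem hb₁ (fun x => apply_mem_of_stronglyClosed h₁ hb₁ x x.2) le_rfl
    refine ⟨homEquiv hb₁ hb₁r, homEquiv_mem_autGroup hb₁ hb₁r, e, (hR' P hP).symm ▸ he, fun x hx => ?_⟩
    rw [(h x (hs1 hx)).2]
    exact ((hb₁e ⟨e x, hx⟩).trans (hbe _)).symm
  have hR's : R'.IsSaturated p := by
    intro P hP
    obtain ⟨Q₀, ⟨φ, hφ, hr⟩, hQ₀n⟩ := exists_isFullyNormalized F (hP.trans hs1)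
    obtain ⟨β, hβ, e, he, h⟩ := split hS hF hprod h₁ h₂ hP hφ
    set Q := e.range with hQdef
    have hQ1 : Q ≤ S₁ := by rintro _ ⟨x, rfl⟩; exact (h x (apply_mem he.1 x)).1
    obtain ⟨b', hb', -, hb'e⟩ := exists_hom_of_aut le_rfl ((F.autGroup S).inv_mem hβ)
    have hmap : (Q₀.subgroupOf S).map b' = Q := by
      rw [← hr]
      ext y
      constructor
      · rintro ⟨z, ⟨x, hx⟩, rfl⟩
        refine ⟨x, ?_⟩
        rw [hb'e, show z = β ⟨e x, apply_mem he.1 x⟩ from Subtype.ext (hx.symm.trans (h x _).2),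
          MulAut.inv_apply_self]
      · rintro ⟨x, rfl⟩
        refine ⟨⟨φ x, apply_mem hφ x⟩, ⟨x, rfl⟩, ?_⟩
        rw [hb'e, show (⟨φ x, apply_mem hφ x⟩ : S) = β ⟨e x, apply_mem he.1 x⟩ from Subtype.ext (h x _).2,
          MulAut.inv_apply_self]
    have hQn : F.IsFullyNormalized Q := by
      refine ⟨hQ1.trans hs1, fun Q' hQ' => (hQ₀n.2 Q' (isConj_trans (isConj_symm ⟨φ, hφ, hr⟩)
        (isConj_trans ⟨e, he.1, rfl⟩ hQ'))).trans ?_⟩
      haveI := finite_sub (normalizerIn_le (S := S) Q)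
      obtain ⟨b'', hb'', hb''e⟩ := exists_restrict hb' (normalizerIn_le Q₀)
      refine card_le_of_hom hb'' fun g => ?_
      rw [hb''e]
      exact apply_mem_normalizerIn hb' hQ₀n.1 hmap _ g.2.2
    haveI := finite_sub (hQ1.trans hs1)
    have hconj : R'.IsConj P Q := ⟨e, (hR' P hP).symm ▸ he, rfl⟩
    refine ⟨Q, hconj, ?_, hQ1, fun A χ hχ hχr => ?_⟩
    · have hfa := fullyAutomized_of_fullyNormalized hS hF hQn
      refine isFullyAutomized_of_card hQ1 ?_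
      haveI := Cfsg.Agent.Lib.FusionP3.GT.finite_mulAut ↥Q
      rw [hInd Q hQ1]
      have hle1 : autInducedBy S Q ≤ R'.autGroup Q := hInd Q hQ1 ▸ autInducedBy_le_autGroup R' hQ1
      have hle2 : R'.autGroup Q ≤ F.autGroup Q := Cfsg.Agent.Lib.FusionP3.GT.autGroup_mono hR'sub hQ1
      have h1 := card_autInducedBy_of_fullyAutomized hfa
      rw [h1]
      congr 1
      refine le_antisymm ?_ ((Nat.factorization_le_iff_dvd Nat.card_pos.ne' Nat.card_pos.ne').2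
        (Subgroup.card_dvd_of_le hle2) p)
      exact ((Fact.out : p.Prime).pow_dvd_iff_le_factorization Nat.card_pos.ne').1
        (h1 ▸ Subgroup.card_dvd_of_le hle1)
    · have hA1 : A ≤ S₁ := src_le hχ
      obtain ⟨-, -, -, ψ₀, hψ₀, hψ₀A, hψ₀2⟩ := (hR' A hA1 ▸ hχ : χ ∈ F.centralizerHom S₂ A)
      have hW := range_sup hprod h₂ hA1 hψ₀ hχr hψ₀A
      have hWc : F.IsFullyCentralized (Q ⊔ S₂) := by
        refine ⟨sup_le (hQ1.trans hs1) hs2, fun W' ⟨η, hη, hηr⟩ => ?_⟩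
        obtain ⟨η₁, hη₁, hη₁e⟩ := exists_restrict hη (le_sup_left : Q ≤ Q ⊔ S₂)
        have hV1 : η₁.range ≤ S₁ := by
          rintro _ ⟨x, rfl⟩; exact apply_mem_of_stronglyClosed h₁ hη₁ x (hQ1 x.2)
        rw [← hηr, range_sup hprod h₂ hQ1 hη rfl fun x => (hη₁e x).symm, centralizer_decomp₂ hprod hV1,
          centralizer_decomp₂ hprod hQ1, card_sup_eq hc hi (centralizerIn_le _) (centralizerIn_le _),
          card_sup_eq hc hi (centralizerIn_le _) (centralizerIn_le _)]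
        refine Nat.mul_le_mul_right _ ?_
        have h2 := (fullyNormalized_props hS hF hQn).1.2 η₁.range ⟨η₁, hη₁, rfl⟩
        rw [centralizer_decomp hprod hV1, centralizer_decomp hprod hQ1,
          card_sup_eq hc hi (centralizerIn_le _) le_rfl, card_sup_eq hc hi (centralizerIn_le _) le_rfl] at h2
        exact Nat.le_of_mul_le_mul_right h2 Nat.card_pos
      obtain ⟨ψ₁, hψ₁, hψ₁e⟩ := (receptive_of_fullyCentralized hS hF hWc).2 _ ψ₀ hψ₀ hW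
      have hle : extender S₁ A χ ⊔ S₂ ≤ extender S (A ⊔ S₂) ψ₀ := by
        refine sup_le ?_ (le_sup_right.trans (le_extender (sup_le (hA1.trans hs1) hs2) (apply_mem hψ₀)))
        refine (Subgroup.closure_le _).2 ?_
        rintro g ⟨hg, hn, k, hk, hke⟩
        haveI := finite_sub (sup_le (hA1.trans hs1) hs2 : A ⊔ S₂ ≤ S)
        have hg2 : ∀ b ∈ S₂, g * b * g⁻¹ = b := fun b hb => by rw [hc g hg b hb, mul_inv_cancel_right]
        have hgn : g ∈ normalizerIn S (A ⊔ S₂) := ⟨hs1 hg, mem_normalizer_of_conj_mem fun w hw => by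
          obtain ⟨x, hx, b, hb, rfl⟩ := exists_mul_of_mem_sup (fun x hx b hb => hc x (hA1 hx) b hb) hw
          rw [show g * (x * b) * g⁻¹ = (g * x * g⁻¹) * (g * b * g⁻¹) by group, hg2 b hb]
          exact mul_mem (le_sup_left (b := S₂) (conj_mem_of_normalizer hn hx)) (le_sup_right (a := A) hb)⟩
        refine mem_extender_of hgn (hs1 hk) fun w hw => ?_
        obtain ⟨x, hx, b, hb, hxb⟩ := exists_mul_of_mem_sup (fun x hx b hb => hc x (hA1 hx) b hb) w.2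
        have e1 : w = ⟨x, le_sup_left (b := S₂) hx⟩ * ⟨b, le_sup_right (a := A) hb⟩ := Subtype.ext hxb.symm
        have e2 : (⟨g * w * g⁻¹, hw⟩ : ↥(A ⊔ S₂)) =
            ⟨g * x * g⁻¹, le_sup_left (b := S₂) (conj_mem_of_normalizer hn hx)⟩ * ⟨b, le_sup_right (a := A) hb⟩ :=
          Subtype.ext (by
            show g * (w : Ω) * g⁻¹ = g * x * g⁻¹ * b
            rw [← hxb, show g * (x * b) * g⁻¹ = (g * x * g⁻¹) * (g * b * g⁻¹) by group, hg2 b hb])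
        have hxA : ∀ (y : Ω) (hy : y ∈ A), ψ₀ ⟨y, le_sup_left (b := S₂) hy⟩ = χ ⟨y, hy⟩ := fun y hy =>
          hψ₀A ⟨y, hy⟩
        have hb2 : ψ₀ ⟨b, le_sup_right (a := A) hb⟩ = b := hψ₀2 ⟨b, hb⟩
        rw [e2, map_mul, e1, map_mul, hxA _ (conj_mem_of_normalizer hn hx), hxA x hx, hb2, hke ⟨x, hx⟩ _,
          show k * (χ ⟨x, hx⟩ * b) * k⁻¹ = k * χ ⟨x, hx⟩ * k⁻¹ * (k * b * k⁻¹) by group,
          hc k hk b hb, mul_inv_cancel_right]
      obtain ⟨ψ₂, hψ₂, hψ₂e⟩ := exists_restrict hψ₁ hle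
      obtain ⟨ψ, hψ, hψe⟩ := exists_restrict hψ₂ (le_sup_left : extender S₁ A χ ≤ extender S₁ A χ ⊔ S₂)
      have hN1 : extender S₁ A χ ≤ S₁ := (extender_le_normalizerIn A χ).trans (normalizerIn_le A)
      refine ⟨ψ, (hR' _ hN1).symm ▸ ⟨hψ, hN1.trans hcen, fun x =>
        hcen (apply_mem_of_stronglyClosed h₁ hψ x (hN1 x.2)), ψ₂, hψ₂, fun x => (hψe x).symm, fun b => ?_⟩,
        fun x hx hx' => ?_⟩
      · show ψ₂ ⟨b, le_sup_right (a := extender S₁ A χ) b.2⟩ = b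
        rw [hψ₂e]
        exact (hψ₁e b (le_sup_right (a := A) b.2) _).trans (hψ₀2 b)
      · rw [hψe, hψ₂e]
        exact (hψ₁e x (le_sup_left (b := S₂) hx) _).trans (hψ₀A ⟨x, hx⟩)
  refine ⟨hRs, hR's, ⟨⟨hR's, hF, hR'sub, h₁, fun P hP φ hφ α hα => hInv α hα P hP φ hφ,
    fun P hP φ hφ => hFrat P hP φ hφ⟩, fun α hα => ?_⟩, ⟨⟨hR's, hRs, hR'R, ?_,
    fun P hP φ hφ α hα => hInv α (hfull S₁ le_rfl ▸ hα) P hP φ hφ, fun P hP φ hφ => ?_⟩, fun α hα => ?_⟩,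
    ⟨hRs, hF, hRsub, h₁, fun P hP φ hφ α hα => ?_, fun P hP φ hφ => ?_⟩⟩
  · obtain ⟨a, ha, har, hae⟩ := exists_hom_of_aut le_rfl hα
    obtain ⟨-, -, -, ψ, hψ, hψP, hψ2⟩ := (hR' S₁ le_rfl ▸ ha : a ∈ F.centralizerHom S₂ S₁)
    have hCS : S₁ ⊔ centralizerIn S S₁ ≤ S₁ ⊔ S₂ := hsup.symm ▸ sup_le hs1 (centralizerIn_le S₁)
    haveI := finite_sub ((hCS.trans hsup.le : S₁ ⊔ centralizerIn S S₁ ≤ S))
    obtain ⟨ψ', hψ', hψ'e⟩ := exists_restrict hψ hCS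
    have hmove : ∀ c (hc' : c ∈ centralizerIn S S₁),
        c⁻¹ * ψ' ⟨c, le_sup_right (a := S₁) hc'⟩ ∈ S₁ ⊓ Subgroup.centralizer (S₁ : Set Ω) := by
      intro c hc'
      obtain ⟨x, hx, b, hb, rfl⟩ := decomp hprod hc'.1
      have hxZ : x ∈ Subgroup.centralizer (S₁ : Set Ω) := fun y hy => by
        have h1 := hc'.2 y hy
        have h2 := hc y hy b hb
        calc y * x = y * (x * b) * b⁻¹ := by group
          _ = x * (b * y) * b⁻¹ := by rw [h1]; group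
          _ = x * y := by rw [← h2]; group
      have e1 : ψ' ⟨x * b, le_sup_right (a := S₁) hc'⟩ = (α ⟨x, hx⟩ : S₁) * b := by
        rw [hψ'e, show (⟨x * b, hCS (le_sup_right (a := S₁) hc')⟩ : ↥(S₁ ⊔ S₂)) =
          Subgroup.inclusion le_sup_left ⟨x, hx⟩ * Subgroup.inclusion le_sup_right ⟨b, hb⟩ from rfl, map_mul,
          hψP, hψ2, hae]
      have hαZ : ((α ⟨x, hx⟩ : S₁) : Ω) ∈ Subgroup.centralizer (S₁ : Set Ω) := fun y hy => by
        obtain ⟨z, hz⟩ := α.surjective ⟨y, hy⟩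
        have h1 : z * ⟨x, hx⟩ = ⟨x, hx⟩ * z := Subtype.ext (hxZ z z.2)
        have h2 := congrArg (fun w => ((α w : S₁) : Ω)) h1
        simp only [map_mul, hz, Subgroup.coe_mul] at h2
        exact h2
      rw [e1, show (x * b)⁻¹ * (((α ⟨x, hx⟩ : S₁) : Ω) * b) = b⁻¹ * (x⁻¹ * (α ⟨x, hx⟩ : S₁)) * b by group,
        ← hc _ (mul_mem (Subgroup.inv_mem _ hx) (α ⟨x, hx⟩).2) b⁻¹ (Subgroup.inv_mem _ hb), inv_mul_cancel_right]
      exact ⟨mul_mem (Subgroup.inv_mem _ hx) (α _).2, mul_mem (Subgroup.inv_mem _ hxZ) hαZ⟩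
    have hT' : ∀ x : S₁, ψ' ⟨x, le_sup_left (b := centralizerIn S S₁) x.2⟩ = ((α x : S₁) : Ω) := fun x => by
      rw [hψ'e, ← hae x]; exact hψP x
    have hr' : ψ'.range = S₁ ⊔ centralizerIn S S₁ := range_eq_of_mem hψ' (fun w => by
      obtain ⟨x, hx, c, hc', h⟩ := exists_mul_of_mem_sup (fun x hx c (hc' : c ∈ centralizerIn S S₁) => hc'.2 x hx) w.2
      rw [show w = ⟨x, le_sup_left (b := centralizerIn S S₁) hx⟩ * ⟨c, le_sup_right (a := S₁) hc'⟩ from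
        Subtype.ext h.symm, map_mul, hT' ⟨x, hx⟩, ← mul_inv_cancel_left c (ψ' ⟨c, le_sup_right (a := S₁) hc'⟩)]
      exact mul_mem (le_sup_left (b := centralizerIn S S₁) (α _).2)
        (mul_mem (le_sup_right (a := S₁) hc') (le_sup_left (b := centralizerIn S S₁) (hmove c hc').1))) le_rfl
    exact ⟨homEquiv hψ' hr', homEquiv_mem_autGroup hψ' hr', hT', fun c hc' => hmove c hc'⟩
  · exact ⟨le_rfl, fun _ _ _ h x => apply_mem h x⟩
  · obtain ⟨α, hα, e, he, h⟩ := hFrat P hP φ (hRsub P hφ)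
    exact ⟨α, (hfull S₁ le_rfl).symm ▸ hα, e, he, h⟩
  · have hle : S₁ ⊔ centralizerIn S₁ S₁ ≤ S₁ := sup_le le_rfl (centralizerIn_le S₁)
    haveI := finite_sub (hle.trans hs1)
    obtain ⟨a, ha, -, hae⟩ := exists_hom_of_aut le_rfl hα
    obtain ⟨a', ha', ha'e⟩ := exists_restrict (hR'R _ ha) hle
    have hr' : a'.range = S₁ ⊔ centralizerIn S₁ S₁ := range_eq_of_mem ha'
      (fun w => le_sup_left (b := centralizerIn S₁ S₁) (apply_mem ha' w)) le_rfl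
    refine ⟨homEquiv ha' hr', homEquiv_mem_autGroup ha' hr', fun x => (ha'e _).trans (hae _), fun c hc' => ?_⟩
    show (c : Ω)⁻¹ * a' c ∈ _
    rw [ha'e, hae]
    refine ⟨mul_mem (Subgroup.inv_mem _ hc'.1) (α _).2, mul_mem (Subgroup.inv_mem _ hc'.2) fun y hy => ?_⟩
    obtain ⟨z, hz⟩ := α.surjective ⟨y, hy⟩
    have h1 : z * ⟨(c : Ω), hle c.2⟩ = ⟨(c : Ω), hle c.2⟩ * z := Subtype.ext (hc'.2 z z.2)
    have h2 := congrArg (fun w => ((α w : S₁) : Ω)) h1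
    simp only [map_mul, hz, Subgroup.coe_mul] at h2
    exact h2
  · -- invariance of the full subsystem
    obtain ⟨e, he, -, hee⟩ := exists_hom_of_aut hs1 hα
    obtain ⟨e', he', -, he'e⟩ := exists_hom_of_aut hs1 ((F.autGroup S₁).inv_mem hα)
    obtain ⟨e₀, he₀, he₀e⟩ := exists_restrict he' (img_le α P)
    obtain ⟨c₁, hc₁, hc₁e⟩ := exists_comp he₀ (hRsub P hφ) (fun y => by
      rw [he₀e, he'e]; exact (mem_img (img_le α P y.2)).1 y.2)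
    obtain ⟨χ, hχ, hχe⟩ := exists_comp hc₁ he (fun y => by rw [hc₁e]; exact apply_mem hφ _)
    refine ⟨χ, (hR _ (img_le α P)).symm ▸ hχ, fun x hφx hαx => ?_⟩
    refine ((hχe ⟨_, hαx⟩).trans (hee _)).trans ?_
    refine congrArg (fun z => ((α z : S₁) : Ω)) (Subtype.ext ?_)
    show c₁ _ = _
    rw [hc₁e]
    refine congrArg φ (Subtype.ext ?_)
    show e₀ _ = _
    rw [he₀e, he'e]
    exact congrArg Subtype.val (MulAut.inv_apply_self _ α ⟨x, hP x.2⟩)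
  · exact ⟨1, one_mem _, φ, (hR P hP).symm ▸ hφ, fun x hx => rfl⟩

end Cfsg.Agent.S5130
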