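import Cfsg.Statements.S5139
import Cfsg.Agent.Lib.FusionSystem.Hyperfocal
import Cfsg.Agent.Lib.FusionSystem.NormalSub
import Cfsg.Agent.Lib.FusionAlperin.Residual

set_option autoImplicit false
open Cfsg

namespace Cfsg.Agent.S5139

/-- Let G be a finite group with Sylow p-subgroup S and O^p(G) the subgroup generated by the elements of order prime to p. Then the p-residual subsystem of the fusion system of G on S — the saturated subsystem of p-power index over the hyperfocal subgroup — is the fusion system of O^p(G) on S ∩ O^p(G): its maps are exactly the conjugation maps by elements of O^p(G) between subgroups of S ∩ O^p(G). -/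
theorem result {G : Type*} [Group G] [Finite G] (p : ℕ) [Fact p.Prime] (S : Sylow p G) (E : Cfsg.FusionSystem ((Cfsg.groupFusionSystem (S : Subgroup G)).hyperfocalSubgroup p)) (hE : (Cfsg.groupFusionSystem (S : Subgroup G)).IsPResidual p E) : ∃ h : (S : Subgroup G) ⊓ Cfsg.pResidual p G ≤ Cfsg.pResidual p G, ∀ P : Subgroup G, E.Hom P = (Cfsg.fusionSystemOfSubgroup (Cfsg.pResidual p G) ((S : Subgroup G) ⊓ Cfsg.pResidual p G) h).Hom P := by
  classical
  have : (Cfsg.pResidual p G).Normal := Lib.Transfer.PResidual.pResidual_normal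
  refine ⟨inf_le_right, ?_⟩
  set N := Cfsg.pResidual p G
  set D := Cfsg.fusionSystemOfSubgroup N ((S : Subgroup G) ⊓ N) inf_le_right
  have hyp := Lib.FS.hyperfocal_group S
  obtain ⟨R, hR⟩ := Lib.FS.exists_sylow_inf_normal_hyp S N
  have hsat : D.IsSaturated p :=
    Lib.FS.fusionSystemOfSubgroup_isSaturated inf_le_right R hR
  have hsub : D.IsSubsystemOf (Cfsg.groupFusionSystem (S : Subgroup G)) := by
    rintro P φ ⟨hP, hφ, g, -, hg⟩
    exact ⟨hP.trans inf_le_left, fun x => (hφ x).1, g, hg⟩
  have hidx : D.HasPPowerIndexIn (Cfsg.groupFusionSystem (S : Subgroup G)) p := by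
    refine ⟨hsub, hyp.le, fun P hP => ?_⟩
    rw [Lib.FS.fusionSystemOfSubgroup_autGroup inf_le_right hP]
    rintro _ ⟨β, hβ, rfl⟩
    induction hβ using Subgroup.closure_induction with
    | mem β hβ =>
      have hβ' : (β : MulAut P) ∈ autInducedBy ⊤ P :=
        (Lib.FS.group_autGroup (hP.trans inf_le_left)).le β.2
      obtain ⟨n, hn, hco, he⟩ := Lib.FS.exists_coprime_preimage hβ' (by rwa [Subgroup.orderOf_coe])
      refine Lib.FS.mem_autInducedBy.2 ⟨n, Lib.Transfer.PResidual.mem_pResidual hco, fun x => ?_⟩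
      show (((β : MulAut P) x : P) : G) = _
      rw [← he]
      rfl
    | one => simp
    | mul a b _ _ ha hb => rw [map_mul]; exact mul_mem ha hb
    | inv a _ ha => rw [map_inv]; exact inv_mem ha
  intro P
  exact subset_antisymm
    (Lib.FusionAlperin.Residual.subset_of_pPowerIndex S.isPGroup' hE.1 hE.2.1 hyp.le hidx P)
    (Lib.FusionAlperin.Residual.subset_of_pPowerIndex S.isPGroup' hsat hsub hyp.ge hE.2 P)

end Cfsg.Agent.S5139
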