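import Cfsg.Statements.S5152
import Cfsg.Agent.Lib.FusionSystem.CharPType

set_option autoImplicit false
open Cfsg

namespace Cfsg.Agent.S5152

/-- Dichotomy for saturated fusion systems: a saturated fusion system over a finite p-group is of characteristic p-type (the normalizer system of every nontrivial fully normalized subgroup is constrained) or of component type (the centralizer system of some fully normalized subgroup of order p has a component). -/
theorem result {Ω : Type*} [Group Ω] {S : Subgroup Ω} [Finite S] (p : ℕ) [Fact p.Prime] (hS : IsPGroup p S) (F : Cfsg.FusionSystem S) (hF : F.IsSaturated p) : F.IsOfCharacteristicPType p ∨ F.IsOfComponentType p := by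
  open Cfsg.Agent.Lib.FS in
  refine or_iff_not_imp_right.2 fun hn => CharPType.isOfCharacteristicPType hS hF fun X hX hXn H hH => ?_
  haveI := Cfsg.Agent.Lib.FS.finite_sub (Cfsg.Agent.Lib.FS.centralizerIn_le (S := S) X)
  have hHs : H.IsSaturated p := Cfsg.Agent.Lib.FS.centralizerSystem_isSaturated hS hF
    (Cfsg.Agent.Lib.FS.isFullyCentralized_of_receptive
      (Cfsg.Agent.Lib.FS.receptive_of_fullyNormalized hS hF hXn)) hH
  refine Classical.byContradiction fun hc => hn ⟨X, hX, hXn, H, hH, ?_⟩
  exact Cfsg.Agent.Lib.FS.ComponentExists.exists_component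
    (hS.to_le (Cfsg.Agent.Lib.FS.centralizerIn_le X)) hHs hc

end Cfsg.Agent.S5152
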