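import Cfsg.Statements.S5153
import Cfsg.Agent.Lib.FusionSystem.Saturation

set_option autoImplicit false
open Cfsg

namespace Cfsg.Agent.S5153

open Cfsg.FusionSystem in
theorem subnormal_le {Ω : Type*} [Group Ω] {S T : Subgroup Ω} {p : ℕ} {F : FusionSystem S}
    {E : FusionSystem T} (hE : E.IsSubnormalIn F p) : T ≤ S := by
  induction hE with
  | refl F p => exact le_rfl
  | step _ h2 ih => exact ih.trans h2.1.2.2.2.1.1

open Cfsg.FusionSystem Cfsg.Agent.Lib.FS in
theorem aux {Ω : Type*} [Group Ω] {S T : Subgroup Ω} {p : ℕ} {F : FusionSystem S} {E : FusionSystem T}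
    (hE : E.IsSubnormalIn F p) (hp : Fact p.Prime) (hfin : Finite S) (hS : IsPGroup p S)
    (hF : F.IsSaturated p) :
    ∀ P : Subgroup Ω, P ≤ T → F.IsFullyNormalized P → E.IsFullyNormalized P := by
  induction hE with
  | refl F p => exact fun P _ hP => hP
  | @step U S E D F p hsub h2 ih =>
    obtain ⟨⟨hD, -, hinv⟩, -⟩ := h2
    have hUS : U ≤ S := hinv.2.1.1
    haveI : Finite U := Finite.of_injective _ (Subgroup.inclusion_injective hUS)
    intro P hPT hP
    refine ih hp inferInstance (isPGroup_of_le hS hUS) hD P hPT ?_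
    have hPU : P ≤ U := hPT.trans (subnormal_le hsub)
    refine ⟨hPU, fun Q hQ => ?_⟩
    obtain ⟨φ, hφ, hr⟩ := hQ
    obtain ⟨ψ, hψ, hmem, -⟩ :=
      exists_normalizer_map hS hF hP (isConj_symm ⟨φ, hinv.1 _ hφ, hr⟩)
    have hle : normalizerIn U Q ≤ normalizerIn S Q := inf_le_inf_right _ hUS
    obtain ⟨χ, hχ, he⟩ := exists_restrict hψ hle
    haveI : Finite (normalizerIn U P) :=
      Finite.of_injective _ (Subgroup.inclusion_injective inf_le_left)
    refine card_le_of_hom hχ fun x => ⟨hinv.2.1.2 _ inf_le_left χ hχ x, ?_⟩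
    rw [he]
    exact (hmem _).2

/-- Let F be a saturated fusion system over a finite p-group S and E a subnormal subsystem of F over T. Then every subgroup of T that is fully normalized in F is fully normalized in E. -/
theorem result {Ω : Type*} [Group Ω] {S : Subgroup Ω} [Finite S] (p : ℕ) [Fact p.Prime] (hS : IsPGroup p S) (F : Cfsg.FusionSystem S) (hF : F.IsSaturated p) {T : Subgroup Ω} (E : Cfsg.FusionSystem T) (hE : E.IsSubnormalIn F p) (P : Subgroup Ω) (hPT : P ≤ T) (hP : F.IsFullyNormalized P) : E.IsFullyNormalized P := by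
  exact aux hE inferInstance inferInstance hS hF P hPT hP

end Cfsg.Agent.S5153
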