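import Cfsg.Prelude.Def_FusionComponents
import Cfsg.Agent.Lib.FusionEssential.TransportComponents

set_option autoImplicit false

namespace Cfsg.Agent.S5154

open Cfsg Cfsg.FusionSystem Cfsg.Agent.Lib
open Cfsg.Agent.Lib.FusionEssential.Transport

section

variable {Ω : Type*} [Group Ω] {S : Subgroup Ω}

/-- Conjugation invariance of `F` under the automorphism `α` of its base. -/
def Invariant (F : FusionSystem S) (α : MulAut S) : Prop :=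
  ∀ (P : Subgroup Ω) (hP : P ≤ S) (φ : P →* Ω), φ ∈ F.Hom P →
    ∃ χ ∈ F.Hom ((P.subgroupOf S).map (S.subtype.comp α.toMonoidHom)),
      ∀ (x : P) (hφx : φ x ∈ S)
        (hαx : ((α ⟨x, hP x.2⟩ : S) : Ω) ∈ (P.subgroupOf S).map (S.subtype.comp α.toMonoidHom)),
        χ ⟨(α ⟨x, hP x.2⟩ : S), hαx⟩ = ((α ⟨φ x, hφx⟩ : S) : Ω)

theorem iso_of_invariant (F : FusionSystem S) (α : MulAut S) (h : Invariant F α) (h' : Invariant F α⁻¹) :
    Iso (S.subtype.comp α.toMonoidHom) F F := by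
  set θ := S.subtype.comp α.toMonoidHom with hθ
  refine ⟨S.subtype_injective.comp α.injective, ⟨fun s => (α s).2, fun P φ hφ => ?_⟩, ?_, ?_⟩
  · obtain ⟨χ, hχ, he⟩ := h P (FS.src_le hφ) φ hφ
    exact ⟨χ, hχ, FS.src_le hφ, FS.apply_mem hφ, fun x => ⟨⟨x, FS.src_le hφ x.2⟩, x.2, rfl⟩,
      fun x => he x _ _⟩
  · refine le_antisymm ?_ fun y hy => ⟨α⁻¹ ⟨y, hy⟩, by simp [hθ]⟩
    rintro _ ⟨s, rfl⟩; exact (α s).2
  · intro P' hP' φ' hφ'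
    obtain ⟨χ, hχ, he⟩ := h' P' hP' φ' hφ'
    have hle : preimageAlong θ P' ≤ (P'.subgroupOf S).map (S.subtype.comp (α⁻¹).toMonoidHom) := by
      intro x hx
      obtain ⟨hxS, hm⟩ := FS.mem_preimageAlong.1 hx
      exact ⟨α ⟨x, hxS⟩, hm, by simp⟩
    obtain ⟨φ, hφ, hφe⟩ := FS.exists_restrict hχ hle
    refine ⟨φ, hφ, FS.inducedAlong_preimage hφ fun s hs => ?_⟩
    have hx := hφe ⟨s, FS.mem_preimageAlong.2 ⟨s.2, hs⟩⟩
    have hm : (((α⁻¹ ⟨θ s, hP' hs⟩ : S)) : Ω) ∈ (P'.subgroupOf S).map (S.subtype.comp (α⁻¹).toMonoidHom) :=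
      ⟨⟨θ s, hP' hs⟩, hs, rfl⟩
    have h1 := he ⟨θ s, hs⟩ (FS.apply_mem hφ' _) hm
    have h2 : φ ⟨s, FS.mem_preimageAlong.2 ⟨s.2, hs⟩⟩ = ((α⁻¹ ⟨φ' ⟨θ s, hs⟩, FS.apply_mem hφ' _⟩ : S) : Ω) := by
      rw [hx, ← h1]
      exact congrArg χ (Subtype.ext (by simp [hθ]))
    show φ' ⟨θ s, hs⟩ = ((α ⟨φ ⟨s, _⟩, _⟩ : S) : Ω)
    rw [show (⟨φ ⟨s, FS.mem_preimageAlong.2 ⟨s.2, hs⟩⟩, FS.apply_mem hφ _⟩ : S) =
      α⁻¹ ⟨φ' ⟨θ s, hs⟩, FS.apply_mem hφ' _⟩ from Subtype.ext h2]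
    simp

theorem invariant_self [Finite S] (F : FusionSystem S) {α : MulAut S} (hα : α ∈ F.autGroup S) :
    Invariant F α := by
  intro P hP φ hφ
  obtain ⟨θ, hθ, -, hθe⟩ := FS.exists_hom_of_aut le_rfl hα
  obtain ⟨θP, hθP, hθPe⟩ := FS.exists_restrict hθ hP
  have hr : θP.range = (P.subgroupOf S).map (S.subtype.comp α.toMonoidHom) := by
    ext y
    constructor
    · rintro ⟨x, rfl⟩; exact ⟨⟨x, hP x.2⟩, x.2, ((hθPe x).trans (hθe _)).symm⟩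
    · rintro ⟨s, hs, rfl⟩; exact ⟨⟨s, hs⟩, (hθPe _).trans (hθe _)⟩
  obtain ⟨ψ, hψ, hψe⟩ := FS.exists_inv hθP hr
  obtain ⟨χ₁, hχ₁, hχ₁e⟩ := FS.exists_comp hψ hφ (fun y => hψe.1.le ⟨y, rfl⟩)
  obtain ⟨χ, hχ, hχe⟩ := FS.exists_comp hχ₁ hθ (FS.apply_mem hχ₁)
  refine ⟨χ, hχ, fun x hφx hαx => ?_⟩
  rw [hχe, hθe]
  refine congrArg (fun z : S => ((α z : S) : Ω)) (Subtype.ext ?_)
  show χ₁ _ = φ x
  rw [hχ₁e]
  refine congrArg φ (Subtype.ext ?_)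
  have hm : θP x = ((α ⟨x, hP x.2⟩ : S) : Ω) := (hθPe x).trans (hθe _)
  refine Eq.trans (congrArg ψ (Subtype.ext hm.symm)) (hψe.2.1 x (by rw [hm]; exact hαx))

theorem exists_conjugate {T : Subgroup Ω} {C : FusionSystem T} {p : ℕ} {F : FusionSystem S}
    (hC : C.IsSubnormalIn F p) :
    p.Prime → Finite S → IsPGroup p S → ∀ γ : T →* Ω, γ ∈ F.Hom T →
      ∃ (T' : Subgroup Ω) (E : FusionSystem T'), Iso γ C E ∧ E.IsSubnormalIn F p := by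
  induction hC with
  | refl F p =>
    intro _ hfin _ γ hγ
    have hr : γ.range = _ := FS.range_eq_of_mem hγ (FS.apply_mem hγ) le_rfl
    have hα := FS.homEquiv_mem_autGroup hγ hr
    have h := iso_of_invariant F _ (invariant_self F hα) (invariant_self F (inv_mem hα))
    refine ⟨_, F, ?_, .refl F p⟩
    rwa [show γ = _ from MonoidHom.ext fun x => (FS.homEquiv_coe hγ hr x).symm]
  | @step U S E D F p hED hDF ih =>
    intro hp hfin hS γ hγ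
    have := Fact.mk hp
    have hinv := hDF.1.2.2
    have hU : U ≤ S := hinv.2.1.1
    have hfU := FS.finite_sub hU
    have hUp : IsPGroup p U := FS.isPGroup_of_le hS hU
    obtain ⟨hTU, _, _, _, _⟩ := Iso.exists_subnormal hED hUp (iso_refl D)
    obtain ⟨α, hα, γ₀, hγ₀, he⟩ := hinv.2.2.2 T hTU γ hγ
    obtain ⟨T₀, E₀, hI₀, hs₀⟩ := ih hp hfU hUp γ₀ hγ₀
    have hIα := iso_of_invariant D α (fun P hP φ hφ => hinv.2.2.1 P hP φ hφ α hα)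
      (fun P hP φ hφ => hinv.2.2.1 P hP φ hφ α⁻¹ (inv_mem hα))
    obtain ⟨hT₀, T₁, E₁, hI₁, hs₁⟩ := Iso.exists_subnormal hs₀ hUp hIα
    refine ⟨T₁, E₁, ⟨F.injective_of_mem hγ, ?_⟩, .step hs₁ hDF⟩
    have h := Iso.comp hI₀.2 hI₁.2
    rwa [show γ = _ from MonoidHom.ext fun x => ?_]
    exact he x (FS.apply_mem hγ₀ x)

end

theorem result {Ω : Type*} [Group Ω] {S : Subgroup Ω} [Finite S] (p : ℕ) [Fact p.Prime] (hS : IsPGroup p S) (F : Cfsg.FusionSystem S) (hF : F.IsSaturated p) {T : Subgroup Ω} (C : Cfsg.FusionSystem T) (hC : C.IsComponentIn F p) (γ : T →* Ω) (hγ : γ ∈ F.Hom T) (E : Cfsg.FusionSystem γ.range) (hE : C.IsFactorSystem ⊥ γ E) : E.IsComponentIn F p := by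
  have hTS : T ≤ S := FS.src_le hγ
  have := FS.finite_sub hTS
  obtain ⟨T', E', hI, hs⟩ := exists_conjugate hC.1 Fact.out inferInstance hS γ hγ
  obtain rfl : T' = γ.range := hI.range_eq.symm
  obtain rfl : E = E' := FS.fusion_ext fun P φ =>
    (hE.2.2.2 P φ).trans (hI.isFactorSystem.2.2.2 P φ).symm
  exact ⟨hs, hI.quasisimple (FS.isPGroup_of_le hS hTS) hC.2⟩

end Cfsg.Agent.S5154
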