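import Cfsg.Statements.S5155
import Cfsg.Agent.Lib.FusionSystem.CentralizerSubsystem

set_option autoImplicit false
open Cfsg

namespace Cfsg.Agent.S5155

/-- Let F be a saturated fusion system over a finite p-group S, E a normal subsystem over T, and Y the largest subgroup of C_S(T) such that E is a subsystem of the centralizer system of Y (every map of E extends to a map of F fixing Y elementwise). Then there is a normal subsystem of F over Y that is a subsystem of the centralizer system of T. -/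
theorem result {Ω : Type*} [Group Ω] {S : Subgroup Ω} [Finite S] (p : ℕ) [Fact p.Prime] (hS : IsPGroup p S) (F : Cfsg.FusionSystem S) (hF : F.IsSaturated p) {T : Subgroup Ω} (E : Cfsg.FusionSystem T) (hE : E.IsNormalIn F p) (Y : Subgroup Ω) (hY : Y ≤ Cfsg.FusionSystem.centralizerIn S T) (hEY : ∀ P : Subgroup Ω, E.Hom P ⊆ F.centralizerHom Y P) (hmax : ∀ Y' : Subgroup Ω, Y' ≤ Cfsg.FusionSystem.centralizerIn S T → (∀ P : Subgroup Ω, E.Hom P ⊆ F.centralizerHom Y' P) → Y' ≤ Y) : ∃ D : Cfsg.FusionSystem Y, D.IsNormalIn F p ∧ ∀ P : Subgroup Ω, D.Hom P ⊆ F.centralizerHom T P := by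
  have hYC : Y = Cfsg.Agent.Lib.FS.NormalCentralizer.centralizerSub F E := by
    refine le_antisymm (fun y hy => ?_) ?_
    · exact Subgroup.subset_closure ⟨hY hy, fun P φ hφ =>
        Cfsg.Agent.Lib.FS.NormalCentralizer.Fixes.mono (Subgroup.zpowers_le.2 hy) (hEY P hφ).2.2.2⟩
    · refine hmax _ Cfsg.Agent.Lib.FS.NormalCentralizer.centralizerSub_le fun P φ hφ => ?_
      have hcen : ∀ t ∈ T, t ∈ Cfsg.FusionSystem.centralizerIn S
          (Cfsg.Agent.Lib.FS.NormalCentralizer.centralizerSub F E) := fun t ht =>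
        Cfsg.Agent.Lib.FS.mem_centralizerIn.2 ⟨hE.1.2.2.2.1.1 ht, fun y hy =>
          (Cfsg.Agent.Lib.FS.CentralizerSubsystem.comm_T ht hy).symm⟩
      exact ⟨hE.1.2.2.1 P hφ, fun t ht => hcen t (Cfsg.Agent.Lib.FS.src_le hφ ht),
        fun x => hcen _ (Cfsg.Agent.Lib.FS.apply_mem hφ x),
        Cfsg.Agent.Lib.FS.NormalCentralizer.fixes_centralizerSub hS hE hφ⟩
  subst hYC
  exact Cfsg.Agent.Lib.FS.CentralizerSubsystem.exists_centralizer hS hE

end Cfsg.Agent.S5155
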