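import Cfsg.Statements.S5163
import Cfsg.Agent.Lib.Linear.FusionPSL
-- import your own Cfsg.Agent.* helpers here

set_option autoImplicit false
open Cfsg

namespace Cfsg.Agent.S5163

open Matrix Cfsg.FusionSystem Cfsg.Agent.Lib.AutPSL Cfsg.Agent.Lib.Linear.FusionPSL Cfsg.Agent.Lib.FS

section

variable {n : ℕ} {F : Type*} [Field F]

local notation "SLn" => Matrix.SpecialLinearGroup (Fin n) F
local notation "PSLn" => Matrix.ProjectiveSpecialLinearGroup (Fin n) F
local notation "Mat" => Matrix (Fin n) (Fin n) F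

theorem main [Fintype F] (p : ℕ) [Fact p.Prime] [CharP F p] (hn : 3 ≤ n) (S : Sylow p PSLn) :
    (Cfsg.groupFusionSystem (S : Subgroup PSLn)).IsSimple p := by
  classical
  obtain ⟨P0, hP0⟩ := exists_sylow_uniBar (n := n) (F := F) (by omega) p
  obtain ⟨g, hg⟩ := MulAction.exists_smul_eq PSLn P0 S
  let θ : SLn →* PSLn := (MulAut.conj g).toMonoidHom.comp (QuotientGroup.mk' _)
  have hS : (S : Subgroup PSLn) = (uni n F).map θ := by
    rw [← hg, ← Subgroup.map_map, show (uni n F).map (QuotientGroup.mk' _) = (P0 : Subgroup PSLn) from hP0.symm]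
    rfl
  have hθsurj : Function.Surjective θ :=
    (MulAut.conj g).surjective.comp (QuotientGroup.mk'_surjective _)
  have hθeq : ∀ s t : SLn, θ s = θ t → ∃ c : F, (t : Mat) = c • (s : Mat) := fun s t h =>
    (mk_eq_mk_iff s t).1 ((MulAut.conj g).injective h)
  have hθinj : ∀ s ∈ uni n F, ∀ t ∈ uni n F, θ s = θ t → s = t := by
    intro s hs t ht h
    have h' : (QuotientGroup.mk s : PSLn) = QuotientGroup.mk t := (MulAut.conj g).injective h
    refine inv_mul_eq_one.1 (uni_inf_center_eq_one (by omega) (mul_mem (inv_mem hs) ht) ?_)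
    rw [QuotientGroup.mk_mul, QuotientGroup.mk_inv, h', inv_mul_cancel]
  set a : Fin n := ⟨0, by omega⟩
  set b : Fin n := ⟨n - 1, by omega⟩
  have hab : a < b := Fin.mk_lt_mk.2 (by omega)
  have hlea : ∀ k, a ≤ k := fun k => Fin.le_def.2 (Nat.zero_le _)
  have hleb : ∀ k : Fin n, k ≤ b := fun k => Fin.le_def.2 (by show k.val ≤ n - 1; omega)
  -- nontrivial
  have hS1 : (S : Subgroup PSLn) ≠ ⊥ := by
    have hu : tv (Pi.single a 1) (Pi.single b 1) ∈ uni n F :=
      tv_single_mem_uni fun j hj => by simp [(lt_of_le_of_lt hj hab).ne]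
    intro h
    have h1 : θ (tv (Pi.single a 1) (Pi.single b 1)) ∈ (⊥ : Subgroup PSLn) := h ▸ hS ▸ ⟨_, hu, rfl⟩
    have h2 := hθinj _ hu 1 (one_mem _) (by rw [map_one]; exact Subgroup.mem_bot.1 h1)
    have h3 := congrArg (fun s : SLn => (s : Mat) a b) h2
    simp [coe_tv (show (Pi.single b 1 : Fin n → F) ⬝ᵥ Pi.single a 1 = 0 by simp [hab.ne']),
      vecMulVec_apply, hab.ne] at h3
  -- strongly closed subgroups
  have hsc : ∀ T : Subgroup PSLn, (Cfsg.groupFusionSystem (S : Subgroup PSLn)).StronglyClosed T →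
      T = ⊥ ∨ T = (S : Subgroup PSLn) := by
    intro T ⟨hTS, hT⟩
    rcases eq_or_ne T ⊥ with h | hne
    · exact Or.inl h
    refine Or.inr ?_
    have hcl : ∀ t ∈ T, ∀ x : PSLn, x * t * x⁻¹ ∈ (S : Subgroup PSLn) → x * t * x⁻¹ ∈ T := by
      intro t ht x hx
      have hR : Subgroup.zpowers t ≤ T := Subgroup.zpowers_le.2 ht
      refine hT _ hR _ (conjHom_mem_group (g := x) (hR.trans hTS) ?_) ⟨t, Subgroup.mem_zpowers t⟩
      rintro _ ⟨k, rfl⟩
      show x * t ^ k * x⁻¹ ∈ (S : Subgroup PSLn)
      rw [← conj_zpow]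
      exact zpow_mem hx k
    have hT' : uni n F ⊓ T.comap θ = uni n F := by
      refine eq_uni_of_closed hn inf_le_left (fun t ht s hs => ⟨hs, ?_⟩) ?_
      · show θ (s * t * s⁻¹) ∈ T
        have hmem : θ (s * t * s⁻¹) ∈ (S : Subgroup PSLn) := hS ▸ ⟨_, hs, rfl⟩
        rw [map_mul, map_mul, map_inv] at hmem ⊢
        exact hcl _ ht.2 _ hmem
      · obtain ⟨⟨t, ht⟩, ht1⟩ := Subgroup.ne_bot_iff_exists_ne_one.1 hne
        obtain ⟨u, hu, hut⟩ := (hS ▸ hTS ht : t ∈ (uni n F).map θ)
        refine fun h => ht1 (Subtype.ext ?_)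
        have hu' : u ∈ uni n F ⊓ T.comap θ := ⟨hu, show θ u ∈ T from hut ▸ ht⟩
        rw [h, Subgroup.mem_bot] at hu'
        show t = 1; rw [← hut, hu', map_one]
    refine le_antisymm hTS ?_
    rw [hS, Subgroup.map_le_iff_le_comap]
    exact inf_eq_left.1 hT'
  -- the radicals
  let Good : (Fin n → Prop) → Prop := fun P => (∀ x y, y ≤ x → P x → P y) ∧ P a ∧ ¬ P b
  refine Cfsg.Agent.Lib.FusionAlperin.Simple.isSimple_group S hS1 hsc
    {R | ∃ P, Good P ∧ R = (radical P).map θ} ?_ ?_
  · rintro R ⟨P, ⟨hdown, hPa, hPb⟩, rfl⟩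
    have hRS : (radical P).map θ ≤ (S : Subgroup PSLn) := hS ▸ Subgroup.map_mono (radical_le_uni hdown)
    refine ⟨⟨hRS, fun Q _ => ?_⟩, hRS, fun Q hQ => ?_⟩
    · have hle : (S : Subgroup PSLn) ≤ Subgroup.normalizer (((radical P).map θ : Subgroup PSLn) : Set PSLn) := by
        rw [hS]
        rintro _ ⟨u, hu, rfl⟩
        have hpar := isPar_of_blockTriangular hdown (mem_uni_iff.1 hu).2
        have hparI := isPar_of_blockTriangular hdown (mem_uni_iff.1 (inv_mem hu)).2
        rw [Subgroup.mem_normalizer_iff]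
        intro h
        constructor
        · rintro ⟨r, hr, rfl⟩
          exact ⟨u * r * u⁻¹, conj_mem_radical hpar hr, by simp⟩
        · rintro ⟨r, hr, hrh⟩
          refine ⟨u⁻¹ * r * u, ?_, by rw [map_mul, map_mul, hrh, map_inv]; group⟩
          simpa using conj_mem_radical hparI hr
      rw [normalizerIn, normalizerIn, inf_eq_left.2 hle]
      exact Nat.le_of_dvd Nat.card_pos (Subgroup.card_dvd_of_le inf_le_left)
    · obtain ⟨-, -, x, rfl⟩ := group_isConj_iff.1 hQ
      rintro y ⟨-, hy⟩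
      refine ⟨x⁻¹ * y * x, ?_, by simp only [MulEquiv.coe_toMonoidHom, MulAut.conj_apply]; group⟩
      obtain ⟨s, hs⟩ := hθsurj (x⁻¹ * y * x)
      rw [← hs]
      -- `s` commutes with the radical modulo scalars
      have hcomm : ∀ r ∈ radical P, θ (s * r * s⁻¹) = θ r := by
        intro r hr
        have hc := hy (x * θ r * x⁻¹) ⟨θ r, ⟨r, hr, rfl⟩, rfl⟩
        rw [map_mul, map_mul, map_inv, mul_inv_eq_iff_eq_mul, hs]
        calc x⁻¹ * y * x * θ r = x⁻¹ * (y * (x * θ r * x⁻¹)) * x := by group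
          _ = x⁻¹ * (x * θ r * x⁻¹ * y) * x := by rw [hc]
          _ = θ r * (x⁻¹ * y * x) := by group
      have hkey : ∀ i j : Fin n, P i → ¬ P j →
          (s : Mat) * Matrix.single i j 1 = Matrix.single i j 1 * (s : Mat) := by
        intro i j hi hj
        have hne : i ≠ j := fun h => hj (h ▸ hi)
        set r : SLn := Matrix.SpecialLinearGroup.transvection hne 1
        have hr : r ∈ radical P := by
          rw [mem_radical]
          intro u v huv
          rw [Matrix.SpecialLinearGroup.transvection_coe, add_sub_cancel_left]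
          have : ¬ (i = u ∧ j = v) := fun h => huv ⟨h.1 ▸ hi, h.2 ▸ hj⟩
          simp [this]
        obtain ⟨c, hc⟩ := hθeq _ _ (hcomm r hr).symm
        have hsinv : (s : Mat) * ((s⁻¹ : SLn) : Mat) = 1 := by
          rw [← Matrix.SpecialLinearGroup.coe_mul, mul_inv_cancel, Matrix.SpecialLinearGroup.coe_one]
        have hinvs : ((s⁻¹ : SLn) : Mat) * (s : Mat) = 1 := by
          rw [← Matrix.SpecialLinearGroup.coe_mul, inv_mul_cancel, Matrix.SpecialLinearGroup.coe_one]
        rw [Matrix.SpecialLinearGroup.coe_mul, Matrix.SpecialLinearGroup.coe_mul,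
          Matrix.SpecialLinearGroup.transvection_coe, Matrix.mul_add, Matrix.add_mul, Matrix.mul_one, hsinv] at hc
        set X : Mat := (s : Mat) * Matrix.single i j 1 * ((s⁻¹ : SLn) : Mat)
        have hX : X * X = 0 := by
          show _ * _ * _ * (_ * _ * _) = 0
          rw [Matrix.mul_assoc ((s : Mat) * Matrix.single i j 1), ← Matrix.mul_assoc ((s⁻¹ : SLn) : Mat),
            ← Matrix.mul_assoc ((s⁻¹ : SLn) : Mat), hinvs, Matrix.one_mul, ← Matrix.mul_assoc,
            Matrix.mul_assoc (s : Mat), Matrix.single_mul_single_of_ne _ _ _ _ hne.symm, Matrix.mul_zero,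
            Matrix.zero_mul]
        have hru := mem_uni_iff.1 (radical_le_uni hdown hr)
        rw [Matrix.SpecialLinearGroup.transvection_coe] at hru
        have hc1 := scalar_eq_one (by omega) hru hX hc
        rw [hc1, one_smul, add_right_inj] at hc
        calc (s : Mat) * Matrix.single i j 1 = X * (s : Mat) := by
              show _ = _ * _ * _; rw [Matrix.mul_assoc, hinvs, Matrix.mul_one]
          _ = _ := by rw [hc]
      have hent : ∀ i j u v : Fin n, P i → ¬ P j →
          (if j = v then (s : Mat) u i else 0) = if i = u then (s : Mat) j v else 0 := by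
        intro i j u v hi hj
        have h := congrFun (congrFun (hkey i j hi hj) u) v
        rw [Matrix.mul_apply, Matrix.mul_apply] at h
        simp only [Matrix.single_apply, ite_and, mul_ite, mul_one, mul_zero, ite_mul, one_mul, zero_mul] at h
        by_cases hv : j = v <;> by_cases hu : i = u <;> simp [hv, hu] at h ⊢ <;> exact h
      set c : F := (s : Mat) a a
      have hdiag : ∀ k, (s : Mat) k k = c := by
        have h1 : ∀ j, ¬ P j → (s : Mat) j j = c := fun j hj => by
          have := hent a j a j hPa hj; simpa using this.symm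
        intro k
        by_cases hk : P k
        · have := hent k b k b hk hPb
          simp only [if_true] at this
          exact this.trans (h1 b hPb)
        · exact h1 k hk
      have hc0 : c ≠ 0 := by
        intro h0
        have hsa : ∀ u, (s : Mat) u a = 0 := fun u => by
          rcases eq_or_ne a u with rfl | hu
          · exact h0
          · simpa [hu] using hent a b u b hPa hPb
        have hd := Matrix.det_eq_zero_of_column_eq_zero a hsa
        rw [s.det_coe] at hd
        exact one_ne_zero hd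
      have hoff : ∀ u v, u ≠ v → ¬ (P u ∧ ¬ P v) → (s : Mat) u v = 0 := by
        intro u v huv h
        by_cases hv : P v
        · simpa [huv.symm] using hent v b u b hv hPb
        · have hu : ¬ P u := fun hu => h ⟨hu, hv⟩
          simpa [huv] using (hent a u a v hPa hu).symm
      have hA : IsUni (c⁻¹ • (s : Mat)) := by
        refine ⟨fun k => by simp [hdiag, hc0], fun u v hvu => ?_⟩
        simp only [id] at hvu
        simp [hoff u v hvu.ne' fun h => h.2 (hdown u v hvu.le h.1)]
      let r : SLn := ⟨c⁻¹ • (s : Mat), det_of_isUni hA⟩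
      refine ⟨r, fun u v huv => ?_, ?_⟩
      · show (c⁻¹ • (s : Mat) - 1) u v = 0
        rcases eq_or_ne u v with rfl | hne
        · simp [hdiag, hc0]
        · simp [hoff u v hne huv, Matrix.one_apply_ne hne]
      · show MulAut.conj g (QuotientGroup.mk r) = MulAut.conj g (QuotientGroup.mk s)
        rw [(mk_eq_mk_iff r s).2 ⟨c, by show (s : Mat) = c • (c⁻¹ • (s : Mat)); rw [smul_inv_smul₀ hc0]⟩]
  -- automisers
  intro β hβ
  obtain ⟨x, -, hx⟩ := mem_autInducedBy.1 hβ
  obtain ⟨s, rfl⟩ := hθsurj x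
  set A := ⨆ R ∈ {R | ∃ P, Good P ∧ R = (radical P).map θ}, Cfsg.autInducedBy
      (Subgroup.closure {g : PSLn | g ∈ Subgroup.normalizer (R : Set PSLn) ∧ ∃ k : ℕ, orderOf g = p ^ k})
      (S : Subgroup PSLn)
  -- a subgroup of `G` inducing automorphisms in `A`
  let B : Subgroup SLn := ((A.comap (S : Subgroup PSLn).normalizerMonoidHom).map
    (Subgroup.normalizer ((S : Subgroup PSLn) : Set PSLn)).subtype).comap θ
  have hB : ∀ t : SLn, t ∈ B → ∀ γ : MulAut (S : Subgroup PSLn),
      (∀ y : (S : Subgroup PSLn), ((γ y : (S : Subgroup PSLn)) : PSLn) = θ t * y * (θ t)⁻¹) → γ ∈ A := by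
    rintro t ⟨m, hm, hmt⟩ γ hγ
    have : γ = (S : Subgroup PSLn).normalizerMonoidHom m := by
      ext y
      rw [hγ y, ← hmt]
      rfl
    exact this ▸ hm
  have hnorm : ∀ t : SLn, (t : Mat).BlockTriangular id →
      θ t ∈ Subgroup.normalizer ((S : Subgroup PSLn) : Set PSLn) := by
    intro t ht
    have hsub : ∀ u ∈ uni n F, t * u * t⁻¹ ∈ uni n F := by
      intro u hu
      rw [mem_uni_iff] at hu ⊢
      have hti : ((t⁻¹ : SLn) : Mat).BlockTriangular id := by
        haveI : Invertible (t : Mat) := Matrix.invertibleOfIsUnitDet _ (by rw [t.det_coe]; exact isUnit_one)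
        have h := Matrix.blockTriangular_inv_of_blockTriangular ht
        rwa [Matrix.inv_eq_right_inv (show (t : Mat) * ((t⁻¹ : SLn) : Mat) = 1 by
          rw [← Matrix.SpecialLinearGroup.coe_mul, mul_inv_cancel, Matrix.SpecialLinearGroup.coe_one])] at h
      have htri : ((t * u * t⁻¹ : SLn) : Mat).BlockTriangular id := by
        rw [Matrix.SpecialLinearGroup.coe_mul, Matrix.SpecialLinearGroup.coe_mul]
        exact (ht.mul hu.2).mul hti
      have hdm : ∀ {A B : Mat}, A.BlockTriangular id → B.BlockTriangular id → ∀ k,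
          (A * B) k k = A k k * B k k := by
        intro A B hA hB k
        rw [Matrix.mul_apply]
        refine Finset.sum_eq_single k (fun l _ hl => ?_) (by simp)
        rcases lt_or_gt_of_ne hl with hlt | hgt
        · rw [hA (show id l < id k from hlt), zero_mul]
        · rw [hB (show id k < id l from hgt), mul_zero]
      refine ⟨fun k => ?_, htri⟩
      rw [Matrix.SpecialLinearGroup.coe_mul, Matrix.SpecialLinearGroup.coe_mul, hdm (ht.mul hu.2) hti,
        hdm ht hu.2, hu.1, mul_one, ← hdm ht hti, ← Matrix.SpecialLinearGroup.coe_mul, mul_inv_cancel,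
        Matrix.SpecialLinearGroup.coe_one, Matrix.one_apply_eq]
    refine Subgroup.mem_normalizer_fintype fun y hy => ?_
    obtain ⟨u, hu, rfl⟩ := (hS ▸ hy : y ∈ (uni n F).map θ)
    show θ t * θ u * (θ t)⁻¹ ∈ (S : Subgroup PSLn)
    rw [← map_mul, ← map_inv, ← map_mul]
    exact hS ▸ ⟨_, hsub u hu, rfl⟩
  have hBmem : ∀ t : SLn, (t : Mat).BlockTriangular id → ∀ P, Good P →
      θ t ∈ Subgroup.closure {g : PSLn | g ∈ Subgroup.normalizer (((radical P).map θ : Subgroup PSLn) : Set PSLn) ∧
        ∃ k : ℕ, orderOf g = p ^ k} → t ∈ B := by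
    intro t ht P hP hcl
    refine ⟨⟨θ t, hnorm t ht⟩, ?_, rfl⟩
    refine Subgroup.mem_iSup_of_mem ((radical P).map θ) (Subgroup.mem_iSup_of_mem ⟨P, hP, rfl⟩ ?_)
    exact mem_autInducedBy.2 ⟨θ t, hcl, fun y => rfl⟩
  have hpel : ∀ t : SLn, ∀ P, (∃ k, orderOf t ∣ p ^ k) → IsPar P (t : Mat) → θ t ∈
      {g : PSLn | g ∈ Subgroup.normalizer (((radical P).map θ : Subgroup PSLn) : Set PSLn) ∧
        ∃ k : ℕ, orderOf g = p ^ k} := by
    rintro t P ⟨k, hk⟩ hpar
    refine ⟨Subgroup.mem_normalizer_fintype ?_, ?_⟩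
    · rintro _ ⟨r, hr, rfl⟩
      exact ⟨t * r * t⁻¹, conj_mem_radical hpar hr, by simp⟩
    · obtain ⟨l, -, hl⟩ := (Nat.dvd_prime_pow Fact.out).1 ((orderOf_map_dvd θ t).trans hk)
      exact ⟨l, hl⟩
  have hGood1 : Good fun x => x = a := ⟨fun x y hyx hx => le_antisymm (hx ▸ hyx) (hlea y), rfl, hab.ne'⟩
  have hGood2 : Good fun x => x ≠ b := ⟨fun x y hyx hx hy => hx (le_antisymm (hleb x) (hy ▸ hyx)), hab.ne, fun h => h rfl⟩
  have huniB : ∀ u ∈ uni n F, u ∈ B := fun u hu => by
    have hord : ∃ k, orderOf u ∣ p ^ k := by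
      obtain ⟨k, -, hq⟩ := Cfsg.Agent.Lib.Linear.exists_card_eq_pow (F := F) p
      refine ⟨k * (n * (n - 1) / 2), ?_⟩
      rw [pow_mul, ← hq, ← card_uni (n := n) (F := F)]
      exact Subgroup.orderOf_dvd_natCard _ hu
    exact hBmem u (mem_uni_iff.1 hu).2 _ hGood1 (Subgroup.subset_closure
      (hpel u _ hord (isPar_of_blockTriangular hGood1.1 (mem_uni_iff.1 hu).2)))
  set c : Fin n := ⟨1, by omega⟩
  have hca : c ≠ a := fun h => by simp [a, c, Fin.ext_iff] at h
  have hcb : c ≠ b := fun h => by simp [b, c, Fin.ext_iff] at h; omega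
  have hdiagB : ∀ (D : Fin n → F) (hD : (diagonal D).det = 1), (⟨diagonal D, hD⟩ : SLn) ∈ B := by
    intro D hD
    rw [Matrix.SpecialLinearGroup.diag_eq_diag2n_prod c D hD]
    refine Subgroup.noncommProd_mem B _ fun i _ => ?_
    by_cases hi : i ≠ c
    · rw [dif_pos hi]
      have hbt : ((Matrix.SpecialLinearGroup.diag2n hi (D i) (Matrix.SpecialLinearGroup.diagonal_neZero D hD i)
          : SLn) : Mat).BlockTriangular id := by
        intro u v hvu
        simp only [id] at hvu
        simp [Matrix.SpecialLinearGroup.diag2n_coe, hvu.ne']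
      obtain ⟨P, hP, hic⟩ : ∃ P, Good P ∧ (P c ↔ P i) := by
        by_cases hia : i = a
        · exact ⟨_, hGood2, iff_of_true hcb (hia ▸ hab.ne)⟩
        · exact ⟨_, hGood1, iff_of_false hca hia⟩
      refine hBmem _ hbt P hP ?_
      rw [Cfsg.Agent.Lib.Linear.diag2n_decompose hi (D i) (Matrix.SpecialLinearGroup.diagonal_neZero D hD i)]
      simp only [map_mul]
      have h : ∀ {u v : Fin n} (huv : u ≠ v) (z : F), (P v → P u) →
          θ (Matrix.SpecialLinearGroup.transvection huv z) ∈ Subgroup.closure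
            {g : PSLn | g ∈ Subgroup.normalizer (((radical P).map θ : Subgroup PSLn) : Set PSLn) ∧
              ∃ k : ℕ, orderOf g = p ^ k} := fun huv z h => Subgroup.subset_closure
        (hpel _ P ⟨1, by rw [pow_one]; exact orderOf_transvection_dvd p huv z⟩ (isPar_transvection huv h z))
      exact mul_mem (mul_mem (mul_mem (mul_mem (mul_mem (h _ _ hic.1) (h _ _ hic.2)) (h _ _ hic.1))
        (h _ _ hic.1)) (h _ _ hic.2)) (h _ _ hic.1)
    · rw [dif_neg hi]; exact one_mem B
  have htri : (s : Mat).BlockTriangular id := by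
    refine blockTriangular_of_conj s fun u hu => ?_
    have hmem : θ (s * u * s⁻¹) ∈ (S : Subgroup PSLn) := by
      have := (β ⟨θ u, hS ▸ ⟨u, hu, rfl⟩⟩).2
      rw [hx] at this
      simpa using this
    obtain ⟨u', hu', he⟩ := (hS ▸ hmem : θ (s * u * s⁻¹) ∈ (uni n F).map θ)
    obtain ⟨d, hd⟩ := hθeq _ _ he
    exact ⟨u', d, hu', hd⟩
  have hsB : s ∈ B := by
    have hD : (diagonal fun k => (s : Mat) k k).det = 1 := by
      rw [det_diagonal, ← Matrix.det_of_upperTriangular htri, s.det_coe]
    let d : SLn := ⟨diagonal fun k => (s : Mat) k k, hD⟩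
    have hd : d ∈ B := hdiagB _ hD
    have hne : ∀ k, (s : Mat) k k ≠ 0 := fun k => Matrix.SpecialLinearGroup.diagonal_neZero _ hD k
    have hA : IsUni (diagonal (fun k => ((s : Mat) k k)⁻¹) * (s : Mat)) := by
      refine ⟨fun k => by rw [diagonal_mul, inv_mul_cancel₀ (hne k)], fun u v h => ?_⟩
      rw [diagonal_mul, htri h, mul_zero]
    let w : SLn := ⟨_, det_of_isUni hA⟩
    have hsw : s = d * w := by
      apply Subtype.ext
      show (s : Mat) = diagonal _ * (diagonal _ * (s : Mat))
      rw [← Matrix.mul_assoc, diagonal_mul_diagonal]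
      simp [hne]
    rw [hsw]
    exact mul_mem hd (huniB w (mem_uni_iff.2 hA))
  exact hB s hsB β hx

end

/-- For a finite field K of characteristic p and n ≥ 3, the p-fusion system of the projective special linear group PSL_n(K) on a Sylow p-subgroup is simple. -/
theorem result {K : Type*} [Field K] [Fintype K] (p : ℕ) [Fact p.Prime] [CharP K p] (n : ℕ) (hn : 3 ≤ n) (S : Sylow p (Matrix.ProjectiveSpecialLinearGroup (Fin n) K)) : (Cfsg.groupFusionSystem (S : Subgroup (Matrix.ProjectiveSpecialLinearGroup (Fin n) K))).IsSimple p := by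
  exact main p hn S

end Cfsg.Agent.S5163
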