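import Cfsg.Statements.S5164
import Cfsg.Agent.Lib.Fgs9.AlternatingSylow

set_option autoImplicit false
open Cfsg

namespace Cfsg.Agent.S5164

open Equiv Equiv.Perm in
/-- Permutations of a `p × p` square moving each column along itself and the columns cyclically. -/
def W (p : ℕ) : Subgroup (Perm (ZMod p × ZMod p)) where
  carrier := {σ | ∃ (c : ZMod p) (f : ZMod p → ZMod p), ∀ v, σ v = (v.1 + c, v.2 + f v.1)}
  one_mem' := ⟨0, 0, fun v => by simp⟩
  mul_mem' := by
    rintro σ τ ⟨c, f, hσ⟩ ⟨d, g, hτ⟩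
    refine ⟨d + c, fun x => g x + f (x + d), fun v => ?_⟩
    rw [Perm.mul_apply, hτ, hσ]
    ext <;> dsimp only <;> ring
  inv_mem' := by
    rintro σ ⟨c, f, hσ⟩
    refine ⟨-c, fun x => -f (x - c), fun v => ?_⟩
    rw [Perm.inv_def, Equiv.symm_apply_eq, hσ]
    ext <;> simp [sub_eq_add_neg]

open Equiv Equiv.Perm in
theorem isPGroup_W (p : ℕ) [Fact p.Prime] : IsPGroup p (W p) := by
  rintro ⟨σ, c, f, hσ⟩
  refine ⟨2, Subtype.ext ?_⟩
  have key : ∀ (τ : Perm (ZMod p × ZMod p)) (d : ZMod p) (g : ZMod p → ZMod p),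
      (∀ v, τ v = (v.1 + d, v.2 + g v.1)) → ∀ (k : ℕ) (v),
        (τ ^ k) v = (v.1 + k * d, v.2 + ∑ i ∈ Finset.range k, g (v.1 + i * d)) := by
    intro τ d g hτ k
    induction k with
    | zero => intro v; simp
    | succ k ih =>
      intro v
      rw [pow_succ', Perm.mul_apply, ih, hτ, Finset.sum_range_succ]
      ext <;> push_cast <;> ring
  show σ ^ p ^ 2 = 1
  rw [sq, pow_mul]
  refine Equiv.ext fun v => ?_
  have h1 : ∀ w, (σ ^ p) w = (w.1 + 0, w.2 + ∑ i ∈ Finset.range p, f (w.1 + i * c)) := fun w => by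
    rw [key σ c f hσ, ZMod.natCast_self, zero_mul]
  rw [key _ 0 (fun x => ∑ i ∈ Finset.range p, f (x + i * c)) h1]
  simp

open Equiv Equiv.Perm in
theorem exists_noncomm (n p : ℕ) (hn : 6 ≤ n) [Fact p.Prime] (h : p ^ 2 ≤ n) :
    ∃ (X : Subgroup (alternatingGroup (Fin n))), IsPGroup p X ∧ ∃ a b : X, a * b ≠ b * a := by
  classical
  rcases eq_or_ne p 2 with rfl | hp2
  · let e : Fin 6 ≃ {y // y ∈ Set.range (Fin.castLE hn)} :=
      Equiv.ofInjective _ (Fin.castLE_injective hn)
    let r : Perm (Fin 6) := c[(0 : Fin 6), 1, 2, 3] * swap 4 5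
    let s : Perm (Fin 6) := swap (0 : Fin 6) 2 * swap 4 5
    let φ : DihedralGroup 4 →* Perm (Fin 6) :=
      { toFun := fun g => match g with
          | DihedralGroup.r i => r ^ i.val
          | DihedralGroup.sr i => s * r ^ i.val
        map_one' := rfl
        map_mul' := by decide }
    have hs : ∀ g : DihedralGroup 4, sign (φ g) = 1 := by decide
    let ψ : DihedralGroup 4 →* alternatingGroup (Fin n) :=
      ((extendDomainHom e).comp φ).codRestrict (alternatingGroup (Fin n)) fun g => by
        rw [mem_alternatingGroup]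
        exact (sign_extendDomain _ _).trans (hs g)
    refine ⟨ψ.range, (IsPGroup.of_card (p := 2) (n := 3) DihedralGroup.nat_card).of_surjective
      ψ.rangeRestrict ψ.rangeRestrict_surjective,
      ψ.rangeRestrict (DihedralGroup.r 1), ψ.rangeRestrict (DihedralGroup.sr 0), fun h => ?_⟩
    rw [← map_mul, ← map_mul] at h
    have h' := extendDomainHom_injective e (congrArg (fun z : ψ.range =>
      ((z : alternatingGroup (Fin n)) : Perm (Fin n))) h)
    revert h'
    decide
  · obtain ⟨ι⟩ : Nonempty (ZMod p × ZMod p ↪ Fin n) :=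
      Function.Embedding.nonempty_of_card_le (by
        rw [Fintype.card_prod, ZMod.card, Fintype.card_fin, ← sq]; exact h)
    let e : ZMod p × ZMod p ≃ {y // y ∈ Set.range ι} := Equiv.ofInjective ι ι.injective
    let ψ : W p →* alternatingGroup (Fin n) :=
      ((extendDomainHom e).comp (W p).subtype).codRestrict (alternatingGroup (Fin n)) fun g => by
        rw [mem_alternatingGroup]
        obtain ⟨k, hk⟩ := isPGroup_W p g
        have hodd : Odd (p ^ k) := ((Fact.out : p.Prime).odd_of_ne_two hp2).pow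
        have h1 : (sign ((g : Perm (ZMod p × ZMod p)).extendDomain e)) ^ p ^ k = 1 := by
          rw [sign_extendDomain, ← map_pow, ← Subgroup.coe_pow, hk, Subgroup.coe_one, map_one]
        rcases Int.units_eq_one_or (sign ((g : Perm (ZMod p × ZMod p)).extendDomain e)) with h | h
        · exact h
        · rw [h, hodd.neg_one_pow] at h1
          exact absurd h1 (by decide)
    let a : Perm (ZMod p × ZMod p) :=
      { toFun := fun v => (v.1, v.2 + if v.1 = 0 then 1 else 0)
        invFun := fun v => (v.1, v.2 - if v.1 = 0 then 1 else 0)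
        left_inv := fun v => by simp
        right_inv := fun v => by simp }
    let b : Perm (ZMod p × ZMod p) := Equiv.prodCongr (Equiv.addRight 1) (Equiv.refl _)
    have ha : a ∈ W p := ⟨0, fun x => if x = 0 then 1 else 0, fun v => by simp [a]⟩
    have hb : b ∈ W p := ⟨1, 0, fun v => by simp [b, Prod.ext_iff]⟩
    refine ⟨ψ.range, (isPGroup_W p).of_surjective ψ.rangeRestrict ψ.rangeRestrict_surjective,
      ψ.rangeRestrict ⟨a, ha⟩, ψ.rangeRestrict ⟨b, hb⟩, fun h => ?_⟩
    rw [← map_mul, ← map_mul] at h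
    have h' : a * b = b * a := extendDomainHom_injective e (congrArg (fun z : ψ.range =>
      ((z : alternatingGroup (Fin n)) : Perm (Fin n))) h)
    have h'' := DFunLike.congr_fun h' (0, 0)
    simp [a, b] at h''

/-- For n ≥ 6 and a prime p, a nontrivial Sylow p-subgroup of the alternating group of degree n is abelian if and only if n < p². -/
theorem result (n p : ℕ) (hn : 6 ≤ n) [Fact p.Prime] (S : Sylow p (alternatingGroup (Fin n))) (hS : (S : Subgroup (alternatingGroup (Fin n))) ≠ ⊥) : IsMulCommutative S ↔ n < p ^ 2 := by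
  constructor
  · intro hab
    by_contra hlt
    obtain ⟨X, hX, a, b, hne⟩ := exists_noncomm n p hn (not_lt.1 hlt)
    obtain ⟨Q, hQ⟩ := hX.exists_le_sylow
    let e : (Q : Subgroup (alternatingGroup (Fin n))) ≃* (S : Subgroup (alternatingGroup (Fin n))) :=
      Sylow.equiv Q S
    have h1 : (⟨a, hQ a.2⟩ * ⟨b, hQ b.2⟩ : (Q : Subgroup (alternatingGroup (Fin n)))) =
        ⟨b, hQ b.2⟩ * ⟨a, hQ a.2⟩ :=
      e.injective (by rw [map_mul, map_mul]; exact hab.is_comm.comm _ _)
    exact hne (Subtype.ext (congrArg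
      (fun z : (Q : Subgroup (alternatingGroup (Fin n))) => (z : alternatingGroup (Fin n))) h1))
  · intro hlt
    refine ⟨⟨fun a b => Subtype.ext (Subtype.ext ?_)⟩⟩
    have := Cfsg.Agent.Lib.Fgs9.AlternatingSylow.comm_of_lt (q := p) (by rw [← sq]; exact hlt)
      ((S : Subgroup (alternatingGroup (Fin n))).map (alternatingGroup (Fin n)).subtype)
      (S.2.map _) ⟨_, ⟨a, a.2, rfl⟩⟩ ⟨_, ⟨b, b.2, rfl⟩⟩
    exact congrArg (fun z : ((S : Subgroup (alternatingGroup (Fin n))).map (alternatingGroup (Fin n)).subtype) =>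
      (z : Equiv.Perm (Fin n))) this

end Cfsg.Agent.S5164
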