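import Cfsg.Statements.S5167
import Cfsg.Agent.Lib.FusionAlperin.MathieuInst
import Cfsg.Agent.Lib.FusionAlperin.M12Data

set_option autoImplicit false
open Cfsg

namespace Cfsg.Agent.S5167

/-- The 2-fusion system of the Mathieu group M₁₂ (as the explicit permutation group carved out of the automorphism group of the binary Golay code) on a Sylow 2-subgroup is simple: saturated, over a nontrivial 2-group, with no normal subsystem other than the trivial one and itself. -/
theorem result (S : Sylow 2 Cfsg.Spor.M12) : (Cfsg.groupFusionSystem (S : Subgroup Cfsg.Spor.M12)).IsSimple 2 :=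
  Cfsg.Agent.Lib.FusionAlperin.MathieuCert.isSimple_of_cert
    (inH := Cfsg.Agent.Lib.FusionAlperin.MathieuInst.in12) Cfsg.Agent.Lib.FusionAlperin.MathieuInst.mem12 (els := Cfsg.Agent.Lib.FusionAlperin.M12Data.els) (gens := Cfsg.Agent.Lib.FusionAlperin.M12Data.gens)
    (by decide +kernel) (n := 6) (by decide +kernel) Cfsg.Agent.Lib.FusionAlperin.MathieuInst.card12 (by decide +kernel)
    (z := Cfsg.Agent.Lib.FusionAlperin.M12Data.central) (by decide +kernel) (steps := Cfsg.Agent.Lib.FusionAlperin.M12Data.steps) (by decide +kernel)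
    (extra := Cfsg.Agent.Lib.FusionAlperin.MathieuInst.extra12) Cfsg.Agent.Lib.FusionAlperin.MathieuInst.extra12_eq
    (cls := Cfsg.Agent.Lib.FusionAlperin.M12Data.cls) (by decide +kernel) (tests := Cfsg.Agent.Lib.FusionAlperin.M12Data.tests) (by decide +kernel) S

end Cfsg.Agent.S5167
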