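import Cfsg.Statements.S5170
import Cfsg.Agent.Lib.FusionAlperin.MathieuInst
import Cfsg.Agent.Lib.FusionAlperin.M24Data

set_option autoImplicit false
open Cfsg

namespace Cfsg.Agent.S5170

/-- The 2-fusion system of the Mathieu group M₂₄ (as the explicit permutation group of the 24 points preserving the binary Golay code) on a Sylow 2-subgroup is simple: saturated, over a nontrivial 2-group, with no normal subsystem other than the trivial one and itself. -/
theorem result (S : Sylow 2 Cfsg.M24) : (Cfsg.groupFusionSystem (S : Subgroup Cfsg.M24)).IsSimple 2 :=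
  Cfsg.Agent.Lib.FusionAlperin.MathieuCert.isSimple_of_cert
    (inH := Cfsg.Agent.Lib.Golay.inM24) (fun _ h => Cfsg.Agent.Lib.Golay.gperm_mem_M24 h) (els := Cfsg.Agent.Lib.FusionAlperin.M24Data.els) (gens := Cfsg.Agent.Lib.FusionAlperin.M24Data.gens)
    (by decide +kernel) (n := 10) (by decide +kernel) Cfsg.Agent.Lib.Golay.card_M24 (by decide +kernel)
    (z := Cfsg.Agent.Lib.FusionAlperin.M24Data.central) (by decide +kernel) (steps := Cfsg.Agent.Lib.FusionAlperin.M24Data.steps) (by decide +kernel)
    (extra := fun _ => 0) (fun _ _ _ => rfl)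
    (cls := Cfsg.Agent.Lib.FusionAlperin.M24Data.cls) (by decide +kernel) (tests := Cfsg.Agent.Lib.FusionAlperin.M24Data.tests) (by decide +kernel) S

end Cfsg.Agent.S5170
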