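import Cfsg.Prelude.Def_FusionSystem
import Cfsg.Agent.Lib.FusionAlperin.Transvections
import Cfsg.Agent.Lib.FusionEssential.PClosed
import Cfsg.Agent.Lib.FusionSystem.NormalFacts
import Cfsg.Agent.Lib.PGroups.Frattini
import Cfsg.Agent.Lib.PGroups.Omega

set_option autoImplicit false
set_option linter.style.haveILetI false

universe u

namespace Cfsg.Agent.S5178

open Cfsg Cfsg.FusionSystem Cfsg.Agent.Lib Cfsg.Agent.Lib.FS
open Cfsg.Agent.Lib.FusionAlperin
open scoped commutatorElement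

section

variable {Ω : Type*} [Group Ω] {S : Subgroup Ω} [Finite S] {p : ℕ} [hp : Fact p.Prime] {F : FusionSystem S}

theorem pow_apply {G : Type*} [Group G] {k : MulAut G} {x c : G} (h : k x = x * c) (hc : k c = c) (j : ℕ) :
    (k ^ j) x = x * c ^ j := by
  induction j with
  | zero => simp
  | succ j ih => rw [pow_succ', MulAut.mul_apply, ih, map_mul, h, map_pow, hc, pow_succ', mul_assoc]

/-- No automizer of an essential subgroup keeps a line through which all inner automorphisms of `S` move. -/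
theorem no_invariant_line (hS : IsPGroup p S) (hF : F.IsSaturated p) {E : Subgroup Ω}
    (hess : F.IsEssential p E) (z : E) (hz : z ^ p = 1) (hfix : ∀ r ∈ autInducedBy S E, r z = z)
    (hmove : ∀ r ∈ autInducedBy S E, ∀ x, x⁻¹ * r x ∈ Subgroup.zpowers z) :
    ∃ γ ∈ F.autGroup E, γ z ∉ Subgroup.zpowers z := by
  by_contra hcon
  push Not at hcon
  have hES := hess.2.1.1
  let K : Subgroup (MulAut E) :=
    { carrier := {k | k ∈ F.autGroup E ∧ k z = z ∧ ∀ x, x⁻¹ * k x ∈ Subgroup.zpowers z}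
      one_mem' := ⟨one_mem _, rfl, fun x => by simp⟩
      mul_mem' := by
        rintro a b ⟨ha, hza, hma⟩ ⟨hb, hzb, hmb⟩
        refine ⟨mul_mem ha hb, by rw [MulAut.mul_apply, hzb, hza], fun x => ?_⟩
        rw [MulAut.mul_apply, show x⁻¹ * a (b x) = (x⁻¹ * b x) * ((b x)⁻¹ * a (b x)) by group]
        exact mul_mem (hmb x) (hma (b x))
      inv_mem' := by
        rintro a ⟨ha, hza, hma⟩
        refine ⟨inv_mem ha, a.injective (by simp [hza]), fun x => ?_⟩
        have h := inv_mem (hma (a⁻¹ x))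
        rwa [MulAut.apply_inv_self, mul_inv_rev, inv_inv] at h }
  refine FusionEssential.PClosed.not_normal_pGroup hS hF hess K (fun k hk => hk.1) ?_ ?_ ?_
  · rintro γ hγ k ⟨hk, hkz, hkm⟩
    obtain ⟨i, hi⟩ := hcon _ (inv_mem hγ)
    have hi : z ^ i = γ⁻¹ z := hi
    refine ⟨mul_mem (mul_mem hγ hk) (inv_mem hγ), ?_, fun x => ?_⟩
    · rw [MulAut.mul_apply, MulAut.mul_apply, ← hi, map_zpow, hkz, hi, MulAut.apply_inv_self]
    · obtain ⟨m, hm⟩ := hkm (γ⁻¹ x)
      have hm : z ^ m = (γ⁻¹ x)⁻¹ * k (γ⁻¹ x) := hm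
      rw [MulAut.mul_apply, MulAut.mul_apply, show k (γ⁻¹ x) = γ⁻¹ x * z ^ m by rw [hm, mul_inv_cancel_left],
        map_mul, MulAut.apply_inv_self, inv_mul_cancel_left, map_zpow]
      exact zpow_mem (hcon γ hγ) m
  · rintro ⟨k, -, hkz, hkm⟩
    refine ⟨1, Subtype.ext (MulEquiv.ext fun x => ?_)⟩
    obtain ⟨m, hm⟩ := hkm x
    have hm : z ^ m = x⁻¹ * k x := hm
    show (k ^ p ^ 1) x = x
    rw [pow_one, pow_apply (c := z ^ m) (by rw [hm, mul_inv_cancel_left]) (by rw [map_zpow, hkz]) p,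
      ← zpow_natCast, ← zpow_mul, mul_comm m, zpow_mul, zpow_natCast, hz, one_zpow, mul_one]
  · exact fun r hr => ⟨autInducedBy_le_autGroup F hES hr, hfix r hr, hmove r hr⟩

/-- An element of `S` normalising `E` induces an automorphism of `E`. -/
theorem exists_induced_aut {E : Subgroup Ω} {g : Ω} (hg : g ∈ S) (hn : g ∈ Subgroup.normalizer (E : Set Ω)) :
    ∃ r ∈ autInducedBy S E, ∀ x : E, ((r x : E) : Ω) = g * x * g⁻¹ :=
  ⟨_, mem_autInducedBy.2 ⟨g, hg, fun _ => rfl⟩, fun x =>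
    (rfl : (((E.normalizerMonoidHom ⟨g, hn⟩) x : E) : Ω) = g * x * g⁻¹)⟩

end

section

variable {Ω : Type*} [Group Ω] {S : Subgroup Ω} [Finite S] {p : ℕ} [hp : Fact p.Prime] {F : FusionSystem S}
variable {z c : S}

/-- The situation of the proof. -/
structure Setup (p : ℕ) (S : Subgroup Ω) (z c : S) : Prop where
  odd : p ≠ 2
  zC : ∀ s : S, s * z = z * s
  zp : z ^ p = 1
  cC : ∀ s : S, s * c = c * s
  cne : c ∉ Subgroup.zpowers z
  comm : ∀ a b : S, ⁅a, b⁆ ∈ Subgroup.zpowers z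
  pow : ∀ a : S, a ^ p ∈ Subgroup.zpowers z
  gen : ∃ a b : S, ⁅a, b⁆ ≠ 1

/-- An automorphism of `S` inverting `z` and trivial on `Z(S)` modulo `z`. -/
def Inverts (F : FusionSystem S) (z : S) (T : MulAut S) : Prop :=
  T ∈ F.autGroup S ∧ T z = z⁻¹ ∧ ∀ x : S, (∀ s : S, s * x = x * s) → x⁻¹ * T x ∈ Subgroup.zpowers z

theorem zpowers_mono_of_ne {G : Type*} [Group G] [Finite G] {p : ℕ} [Fact p.Prime] {z d : G}
    (hz : z ^ p = 1) (hd : d ∈ Subgroup.zpowers z) (h1 : d ≠ 1) : z ∈ Subgroup.zpowers d := by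
  have hc' : Nat.card (Subgroup.zpowers z) = p := by
    rw [Nat.card_zpowers]
    exact orderOf_eq_prime hz fun h => h1 (by rw [h, Subgroup.zpowers_one_eq_bot] at hd; exact hd)
  have hgen := zpowers_eq_top_of_prime_card hc'
    (g := (⟨d, hd⟩ : Subgroup.zpowers z)) fun h => h1 (congrArg Subtype.val h)
  obtain ⟨m, hm⟩ := Subgroup.mem_zpowers_iff.1
    (hgen ▸ Subgroup.mem_top (⟨z, Subgroup.mem_zpowers z⟩ : Subgroup.zpowers z))
  exact ⟨m, congrArg Subtype.val hm⟩

theorem Setup.aut_z (h : Setup p S z c) (a : MulAut S) : a z ∈ Subgroup.zpowers z := by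
  obtain ⟨x, y, hxy⟩ := h.gen
  obtain ⟨m, hm⟩ := zpowers_mono_of_ne h.zp (h.comm x y) hxy
  rw [show a z = ⁅a x, a y⁆ ^ m by
    rw [← map_commutatorElement, ← map_zpow]; exact congrArg a (show ⁅x, y⁆ ^ m = z from hm).symm]
  exact zpow_mem (show ⁅a x, a y⁆ ∈ Subgroup.zpowers z from h.comm _ _) m

/-- An automorphism of `S` in `F` fixing `z` and trivial on `Z(S)/⟨z⟩` fixes `Z(S)`. -/
theorem Setup.fixed_of_unipotent (hS : IsPGroup p S) (hF : F.IsSaturated p) (h : Setup p S z c)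
    {u : MulAut S} (hu : u ∈ F.autGroup S) (huz : u z = z) {x : S} (hx : ∀ s : S, s * x = x * s)
    (hm : x⁻¹ * u x ∈ Subgroup.zpowers z) : u x = x := by
  obtain ⟨m, hm⟩ := hm
  have hm : z ^ m = x⁻¹ * u x := hm
  obtain ⟨-, R, hR⟩ := isFullyAutomized_base hS hF
  have hnorm : ((autInducedBy S S).subgroupOf (F.autGroup S)).Normal := ⟨fun r hr a => by
    rw [Subgroup.mem_subgroupOf] at hr ⊢
    obtain ⟨g, hg, hge⟩ := mem_autInducedBy.1 hr
    refine mem_autInducedBy.2 ⟨((a : MulAut S) ⟨g, hg⟩ : S), SetLike.coe_mem _, fun y => ?_⟩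
    have e : (r : MulAut S) ((a : MulAut S)⁻¹ y) = ⟨g, hg⟩ * (a : MulAut S)⁻¹ y * ⟨g, hg⟩⁻¹ :=
      Subtype.ext (hge _)
    show (((a : MulAut S) ((r : MulAut S) ((a : MulAut S)⁻¹ y)) : S) : Ω) = _
    rw [e, map_mul, map_mul, map_inv, MulAut.apply_inv_self]
    rfl⟩
  set n := ((autInducedBy S S).subgroupOf (F.autGroup S)).index with hn
  have hpn : ¬ p ∣ n := by rw [hn, ← hR]; exact R.not_dvd_index
  have h1 := ((autInducedBy S S).subgroupOf (F.autGroup S)).pow_index_mem ⟨u, hu⟩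
  rw [Subgroup.mem_subgroupOf] at h1
  obtain ⟨g, hg, hge⟩ := mem_autInducedBy.1 h1
  have h2 : (u ^ n) x = x := Subtype.ext ((hge x).trans (by
    have := congrArg Subtype.val (hx ⟨g, hg⟩)
    rw [show g * (x : Ω) = x * g from this, mul_inv_cancel_right]))
  rw [pow_apply (c := z ^ m) (by rw [hm, mul_inv_cancel_left]) (by rw [map_zpow, huz]) n, mul_eq_left,
    ← zpow_natCast, ← zpow_mul, ← orderOf_dvd_iff_zpow_eq_one] at h2
  have hzm : z ^ m = 1 := by
    rcases eq_or_ne z 1 with h0 | h0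
    · rw [h0, one_zpow]
    have ho := orderOf_eq_prime h.zp h0
    rw [ho] at h2
    exact orderOf_dvd_iff_zpow_eq_one.1 (by
      rw [ho]
      exact (Int.Prime.dvd_mul' hp.out h2).resolve_right fun hd => hpn (Int.natCast_dvd_natCast.1 hd))
  rw [hzm, eq_comm, inv_mul_eq_one] at hm
  exact hm.symm

theorem Setup.inverts_agree (hS : IsPGroup p S) (hF : F.IsSaturated p) (h : Setup p S z c)
    {T T' : MulAut S} (hT : Inverts F z T) (hT' : Inverts F z T') {x : S} (hx : ∀ s : S, s * x = x * s) :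
    T x = T' x := by
  obtain ⟨i, hi⟩ := hT.2.2 x hx
  obtain ⟨j, hj⟩ := hT'.2.2 x hx
  have hi : T x = x * z ^ i := by rw [show z ^ i = x⁻¹ * T x from hi, mul_inv_cancel_left]
  have hj : T' x = x * z ^ j := by rw [show z ^ j = x⁻¹ * T' x from hj, mul_inv_cancel_left]
  have hz : T⁻¹ z = z⁻¹ := T.injective (by rw [MulAut.apply_inv_self, map_inv, hT.2.1, inv_inv])
  have hxi : T⁻¹ x = x * z ^ i := T.injective (by
    rw [MulAut.apply_inv_self, map_mul, map_zpow, hT.2.1, hi, inv_zpow, mul_inv_cancel_right])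
  have := h.fixed_of_unipotent hS hF (u := T⁻¹ * T') (mul_mem (inv_mem hT.1) hT'.1)
    (by rw [MulAut.mul_apply, hT'.2.1, map_inv, hz, inv_inv]) hx
    (by rw [MulAut.mul_apply, hj, map_mul, hxi, map_zpow, hz, mul_assoc, inv_mul_cancel_left, inv_zpow']
        exact mul_mem ⟨_, rfl⟩ ⟨_, rfl⟩)
  rw [MulAut.mul_apply] at this
  exact (congrArg T this).symm.trans (MulAut.apply_inv_self _ _ _)

theorem Setup.mem_essential (h : Setup p S z c) {E : Subgroup Ω} (hess : F.IsEssential p E) {x : S}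
    (hx : ∀ s : S, s * x = x * s) : (x : Ω) ∈ E :=
  hess.1.2 E (isConj_refl F hess.2.1.1) (mem_centralizerIn'.2 ⟨x.2, fun y hy => by
    have := congrArg Subtype.val (hx ⟨y, hess.2.1.1 hy⟩)
    show (x : Ω) * y * (x : Ω)⁻¹ = y
    rw [show (x : Ω) * y = y * x from this.symm, mul_inv_cancel_right]⟩)

theorem Setup.normalizes (h : Setup p S z c) {E : Subgroup Ω} (hess : F.IsEssential p E) :
    S ≤ Subgroup.normalizer (E : Set Ω) := Subgroup.le_normalizer_iff.2 fun g hg x hx => by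
  obtain ⟨i, hi⟩ := h.comm ⟨g, hg⟩ ⟨x, hess.2.1.1 hx⟩
  have e := congrArg Subtype.val hi
  rw [show g * x * g⁻¹ = ((z ^ i : S) : Ω) * x by
    rw [show ((z ^ i : S) : Ω) = _ from e]; simp [commutatorElement_def]]
  exact mul_mem (h.mem_essential hess fun s => (Commute.zpow_right (show Commute s z from h.zC s) i).eq) hx

/-- In an essential subgroup a central element fixed by an inverting element is carried by every
automorphism of `F` to such an element. -/
theorem Setup.essential (hS : IsPGroup p S) (hF : F.IsSaturated p) (h : Setup p S z c) {E : Subgroup Ω}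
    (hess : F.IsEssential p E) :
    (∃ T l, Inverts F z T ∧ (∀ s : S, s * l = l * s) ∧ l ≠ 1 ∧ T l = l) ∧
      ∀ α ∈ F.autGroup E, ∀ T, Inverts F z T → ∀ x : E,
        (∀ s : S, s * ⟨x, hess.2.1.1 x.2⟩ = ⟨x, hess.2.1.1 x.2⟩ * s) →
        T ⟨x, hess.2.1.1 x.2⟩ = ⟨x, hess.2.1.1 x.2⟩ →
        (∀ s : S, s * ⟨α x, hess.2.1.1 (α x).2⟩ = ⟨α x, hess.2.1.1 (α x).2⟩ * s) ∧
        T ⟨α x, hess.2.1.1 (α x).2⟩ = ⟨α x, hess.2.1.1 (α x).2⟩ := by
  have hES := hess.2.1.1
  haveI := finite_sub hES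
  set A := F.autGroup E
  set R := autInducedBy S E with hRdef
  have hn := h.normalizes hess
  let ι : E →* S := Subgroup.inclusion hES
  have hι : Function.Injective ι := Subgroup.inclusion_injective hES
  set zE : E := ⟨z, h.mem_essential hess h.zC⟩
  have hcv : ∀ d : E, ι d ∈ Subgroup.zpowers z → d ∈ Subgroup.zpowers zE := by
    rintro d ⟨i, hi⟩
    exact ⟨i, hι (by rw [map_zpow]; exact hi)⟩
  have hzE : zE ^ p = 1 := hι (by rw [map_pow, map_one]; exact h.zp)
  have hR : ∀ r ∈ R, ∃ g : S, ∀ x : E, ι (r x) = g * ι x * g⁻¹ := fun r hr => by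
    obtain ⟨g, hg, he⟩ := mem_autInducedBy.1 hr
    exact ⟨⟨g, hg⟩, fun x => Subtype.ext (he x)⟩
  have hfix : ∀ r ∈ R, ∀ x : E, (∀ s : S, s * ι x = ι x * s) → r x = x := fun r hr x hx => by
    obtain ⟨g, hg⟩ := hR r hr
    exact hι (by rw [hg, hx g, mul_inv_cancel_right])
  have hfix' : ∀ x : E, (∀ r ∈ R, r x = x) → ∀ s : S, s * ι x = ι x * s := fun x hx s => by
    obtain ⟨r, hr, he⟩ := exists_induced_aut (S := S) s.2 (hn s.2)
    have h1 := he x
    rw [hx r hr] at h1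
    exact Subtype.ext (eq_mul_inv_iff_mul_eq.1 h1).symm
  have hmove : ∀ r ∈ R, ∀ x, x⁻¹ * r x ∈ Subgroup.zpowers zE := fun r hr x => hcv _ (by
    obtain ⟨g, hg⟩ := hR r hr
    rw [map_mul, map_inv, hg, show (ι x)⁻¹ * (g * ι x * g⁻¹) = ⁅(ι x)⁻¹, g⁆ by
      rw [commutatorElement_def]; group]
    exact h.comm _ _)
  obtain ⟨γ, hγ, hγz⟩ := no_invariant_line hS hF hess zE hzE (fun r hr => hfix r hr zE h.zC) hmove
  have hexp : ∀ x : E, x ^ p = 1 := fun x => by
    by_contra hne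
    obtain ⟨m, hm⟩ := zpowers_mono_of_ne hzE (hcv _ (by rw [map_pow]; exact h.pow _)) hne
    apply hγz
    have e := congrArg γ (show (x ^ p) ^ m = zE from hm)
    rw [map_zpow, map_pow] at e
    rw [← e]
    exact zpow_mem (hcv _ (by rw [map_pow]; exact h.pow _)) m
  have hcomm : ∀ x y : E, x * y = y * x := fun x y => by
    by_contra hne
    have hne' : ⁅x, y⁆ ≠ 1 := fun h1 => hne (commutatorElement_eq_one_iff_mul_comm.1 h1)
    obtain ⟨m, hm⟩ := zpowers_mono_of_ne hzE (hcv _ (by rw [map_commutatorElement]; exact h.comm _ _)) hne'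
    apply hγz
    have e := congrArg γ (show ⁅x, y⁆ ^ m = zE from hm)
    rw [map_zpow, map_commutatorElement] at e
    rw [← e]
    exact zpow_mem (hcv _ (by rw [map_commutatorElement]; exact h.comm _ _)) m
  letI : CommGroup E := { (inferInstance : Group E) with mul_comm := hcomm }
  have hmax : ∀ K : Subgroup (MulAut E), K ≤ A → IsPGroup p K → R ≤ K → K ≤ R := by
    intro K hKA hK hRK k hk
    obtain ⟨-, P, hP⟩ := fullyAutomized_of_fullyNormalized hS hF hess.2.1
    have h1 := P.3 (Q := K.subgroupOf A) (hK.of_equiv (Subgroup.subgroupOfEquivOfLe hKA).symm)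
      (by show (P : Subgroup A) ≤ _; rw [hP]; exact Subgroup.comap_mono hRK)
    have hk' : (⟨k, hKA hk⟩ : A) ∈ (P : Subgroup A) :=
      h1.le (show (⟨k, hKA hk⟩ : A) ∈ K.subgroupOf A from hk)
    rwa [hP] at hk'
  have hT : Transvections.IsTransv p A zE R :=
    ⟨autInducedBy_le_autGroup F hES, fun r hr => hfix r hr zE h.zC, hmove, isPGroup_autInducedBy hS E, hmax⟩
  -- extension to `S`
  have hext : ∀ a ∈ A, (∀ r ∈ R, a * r * a⁻¹ ∈ R) →
      ∃ b ∈ F.autGroup S, ∀ x : E, b (ι x) = ι (a x) := by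
    intro a ha hna
    obtain ⟨ψ, hψ, he⟩ := FusionP3.Induction.exists_extend_aut (receptive_of_fullyNormalized hS hF hess.2.1)
      (show S ≤ normalizerIn S E from fun g hg => ⟨hg, hn hg⟩) ha (by
        intro g hg
        obtain ⟨r, hr, hre⟩ := exists_induced_aut (S := S) hg (hn hg)
        obtain ⟨k, hk, hke⟩ := mem_autInducedBy.1 (hna r hr)
        refine ⟨k, hk, fun x hx => ?_⟩
        rw [show (⟨g * x * g⁻¹, hx⟩ : E) = r x from Subtype.ext (hre x).symm,
          show a (r x) = (a * r * a⁻¹) (a x) by simp]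
        exact hke (a x))
    refine ⟨_, homEquiv_mem_autGroup hψ (range_eq_of_mem hψ (apply_mem hψ) le_rfl), fun x => Subtype.ext ?_⟩
    rw [homEquiv_coe]
    exact he x x.2 _
  -- the local inverting element
  have hloc : ∀ α ∈ A, (∃ r ∈ R, α * r * α⁻¹ ∉ R) → ∃ T, Inverts F z T ∧
      (∀ x : E, (∀ s : S, s * ι x = ι x * s) → (T (ι x) = ι x ↔ ∀ s : S, s * ι (α x) = ι (α x) * s)) ∧
      ∃ l : S, (∀ s : S, s * l = l * s) ∧ l ≠ 1 ∧ T l = l := by
    intro α hα hne
    set R' := R.map (MulAut.conj α⁻¹).toMonoidHom with hR'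
    have hmem : ∀ k, k ∈ R' ↔ α * k * α⁻¹ ∈ R := by
      intro k
      rw [hR', Subgroup.mem_map]
      constructor
      · rintro ⟨r, hr, rfl⟩
        simpa [mul_assoc] using hr
      · exact fun hk => ⟨_, hk, by simp [mul_assoc]⟩
    have hT' : Transvections.IsTransv p A (α⁻¹ zE) R' := by
      refine ⟨fun k hk => ?_, fun k hk => ?_, fun k hk x => ?_, hT.isP.map _, fun K hK hKp hRK => ?_⟩
      · have := mul_mem (mul_mem (inv_mem hα) (hT.le ((hmem k).1 hk))) hα
        simpa [mul_assoc] using this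
      · exact α.injective (by simpa [MulAut.mul_apply] using hT.fix _ ((hmem k).1 hk))
      · obtain ⟨i, hi⟩ := hT.move _ ((hmem k).1 hk) (α x)
        refine ⟨i, α.injective ?_⟩
        rw [map_zpow, MulAut.apply_inv_self, map_mul, map_inv]
        simpa [MulAut.mul_apply] using hi
      · intro k hk
        rw [hmem]
        refine hmax (K.map (MulAut.conj α).toMonoidHom) ?_ (hKp.map _) (fun r hr => ?_) ⟨k, hk, rfl⟩
        · rintro _ ⟨k, hk, rfl⟩
          exact mul_mem (mul_mem hα (hK hk)) (inv_mem hα)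
        · exact ⟨α⁻¹ * r * α, hRK ((hmem _).2 (by simpa [mul_assoc] using hr)), by simp [mul_assoc]⟩
    have hcard : Nat.card R' = Nat.card R :=
      Subgroup.card_map_of_injective (MulAut.conj α⁻¹).injective
    have hneq : R' ≠ R := fun he => by
      obtain ⟨r, hr, hr'⟩ := hne
      exact hr' ((hmem r).1 (he ▸ hr))
    obtain ⟨t, htA, htz, htn, htx⟩ := Transvections.exists_inversion hexp h.odd hT hT'
      (fun hle => hneq (Subgroup.eq_of_le_of_card_ge hle hcard.ge))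
      (fun hle => hneq (Subgroup.eq_of_le_of_card_ge hle hcard.le).symm)
    obtain ⟨T, hTS, hTe⟩ := hext t htA htn
    have hinv : Inverts F z T := by
      refine ⟨hTS, ?_, fun x hx => ?_⟩
      · have h1 := hTe zE
        rw [htz, map_inv] at h1
        exact h1
      · obtain ⟨i, -, hi, -⟩ := htx ⟨x, h.mem_essential hess hx⟩ fun r hr => hfix r hr _ hx
        have h1 := hTe ⟨x, h.mem_essential hess hx⟩
        rw [hi, map_mul, map_zpow] at h1
        refine ⟨2 * i, ?_⟩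
        show z ^ (2 * i) = x⁻¹ * T x
        rw [show T x = x * z ^ (2 * i) from h1, inv_mul_cancel_left]
    refine ⟨T, hinv, fun x hx => ?_, ?_⟩
    · obtain ⟨i, -, -, hiff⟩ := htx x fun r hr => hfix r hr x hx
      rw [hTe, hι.eq_iff, hiff]
      constructor
      · intro hk
        refine hfix' _ fun r hr => ?_
        have := hk (α⁻¹ * r * α) ((hmem _).2 (by simpa [mul_assoc] using hr))
        simpa [MulAut.mul_apply] using congrArg α this
      · intro hs k hk
        exact α.injective (by simpa [MulAut.mul_apply] using hfix _ ((hmem k).1 hk) (α x) hs)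
    · set cE : E := ⟨c, h.mem_essential hess h.cC⟩
      obtain ⟨i, hl, -, -⟩ := htx cE fun r hr => hfix r hr cE h.cC
      have hlC : ∀ s : S, s * ι (cE * zE ^ i) = ι (cE * zE ^ i) * s := fun s => by
        rw [map_mul, map_zpow]
        exact (Commute.mul_right (show Commute s c from h.cC s) ((show Commute s z from h.zC s).zpow_right i)).eq
      refine ⟨ι (cE * zE ^ i), hlC, fun h1 => h.cne ?_, ?_⟩
      · rw [map_mul, map_zpow, mul_eq_one_iff_eq_inv] at h1
        rw [show c = (z ^ i)⁻¹ from h1]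
        exact inv_mem ⟨i, rfl⟩
      · obtain ⟨_, -, -, hiff⟩ := htx _ fun r hr => hfix r hr _ hlC
        rw [hTe, hiff.2 hl]
  obtain ⟨α₀, hα₀, hα₀'⟩ : ∃ α ∈ A, ∃ r ∈ R, α * r * α⁻¹ ∉ R := by
    by_contra hcon
    push Not at hcon
    exact FusionEssential.PClosed.not_normal_pGroup hS hF hess R hT.le hcon hT.isP le_rfl
  refine ⟨?_, fun α hα T hTi x hx hTx => ?_⟩
  · obtain ⟨T, hT1, -, l, hl1, hl2, hl3⟩ := hloc α₀ hα₀ hα₀'
    exact ⟨T, l, hT1, hl1, hl2, hl3⟩
  change ∀ s : S, s * ι x = ι x * s at hx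
  change T (ι x) = ι x at hTx
  show (∀ s : S, s * ι (α x) = ι (α x) * s) ∧ T (ι (α x)) = ι (α x)
  by_cases hnorm : ∀ r ∈ R, α * r * α⁻¹ ∈ R
  · obtain ⟨b, hb, hbe⟩ := hext α hα hnorm
    have hbx : ∀ s : S, s * b (ι x) = b (ι x) * s := fun s => by
      obtain ⟨s, rfl⟩ := b.surjective s
      rw [← map_mul, ← map_mul, hx]
    refine ⟨hbe x ▸ hbx, ?_⟩
    obtain ⟨i, hi⟩ := h.aut_z b
    have hi : z ^ i = b z := hi
    have hconj : Inverts F z (b⁻¹ * T * b) := by
      refine ⟨mul_mem (mul_mem (inv_mem hb) hTi.1) hb, ?_, fun y hy => ?_⟩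
      · apply b.injective
        rw [MulAut.mul_apply, MulAut.mul_apply, MulAut.apply_inv_self, ← hi, map_zpow, hTi.2.1, inv_zpow,
          hi, map_inv]
      · obtain ⟨m, hm⟩ := hTi.2.2 (b y) fun s => by
          obtain ⟨s, rfl⟩ := b.surjective s
          rw [← map_mul, ← map_mul, hy]
        have hm : z ^ m = (b y)⁻¹ * T (b y) := hm
        rw [MulAut.mul_apply, MulAut.mul_apply,
          show y⁻¹ * b⁻¹ (T (b y)) = (b⁻¹ z) ^ m by rw [← map_zpow, hm, map_mul, map_inv, MulAut.inv_apply_self]]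
        exact zpow_mem (h.aut_z b⁻¹) m
    have h1 := h.inverts_agree hS hF hconj hTi hx
    rw [hTx, MulAut.mul_apply, MulAut.mul_apply, hbe] at h1
    have h2 := congrArg b h1
    rwa [MulAut.apply_inv_self, hbe] at h2
  · push Not at hnorm
    obtain ⟨T₁, hT₁, hiff₁, -⟩ := hloc α hα hnorm
    have hy := (hiff₁ x hx).1 (h.inverts_agree hS hF hT₁ hTi hx ▸ hTx)
    have hnorm' : ∃ r ∈ R, α⁻¹ * r * α⁻¹⁻¹ ∉ R := by
      by_contra hcon
      push Not at hcon
      have hsub : R.map (MulAut.conj α⁻¹).toMonoidHom = R := Subgroup.eq_of_le_of_card_ge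
        (by rintro _ ⟨r, hr, rfl⟩; exact hcon r hr) (Subgroup.card_map_of_injective (MulAut.conj α⁻¹).injective).ge
      obtain ⟨r, hr, hr'⟩ := hnorm
      obtain ⟨k, hk, hke⟩ := hsub.ge hr
      exact hr' (by rw [← hke]; simpa [mul_assoc] using hk)
    obtain ⟨T₂, hT₂, hiff₂, -⟩ := hloc α⁻¹ (inv_mem hα) hnorm'
    refine ⟨hy, ?_⟩
    rw [← h.inverts_agree hS hF hT₂ hTi hy, (hiff₂ (α x) hy).2]
    rw [MulAut.inv_apply_self]
    exact hx

/-- Such a system has a nontrivial normal subgroup. -/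
theorem Setup.core_ne_bot (hS : IsPGroup p S) (hF : F.IsSaturated p) (h : Setup p S z c) : F.core ≠ ⊥ := by
  intro hcore
  have hbot : ∀ N : Subgroup Ω, F.IsNormal N → N = ⊥ := fun N hN =>
    le_bot_iff.1 (hcore ▸ le_core_of_isNormal hN)
  have hc1 : c ≠ 1 := fun h1 => h.cne (h1 ▸ one_mem _)
  by_cases hex : ∃ E, F.IsEssential p E
  swap
  · push Not at hex
    exact hc1 (Subtype.ext (Subgroup.mem_bot.1 (hbot S (FusionEssential.PClosed.isNormal_base hS hF hex) ▸ c.2)))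
  obtain ⟨E₀, hE₀⟩ := hex
  obtain ⟨T, l, hT, hl, hl1, hlT⟩ := (h.essential hS hF hE₀).1
  let L' : Subgroup S := (Subgroup.center S) ⊓
    { carrier := {x | T x = x}
      one_mem' := map_one T
      mul_mem' := fun {a b} (ha : T a = a) (hb : T b = b) => show T (a * b) = a * b by rw [map_mul, ha, hb]
      inv_mem' := fun {a} (ha : T a = a) => show T a⁻¹ = a⁻¹ by rw [map_inv, ha] }
  set L := L'.map S.subtype with hL
  have hmemL : ∀ x : S, (x : Ω) ∈ L ↔ (∀ s : S, s * x = x * s) ∧ T x = x := fun x =>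
    (Subgroup.mem_map_iff_mem S.subtype_injective).trans (and_congr Subgroup.mem_center_iff Iff.rfl)
  have hLS : L ≤ S := Subgroup.map_subtype_le _
  haveI := finite_sub hLS
  have hnormal : F.IsNormal L := by
    refine (isNormal_iff_essential hS hF).2 fun P hP => ?_
    have hPS : P ≤ S := FusionEssential.PClosed.le_base_of_or hP
    have hLP : L ≤ P := by
      intro x hx
      rcases hP with rfl | hP
      · exact hLS hx
      · exact h.mem_essential hP (x := ⟨x, hLS hx⟩) ((hmemL _).1 hx).1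
    refine ⟨hLP, fun α hα => ?_⟩
    haveI := finite_sub hPS
    refine Subgroup.eq_of_le_of_card_ge ?_ (Subgroup.card_map_of_injective α.injective).ge
    rintro _ ⟨x, hx, rfl⟩
    show ((α x : P) : Ω) ∈ L
    obtain ⟨hx1, hx2⟩ := (hmemL ⟨x, hPS x.2⟩).1 hx
    rw [show ((α x : P) : Ω) = ((⟨α x, hPS (α x).2⟩ : S) : Ω) from rfl, hmemL]
    rcases hP with rfl | hP
    · change ∀ s, s * x = x * s at hx1
      change T x = x at hx2
      show (∀ s, s * α x = α x * s) ∧ T (α x) = α x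
      refine ⟨fun s => ?_, ?_⟩
      · obtain ⟨s, rfl⟩ := α.surjective s
        rw [← map_mul, ← map_mul, hx1]
      obtain ⟨i, hi⟩ := h.aut_z α
      have hi : z ^ i = α z := hi
      have hconj : Inverts F z (α⁻¹ * T * α) := by
        refine ⟨mul_mem (mul_mem (inv_mem hα) hT.1) hα, ?_, fun y hy => ?_⟩
        · apply α.injective
          rw [MulAut.mul_apply, MulAut.mul_apply, MulAut.apply_inv_self, ← hi, map_zpow, hT.2.1, inv_zpow,
            hi, map_inv]
        · obtain ⟨m, hm⟩ := hT.2.2 (α y) fun s => by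
            obtain ⟨s, rfl⟩ := α.surjective s
            rw [← map_mul, ← map_mul, hy]
          have hm : z ^ m = (α y)⁻¹ * T (α y) := hm
          rw [MulAut.mul_apply, MulAut.mul_apply,
            show y⁻¹ * α⁻¹ (T (α y)) = (α⁻¹ z) ^ m by rw [← map_zpow, hm, map_mul, map_inv, MulAut.inv_apply_self]]
          exact zpow_mem (h.aut_z α⁻¹) m
      have h1 := h.inverts_agree hS hF hconj hT hx1
      rw [hx2, MulAut.mul_apply, MulAut.mul_apply] at h1
      have h2 := congrArg α h1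
      rwa [MulAut.apply_inv_self] at h2
    · exact (h.essential hS hF hP).2 α hα T hT x hx1 hx2
  exact hl1 (Subtype.ext (Subgroup.mem_bot.1 (hbot L hnormal ▸ (hmemL l).2 ⟨hl, hlT⟩)))

end

theorem result {Ω : Type u} [Group Ω] {S : Subgroup Ω} [Finite S] (p : ℕ) [Fact p.Prime] (hp : Odd p) (hS : IsPGroup p S)
    (Q : Subgroup Ω) (hQS : Q ≤ S) (hQ : Cfsg.IsExtraspecial p ↥Q) (hQi : (Q.subgroupOf S).index = p)
    (F : Cfsg.FusionSystem S) (hF : F.IsSaturated p) (hO : F.core = ⊥) :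
    S ⊓ Subgroup.centralizer (S : Set Ω) = Q ⊓ Subgroup.centralizer (Q : Set Ω) := by
  have hpr : p.Prime := Fact.out
  haveI := finite_sub hQS
  obtain ⟨⟨hQp, hfr, hcm⟩, hcard⟩ := hQ
  set Q' := Q.subgroupOf S
  haveI hQn : Q'.Normal := by
    refine Subgroup.normal_of_index_eq_minFac_card ?_
    obtain ⟨n, hn⟩ := hS.exists_card_eq
    have hn0 : n ≠ 0 := by
      rintro rfl
      have := Subgroup.index_dvd_card Q'
      rw [hn, hQi, pow_zero, Nat.dvd_one] at this
      exact hpr.ne_one this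
    rw [hQi, hn, Nat.pow_minFac hn0, hpr.minFac_eq]
  set Zq := (Subgroup.center Q).map Q.subtype with hZq
  have hZqe : Zq = Q ⊓ Subgroup.centralizer (Q : Set Ω) := by
    ext x
    constructor
    · rintro ⟨y, hy, rfl⟩
      exact ⟨y.2, Subgroup.mem_centralizer_iff.2 fun q hq =>
        congrArg Subtype.val (Subgroup.mem_center_iff.1 hy ⟨q, hq⟩)⟩
    · rintro ⟨h1, h2⟩
      exact ⟨⟨x, h1⟩, Subgroup.mem_center_iff.2 fun q =>
        Subtype.ext (Subgroup.mem_centralizer_iff.1 h2 q q.2), rfl⟩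
  have hZS : Zq ≤ S := (Subgroup.map_subtype_le _).trans hQS
  have hZc : Nat.card (Zq.subgroupOf S) = p := by
    rw [Nat.card_congr (Subgroup.subgroupOfEquivOfLe hZS).toEquiv, hZq,
      Subgroup.card_map_of_injective Q.subtype_injective, hcard]
  haveI hZn : (Zq.subgroupOf S).Normal := ⟨fun x hx g => by
    rw [Subgroup.mem_subgroupOf, hZqe] at hx ⊢
    refine ⟨hQn.conj_mem x hx.1 g, Subgroup.mem_centralizer_iff.2 fun q hq => ?_⟩
    have h1 := Subgroup.mem_centralizer_iff.1 hx.2 _ (show ((g⁻¹ * ⟨q, hQS hq⟩ * g⁻¹⁻¹ : S) : Ω) ∈ Q from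
      hQn.conj_mem ⟨q, hQS hq⟩ hq g⁻¹)
    push_cast at h1 ⊢
    calc q * ((g : Ω) * x * (g : Ω)⁻¹) = g * (((g : Ω)⁻¹ * q * (g : Ω)⁻¹⁻¹) * x) * (g : Ω)⁻¹ := by group
      _ = _ := by rw [h1]; group⟩
  have hcen := PGroups.le_center_of_normal_card_prime hS (Zq.subgroupOf S) hZc
  rw [← hZqe]
  refine le_antisymm ?_ fun x hx => ⟨hZS hx, Subgroup.mem_centralizer_iff.2 fun s hs =>
    congrArg Subtype.val (Subgroup.mem_center_iff.1 (hcen (show (⟨x, hZS hx⟩ : S) ∈ _ from hx)) ⟨s, hs⟩)⟩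
  have hmem : ∀ x ∈ S ⊓ Subgroup.centralizer (S : Set Ω), x ∈ Q → x ∈ Zq := fun x hx hxQ => by
    rw [hZqe]
    exact ⟨hxQ, Subgroup.mem_centralizer_iff.2 fun q hq => Subgroup.mem_centralizer_iff.1 hx.2 q (hQS hq)⟩
  refine fun x hx => hmem x hx ?_
  by_contra hxQ
  set c : S := ⟨x, hx.1⟩
  have hcC : ∀ s : S, s * c = c * s := fun s => Subtype.ext (Subgroup.mem_centralizer_iff.1 hx.2 s s.2)
  obtain ⟨z, hz1⟩ : ∃ z : Zq.subgroupOf S, z ≠ 1 := by
    haveI : Nontrivial (Zq.subgroupOf S) := Finite.one_lt_card_iff_nontrivial.1 (by rw [hZc]; exact hpr.one_lt)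
    exact exists_ne 1
  have hzeq : ∀ s : S, (s : Ω) ∈ Zq → s ∈ Subgroup.zpowers (z : S) := fun s hs => by
    obtain ⟨m, hm⟩ := Subgroup.mem_zpowers_iff.1
      (zpowers_eq_top_of_prime_card hZc hz1 ▸ Subgroup.mem_top (⟨s, hs⟩ : Zq.subgroupOf S))
    exact ⟨m, congrArg Subtype.val hm⟩
  have hquot : ∀ s : S, ∃ (q : S) (i : ℤ), (q : Ω) ∈ Q ∧ s = q * c ^ i := by
    intro s
    have hne : (c : S ⧸ Q') ≠ 1 := fun h1 => hxQ ((QuotientGroup.eq_one_iff c).1 h1)
    obtain ⟨i, hi⟩ := Subgroup.mem_zpowers_iff.1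
      (zpowers_eq_top_of_prime_card (show Nat.card (S ⧸ Q') = p from hQi) hne ▸ Subgroup.mem_top (s : S ⧸ Q'))
    refine ⟨s * (c ^ i)⁻¹, i, ?_, by rw [inv_mul_cancel_right]⟩
    show s * (c ^ i)⁻¹ ∈ Q'
    rw [← QuotientGroup.eq_one_iff, QuotientGroup.mk_mul, QuotientGroup.mk_inv, QuotientGroup.mk_zpow, hi,
      mul_inv_cancel]
  have hcomQ : ∀ a b : S, (a : Ω) ∈ Q → (b : Ω) ∈ Q → ⁅a, b⁆ ∈ Subgroup.zpowers (z : S) := fun a b ha hb => by
    refine hzeq _ ?_
    have h1 : ⁅(⟨a, ha⟩ : Q), ⟨b, hb⟩⁆ ∈ Subgroup.center Q :=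
      hcm.le (Subgroup.commutator_mem_commutator (Subgroup.mem_top _) (Subgroup.mem_top _))
    exact ⟨_, h1, by simp [commutatorElement_def]⟩
  have hS' : Setup p S (z : S) c := by
    refine ⟨fun h2 => absurd (h2 ▸ hp) (by decide), fun s => Subgroup.mem_center_iff.1 (hcen z.2) s, ?_, hcC,
      fun hc => ?_, fun a b => ?_, fun a => ?_, ?_⟩
    · have hzp : z ^ p = 1 := by rw [← hZc]; exact pow_card_eq_one'
      simpa using congrArg Subtype.val hzp
    · obtain ⟨i, hi⟩ := hc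
      apply hxQ
      show ((c : S) : Ω) ∈ Q
      rw [← show (z : S) ^ i = c from hi, SubgroupClass.coe_zpow]
      exact Subgroup.map_subtype_le _ (zpow_mem (show ((z : S) : Ω) ∈ Zq from z.2) i)
    · obtain ⟨q, i, hq, rfl⟩ := hquot a
      obtain ⟨q', j, hq', rfl⟩ := hquot b
      have hci : ∀ (i : ℤ) (s : S), Commute (c ^ i) s := fun i s => Commute.zpow_left (hcC s).symm i
      rw [show ⁅q * c ^ i, q' * c ^ j⁆ = ⁅q, q'⁆ by
        simp only [commutatorElement_def, mul_inv_rev]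
        rw [show q * c ^ i * (q' * c ^ j) * ((c ^ i)⁻¹ * q⁻¹) * ((c ^ j)⁻¹ * q'⁻¹) =
          q * (c ^ i * (q' * c ^ j) * (c ^ i)⁻¹) * q⁻¹ * (c ^ j)⁻¹ * q'⁻¹ by group,
          (hci i _).eq, mul_inv_cancel_right,
          show q * (q' * c ^ j) * q⁻¹ * (c ^ j)⁻¹ * q'⁻¹ =
            q * q' * (c ^ j * q⁻¹ * (c ^ j)⁻¹) * q'⁻¹ by group,
          (hci j _).eq, mul_inv_cancel_right]]
      exact hcomQ q q' hq hq'
    · obtain ⟨q, i, hq, rfl⟩ := hquot a
      rw [(Commute.zpow_right (hcC q : Commute q c) i).mul_pow]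
      refine mul_mem (hzeq _ ?_) (hzeq _ (hmem _ ?_ ?_))
      · have h1 : (⟨q, hq⟩ : Q) ^ p ∈ Subgroup.center Q := hfr ▸ PGroups.pow_mem_frattini hQp _
        exact ⟨_, h1, by simp⟩
      · exact ⟨SetLike.coe_mem _, Subgroup.mem_centralizer_iff.2 fun s hs => congrArg Subtype.val
          ((Commute.zpow_right (show Commute (⟨s, hs⟩ : S) c from hcC ⟨s, hs⟩) i).pow_right p).eq⟩
      · show (c ^ i) ^ p ∈ Q'
        rw [← hQi]
        exact Q'.pow_index_mem _
    · by_contra hcon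
      push Not at hcon
      have hbot : commutator Q = ⊥ := by
        rw [eq_bot_iff, commutator_def, Subgroup.commutator_le]
        intro a _ b _
        rw [Subgroup.mem_bot]
        have h1 := hcon (⟨a, hQS a.2⟩ : S) ⟨b, hQS b.2⟩
        apply Subtype.ext
        simpa [commutatorElement_def] using congrArg Subtype.val h1
      rw [← hcm, hbot, Subgroup.card_bot] at hcard
      exact hpr.ne_one hcard.symm
  exact hS'.core_ne_bot hS hF hO

end Cfsg.Agent.S5178
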