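import Cfsg.Prelude.Def_FusionSystem
import Cfsg.Agent.Lib.FusionEssential.PClosed
import Cfsg.Agent.Lib.PGroups.Frattini
import Cfsg.Agent.Lib.FusionSystem.Normal
import Cfsg.Agent.Lib.FusionSystem.Saturation

set_option autoImplicit false
set_option linter.style.haveILetI false

universe u

namespace Cfsg.Agent.S5179

open Cfsg Cfsg.FusionSystem Cfsg.Agent.Lib Cfsg.Agent.Lib.FS
open scoped commutatorElement

section

theorem pow_apply {G : Type*} [Group G] {k : MulAut G} {x c : G} (h : k x = x * c) (hc : k c = c) (j : ℕ) :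
    (k ^ j) x = x * c ^ j := by
  induction j with
  | zero => simp
  | succ j ih => rw [pow_succ', MulAut.mul_apply, ih, map_mul, h, map_pow, hc, pow_succ', mul_assoc]

theorem zpowers_mono_of_ne {G : Type*} [Group G] {p : ℕ} [Fact p.Prime] {z d : G}
    (hz : z ^ p = 1) (hd : d ∈ Subgroup.zpowers z) (h1 : d ≠ 1) : z ∈ Subgroup.zpowers d := by
  have hc' : Nat.card (Subgroup.zpowers z) = p := by
    rw [Nat.card_zpowers]
    exact orderOf_eq_prime hz fun h => h1 (by rw [h, Subgroup.zpowers_one_eq_bot] at hd; exact hd)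
  haveI : Finite (Subgroup.zpowers z) := Nat.finite_of_card_ne_zero (by rw [hc']; exact (Fact.out : p.Prime).ne_zero)
  have hgen := zpowers_eq_top_of_prime_card hc'
    (g := (⟨d, hd⟩ : Subgroup.zpowers z)) fun h => h1 (congrArg Subtype.val h)
  obtain ⟨m, hm⟩ := Subgroup.mem_zpowers_iff.1
    (hgen ▸ Subgroup.mem_top (⟨z, Subgroup.mem_zpowers z⟩ : Subgroup.zpowers z))
  exact ⟨m, congrArg Subtype.val hm⟩

variable {Ω : Type*} [Group Ω] {S : Subgroup Ω} [Finite S] {p : ℕ} [hp : Fact p.Prime] {F : FusionSystem S}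

/-- The automorphisms fixing `z` and trivial modulo `⟨z⟩`. -/
def stab (F : FusionSystem S) {E : Subgroup Ω} (z : E) : Subgroup (MulAut E) where
  carrier := {k | k ∈ F.autGroup E ∧ k z = z ∧ ∀ x, x⁻¹ * k x ∈ Subgroup.zpowers z}
  one_mem' := ⟨one_mem _, rfl, fun x => by simp⟩
  mul_mem' := by
    rintro a b ⟨ha, hza, hma⟩ ⟨hb, hzb, hmb⟩
    refine ⟨mul_mem ha hb, by rw [MulAut.mul_apply, hzb, hza], fun x => ?_⟩
    rw [MulAut.mul_apply, show x⁻¹ * a (b x) = (x⁻¹ * b x) * ((b x)⁻¹ * a (b x)) by group]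
    exact mul_mem (hmb x) (hma (b x))
  inv_mem' := by
    rintro a ⟨ha, hza, hma⟩
    refine ⟨inv_mem ha, a.injective (by simp [hza]), fun x => ?_⟩
    have h := inv_mem (hma (a⁻¹ x))
    rwa [MulAut.apply_inv_self, mul_inv_rev, inv_inv] at h

omit [Finite S] hp in
theorem isPGroup_stab {E : Subgroup Ω} {z : E} (hz : z ^ p = 1) : IsPGroup p (stab F z) := by
  rintro ⟨k, -, hkz, hkm⟩
  refine ⟨1, Subtype.ext (MulEquiv.ext fun x => ?_)⟩
  obtain ⟨m, hm⟩ := hkm x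
  have hm : z ^ m = x⁻¹ * k x := hm
  show (k ^ p ^ 1) x = x
  rw [pow_one, pow_apply (c := z ^ m) (by rw [hm, mul_inv_cancel_left]) (by rw [map_zpow, hkz]) p,
    ← zpow_natCast, ← zpow_mul, mul_comm m, zpow_mul, zpow_natCast, hz, one_zpow, mul_one]

omit [Finite S] hp in
theorem stab_conj {E : Subgroup Ω} {z : E} (hinv : ∀ γ ∈ F.autGroup E, γ z ∈ Subgroup.zpowers z) :
    ∀ γ ∈ F.autGroup E, ∀ k ∈ stab F z, γ * k * γ⁻¹ ∈ stab F z := by
  rintro γ hγ k ⟨hk, hkz, hkm⟩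
  obtain ⟨i, hi⟩ := hinv _ (inv_mem hγ)
  have hi : z ^ i = γ⁻¹ z := hi
  refine ⟨mul_mem (mul_mem hγ hk) (inv_mem hγ), ?_, fun x => ?_⟩
  · rw [MulAut.mul_apply, MulAut.mul_apply, ← hi, map_zpow, hkz, hi, MulAut.apply_inv_self]
  · obtain ⟨m, hm⟩ := hkm (γ⁻¹ x)
    have hm : z ^ m = (γ⁻¹ x)⁻¹ * k (γ⁻¹ x) := hm
    rw [MulAut.mul_apply, MulAut.mul_apply, show k (γ⁻¹ x) = γ⁻¹ x * z ^ m by rw [hm, mul_inv_cancel_left],
      map_mul, MulAut.apply_inv_self, inv_mul_cancel_left, map_zpow]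
    exact zpow_mem (hinv γ hγ) m

/-- An essential subgroup contained in a subgroup `Q` with derived group and powers in a line fixed by `Q`
is `Q`, unless `Q` is small. -/
theorem eq_of_le (hS : IsPGroup p S) (hF : F.IsSaturated p) {Q E : Subgroup Ω} (hQS : Q ≤ S)
    (hQn : S ≤ Subgroup.normalizer (Q : Set Ω)) (hEQ : E ≤ Q) (hess : F.IsEssential p E) (z : Ω)
    (hzQ : z ∈ Q) (hzp : z ^ p = 1) (hzc : ∀ q ∈ Q, q * z = z * q)
    (hcen : ∀ x ∈ Q, (∀ q ∈ Q, q * x = x * q) → x ∈ Subgroup.zpowers z)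
    (hcomm : ∀ a ∈ Q, ∀ b ∈ Q, ⁅a, b⁆ ∈ Subgroup.zpowers z)
    (hpow : ∀ a ∈ Q, a ^ p ∈ Subgroup.zpowers z) (hbig : p ^ 3 < Nat.card Q) : E = Q := by
  by_contra hne
  have hES := hess.2.1.1
  haveI := finite_sub hES
  haveI := finite_sub hQS
  have hC : centralizerIn S E ≤ E := hess.1.2 E (isConj_refl F hES)
  have hzE : z ∈ E := hC (mem_centralizerIn'.2 ⟨hQS hzQ, fun y hy => by
    rw [← hzc y (hEQ hy), mul_inv_cancel_right]⟩)
  set zE : E := ⟨z, hzE⟩
  have hcv : ∀ d : E, (d : Ω) ∈ Subgroup.zpowers z → d ∈ Subgroup.zpowers zE := by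
    rintro d ⟨i, hi⟩
    exact ⟨i, Subtype.ext (by simpa using hi)⟩
  have hzEp : zE ^ p = 1 := Subtype.ext (by simpa using hzp)
  have hQE : Q ≤ Subgroup.normalizer (E : Set Ω) := Subgroup.le_normalizer_iff.2 fun q hq x hx => by
    rw [show q * x * q⁻¹ = ⁅q, x⁆ * x by simp [commutatorElement_def]]
    exact mul_mem ((Subgroup.zpowers_le.2 hzE) (hcomm q hq x (hEQ hx))) hx
  set R₀ := autInducedBy Q E with hR₀
  set A := F.autGroup E
  have hR₀S : R₀ ≤ autInducedBy S E := Subgroup.closure_mono fun a ⟨g, hg, hga⟩ => ⟨g, hQS hg, hga⟩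
  have hR₀A : R₀ ≤ A := hR₀S.trans (autInducedBy_le_autGroup F hES)
  have hfix : ∀ r ∈ R₀, r zE = zE := fun r hr => by
    obtain ⟨g, hg, he⟩ := mem_autInducedBy.1 hr
    apply Subtype.ext
    rw [he, show g * (zE : Ω) = zE * g from hzc g hg, mul_inv_cancel_right]
  have hmove : ∀ r ∈ R₀, ∀ x, x⁻¹ * r x ∈ Subgroup.zpowers zE := fun r hr x => hcv _ (by
    obtain ⟨g, hg, he⟩ := mem_autInducedBy.1 hr
    rw [Subgroup.coe_mul, Subgroup.coe_inv, he,
      show (x : Ω)⁻¹ * (g * x * g⁻¹) = ⁅(x : Ω)⁻¹, g⁆ by rw [commutatorElement_def]; group]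
    exact hcomm _ (inv_mem (hEQ x.2)) _ hg)
  have hle_stab : R₀ ≤ stab F zE := fun r hr => ⟨hR₀A hr, hfix r hr, hmove r hr⟩
  have hrad := radical_of_essential hS hF hess
  have hnotinn : ¬ R₀ ≤ Inn E := fun h =>
    hne (le_antisymm hEQ (le_of_autInducedBy_le_inn hS hES hQS hQn hC h))
  obtain ⟨γ, hγ, hγz⟩ : ∃ γ ∈ A, γ zE ∉ Subgroup.zpowers zE := by
    by_contra hcon
    push Not at hcon
    exact hnotinn (hle_stab.trans
      (le_inn_of_radical hrad (fun k hk => hk.1) (stab_conj hcon) (isPGroup_stab hzEp)))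
  have hcommE : ∀ x y : E, x * y = y * x := fun x y => by
    by_contra hxy
    have hne' : ⁅x, y⁆ ≠ 1 := fun h1 => hxy (commutatorElement_eq_one_iff_mul_comm.1 h1)
    have hmem : ∀ a b : E, ⁅a, b⁆ ∈ Subgroup.zpowers zE := fun a b => hcv _ (by
      simpa [commutatorElement_def] using hcomm a (hEQ a.2) b (hEQ b.2))
    obtain ⟨m, hm⟩ := zpowers_mono_of_ne hzEp (hmem x y) hne'
    apply hγz
    have e := congrArg γ (show ⁅x, y⁆ ^ m = zE from hm)
    rw [map_zpow, map_commutatorElement] at e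
    rw [← e]
    exact zpow_mem (hmem _ _) m
  have hinn : ∀ u ∈ Inn E, u = 1 := by
    rintro _ ⟨g, rfl⟩
    ext x
    show ((g * x * g⁻¹ : E) : Ω) = x
    rw [hcommE g x, mul_inv_cancel_right]
  -- an element of `R₀` fixing a given element
  have hker : ∀ y : E, ∃ r ∈ R₀, r ≠ 1 ∧ r y = y := by
    intro y
    by_contra hcon
    push Not at hcon
    let φ : R₀ → Subgroup.zpowers zE := fun r => ⟨y⁻¹ * (r : MulAut E) y, hmove r r.2 y⟩
    have hφ : Function.Injective φ := by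
      intro r s hrs
      have h1 : (r : MulAut E) y = (s : MulAut E) y := mul_left_cancel (congrArg Subtype.val hrs)
      by_contra hrs'
      refine hcon ((r : MulAut E)⁻¹ * s) (mul_mem (inv_mem r.2) s.2) ?_ ?_
      · rwa [Ne, inv_mul_eq_one, Subtype.coe_inj]
      · rw [MulAut.mul_apply, ← h1, MulAut.inv_apply_self]
    have hzc' : Nat.card (Subgroup.zpowers zE) ≤ p := by
      rw [Nat.card_zpowers]
      exact Nat.le_of_dvd hp.out.pos (orderOf_dvd_of_pow_eq_one hzEp)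
    have hR₀c : Nat.card R₀ ≤ p := (Nat.card_le_card_of_injective φ hφ).trans hzc'
    -- the map `Q → Aut(E)`
    let f : Q →* MulAut E := E.normalizerMonoidHom.comp (Subgroup.inclusion hQE)
    have hfe : ∀ (q : Q) (x : E), ((f q x : E) : Ω) = q * x * (q : Ω)⁻¹ := fun q x => rfl
    have hfr : f.range ≤ R₀ := by
      rintro _ ⟨q, rfl⟩
      exact mem_autInducedBy.2 ⟨q, q.2, fun x => hfe q x⟩
    have hfk : f.ker ≤ E.subgroupOf Q := fun q hq => by
      refine Subgroup.mem_subgroupOf.2 (hC (mem_centralizerIn'.2 ⟨hQS q.2, fun x hx => ?_⟩))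
      have := hfe q ⟨x, hx⟩
      rw [MonoidHom.mem_ker.1 hq] at this
      exact this.symm
    have hQc : Nat.card Q ≤ Nat.card E * p := by
      rw [← Subgroup.card_mul_index f.ker, Subgroup.index_ker]
      refine Nat.mul_le_mul ?_ ((Subgroup.card_le_of_le hfr).trans hR₀c)
      exact (Subgroup.card_le_of_le hfk).trans (Nat.card_congr (Subgroup.subgroupOfEquivOfLe hEQ).toEquiv).le
    obtain ⟨r₀, hr₀, hr₀i⟩ := SetLike.not_le_iff_exists.1 hnotinn
    have hgen : ∀ r ∈ R₀, r ∈ Subgroup.zpowers r₀ := by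
      obtain ⟨k, hk⟩ := ((isPGroup_stab (F := F) hzEp).to_le hle_stab).exists_card_eq
      have hk1 : k = 1 := by
        have h2 : k ≤ 1 := (Nat.pow_le_pow_iff_right hp.out.one_lt).1 (by rw [← hk, pow_one]; exact hR₀c)
        rcases Nat.le_one_iff_eq_zero_or_eq_one.1 h2 with rfl | rfl
        · exfalso
          rw [pow_zero, Subgroup.card_eq_one] at hk
          rw [hk, Subgroup.mem_bot] at hr₀
          exact hr₀i (hr₀ ▸ one_mem _)
        · rfl
      rw [hk1, pow_one] at hk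
      intro r hr
      obtain ⟨m, hm⟩ := Subgroup.mem_zpowers_iff.1 (zpowers_eq_top_of_prime_card hk
        (g := (⟨r₀, hr₀⟩ : R₀)) (fun h => hr₀i (by rw [show r₀ = 1 from congrArg Subtype.val h]; exact one_mem _))
        ▸ Subgroup.mem_top (⟨r, hr⟩ : R₀))
      exact ⟨m, congrArg Subtype.val hm⟩
    let ψ : E →* Subgroup.zpowers zE :=
      { toFun := fun x => ⟨x⁻¹ * r₀ x, hmove r₀ hr₀ x⟩
        map_one' := Subtype.ext (by simp)
        map_mul' := fun x w => Subtype.ext (by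
          show (x * w)⁻¹ * r₀ (x * w) = x⁻¹ * r₀ x * (w⁻¹ * r₀ w)
          rw [map_mul, mul_inv_rev, hcommE w⁻¹ x⁻¹, mul_assoc, mul_assoc, ← mul_assoc w⁻¹,
            hcommE w⁻¹ (r₀ x), mul_assoc]) }
    have hψk : ψ.ker ≤ Subgroup.zpowers zE := fun x hx => by
      have h1 : r₀ x = x := (inv_mul_eq_one.1 (congrArg Subtype.val (MonoidHom.mem_ker.1 hx))).symm
      refine hcv x (hcen x (hEQ x.2) fun q hq => ?_)
      have hqm := hgen (f ⟨q, hq⟩) (hfr ⟨_, rfl⟩)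
      have hfx : ∀ u ∈ Subgroup.zpowers r₀, u x = x := fun u hu => by
        refine (Subgroup.zpowers_le.2 (show r₀ ∈ MulAction.stabilizer (MulAut E) x from h1)) hu
      have := hfe ⟨q, hq⟩ x
      rw [hfx _ hqm] at this
      exact (eq_mul_inv_iff_mul_eq.1 this).symm
    have hEc : Nat.card E ≤ p * p := by
      rw [← Subgroup.card_mul_index ψ.ker, Subgroup.index_ker]
      refine Nat.mul_le_mul ((Subgroup.card_le_of_le hψk).trans hzc') ?_
      exact ((Subgroup.card_le_card_group ψ.range).trans hzc')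
    have : Nat.card Q ≤ p ^ 3 := hQc.trans (by rw [show p ^ 3 = p * p * p by ring]; exact Nat.mul_le_mul_right p hEc)
    omega
  obtain ⟨M, ⟨a, ha, haM⟩, -, hM, -⟩ := FusionEssential.exists_data hS hF hess
  apply haM
  obtain ⟨τ, hτ, hτ1, hτf⟩ := hker (a zE)
  obtain ⟨ρ, hρ, hρ1, hρf⟩ := hker (a⁻¹ zE)
  obtain ⟨σ, hσ⟩ : ∃ σ, σ = a * ρ * a⁻¹ := ⟨_, rfl⟩
  have hσA : σ ∈ A := hσ ▸ mul_mem (mul_mem ha (hR₀A hρ)) (inv_mem ha)
  have hσz : σ zE = zE := by
    rw [hσ, MulAut.mul_apply, MulAut.mul_apply, hρf, MulAut.apply_inv_self]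
  have hcσ : Commute τ σ := MulEquiv.ext fun x => by
    obtain ⟨i, hi⟩ := hmove τ hτ x
    have hi : τ x = x * zE ^ i := by rw [show zE ^ i = x⁻¹ * τ x from hi, mul_inv_cancel_left]
    obtain ⟨j, hj⟩ := hmove ρ hρ (a⁻¹ x)
    have hj : ρ (a⁻¹ x) = a⁻¹ x * zE ^ j := by
      rw [show zE ^ j = (a⁻¹ x)⁻¹ * ρ (a⁻¹ x) from hj, mul_inv_cancel_left]
    have hσx : σ x = x * a zE ^ j := by
      rw [hσ, MulAut.mul_apply, MulAut.mul_apply, hj, map_mul, MulAut.apply_inv_self, map_zpow]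
    rw [MulAut.mul_apply, MulAut.mul_apply, hσx, hi, map_mul, map_mul, map_zpow, map_zpow, hτf, hi, hσx, hσz,
      mul_assoc, mul_assoc, hcommE (zE ^ i)]
  obtain ⟨-, P, hP⟩ := fullyAutomized_of_fullyNormalized hS hF hess.2.1
  let X : Subgroup A := Subgroup.zpowers ⟨τ, hR₀A hτ⟩ ⊔ Subgroup.zpowers ⟨σ, hσA⟩
  have hsp : ∀ u : MulAut E, u ∈ R₀ → ∀ hu : u ∈ A, IsPGroup p (Subgroup.zpowers (⟨u, hu⟩ : A)) := by
    intro u hu huA
    obtain ⟨k, hk⟩ := isPGroup_stab hzEp ⟨u, hle_stab hu⟩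
    rintro ⟨_, m, rfl⟩
    refine ⟨k, Subtype.ext ?_⟩
    show ((⟨u, huA⟩ : A) ^ m) ^ p ^ k = 1
    rw [← zpow_natCast, zpow_comm, zpow_natCast,
      show (⟨u, huA⟩ : A) ^ p ^ k = 1 from Subtype.ext (by simpa using congrArg Subtype.val hk), one_zpow]
  have hσp : IsPGroup p (Subgroup.zpowers (⟨σ, hσA⟩ : A)) := by
    have := (hsp ρ hρ (hR₀A hρ)).map (MulAut.conj (⟨a, ha⟩ : A)).toMonoidHom
    rw [MonoidHom.map_zpowers] at this
    rwa [show (⟨σ, hσA⟩ : A) = (MulAut.conj (⟨a, ha⟩ : A)).toMonoidHom ⟨ρ, hR₀A hρ⟩ from Subtype.ext hσ]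
  have hnX : Subgroup.zpowers (⟨τ, hR₀A hτ⟩ : A) ≤
      Subgroup.normalizer (Subgroup.zpowers (⟨σ, hσA⟩ : A) : Set A) := by
    rw [Subgroup.zpowers_le]
    refine Subgroup.mem_normalizer_fintype fun y hy => ?_
    obtain ⟨m, rfl⟩ := Subgroup.mem_zpowers_iff.1 hy
    rw [((show Commute (⟨τ, hR₀A hτ⟩ : A) ⟨σ, hσA⟩ from Subtype.ext hcσ).zpow_right m).eq, mul_inv_cancel_right]
    exact hy
  have hX : IsPGroup p X := (hsp τ hτ (hR₀A hτ)).to_sup_of_normal_right' hσp hnX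
  obtain ⟨b, hbA, hb⟩ := exists_conj_le_sylow P hP (T := X.map A.subtype) (Subgroup.map_subtype_le _) (hX.map _)
  have hbτ := hb τ ⟨⟨τ, hR₀A hτ⟩, Subgroup.mem_sup_left (Subgroup.mem_zpowers _), rfl⟩
  have hbσ := hb σ ⟨⟨σ, hσA⟩, Subgroup.mem_sup_right (Subgroup.mem_zpowers _), rfl⟩
  have hbM : b ∈ M := hM b hbA τ (hR₀S hτ) (fun h => hτ1 (hinn τ h)) hbτ
  have hbaM : b * a ∈ M := hM _ (mul_mem hbA ha) ρ (hR₀S hρ) (fun h => hρ1 (hinn ρ h)) (by
    rw [show b * a * ρ * (b * a)⁻¹ = b * σ * b⁻¹ by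
      rw [hσ]; group]
    exact hbσ)
  have := mul_mem (inv_mem hbM) hbaM
  rwa [inv_mul_cancel_left] at this

end

theorem result {Ω : Type u} [Group Ω] {S : Subgroup Ω} [Finite S] (p : ℕ) [Fact p.Prime] (hp : Odd p) (hS : IsPGroup p S)
    (Q : Subgroup Ω) (hQS : Q ≤ S) (hQ : Cfsg.IsExtraspecial p ↥Q) (hQi : (Q.subgroupOf S).index = p)
    (h6 : p ^ 6 ≤ Nat.card S)
    (F : Cfsg.FusionSystem S) (hF : F.IsSaturated p) (hO : F.core = ⊥)
    (E : Subgroup Ω) (hEQ : E ≤ Q) (hE : F.IsEssential p E) : E = Q := by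
  have hpr : p.Prime := Fact.out
  haveI := finite_sub hQS
  obtain ⟨⟨hQp, hfr, hcm⟩, hcard⟩ := hQ
  set Q' := Q.subgroupOf S
  haveI hQn : Q'.Normal := by
    refine Subgroup.normal_of_index_eq_minFac_card ?_
    obtain ⟨n, hn⟩ := hS.exists_card_eq
    have hn0 : n ≠ 0 := by
      rintro rfl
      have := Subgroup.index_dvd_card Q'
      rw [hn, hQi, pow_zero, Nat.dvd_one] at this
      exact hpr.ne_one this
    rw [hQi, hn, Nat.pow_minFac hn0, hpr.minFac_eq]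
  obtain ⟨z, hz1⟩ : ∃ z : Subgroup.center Q, z ≠ 1 := by
    haveI : Nontrivial (Subgroup.center Q) := Finite.one_lt_card_iff_nontrivial.1 (by rw [hcard]; exact hpr.one_lt)
    exact exists_ne 1
  have hgen : ∀ w ∈ Subgroup.center Q, (w : Ω) ∈ Subgroup.zpowers ((z : Q) : Ω) := fun w hw => by
    obtain ⟨m, hm⟩ := Subgroup.mem_zpowers_iff.1
      (zpowers_eq_top_of_prime_card hcard hz1 ▸ Subgroup.mem_top (⟨w, hw⟩ : Subgroup.center Q))
    refine ⟨m, ?_⟩
    have h := congrArg (fun u : Subgroup.center Q => ((u : Q) : Ω)) hm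
    simpa using h
  refine eq_of_le hS hF hQS ?_ hEQ hE ((z : Q) : Ω) (SetLike.coe_mem _) ?_ ?_ ?_ ?_ ?_ ?_
  · exact (Subgroup.normal_subgroupOf_iff_le_normalizer hQS).1 hQn
  · have hzp : z ^ p = 1 := by rw [← hcard]; exact pow_card_eq_one'
    simpa using congrArg (fun u : Subgroup.center Q => ((u : Q) : Ω)) hzp
  · exact fun q hq => congrArg Subtype.val (Subgroup.mem_center_iff.1 z.2 ⟨q, hq⟩)
  · exact fun x hx hc => hgen ⟨x, hx⟩ (Subgroup.mem_center_iff.2 fun q => Subtype.ext (hc q q.2))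
  · intro a ha b hb
    have h1 : ⁅(⟨a, ha⟩ : Q), ⟨b, hb⟩⁆ ∈ Subgroup.center Q :=
      hcm.le (Subgroup.commutator_mem_commutator (Subgroup.mem_top _) (Subgroup.mem_top _))
    simpa [commutatorElement_def] using hgen _ h1
  · intro a ha
    have h1 := hgen _ (hfr ▸ PGroups.pow_mem_frattini hQp (⟨a, ha⟩ : Q))
    rwa [SubgroupClass.coe_pow] at h1
  · have h1 := Subgroup.card_mul_index Q'
    rw [hQi, Nat.card_congr (Subgroup.subgroupOfEquivOfLe hQS).toEquiv] at h1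
    have h2 : p ^ 3 * p < p ^ 6 := by
      rw [← pow_succ]; exact Nat.pow_lt_pow_right hpr.one_lt (by norm_num)
    exact Nat.lt_of_mul_lt_mul_right (h2.trans_le (h6.trans_eq h1.symm))

end Cfsg.Agent.S5179
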