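import Cfsg.Statements.S5189
import Cfsg.Agent.Lib.TwoEssential.FusionEnd
import Cfsg.Agent.Lib.TwoEssential.SympModel
import Cfsg.Agent.S3074

set_option autoImplicit false
universe u
open Cfsg

namespace Cfsg.Agent.S5189

/-- Let p be an odd prime, S a finite p-group of sectional p-rank exactly 3, and F a saturated fusion system over S whose largest subgroup normal in F is trivial. Suppose S has two distinct essential subgroups E₁, E₂ each of which is invariant under every F-automorphism of S. Then S is isomorphic to a Sylow p-subgroup of Sp(4,p), and one of E₁, E₂ is extraspecial of order p³ and exponent p while the other is elementary abelian of order p³. -/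
theorem result {Ω : Type u} [Group Ω] {S : Subgroup Ω} [Finite S] (p : ℕ) [Fact p.Prime] (hp : Odd p) (hS : IsPGroup p S)
    (hsr : Cfsg.SectionalPRankLE p 3 ↥S ∧ ¬ Cfsg.SectionalPRankLE p 2 ↥S)
    (F : Cfsg.FusionSystem S) (hF : F.IsSaturated p) (hO : F.core = ⊥)
    (E₁ E₂ : Subgroup Ω) (hne : E₁ ≠ E₂) (hE₁ : F.IsEssential p E₁) (hE₂ : F.IsEssential p E₂)
    (hc₁ : (∀ φ : MulAut ↥S, φ ∈ F.autGroup S → (E₁.subgroupOf S).map φ.toMonoidHom = E₁.subgroupOf S))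
    (hc₂ : (∀ φ : MulAut ↥S, φ ∈ F.autGroup S → (E₂.subgroupOf S).map φ.toMonoidHom = E₂.subgroupOf S)) :
    (∃ P : Sylow p ↥(Matrix.symplecticGroup (Fin 2) (ZMod p)),
        Nonempty (↥S ≃* ↥(P : Subgroup ↥(Matrix.symplecticGroup (Fin 2) (ZMod p))))) ∧
      ((Cfsg.IsExtraspecial p ↥E₁ ∧ Nat.card E₁ = p ^ 3 ∧ (∀ x ∈ E₁, x ^ p = 1) ∧
          Cfsg.IsElementaryAbelian p E₂ ∧ Nat.card E₂ = p ^ 3) ∨
        (Cfsg.IsExtraspecial p ↥E₂ ∧ Nat.card E₂ = p ^ 3 ∧ (∀ x ∈ E₂, x ^ p = 1) ∧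
          Cfsg.IsElementaryAbelian p E₁ ∧ Nat.card E₁ = p ^ 3)) := by
  have hp2 : p ≠ 2 := by
    rintro rfl
    exact absurd hp (by decide)
  obtain ⟨X, hX, hSp⟩ := Lib.TwoEssential.sp_of_fusion hS hp2 hsr hF hO hne hE₁ hE₂ hc₁ hc₂
  refine ⟨hSp.nonempty_mulEquiv_sylow hS hp2, ?_⟩
  have key : ∀ {A B : Subgroup Ω}, A ≤ S → B ≤ S → X.E1 = A.subgroupOf S → X.E2 = B.subgroupOf S →
      IsExtraspecial p ↥B ∧ Nat.card B = p ^ 3 ∧ (∀ x ∈ B, x ^ p = 1) ∧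
        IsElementaryAbelian p A ∧ Nat.card A = p ^ 3 := by
    intro A B hA hB h1 h2
    haveI : Finite ↥B := Finite.of_injective _ (Subgroup.inclusion_injective hB)
    have hBc : Nat.card B = p ^ 3 := by
      rw [← hSp.card_E2, h2]
      exact (Nat.card_congr (Subgroup.subgroupOfEquivOfLe hB).toEquiv).symm
    have hBp : ∀ x ∈ B, x ^ p = 1 := fun x hx => congrArg Subtype.val
      (hSp.pow2 ⟨x, hB hx⟩ (h2 ▸ Subgroup.mem_subgroupOf.2 hx))
    refine ⟨?_, hBc, hBp, ⟨⟨⟨fun a b => Subtype.ext ?_⟩⟩, fun a ha => congrArg Subtype.val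
      (hSp.pow1 ⟨a, hA ha⟩ (h1 ▸ Subgroup.mem_subgroupOf.2 ha))⟩, ?_⟩
    · obtain ⟨x, hx, y, hy, hxy⟩ := hSp.ncomm2
      rw [h2, Subgroup.mem_subgroupOf] at hx hy
      refine (S3074.isExtraspecial_of_card hBc (fun g => Subtype.ext (hBp g g.2))
        (a := (⟨x, hx⟩ : B)) (b := ⟨y, hy⟩) ?_).1
      exact fun e => hxy (Subtype.ext (congrArg Subtype.val e :))
    · have hab := hSp.comm1 ⟨a, hA a.2⟩ (h1 ▸ Subgroup.mem_subgroupOf.2 a.2)
        ⟨b, hA b.2⟩ (h1 ▸ Subgroup.mem_subgroupOf.2 b.2)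
      exact (congrArg Subtype.val hab :)
    · rw [← hSp.card_E1, h1]
      exact (Nat.card_congr (Subgroup.subgroupOfEquivOfLe hA).toEquiv).symm
  rcases hX with ⟨h1, h2⟩ | ⟨h1, h2⟩
  · exact Or.inr (key hE₁.2.1.1 hE₂.2.1.1 h1 h2)
  · exact Or.inl (key hE₂.2.1.1 hE₁.2.1.1 h1 h2)

end Cfsg.Agent.S5189
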