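import Cfsg.Statements.S5191
-- import your own Cfsg.Agent.* helpers here

set_option autoImplicit false
open Cfsg

namespace Cfsg.Agent.S5191

/-- Fusion in a finite group G and in its quotient by O_{p'}(G) agree. Let S be a Sylow p-subgroup of G, N = O_{p'}(G) and P ≤ S. If an element of G/N conjugates the image of P into the image of S, then some element g of G conjugates P into S and induces the same map on P modulo N. (Together with the injectivity of S → G/N this says that g ↦ gN induces an isomorphism of the fusion system of G on S with that of G/N on SN/N.) -/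
theorem result {G : Type*} [Group G] [Finite G] {p : ℕ} [Fact p.Prime]
    [hN : (Cfsg.pPrimeCore p G).Normal] (S : Sylow p G) (P : Subgroup G) (hP : P ≤ (S : Subgroup G))
    (γ : G ⧸ Cfsg.pPrimeCore p G)
    (hγ : ∀ x ∈ P, γ * QuotientGroup.mk x * γ⁻¹ ∈ ((S : Subgroup G).map (QuotientGroup.mk' (Cfsg.pPrimeCore p G)))) :
    ∃ g : G, ∀ x ∈ P, g * x * g⁻¹ ∈ S ∧
      (QuotientGroup.mk (g * x * g⁻¹) : G ⧸ Cfsg.pPrimeCore p G) = γ * QuotientGroup.mk x * γ⁻¹ := by
  obtain ⟨g0, rfl⟩ := QuotientGroup.mk_surjective γ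
  let N := Cfsg.pPrimeCore p G
  let π : G →* G ⧸ N := QuotientGroup.mk' N
  set M : Subgroup G := (S : Subgroup G) ⊔ N with hM
  let P' : Subgroup G := P.map (MulAut.conj g0).toMonoidHom
  have hP'M : P' ≤ M := by
    rintro _ ⟨x, hx, rfl⟩
    obtain ⟨s, hs, e⟩ := hγ x hx
    have hd : s⁻¹ * (g0 * x * g0⁻¹) ∈ N := by
      rw [← QuotientGroup.eq]
      simpa [π] using e
    show g0 * x * g0⁻¹ ∈ M
    rw [show g0 * x * g0⁻¹ = s * (s⁻¹ * (g0 * x * g0⁻¹)) by group]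
    exact M.mul_mem (le_sup_left (b := N) hs) (le_sup_right (a := (S : Subgroup G)) hd)
  have hPp : IsPGroup p (P'.subgroupOf M) :=
    (((S.isPGroup'.to_le hP).map (MulAut.conj g0).toMonoidHom).comap_subtype)
  obtain ⟨T, hT⟩ := hPp.exists_le_sylow
  let SM : Sylow p M := S.subtype le_sup_left
  obtain ⟨m, hm⟩ := MulAction.exists_smul_eq M SM T
  obtain ⟨s, hs, n, hn, hmsn⟩ : ∃ s ∈ (S : Subgroup G), ∃ n ∈ N, n * s = (m : G) := by
    have h : ((m : G) : G) ∈ (((N ⊔ (S : Subgroup G) : Subgroup G)) : Set G) := by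
      rw [sup_comm]; exact m.2
    rw [Subgroup.normal_mul] at h
    obtain ⟨n, hn, s, hs, e⟩ := h
    exact ⟨s, hs, n, hn, e⟩
  refine ⟨n⁻¹ * g0, fun x hx => ?_⟩
  have hx' : g0 * x * g0⁻¹ ∈ P' := ⟨x, hx, rfl⟩
  have h1 : (⟨g0 * x * g0⁻¹, hP'M hx'⟩ : M) ∈ (T : Subgroup M) := hT hx'
  rw [← hm, Sylow.coe_subgroup_smul, Subgroup.mem_pointwise_smul_iff_inv_smul_mem] at h1
  have h2 : (m : G)⁻¹ * (g0 * x * g0⁻¹) * m ∈ (S : Subgroup G) := by
    have h3 := h1
    simp only [SM, Sylow.coe_subtype, Subgroup.mem_subgroupOf] at h3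
    simpa using h3
  rw [← hmsn] at h2
  refine ⟨?_, ?_⟩
  · have h3 : s * ((n * s)⁻¹ * (g0 * x * g0⁻¹) * (n * s)) * s⁻¹ ∈ (S : Subgroup G) :=
      (S : Subgroup G).mul_mem ((S : Subgroup G).mul_mem hs h2) ((S : Subgroup G).inv_mem hs)
    rw [show n⁻¹ * g0 * x * (n⁻¹ * g0)⁻¹ = s * ((n * s)⁻¹ * (g0 * x * g0⁻¹) * (n * s)) * s⁻¹ by group]
    exact h3
  · have : (n : G ⧸ N) = 1 := (QuotientGroup.eq_one_iff n).mpr hn
    simp [this, N]

end Cfsg.Agent.S5191
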