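import Cfsg.Statements.S5192
import Cfsg.Agent.Lib.FusionTransfer.ThompsonSign

set_option autoImplicit false
open Cfsg

namespace Cfsg.Agent.S5192

/-- A Thompson-type transfer for saturated fusion systems. Let F be a saturated fusion system on a finite 2-group S, T a subgroup of S of index 2, and i an involution of S such that every fully normalized F-conjugate of i lies in S but outside T. Then i does not lie in the hyperfocal subgroup of F (the Sylow group of the 2-residual subsystem). -/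
theorem result {Ω : Type*} [Group Ω] [Finite Ω] {S : Subgroup Ω}
    (hS : IsPGroup 2 ↥S) (F : Cfsg.FusionSystem S) (hF : F.IsSaturated 2)
    (T : Subgroup Ω) (hTS : T ≤ S) (hT : T.relIndex S = 2)
    (i : Ω) (hi : i ∈ S) (hi2 : orderOf i = 2)
    (h : ∀ j : Ω, F.IsConjElt i j → F.IsFullyNormalized (Subgroup.zpowers j) → j ∉ T) :
    i ∉ F.hyperfocalSubgroup 2 := by
  classical
  have hiS : Subgroup.zpowers i ≤ S := by rwa [Subgroup.zpowers_le]
  obtain ⟨Q, ⟨φ, hφ, hr⟩, hQ⟩ := Cfsg.Agent.Lib.FS.exists_isFullyNormalized F hiS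
  set j := φ ⟨i, Subgroup.mem_zpowers i⟩ with hj
  have hij : F.IsConjElt i j := ⟨φ, hφ, rfl⟩
  have hQj : Q = Subgroup.zpowers j := hr.symm.trans (Lib.FusionTransfer.range_eq_zpowers hj.symm)
  rw [hQj] at hQ
  have hjS : j ∈ S := Cfsg.Agent.Lib.FS.apply_mem hφ _
  obtain ⟨τ, hinv, hτj⟩ := Lib.FusionTransfer.exists_invariant_sign hS hF (T.subgroupOf S) hT j hjS
    ((Lib.FusionTransfer.orderOf_of_isConjElt hij).trans hi2) hQ
    (fun t ht hjt hfn => h t (Lib.FusionTransfer.isConjElt_trans hij hjt) hfn ht)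
  have hτi : τ ⟨i, hi⟩ = -1 := by
    have h1 := hinv _ φ hφ ⟨i, Subgroup.mem_zpowers i⟩
    rw [← hτj]
    exact h1.symm
  intro hmem
  have hle : F.hyperfocalSubgroup 2 ≤ τ.ker.map S.subtype := by
    refine (Subgroup.closure_le _).2 ?_
    rintro y ⟨P, α, x, hPS, -, rfl⟩
    obtain ⟨ψ, hψ, -, hval⟩ := Cfsg.Agent.Lib.FS.exists_hom_of_aut hPS α.2
    have h1 := hinv P ψ hψ x
    refine ⟨⟨x, hPS x.2⟩⁻¹ * ⟨_, Cfsg.Agent.Lib.FS.apply_mem hψ x⟩, ?_, ?_⟩
    · show τ _ = 1
      rw [map_mul, map_inv, h1, inv_mul_cancel]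
    · show ((x : Ω))⁻¹ * ψ x = _
      rw [hval]
  obtain ⟨z, hz, hzi⟩ := hle hmem
  have hzi' : z = ⟨i, hi⟩ := Subtype.ext hzi
  rw [hzi'] at hz
  exact absurd (hτi.symm.trans hz) (by decide)

end Cfsg.Agent.S5192
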