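import Cfsg.Statements.S5193
import Cfsg.Agent.Lib.Transfer.FusionFix

set_option autoImplicit false
open Cfsg

namespace Cfsg.Agent.S5193

/-- Glauberman's Theorem for fusion systems. Let F be a saturated fusion system over a finite p-group S, let J(S) be the subgroup generated by the abelian subgroups of S of largest order, and let N be the normalizer fusion system of J(S) in F (a fusion system over N_S(J(S)) = S). Then every p-th power of an element of Z(S) that lies in the centre of N lies in the centre of F; and if p is odd, or if the symmetric group of degree 4 is not involved in any model of the normalizer system of a fully normalized F-centric subgroup (F is S₄-free), then the centre of N equals the centre of F. -/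
theorem result {Ω : Type*} [Group Ω] {S : Subgroup Ω} [Finite S] (p : ℕ) [Fact p.Prime] (hS : IsPGroup p S) (F : Cfsg.FusionSystem S) (hF : F.IsSaturated p) (N : Cfsg.FusionSystem (Cfsg.FusionSystem.normalizerIn S (Cfsg.thompsonSubgroupAOf S))) (hN : F.IsNormalizerSystem (Cfsg.thompsonSubgroupAOf S) N) : Subgroup.closure ((fun z : Ω => z ^ p) '' ((S ⊓ Subgroup.centralizer (S : Set Ω) : Subgroup Ω) : Set Ω)) ⊓ N.center ≤ F.center ∧ (p ≠ 2 ∨ F.IsSectionFree p (Equiv.Perm (Fin 4)) → N.center = F.center) := by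

  have hJS : Cfsg.thompsonSubgroupAOf S ≤ S := Cfsg.Agent.Lib.Transfer.AbelianJ.thompsonSubgroupAOf_le _

  have hSX : S ≤ Subgroup.normalizer (Cfsg.thompsonSubgroupAOf S : Set Ω) := fun s hs =>
    (Cfsg.Agent.Lib.Transfer.FusionLocal.normalizerIn_le_of_char hJS (Cfsg.Agent.Lib.Transfer.CharHyp.characteristic_thompsonAOf _)
      (Cfsg.Agent.Lib.FS.le_normalizerIn le_rfl hs)).2
  have key : ∀ z ∈ N.center,
      (z ∈ Cfsg.Agent.Lib.Transfer.OffenderNorm.agemo p (S ⊓ Subgroup.centralizer (S : Set Ω)) ∨
        (p ≠ 2 ∨ F.IsSectionFree p (Equiv.Perm (Fin 4)))) →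
      ∀ (P : Subgroup Ω) (φ : P →* Ω), φ ∈ F.Hom P → ∀ x : P, (x : Ω) = z → φ x = z := by
    intro z hz hgood
    obtain ⟨⟨hzS, hzc⟩, hfix⟩ := Cfsg.Agent.Lib.Transfer.FusionFix.fixes_of_mem_center hJS hSX hN hz
    exact Cfsg.Agent.Lib.Transfer.FusionFix.fix_all_thompson hS hF hzS hzc
      (hgood.imp_right fun h {_ _} _ {_} L => Cfsg.Agent.Lib.Transfer.FusionThompson.not_involves h L) hfix
  refine ⟨?_, fun h => le_antisymm ?_
    (Cfsg.Agent.Lib.Transfer.FusionFix.center_le_normalizerSystem hJS hSX hN)⟩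
  · exact Cfsg.Agent.Lib.Transfer.FusionFix.le_center_of_fixed hS hF
      ((inf_le_left.trans (Cfsg.Agent.Lib.Transfer.OffenderNorm.agemo_le _)).trans inf_le_left)
      fun z hz => key z hz.2 (Or.inl hz.1)
  · exact Cfsg.Agent.Lib.Transfer.FusionFix.le_center_of_fixed hS hF
      (fun z hz => (Cfsg.Agent.Lib.Transfer.FusionFix.mem_center_normalizerSystem hz).1.1)
      fun z hz => key z hz (Or.inr h)

end Cfsg.Agent.S5193
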