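import Cfsg.Prelude.Def_FusionSystem
import Cfsg.Agent.Lib.FusionP3.Induction
import Cfsg.Agent.Lib.FusionSystem.Saturation
import Cfsg.Agent.Lib.Transfer.PResidual

namespace Cfsg.Agent.S5199

open Cfsg Cfsg.FusionSystem Cfsg.Agent.Lib.FS
open Cfsg.Agent.Lib.Transfer.PResidual (sup_sylow_eq_top map_pResidual_le)

section
variable {Ω : Type*} [Group Ω]

theorem autGroup_le_sup {S : Subgroup Ω} [Finite S] {p : ℕ} [Fact p.Prime]
    (F : FusionSystem S) {P : Subgroup Ω} (hP : F.IsFullyAutomized p P) :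
    F.autGroup P ≤ (pResidual p (F.autGroup P)).map (F.autGroup P).subtype ⊔ autInducedBy S P := by
  haveI : Finite P := finite_sub hP.1
  haveI : Finite (F.autGroup P) := inferInstance
  obtain ⟨-, R, hR⟩ := hP
  intro α hα
  have h := sup_sylow_eq_top (G := F.autGroup P) (p := p) R
  have hm : (⟨α, hα⟩ : F.autGroup P) ∈ pResidual p (F.autGroup P) ⊔ (R : Subgroup _) := by
    rw [h]; trivial
  have := Subgroup.mem_map_of_mem (F.autGroup P).subtype hm
  rw [Subgroup.map_sup] at this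
  have hle : (R : Subgroup (F.autGroup P)).map (F.autGroup P).subtype ≤ autInducedBy S P := by
    rw [hR]
    exact Subgroup.map_le_iff_le_comap.2 le_rfl
  exact SetLike.le_def.1 (sup_le_sup le_rfl hle) this

end

theorem result {Ω : Type*} [Group Ω] {S : Subgroup Ω} [Finite S] (p : ℕ) [Fact p.Prime] (hS : IsPGroup p S) (F : Cfsg.FusionSystem S) (hF : F.IsSaturated p) {T U : Subgroup Ω} (E : Cfsg.FusionSystem T) (hE : E.IsNormalIn F p) (F₀ : Cfsg.FusionSystem U) (hF₀ : F₀.IsNormalIn F p) (hU : T ⊔ F.hyperfocalSubgroup p ≤ U) (hidx : F₀.HasPPowerIndexIn F p) : E.IsSubsystemOf F₀ := by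
  obtain ⟨⟨hEs, -, hEsub, -⟩, -⟩ := hE
  have hTU : T ≤ U := le_sup_left.trans hU
  have hTS : T ≤ S := src_le (hEsub _ (subtype_mem E le_rfl))
  haveI : Finite T := finite_sub hTS
  have hT : IsPGroup p T := isPGroup_of_le hS hTS
  intro P φ hφ
  refine Cfsg.Agent.Lib.FusionP3.Induction.hom_induction hT hEs (M := fun P φ => φ ∈ F₀.Hom P) ?_ ?_ ?_ P φ hφ
  · intro P Q φ ψ χ _ _ h hχ hp hq
    exact hom_congr (F₀.comp_mem hp hq h) hχ
  · intro P Q φ ψ h _ hφψ hq
    exact mem_of_restrict hq h hφψ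
  · intro P hPn _ _ α hα _
    have hPT : P ≤ T := hPn.1
    have hPU : P ≤ U := hPT.trans hTU
    have hPS : P ≤ S := hPT.trans hTS
    haveI : Finite P := finite_sub hPS
    have hfa := fullyAutomized_of_fullyNormalized hT hEs hPn
    have key : E.autGroup P ≤ F₀.autGroup P := by
      refine (autGroup_le_sup E hfa).trans (sup_le ?_ ?_)
      · refine le_trans ?_ (hidx.2.2 P hPU)
        have hle : E.autGroup P ≤ F.autGroup P := Subgroup.closure_mono fun β hβ => hEsub _ hβ
        rintro _ ⟨β, hβ, rfl⟩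
        exact ⟨Subgroup.inclusion hle β, map_pResidual_le (p := p) (Subgroup.inclusion hle)
          ⟨β, hβ, rfl⟩, rfl⟩
      · rw [autInducedBy, Subgroup.closure_le]
        rintro β ⟨g, hg, hβ⟩
        exact (autInducedBy_le_autGroup F₀ hPU)
          (Subgroup.subset_closure ⟨g, hTU hg, hβ⟩)
    obtain ⟨ψ, hψ, _, he⟩ := exists_hom_of_aut hPU (key hα)
    exact hom_congr hψ fun x => (he x).symm

end Cfsg.Agent.S5199
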