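import Cfsg.Agent.Lib.FusionSystem.NormalCentralizerOdd
import Cfsg.Statements.S5200
-- import your own Cfsg.Agent.* helpers here

set_option autoImplicit false
open Cfsg

namespace Cfsg.Agent.S5200

open scoped commutatorElement in
open Cfsg.FusionSystem Cfsg.Agent.Lib.FS Cfsg.Agent.Lib.FS.NormalCentralizer in
theorem commutator_sup_le {Ω : Type*} [Group Ω] {S T : Subgroup Ω} [Finite S] {p : ℕ} [Fact p.Prime]
    (hS : IsPGroup p S) {F : FusionSystem S} {E : FusionSystem T} (hE : E.IsNormalIn F p)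
    (hC : centralizerSub F E ≤ T) : ⁅T ⊔ centralizerIn S T, T ⊔ centralizerIn S T⁆ ≤ T := by
  have hsc := hE.1.2.2.2.1
  obtain ⟨D, hD⟩ := exists_centralizerSystem F hsc.1
  have hab : ∀ a ∈ centralizerIn S T, ∀ b ∈ centralizerIn S T, a * b * a⁻¹ * b⁻¹ ∈ T := by
    intro a ha b hb
    have hf : b⁻¹ * (a * b * a⁻¹) ∈ D.focalSubgroup := Subgroup.subset_closure
      ⟨centralizerIn S T, _, ⟨b, hb⟩, D.conj_mem le_rfl ha, rfl⟩
    have h := hC (Subgroup.subset_closure (centralized_of_mem_focal hS hE hD hf))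
    have h2 := conj_mem_of_normalizer (stronglyClosed_le_normalizer hsc hb.1) h
    rwa [show b * (b⁻¹ * (a * b * a⁻¹)) * b⁻¹ = a * b * a⁻¹ * b⁻¹ by group] at h2
  have hdec : ∀ g ∈ T ⊔ centralizerIn S T, ∃ t ∈ T, ∃ a ∈ centralizerIn S T, t * a = g :=
    fun g hg => Odd.exists_mul hg
  rw [Subgroup.commutator_le]
  intro g hg h hh
  obtain ⟨t, ht, a, ha, rfl⟩ := hdec g hg
  obtain ⟨s, hs, b, hb, rfl⟩ := hdec h hh
  have e1 : a * s = s * a := ((mem_centralizerIn.1 ha).2 s hs).symm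
  have e2 : t⁻¹ * (a * b * a⁻¹) = a * b * a⁻¹ * t⁻¹ := (mem_centralizerIn.1
    ((centralizerIn S T).mul_mem ((centralizerIn S T).mul_mem ha hb)
      ((centralizerIn S T).inv_mem ha))).2 t⁻¹ (T.inv_mem ht)
  have e : ⁅t * a, s * b⁆ = t * s * t⁻¹ * (a * b * a⁻¹ * b⁻¹) * s⁻¹ := by
    calc ⁅t * a, s * b⁆ = t * (a * s) * b * a⁻¹ * t⁻¹ * b⁻¹ * s⁻¹ := by rw [commutatorElement_def]; group
      _ = t * s * (a * b * a⁻¹ * t⁻¹) * b⁻¹ * s⁻¹ := by rw [e1]; group
      _ = _ := by rw [← e2]; group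
  rw [e]
  exact T.mul_mem (T.mul_mem (T.mul_mem (T.mul_mem ht hs) (T.inv_mem ht)) (hab a ha b hb)) (T.inv_mem hs)

/-- Let F be a saturated fusion system over a finite p-group S and E a normal subsystem of F over T whose centralizer in S lies in T: every subgroup Y of C_S(T) such that E is contained in the centralizer fusion system of Y in F satisfies Y ≤ T. Then T·C_S(T)/T is abelian (the commutator subgroup of T·C_S(T) lies in T), and if p is odd then C_S(T) ≤ T. -/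
theorem result {Ω : Type*} [Group Ω] {S : Subgroup Ω} [Finite S] (p : ℕ) [Fact p.Prime] (hS : IsPGroup p S) (F : Cfsg.FusionSystem S) (hF : F.IsSaturated p) {T : Subgroup Ω} (E : Cfsg.FusionSystem T) (hE : E.IsNormalIn F p) (hCE : ∀ Y : Subgroup Ω, Y ≤ Cfsg.FusionSystem.centralizerIn S T → (∀ C : Cfsg.FusionSystem (Cfsg.FusionSystem.centralizerIn S Y), F.IsCentralizerSystem Y C → E.IsSubsystemOf C) → Y ≤ T) : ⁅T ⊔ Cfsg.FusionSystem.centralizerIn S T, T ⊔ Cfsg.FusionSystem.centralizerIn S T⁆ ≤ T ∧ (p ≠ 2 → Cfsg.FusionSystem.centralizerIn S T ≤ T) :=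
by
  open Cfsg.FusionSystem Cfsg.Agent.Lib.FS Cfsg.Agent.Lib.FS.NormalCentralizer in
  have hsc := hE.1.2.2.2.1
  open Cfsg.FusionSystem Cfsg.Agent.Lib.FS Cfsg.Agent.Lib.FS.NormalCentralizer in
  have hC : centralizerSub F E ≤ T := by
    refine hCE _ centralizerSub_le fun C hC P φ hφ => ?_
    have hcen : ∀ t ∈ T, t ∈ centralizerIn S (centralizerSub F E) := fun t ht =>
      mem_centralizerIn.2 ⟨hsc.1 ht, fun y hy =>
        ((mem_centralizerIn.1 (centralizerSub_le hy)).2 t ht).symm⟩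
    exact (hC P).ge ⟨hE.1.2.2.1 P hφ, fun t ht => hcen t (src_le hφ ht),
      fun x => hcen _ (apply_mem hφ x), fixes_centralizerSub hS hE hφ⟩
  open Cfsg.FusionSystem Cfsg.Agent.Lib.FS Cfsg.Agent.Lib.FS.NormalCentralizer in
  refine ⟨?_, fun hp2 c hc => ?_⟩
  · open Cfsg.FusionSystem Cfsg.Agent.Lib.FS Cfsg.Agent.Lib.FS.NormalCentralizer in
    exact commutator_sup_le hS hE hC
  · open Cfsg.FusionSystem Cfsg.Agent.Lib.FS Cfsg.Agent.Lib.FS.NormalCentralizer in
    obtain ⟨z, hz, hcz⟩ := Odd.exists_centralized_translate hp2 hS hE hc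
    have h := T.mul_mem (hC (Subgroup.subset_closure hcz)) (T.inv_mem hz)
    rwa [mul_inv_cancel_right] at h


end Cfsg.Agent.S5200
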