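import Cfsg.Agent.Lib.FusionSystem.PSolvableReduction.Main
import Cfsg.Statements.S5201
-- import your own Cfsg.Agent.* helpers here

set_option autoImplicit false
open Cfsg

namespace Cfsg.Agent.S5201

/-- A reduction to normal subsystems. Let F be a saturated fusion system over a finite p-group S and E a normal subsystem of F over T whose centralizer in S lies in T (every subgroup Y of C_S(T) with E contained in the centralizer fusion system of Y in F satisfies Y ≤ T), and suppose Aut_F(T)/Aut_E(T) is p-solvable. Then F and E have the same residual limit: if F∞ is the residual limit of F (reached by alternately passing to the p-residual and the p'-residual subsystem until nothing changes) and E∞ that of E, then F∞ and E∞ have the same maps. -/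
theorem result {Ω : Type*} [Group Ω] {S : Subgroup Ω} [Finite S] (p : ℕ) [Fact p.Prime] (hS : IsPGroup p S) (F : Cfsg.FusionSystem S) (hF : F.IsSaturated p) {T : Subgroup Ω} (E : Cfsg.FusionSystem T) (hE : E.IsNormalIn F p) (hCE : ∀ Y : Subgroup Ω, Y ≤ Cfsg.FusionSystem.centralizerIn S T → (∀ C : Cfsg.FusionSystem (Cfsg.FusionSystem.centralizerIn S Y), F.IsCentralizerSystem Y C → E.IsSubsystemOf C) → Y ≤ T) [hn : ((E.autGroup T).subgroupOf (F.autGroup T)).Normal] (hsolv : Cfsg.IsPSolvable p (↥(F.autGroup T) ⧸ (E.autGroup T).subgroupOf (F.autGroup T))) {U V : Subgroup Ω} (Finf : Cfsg.FusionSystem U) (hFinf : Finf.IsResidualLimitOf F p) (Einf : Cfsg.FusionSystem V) (hEinf : Einf.IsResidualLimitOf E p) : ∀ P : Subgroup Ω, Finf.Hom P = Einf.Hom P := by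
  open Cfsg.FusionSystem Cfsg.Agent.Lib.FS Cfsg.Agent.Lib.FS.NormalCentralizer in
  have hC : centralizerSub F E ≤ T := by
    have hsc := hE.1.2.2.2.1
    refine hCE _ centralizerSub_le fun C hC P φ hφ => ?_
    have hcen : ∀ t ∈ T, t ∈ centralizerIn S (centralizerSub F E) := fun t ht =>
      mem_centralizerIn.2 ⟨hsc.1 ht, fun y hy =>
        ((mem_centralizerIn.1 (centralizerSub_le hy)).2 t ht).symm⟩
    exact (hC P).ge ⟨hE.1.2.2.1 P hφ, fun t ht => hcen t (src_le hφ ht),
      fun x => hcen _ (apply_mem hφ x), fixes_centralizerSub hS hE hφ⟩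
  obtain ⟨F₀, h⟩ := Cfsg.Agent.Lib.FS.PSolvableRed.envelope hS hF hE hsolv
  have h0 := h.normal.1.2.2
  haveI := Cfsg.Agent.Lib.FS.finite_sub h0.2.1.1
  have hWp : IsPGroup p ↥(T ⊔ Cfsg.FusionSystem.centralizerIn S T) := hS.to_le h0.2.1.1
  have hidx := Cfsg.Agent.Lib.FS.PSolvableRed.hasPPowerIndexIn_envelope hS hE hC h
  obtain ⟨X, L, hL⟩ := Cfsg.Agent.Lib.FS.PSolvableRed.exists_limit hWp h.normal.1.1
  intro P
  exact (h.lim L Finf hL hFinf P).symm.trans
    (Cfsg.Agent.Lib.FusionAlperin.Residual.limit_hom_eq hL Fact.out inferInstance hWp h.normal.1.1 E hE.1.1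
      (Cfsg.Agent.Lib.FS.PSolvableRed.restrict_closed h0.1 hE.1.2.2.2.1 le_sup_left) hidx Einf hEinf P)

end Cfsg.Agent.S5201
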