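import Cfsg.Statements.S5204
import Cfsg.Agent.Lib.Transfer.FusionZJ

set_option autoImplicit false
open Cfsg

namespace Cfsg.Agent.S5204

/-- The Glauberman–Thompson normal p-complement criterion for fusion systems, p odd. Let F be a saturated fusion system over a finite p-group S with p odd, and let Z(J(S)) be the centre of the subgroup generated by the abelian subgroups of S of largest order. Then F is the inner fusion system of S if and only if the normalizer fusion system of Z(J(S)) in F is the inner fusion system of N_S(Z(J(S))) = S. -/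
theorem result {Ω : Type*} [Group Ω] {S : Subgroup Ω} [Finite S] (p : ℕ) [Fact p.Prime] (hS : IsPGroup p S) (F : Cfsg.FusionSystem S) (hF : F.IsSaturated p) (hp : p ≠ 2) : (∀ P : Subgroup Ω, F.Hom P = (Cfsg.innerFusionSystem S).Hom P) ↔ ∀ N : Cfsg.FusionSystem (Cfsg.FusionSystem.normalizerIn S (Cfsg.centerThompsonAOf S)), F.IsNormalizerSystem (Cfsg.centerThompsonAOf S) N → ∀ P : Subgroup Ω, N.Hom P = (Cfsg.innerFusionSystem (Cfsg.FusionSystem.normalizerIn S (Cfsg.centerThompsonAOf S))).Hom P := by
  constructor
  · intro hFi N hN P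
    rw [hN P]
    exact Cfsg.Agent.Lib.Transfer.FusionZJ.normalizerHom_of_inner
      (Cfsg.Agent.Lib.ZJ.centerThompsonAOf_le S)
      (Subgroup.le_normalizer.trans (Cfsg.Agent.Lib.ZJ.normalizer_le_normalizer_centerThompsonA S)) hFi P
  · intro h P
    rw [Cfsg.Agent.Lib.FS.eq_inner_of_pGroup hS hF
      (Cfsg.Agent.Lib.Transfer.FusionZJ.isPGroup_autGroup_of_zj hS hF hp h)]

end Cfsg.Agent.S5204
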