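import Cfsg.Statements.S5213
import Cfsg.Agent.Lib.FusionRankTwo.Types
-- import your own Cfsg.Agent.* helpers here

set_option autoImplicit false
open Cfsg

namespace Cfsg.Agent.S5213

/-- Let S be a finite 2-group of 2-rank 2 (it has an elementary abelian subgroup of order 4 and none of order 8) and F a saturated fusion system over S with trivial centre. Then S is dihedral, semidihedral, wreathed, homocyclic abelian (a direct product of cyclic groups of one common order), or isomorphic to a Sylow 2-subgroup of the projective special unitary group PSU₃(4) (realised over the field with 16 elements). -/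
theorem result {Ω : Type*} [Group Ω] {S : Subgroup Ω} [Finite S] (hS : IsPGroup 2 S) (F : Cfsg.FusionSystem S) (hF : F.IsSaturated 2) (hr : Cfsg.PRankAtLeast 2 2 ↥S ∧ ¬ Cfsg.PRankAtLeast 2 3 ↥S) (hZ : F.center = ⊥) {K : Type*} [Field K] [Fintype K] (hK : Fintype.card K = 16) : (∃ m : ℕ, Nonempty (↥S ≃* DihedralGroup m)) ∨ Cfsg.IsQuasiDihedral ↥S ∨ Cfsg.IsWreathed ↥S ∨ (∃ n k : ℕ, Nonempty (↥S ≃* Multiplicative (Fin k → ZMod (2 ^ n)))) ∨ ∃ T : Sylow 2 (Cfsg.PSU 3 K 4), Nonempty (↥S ≃* ↥(T : Subgroup (Cfsg.PSU 3 K 4))) := by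
  have hr2 := Cfsg.Agent.Lib.FusionRankTwo.rankTwo_of_not hS hr.2
  have hne : S ≠ ⊥ := by
    intro h
    obtain ⟨A, -, -, hA⟩ := hr.1
    have h1 := hA.trans (Subgroup.card_le_card_group A)
    rw [h, Subgroup.card_bot] at h1
    omega
  rcases Cfsg.Agent.Lib.FusionRankTwo.cases hS hF hr2 hne hZ hK with h | h | h | ⟨n, -, ⟨e⟩⟩ | ⟨T, hT⟩
  · exact Or.inl h
  · exact Or.inr (Or.inl h)
  · exact Or.inr (Or.inr (Or.inl h))
  · exact Or.inr (Or.inr (Or.inr (Or.inl ⟨n, 2, ⟨e.trans (AddEquiv.toMultiplicative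
      (LinearEquiv.piFinTwo ℤ (fun _ => ZMod (2 ^ n))).toAddEquiv.symm)⟩⟩)))
  · exact Or.inr (Or.inr (Or.inr (Or.inr ⟨T, hT⟩)))

end Cfsg.Agent.S5213
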