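import Cfsg.Statements.S5222
import Cfsg.Agent.Lib.FusionP3.Frobenius

set_option autoImplicit false
open Cfsg

namespace Cfsg.Agent.S5222

/-- Let F be a saturated fusion system over a finite p-group S whose normalizer fusion system of S is the inner fusion system of S (Aut_F(S) is a p-group). Then for every subgroup Q of S with [S, S] ≤ Q ≤ Φ(S), the normalizer fusion system of Q in F is the inner fusion system of N_S(Q) = S. -/
theorem result {Ω : Type*} [Group Ω] {S : Subgroup Ω} [Finite S] (p : ℕ) [Fact p.Prime] (hS : IsPGroup p S) (F : Cfsg.FusionSystem S) (hF : F.IsSaturated p) (hN : ∀ N : Cfsg.FusionSystem (Cfsg.FusionSystem.normalizerIn S S), F.IsNormalizerSystem S N → ∀ P : Subgroup Ω, N.Hom P = (Cfsg.innerFusionSystem (Cfsg.FusionSystem.normalizerIn S S)).Hom P) (Q : Subgroup Ω) (h1 : (commutator ↥S).map S.subtype ≤ Q) (h2 : Q ≤ (frattini ↥S).map S.subtype) : ∀ N : Cfsg.FusionSystem (Cfsg.FusionSystem.normalizerIn S Q), F.IsNormalizerSystem Q N → ∀ P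 : Subgroup Ω, N.Hom P = (Cfsg.innerFusionSystem (Cfsg.FusionSystem.normalizerIn S Q)).Hom P := by
  intro N hNQ
  have hD : Cfsg.Agent.Lib.FusionP3.Tate.derivedOf S ≤ Q := h1
  have hQS : Q ≤ S := h2.trans (Subgroup.map_subtype_le _)
  haveI : Finite Q := Cfsg.Agent.Lib.FS.finite_sub hQS
  have hSle : S ≤ FusionSystem.normalizerIn S Q := fun g hg => ⟨hg,
    Cfsg.Agent.Lib.FS.mem_normalizer_of_conj_mem fun x hx => by
      simpa using mul_mem hx
        (hD (Cfsg.Agent.Lib.FusionP3.Frobenius.commutator_mem_derivedOf (hQS hx) hg))⟩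
  have heq : FusionSystem.normalizerIn S Q = S := le_antisymm inf_le_left hSle
  have hQfn : F.IsFullyNormalized Q := ⟨hQS, fun R _ => by
    rw [heq]
    exact Subgroup.card_le_of_le inf_le_left⟩
  haveI : Finite (FusionSystem.normalizerIn S Q) := Cfsg.Agent.Lib.FS.finite_sub inf_le_left
  have hS' : IsPGroup p (FusionSystem.normalizerIn S Q) :=
    Cfsg.Agent.Lib.FS.isPGroup_of_le hS inf_le_left
  have hN' := Cfsg.Agent.Lib.FS.normalizerSystem_isSaturated hS hF hQfn hNQ
  have e1 : Cfsg.Agent.Lib.FusionP3.Tate.derivedOf (FusionSystem.normalizerIn S Q) =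
      Cfsg.Agent.Lib.FusionP3.Tate.derivedOf S := by rw [heq]
  have e2 : (frattini (FusionSystem.normalizerIn S Q)).map (FusionSystem.normalizerIn S Q).subtype =
      (frattini S).map S.subtype := by rw [heq]
  have hsc : N.StronglyClosed Q := by
    refine ⟨hQS.trans hSle, fun R hR φ hφ x => ?_⟩
    rw [hNQ R] at hφ
    obtain ⟨-, -, -, ψ, -, he, hmap⟩ := hφ
    rw [← he x]
    exact hmap.le ⟨_, Subgroup.mem_subgroupOf.mpr (hR x.2), rfl⟩
  refine Cfsg.Agent.Lib.FusionP3.Tate.eq_inner_of_focal_le_frattini hS' hN' ?_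
  rw [e2]
  refine le_trans ?_ h2
  refine Cfsg.Agent.Lib.FusionP3.Frobenius.focal_le_of_stronglyClosed hS' hN' hsc (e1.trans_le hD) fun φ hφ x => ?_
  rw [hNQ] at hφ
  obtain ⟨g, hg, e⟩ := Cfsg.Agent.Lib.FusionP3.Frobenius.exists_conj_of_normalizer_inner hN hSle hφ.1
  rw [e]
  exact hD (Cfsg.Agent.Lib.FusionP3.Frobenius.commutator_mem_derivedOf (heq.le x.2) hg)

end Cfsg.Agent.S5222
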