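import Cfsg.Statements.S5223
import Cfsg.Agent.Lib.FusionP3.Tate

set_option autoImplicit false
open Cfsg

namespace Cfsg.Agent.S5223

/-- Let F be a saturated fusion system over a finite p-group S. Suppose there are subgroups Q₀ = S, Q₁, …, Qₙ = 1 (not required to be nested) such that for each i < n the focal subgroup of Qᵢ (generated by the elements x⁻¹φ(x), x ∈ Qᵢ, φ a map of F defined on the cyclic group generated by x) lies in Qᵢ₊₁. Then F is the inner fusion system of S. -/
theorem result {Ω : Type*} [Group Ω] {S : Subgroup Ω} [Finite S] (p : ℕ) [Fact p.Prime] (hS : IsPGroup p S) (F : Cfsg.FusionSystem S) (hF : F.IsSaturated p) (n : ℕ) (Q : Fin (n + 1) → Subgroup Ω) (hQ0 : Q 0 = S) (hQn : Q (Fin.last n) = ⊥) (hstep : ∀ i : Fin n, Subgroup.closure {y : Ω | ∃ x ∈ Q i.castSucc, ∃ φ ∈ F.Hom (Subgroup.zpowers x), y = x⁻¹ * φ ⟨x, Subgroup.mem_zpowers x⟩} ≤ Q i.succ) : ∀ P : Subgroup Ω, F.Hom P = (Cfsg.innerFusionSystem S).Hom P := by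
  refine Cfsg.Agent.Lib.FusionP3.Tate.eq_inner_of_hyperfocal_eq_bot hS hF ?_
  refine le_bot_iff.1 ((Subgroup.closure_le _).mpr ?_)
  rintro _ ⟨P, α, x, hP, hα, rfl⟩
  have hP' : IsPGroup p P := Cfsg.Agent.Lib.FS.isPGroup_of_le hS hP
  -- automorphisms of order prime to `p` are trivial
  have key : ∀ a : F.autGroup P, (orderOf a).Coprime p → ∀ (i : Fin (n + 1)) (y : P), (y : Ω) ∈ Q i →
      (a : MulAut P) y = y := by
    intro a ha i
    induction i using Fin.reverseInduction with
    | last =>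
      intro y hy
      rw [hQn, Subgroup.mem_bot] at hy
      rw [show y = 1 from Subtype.ext hy, map_one]
    | cast i ih =>
      intro y hy
      obtain ⟨φ, hφ, e⟩ := Cfsg.Agent.Lib.FS.exists_restrict
        ((Cfsg.Agent.Lib.FS.mem_autGroup hP).1 a.2) (Subgroup.zpowers_le.2 y.2)
      have hd := hstep i (Subgroup.subset_closure ⟨y, hy, φ, hφ, rfl⟩)
      rw [e] at hd
      have hfix := ih (y⁻¹ * (a : MulAut P) y) hd
      have hpow : ∀ k : ℕ, ((a : MulAut P) ^ k) y = y * (y⁻¹ * (a : MulAut P) y) ^ k := by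
        intro k
        induction k with
        | zero => simp
        | succ k ihk =>
          rw [pow_succ', MulAut.mul_apply, ihk, map_mul, map_pow, hfix, pow_succ', ← mul_assoc,
            mul_inv_cancel_left]
      have h1 := hpow (orderOf a)
      rw [← Subgroup.coe_pow, pow_orderOf_eq_one, Subgroup.coe_one, MulAut.one_apply, left_eq_mul] at h1
      obtain ⟨j, hj⟩ := hP' (y⁻¹ * (a : MulAut P) y)
      have h2 := Nat.dvd_gcd (orderOf_dvd_of_pow_eq_one hj) (orderOf_dvd_of_pow_eq_one h1)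
      rw [(ha.symm).pow_left j, Nat.dvd_one, orderOf_eq_one_iff, inv_mul_eq_one] at h2
      exact h2.symm
  have hall : Cfsg.pResidual p (F.autGroup P) ≤ ⊥ :=
    Cfsg.Agent.Lib.Transfer.PResidual.pResidual_le_iff.2 fun a ha => Subgroup.mem_bot.2
      (Subtype.ext (MulEquiv.ext fun y => key a ha 0 y (hQ0.symm ▸ hP y.2)))
  rw [Subgroup.mem_bot.1 (hall hα)]
  simp

end Cfsg.Agent.S5223
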