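import Cfsg.Agent.Lib.FusionSystem.Yoshida
import Cfsg.Agent.Lib.FusionSystem.Normal
import Cfsg.Statements.S5225
-- import your own Cfsg.Agent.* helpers here

set_option autoImplicit false
open Cfsg

namespace Cfsg.Agent.S5225

/-- Yoshida's Theorem for fusion systems. Let F be a saturated fusion system over a finite p-group S and N the normalizer fusion system of S in F. If the focal subgroups of F and N differ (N does not control transfer in F), then S has a quotient isomorphic to the wreath product C_p ≀ C_p (realised as a Sylow p-subgroup of the symmetric group of degree p²). -/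
theorem result {Ω : Type*} [Group Ω] {S : Subgroup Ω} [Finite S] (p : ℕ) [Fact p.Prime] (hS : IsPGroup p S) (F : Cfsg.FusionSystem S) (hF : F.IsSaturated p) (N : Cfsg.FusionSystem (Cfsg.FusionSystem.normalizerIn S S)) (hN : F.IsNormalizerSystem S N) (hne : N.focalSubgroup ≠ F.focalSubgroup) : ∃ (W : Sylow p (Equiv.Perm (Fin (p ^ 2)))) (f : ↥S →* ↥(W : Subgroup (Equiv.Perm (Fin (p ^ 2))))), Function.Surjective f :=
by
  open Cfsg.FusionSystem Cfsg.Agent.Lib Cfsg.Agent.Lib.FS in
  by_contra hnone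
  refine hne (le_antisymm (Subgroup.closure_mono ?_) ?_)
  · rintro y ⟨P, φ, x, hφ, rfl⟩
    exact ⟨P, φ, x, ((hN P).le hφ).1, rfl⟩
  open Cfsg.FusionSystem Cfsg.Agent.Lib Cfsg.Agent.Lib.FS in
  have heq : normalizerIn S S = S := inf_eq_left.2 Subgroup.le_normalizer
  open Cfsg.FusionSystem Cfsg.Agent.Lib Cfsg.Agent.Lib.FS in
  refine Cfsg.Agent.Lib.FS.Yoshida.focal_le_of_no_wreath hS hF
    (fun f hf => hnone (Cfsg.Agent.Lib.Wreath.CpWrCp.exists_surjective_sylow f hf))
    ((congrArg FusionP3.Tate.derivedOf heq).ge.trans (FusionP3.Tate.derived_le_focal N))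
    (Subgroup.closure_mono ?_) fun φ hφ x => Subgroup.subset_closure ⟨S, φ, x, (hN S).ge ?_, rfl⟩
  · rintro y ⟨P, φ, x, hφ, rfl⟩
    exact ⟨P, φ, x, ((hN P).le hφ).1, rfl⟩
  · open Cfsg.FusionSystem Cfsg.Agent.Lib Cfsg.Agent.Lib.FS in
    obtain ⟨ψ, hψ, eψ⟩ := exists_restrict hφ (sup_le le_rfl le_rfl : S ⊔ S ≤ S)
    open Cfsg.FusionSystem Cfsg.Agent.Lib Cfsg.Agent.Lib.FS in
    exact ⟨hφ, heq.ge, fun y => heq.ge (apply_mem hφ y), ψ, hψ, fun y => eψ _,
      map_subgroupOf_eq_of_mapsTo hψ le_sup_right fun y _ => by rw [eψ]; exact apply_mem hφ _⟩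


end Cfsg.Agent.S5225
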