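import Cfsg.Statements.S5233
import Cfsg.Agent.Lib.FusionP3.GenExtra.Main
import Cfsg.Agent.Lib.FusionP3.GenExtra.Iso
import Cfsg.Agent.Lib.FusionP3.WeakClosed

set_option autoImplicit false
open Cfsg

namespace Cfsg.Agent.S5233

/-- Let F be a saturated fusion system over a finite p-group S and P a subgroup of S strongly closed in F that is generalized extraspecial (its Frattini subgroup equals its commutator subgroup and has order p) and not isomorphic to E × A with A elementary abelian and E dihedral of order 8 (p = 2) or extraspecial of order p³ and exponent p (p odd). Then P is normal in F. -/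
theorem result {Ω : Type*} [Group Ω] {S : Subgroup Ω} [Finite S] (p : ℕ) [Fact p.Prime] (hS : IsPGroup p S) (F : Cfsg.FusionSystem S) (hF : F.IsSaturated p) (P : Subgroup Ω) (hP : F.StronglyClosed P) (hge : frattini ↥P = commutator ↥P ∧ Nat.card ↥(commutator ↥P) = p) (h2 : p = 2 → ¬ ∃ (A : Type) (_ : CommGroup A), (∀ a : A, a ^ 2 = 1) ∧ Nonempty (↥P ≃* DihedralGroup 4 × A)) (hodd : p ≠ 2 → ¬ ∃ (E : Type) (_ : Group E) (A : Type) (_ : CommGroup A), Cfsg.IsExtraspecial p E ∧ Nat.card E = p ^ 3 ∧ Monoid.exponent E = p ∧ (∀ a : A, a ^ p = 1) ∧ Nonempty (↥P ≃* E × A)) : F.IsNormal P := by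
  classical
  have hpp := (Fact.out : p.Prime)
  haveI := Cfsg.Agent.Lib.FS.finite_sub hP.1
  have hPp : IsPGroup p ↥P := Cfsg.Agent.Lib.FS.isPGroup_of_le hS hP.1
  rcases Cfsg.Agent.Lib.FusionP3.GenExtra.weaklyClosed_or_data hS hF hP hge.1 hge.2 with hw | hdata
  · set Z := (commutator ↥P).map P.subtype with hZ
    have hZP : Z ≤ P := Subgroup.map_subtype_le _
    have hPP : ⁅P, P⁆ = Z := by rw [hZ, Subgroup.map_subtype_commutator]
    have hPZ : ⁅Z, P⁆ ≤ ⊥ := by
      refine Subgroup.commutator_le.2 fun u hu g hg => Subgroup.mem_bot.2 ?_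
      obtain ⟨u', hu', rfl⟩ := hu
      refine commutatorElement_eq_one_iff_mul_comm.2 ?_
      exact (congrArg Subtype.val
        (Cfsg.Agent.Lib.FusionP3.GenExtra.center_of_card hPp hge.2 u' hu' ⟨g, hg⟩) :).symm
    refine Cfsg.Agent.Lib.FusionP3.WeakClosed.isNormal_of_weakly_closed_series hS hF hP
      ![⊥, Z, P] rfl rfl ?_ ?_ ?_
    · refine Fin.monotone_iff_le_succ.2 fun i => ?_
      fin_cases i
      · exact bot_le
      · exact hZP
    · intro i
      fin_cases i
      · exact hPZ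
      · exact hPP.le
    · intro i
      fin_cases i
      · refine ⟨bot_le, fun φ _ => le_bot_iff.1 ?_⟩
        rintro _ ⟨w, rfl⟩
        rw [show w = 1 from Subtype.ext (Subgroup.mem_bot.1 w.2), map_one]
        exact one_mem _
      · exact hw
  exfalso
  obtain ⟨x, y, z, hd, hexp⟩ := hdata
  obtain ⟨A, hAc, hApow, ⟨e⟩⟩ := Cfsg.Agent.Lib.FusionP3.GenExtra.split hd
  haveI := hAc
  let iA0 : CommGroup ↥A := { (inferInstance : Group ↥A) with mul_comm := mul_comm' }
  let iA : CommGroup (Shrink.{0} ↥A) := inferInstance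
  let eA : Shrink.{0} ↥A ≃* ↥A := Shrink.mulEquiv
  have hA : ∀ a : Shrink.{0} ↥A, a ^ p = 1 := fun a => eA.injective (by
    rw [map_pow, map_one]
    exact Subtype.ext (hApow _ (eA a).2))
  let eE : Shrink.{0} ↥(Cfsg.Agent.Lib.FusionP3.GenExtra.E hd) ≃*
      ↥(Cfsg.Agent.Lib.FusionP3.GenExtra.E hd) := Shrink.mulEquiv
  by_cases hp : p = 2
  · subst hp
    obtain ⟨eD⟩ := Cfsg.Agent.Lib.FusionP3.GenExtra.dihedral hd
    exact h2 rfl ⟨Shrink.{0} ↥A, iA, hA, ⟨e.trans (MulEquiv.prodCongr eD eA.symm)⟩⟩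
  · obtain ⟨hes, hexpE⟩ := Cfsg.Agent.Lib.FusionP3.GenExtra.isExtraspecial_E hd hPp (hexp hp)
    refine hodd hp ⟨Shrink.{0} ↥(Cfsg.Agent.Lib.FusionP3.GenExtra.E hd), inferInstance, Shrink.{0} ↥A, iA,
      Cfsg.Agent.Lib.FusionP3.GenExtra.isExtraspecial_congr eE.symm hes, ?_, ?_, hA,
      ⟨e.trans (MulEquiv.prodCongr eE.symm eA.symm)⟩⟩
    · rw [Nat.card_congr eE.toEquiv]
      exact Cfsg.Agent.Lib.FusionP3.GenExtra.card_E hd
    · rw [Monoid.exponent_eq_of_mulEquiv eE]
      exact hexpE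

end Cfsg.Agent.S5233
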