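import Cfsg.Statements.S5238
import Cfsg.Agent.Lib.MaxClass.Pearl
import Cfsg.Agent.Lib.FusionSystem.Basic

set_option autoImplicit false
set_option linter.style.haveILetI false
open Cfsg

namespace Cfsg.Agent.S5238

/-- Let p be an odd prime and F a saturated fusion system over a finite p-group S having a pearl: an F-essential subgroup E that is elementary abelian of order p² or nonabelian of order p³. Then S has maximal nilpotency class (if S has order pⁿ with n ≥ 3, the term of index n − 2 of its lower central series, counting S itself as the term of index 0, is nontrivial), and every subgroup of S can be generated by at most p elements (the sectional rank of S is at most p). -/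
theorem result {Ω : Type*} [Group Ω] {S : Subgroup Ω} [Finite S] (p : ℕ) [Fact p.Prime] (hS : IsPGroup p S) (F : Cfsg.FusionSystem S) (hF : F.IsSaturated p) (hp : p ≠ 2) (E : Subgroup Ω) (hE : F.IsEssential p E) (hpearl : (Nat.card E = p ^ 2 ∧ ∀ x ∈ E, x ^ p = 1 ∧ IsMulCommutative ↥E) ∨ (Nat.card E = p ^ 3 ∧ ¬ IsMulCommutative ↥E)) : (∀ n : ℕ, Nat.card S = p ^ n → 3 ≤ n → Subgroup.lowerCentralSeries S (n - 2) ≠ ⊥) ∧ ∀ H : Subgroup Ω, H ≤ S → ∃ T : Finset Ω, T.card ≤ p ∧ Subgroup.closure (T : Set Ω) = H := by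
  classical
  have hp' := (Fact.out : p.Prime)
  have hp3 : 3 ≤ p := by have := hp'.two_le; omega
  have hEc := hE.1
  have hES : E ≤ S := hEc.1
  have hcent : Cfsg.FusionSystem.centralizerIn S E ≤ E := hEc.2 E (Cfsg.Agent.Lib.FS.isConj_refl F hES)
  set E' : Subgroup ↥S := E.subgroupOf S with hE'
  have hcard' : Nat.card E' = Nat.card E := Nat.card_congr (Subgroup.subgroupOfEquivOfLe hES).toEquiv
  have hC' : Subgroup.centralizer (E' : Set ↥S) ≤ E' := fun x hx =>
    Subgroup.mem_subgroupOf.2 (hcent ⟨x.2, Subgroup.mem_centralizer_iff.2 fun e he =>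
      congrArg Subtype.val (Subgroup.mem_centralizer_iff.1 hx ⟨e, hES he⟩ he)⟩)
  obtain ⟨A, hAcard, hA⟩ : ∃ A : Subgroup ↥S, Nat.card A = p ^ 2 ∧
      Subgroup.centralizer (A : Set ↥S) = A := by
    rcases hpearl with ⟨hc, hex⟩ | ⟨hc, hnc⟩
    · refine ⟨E', hcard'.trans hc, le_antisymm hC' fun a ha => Subgroup.mem_centralizer_iff.2 fun b hb => ?_⟩
      have hcomm := (hex 1 (one_mem E)).2
      exact Subtype.ext (congrArg Subtype.val (hcomm.is_comm.comm (⟨(b : Ω), hb⟩ : E) ⟨(a : Ω), ha⟩) :)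
    · obtain ⟨A, h1, -, h2⟩ := Cfsg.Agent.Lib.MaxClass.exists_self_centralizing_sq hS E'
        (hcard'.trans hc) (fun hcomm => hnc ⟨⟨fun a b => Subtype.ext (congrArg (fun z : E' => ((z : ↥S) : Ω))
          (hcomm.is_comm.comm (⟨⟨a, hES a.2⟩, a.2⟩ : E') ⟨⟨b, hES b.2⟩, b.2⟩) :)⟩⟩) hC'
      exact ⟨A, h1, h2⟩
  haveI : Group.IsNilpotent ↥S := hS.isNilpotent
  have hclass : ∀ n, Nat.card S = p ^ n → Group.nilpotencyClass ↥S = n - 1 := fun n hn =>
    Cfsg.Agent.Lib.PGroups.class_of_self_centralizing_sq n A hn hAcard hA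
  have hlcs : ∀ n, Nat.card S = p ^ n → 3 ≤ n → (⊤ : Subgroup ↥S).lowerCentralSeries (n - 2) ≠ ⊥ :=
    fun n hn h3 hb => by
      have := Subgroup.lowerCentralSeries_eq_bot_iff_nilpotencyClass_le.1 hb
      rw [hclass n hn] at this
      omega
  refine ⟨fun n hn h3 => ?_, fun H hH => ?_⟩
  · rw [← Subgroup.top_subtype_lowerCentralSeries, Ne, Subgroup.map_eq_bot_iff_of_injective _ S.subtype_injective]
    exact hlcs n hn h3
  · obtain ⟨n, hn⟩ := IsPGroup.iff_card.1 hS
    obtain ⟨T, hT, hT'⟩ : ∃ T : Finset ↥S, T.card ≤ p ∧ Subgroup.closure (T : Set ↥S) = H.subgroupOf S := by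
      rcases Nat.lt_or_ge n 4 with hn4 | hn4
      · have hHp := hS.to_subgroup (H.subgroupOf S)
        obtain ⟨T, hT, hT'⟩ := Cfsg.Agent.Lib.Elem70.GenBound.exists_generators hHp p (by
          refine le_trans (Nat.le_of_dvd Nat.card_pos (frattini (H.subgroupOf S)).index_dvd_card) ?_
          refine le_trans (Subgroup.card_le_card_group _) ?_
          rw [hn]
          exact Nat.pow_le_pow_right hp'.pos (by omega))
        refine ⟨T.image (H.subgroupOf S).subtype, Finset.card_image_le.trans hT, ?_⟩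
        rw [Finset.coe_image, ← MonoidHom.map_closure, hT', ← MonoidHom.range_eq_map, Subgroup.range_subtype]
      · exact (Cfsg.Agent.Lib.MaxClass.MC.mk hn hn4 (hlcs n hn (by omega))).exists_generators hp3 _
    refine ⟨T.image S.subtype, Finset.card_image_le.trans hT, ?_⟩
    rw [Finset.coe_image, ← MonoidHom.map_closure, hT', Subgroup.map_subgroupOf_eq_of_le hH]

end Cfsg.Agent.S5238
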