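import Cfsg.Statements.S5239
import Cfsg.Agent.Lib.MaxClass.TwoGen
import Cfsg.Agent.Lib.MaxClass.PearlThree

set_option autoImplicit false
set_option linter.style.haveILetI false
open Cfsg

namespace Cfsg.Agent.S5239

/-- Let F be a saturated fusion system over a finite 3-group S having a pearl: an F-essential subgroup E that is elementary abelian of order 9 or nonabelian of order 27. Then either S is extraspecial of order 27 and exponent 3, or S has order at least 81 and every subgroup of S can be generated by at most two elements, or S is isomorphic to the wreath product C₃ ≀ C₃ (a Sylow 3-subgroup of the symmetric group of degree 9). -/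
theorem result {Ω : Type*} [Group Ω] {S : Subgroup Ω} [Finite S] (hS : IsPGroup 3 S) (F : Cfsg.FusionSystem S) (hF : F.IsSaturated 3) [Fact (Nat.Prime 3)] (E : Subgroup Ω) (hE : F.IsEssential 3 E) (hpearl : (Nat.card E = 9 ∧ ∀ x ∈ E, x ^ 3 = 1 ∧ IsMulCommutative ↥E) ∨ (Nat.card E = 27 ∧ ¬ IsMulCommutative ↥E)) : (Cfsg.IsExtraspecial 3 ↥S ∧ Nat.card S = 27 ∧ Monoid.exponent ↥S = 3) ∨ (81 ≤ Nat.card S ∧ ∀ H : Subgroup Ω, H ≤ S → ∃ T : Finset Ω, T.card ≤ 2 ∧ Subgroup.closure (T : Set Ω) = H) ∨ (∃ W : Sylow 3 (Equiv.Perm (Fin 9)), Nonempty (↥S ≃* ↥(W : Subgroup (Equiv.Perm (Fin 9))))) := by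
  classical
  have hEc := hE.1
  have hES : E ≤ S := hEc.1
  have hcent : Cfsg.FusionSystem.centralizerIn S E ≤ E := hEc.2 E (Cfsg.Agent.Lib.FS.isConj_refl F hES)
  set E' : Subgroup ↥S := E.subgroupOf S with hE'
  have hcard' : Nat.card E' = Nat.card E := Nat.card_congr (Subgroup.subgroupOfEquivOfLe hES).toEquiv
  have hC' : Subgroup.centralizer (E' : Set ↥S) ≤ E' := fun x hx =>
    Subgroup.mem_subgroupOf.2 (hcent ⟨x.2, Subgroup.mem_centralizer_iff.2 fun e he =>
      congrArg Subtype.val (Subgroup.mem_centralizer_iff.1 hx ⟨e, hES he⟩ he)⟩)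
  obtain ⟨A, hAcard, hA⟩ : ∃ A : Subgroup ↥S, Nat.card A = 3 ^ 2 ∧
      Subgroup.centralizer (A : Set ↥S) = A := by
    rcases hpearl with ⟨hc, hex⟩ | ⟨hc, hnc⟩
    · refine ⟨E', hcard'.trans (hc.trans (by norm_num)), le_antisymm hC' fun a ha => Subgroup.mem_centralizer_iff.2 fun b hb => ?_⟩
      have hcomm := (hex 1 (one_mem E)).2
      exact Subtype.ext (congrArg Subtype.val (hcomm.is_comm.comm (⟨(b : Ω), hb⟩ : E) ⟨(a : Ω), ha⟩) :)
    · obtain ⟨A, h1, -, h2⟩ := Cfsg.Agent.Lib.MaxClass.exists_self_centralizing_sq hS E'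
        (hcard'.trans (hc.trans (by norm_num))) (fun hcomm => hnc ⟨⟨fun a b => Subtype.ext (congrArg (fun z : E' => ((z : ↥S) : Ω))
          (hcomm.is_comm.comm (⟨⟨a, hES a.2⟩, a.2⟩ : E') ⟨⟨b, hES b.2⟩, b.2⟩) :)⟩⟩) hC'
      exact ⟨A, h1, h2⟩
  haveI : Group.IsNilpotent ↥S := hS.isNilpotent
  have hclass : ∀ n, Nat.card S = 3 ^ n → Group.nilpotencyClass ↥S = n - 1 := fun n hn =>
    Cfsg.Agent.Lib.PGroups.class_of_self_centralizing_sq n A hn hAcard hA
  have hlcs : ∀ n, Nat.card S = 3 ^ n → 3 ≤ n → (⊤ : Subgroup ↥S).lowerCentralSeries (n - 2) ≠ ⊥ :=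
    fun n hn h3 hb => by
      have := Subgroup.lowerCentralSeries_eq_bot_iff_nilpotencyClass_le.1 hb
      rw [hclass n hn] at this
      omega
  obtain ⟨n, hn⟩ := IsPGroup.iff_card.1 hS
  have hne := Cfsg.Agent.Lib.MaxClass.essential_ne_base hS hF hE
  have hlt : Nat.card E < Nat.card S := lt_of_le_of_ne (Subgroup.card_le_of_le hES) fun hc =>
    hne (Subgroup.eq_of_le_of_card_ge hES hc.ge)
  rcases Nat.lt_or_ge n 4 with hn4 | hn4
  · left
    have h9 : Nat.card E = 9 ∧ ∀ x ∈ E, x ^ 3 = 1 ∧ IsMulCommutative ↥E := by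
      refine hpearl.resolve_right fun h27 => ?_
      rw [h27.1, hn] at hlt
      have := Nat.pow_le_pow_right (show 1 ≤ 3 by norm_num) (show n ≤ 3 by omega)
      omega
    have hn3 : n = 3 := by
      rw [h9.1, hn] at hlt
      by_contra h3
      have := Nat.pow_le_pow_right (show 1 ≤ 3 by norm_num) (show n ≤ 2 by omega)
      omega
    subst hn3
    have h27 : Nat.card S = 27 := hn.trans (by norm_num)
    have hcubes : ∀ g : S, g ^ 3 = 1 := fun g => Subtype.ext
      (Cfsg.Agent.Lib.MaxClass.pow_three_eq_one hS hF h27 hE h9.1 (fun a ha b hb =>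
        show a * b = b * a from congrArg Subtype.val ((h9.2 a ha).2.is_comm.comm (⟨a, ha⟩ : E) ⟨b, hb⟩))
        (fun a ha => (h9.2 a ha).1) g g.2)
    have hder : (commutator ↥S).index = 3 ^ 2 :=
      Cfsg.Agent.Lib.PGroups.index_commutator_of_class (p := 3) 3 (by norm_num) hn (hclass 3 hn)
    have hdcard : Nat.card (commutator ↥S) = 3 := by
      have h1 := (commutator ↥S).card_mul_index
      rw [hder, h27] at h1
      omega
    have hdle : commutator ↥S ≤ Subgroup.center ↥S :=
      Cfsg.Agent.Lib.IndexP.normal_prime_le_center hS _ hdcard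
    have hcen : commutator ↥S = Subgroup.center ↥S := by
      refine Subgroup.eq_of_le_of_card_ge hdle ?_
      rw [hdcard]
      have hle : Subgroup.center ↥S ≤ A := fun z hz => hA ▸ Subgroup.center_le_centralizer _ hz
      have h2 := hAcard ▸ Subgroup.card_dvd_of_le hle
      obtain ⟨i, hi, hci⟩ := (Nat.dvd_prime_pow Nat.prime_three).1 h2
      rcases (by omega : i = 0 ∨ i = 1 ∨ i = 2) with rfl | rfl | rfl
      · omega
      · omega
      · exfalso
        have heq : Subgroup.center ↥S = A := Subgroup.eq_of_le_of_card_ge hle (by rw [hci, hAcard])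
        have : A = ⊤ := hA ▸ (eq_top_iff.2 fun g _ => Subgroup.mem_centralizer_iff.2 fun a ha =>
          (Subgroup.mem_center_iff.1 (heq.symm ▸ ha : a ∈ Subgroup.center ↥S) g).symm)
        rw [this, Subgroup.card_top, h27] at hAcard
        omega
    refine ⟨⟨⟨hS, ?_, hcen⟩, ?_⟩, h27, ?_⟩
    · rw [Cfsg.Agent.Lib.PGroups.frattini_eq_sup hS, ← hcen, sup_eq_left, Subgroup.closure_le]
      rintro _ ⟨g, rfl⟩
      show g ^ 3 ∈ commutator ↥S
      rw [hcubes g]
      exact one_mem _
    · rw [← hcen, hdcard]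
    · rcases (Nat.dvd_prime Nat.prime_three).1 (Monoid.exponent_dvd_of_forall_pow_eq_one hcubes) with h1 | h1
      · exfalso
        haveI := Monoid.exp_eq_one_iff.1 h1
        rw [Nat.card_unique] at h27
        omega
      · exact h1
  · have hMC := Cfsg.Agent.Lib.MaxClass.MC.mk hn hn4 (hlcs n hn (by omega))
    rcases hMC.three_dichotomy with hgen | hW
    · refine Or.inr (Or.inl ⟨?_, fun H hH => ?_⟩)
      · rw [hn]
        exact le_trans (by norm_num) (Nat.pow_le_pow_right (show 1 ≤ 3 by norm_num) hn4)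
      · obtain ⟨T, hT, hT'⟩ := hgen (H.subgroupOf S)
        refine ⟨T.image S.subtype, Finset.card_image_le.trans hT, ?_⟩
        rw [Finset.coe_image, ← MonoidHom.map_closure, hT', Subgroup.map_subgroupOf_eq_of_le hH]
    · exact Or.inr (Or.inr hW)

end Cfsg.Agent.S5239
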