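import Cfsg.Statements.S5243
import Cfsg.Agent.Lib.FusionP3.Prime.CharacterMain

set_option autoImplicit false
open Cfsg

namespace Cfsg.Agent.S5243

/-- Let F be a saturated fusion system over a finite p-group S, E a normal subsystem of F over T ≤ S, and χ a surjective homomorphism from Aut_F(T) onto a nontrivial finite group Δ of order prime to p whose kernel contains Aut_E(T). Then there is a proper normal subsystem F₀ of F over S containing E such that Aut_{F₀}(S) consists of those α ∈ Aut_F(S) whose restriction to T is an element of Aut_F(T) in the kernel of χ; moreover every p'-residual subsystem O^{p'}(F) of F is contained in F₀. -/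
theorem result {Ω : Type*} [Group Ω] {S : Subgroup Ω} [Finite S] (p : ℕ) [Fact p.Prime] (hS : IsPGroup p S) (F : Cfsg.FusionSystem S) (hF : F.IsSaturated p) {T : Subgroup Ω} (hTS : T ≤ S) (E : Cfsg.FusionSystem T) (hE : E.IsNormalIn F p) {Δ : Type*} [Group Δ] [Finite Δ] [Nontrivial Δ] (hΔ : (Nat.card Δ).Coprime p) (χ : ↥(F.autGroup T) →* Δ) (hχ : Function.Surjective χ) (hker : (E.autGroup T).subgroupOf (F.autGroup T) ≤ χ.ker) : ∃ F₀ : Cfsg.FusionSystem S, F₀.IsNormalIn F p ∧ ¬ (∀ P : Subgroup Ω, F₀.Hom P = F.Hom P) ∧ E.IsSubsystemOf F₀ ∧ (∀ α : MulAut ↥S, α ∈ F₀.autGroup S ↔ α ∈ F.autGroup S ∧ ∃ β : ↥(F.autGroup T), χ β = 1 ∧ ∀ t : ↥T, (((β : MulAut ↥T) t : ↥T) : Ω) = ((α ⟨(t : Ω), hTS t.2⟩ : ↥S) : Ω)) ∧ ∀ R : Cfsg.FusionSystem S, F.IsPPrimeResidual p R → R.IsSubsystemOf F₀ := by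
  have hmem : ∀ {a : MulAut ↥T}, a ∈ χ.ker.map (F.autGroup T).subtype ↔
      ∃ ha : a ∈ F.autGroup T, χ ⟨a, ha⟩ = 1 := by
    intro a
    constructor
    · rintro ⟨⟨b, hb⟩, hk, rfl⟩
      exact ⟨hb, hk⟩
    · rintro ⟨ha, hk⟩
      exact ⟨⟨a, ha⟩, hk, rfl⟩
  have h : Cfsg.Agent.Lib.FusionP3.Prime.Kernel F p E (χ.ker.map (F.autGroup T).subtype) :=
    { pGroup := hS
      sat := hF
      sat' := hE.1.1
      sub := hE.1.2.2.1
      closed := hE.1.2.2.2.1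
      inv := fun α hα P hP φ hφ => hE.1.2.2.2.2.1 P hP φ hφ α hα
      frattini := hE.1.2.2.2.2.2
      le := Subgroup.map_subtype_le _
      aut_le := fun a ha => by
        have hle := Cfsg.Agent.Lib.FusionP3.GT.autGroup_mono hE.1.2.2.1 (le_refl T) ha
        exact hmem.2 ⟨hle, hker (show (⟨a, hle⟩ : ↥(F.autGroup T)) ∈
          (E.autGroup T).subgroupOf (F.autGroup T) from ha)⟩
      normal := fun α hα k hk => by
        obtain ⟨hk', hk1⟩ := hmem.1 hk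
        refine hmem.2 ⟨(F.autGroup T).mul_mem ((F.autGroup T).mul_mem hα hk') ((F.autGroup T).inv_mem hα), ?_⟩
        show χ (⟨α, hα⟩ * ⟨k, hk'⟩ * (⟨α, hα⟩ : ↥(F.autGroup T))⁻¹) = 1
        rw [map_mul, map_mul, hk1, mul_one, map_inv, mul_inv_cancel]
      pElt := fun α hα k hk => by
        refine hmem.2 ⟨hα, ?_⟩
        have h1 : χ ⟨α, hα⟩ ^ p ^ k = 1 := by
          rw [← map_pow, show (⟨α, hα⟩ : ↥(F.autGroup T)) ^ p ^ k = 1 from Subtype.ext hk, map_one]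
        exact orderOf_eq_one_iff.1 (Nat.eq_one_of_dvd_coprimes (Nat.Coprime.pow_right k hΔ)
          (orderOf_dvd_natCard (χ ⟨α, hα⟩)) (orderOf_dvd_of_pow_eq_one h1)) }
  refine ⟨h.sys, h.sys_normal, h.sys_proper ?_, h.sub_sys, fun α => ?_, fun R hR => ?_⟩
  · obtain ⟨d, hd⟩ := exists_ne (1 : Δ)
    obtain ⟨β, rfl⟩ := hχ d
    refine ⟨β, β.2, fun hb => hd ?_⟩
    obtain ⟨_, hb1⟩ := hmem.1 hb
    exact hb1
  · rw [h.sys_autGroup]
    constructor
    · rintro ⟨hα, β, hβ, he⟩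
      obtain ⟨hb, hb1⟩ := hmem.1 hβ
      exact ⟨hα, ⟨β, hb⟩, hb1, he⟩
    · rintro ⟨hα, β, hb1, he⟩
      exact ⟨hα, β, hmem.2 ⟨β.2, hb1⟩, he⟩
  · exact hR.2.2 h.sys h.sys_saturated h.sys_index

end Cfsg.Agent.S5243
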