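import Cfsg.Statements.S5244
import Cfsg.Agent.Lib.AbelIndexP.CoreFree

set_option autoImplicit false
open Cfsg

namespace Cfsg.Agent.S5244

/-- Let p be an odd prime, S a finite nonabelian p-group with a unique abelian subgroup A of index p, and F a saturated fusion system over S with no nontrivial normal subgroup (O_p(F) = 1) in which A is not F-essential. Then some subgroup Z(S)⟨x⟩ with x ∈ S outside A is F-essential, the centre Z(S) is contained in the commutator subgroup of S, and S has maximal nilpotency class (if S has order pⁿ with n ≥ 3, the term of index n − 2 of its lower central series, counting S itself as the term of index 0, is nontrivial). -/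
theorem result {Ω : Type*} [Group Ω] {S : Subgroup Ω} [Finite S] (p : ℕ) [Fact p.Prime] (hS : IsPGroup p S) (F : Cfsg.FusionSystem S) (hF : F.IsSaturated p) (hp : p ≠ 2) (hna : ¬ IsMulCommutative ↥S) (A : Subgroup Ω) (hA : A ≤ S ∧ IsMulCommutative ↥A ∧ (A.subgroupOf S).index = p) (huniq : ∀ B : Subgroup Ω, B ≤ S → IsMulCommutative ↥B → (B.subgroupOf S).index = p → B = A) (hcore : F.core = ⊥) (hAe : ¬ F.IsEssential p A) : (∃ x ∈ S, x ∉ A ∧ F.IsEssential p ((S ⊓ Subgroup.centralizer (S : Set Ω)) ⊔ Subgroup.zpowers x)) ∧ (S ⊓ Subgroup.centralizer (S : Set Ω)) ≤ (commutator ↥S).map S.subtype ∧ ∀ n : ℕ, Nat.card S = p ^ n → 3 ≤ n → Subgroup.lowerCentralSeries S (n - 2) ≠ ⊥ := by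
  have H : Lib.AbelIndexP.Setup S A p := ⟨hS, hA.1,
    fun a ha b hb => congrArg Subtype.val (hA.2.1.is_comm.comm (⟨a, ha⟩ : A) ⟨b, hb⟩), hA.2.2, hna⟩
  obtain ⟨hle, hcard⟩ := H.cen_small hF hp hAe hcore
  obtain ⟨P, hP, x, hx, hxA, hB⟩ := H.exists_abelian_essential hF hAe hcore
  have hxS := hP.2.1.1 hx
  refine ⟨⟨x, hxS, hxA, ?_⟩, ?_, fun n hn hn3 => ?_⟩
  · have hsup := H.eq_sup hP.2.1.1 hx hxA
    rw [hB] at hsup
    rw [← hsup]; exact hP
  · rw [Subgroup.map_subtype_commutator]; exact hle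
  haveI := H.finite_A
  have hcardA : Nat.card A = p ^ (n - 1) := by
    have h1 := H.card_S
    rw [hn, show n = n - 1 + 1 by omega, pow_succ] at h1
    exact (Nat.eq_of_mul_eq_mul_right (Fact.out : p.Prime).pos h1).symm
  -- iterated commutators of `A` with `x`
  let f := H.fHom hxS
  obtain ⟨M, hM0, hMs⟩ : ∃ M : ℕ → Subgroup Ω, M 0 = A ∧ ∀ k, M (k + 1) = ((M k).subgroupOf A).map f :=
    ⟨fun k => Nat.rec A (fun _ X => (X.subgroupOf A).map f) k, rfl, fun _ => rfl⟩
  have hM : ∀ k, M k ≤ A ∧ M k ≤ Subgroup.lowerCentralSeries S k ∧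
      p ^ (n - 1) ≤ p ^ k * Nat.card ↥(M k) := by
    intro k
    induction k with
    | zero =>
      rw [hM0]
      refine ⟨le_rfl, H.le, ?_⟩
      rw [pow_zero, one_mul, hcardA]
    | succ k ih =>
      obtain ⟨hkA, hkL, hk⟩ := ih
      haveI : Finite (M k) := Lib.FS.finite_sub (hkA.trans H.le)
      rw [hMs]
      let g : M k →* Ω := f.comp (Subgroup.inclusion hkA)
      have hgr : g.range = ((M k).subgroupOf A).map f := by
        apply le_antisymm
        · rintro _ ⟨a, rfl⟩
          exact ⟨Subgroup.inclusion hkA a, Subgroup.mem_subgroupOf.2 a.2, rfl⟩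
        · rintro _ ⟨a, ha, rfl⟩
          exact ⟨⟨(a : Ω), Subgroup.mem_subgroupOf.1 ha⟩, rfl⟩
      refine ⟨?_, ?_, ?_⟩
      · rintro _ ⟨a, -, rfl⟩
        exact H.comm_mem hxS a.2
      · rintro _ ⟨a, ha, rfl⟩
        rw [Subgroup.lowerCentralSeries_succ]
        exact Subgroup.commutator_mem_commutator (hkL (Subgroup.mem_subgroupOf.1 ha)) hxS
      · have hker : Nat.card g.ker ≤ p := by
          haveI : Finite (Lib.AbelIndexP.cen S) := Lib.FS.finite_sub inf_le_left
          rw [← hcard]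
          refine Nat.card_le_card_of_injective
            (fun a => (⟨((a : M k) : Ω), (H.comm_eq_one_iff hxS hxA (hkA (a : M k).2)).1 a.2⟩ :
              Lib.AbelIndexP.cen S)) fun a b h => ?_
          exact Subtype.ext (Subtype.ext (congrArg (fun z : Lib.AbelIndexP.cen S => (z : Ω)) h))
        have h2 : Nat.card (M k) = Nat.card g.ker * Nat.card ↥(((M k).subgroupOf A).map f) := by
          rw [← hgr, ← Subgroup.index_ker, Subgroup.card_mul_index]
        calc p ^ (n - 1) ≤ p ^ k * Nat.card (M k) := hk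
          _ ≤ p ^ k * (p * Nat.card ↥(((M k).subgroupOf A).map f)) := by
              rw [h2]; exact Nat.mul_le_mul_left _ (Nat.mul_le_mul_right _ hker)
          _ = p ^ (k + 1) * Nat.card ↥(((M k).subgroupOf A).map f) := by ring
  intro hbot
  obtain ⟨-, h1, h2⟩ := hM (n - 2)
  have h3 : M (n - 2) = ⊥ := le_bot_iff.1 (hbot ▸ h1)
  rw [h3, Subgroup.card_bot, mul_one] at h2
  have := (Nat.pow_le_pow_iff_right (Fact.out : p.Prime).one_lt).1 h2
  omega

end Cfsg.Agent.S5244
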