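import Cfsg.Statements.S5245
import Cfsg.Agent.Lib.FusionSystem.Essential
import Cfsg.Agent.Lib.FusionSystem.Realized
import Cfsg.Agent.Lib.FusionP3.Tate
import Cfsg.Agent.Lib.K41.Basic

set_option autoImplicit false
open Cfsg

namespace Cfsg.Agent.S5245

open Cfsg.FusionSystem Cfsg.Agent.Lib.FS

variable {Ω : Type*} [Group Ω] {S : Subgroup Ω}

/-- The system on `T` whose maps are the restrictions of the elements of `K ≤ Aut(T)`. -/
def autSystem (T : Subgroup Ω) (K : Subgroup (MulAut T)) (hK : Cfsg.Inn ↥T ≤ K) : Cfsg.FusionSystem T where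
  Hom P := {φ | ∃ h : P ≤ T, ∃ a ∈ K, ∀ x : P, φ x = ((a ⟨x, h x.2⟩ : T) : Ω)}
  le_of_mem := fun ⟨h, a, _, e⟩ => ⟨h, fun x => (e x).symm ▸ SetLike.coe_mem _⟩
  injective_of_mem := by
    rintro P φ ⟨h, a, -, e⟩ x y hxy
    rw [e, e] at hxy
    exact Subtype.ext (congrArg (Subtype.val : T → Ω) (a.injective (Subtype.ext hxy)))
  conj_mem := fun {P g} hP hg => ⟨hP, MulAut.conj ⟨g, hg⟩, hK ⟨_, rfl⟩, fun x => rfl⟩
  comp_mem := by
    rintro P Q φ ψ ⟨h, a, ha, e⟩ ⟨h', b, hb, e'⟩ hφQ
    refine ⟨h, b * a, mul_mem hb ha, fun x => ?_⟩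
    show ψ ⟨φ x, hφQ x⟩ = _
    rw [e', MulAut.mul_apply]
    exact congrArg _ (congrArg b (Subtype.ext (e x)))
  inv_mem := by
    rintro P φ ⟨h, a, ha, e⟩
    have hr : φ.range ≤ T := by
      rintro _ ⟨x, rfl⟩
      rw [e]
      exact SetLike.coe_mem _
    refine ⟨T.subtype.comp ((a⁻¹ : MulAut T).toMonoidHom.comp (Subgroup.inclusion hr)),
      ⟨hr, a⁻¹, inv_mem ha, fun y => rfl⟩, fun x => ?_⟩
    show (((a⁻¹ : MulAut T) ⟨φ x, hr ⟨x, rfl⟩⟩ : T) : Ω) = x
    rw [show (⟨φ x, hr ⟨x, rfl⟩⟩ : T) = a ⟨x, h x.2⟩ from Subtype.ext (e x), MulAut.inv_apply_self]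

theorem inn_normal (T : Type*) [Group T] : (Cfsg.Inn T).Normal := by
  constructor
  rintro _ ⟨t, rfl⟩ a
  refine ⟨a t, MulEquiv.ext fun x => ?_⟩
  simp only [MulAut.conj_apply, MulAut.mul_apply, map_mul, map_inv, MulAut.apply_inv_self]

/-- A `p`-group is its own generated core. -/
theorem top_le_core {X : Type*} [Group X] [Finite X] {p : ℕ} [Fact p.Prime] (R : Sylow p X)
    (hR : (R : Subgroup X) = ⊤) (hd : p ∣ Nat.card X) :
    (⊤ : Subgroup X) ≤ Cfsg.kGeneratedCore p 1 (R : Subgroup X) := by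
  obtain ⟨x, hx⟩ := exists_prime_orderOf_dvd_card' p hd
  refine le_trans ?_ (le_iSup (fun Q : {Q : Subgroup X // Q ≤ (R : Subgroup X) ∧ ¬ Cfsg.PRankLE p (1 - 1) ↥Q} =>
    Subgroup.normalizer ((Q : Subgroup X) : Set X))
    ⟨⊤, hR.ge, by simpa using Cfsg.Agent.Lib.K41.not_pRankLE_zero (Subgroup.mem_top x) hx⟩)
  exact Subgroup.le_normalizer.trans' le_rfl

variable [Finite S] {p : ℕ} [Fact p.Prime] {F : Cfsg.FusionSystem S}

/-- An automorphism of prime order `q ≠ p` gives a saturated subsystem. -/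
theorem exists_subsystem (hS : IsPGroup p S) {T : Subgroup Ω} (hT : T ≤ S) {γ : MulAut T} (hγ : γ ∈ F.autGroup T)
    {q : ℕ} (hq : q.Prime) (hqp : q ≠ p) (hord : orderOf γ = q) :
    ∃ E : Cfsg.FusionSystem T, E.IsSaturated p ∧ E.IsSubsystemOf F ∧ γ ∈ E.autGroup T ∧
      E.autGroup T ≤ Cfsg.Inn ↥T ⊔ Subgroup.zpowers γ := by
  haveI := finite_sub hT
  haveI := inn_normal T
  let K : Subgroup (MulAut T) := Cfsg.Inn ↥T ⊔ Subgroup.zpowers γ
  let E := autSystem T K le_sup_left
  let C : Subgroup (MulAut T) := Subgroup.zpowers γ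
  haveI : Finite (MulAut T) := Finite.of_injective (fun f => (f : T → T)) DFunLike.coe_injective
  let G := SemidirectProduct T C C.subtype
  haveI : Finite G := Finite.of_equiv _ SemidirectProduct.equivProd.symm
  let ι : T →* G := SemidirectProduct.inl
  have hreal : E.IsRealizedBy ι := by
    refine ⟨SemidirectProduct.inl_injective, fun P hP φ hφ => ⟨?_, ?_⟩⟩
    · rintro ⟨_, a, ha, e⟩
      obtain ⟨i, ⟨t, rfl⟩, k, hk, rfl⟩ := Subgroup.mem_sup_of_normal_left.1 ha
      refine ⟨SemidirectProduct.inl t * SemidirectProduct.inr ⟨k, hk⟩, fun x => ?_⟩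
      rw [show (⟨φ x, hφ x⟩ : T) = t * C.subtype ⟨k, hk⟩ ⟨x, hP x.2⟩ * t⁻¹ from Subtype.ext (e x)]
      show ι _ = _
      rw [map_mul, map_mul, map_inv, SemidirectProduct.inl_aut, map_inv, mul_inv_rev]
      simp only [mul_assoc]
      rfl
    · rintro ⟨g, hg⟩
      refine ⟨hP, MulAut.conj g.left * (g.right : MulAut T), mul_mem (Subgroup.mem_sup_left ⟨_, rfl⟩)
        (Subgroup.mem_sup_right g.right.2), fun x => ?_⟩
      have hg' : ι ⟨φ x, hφ x⟩ = ι (g.left * C.subtype g.right ⟨x, hP x.2⟩ * g.left⁻¹) := by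
        rw [hg x, map_mul, map_mul, map_inv]
        show _ = SemidirectProduct.inl g.left * SemidirectProduct.inl _ * _
        rw [SemidirectProduct.inl_aut, map_inv]
        conv_lhs => rw [← SemidirectProduct.inl_left_mul_inr_right g]
        rw [mul_inv_rev]
        simp only [mul_assoc]
        rfl
      have h := SemidirectProduct.inl_injective hg'
      rw [MulAut.mul_apply, MulAut.conj_apply]
      exact congrArg Subtype.val h
  obtain ⟨n, hn⟩ := IsPGroup.iff_card.1 (hS.to_le hT)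
  have hcard : Nat.card G = p ^ n * q := by
    rw [SemidirectProduct.card, hn, Nat.card_zpowers, hord]
  have hrange : Nat.card ι.range = p ^ n := by
    rw [← hn]
    exact Nat.card_congr (MonoidHom.ofInjective SemidirectProduct.inl_injective).toEquiv.symm
  have hp : p.Prime := Fact.out
  have hfac : (p ^ n * q).factorization p = n := by
    rw [Nat.factorization_mul (pow_ne_zero _ hp.ne_zero) hq.ne_zero, Finsupp.add_apply,
      hp.factorization_pow, Finsupp.single_eq_same, hq.factorization, Finsupp.single_apply, if_neg hqp, add_zero]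
  let R : Sylow p G := Sylow.ofCard ι.range (by rw [hrange, hcard, hfac])
  have hEF : E.IsSubsystemOf F := by
    rintro P φ ⟨hP, a, ha, e⟩
    have haF : a ∈ F.autGroup T :=
      (sup_le (inn_le_autGroup F hT) (Subgroup.zpowers_le.2 hγ) : K ≤ F.autGroup T) ha
    obtain ⟨b, hb, -, hbe⟩ := exists_hom_of_aut hT haF
    exact mem_of_restrict hb hP fun x => by rw [e, hbe]
  refine ⟨E, isSaturated_of_realized hreal R rfl, hEF, ?_, ?_⟩
  · exact (mem_autGroup le_rfl).2 ⟨le_rfl, γ, Subgroup.mem_sup_right (Subgroup.mem_zpowers γ), fun x => rfl⟩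
  · intro b hb
    obtain ⟨h, a, ha, e⟩ := (mem_autGroup le_rfl).1 hb
    have : b = a := MulEquiv.ext fun x => Subtype.ext (e x)
    rw [this]
    exact ha

/-- Let F be an extremely sparse fusion system over a finite p-group S (saturated, not the inner system, and every saturated fusion system over any subgroup T of S contained in F is F itself or the inner system of T). Then S is normal in F, the focal and hyperfocal subgroups of F are both S, and Aut_F(S) is generated by the inner automorphisms of S together with a single automorphism of prime order q ≠ p (F is the fusion system of the semidirect product of S by a cyclic group of prime order). -/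
theorem result {Ω : Type*} [Group Ω] {S : Subgroup Ω} [Finite S] (p : ℕ) [Fact p.Prime] (hS : IsPGroup p S) (F : Cfsg.FusionSystem S) (hF : F.IsSaturated p) (hxs : ¬ (∀ P : Subgroup Ω, F.Hom P = (Cfsg.innerFusionSystem S).Hom P) ∧ ∀ (T : Subgroup Ω) (E : Cfsg.FusionSystem T), E.IsSaturated p → E.IsSubsystemOf F → (T = S ∧ ∀ P : Subgroup Ω, E.Hom P = F.Hom P) ∨ (∀ P : Subgroup Ω, E.Hom P = (Cfsg.innerFusionSystem T).Hom P)) : F.IsNormal S ∧ F.focalSubgroup = S ∧ F.hyperfocalSubgroup p = S ∧ ∃ (q : ℕ) (β : MulAut ↥S), q.Prime ∧ q ≠ p ∧ β ∈ F.autGroup S ∧ orderOf β = q ∧ (F.autGroup S : Subgroup (MulAut ↥S)) = Cfsg.Inn ↥S ⊔ Subgroup.zpowers β := by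
  haveI : Finite (MulAut ↥S) := Finite.of_injective (fun f => (f : S → S)) DFunLike.coe_injective
  have hp : p.Prime := Fact.out
  obtain ⟨hni, hsp⟩ := hxs
  -- an automorphism of order prime to `p` lives only on `S`
  have key : ∀ (T : Subgroup Ω), T ≤ S → ∀ γ ∈ F.autGroup T, ∀ q : ℕ, q.Prime → q ≠ p → orderOf γ = q →
      T = S ∧ F.autGroup T ≤ Cfsg.Inn ↥T ⊔ Subgroup.zpowers γ := by
    intro T hT γ hγ q hq hqp hord
    haveI := finite_sub hT
    obtain ⟨E, hE, hEF, hγE, hEK⟩ := exists_subsystem hS hT hγ hq hqp hord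
    rcases hsp T E hE hEF with ⟨hTS, heq⟩ | hinn
    · refine ⟨hTS, fun a ha => hEK ?_⟩
      rw [mem_autGroup le_rfl, heq]
      exact (mem_autGroup hT).1 ha
    · exfalso
      have h := (mem_autGroup le_rfl).1 hγE
      rw [hinn] at h
      obtain ⟨-, g, hg, e⟩ := h
      have hconj : γ = MulAut.conj (⟨g, hg⟩ : T) := MulEquiv.ext fun x => Subtype.ext (e x)
      obtain ⟨j, hj⟩ := (hS.to_le hT) (⟨g, hg⟩ : T)
      have hdvd : q ∣ p ^ j := by
        rw [← hord, orderOf_dvd_iff_pow_eq_one, hconj, ← map_pow, hj, map_one]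
      exact hqp ((Nat.prime_dvd_prime_iff_eq hq hp).1 (hq.dvd_of_dvd_pow hdvd))
  have hpgrp : ∀ (T : Subgroup Ω), T ≤ S → T ≠ S → IsPGroup p (F.autGroup T) := by
    intro T hT hne
    haveI := finite_sub hT
    haveI : Finite (MulAut T) := Finite.of_injective (fun f => (f : T → T)) DFunLike.coe_injective
    by_contra hnp
    obtain ⟨q, hq, hqd, hqp⟩ : ∃ q : ℕ, q.Prime ∧ q ∣ Nat.card (F.autGroup T) ∧ q ≠ p := by
      by_contra hc
      apply hnp
      refine IsPGroup.of_card (n := (Nat.card (F.autGroup T)).primeFactorsList.length) ?_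
      exact Nat.eq_prime_pow_of_unique_prime_dvd Nat.card_pos.ne' fun {d} hd hd' => by
        by_contra h; exact hc ⟨d, hd, hd', h⟩
    haveI := Fact.mk hq
    obtain ⟨γ, hγ⟩ := exists_prime_orderOf_dvd_card' q hqd
    exact hne (key T hT γ γ.2 q hq hqp (by rw [Subgroup.orderOf_coe, hγ])).1
  -- `S` is normal
  have hnorm : F.IsNormal S := by
    rw [isNormal_iff_essential hS hF]
    intro P hP
    have hPS : P = S := by
      rcases hP with hP | hP
      · exact hP
      by_contra hne
      obtain ⟨hc, hfn, hnn, Y, hY⟩ := hP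
      haveI := hnn
      obtain ⟨hpd, hYne, R, hR⟩ := hY
      have hout := (hpgrp P hfn.1 hne).to_quotient ((Cfsg.Inn ↥P).subgroupOf (F.autGroup P))
      haveI := finite_sub hfn.1
      haveI : Finite (MulAut P) := Finite.of_injective (fun f => (f : P → P)) DFunLike.coe_injective
      have htop : R.toSubgroup = ⊤ := (R.is_maximal' (Q := ⊤) (hout.to_subgroup ⊤) le_top).symm
      exact hYne (top_le_iff.1 (le_trans (top_le_core R htop hpd) hR))
    subst hPS
    refine ⟨le_rfl, fun α hα => ?_⟩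
    simp
  -- the automorphism of prime order
  obtain ⟨q, hq, hqp, β, hβ, hord⟩ : ∃ q : ℕ, q.Prime ∧ q ≠ p ∧ ∃ β ∈ F.autGroup S, orderOf β = q := by
    by_contra hc
    refine hni fun P => ?_
    rw [eq_inner_of_pGroup hS hF fun T hT => ?_]
    rcases eq_or_ne T S with rfl | hne
    · refine IsPGroup.of_card (n := (Nat.card (F.autGroup T)).primeFactorsList.length) ?_
      refine Nat.eq_prime_pow_of_unique_prime_dvd Nat.card_pos.ne' fun {d} hd hd' => ?_
      by_contra h
      haveI := Fact.mk hd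
      obtain ⟨γ, hγ⟩ := exists_prime_orderOf_dvd_card' d hd'
      exact hc ⟨d, hd, h, γ, γ.2, by rw [Subgroup.orderOf_coe, hγ]⟩
    · exact hpgrp T hT hne
  have hhyp : F.hyperfocalSubgroup p = S := by
    set H := F.hyperfocalSubgroup p with hH
    have hHS : H ≤ S := Cfsg.Agent.Lib.FusionP3.Tate.hyperfocal_le F p
    refine le_antisymm hHS fun x hx => ?_
    by_contra hxH
    have hres : (⟨β, hβ⟩ : F.autGroup S) ∈ Cfsg.pResidual p (F.autGroup S) := by
      refine Subgroup.subset_closure ?_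
      show Nat.Coprime (orderOf (⟨β, hβ⟩ : F.autGroup S)) p
      rw [← Subgroup.orderOf_coe, hord]
      exact (Nat.coprime_primes hq hp).2 hqp
    have hgen : ∀ y : S, (y : Ω)⁻¹ * (β y : S) ∈ H := fun y =>
      Subgroup.subset_closure ⟨S, ⟨β, hβ⟩, y, le_rfl, hres, rfl⟩
    -- `β` acts trivially on `H`
    have hfix : ∀ y : S, (y : Ω) ∈ H → β y = y := by
      have hβH : ∀ y : S, (y : Ω) ∈ H → ((β y : S) : Ω) ∈ H := fun y hy => by
        have := mul_mem hy (hgen y)
        rwa [mul_inv_cancel_left] at this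
      haveI := finite_sub hHS
      obtain ⟨φ, hφ, -, hφβ⟩ := exists_hom_of_aut (P := S) le_rfl hβ
      obtain ⟨b, hb, eb⟩ := exists_restrict hφ hHS
      have hbr : b.range = H := range_eq_of_mem hb
        (fun y => by rw [eb, hφβ]; exact hβH _ y.2) le_rfl
      let δ : MulAut H := homEquiv hb hbr
      have hδc : ∀ (i : ℕ) (y : H), (((δ ^ i) y : H) : Ω) = ((β ^ i) ⟨y, hHS y.2⟩ : S) := by
        intro i
        induction i with
        | zero => intro y; rfl
        | succ i ih =>
          intro y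
          rw [pow_succ', pow_succ', MulAut.mul_apply, MulAut.mul_apply]
          show b ((δ ^ i) y) = _
          rw [eb, hφβ]
          exact congrArg _ (congrArg β (Subtype.ext (ih y)))
      intro y hy
      rcases eq_or_ne δ 1 with hδ | hδ
      · have h1 := hδc 1 ⟨y, hy⟩
        rw [pow_one, pow_one, hδ] at h1
        exact (Subtype.ext h1).symm
      · exfalso
        have hδq : δ ^ q = 1 := MulEquiv.ext fun y => Subtype.ext (by
          rw [hδc, ← hord, pow_orderOf_eq_one]; rfl)
        haveI := Fact.mk hq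
        have hne : H ≠ S := fun h => hxH (h.ge hx)
        exact hne (key H hHS δ (homEquiv_mem_autGroup hb hbr) q hq hqp (orderOf_eq_prime hδq hδ)).1
    -- so `β` is the identity
    have hall : β = 1 := by
      refine MulEquiv.ext fun y => ?_
      set k : S := y⁻¹ * β y with hk
      have hkH : (k : Ω) ∈ H := hgen y
      have hβy : β y = y * k := by rw [hk]; group
      have hpowk : ∀ i : ℕ, (β ^ i) y = y * k ^ i := by
        intro i
        induction i with
        | zero => simp
        | succ i ih => rw [pow_succ', MulAut.mul_apply, ih, map_mul, map_pow, hfix k hkH, hβy, mul_assoc, ← pow_succ']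
      have h2 := hpowk q
      rw [← hord, pow_orderOf_eq_one] at h2
      have h4 : k ^ q = 1 := by simpa [hord] using h2.symm
      rw [hβy, Cfsg.Agent.Lib.FusionP3.Tate.eq_one_of_pow_eq_one hS
        (fun hd => hqp ((Nat.prime_dvd_prime_iff_eq hp hq).1 hd).symm) h4, mul_one]
      rfl
    rw [hall, orderOf_one] at hord
    exact hq.one_lt.ne hord
  refine ⟨hnorm, ?_, hhyp, q, β, hq, hqp, hβ, hord, ?_⟩
  · exact le_antisymm (Cfsg.Agent.Lib.FusionP3.Tate.focal_le F)
      (hhyp.ge.trans (Cfsg.Agent.Lib.FusionP3.Tate.hyperfocal_le_focal F p))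
  · exact le_antisymm (key S le_rfl β hβ q hq hqp hord).2
      (sup_le (inn_le_autGroup F le_rfl) (Subgroup.zpowers_le.2 hβ))

end Cfsg.Agent.S5245
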