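import Cfsg.Statements.S5279
import Cfsg.Agent.Lib.ZJ.StableControl
import Cfsg.Agent.Lib.FusionSystem.NormalFacts

set_option autoImplicit false
open Cfsg

namespace Cfsg.Agent.S5279

open Cfsg.Agent.Lib in
theorem stable_of_fusion {Ω : Type*} [Group Ω] [Finite Ω] {p : ℕ} [Fact p.Prime] (P : Sylow p Ω)
    (hst : ∀ Q : Subgroup Ω, (Cfsg.groupFusionSystem (P : Subgroup Ω)).IsFullyNormalized Q →
      ∀ χ : MulAut ↥Q, χ ∈ (Cfsg.groupFusionSystem (P : Subgroup Ω)).autGroup Q →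
      (∀ a : ↥Q, (χ a⁻¹) * a * (χ a⁻¹) * (χ (χ a)) = 1) →
      χ ∈ ((Cfsg.pCore p ↥((Cfsg.groupFusionSystem (P : Subgroup Ω)).autGroup Q)).map
        ((Cfsg.groupFusionSystem (P : Subgroup Ω)).autGroup Q).subtype : Subgroup (MulAut ↥Q))) :
    ZJ.Stable p Ω := by
  intro R hR g hg hq
  obtain ⟨U, hU⟩ := hR.exists_le_sylow
  obtain ⟨b, hb⟩ := MulAction.exists_smul_eq Ω U P
  set R₁ := R.map (MulAut.conj b).toMonoidHom with hR₁
  have hR₁P : R₁ ≤ (P : Subgroup Ω) := by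
    rintro _ ⟨x, hx, rfl⟩
    rw [← hb, Sylow.coe_subgroup_smul]
    exact Subgroup.smul_mem_pointwise_smul _ (MulAut.conj b) _ (hU hx)
  obtain ⟨c, hcP, hcN⟩ := FS.exists_conj_sylow_normalizer P hR₁P
  set Q := R₁.map (MulAut.conj c).toMonoidHom with hQ
  have hfn := FS.isFullyNormalized_of_sylow P hcP hcN
  have hmemQ : ∀ x, x ∈ Q ↔ (c * b)⁻¹ * x * (c * b) ∈ R := by
    intro x
    constructor
    · rintro ⟨_, ⟨r, hr, rfl⟩, rfl⟩
      simpa [mul_assoc] using hr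
    · intro hx
      exact ⟨_, ⟨_, hx, rfl⟩, by simp [mul_assoc]⟩
  let τ : ↥(Subgroup.normalizer (R : Set Ω)) →* ↥(Subgroup.normalizer (Q : Set Ω)) :=
    ((MulAut.conj (c * b)).toMonoidHom.comp (Subgroup.normalizer (R : Set Ω)).subtype).codRestrict _
      fun x => by
        have h := Subgroup.le_normalizer_map (MulAut.conj c).toMonoidHom (H := R₁)
          ⟨_, Subgroup.le_normalizer_map (MulAut.conj b).toMonoidHom (H := R) ⟨x, x.2, rfl⟩, rfl⟩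
        simpa [mul_assoc, hQ] using h
  let ψ := Q.normalizerMonoidHom.comp τ
  have hψv : ∀ (x : ↥(Subgroup.normalizer (R : Set Ω))) (a : ↥Q),
      ((ψ x a : ↥Q) : Ω) = (c * b) * x * (c * b)⁻¹ * a * ((c * b) * x * (c * b)⁻¹)⁻¹ := fun _ _ => rfl
  have hmem : ∀ x, ψ x ∈ (Cfsg.groupFusionSystem (P : Subgroup Ω)).autGroup Q := fun x => by
    rw [FS.group_autGroup hcP]
    exact FS.mem_autInducedBy.2 ⟨_, trivial, hψv x⟩
  let ψ' := ψ.codRestrict _ hmem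
  have hψs : Function.Surjective ψ' := by
    rintro ⟨α, hα⟩
    rw [FS.group_autGroup hcP] at hα
    obtain ⟨y, -, hy⟩ := FS.mem_autInducedBy.1 hα
    have hx : (c * b)⁻¹ * y * (c * b) ∈ Subgroup.normalizer (R : Set Ω) := by
      rw [Subgroup.mem_normalizer_iff]
      intro r
      constructor
      · intro hr
        have h1 : (c * b) * r * (c * b)⁻¹ ∈ Q := by rw [hmemQ]; simpa [mul_assoc] using hr
        have h2 := (hmemQ _).1 ((hy ⟨_, h1⟩) ▸ (α ⟨_, h1⟩).2)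
        simpa [mul_assoc] using h2
      · intro hr
        set e := (c * b)⁻¹ * y * (c * b) with he
        have h1 : (c * b) * (e * r * e⁻¹) * (c * b)⁻¹ ∈ Q := by
          rw [hmemQ]; simpa [mul_assoc] using hr
        obtain ⟨a, ha⟩ := α.surjective ⟨_, h1⟩
        have h2 := hy a
        rw [ha] at h2
        have h3 : (c * b)⁻¹ * (a : Ω) * (c * b) = r := by
          have h4 : (a : Ω) = y⁻¹ * ((c * b) * (e * r * e⁻¹) * (c * b)⁻¹) * y := by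
            rw [show (c * b) * (e * r * e⁻¹) * (c * b)⁻¹ = y * a * y⁻¹ from h2]; group
          rw [h4, he]; group
        rw [← h3]
        exact (hmemQ _).1 a.2
    refine ⟨⟨_, hx⟩, Subtype.ext (MulEquiv.ext fun a => Subtype.ext ?_)⟩
    show ((ψ ⟨_, hx⟩ a : ↥Q) : Ω) = _
    rw [hψv, hy]
    group
  have hquad : ∀ a : ↥Q, (ψ ⟨g, hg⟩ a⁻¹) * a * (ψ ⟨g, hg⟩ a⁻¹) * (ψ ⟨g, hg⟩ (ψ ⟨g, hg⟩ a)) = 1 := by
    intro a
    apply Subtype.ext
    simp only [Subgroup.coe_mul, hψv, InvMemClass.coe_inv, OneMemClass.coe_one]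
    set e := c * b
    set v := e⁻¹ * (a : Ω) * e with hv
    have hk := commutatorElement_eq_one_iff_mul_comm.1 (hq v ((hmemQ _).1 a.2))
    rw [show (a : Ω) = e * v * e⁻¹ by rw [hv]; group]
    rw [commutatorElement_def] at hk
    have hk' : g * v * g * v⁻¹ * g⁻¹ * g⁻¹ = v * g * v⁻¹ * g⁻¹ := by
      calc g * v * g * v⁻¹ * g⁻¹ * g⁻¹ = (g * (v * g * v⁻¹ * g⁻¹)) * g⁻¹ := by group
        _ = (v * g * v⁻¹ * g⁻¹ * g) * g⁻¹ := by rw [← hk]
        _ = _ := by group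
    calc _ = e * (g * v⁻¹ * g⁻¹ * (v * g * v⁻¹ * g⁻¹) * (g * g * v * g⁻¹ * g⁻¹)) * e⁻¹ := by group
      _ = e * (g * v⁻¹ * g⁻¹ * (g * v * g * v⁻¹ * g⁻¹ * g⁻¹) * (g * g * v * g⁻¹ * g⁻¹)) * e⁻¹ := by
          rw [hk']
      _ = 1 := by group
  obtain ⟨⟨α, hα⟩, hαc, hαe⟩ := hst Q hfn (ψ ⟨g, hg⟩) (hmem _) hquad
  have hαe' : α = ψ ⟨g, hg⟩ := hαe
  subst hαe'
  set O := Cfsg.pCore p ↥((Cfsg.groupFusionSystem (P : Subgroup Ω)).autGroup Q) with hO
  refine ⟨O.comap ψ', inferInstance, hαc, fun d hd => ?_⟩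
  obtain ⟨k, hk⟩ := Cores.pCore_isPGroup p ⟨ψ' d, hd⟩
  refine ⟨k, ?_⟩
  have hk' : ψ' (d ^ p ^ k) = 1 := by rw [map_pow]; exact congrArg Subtype.val hk
  rw [Subgroup.mem_subgroupOf, Subgroup.mem_centralizer_iff]
  intro r hr
  set z := ((d ^ p ^ k : ↥(Subgroup.normalizer (R : Set Ω))) : Ω)
  have h1 : (c * b) * r * (c * b)⁻¹ ∈ Q := by rw [hmemQ]; simpa [mul_assoc] using hr
  have h2 := hψv (d ^ p ^ k) ⟨_, h1⟩
  rw [show ψ (d ^ p ^ k) = 1 from congrArg Subtype.val hk'] at h2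
  have h3 : r = z * r * z⁻¹ := by
    have h4 : (c * b) * r * (c * b)⁻¹ = _ := h2
    have h5 := congrArg (fun x => (c * b)⁻¹ * x * (c * b)) h4
    simpa [mul_assoc, z] using h5
  exact eq_mul_inv_iff_mul_eq.1 h3

/-- Let p be an odd prime, G a finite group with a nontrivial Sylow p-subgroup P, and F the fusion system of G on P. Suppose F is p-stable: for every fully normalized subgroup Q and every χ in Aut_F(Q) acting quadratically on Q (χ(a⁻¹)·a·χ(a⁻¹)·χ(χ(a)) = 1 for all a in Q), χ lies in O_p(Aut_F(Q)). Then some nontrivial subgroup of P is normal in F. -/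
theorem result {Ω : Type*} [Group Ω] [Finite Ω] (p : ℕ) [Fact p.Prime] (hp : p ≠ 2) (P : Sylow p Ω) (hP : (P : Subgroup Ω) ≠ ⊥) (hst : (∀ Q : Subgroup Ω, (Cfsg.groupFusionSystem (P : Subgroup Ω)).IsFullyNormalized Q → ∀ χ : MulAut ↥Q, χ ∈ (Cfsg.groupFusionSystem (P : Subgroup Ω)).autGroup Q → (∀ a : ↥Q, (χ a⁻¹) * a * (χ a⁻¹) * (χ (χ a)) = 1) → χ ∈ ((Cfsg.pCore p ↥((Cfsg.groupFusionSystem (P : Subgroup Ω)).autGroup Q)).map ((Cfsg.groupFusionSystem (P : Subgroup Ω)).autGroup Q).subtype : Subgroup (MulAut ↥Q)))) : (Cfsg.groupFusionSystem (P : Subgroup Ω)).core ≠ ⊥ := by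
  have hs := stable_of_fusion P hst
  rw [Cfsg.Agent.Lib.FS.core_ne_bot_iff P.isPGroup' (Cfsg.Agent.Lib.FS.isSaturated_group P)]
  refine ⟨Cfsg.centerThompsonAOf (P : Subgroup Ω), fun h => ?_, ?_, ?_, fun R hR φ hφ x => ?_⟩
  · rw [← Cfsg.Agent.Lib.ZJ.inducedFunctor_zjA] at h
    exact ((Cfsg.Agent.Lib.ConjFunctor.Section.isConjugacyFunctor_induced
      (Cfsg.Agent.Lib.ZJ.isCharPFunctor_zjA p)) (P : Subgroup Ω) P.2).2.1 hP h
  · exact Subgroup.le_centralizer_iff_isMulCommutative.1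
      (inf_le_right.trans (Subgroup.centralizer_le inf_le_left))
  · exact Cfsg.Agent.Lib.ZJ.centerThompsonAOf_le _
  · obtain ⟨hRP, hφP, g, hg⟩ := Cfsg.Agent.Lib.FS.mem_groupHom.1 hφ
    obtain ⟨n, hn, he⟩ := Cfsg.Agent.Lib.ZJ.exists_conj_centerThompsonAOf_stable hp hs P
      (A := (R : Set Ω)) hRP (g := g) (by
        rintro _ ⟨r, hr, rfl⟩
        have := hφP ⟨r, hr⟩
        rwa [hg] at this)
    rw [hg, ← he x x.2]
    exact (Subgroup.mem_normalizer_iff.1 hn _).1 (hR x.2)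

end Cfsg.Agent.S5279
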