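import Cfsg.Statements.S5246
import Cfsg.Agent.S5279

set_option autoImplicit false
open Cfsg

namespace Cfsg.Agent.S5246

/-- Let p be an odd prime, G a finite group and P a Sylow p-subgroup. Call a fusion system F p-stable when, for every fully normalized subgroup Q and every χ ∈ Aut_F(Q) acting quadratically on Q (that is, χ fixes a⁻¹χ(a) for every a ∈ Q; equivalently χ(a⁻¹)·a·χ(a⁻¹)·χ(χ(a)) = 1), χ lies in O_p(Aut_F(Q)). Then G is p-stable in the normalizer form (for every p-subgroup Q and x ∈ N_G(Q) with [Q, x, x] = 1, the image of x lies in O_p(N_G(Q)/C_G(Q))) if and only if the fusion system of G on P is p-stable. -/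
theorem result {Ω : Type*} [Group Ω] [Finite Ω] {p : ℕ} [Fact p.Prime] (hp : p ≠ 2) (P : Sylow p Ω) : Cfsg.IsNormalizerPStable p Ω ↔ (∀ Q : Subgroup Ω, (Cfsg.groupFusionSystem (P : Subgroup Ω)).IsFullyNormalized Q → ∀ χ : MulAut ↥Q, χ ∈ (Cfsg.groupFusionSystem (P : Subgroup Ω)).autGroup Q → (∀ a : ↥Q, (χ a⁻¹) * a * (χ a⁻¹) * (χ (χ a)) = 1) → χ ∈ ((Cfsg.pCore p ↥((Cfsg.groupFusionSystem (P : Subgroup Ω)).autGroup Q)).map ((Cfsg.groupFusionSystem (P : Subgroup Ω)).autGroup Q).subtype : Subgroup (MulAut ↥Q))) := by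
  refine ⟨fun h Q hfn χ hχ hq => ?_, fun h => ?_⟩
  · have hs := Cfsg.Agent.Lib.ZJ.stable_of_isNormalizerPStable h
    have hQP : Q ≤ (P : Subgroup Ω) := hfn.1
    have hχ0 := hχ
    rw [Cfsg.Agent.Lib.FS.group_autGroup hQP] at hχ
    obtain ⟨g, -, hg⟩ := Cfsg.Agent.Lib.FS.mem_autInducedBy.1 hχ
    have hgN : g ∈ Subgroup.normalizer (Q : Set Ω) := by
      rw [Subgroup.mem_normalizer_iff]
      refine fun x => ⟨fun hx => hg ⟨x, hx⟩ ▸ (χ ⟨x, hx⟩).2, fun hx => ?_⟩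
      obtain ⟨a, ha⟩ := χ.surjective ⟨_, hx⟩
      have h1 := hg a
      rw [ha] at h1
      exact (mul_left_cancel (mul_right_cancel h1)).symm ▸ a.2
    have hquad : Cfsg.Agent.Lib.Quadratic.Quad Q g := by
      intro v hv
      rw [commutatorElement_eq_one_iff_mul_comm, commutatorElement_def]
      have h1 := congrArg Subtype.val (hq ⟨v, hv⟩)
      simp only [Subgroup.coe_mul, hg, InvMemClass.coe_inv, OneMemClass.coe_one] at h1
      calc v * g * v⁻¹ * g⁻¹ * g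
          = (g * v⁻¹ * g⁻¹)⁻¹ * ((g * v⁻¹ * g⁻¹) * v * (g * v⁻¹ * g⁻¹) *
              (g * (g * v * g⁻¹) * g⁻¹)) * (g * (g * v * g⁻¹) * g⁻¹)⁻¹ * g := by group
        _ = g * (v * g * v⁻¹ * g⁻¹) := by rw [h1]; group
    obtain ⟨D, hD, hgD, hDj⟩ := hs Q (P.2.to_le hQP) g hgN hquad
    let ψ := Q.normalizerMonoidHom.codRestrict
        ((Cfsg.groupFusionSystem (P : Subgroup Ω)).autGroup Q) fun x => by
      rw [Cfsg.Agent.Lib.FS.group_autGroup hQP]
      exact Cfsg.Agent.Lib.FS.mem_autInducedBy.2 ⟨x, trivial, fun _ => rfl⟩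
    have hψ : Function.Surjective ψ := by
      rintro ⟨α, hα⟩
      rw [Cfsg.Agent.Lib.FS.group_autGroup hQP] at hα
      obtain ⟨y, -, hy⟩ := Cfsg.Agent.Lib.FS.mem_autInducedBy.1 hα
      have hyN : y ∈ Subgroup.normalizer (Q : Set Ω) := by
        rw [Subgroup.mem_normalizer_iff]
        refine fun x => ⟨fun hx => hy ⟨x, hx⟩ ▸ (α ⟨x, hx⟩).2, fun hx => ?_⟩
        obtain ⟨a, ha⟩ := α.surjective ⟨_, hx⟩
        have h1 := hy a
        rw [ha] at h1
        exact (mul_left_cancel (mul_right_cancel h1)).symm ▸ a.2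
      exact ⟨⟨y, hyN⟩, Subtype.ext (MulEquiv.ext fun a => Subtype.ext (hy a).symm)⟩
    refine ⟨ψ ⟨g, hgN⟩, ?_, MulEquiv.ext fun a => Subtype.ext (hg a).symm⟩
    haveI : (D.map ψ).Normal := hD.map ψ hψ
    refine Cfsg.Agent.Lib.Cores.le_pCore (N := D.map ψ) ?_ ⟨_, hgD, rfl⟩
    rintro ⟨_, d, hd, rfl⟩
    obtain ⟨k, hk⟩ := hDj d hd
    refine ⟨k, Subtype.ext ?_⟩
    rw [SubmonoidClass.coe_pow, OneMemClass.coe_one, ← map_pow]
    rw [← Subgroup.normalizerMonoidHom_ker] at hk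
    exact Subtype.ext (MonoidHom.mem_ker.1 hk)
  · intro Q hQ g hg hq
    exact (Cfsg.Agent.Lib.Quadratic.inPRad_iff _ _).1
      (Cfsg.Agent.S5279.stable_of_fusion P h Q hQ g hg
        (Cfsg.Agent.Lib.Quadratic.quad_of_commutator_eq_bot hq))

end Cfsg.Agent.S5246
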