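import Cfsg.Statements.S5281
import Cfsg.Agent.Lib.FusionEssential.RadicalClimb
import Cfsg.Agent.Lib.FusionSystem.Normalizer

set_option autoImplicit false
open Cfsg

namespace Cfsg.Agent.S5281

open Cfsg.FusionSystem Cfsg.Agent.Lib.FS Cfsg.Agent.Lib.FusionEssential.RadicalClimb

theorem quad_congr {A B : Type*} [Group A] [Group B] (e : A ≃* B) (χ : MulAut A)
    (h : ∀ a : A, (χ a⁻¹) * a * (χ a⁻¹) * (χ (χ a)) = 1) (b : B) :
    (MulAut.congr e χ b⁻¹) * b * (MulAut.congr e χ b⁻¹) * (MulAut.congr e χ (MulAut.congr e χ b)) = 1 := by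
  obtain ⟨a, rfl⟩ := e.surjective b
  have h1 := congrArg e (h a)
  rw [map_mul, map_mul, map_mul, map_one] at h1
  rw [← map_inv]
  show e (χ (e.symm (e a⁻¹))) * e a * e (χ (e.symm (e a⁻¹))) * e (χ (e.symm (e (χ (e.symm (e a)))))) = 1
  simp only [MulEquiv.symm_apply_apply]
  exact h1

/-- Quadratic elements of `Aut(Q)` are in `O_p` when this holds for a conjugate of `Q`. -/
theorem mem_of_isConj {Ω : Type*} [Group Ω] {S : Subgroup Ω} [Finite S] {p : ℕ} {F : Cfsg.FusionSystem S}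
    {Q Q' : Subgroup Ω} {φ : Q →* Ω} (hφ : φ ∈ F.Hom Q) (hr : φ.range = Q')
    (h : ∀ χ : MulAut ↥Q', χ ∈ F.autGroup Q' → (∀ a : ↥Q', (χ a⁻¹) * a * (χ a⁻¹) * (χ (χ a)) = 1) →
      χ ∈ ((Cfsg.pCore p ↥(F.autGroup Q')).map (F.autGroup Q').subtype : Subgroup (MulAut ↥Q')))
    (χ : MulAut ↥Q) (hχ : χ ∈ F.autGroup Q) (hq : ∀ a : ↥Q, (χ a⁻¹) * a * (χ a⁻¹) * (χ (χ a)) = 1) :
    (⟨χ, hχ⟩ : F.autGroup Q) ∈ Cfsg.pCore p ↥(F.autGroup Q) := by
  haveI := finite_sub (src_le hφ)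
  haveI : Finite ↥Q' := finite_sub (hr ▸ range_le_base hφ)
  obtain ⟨χ', hχ', he⟩ := h _ (congr_mem_autGroup hφ hr hχ) (quad_congr _ χ hq)
  let f : F.autGroup Q →* F.autGroup Q' :=
    ((MulAut.congr (homEquiv hφ hr)).toMonoidHom.comp (F.autGroup Q).subtype).codRestrict _
      fun a => congr_mem_autGroup hφ hr a.2
  refine mem_pCore_of_injective f (fun a b e => Subtype.ext
    ((MulAut.congr (homEquiv hφ hr)).injective (congrArg Subtype.val e))) ?_
  rwa [show f ⟨χ, hχ⟩ = χ' from Subtype.ext he.symm]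


/-- Let p be an odd prime and F a saturated fusion system over a finite p-group S. Call a fusion system E (over any subgroup) p-stable when, for every fully E-normalized subgroup Q and every χ in Aut_E(Q) with χ(a⁻¹)·a·χ(a⁻¹)·χ(χ(a)) = 1 for all a in Q (χ acts quadratically), χ lies in O_p(Aut_E(Q)). Then F is p-stable if and only if the normalizer fusion system of R in F is p-stable for every fully F-normalized, F-centric, F-radical subgroup R of S. -/
theorem result {Ω : Type*} [Group Ω] {S : Subgroup Ω} [Finite S] (p : ℕ) [Fact p.Prime] (hS : IsPGroup p ↥S) (F : Cfsg.FusionSystem S) (hF : F.IsSaturated p) (hp : p ≠ 2) : (∀ Q : Subgroup Ω, F.IsFullyNormalized Q → ∀ χ : MulAut ↥Q, χ ∈ F.autGroup Q → (∀ a : ↥Q, (χ a⁻¹) * a * (χ a⁻¹) * (χ (χ a)) = 1) → χ ∈ ((Cfsg.pCore p ↥(F.autGroup Q)).map (F.autGroup Q).subtype : Subgroup (MulAut ↥Q))) ↔ ∀ R : Subgroup Ω, F.IsFullyNormalized R → F.IsCentric R → F.IsRadical p R → ∀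 N : Cfsg.FusionSystem (Cfsg.FusionSystem.normalizerIn S R), F.IsNormalizerSystem R N → (∀ Q : Subgroup Ω, N.IsFullyNormalized Q → ∀ χ : MulAut ↥Q, χ ∈ N.autGroup Q → (∀ a : ↥Q, (χ a⁻¹) * a * (χ a⁻¹) * (χ (χ a)) = 1) → χ ∈ ((Cfsg.pCore p ↥(N.autGroup Q)).map (N.autGroup Q).subtype : Subgroup (MulAut ↥Q))) := by
  constructor
  · intro hst R _ _ _ N hN Q hQ χ hχ hquad
    have hQS : Q ≤ S := hQ.1.trans (normalizerIn_le R)
    haveI := finite_sub hQS
    have hle : N.autGroup Q ≤ F.autGroup Q := fun a ha => by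
      have h := (mem_autGroup hQ.1).1 ha
      rw [hN] at h
      exact (mem_autGroup hQS).2 h.1
    obtain ⟨Q', ⟨φ, hφ, hr⟩, hQ'⟩ := exists_isFullyNormalized F hQS
    refine ⟨⟨χ, hχ⟩, mem_pCore_of_injective (Subgroup.inclusion hle) (Subgroup.inclusion_injective hle) ?_, rfl⟩
    exact mem_of_isConj hφ hr (hst Q' hQ') χ (hle hχ) hquad
  · intro hloc Q hQ χ hχ hquad
    obtain ⟨hc₀, hext⟩ := exists_centralizer_extension hS hF hQ
    obtain ⟨R, φ, hφ, hφR, hRfn, hRc, hRr, hclimb⟩ := exists_climb hS hF hc₀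
    obtain ⟨N, hN⟩ := exists_normalizerSystem F hRfn.1
    haveI : Finite (normalizerIn S R) := finite_sub (normalizerIn_le R)
    have hsub : ∀ P : Subgroup Ω, N.Hom P ⊆ F.Hom P := fun P ψ hψ => by
      rw [hN] at hψ
      exact hψ.1
    obtain ⟨θ, hθ, eθ⟩ := exists_restrict hφ (le_sup_left : Q ≤ Q ⊔ centralizerIn S Q)
    set Q₁ := θ.range with hQ₁
    have hQ₁R : Q₁ ≤ R := by
      rintro _ ⟨x, rfl⟩
      rw [eθ]
      exact hφR ⟨_, rfl⟩
    obtain ⟨Q₂, ⟨σ, hσ, hσr⟩, hQ₂⟩ := exists_isFullyNormalized N (hQ₁R.trans (le_normalizerIn hRfn.1))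
    have hσF := hsub _ hσ
    have hQ₁N : ∀ α ∈ F.autGroup Q₁, α ∈ N.autGroup Q₁ := by
      intro α hα
      rw [← map_congr_autGroup hθ rfl] at hα
      obtain ⟨a, ha, rfl⟩ := hα
      obtain ⟨a', ha', ea'⟩ := hext a ha
      obtain ⟨β, hβ, eβ⟩ := hclimb a' ha'
      obtain ⟨b, hb, -, hbe⟩ := exists_hom_of_aut hRfn.1 hβ
      have hbN : b ∈ N.Hom R := by
        rw [hN]
        refine ⟨hb, le_normalizerIn hRfn.1, fun x => ?_, ?_⟩
        · rw [hbe]
          exact le_normalizerIn hRfn.1 (β x).2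
        obtain ⟨b', hb', eb'⟩ := exists_restrict hb (sup_le le_rfl le_rfl : R ⊔ R ≤ R)
        refine ⟨b', hb', fun x => by rw [eb']; rfl, ?_⟩
        haveI := finite_sub hRfn.1
        ext y
        constructor
        · rintro ⟨x, -, rfl⟩
          rw [eb', hbe]
          exact (β _).2
        · intro hy
          obtain ⟨x, hx⟩ := β.surjective ⟨y, hy⟩
          refine ⟨Subgroup.inclusion le_sup_left x, Subgroup.mem_subgroupOf.2 x.2, ?_⟩
          rw [eb', hbe]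
          exact congrArg Subtype.val hx
      obtain ⟨b₁, hb₁, eb₁⟩ := exists_restrict hbN hQ₁R
      refine mem_autGroup_of_hom hb₁ fun y => ?_
      obtain ⟨x, rfl⟩ := (homEquiv hθ (rfl : θ.range = Q₁)).surjective y
      show ((MulAut.congr (homEquiv hθ rfl) a (homEquiv hθ rfl x) : Q₁) : Ω) = _
      rw [congr_homEquiv_apply, eb₁, hbe]
      have h1 : φ (Subgroup.inclusion le_sup_left x) ∈ R := hφR ⟨_, rfl⟩
      refine ((eθ (a x)).trans ?_).trans ((congrArg Subtype.val (congrArg β (Subtype.ext (eθ x)))).trans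
        (eβ (Subgroup.inclusion le_sup_left x) h1)).symm
      exact congrArg φ (Subtype.ext (ea' x).symm)
    obtain ⟨τ, hτ, eτ⟩ := exists_comp hθ hσF fun x => ⟨x, rfl⟩
    have hτr : τ.range = Q₂ := by
      rw [← hσr]
      ext y
      constructor
      · rintro ⟨x, rfl⟩
        exact ⟨_, (eτ x).symm⟩
      · rintro ⟨⟨_, x, rfl⟩, rfl⟩
        exact ⟨x, eτ x⟩
    have heq : N.autGroup Q₂ = F.autGroup Q₂ := by
      apply le_antisymm
      · intro a ha
        exact (mem_autGroup (hQ₂.1.trans (normalizerIn_le R))).2 (hsub _ ((mem_autGroup hQ₂.1).1 ha))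
      · rw [← map_congr_autGroup hσF hσr]
        rintro _ ⟨a, ha, rfl⟩
        exact congr_mem_autGroup hσ hσr (hQ₁N a ha)
    have h2 := hloc R hRfn hRc hRr N hN Q₂ hQ₂
    rw [heq] at h2
    exact ⟨⟨χ, hχ⟩, mem_of_isConj hτ hτr h2 χ hχ hquad, rfl⟩

end Cfsg.Agent.S5281
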