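import Cfsg.Statements.S5247
import Cfsg.Agent.Lib.FusionEssential.RadicalClimb
import Cfsg.Agent.Lib.FusionSystem.Normalizer
import Cfsg.Agent.Lib.Cores.Basic
import Cfsg.Agent.S5281

set_option autoImplicit false
open Cfsg

namespace Cfsg.Agent.S5247

open Cfsg.FusionSystem Cfsg.Agent.Lib.FS Cfsg.Agent.Lib.FusionEssential.RadicalClimb

/-- An automorphism of a cyclic `p`-group acting quadratically is a `p`-element. -/
theorem pow_eq_one_of_cyclic_quadratic {A : Type*} [Group A] [Finite A] [IsCyclic A] {p : ℕ} [Fact p.Prime]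
    (hA : IsPGroup p A) (χ : MulAut A) (hq : ∀ a : A, (χ a⁻¹) * a * (χ a⁻¹) * (χ (χ a)) = 1) :
    ∃ m : ℕ, χ ^ p ^ m = 1 := by
  obtain ⟨g, hg⟩ := IsCyclic.exists_generator (α := A)
  obtain ⟨k, hk⟩ := Subgroup.mem_zpowers_iff.1 (hg (χ g))
  have hpow : ∀ n : ℕ, (χ ^ n) g = g ^ (k ^ n) := by
    intro n
    induction n with
    | zero => simp
    | succ n ih => rw [pow_succ, MulAut.mul_apply, ← hk, map_zpow, ih, ← zpow_mul, pow_succ]
  obtain ⟨m, hm⟩ := IsPGroup.iff_orderOf.1 hA g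
  refine ⟨m, ?_⟩
  have h1 : (orderOf g : ℤ) ∣ (k - 1) ^ 2 := by
    rw [orderOf_dvd_iff_zpow_eq_one]
    have h := hq g
    rw [map_inv, ← hk, map_zpow, ← hk, ← zpow_mul, ← zpow_neg, ← zpow_add_one, ← zpow_add, ← zpow_add] at h
    rw [← h]
    congr 1
    ring
  have h2 : (orderOf g : ℤ) ∣ k ^ p ^ m - 1 := by
    rcases Nat.eq_zero_or_pos m with hm0 | hm0
    · rw [hm, hm0, pow_zero]
      exact one_dvd _
    · have hp : (p : ℤ) ∣ k - 1 := by
        apply (Nat.prime_iff_prime_int.1 (Fact.out : p.Prime)).dvd_of_dvd_pow (n := 2)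
        rw [hm] at h1
        push_cast at h1
        exact (dvd_pow_self _ hm0.ne').trans h1
      have h3 := dvd_sub_pow_of_dvd_sub hp m
      rw [one_pow] at h3
      rw [hm]
      push_cast
      exact (pow_dvd_pow _ (Nat.le_succ m)).trans h3
  ext a
  obtain ⟨j, rfl⟩ := Subgroup.mem_zpowers_iff.1 (hg a)
  rw [map_zpow, MulAut.one_apply, hpow]
  congr 1
  rw [show k ^ p ^ m = 1 + (k ^ p ^ m - 1) by ring, zpow_add, zpow_one, orderOf_dvd_iff_zpow_eq_one.1 h2, mul_one]

/-- Automorphisms of a cyclic group commute. -/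
theorem mulAut_comm_of_isCyclic {A : Type*} [Group A] [IsCyclic A] (a b : MulAut A) : a * b = b * a := by
  obtain ⟨g, hg⟩ := IsCyclic.exists_generator (α := A)
  obtain ⟨i, hi⟩ := Subgroup.mem_zpowers_iff.1 (hg (a g))
  obtain ⟨j, hj⟩ := Subgroup.mem_zpowers_iff.1 (hg (b g))
  ext x
  obtain ⟨n, rfl⟩ := Subgroup.mem_zpowers_iff.1 (hg x)
  simp only [map_zpow, MulAut.mul_apply]
  rw [← hj, ← hi, map_zpow, map_zpow, ← hi, ← hj, ← zpow_mul g i j, ← zpow_mul g j i, mul_comm i j]

/-- Let p be an odd prime and F a saturated fusion system over a finite p-group S. Call a fusion system E (over any subgroup) p-stable when, for every fully E-normalized subgroup Q and every χ ∈ Aut_E(Q) with χ(a⁻¹)·a·χ(a⁻¹)·χ(χ(a)) = 1 for all a ∈ Q (χ acts quadratically), χ lies in O_p(Aut_E(Q)). Then F is p-stable if and only if every normalizer fusion system N_F(R) of every non-cyclic fully F-normalized subgroup R of S is p-stable. -/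
theorem result {Ω : Type*} [Group Ω] {S : Subgroup Ω} [Finite S] (p : ℕ) [Fact p.Prime] (hS : IsPGroup p S) (F : Cfsg.FusionSystem S) (hF : F.IsSaturated p) (hp : p ≠ 2) : (∀ Q : Subgroup Ω, F.IsFullyNormalized Q → ∀ χ : MulAut ↥Q, χ ∈ F.autGroup Q → (∀ a : ↥Q, (χ a⁻¹) * a * (χ a⁻¹) * (χ (χ a)) = 1) → χ ∈ ((Cfsg.pCore p ↥(F.autGroup Q)).map (F.autGroup Q).subtype : Subgroup (MulAut ↥Q))) ↔ ∀ R : Subgroup Ω, F.IsFullyNormalized R → ¬ IsCyclic ↥R → ∀ N : Cfsg.FusionSystem (Cfsg.FusionSystem.normalizerIn S R), F.IsNormalizerSystem R N → (∀ Q : Subgroup Ω, N.IsFullyNormalized Q → ∀ χ : MulAut ↥Q, χ ∈ N.autGroup Q → (∀ a : ↥Q, (χ a⁻¹) * a * (χ a⁻¹) * (χ (χ a)) = 1) → χ ∈ ((Cfsg.pCore p ↥(N.autGroup Q)).map (N.autGroup Q).subtype : Subgroup (MulAut ↥Q))) := by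
  constructor
  · intro hst R _ _ N hN Q hQ χ hχ hquad
    have hQS : Q ≤ S := hQ.1.trans (normalizerIn_le R)
    haveI := finite_sub hQS
    have hle : N.autGroup Q ≤ F.autGroup Q := fun a ha => by
      have h := (mem_autGroup hQ.1).1 ha
      rw [hN] at h
      exact (mem_autGroup hQS).2 h.1
    obtain ⟨Q', ⟨φ, hφ, hr⟩, hQ'⟩ := exists_isFullyNormalized F hQS
    refine ⟨⟨χ, hχ⟩, mem_pCore_of_injective (Subgroup.inclusion hle) (Subgroup.inclusion_injective hle) ?_, rfl⟩
    exact Cfsg.Agent.S5281.mem_of_isConj hφ hr (hst Q' hQ') χ (hle hχ) hquad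
  · intro hloc Q hQ χ hχ hquad
    haveI := finite_sub hQ.1
    by_cases hcyc : IsCyclic ↥Q
    · obtain ⟨m, hm⟩ := pow_eq_one_of_cyclic_quadratic (hS.to_le hQ.1) χ hquad
      refine ⟨⟨χ, hχ⟩, ?_, rfl⟩
      have hn : (Subgroup.zpowers (⟨χ, hχ⟩ : F.autGroup Q)).Normal := by
        constructor
        intro x hx y
        have : y * x * y⁻¹ = x := by
          rw [show y * x = x * y from Subtype.ext (mulAut_comm_of_isCyclic _ _), mul_inv_cancel_right]
        rwa [this]
      haveI := hn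
      refine Cfsg.Agent.Lib.Cores.le_pCore ?_ (Subgroup.mem_zpowers _)
      rintro ⟨y, hy⟩
      obtain ⟨i, rfl⟩ := Subgroup.mem_zpowers_iff.1 hy
      refine ⟨m, Subtype.ext (Subtype.ext ?_)⟩
      push_cast
      rw [← zpow_natCast, ← zpow_mul, mul_comm, zpow_mul, zpow_natCast, hm, one_zpow]
    · obtain ⟨N, hN⟩ := exists_normalizerSystem F hQ.1
      have hQN : Q ≤ normalizerIn S Q := le_normalizerIn hQ.1
      have hQfn : N.IsFullyNormalized Q := by
        refine ⟨hQN, ?_⟩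
        rintro P ⟨φ, hφ, rfl⟩
        rw [hN] at hφ
        obtain ⟨-, -, -, ψ, -, hψ, hψQ⟩ := hφ
        have hr : φ.range = Q := by
          refine Eq.trans ?_ hψQ
          ext y
          constructor
          · rintro ⟨x, rfl⟩
            exact ⟨_, Subgroup.mem_subgroupOf.2 x.2, hψ x⟩
          · rintro ⟨x, hx, rfl⟩
            exact ⟨⟨x.1, hx⟩, (hψ ⟨x.1, hx⟩).symm⟩
        rw [hr]
      have heq : N.autGroup Q = F.autGroup Q := by
        apply le_antisymm
        · intro a ha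
          have h := (mem_autGroup hQN).1 ha
          rw [hN] at h
          exact (mem_autGroup hQ.1).2 h.1
        · intro a ha
          obtain ⟨b, hb, -, hbe⟩ := exists_hom_of_aut hQ.1 ha
          refine mem_autGroup_of_hom (φ := b) ?_ fun y => (hbe y).symm
          rw [hN]
          refine ⟨hb, hQN, fun x => ?_, ?_⟩
          · rw [hbe]
            exact hQN (a x).2
          obtain ⟨b', hb', eb'⟩ := exists_restrict hb (sup_le le_rfl le_rfl : Q ⊔ Q ≤ Q)
          refine ⟨b', hb', fun x => by rw [eb']; rfl, ?_⟩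
          ext y
          constructor
          · rintro ⟨x, -, rfl⟩
            rw [eb', hbe]
            exact (a _).2
          · intro hy
            obtain ⟨x, hx⟩ := a.surjective ⟨y, hy⟩
            refine ⟨Subgroup.inclusion le_sup_left x, Subgroup.mem_subgroupOf.2 x.2, ?_⟩
            rw [eb', hbe]
            exact congrArg Subtype.val hx
      have h2 := hloc Q hQ hcyc N hN Q hQfn
      rw [heq] at h2
      exact h2 χ hχ hquad

end Cfsg.Agent.S5247
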