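import Cfsg.Statements.S5249
import Cfsg.Agent.Lib.ConjFunctor.KControl
import Cfsg.Agent.Lib.Quadratic.PStable
import Cfsg.Agent.Lib.FusionSystem.Factor
import Cfsg.Agent.Lib.FusionSystem.Group
import Cfsg.Agent.Lib.FusionSystem.NormalFacts
-- import your own Cfsg.Agent.* helpers here

set_option autoImplicit false
open Cfsg

namespace Cfsg.Agent.S5249

/-- Let p be an odd prime, G a finite group in which Qd(p) (the natural semidirect product of an elementary abelian group of order p² by SL₂(p)) is not involved, and P a Sylow p-subgroup of G. Then the fusion system of G on P is a solvable fusion system. -/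
theorem result {G : Type*} [Group G] [Finite G] {p : ℕ} [Fact p.Prime] (hp : p ≠ 2) (hqd : ¬ Cfsg.Involves ↥(Cfsg.qd p) G) (P : Sylow p G) : (Cfsg.groupFusionSystem (P : Subgroup G)).IsSolvableSystem := by
  open Cfsg.Agent.Lib Cfsg.Agent.Lib.FS Cfsg.FusionSystem in
  intro R hsc hRne hRn E hfac
  set F := Cfsg.groupFusionSystem (P : Subgroup G) with hF
  obtain ⟨hRP, hker, hr, hhom⟩ := hfac
  set θ := QuotientGroup.mk' (R.subgroupOf (P : Subgroup G)) with hθ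
  have hmaps : ∀ g : G, (∀ r ∈ R, g * r * g⁻¹ ∈ (P : Subgroup G)) →
      g ∈ Subgroup.normalizer (R : Set G) := by
    intro g hg
    refine Subgroup.mem_normalizer_fintype fun r hr => ?_
    exact hsc.2 R le_rfl _ (conjHom_mem_group hRP hg) ⟨r, hr⟩
  set L := Subgroup.normalizer (R : Set G) with hL
  have hPL : (P : Subgroup G) ≤ L := fun x hx => by
    refine Subgroup.mem_normalizer_fintype fun r hr => ?_
    exact Subgroup.mem_subgroupOf.1 (hRn.conj_mem ⟨r, hRP hr⟩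
      (Subgroup.mem_subgroupOf.2 hr) ⟨x, hx⟩)
  haveI : (R.subgroupOf L).Normal := Subgroup.normal_in_normalizer
  let π : ↥L →* ↥L ⧸ R.subgroupOf L := QuotientGroup.mk' _
  let T : Sylow p (↥L ⧸ R.subgroupOf L) := (P.subtype hPL).mapSurjective (f := π)
    (QuotientGroup.mk'_surjective _)
  have hmemT : ∀ x : ↥L, π x ∈ (T : Subgroup (↥L ⧸ R.subgroupOf L)) ↔ (x : G) ∈ (P : Subgroup G) := by
    intro x
    show π x ∈ ((P : Subgroup G).subgroupOf L).map π ↔ _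
    constructor
    · rintro ⟨y, hy, hyx⟩
      have h1 : (y⁻¹ * x : ↥L) ∈ R.subgroupOf L := QuotientGroup.eq.1 hyx
      have h2 := (P : Subgroup G).mul_mem (show (y : G) ∈ (P : Subgroup G) from hy) (hRP h1)
      simpa using h2
    · exact fun hx => ⟨x, hx, rfl⟩
  -- all sections are stable
  have hst : ∀ (K R' : Subgroup (↥L ⧸ R.subgroupOf L)) [hR : (R'.subgroupOf K).Normal],
      Cfsg.IsNormalizerPStable p (↥K ⧸ R'.subgroupOf K) := by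
    intro K R' hR
    by_contra hn
    refine hqd (Quadratic.involves_trans (Quadratic.involves_qd_of_not_stable hp hn) ?_)
    refine Quadratic.involves_trans (T := ↥L ⧸ R.subgroupOf L) ?_ ?_
    · exact ⟨K, R', hR, ⟨MulEquiv.refl _⟩⟩
    · exact Quadratic.involves_of_surjective (QuotientGroup.mk' (R.subgroupOf L))
        (QuotientGroup.mk'_surjective _)
  have hW := ConjFunctor.KFunctor.isCharP_lower (p := p)
  have hcf := ConjFunctor.Section.isConjugacyFunctor_induced hW (X := ↥L ⧸ R.subgroupOf L)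
  set Z := Cfsg.inducedFunctor (G := ↥L ⧸ R.subgroupOf L) Cfsg.kInfLower
    (T : Subgroup (↥L ⧸ R.subgroupOf L)) with hZ
  have hZT : Z ≤ (T : Subgroup (↥L ⧸ R.subgroupOf L)) := ConjFunctor.Basic.w_le hcf T.2
  have hTne : (T : Subgroup (↥L ⧸ R.subgroupOf L)) ≠ ⊥ := by
    intro hb
    refine hRne (le_antisymm hRP fun x hx => ?_)
    have h1 : π ⟨x, hPL hx⟩ ∈ (⊥ : Subgroup _) := hb ▸ (hmemT ⟨x, hPL hx⟩).2 hx
    exact (QuotientGroup.eq_one_iff (⟨x, hPL hx⟩ : ↥L)).1 (Subgroup.mem_bot.1 h1)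
  have hctl : ∀ (A : Set (↥L ⧸ R.subgroupOf L)) (g : ↥L ⧸ R.subgroupOf L),
      A ⊆ (T : Subgroup (↥L ⧸ R.subgroupOf L)) →
      (fun a => g * a * g⁻¹) '' A ⊆ (T : Subgroup (↥L ⧸ R.subgroupOf L)) →
      ∃ x ∈ Subgroup.normalizer (Z : Set (↥L ⧸ R.subgroupOf L)), ∀ a ∈ A, x * a * x⁻¹ = g * a * g⁻¹ := by
    intro A g hA hgA
    refine ((ConjFunctor.KControl.sf_kInf (Or.inl rfl) hst _
      (ConjFunctor.Section.IsSection.refl _)) T A g trivial hA hgA).collapse fun y hy => ?_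
    obtain ⟨V, hV, hy⟩ := ConjFunctor.Local.mem_stepSet_nFam.1 hy
    obtain ⟨_, rfl, rfl⟩ := hV
    exact hy.2
  -- the lifted subgroup
  set Zh := (Z.comap π).map L.subtype with hZh
  have hZhP : Zh ≤ (P : Subgroup G) := by
    rintro _ ⟨z, hz, rfl⟩
    exact (hmemT z).1 (hZT hz)
  set Q' := imageAlong θ Zh with hQ'
  have hQ'S : Q' ≤ ⊤ := le_top
  have hne : Q' ≠ ⊥ := by
    intro hb
    obtain ⟨z, hz, hz1⟩ := (Subgroup.bot_or_exists_ne_one Z).resolve_left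
      (ConjFunctor.Basic.w_ne_bot hcf T.2 hTne)
    obtain ⟨l, rfl⟩ := QuotientGroup.mk'_surjective _ z
    have hlP : (l : G) ∈ (P : Subgroup G) := (hmemT l).1 (hZT hz)
    have h1 : θ ⟨l, hlP⟩ ∈ Q' := ⟨⟨l, hlP⟩, ⟨l, hz, rfl⟩, rfl⟩
    rw [hb, Subgroup.mem_bot, hker] at h1
    exact hz1 ((QuotientGroup.eq_one_iff l).2 h1)
  refine fun hcore => hne (le_bot_iff.1 (hcore ▸ le_core_of_isNormal (F := E) ⟨hQ'S, fun P₁ φ' hφ' => ?_⟩))
  obtain ⟨hP₁, φ, hφ, hind⟩ := (hhom P₁ φ').1 hφ'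
  obtain ⟨hPP, hv, g, hg⟩ := mem_groupHom.1 hφ
  have hRpre : R ≤ preimageAlong θ P₁ := fun r hr => mem_preimageAlong.2 ⟨hRP hr, by
    rw [(hker ⟨r, hRP hr⟩).2 hr]; exact one_mem _⟩
  have hgL : g ∈ L := hmaps g fun r hr => (hg ⟨r, hRpre hr⟩) ▸ hv ⟨r, hRpre hr⟩
  set Ph := preimageAlong θ P₁ with hPh
  obtain ⟨x, hx, hxe⟩ := hctl (π '' {l : ↥L | (l : G) ∈ Ph}) (π ⟨g, hgL⟩)
    (by rintro _ ⟨l, hl, rfl⟩; exact (hmemT l).2 (hPP hl))
    (by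
      rintro _ ⟨_, ⟨l, hl, rfl⟩, rfl⟩
      show π ⟨g, hgL⟩ * π l * (π ⟨g, hgL⟩)⁻¹ ∈ (T : Subgroup (↥L ⧸ R.subgroupOf L))
      rw [← map_inv, ← map_mul, ← map_mul]
      have h1 := hv ⟨(l : G), hl⟩
      rw [hg] at h1
      exact (hmemT (⟨g, hgL⟩ * l * ⟨g, hgL⟩⁻¹)).2 h1)
  obtain ⟨n, rfl⟩ := QuotientGroup.mk'_surjective _ x
  -- `n` carries both pieces into `P`
  have hnZ : ∀ z : G, z ∈ Zh → (n : G) * z * (n : G)⁻¹ ∈ Zh := by
    rintro _ ⟨z, hz, rfl⟩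
    refine ⟨n * z * n⁻¹, ?_, rfl⟩
    show π (n * z * n⁻¹) ∈ Z
    rw [map_mul, map_mul, map_inv]
    exact (Subgroup.mem_normalizer_iff.1 hx _).1 hz
  have hnPh : ∀ y ∈ Ph, ∀ hy : y ∈ (P : Subgroup G), π (n * ⟨y, hPL hy⟩ * n⁻¹) =
      π (⟨g, hgL⟩ * ⟨y, hPL hy⟩ * ⟨g, hgL⟩⁻¹) := by
    intro y hy hyP
    simp only [map_mul, map_inv]
    exact hxe _ ⟨⟨y, hPL hyP⟩, hy, rfl⟩
  have hnP : ∀ y ∈ Ph, (n : G) * y * (n : G)⁻¹ ∈ (P : Subgroup G) := by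
    intro y hy
    refine (hmemT (n * ⟨y, hPL (hPP hy)⟩ * n⁻¹)).1 ?_
    rw [hnPh y hy (hPP hy)]
    have h1 := hv ⟨y, hy⟩
    rw [hg] at h1
    exact (hmemT (⟨g, hgL⟩ * ⟨y, hPL (hPP hy)⟩ * ⟨g, hgL⟩⁻¹)).2 h1
  have hall : ∀ y ∈ preimageAlong θ (P₁ ⊔ Q'), (n : G) * y * (n : G)⁻¹ ∈ (P : Subgroup G) := by
    have hle : preimageAlong θ (P₁ ⊔ Q') ≤
        ((P : Subgroup G).comap (MulAut.conj (n : G)).toMonoidHom) := by
      refine le_trans ?_ (sup_le (fun y hy => hnP y hy)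
        (fun y hy => (show (n : G) * y * (n : G)⁻¹ ∈ (P : Subgroup G) from hZhP (hnZ y hy))) :
        Ph ⊔ Zh ≤ _)
      intro y hy
      obtain ⟨hyP, hyθ⟩ := mem_preimageAlong.1 hy
      have hsup : (P₁ ⊔ Q') ≤ ((Ph ⊔ Zh).subgroupOf (P : Subgroup G)).map θ := by
        refine sup_le ?_ ?_
        · intro w hw
          obtain ⟨s, rfl⟩ := QuotientGroup.mk'_surjective _ w
          exact ⟨s, Subgroup.mem_sup_left (mem_preimageAlong.2 ⟨s.2, hw⟩), rfl⟩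
        · rintro _ ⟨s, hs, rfl⟩
          exact ⟨s, Subgroup.mem_sup_right hs, rfl⟩
      obtain ⟨s, hs, hse⟩ := hsup hyθ
      have h1 : (s⁻¹ * ⟨y, hyP⟩ : ↥(P : Subgroup G)) ∈ R.subgroupOf (P : Subgroup G) :=
        QuotientGroup.eq.1 hse
      have h2 := (Ph ⊔ Zh).mul_mem hs (Subgroup.mem_sup_left (hRpre h1))
      simpa using h2
    exact fun y hy => hle hy
  have hψ := conjHom_mem_group (preimageAlong_le θ (P₁ ⊔ Q')) hall
  have hK : F.StronglyClosed (θ.ker.map (P : Subgroup G).subtype) := by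
    rw [ker_map_eq hRP hker]; exact hsc
  obtain ⟨ψ', hψ'⟩ := exists_induced hK hr (sup_le hP₁ hQ'S) hψ
  have hψ'mem : ψ' ∈ E.Hom (P₁ ⊔ Q') := (hhom _ _).2 ⟨sup_le hP₁ hQ'S, _, hψ, hψ'⟩
  refine ⟨ψ', hψ'mem, ?_, ?_⟩
  · rintro ⟨w, hw⟩
    obtain ⟨s, rfl⟩ := QuotientGroup.mk'_surjective _ w
    have hsP : (s : G) ∈ Ph := mem_preimageAlong.2 ⟨s.2, hw⟩
    have e2 := inducedAlong_apply hind ⟨_, hsP⟩ s.2 hw (hv _)
    refine Eq.trans ?_ e2.symm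
    have hs' : (s : G) ∈ preimageAlong θ (P₁ ⊔ Q') :=
      mem_preimageAlong.2 ⟨s.2, Subgroup.mem_sup_left hw⟩
    refine (inducedAlong_apply hψ' ⟨_, hs'⟩ s.2 (Subgroup.mem_sup_left hw) (hall _ hs')).trans ?_
    refine (QuotientGroup.eq).2 ?_
    have h1 := QuotientGroup.eq.1 (hnPh s hsP s.2)
    rw [Subgroup.mem_subgroupOf] at h1 ⊢
    push_cast
    rw [hg ⟨(s : G), hsP⟩]
    exact h1
  · refine map_subgroupOf_eq_of_mapsTo hψ'mem le_sup_right ?_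
    rintro ⟨w, hw⟩ hwQ
    obtain ⟨s, hs, rfl⟩ := hwQ
    have hs' : (s : G) ∈ preimageAlong θ (P₁ ⊔ Q') := mem_preimageAlong.2 ⟨s.2, hw⟩
    rw [inducedAlong_apply hψ' ⟨_, hs'⟩ s.2 hw (hall _ hs')]
    exact ⟨⟨_, hall _ hs'⟩, hnZ _ hs, rfl⟩

end Cfsg.Agent.S5249
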