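import Cfsg.Statements.S5254
import Cfsg.Agent.Lib.AbelIndexP.Abelian

set_option autoImplicit false
open Cfsg

namespace Cfsg.Agent.S5254

/-- Let p be an odd prime, S a finite nonabelian p-group with a unique abelian subgroup A of index p, and F a saturated fusion system over S. Then every F-essential subgroup P is A, or Z(S)⟨x⟩ for some x ∈ S outside A, or (when the second centre Z₂(S) lies in A) Z₂(S)⟨x⟩ for some x ∈ S outside A; and P has index p in its normalizer in S. -/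
theorem result {Ω : Type*} [Group Ω] {S : Subgroup Ω} [Finite S] (p : ℕ) [Fact p.Prime] (hS : IsPGroup p S) (F : Cfsg.FusionSystem S) (hF : F.IsSaturated p) (hp : p ≠ 2) (hna : ¬ IsMulCommutative ↥S) (A : Subgroup Ω) (hA : A ≤ S ∧ IsMulCommutative ↥A ∧ (A.subgroupOf S).index = p) (huniq : ∀ B : Subgroup Ω, B ≤ S → IsMulCommutative ↥B → (B.subgroupOf S).index = p → B = A) (P : Subgroup Ω) (hP : F.IsEssential p P) : (P = A ∨ (∃ x ∈ S, x ∉ A ∧ P = (S ⊓ Subgroup.centralizer (S : Set Ω)) ⊔ Subgroup.zpowers x) ∨ (((upperCentralSeries ↥S 2).map S.subtype) ≤ A ∧ ∃ x ∈ S, x ∉ A ∧ P = ((upperCentralSeries ↥S 2).map S.subtype) ⊔ Subgroup.zpowers x)) ∧ (P.subgroupOf (S ⊓ Subgroup.normalizer (P : Set Ω))).index = p := by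
  have H : Lib.AbelIndexP.Setup S A p := ⟨hS, hA.1,
    fun a ha b hb => congrArg Subtype.val (hA.2.1.is_comm.comm (⟨a, ha⟩ : A) ⟨b, hb⟩), hA.2.2, hna⟩
  have hPS : P ≤ S := hP.2.1.1
  rcases H.eq_or_exists hP with rfl | ⟨x, hx, hxA⟩
  · refine ⟨Or.inl rfl, ?_⟩
    have hN : S ⊓ Subgroup.normalizer (P : Set Ω) = S := inf_eq_left.2 fun s hs => by
      haveI := Lib.FS.finite_sub hPS
      exact Lib.FS.mem_normalizer_of_conj_mem fun a ha => H.conj_mem hs ha
    rw [hN]; exact hA.2.2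
  have hxS := hPS hx
  have hsup := H.eq_sup hPS hx hxA
  by_cases hB : P ⊓ A = Lib.AbelIndexP.cen S
  · obtain ⟨h, hh, hmove⟩ := H.exists_moving hF hP hx hxA hB
    obtain ⟨hrel, -⟩ := H.abelian_key hF hP hx hxA hB hh hmove
    rw [hB] at hsup
    exact ⟨Or.inr (Or.inl ⟨x, hxS, hxA, hsup⟩), H.relIndex_normalizer hPS hx hxA hrel⟩
  · obtain ⟨hZ, hrel, -⟩ := H.nonabelian_case hF hP hx hxA hB
    rw [hZ] at hsup
    exact ⟨Or.inr (Or.inr ⟨hZ ▸ inf_le_right, x, hxS, hxA, hsup⟩), H.relIndex_normalizer hPS hx hxA hrel⟩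


end Cfsg.Agent.S5254
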