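import Cfsg.Statements.S5265
import Cfsg.Agent.Lib.FusionP3.Agemo
import Cfsg.Agent.Lib.FusionP3.Induction
import Cfsg.Agent.Lib.FusionSystem.Normal
import Cfsg.Agent.Lib.FusionSystem.NormalFacts
import Cfsg.Agent.Lib.FusionSystem.Saturation
import Cfsg.Agent.Lib.Cores.Basic
import Cfsg.Agent.Lib.Involutions.Basic

set_option autoImplicit false
open Cfsg

namespace Cfsg.Agent.S5265

open Cfsg.FusionSystem Cfsg.Agent.Lib.FS
open scoped Pointwise commutatorElement

set_option linter.unusedSectionVars false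

universe u

section gen

variable {Ω : Type u} [Group Ω]

/-- Generator of a group of prime order. -/
lemma exists_pow_eq {p : ℕ} [hp : Fact p.Prime] {s c d : Ω} (hs : s ^ p = 1)
    (hc : c ∈ Subgroup.zpowers s) (hc1 : c ≠ 1) (hd : d ∈ Subgroup.zpowers s) :
    ∃ n : ℕ, c ^ n = d := by
  have hs1 : s ≠ 1 := fun h => hc1 (by simpa [h] using hc)
  have ho : orderOf s = p := orderOf_eq_prime hs hs1
  have hcard : Nat.card (Subgroup.zpowers s) = p := by rw [Nat.card_zpowers, ho]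
  have hne : (⟨c, hc⟩ : Subgroup.zpowers s) ≠ 1 := fun h => hc1 (congrArg Subtype.val h)
  obtain ⟨n, hn⟩ := mem_powers_of_prime_card hcard hne (g' := (⟨d, hd⟩ : Subgroup.zpowers s))
  exact ⟨n, congrArg Subtype.val hn⟩

lemma eq_one_of_pow_coprime {G : Type*} [Group G] {H : Subgroup G} {σ : G} {m n : ℕ}
    (h : m.Coprime n) (h1 : σ ^ m ∈ H) (h2 : σ ^ n ∈ H) : σ ∈ H := by
  have hb := Nat.gcd_eq_gcd_ab m n
  rw [h.gcd_eq_one] at hb
  have : σ = (σ ^ m) ^ (Nat.gcdA m n) * (σ ^ n) ^ (Nat.gcdB m n) := by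
    rw [← zpow_natCast σ m, ← zpow_natCast σ n, ← zpow_mul, ← zpow_mul, ← zpow_add, ← hb,
      Nat.cast_one, zpow_one]
  rw [this]
  exact H.mul_mem (H.zpow_mem h1 _) (H.zpow_mem h2 _)

variable {p : ℕ} [hp : Fact p.Prime]

/-- A subgroup of index `p` and an element outside generate. -/
lemma decomp {A Y : Subgroup Ω} [Finite A] (hYA : Y ≤ A) (hc : Nat.card A = p * Nat.card Y)
    {t : Ω} (ht : t ∈ A) (htY : t ∉ Y) (hn : t ∈ Subgroup.normalizer (Y : Set Ω)) {v : Ω}
    (hv : v ∈ A) : ∃ y ∈ Y, ∃ i : ℤ, v = y * t ^ i := by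
  have : Finite Y := Finite.of_injective _ (Subgroup.inclusion_injective hYA)
  set U := Y ⊔ Subgroup.zpowers t with hU
  have hUA : U ≤ A := sup_le hYA (Subgroup.zpowers_le.mpr ht)
  have : Finite U := Finite.of_injective _ (Subgroup.inclusion_injective hUA)
  have hYU : Y < U := lt_of_le_of_ne le_sup_left fun h => htY (by
    rw [h]; exact Subgroup.mem_sup_right (Subgroup.mem_zpowers t))
  obtain ⟨k, hk⟩ := Subgroup.card_dvd_of_le hYU.le
  have hkp : k ∣ p := by
    have h := Subgroup.card_dvd_of_le hUA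
    rw [hk, hc, mul_comm p] at h
    exact Nat.dvd_of_mul_dvd_mul_left Nat.card_pos h
  have hk1 : k ≠ 1 := fun h => hYU.ne (Subgroup.eq_of_le_of_card_ge hYU.le (by rw [hk, h, mul_one]))
  have hkp' : k = p := ((Nat.dvd_prime hp.out).mp hkp).resolve_left hk1
  have hUeq : U = A := Subgroup.eq_of_le_of_card_ge hUA (by rw [hc, hk, hkp', mul_comm])
  have hv' : v ∈ (U : Set Ω) := by rw [hUeq]; exact hv
  rw [hU, Subgroup.coe_mul_of_right_le_normalizer_left _ _ (Subgroup.zpowers_le.mpr hn)] at hv'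
  obtain ⟨y, hy, w, ⟨i, rfl⟩, rfl⟩ := hv'
  exact ⟨y, hy, i, rfl⟩

/-- the standing hypotheses on the group -/
structure Setting (S : Subgroup Ω) (p : ℕ) (Z : Subgroup Ω) (s : Ω) : Prop where
  hS : IsPGroup p S
  Zc : ∀ x, x ∈ Z ↔ x ∈ S ∧ ∀ y ∈ S, y * x = x * y
  Zp : ∀ z ∈ Z, z ^ p = 1
  comm : ∀ a ∈ S, ∀ b ∈ S, a * b * a⁻¹ * b⁻¹ ∈ Subgroup.zpowers s
  smem : s ∈ Z
  sne : s ≠ 1
  card : Nat.card S = p ^ 2 * Nat.card Z

/-- a maximal subgroup above the centre -/
structure Mid (S : Subgroup Ω) (p : ℕ) (Z A : Subgroup Ω) : Prop where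
  le : A ≤ S
  above : Z ≤ A
  card : Nat.card A = p * Nat.card Z

variable {S Z A : Subgroup Ω} {s : Ω} (c : Setting S p Z s)
include c

lemma Setting.ZS : Z ≤ S := fun _ hx => ((c.Zc _).mp hx).1

lemma Setting.spow : s ^ p = 1 := c.Zp s c.smem

lemma Setting.sZ : Subgroup.zpowers s ≤ Z := Subgroup.zpowers_le.mpr c.smem

lemma Setting.central {z : Ω} (hz : z ∈ Z) {y : Ω} (hy : y ∈ S) : y * z = z * y :=
  ((c.Zc z).mp hz).2 y hy

lemma normal_of_above {Y : Subgroup Ω} [Finite S] (hY : Y ≤ S) (hs : s ∈ Y) :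
    S ≤ Subgroup.normalizer (Y : Set Ω) := by
  have : Finite Y := finite_sub hY
  intro g hg
  refine mem_normalizer_of_conj_mem fun y hy => ?_
  have h1 := Y.mul_mem ((Subgroup.zpowers_le.mpr hs) (c.comm g hg y (hY hy))) hy
  simpa [mul_assoc] using h1

variable [Finite S]

lemma Setting.finiteZ : Finite Z := finite_sub c.ZS

lemma mid_comm (hA : Mid S p Z A) : ∀ u ∈ A, ∀ v ∈ A, u * v = v * u := by
  have : Finite A := finite_sub hA.le
  have : Finite Z := c.finiteZ
  obtain ⟨t, ht, htZ⟩ : ∃ t ∈ A, t ∉ Z := by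
    by_contra! h
    have h1 := Subgroup.card_le_of_le (show A ≤ Z from h)
    rw [hA.card] at h1
    have := hp.out.two_le
    have := Nat.card_pos (α := Z)
    nlinarith
  have hn := normal_of_above c c.ZS c.smem (hA.le ht)
  intro u hu v hv
  obtain ⟨y, hy, i, rfl⟩ := decomp hA.above hA.card ht htZ hn hu
  obtain ⟨w, hw, j, rfl⟩ := decomp hA.above hA.card ht htZ hn hv
  have hti : t ^ i ∈ S := S.zpow_mem (hA.le ht) i
  have htj : t ^ j ∈ S := S.zpow_mem (hA.le ht) j
  have h1 : Commute (t ^ i) w := c.central hw hti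
  have h2 : Commute (t ^ j) y := c.central hy htj
  have h3 : Commute y w := c.central hw (c.ZS hy)
  have h4 : Commute (t ^ i) (t ^ j) := (Commute.refl t).zpow_zpow i j
  exact ((h3.mul_right h2.symm).mul_left (h1.mul_right h4)).eq

lemma mid_of_centric (hA : A ≤ S) (hne : A ≠ S) {F : FusionSystem S} (hc : F.IsCentric A) :
    Mid S p Z A := by
  have : Finite A := finite_sub hA
  have hC := hc.2 A (isConj_refl F hA)
  have hZA : Z ≤ A := fun z hz => hC (mem_centralizerIn.mpr ⟨c.ZS hz, fun a ha => c.central hz (hA ha)⟩)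
  refine ⟨hA, hZA, ?_⟩
  obtain ⟨k, hk⟩ := Subgroup.card_dvd_of_le hZA
  have hk2 : k ∣ p ^ 2 := by
    have h := Subgroup.card_dvd_of_le hA
    rw [hk, c.card, mul_comm (p ^ 2)] at h
    have : Finite Z := c.finiteZ
    exact Nat.dvd_of_mul_dvd_mul_left Nat.card_pos h
  obtain ⟨i, hi, rfl⟩ := (Nat.dvd_prime_pow hp.out).mp hk2
  interval_cases i
  · exfalso
    have hAZ : A = Z := (Subgroup.eq_of_le_of_card_ge hZA (by rw [hk]; simp)).symm
    have hSZ : S ≤ Z := fun x hx => hAZ ▸ hC (mem_centralizerIn.mpr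
      ⟨hx, fun a ha => (c.central (hAZ ▸ ha) hx).symm⟩)
    exact hne (le_antisymm hA (hSZ.trans hZA))
  · rw [hk]; ring
  · exact absurd (Subgroup.eq_of_le_of_card_ge hA (by rw [hk, c.card, mul_comm])) hne

end gen

section ess

variable {Ω : Type u} [Group Ω] {p : ℕ} [hp : Fact p.Prime] {S Z A : Subgroup Ω} [Finite S] {s : Ω}
  {F : FusionSystem S} (c : Setting S p Z s) (hF : F.IsSaturated p)

/-- the data of a proper centric radical subgroup -/
structure Data (F : FusionSystem S) (p : ℕ) (Z A : Subgroup Ω) (s : Ω) (K W : Subgroup Ω) : Prop where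
  KZ : K ≤ Z
  Kcard : Nat.card Z = p * Nat.card K
  sK : s ∉ K
  WA : W ≤ A
  sW : s ∈ W
  Wcard : Nat.card W ≤ p ^ 2
  elem : ∀ v ∈ A, v ^ p = 1
  split : ∀ v ∈ A, ∃ k ∈ K, ∃ w ∈ W, v = k * w
  Kinv : ∀ γ ∈ F.autGroup A, ∀ v : A, (v : Ω) ∈ K → ((γ v : A) : Ω) ∈ K
  Winv : ∀ γ ∈ F.autGroup A, ∀ v : A, (v : Ω) ∈ W → ((γ v : A) : Ω) ∈ W
  ext2 : p = 2 → ∀ γ ∈ F.autGroup A, ∃ ψ ∈ F.autGroup S, ∀ (v : A) (vS : S), (vS : Ω) = v →
    (v : Ω) ∈ K → ((γ v : A) : Ω) = (ψ vS : S)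
  refl : p ≠ 2 → ∃ τ ∈ F.autGroup S, (∀ v : S, (v : Ω) ∈ K → τ v = v) ∧
    ∀ v : S, (v : Ω) = s → ((τ v : S) : Ω) = s⁻¹

include c hF

set_option maxHeartbeats 1000000 in
theorem exists_data (hfn : F.IsFullyNormalized A) (hc : F.IsCentric A) (hr : F.IsRadical p A)
    (hne : A ≠ S) : ∃ K W, Data F p Z A s K W := by
  classical
  have hmid := mid_of_centric c hfn.1 hne hc
  have : Finite A := finite_sub hfn.1
  have : Finite Z := c.finiteZ
  have hab := mid_comm c hmid
  have hAn : S ≤ Subgroup.normalizer (A : Set Ω) :=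
    normal_of_above c hmid.le (hmid.above c.smem)
  obtain ⟨b, hb, hbA⟩ : ∃ b ∈ S, b ∉ A := by
    by_contra! h
    exact hne (le_antisymm hmid.le h)
  set G := F.autGroup A with hG
  have : Finite (MulAut A) := Finite.of_injective (fun f => (f : A → A)) DFunLike.coe_injective
  set x : MulAut A := A.normalizerMonoidHom ⟨b, hAn hb⟩ with hxdef
  have hx : ∀ v : A, ((x v : A) : Ω) = b * v * b⁻¹ := fun v => rfl
  have hxS : x ∈ autInducedBy S A := mem_autInducedBy.mpr ⟨b, hb, hx⟩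
  have hxG : x ∈ G := autInducedBy_le_autGroup F hmid.le hxS
  have hAcS : Nat.card S = p * Nat.card A := by rw [c.card, hmid.card]; ring
  have hxfix : ∀ v : A, x v = v ↔ (v : Ω) ∈ Z := by
    intro v
    constructor
    · intro h
      have h1 : b * v = v * b := by
        have h2 : b * v * b⁻¹ = v := (hx v).symm.trans (congrArg Subtype.val h)
        exact mul_inv_eq_iff_eq_mul.mp h2
      refine (c.Zc _).mpr ⟨hmid.le v.2, fun y hy => ?_⟩
      obtain ⟨a, ha, i, rfl⟩ := decomp hmid.le hAcS hb hbA (hAn hb) hy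
      have e1 : Commute (v : Ω) a := (hab v v.2 a ha)
      have e2 : Commute (v : Ω) (b ^ i) := (Commute.zpow_left (show Commute b v from h1) i).symm
      exact (e1.mul_right e2).eq.symm
    · intro h
      exact Subtype.ext ((hx v).trans (by rw [c.central h hb, mul_inv_cancel_right]))
  have hxd : ∀ v : A, ((x v * v⁻¹ : A) : Ω) ∈ Subgroup.zpowers s := fun v => by
    rw [Subgroup.coe_mul, hx, Subgroup.coe_inv]
    exact c.comm b hb v (hmid.le v.2)
  have hx1 : x ≠ 1 := by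
    intro h
    have h2 := Subgroup.card_le_of_le (show A ≤ Z from fun v hv =>
      (hxfix ⟨v, hv⟩).mp (by rw [h]; rfl))
    rw [hmid.card] at h2
    have := hp.out.two_le
    have := Nat.card_pos (α := Z)
    nlinarith
  -- the Sylow subgroup has order p
  have hcent : centralizerIn S A = A := le_antisymm (hc.2 A (isConj_refl F hmid.le))
    (fun v hv => mem_centralizerIn.mpr ⟨hmid.le hv, fun u hu => hab u hu v hv⟩)
  have hXcard : Nat.card (autInducedBy S A) = p := by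
    have h := card_normalizerIn S A
    rw [hcent, show normalizerIn S A = S from inf_eq_left.mpr hAn, hAcS] at h
    exact (Nat.eq_of_mul_eq_mul_right Nat.card_pos h).symm
  obtain ⟨R, hR⟩ := (fullyAutomized_of_fullyNormalized c.hS hF hfn).2
  have hsyl : ∀ M : Subgroup (MulAut A), M ≤ G → IsPGroup p M → x ∈ M →
      M = Subgroup.zpowers x := by
    intro M hMG hMp hxM
    refine (Subgroup.eq_of_le_of_card_ge (Subgroup.zpowers_le.mpr hxM) ?_).symm
    obtain ⟨T, hT⟩ :=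
      (hMp.of_equiv (Subgroup.subgroupOfEquivOfLe hMG).symm).exists_le_sylow
    have h1 := Subgroup.card_le_of_le hT
    rw [Nat.card_congr (Subgroup.subgroupOfEquivOfLe hMG).toEquiv, T.card_eq_multiplicity,
      ← R.card_eq_multiplicity, hR,
      Nat.card_congr (Subgroup.subgroupOfEquivOfLe (autInducedBy_le_autGroup F hmid.le)).toEquiv,
      hXcard] at h1
    refine h1.trans ?_
    have h2 : orderOf x = p := by
      refine ((Nat.dvd_prime hp.out).mp ?_).resolve_left (by rwa [orderOf_eq_one_iff])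
      rw [← hXcard, ← Subgroup.orderOf_mk _ hxS]
      exact orderOf_dvd_natCard _
    rw [Nat.card_zpowers, h2]
  have hInd : autInducedBy S A = Subgroup.zpowers x :=
    hsyl _ (autInducedBy_le_autGroup F hmid.le) (isPGroup_autInducedBy c.hS A) hxS
  have hxp : IsPGroup p (Subgroup.zpowers x) := hInd ▸ isPGroup_autInducedBy c.hS A
  obtain ⟨γ0, hγ0, hγ0x⟩ : ∃ γ ∈ G, γ * x * γ⁻¹ ∉ Subgroup.zpowers x := by
    by_contra! hno
    let X := (Subgroup.zpowers x).subgroupOf G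
    have hXle : Subgroup.zpowers x ≤ G := Subgroup.zpowers_le.mpr hxG
    have hXn : X.Normal := ⟨fun n hn g => by
      obtain ⟨i, hi⟩ := Subgroup.mem_subgroupOf.mp hn
      refine Subgroup.mem_subgroupOf.mpr ?_
      rw [Subgroup.coe_mul, Subgroup.coe_mul, Subgroup.coe_inv, ← hi, ← conj_zpow]
      exact Subgroup.zpow_mem _ (hno g g.2) i⟩
    have hXp : IsPGroup p X := hxp.of_equiv (Subgroup.subgroupOfEquivOfLe hXle).symm
    have h1 : x ∈ (pCore p G).map G.subtype :=
      ⟨⟨x, hxG⟩, Lib.Cores.le_pCore hXp (Subgroup.mem_subgroupOf.mpr (Subgroup.mem_zpowers x)), rfl⟩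
    rw [hr.2] at h1
    obtain ⟨a, ha⟩ := h1
    refine hx1 ?_
    rw [← ha]
    exact MulEquiv.ext fun v => Subtype.ext (by
      simp [MulAut.conj_apply, hab (a : Ω) a.2 v v.2])
  set sA : A := ⟨s, hmid.above c.smem⟩ with hsA
  have hxs : x sA = sA := (hxfix sA).mpr c.smem
  obtain ⟨v1, hv1⟩ : ∃ v : A, x v * v⁻¹ ≠ 1 := by
    by_contra! h
    exact hx1 (MulEquiv.ext fun v => mul_inv_eq_one.mp (h v))
  have hzs : ∀ z : A, (z : Ω) ∈ Subgroup.zpowers s → ∃ i : ℤ, z = sA ^ i := by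
    rintro z ⟨i, hi⟩
    exact ⟨i, Subtype.ext (by rw [Subgroup.coe_zpow]; exact hi.symm)⟩
  -- a normalising automorphism preserves the axis and centre
  have hnorm : ∀ γ : MulAut A, γ * x * γ⁻¹ ∈ Subgroup.zpowers x →
      (∀ v : A, (v : Ω) ∈ Z → ((γ v : A) : Ω) ∈ Z) ∧ ((γ sA : A) : Ω) ∈ Subgroup.zpowers s := by
    intro γ hγ
    obtain ⟨m, hm⟩ := (isOfFinOrder_of_finite x).mem_powers_iff_mem_zpowers.mpr hγ
    have hm' : x ^ m = γ * x * γ⁻¹ := hm
    have hxm : ∀ v : A, x v = v → (x ^ m) v = v := fun v hv => by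
      have : x ∈ MulAction.stabilizer (MulAut A) v := hv
      exact (MulAction.stabilizer (MulAut A) v).pow_mem this m
    have hγv : ∀ v : A, (x ^ m) (γ v) = γ (x v) := fun v => by
      rw [hm']; simp [MulAut.mul_apply]
    refine ⟨fun v hv => ?_, ?_⟩
    · -- the fixed points of a generator are those of `x`
      refine (hxfix _).mp ?_
      have hne : x ^ m ≠ 1 := by
        rw [hm']; intro h
        exact hx1 (by simpa [mul_assoc] using congrArg (fun g => γ⁻¹ * g * γ) h)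
      have hpow : x ∈ Subgroup.zpowers (x ^ m) := by
        have hcard : Nat.card (Subgroup.zpowers x) = p := hInd ▸ hXcard
        have hne' : (⟨x ^ m, Subgroup.npow_mem_zpowers x m⟩ : Subgroup.zpowers x) ≠ 1 := fun h =>
          hne (congrArg Subtype.val h)
        have h2 := mem_zpowers_of_prime_card hcard hne' (g' := ⟨x, Subgroup.mem_zpowers x⟩)
        obtain ⟨j, hj⟩ := h2
        exact ⟨j, congrArg Subtype.val hj⟩
      have hfixm : x ^ m ∈ MulAction.stabilizer (MulAut A) (γ v) := by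
        show (x ^ m) (γ v) = γ v
        rw [hγv, (hxfix v).mpr hv]
      exact Subgroup.zpowers_le.mpr hfixm hpow
    · -- the image of a commutator
      have h1 : ∀ (j : ℕ) (v : A), (((x ^ j) v * v⁻¹ : A) : Ω) ∈ Subgroup.zpowers s := by
        intro j
        induction j with
        | zero => intro v; simp
        | succ j ih =>
          intro v
          rw [pow_succ, MulAut.mul_apply]
          have := Subgroup.mul_mem _ (ih (x v)) (hxd v)
          simpa [mul_assoc] using this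
      have h2 : ((γ (x v1 * v1⁻¹) : A) : Ω) ∈ Subgroup.zpowers s := by
        rw [map_mul, map_inv, ← hγv]
        exact h1 m (γ v1)
      obtain ⟨i, hi⟩ := hzs _ (hxd v1)
      obtain ⟨j, hj⟩ := exists_pow_eq (p := p) (s := s) c.spow (hxd v1)
        (fun h => hv1 (Subtype.ext h)) (Subgroup.mem_zpowers s)
      have hsA' : sA = (x v1 * v1⁻¹) ^ j := Subtype.ext (by rw [Subgroup.coe_pow]; exact hj.symm)
      rw [hsA', map_pow, Subgroup.coe_pow]
      exact Subgroup.pow_mem _ h2 j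
  -- an automorphism moving the centre into `Z` normalises
  have hgen : ∀ γ ∈ G, ((γ sA : A) : Ω) ∈ Z → γ * x * γ⁻¹ ∈ Subgroup.zpowers x := by
    intro γ hγ hr'
    set y := γ * x * γ⁻¹ with hy
    set r : A := γ sA with hrdef
    have hxr : x r = r := (hxfix r).mpr hr'
    have hyr : y r = r := by simp [hy, hrdef, MulAut.mul_apply, hxs]
    let L : Subgroup A := Subgroup.zpowers r ⊔ Subgroup.zpowers sA
    have hr0 : ∀ (α : MulAut A), α r = r → ∀ l ∈ Subgroup.zpowers r, α l = l := by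
      rintro α hα _ ⟨i, rfl⟩
      simp only [map_zpow, hα]
    let M : Subgroup (MulAut A) :=
      { carrier := {α | α r = r ∧ α sA * sA⁻¹ ∈ Subgroup.zpowers r ∧ ∀ v, α v * v⁻¹ ∈ L}
        one_mem' := ⟨rfl, by simp, fun v => by simp⟩
        mul_mem' := by
          intro a b ha hb
          have hL : ∀ l ∈ L, a l ∈ L := fun l hl => by
            have := L.mul_mem (ha.2.2 l) hl
            simpa using this
          refine ⟨by rw [MulAut.mul_apply, hb.1, ha.1], ?_, fun v => ?_⟩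
          · have h := Subgroup.mul_mem _ hb.2.1 ha.2.1
            rw [← hr0 a ha.1 _ hb.2.1, map_mul, map_inv] at h
            rw [MulAut.mul_apply]
            simpa [mul_assoc] using h
          · have h := L.mul_mem (hL _ (hb.2.2 v)) (ha.2.2 v)
            rw [map_mul, map_inv] at h
            rw [MulAut.mul_apply]
            simpa [mul_assoc] using h
        inv_mem' := by
          intro a ha
          have hL : ∀ l ∈ L, a⁻¹ l ∈ L := fun l hl => by
            have := L.mul_mem (L.inv_mem (ha.2.2 (a⁻¹ l))) hl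
            simpa [MulAut.apply_inv_self] using this
          have hr1 : a⁻¹ r = r := by
            nth_rewrite 1 [← ha.1]
            simp
          refine ⟨hr1, ?_, fun v => ?_⟩
          · have h := hr0 a⁻¹ hr1 _ (Subgroup.inv_mem _ ha.2.1)
            have h' : a⁻¹ sA * sA⁻¹ = (a sA * sA⁻¹)⁻¹ := by
              rw [← h, map_inv, map_mul, map_inv]; simp
            rw [h']
            exact Subgroup.inv_mem _ ha.2.1
          · have h := hL _ (L.inv_mem (ha.2.2 v))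
            simpa [map_mul, map_inv] using h }
    have hxM : x ∈ M := by
      refine ⟨hxr, by simp [hxs], fun v => ?_⟩
      obtain ⟨i, hi⟩ := hzs _ (hxd v)
      rw [hi]
      exact Subgroup.mem_sup_right (Subgroup.zpow_mem_zpowers _ _)
    have hyd : ∀ v, y v * v⁻¹ ∈ Subgroup.zpowers r := fun v => by
      obtain ⟨i, hi⟩ := hzs _ (hxd (γ⁻¹ v))
      refine ⟨i, ?_⟩
      have h := congrArg γ hi
      rw [map_mul, map_inv, map_zpow, MulAut.apply_inv_self] at h
      simp only [hy, MulAut.mul_apply]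
      exact h.symm
    have hyM : y ∈ M := ⟨hyr, hyd sA, fun v => Subgroup.mem_sup_left (hyd v)⟩
    have hMp : IsPGroup p (M ⊓ G : Subgroup (MulAut A)) := by
      rintro ⟨α, hαM, hαG⟩
      refine ⟨2, Subtype.ext ?_⟩
      show α ^ p ^ 2 = 1
      have hrp : r ^ p = 1 := by
        rw [hrdef, ← map_pow, show sA ^ p = 1 from Subtype.ext (by simpa using c.spow), map_one]
      have hLab : ∀ a b : A, a * b = b * a := fun a b => Subtype.ext (hab a a.2 b b.2)
      let : CommGroup A := { (inferInstance : Group A) with mul_comm := hLab }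
      have hL2 : ∀ l ∈ L, ∃ l1 ∈ Subgroup.zpowers r, α l * l⁻¹ = l1 ∧ l ^ p = 1 := by
        intro l hl
        obtain ⟨a, ⟨i, rfl⟩, b, ⟨j, rfl⟩, rfl⟩ := Subgroup.mem_sup.mp hl
        refine ⟨(α sA * sA⁻¹) ^ j, Subgroup.zpow_mem _ hαM.2.1 j, ?_, ?_⟩
        · simp only [map_mul, map_zpow, hαM.1, mul_inv_rev, mul_zpow, inv_zpow]
          simp [mul_assoc, mul_comm, mul_left_comm]
        · rw [mul_pow, ← zpow_natCast, ← zpow_mul, mul_comm i, zpow_mul, zpow_natCast, hrp,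
            one_zpow, one_mul, ← zpow_natCast, ← zpow_mul, mul_comm j, zpow_mul, zpow_natCast,
            show sA ^ p = 1 from Subtype.ext (by simpa using c.spow), one_zpow]
      refine MulEquiv.ext fun v => ?_
      show (α ^ p ^ 2) v = v
      obtain ⟨q, hq, hq', hlp⟩ := hL2 _ (hαM.2.2 v)
      have hexp : ∀ n : ℕ, (α ^ n) v = v * (α v * v⁻¹) ^ n * q ^ n.choose 2 := by
        intro n
        induction n with
        | zero => simp
        | succ n ih =>
          have hαl : α (α v * v⁻¹) = (α v * v⁻¹) * q := by rw [← hq']; simp [mul_assoc, mul_comm, mul_left_comm]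
          have hαv : α v = v * (α v * v⁻¹) := by simp [mul_assoc, mul_comm, mul_left_comm]
          rw [pow_succ', MulAut.mul_apply, ih, map_mul, map_mul, map_pow, map_pow, hαl,
            hr0 α hαM.1 q hq, Nat.choose_succ_succ, Nat.choose_one_right, mul_pow, pow_succ,
            pow_add]
          nth_rewrite 1 [hαv]
          simp only [mul_assoc, mul_comm, mul_left_comm]
      have hqp : q ^ p = 1 := by
        obtain ⟨i, rfl⟩ := hq
        show (r ^ i) ^ p = 1
        rw [← zpow_natCast, ← zpow_mul, mul_comm, zpow_mul, zpow_natCast, hrp, one_zpow]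
      obtain ⟨k, hk⟩ := hp.out.dvd_choose_pow (n := 2) (k := 2) (by norm_num) (by
        have := hp.out.two_le
        nlinarith)
      rw [hexp, hk, pow_mul, hqp, one_pow, mul_one, pow_two, pow_mul, hlp, one_pow, mul_one]
    have hyG : y ∈ G := G.mul_mem (G.mul_mem hγ hxG) (G.inv_mem hγ)
    have h := hsyl _ inf_le_right hMp ⟨hxM, hxG⟩
    exact h ▸ ⟨hyM, hyG⟩
  -- the generic pair
  set s' : A := γ0 sA with hs'def
  have hs'Z : (s' : Ω) ∉ Z := fun h => hγ0x (hgen γ0 hγ0 h)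
  have hZn : ∀ t : A, (t : Ω) ∈ Subgroup.normalizer (Z : Set Ω) := fun t =>
    normal_of_above c c.ZS c.smem (hmid.le t.2)
  have hsp' : s' ^ p = 1 := by
    rw [hs'def, ← map_pow, show sA ^ p = 1 from Subtype.ext (by simpa using c.spow), map_one]
  have helem : ∀ v : A, v ^ p = 1 := by
    intro v
    obtain ⟨z, hz, i, hv⟩ := decomp hmid.above hmid.card s'.2 hs'Z (hZn s') v.2
    have hzc : Commute z ((s' : Ω) ^ i) := hab z (hmid.above hz) _ (A.zpow_mem s'.2 i)
    apply Subtype.ext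
    rw [Subgroup.coe_pow, hv, hzc.mul_pow, c.Zp z hz, one_mul, ← zpow_natCast, ← zpow_mul,
      mul_comm, zpow_mul, zpow_natCast, ← Subgroup.coe_pow, hsp', Subgroup.coe_one, one_zpow]
  let : CommGroup A :=
    { (inferInstance : Group A) with mul_comm := fun a b => Subtype.ext (hab a a.2 b b.2) }
  let ZA : Subgroup A := Z.subgroupOf A
  let Z' : Subgroup A := ZA.map γ0.toMonoidHom
  let K0 : Subgroup A := ZA ⊓ Z'
  let W0 : Subgroup A := Subgroup.zpowers sA ⊔ Subgroup.zpowers s'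
  have hsZ' : sA ∉ Z' := by
    rintro ⟨w, hw, hwe⟩
    have h1 : γ0⁻¹ sA = w := by rw [← hwe]; simp
    have h2 := hgen γ0⁻¹ (G.inv_mem hγ0) (by rw [h1]; exact hw)
    refine hγ0x ?_
    obtain ⟨m, hm⟩ := (isOfFinOrder_of_finite x).mem_powers_iff_mem_zpowers.mpr h2
    have hcard : Nat.card (Subgroup.zpowers x) = p := hInd ▸ hXcard
    have hne' : (⟨γ0⁻¹ * x * γ0⁻¹⁻¹, h2⟩ : Subgroup.zpowers x) ≠ 1 := fun h => hx1 (by
      simpa [mul_assoc] using congrArg (fun g : Subgroup.zpowers x => γ0 * (g : MulAut A) * γ0⁻¹) h)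
    obtain ⟨j, hj⟩ := mem_zpowers_of_prime_card hcard hne' (g' := ⟨x, Subgroup.mem_zpowers x⟩)
    have hj' : (γ0⁻¹ * x * γ0⁻¹⁻¹) ^ j = x := congrArg Subtype.val hj
    refine ⟨j, ?_⟩
    show x ^ j = γ0 * x * γ0⁻¹
    conv_rhs => rw [← hj', conj_zpow]
    group
  have hZAcard : Nat.card ZA = Nat.card Z :=
    Nat.card_congr (Subgroup.subgroupOfEquivOfLe hmid.above).toEquiv
  have hZ'card : Nat.card Z' = Nat.card Z := by
    rw [← hZAcard]
    exact (Nat.card_congr (ZA.equivMapOfInjective _ γ0.injective).toEquiv).symm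
  -- decomposition in `A`
  have hdecA : ∀ v : A, ∃ k ∈ K0, ∃ i j : ℤ, v = k * sA ^ j * s' ^ i := by
    intro v
    obtain ⟨z, hz, i, hv⟩ := decomp hmid.above hmid.card s'.2 hs'Z (hZn s') v.2
    let zA : A := ⟨z, hmid.above hz⟩
    have hAcard : Nat.card (⊤ : Subgroup A) = p * Nat.card Z' := by
      rw [Subgroup.card_top, hmid.card, hZ'card]
    obtain ⟨w, hw, j, hzw⟩ := decomp (A := (⊤ : Subgroup A)) le_top hAcard
      (Subgroup.mem_top sA) hsZ'
      (Subgroup.mem_normalizer_iff.mpr fun h => by rw [mul_inv_cancel_comm]) (Subgroup.mem_top zA)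
    refine ⟨w, ⟨?_, hw⟩, i, j, ?_⟩
    · show (w : Ω) ∈ Z
      have e : w = zA * (sA ^ j)⁻¹ := by rw [hzw, mul_inv_cancel_right]
      rw [e, Subgroup.coe_mul, Subgroup.coe_inv, Subgroup.coe_zpow]
      exact Z.mul_mem hz (Z.inv_mem (Z.zpow_mem c.smem j))
    · rw [← hzw]
      exact Subtype.ext (by rw [Subgroup.coe_mul, Subgroup.coe_zpow]; exact hv)
  have hKfix : ∀ k ∈ K0, x k = k := fun k hk => (hxfix k).mpr hk.1
  have hs'x : x s' ≠ s' := fun h => hs'Z ((hxfix s').mp h)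
  -- every axis contains `K0`, every centre lies in `W0`
  have hax : ∀ γ ∈ G, (∀ k ∈ K0, k ∈ ZA.map γ.toMonoidHom) ∧ γ sA ∈ W0 := by
    intro γ hγ
    have hnormalising : γ * x * γ⁻¹ ∈ Subgroup.zpowers x →
        (∀ k ∈ K0, k ∈ ZA.map γ.toMonoidHom) ∧ γ sA ∈ W0 := by
      intro h
      obtain ⟨h1, h2⟩ := hnorm γ h
      have himg : ZA.map γ.toMonoidHom = ZA :=
        Subgroup.eq_of_le_of_card_ge (by rintro _ ⟨w, hw, rfl⟩; exact h1 w hw)
          (Nat.card_congr (ZA.equivMapOfInjective _ γ.injective).toEquiv).le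
      refine ⟨fun k hk => himg.symm ▸ hk.1, ?_⟩
      obtain ⟨i, hi⟩ := hzs _ h2
      rw [hi]
      exact Subgroup.mem_sup_left (Subgroup.zpow_mem_zpowers _ _)
    obtain ⟨k, hk, i, j, hr'⟩ := hdecA (γ sA)
    by_cases hu : x (k * s' ^ i) = k * s' ^ i
    · refine hnormalising (hgen γ hγ ?_)
      have h1 : ((k * s' ^ i : A) : Ω) ∈ Z := (hxfix _).mp hu
      rw [hr', show k * sA ^ j * s' ^ i = k * s' ^ i * sA ^ j by
        simp [mul_assoc, mul_comm, mul_left_comm], Subgroup.coe_mul, Subgroup.coe_zpow]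
      exact Z.mul_mem h1 (Z.zpow_mem c.smem j)
    · set u := k * s' ^ i with hudef
      obtain ⟨n, hn⟩ := exists_pow_eq (p := p) (s := s) c.spow (hxd u)
        (fun h => hu (mul_inv_eq_one.mp (Subtype.ext h))) (Subgroup.zpow_mem_zpowers s j)
      have hxn : ∀ n : ℕ, (x ^ n) u = u * (x u * u⁻¹) ^ n := by
        intro n
        induction n with
        | zero => simp
        | succ n ih =>
          obtain ⟨a, ha⟩ := hzs _ (hxd u)
          have hfix : x (x u * u⁻¹) = x u * u⁻¹ := by rw [ha, map_zpow, hxs]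
          rw [pow_succ', MulAut.mul_apply, ih, map_mul, map_pow, hfix, pow_succ']
          simp [mul_assoc, mul_comm, mul_left_comm]
      have hval : γ sA = (x ^ n) u := by
        have hn' : (x u * u⁻¹) ^ n = sA ^ j := Subtype.ext (by
          rw [Subgroup.coe_pow, Subgroup.coe_zpow]; exact hn)
        rw [hxn, hn', hr', hudef]
        simp [mul_assoc, mul_comm, mul_left_comm]
      have huZ' : u ∈ Z' := by
        refine Z'.mul_mem hk.2 (Z'.zpow_mem ⟨sA, c.smem, rfl⟩ i)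
      obtain ⟨w, hw, hwu⟩ := huZ'
      set β := (x ^ n * γ0)⁻¹ * γ with hβ
      have hδ : x ^ n * γ0 ∈ G := G.mul_mem (G.pow_mem hxG n) hγ0
      have hβG : β ∈ G := G.mul_mem (G.inv_mem hδ) hγ
      have hβs : β sA = w := by
        rw [hβ, MulAut.mul_apply, hval, ← hwu]
        simp [MulAut.mul_apply]
      obtain ⟨h1, h2⟩ := hnorm β (hgen β hβG (by rw [hβs]; exact hw))
      have hγe : ∀ v, γ v = (x ^ n) (γ0 (β v)) := fun v => by simp [hβ, MulAut.mul_apply]
      have hxnfix : ∀ v : A, x v = v → (x ^ n) v = v := fun v hv => by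
        have : x ∈ MulAction.stabilizer (MulAut A) v := hv
        exact (MulAction.stabilizer (MulAut A) v).pow_mem this n
      refine ⟨fun k hk => ?_, ?_⟩
      · obtain ⟨z, hz, hzk⟩ := hk.2
        have hzb : z ∈ ZA.map β.toMonoidHom := by
          have himg : ZA.map β.toMonoidHom = ZA :=
            Subgroup.eq_of_le_of_card_ge (by rintro _ ⟨w, hw, rfl⟩; exact h1 w hw)
              (Nat.card_congr (ZA.equivMapOfInjective _ β.injective).toEquiv).le
          rw [himg]; exact hz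
        obtain ⟨z', hz', rfl⟩ := hzb
        refine ⟨z', hz', ?_⟩
        show γ z' = k
        rw [hγe, show γ0 (β z') = k from hzk, hxnfix k (hKfix k hk)]
      · obtain ⟨a, ha⟩ := hzs _ h2
        rw [hγe, ha, map_zpow, map_zpow]
        refine Subgroup.zpow_mem _ ?_ a
        obtain ⟨l, hl⟩ := hzs _ (hxd s')
        have hx' : ∀ n : ℕ, (x ^ n) s' = s' * (sA ^ l) ^ n := by
          intro n
          induction n with
          | zero => simp
          | succ n ih =>
            rw [pow_succ', MulAut.mul_apply, ih, map_mul, map_pow, map_zpow, hxs, pow_succ',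
              show x s' = sA ^ l * s' by rw [← hl]; simp]
            simp [mul_assoc, mul_comm, mul_left_comm]
        show (x ^ n) s' ∈ W0
        rw [hx']
        exact W0.mul_mem (Subgroup.mem_sup_right (Subgroup.mem_zpowers _))
          (W0.pow_mem (Subgroup.mem_sup_left (Subgroup.zpow_mem_zpowers _ _)) n)
  -- invariance
  have hKinv : ∀ γ ∈ G, ∀ v ∈ K0, γ v ∈ K0 := by
    intro γ hγ v hv
    obtain ⟨w, hw, hwv⟩ := (hax γ⁻¹ (G.inv_mem hγ)).1 v hv
    obtain ⟨w', hw', hwv'⟩ := (hax (γ⁻¹ * γ0) (G.mul_mem (G.inv_mem hγ) hγ0)).1 v hv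
    change γ⁻¹ w = v at hwv
    change (γ⁻¹ * γ0) w' = v at hwv'
    constructor
    · rw [← hwv]; simpa using hw
    · refine ⟨w', hw', ?_⟩
      show γ0 w' = γ v
      rw [← hwv']; simp [MulAut.mul_apply]
  have hWinv : ∀ γ ∈ G, ∀ v ∈ W0, γ v ∈ W0 := by
    intro γ hγ v hv
    have hle : W0 ≤ W0.comap γ.toMonoidHom := by
      refine sup_le (Subgroup.zpowers_le.mpr (hax γ hγ).2) (Subgroup.zpowers_le.mpr ?_)
      show γ s' ∈ W0
      rw [hs'def, ← MulAut.mul_apply]
      exact (hax _ (G.mul_mem hγ hγ0)).2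
    exact hle hv
  -- normalised transvections and extensions
  set y := γ0 * x * γ0⁻¹ with hy
  have hys' : y s' = s' := by simp [hy, hs'def, MulAut.mul_apply, hxs]
  have hyK : ∀ k ∈ K0, y k = k := by
    intro k hk
    obtain ⟨z, hz, rfl⟩ := hk.2
    simp [hy, MulAut.mul_apply, (hxfix z).mpr hz]
  have hyG : y ∈ G := G.mul_mem (G.mul_mem hγ0 hxG) (G.inv_mem hγ0)
  -- normalised transvections
  obtain ⟨n, hn⟩ := exists_pow_eq (p := p) (s := s) c.spow (hxd s')
    (fun h => hs'x (mul_inv_eq_one.mp (Subtype.ext h))) (Subgroup.mem_zpowers s)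
  have hxl : ∃ x1 ∈ G, (∀ k ∈ K0, x1 k = k) ∧ x1 sA = sA ∧ x1 s' = s' * sA := by
    refine ⟨x ^ n, G.pow_mem hxG n, fun k hk => ?_, ?_, ?_⟩
    · exact (MulAction.stabilizer (MulAut A) k).pow_mem (show x ∈ MulAction.stabilizer (MulAut A) k
        from hKfix k hk) n
    · exact (MulAction.stabilizer (MulAut A) sA).pow_mem
        (show x ∈ MulAction.stabilizer (MulAut A) sA from hxs) n
    · obtain ⟨l, hl⟩ := hzs _ (hxd s')
      have hfix : x (x s' * s'⁻¹) = x s' * s'⁻¹ := by rw [hl, map_zpow, hxs]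
      have hx' : ∀ n : ℕ, (x ^ n) s' = s' * (x s' * s'⁻¹) ^ n := by
        intro n
        induction n with
        | zero => simp
        | succ n ih =>
          rw [pow_succ', MulAut.mul_apply, ih, map_mul, map_pow, hfix, pow_succ']
          simp [mul_assoc, mul_comm, mul_left_comm]
      rw [hx']
      congr 1
      exact Subtype.ext (by rw [Subgroup.coe_pow]; exact hn)
  have hyl : ∃ y1 ∈ G, (∀ k ∈ K0, y1 k = k) ∧ y1 s' = s' ∧ y1 sA = sA * s'⁻¹ := by
    have hys : y sA ≠ sA := by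
      intro h
      refine hsZ' ⟨γ0⁻¹ sA, (hxfix _).mp ?_, by simp⟩
      apply γ0.injective
      simpa [hy, MulAut.mul_apply] using h
    obtain ⟨l, hl⟩ : ∃ l : ℤ, y sA * sA⁻¹ = s' ^ l := by
      obtain ⟨l, hl⟩ := hzs _ (hxd (γ0⁻¹ sA))
      refine ⟨l, ?_⟩
      have h := congrArg γ0 hl
      rw [map_mul, map_inv, map_zpow, MulAut.apply_inv_self] at h
      simpa [hy, MulAut.mul_apply] using h
    obtain ⟨m, hm⟩ := exists_pow_eq (p := p) (s := s') hsp'
      (hl ▸ Subgroup.zpow_mem_zpowers s' l) (fun h => hys (mul_inv_eq_one.mp h))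
      (Subgroup.inv_mem _ (Subgroup.mem_zpowers s'))
    refine ⟨y ^ m, G.pow_mem hyG m, fun k hk => ?_, ?_, ?_⟩
    · exact (MulAction.stabilizer (MulAut A) k).pow_mem (show y ∈ MulAction.stabilizer (MulAut A) k
        from hyK k hk) m
    · exact (MulAction.stabilizer (MulAut A) s').pow_mem
        (show y ∈ MulAction.stabilizer (MulAut A) s' from hys') m
    · have hfix : y (y sA * sA⁻¹) = y sA * sA⁻¹ := by rw [hl, map_zpow, hys']
      have hy' : ∀ n : ℕ, (y ^ n) sA = sA * (y sA * sA⁻¹) ^ n := by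
        intro n
        induction n with
        | zero => simp
        | succ n ih =>
          rw [pow_succ', MulAut.mul_apply, ih, map_mul, map_pow, hfix, pow_succ']
          simp [mul_assoc, mul_comm, mul_left_comm]
      rw [hy', hm]
  obtain ⟨x1, hx1G, hx1K, hx1s, hx1s'⟩ := hxl
  obtain ⟨y1, hy1G, hy1K, hy1s', hy1s⟩ := hyl
  set w := x1 * y1 * x1 with hw
  have hws : w sA = s'⁻¹ := by
    rw [hw, MulAut.mul_apply, MulAut.mul_apply, hx1s, hy1s, map_mul, hx1s, map_inv, hx1s']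
    group
  have hws' : w s' = sA := by
    rw [hw, MulAut.mul_apply, MulAut.mul_apply, hx1s', map_mul, hy1s', hy1s, map_mul, map_mul,
      hx1s, map_inv, hx1s']
    simp [mul_assoc, mul_comm, mul_left_comm]
  have hwG : w ∈ G := G.mul_mem (G.mul_mem hx1G hy1G) hx1G
  have hwK : ∀ k ∈ K0, w k = k := fun k hk => by
    simp [hw, MulAut.mul_apply, hx1K k hk, hy1K k hk]
  have hnx : ∀ ν ∈ G, ν * x * ν⁻¹ ∈ Subgroup.zpowers x →
      ∃ ψ ∈ F.autGroup S, ∀ (v : A) (vS : S), (vS : Ω) = v → ((ν v : A) : Ω) = (ψ vS : S) := by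
    intro ν hν hn
    obtain ⟨ψ, hψ, hψe⟩ := Lib.FusionP3.Induction.exists_extend_aut (R := S)
      (receptive_of_fullyNormalized c.hS hF hfn) (le_inf le_rfl hAn) hν (by
        intro g hg
        have hgX : A.normalizerMonoidHom ⟨g, hAn hg⟩ ∈ Subgroup.zpowers x := by
          rw [← hInd]; exact mem_autInducedBy.mpr ⟨g, hg, fun v => rfl⟩
        obtain ⟨i, hi⟩ := hgX
        have hc' : ν * A.normalizerMonoidHom ⟨g, hAn hg⟩ * ν⁻¹ ∈ autInducedBy S A := by
          rw [hInd, ← hi, ← conj_zpow]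
          exact Subgroup.zpow_mem _ hn i
        obtain ⟨h, hh, he⟩ := mem_autInducedBy.mp hc'
        refine ⟨h, hh, fun v hv => ?_⟩
        rw [← he, MulAut.mul_apply, MulAut.mul_apply, MulAut.inv_apply_self]
        rfl)
    have hψr : ψ.range = S := range_eq_of_mem hψ (fun v => apply_mem hψ v) le_rfl
    refine ⟨homEquiv hψ hψr, homEquiv_mem_autGroup hψ hψr, fun v vS hv => ?_⟩
    rw [homEquiv_coe]
    obtain ⟨vS, hvS⟩ := vS
    change vS = (v : Ω) at hv
    subst hv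
    exact (hψe v v.2 hvS).symm
  refine ⟨K0.map A.subtype, W0.map A.subtype, ?_⟩
  have hmemK : ∀ v : A, (v : Ω) ∈ K0.map A.subtype ↔ v ∈ K0 := fun v =>
    Subgroup.mem_map_iff_mem A.subtype_injective
  have hKcard : Nat.card Z = p * Nat.card K0 := by
    have hsd : ∀ z ∈ ZA, ∃ k ∈ K0, ∃ j : ℤ, z = k * sA ^ j := by
      intro z hz
      obtain ⟨k, hk, i, j, rfl⟩ := hdecA z
      have h2 : x (s' ^ i) = s' ^ i := by
        have := (hxfix (k * sA ^ j * s' ^ i)).mpr hz
        rwa [map_mul, map_mul, hKfix k hk, map_zpow, hxs, mul_right_inj] at this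
      by_cases hpi : s' ^ i = 1
      · exact ⟨k, hk, j, by rw [hpi, mul_one]⟩
      · exfalso
        have hsi : ((s' ^ i : A) : Ω) ∈ Z := (hxfix _).mp h2
        have hgen' : (s' : Ω) ∈ Subgroup.zpowers ((s' ^ i : A) : Ω) := by
          obtain ⟨n, hn⟩ := exists_pow_eq (p := p) (s := (s' : Ω))
            (by rw [← Subgroup.coe_pow, hsp']; rfl) (by
              rw [Subgroup.coe_zpow]; exact Subgroup.zpow_mem_zpowers _ _)
            (fun h => hpi (Subtype.ext h)) (Subgroup.mem_zpowers _)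
          rw [← hn]; exact Subgroup.npow_mem_zpowers _ n
        exact hs'Z (Subgroup.zpowers_le.mpr hsi hgen')
    rw [← hZAcard]
    have hbij : Function.Bijective (fun z : K0 × Subgroup.zpowers sA =>
        (⟨(z.1 : A) * z.2, ZA.mul_mem z.1.2.1 (Subgroup.zpowers_le.mpr
          (show sA ∈ ZA from c.smem) z.2.2)⟩ : ZA)) := by
      constructor
      · rintro ⟨⟨a, ha⟩, ⟨b, hb⟩⟩ ⟨⟨a', ha'⟩, ⟨b', hb'⟩⟩ h
        have h1 : a * b = a' * b' := congrArg Subtype.val h
        have h2 : b * b'⁻¹ ∈ Z' := by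
          rw [show b * b'⁻¹ = a⁻¹ * a' by
            calc b * b'⁻¹ = a⁻¹ * (a * b) * b'⁻¹ := by group
              _ = a⁻¹ * a' := by rw [h1]; group]
          exact Z'.mul_mem (Z'.inv_mem ha.2) ha'.2
        have hbb : b * b'⁻¹ = 1 := by
          by_contra hne
          have hin : b * b'⁻¹ ∈ Subgroup.zpowers sA :=
            Subgroup.mul_mem _ hb (Subgroup.inv_mem _ hb')
          obtain ⟨n, hn⟩ := exists_pow_eq (p := p) (s := sA)
            (Subtype.ext (by simpa using c.spow)) hin hne (Subgroup.mem_zpowers sA)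
          exact hsZ' (hn ▸ Z'.pow_mem h2 n)
        have hb2 : b = b' := mul_inv_eq_one.mp hbb
        subst hb2
        have ha2 : a = a' := mul_right_cancel h1
        subst ha2
        rfl
      · rintro ⟨z, hz⟩
        obtain ⟨k, hk, j, rfl⟩ := hsd z hz
        exact ⟨⟨⟨k, hk⟩, ⟨_, Subgroup.zpow_mem_zpowers sA j⟩⟩, rfl⟩
    rw [← Nat.card_eq_of_bijective _ hbij, Nat.card_prod, Nat.card_zpowers,
      orderOf_eq_prime (Subtype.ext (by simpa using c.spow) : sA ^ p = 1)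
        (fun h => c.sne (congrArg Subtype.val h)), mul_comm]
  refine
    { KZ := fun v hv => by obtain ⟨w, hw, rfl⟩ := hv; exact hw.1
      Kcard := by
        rw [hKcard, Nat.card_congr (K0.equivMapOfInjective _ A.subtype_injective).toEquiv]
      sK := fun h => hsZ' ((hmemK sA).mp h).2
      WA := Subgroup.map_subtype_le _
      sW := ⟨sA, Subgroup.mem_sup_left (Subgroup.mem_zpowers _), rfl⟩
      Wcard := ?_
      elem := fun v hv => congrArg Subtype.val (helem ⟨v, hv⟩)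
      split := fun v hv => ?_
      Kinv := fun γ hγ v hv => (hmemK _).mpr (hKinv γ hγ v ((hmemK v).mp hv))
      Winv := fun γ hγ v hv => (Subgroup.mem_map_iff_mem A.subtype_injective).mpr
        (hWinv γ hγ v ((Subgroup.mem_map_iff_mem A.subtype_injective).mp hv))
      ext2 := ?_
      refl := ?_ }
  · rw [← Nat.card_congr (W0.equivMapOfInjective _ A.subtype_injective).toEquiv, pow_two]
    have hn : Subgroup.zpowers sA ≤ Subgroup.normalizer (Subgroup.zpowers s' : Set A) := fun g _ =>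
      Subgroup.mem_normalizer_iff.mpr fun h => by rw [mul_inv_cancel_comm]
    have hsurj : Function.Surjective (fun z : Subgroup.zpowers sA × Subgroup.zpowers s' =>
        (⟨(z.1 : A) * z.2, W0.mul_mem (Subgroup.mem_sup_left z.1.2)
          (Subgroup.mem_sup_right z.2.2)⟩ : W0)) := by
      rintro ⟨w, hw⟩
      obtain ⟨a, ha, b, hb, rfl⟩ := Subgroup.mem_sup.mp hw
      exact ⟨⟨⟨a, ha⟩, ⟨b, hb⟩⟩, rfl⟩
    refine (Nat.card_le_card_of_surjective _ hsurj).trans ?_
    rw [Nat.card_prod, Nat.card_zpowers, Nat.card_zpowers]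
    exact Nat.mul_le_mul (Nat.le_of_dvd hp.out.pos (orderOf_dvd_of_pow_eq_one (helem sA)))
      (Nat.le_of_dvd hp.out.pos (orderOf_dvd_of_pow_eq_one (helem s')))
  · obtain ⟨k, hk, i, j, he⟩ := hdecA ⟨v, hv⟩
    refine ⟨k, (hmemK k).mpr hk, ((sA ^ j * s' ^ i : A) : Ω), ⟨sA ^ j * s' ^ i, W0.mul_mem
      (Subgroup.mem_sup_left (Subgroup.zpow_mem_zpowers sA j))
      (Subgroup.mem_sup_right (Subgroup.zpow_mem_zpowers s' i)), rfl⟩, ?_⟩
    have := congrArg Subtype.val he
    simpa [mul_assoc] using this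
  · intro hp2 γ hγ
    have hs2n : sA ^ 2 = 1 := hp2 ▸ helem sA
    have hsp2n : s' ^ 2 = 1 := hp2 ▸ helem s'
    have hs2 : sA ^ (2 : ℤ) = 1 := by rw [zpow_two, ← pow_two, hs2n]
    have hsp2 : s' ^ (2 : ℤ) = 1 := by rw [zpow_two, ← pow_two, hsp2n]
    have hws2 : w sA = s' := by
      rw [hws]; exact inv_eq_of_mul_eq_one_right (by rw [← pow_two]; exact hsp2n)
    obtain ⟨δ, hδ, hδK, hδs⟩ : ∃ δ ∈ G, (∀ k ∈ K0, δ k = k) ∧
        (((δ⁻¹ * γ) sA : A) : Ω) ∈ Z := by
      obtain ⟨a, ⟨j, rfl⟩, b, ⟨i, rfl⟩, he⟩ := Subgroup.mem_sup.mp (hax γ hγ).2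
      have hz : ∀ j : ℤ, ((sA ^ j : A) : Ω) ∈ Z := fun j => by
        rw [Subgroup.coe_zpow]; exact Z.zpow_mem c.smem j
      rcases Int.even_or_odd i with ⟨i', rfl⟩ | ⟨i', rfl⟩ <;> beta_reduce at he
      · refine ⟨1, G.one_mem, fun k _ => rfl, ?_⟩
        rw [inv_one, one_mul, ← he, ← two_mul, zpow_mul, show s' ^ (2 : ℤ) = 1 from hsp2, one_zpow,
          mul_one]
        exact hz j
      · have hb : s' ^ (2 * i' + 1) = s' := by
          rw [zpow_add, zpow_mul, show s' ^ (2 : ℤ) = 1 from hsp2, one_zpow, one_mul, zpow_one]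
        rw [hb] at he
        rcases Int.even_or_odd j with ⟨j', rfl⟩ | ⟨j', rfl⟩
        · refine ⟨w, hwG, hwK, ?_⟩
          have he' : γ sA = w sA := by
            rw [hws2, ← he, ← two_mul]
            show (sA ^ (2 * j')) * s' = s'
            rw [zpow_mul, show sA ^ (2 : ℤ) = 1 from hs2, one_zpow, one_mul]
          rw [MulAut.mul_apply, he', MulAut.inv_apply_self]
          exact c.smem
        · refine ⟨x1 * w, G.mul_mem hx1G hwG, fun k hk => by rw [MulAut.mul_apply, hwK k hk, hx1K k hk], ?_⟩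
          have he' : γ sA = (x1 * w) sA := by
            rw [MulAut.mul_apply, hws2, hx1s', ← he]
            show (sA ^ (2 * j' + 1)) * s' = _
            rw [zpow_add, zpow_mul, show sA ^ (2 : ℤ) = 1 from hs2, one_zpow, one_mul, zpow_one,
              mul_comm]
          rw [MulAut.mul_apply, he', MulAut.inv_apply_self]
          exact c.smem
    have hν : δ⁻¹ * γ ∈ G := G.mul_mem (G.inv_mem hδ) hγ
    obtain ⟨ψ, hψ, hψe⟩ := hnx _ hν (hgen _ hν hδs)
    refine ⟨ψ, hψ, fun v vS hvS hv => ?_⟩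
    rw [← hψe v vS hvS]
    have hk := hKinv _ hν v ((hmemK v).mp hv)
    conv_lhs => rw [show γ v = δ ((δ⁻¹ * γ) v) by simp [MulAut.mul_apply], hδK _ hk]
  · intro hp2
    set t := w * w with ht
    have htK : ∀ k ∈ K0, t k = k := fun k hk => by
      simp [ht, hw, MulAut.mul_apply, hx1K k hk, hy1K k hk]
    have hts : t sA = sA⁻¹ := by simp [ht, MulAut.mul_apply, hws, hws', map_inv]
    have hts' : t s' = s'⁻¹ := by simp [ht, MulAut.mul_apply, hws, hws', map_inv]
    have htG : t ∈ G :=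
      G.mul_mem (G.mul_mem (G.mul_mem hx1G hy1G) hx1G) (G.mul_mem (G.mul_mem hx1G hy1G) hx1G)
    have htx : ∀ v, t (x v) = x (t v) := by
      intro v
      obtain ⟨k, hk, i, j, rfl⟩ := hdecA v
      obtain ⟨l, hl⟩ := hzs _ (hxd s')
      have hxs'' : x s' = sA ^ l * s' := by rw [← hl]; simp
      simp only [map_mul, map_zpow, hKfix k hk, hxs, hxs'', htK k hk, hts, hts', map_inv]
      simp [mul_zpow, inv_zpow, mul_assoc, mul_comm, mul_left_comm]
    have hcomm : Commute t x := MulEquiv.ext htx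
    obtain ⟨ψ, hψ, hψe⟩ := hnx t htG (by
      rw [hcomm.eq, mul_inv_cancel_right]; exact Subgroup.mem_zpowers x)
    refine ⟨ψ, hψ, fun v hv => ?_, fun v hv => ?_⟩
    · obtain ⟨k, hk, hkv⟩ := hv
      apply Subtype.ext
      rw [← hψe k v hkv.symm, htK k hk]
      exact hkv
    · rw [← hψe sA v hv, hts, Subgroup.coe_inv]

end ess

section main

variable {Ω : Type u} [Group Ω] {p : ℕ} [hp : Fact p.Prime] {S : Subgroup Ω} [Finite S]
  {F : FusionSystem S}

theorem exists_setting (hS : IsPGroup p S) (hF : F.IsSaturated p) (hS1 : S ≠ ⊥)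
    (hcore : F.core = ⊥) (hZ : (Subgroup.center ↥S).index ≤ p ^ 2) :
    ∃ s, Setting S p (S ⊓ Subgroup.centralizer (S : Set Ω)) s := by
  classical
  set Z := S ⊓ Subgroup.centralizer (S : Set Ω) with hZdef
  have Zc : ∀ x, x ∈ Z ↔ x ∈ S ∧ ∀ y ∈ S, y * x = x * y := fun x => Iff.rfl
  have hC : Subgroup.center S = Z.subgroupOf S := by
    ext v
    rw [Subgroup.mem_center_iff, Subgroup.mem_subgroupOf, Zc]
    exact ⟨fun h => ⟨v.2, fun y hy => congrArg Subtype.val (h ⟨y, hy⟩)⟩,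
      fun h y => Subtype.ext (h.2 y y.2)⟩
  have hZS : Z ≤ S := inf_le_left
  have hCcard : Nat.card (Subgroup.center S) = Nat.card Z := by
    rw [hC]; exact Nat.card_congr (Subgroup.subgroupOfEquivOfLe hZS).toEquiv
  obtain ⟨a, ha, b, hb, hab⟩ : ∃ a ∈ S, ∃ b ∈ S, a * b ≠ b * a := by
    by_contra! h
    have : IsMulCommutative S := ⟨⟨fun a b => Subtype.ext (h a a.2 b b.2)⟩⟩
    exact hS1 (le_bot_iff.mp (hcore ▸ le_core_of_isNormal
      (isNormal_of_abelian hS hF ⟨le_rfl, fun R _ φ hφ v => apply_mem hφ v⟩)))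
  have hnc : ¬ IsCyclic (S ⧸ Subgroup.center S) := fun h =>
    hab (congrArg Subtype.val (commutative_of_cyclic_center_quotient
      (QuotientGroup.mk' (Subgroup.center S)) (QuotientGroup.ker_mk' _).le ⟨a, ha⟩ ⟨b, hb⟩))
  obtain ⟨n, hn⟩ := hS.index (Subgroup.center S)
  have hn2 : n = 2 := by
    have hle : n ≤ 2 := by rwa [hn, Nat.pow_le_pow_iff_right hp.out.one_lt] at hZ
    by_contra hne
    apply hnc
    have hq : Nat.card (S ⧸ Subgroup.center S) = p ^ n := hn
    obtain rfl | rfl : n = 0 ∨ n = 1 := by omega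
    · have : Subsingleton (S ⧸ Subgroup.center S) := (Nat.card_eq_one_iff_unique.mp (by simpa using hq)).1
      exact isCyclic_of_subsingleton
    · exact isCyclic_of_prime_card (p := p) (by simpa using hq)
  have hq : Nat.card (S ⧸ Subgroup.center S) = p ^ 2 := hn2 ▸ hn
  have hcard : Nat.card S = p ^ 2 * Nat.card Z := by
    rw [← hCcard, ← (Subgroup.center S).card_mul_index, hn, hn2, mul_comm]
  have hcz : ∀ u ∈ S, ∀ v ∈ S, u * v * u⁻¹ * v⁻¹ ∈ Z := by
    intro u hu v hv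
    have hk : (⟨u, hu⟩ * ⟨v, hv⟩ * ⟨u, hu⟩⁻¹ * ⟨v, hv⟩⁻¹ : S) ∈ Subgroup.center S := by
      rw [← QuotientGroup.eq_one_iff]
      simp only [QuotientGroup.mk_mul, QuotientGroup.mk_inv]
      rw [IsPGroup.commutative_of_card_eq_prime_sq hq (QuotientGroup.mk (⟨u, hu⟩ : S))]
      group
    rw [hC, Subgroup.mem_subgroupOf] at hk
    exact hk
  set s := a * b * a⁻¹ * b⁻¹ with hs
  have hsZ : s ∈ Z := hcz a ha b hb
  have hsne : s ≠ 1 := fun h => hab (by
    have := congrArg (· * (b * a)) h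
    simpa [hs, mul_assoc] using this)
  -- the centralizer of `a`
  let C := S ⊓ Subgroup.centralizer ({a} : Set Ω)
  have hCS : C ≤ S := inf_le_left
  have hZC : Z ≤ C := fun z hz => ⟨hZS hz, fun w hw => by
    rw [Set.mem_singleton_iff] at hw; subst hw; exact hz.2 _ ha⟩
  have haC : a ∈ C := ⟨ha, fun w hw => by rw [Set.mem_singleton_iff] at hw; subst hw; rfl⟩
  have haZ : a ∉ Z := fun h => hab (h.2 b hb).symm
  have hbC : b ∉ C := fun h => hab (h.2 a rfl)
  have : Finite Z := finite_sub hZS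
  have : Finite C := finite_sub hCS
  have hCcard' : Nat.card C = p * Nat.card Z := by
    obtain ⟨k, hk⟩ := Subgroup.card_dvd_of_le hZC
    have hk2 : k ∣ p ^ 2 := by
      have h := Subgroup.card_dvd_of_le hCS
      rw [hk, hcard, mul_comm (p ^ 2)] at h
      exact Nat.dvd_of_mul_dvd_mul_left Nat.card_pos h
    obtain ⟨i, hi, rfl⟩ := (Nat.dvd_prime_pow hp.out).mp hk2
    interval_cases i
    · exact absurd ((Subgroup.eq_of_le_of_card_ge hZC (by rw [hk]; simp)) ▸ haC) haZ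
    · rw [hk]; ring
    · exact absurd ((Subgroup.eq_of_le_of_card_ge hCS (by rw [hk, hcard, mul_comm])).symm ▸ hb) hbC
  have hcS : Nat.card S = p * Nat.card C := by rw [hcard, hCcard']; ring
  have hnZ : ∀ t ∈ S, t ∈ Subgroup.normalizer (Z : Set Ω) := fun t ht =>
    mem_normalizer_of_conj_mem fun z hz => by rw [hz.2 t ht, mul_inv_cancel_right]; exact hz
  have hnC : b ∈ Subgroup.normalizer (C : Set Ω) := mem_normalizer_of_conj_mem fun v hv => by
    have h1 := C.mul_mem (hZC (hcz b hb v (hCS hv))) hv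
    simpa [mul_assoc] using h1
  -- commutators
  have hsS : s ∈ S := hZS hsZ
  let N := Subgroup.zpowers (⟨s, hsS⟩ : S)
  have hNc : N ≤ Subgroup.center S := by
    rw [hC, Subgroup.zpowers_le, Subgroup.mem_subgroupOf]; exact hsZ
  have : N.Normal := ⟨fun m hm g => by
    rw [Subgroup.mem_center_iff.mp (hNc hm) g, mul_inv_cancel_right]; exact hm⟩
  let q := QuotientGroup.mk' N
  have hqc : ∀ (z : Ω) (hz : z ∈ Z) (u : S), Commute (q ⟨z, hZS hz⟩) (q u) := fun z hz u =>
    (show Commute (⟨z, hZS hz⟩ : S) u from Subtype.ext (hz.2 u u.2).symm).map q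
  have hqab : Commute (q ⟨a, ha⟩) (q ⟨b, hb⟩) := by
    show q _ * q _ = q _ * q _
    rw [← map_mul, ← map_mul, QuotientGroup.mk'_eq_mk']
    refine ⟨(⟨s, hsS⟩ : S)⁻¹, N.inv_mem (Subgroup.mem_zpowers _), ?_⟩
    have hcs : (⟨a, ha⟩ * ⟨b, hb⟩ : S) * (⟨s, hsS⟩ : S)⁻¹ = (⟨s, hsS⟩ : S)⁻¹ * (⟨a, ha⟩ * ⟨b, hb⟩) :=
      Subgroup.mem_center_iff.mp (inv_mem (hNc (Subgroup.mem_zpowers _))) _
    rw [hcs]
    exact Subtype.ext (by simp [hs, mul_assoc])
  have hrep : ∀ u : S, ∃ (z : Ω) (hz : z ∈ Z) (i j : ℤ),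
      q u = q ⟨z, hZS hz⟩ * q ⟨a, ha⟩ ^ i * q ⟨b, hb⟩ ^ j := by
    intro u
    obtain ⟨w, hw, j, hu⟩ := decomp hCS hcS hb hbC hnC u.2
    obtain ⟨z, hz, i, rfl⟩ := decomp hZC hCcard' haC haZ (hnZ a ha) hw
    refine ⟨z, hz, i, j, ?_⟩
    rw [← map_zpow, ← map_zpow, ← map_mul, ← map_mul]
    exact congrArg q (Subtype.ext (by simpa using hu))
  have hcomm : ∀ u ∈ S, ∀ v ∈ S, u * v * u⁻¹ * v⁻¹ ∈ Subgroup.zpowers s := by
    intro u hu v hv
    obtain ⟨z, hz, i, j, h1⟩ := hrep ⟨u, hu⟩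
    obtain ⟨z', hz', i', j', h2⟩ := hrep ⟨v, hv⟩
    have hA : Commute (q ⟨a, ha⟩) (q ⟨v, hv⟩) := by
      rw [h2]
      exact (((hqc z' hz' _).symm).mul_right ((Commute.refl _).zpow_right i')).mul_right
        (hqab.zpow_right j')
    have hB : Commute (q ⟨b, hb⟩) (q ⟨v, hv⟩) := by
      rw [h2]
      exact (((hqc z' hz' _).symm).mul_right (hqab.symm.zpow_right i')).mul_right
        ((Commute.refl _).zpow_right j')
    have hU : Commute (q ⟨u, hu⟩) (q ⟨v, hv⟩) := by
      rw [h1]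
      exact ((hqc z hz _).mul_left (hA.zpow_left i)).mul_left (hB.zpow_left j)
    have hk : (⟨u, hu⟩ * ⟨v, hv⟩ * ⟨u, hu⟩⁻¹ * ⟨v, hv⟩⁻¹ : S) ∈ q.ker := by
      rw [MonoidHom.mem_ker, map_mul, map_mul, map_mul, map_inv, map_inv, hU.eq]
      group
    rw [QuotientGroup.ker_mk'] at hk
    obtain ⟨i, hi⟩ := hk
    exact ⟨i, congrArg Subtype.val hi⟩
  -- exponent of the centre
  have hcl : S.lowerCentralSeries 2 = ⊥ := by
    rw [Subgroup.lowerCentralSeries_succ, Subgroup.commutator_eq_bot_iff_le_centralizer,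
      Subgroup.lowerCentralSeries_succ, Subgroup.lowerCentralSeries_zero, Subgroup.commutator_le]
    exact fun u hu v hv => by rw [commutatorElement_def]; exact (hcz u hu v hv).2
  have hp2 : 2 ≤ 1 * (p - 1) + 1 := by have := hp.out.two_le; omega
  have Zp : ∀ z ∈ Z, z ^ p = 1 := by
    intro z hz
    have h1 := le_core_of_isNormal
      (Lib.FusionP3.Agemo.isNormal_powerClosure_center hS hF hcl hp2)
      (Subgroup.subset_closure ⟨z, hz, rfl⟩)
    rw [hcore, Subgroup.mem_bot, pow_one] at h1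
    exact h1
  exact ⟨s, hS, Zc, Zp, hcomm, hsZ, hsne, hcard⟩

variable {Z A : Subgroup Ω} {s : Ω} (c : Setting S p Z s)
include c

/-- an elementary subgroup above the centre -/
def Good (S : Subgroup Ω) (p : ℕ) (Z A : Subgroup Ω) : Prop := Mid S p Z A ∧ ∀ v ∈ A, v ^ p = 1

lemma aut_Z {τ : MulAut S} {v : S} (hv : (v : Ω) ∈ Z) : ((τ v : S) : Ω) ∈ Z := by
  refine (c.Zc _).mpr ⟨(τ v).2, fun y hy => ?_⟩
  obtain ⟨u, hu⟩ := τ.surjective ⟨y, hy⟩
  have h : u * v = v * u := Subtype.ext (c.central hv u.2)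
  have h2 := congrArg (fun w => ((τ w : S) : Ω)) h
  simpa [hu] using h2

lemma aut_s {τ : MulAut S} {v : S} (hv : (v : Ω) ∈ Subgroup.zpowers s) :
    ((τ v : S) : Ω) ∈ Subgroup.zpowers s := by
  obtain ⟨a, b, hab⟩ : ∃ a b : S, a * b * a⁻¹ * b⁻¹ ≠ 1 := by
    by_contra! h
    have hSZ : S ≤ Z := fun u hu => (c.Zc u).mpr ⟨hu, fun y hy => by
      have h' := congrArg Subtype.val (mul_inv_eq_one.mp (h ⟨y, hy⟩ ⟨u, hu⟩))
      exact mul_inv_eq_iff_eq_mul.mp h'⟩
    have : Finite Z := c.finiteZ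
    have h1 := Subgroup.card_le_of_le hSZ
    rw [c.card] at h1
    have := hp.out.two_le
    have := Nat.card_pos (α := Z)
    have h4 : 2 * Nat.card Z ≤ p ^ 2 * Nat.card Z := Nat.mul_le_mul_right _ (by nlinarith)
    omega
  obtain ⟨n, hn⟩ := exists_pow_eq (p := p) c.spow (c.comm a a.2 b b.2)
    (fun h => hab (Subtype.ext h)) hv
  rw [show v = (a * b * a⁻¹ * b⁻¹) ^ n from Subtype.ext (by simpa using hn.symm), map_pow,
    Subgroup.coe_pow]
  refine Subgroup.pow_mem _ ?_ n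
  simpa using c.comm _ (τ a).2 _ (τ b).2

variable (hF : F.IsSaturated p)
include hF

lemma aut_inner {σ : MulAut S} (hσ : σ ∈ F.autGroup S) {k : ℕ} (hk : σ ^ p ^ k = 1) :
    ∃ g ∈ S, ∀ v : S, ((σ v : S) : Ω) = g * v * g⁻¹ := by
  have : Finite (MulAut S) := Finite.of_injective (fun f => (f : S → S)) DFunLike.coe_injective
  obtain ⟨R, hR⟩ := (fullyAutomized_of_fullyNormalized c.hS hF (isFullyNormalized_base F)).2
  obtain ⟨a, -, ha⟩ := exists_conj_le_sylow R hR (T := Subgroup.zpowers σ)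
    (Subgroup.zpowers_le.mpr hσ) (by
      rintro ⟨_, i, rfl⟩
      refine ⟨k, Subtype.ext ?_⟩
      show (σ ^ i) ^ p ^ k = 1
      rw [← zpow_natCast, ← zpow_mul, mul_comm, zpow_mul, zpow_natCast, hk, one_zpow])
  obtain ⟨g, hg, he⟩ := mem_autInducedBy.mp (ha σ (Subgroup.mem_zpowers σ))
  refine ⟨((a⁻¹ ⟨g, hg⟩ : S) : Ω), (a⁻¹ ⟨g, hg⟩).2, fun v => ?_⟩
  have h1 : a (σ v) = ⟨g, hg⟩ * a v * ⟨g, hg⟩⁻¹ := Subtype.ext (by
    have h := he (a v)
    simpa [MulAut.mul_apply] using h)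
  have h2 := congrArg (fun w => ((a⁻¹ w : S) : Ω)) h1
  simpa [map_mul, map_inv] using h2

lemma aut_fix {σ : MulAut S} (hσ : σ ∈ F.autGroup S)
    (h : ∀ v : S, (v : Ω) ∈ Z → (σ ^ p) v = v) : ∀ v : S, (v : Ω) ∈ Z → σ v = v := by
  have : Finite (MulAut S) := Finite.of_injective (fun f => (f : S → S)) DFunLike.coe_injective
  intro v hv
  obtain ⟨k, m, hm, hkm⟩ := Nat.exists_eq_pow_mul_and_not_dvd (orderOf_pos σ).ne' p hp.out.ne_one
  obtain ⟨g, hg, he⟩ := aut_inner c hF (pow_mem hσ m) (k := k) (by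
    rw [← pow_mul, mul_comm, ← hkm, pow_orderOf_eq_one])
  have h1 : σ ^ m ∈ MulAction.stabilizer (MulAut S) v := Subtype.ext
    ((he v).trans (by rw [c.central hv hg, mul_inv_cancel_right]))
  exact eq_one_of_pow_coprime ((hp.out.coprime_iff_not_dvd.mpr hm).symm) h1 (h v hv)

lemma uniq {τ₁ τ₂ : MulAut S} (h1 : τ₁ ∈ F.autGroup S) (h2 : τ₂ ∈ F.autGroup S)
    (hs1 : ∀ v : S, (v : Ω) = s → ((τ₁ v : S) : Ω) = s⁻¹)
    (hs2 : ∀ v : S, (v : Ω) = s → ((τ₂ v : S) : Ω) = s⁻¹)
    (hd1 : ∀ v : S, (v : Ω) ∈ Z → ((τ₁ v * v⁻¹ : S) : Ω) ∈ Subgroup.zpowers s)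
    (hd2 : ∀ v : S, (v : Ω) ∈ Z → ((τ₂ v * v⁻¹ : S) : Ω) ∈ Subgroup.zpowers s) :
    ∀ v : S, (v : Ω) ∈ Z → τ₁ v = τ₂ v := by
  intro v hv
  set σ := τ₁⁻¹ * τ₂ with hσ
  set sS : S := ⟨s, c.ZS c.smem⟩ with hsS
  have hσs : σ sS = sS := τ₁.injective (Subtype.ext (by
    rw [hσ, MulAut.mul_apply, MulAut.apply_inv_self, hs2 sS rfl, hs1 sS rfl]))
  have hd : ∀ v : S, (v : Ω) ∈ Z → ∃ i : ℤ, σ v * v⁻¹ = sS ^ i := by
    intro v hv
    have hw : ((τ₁⁻¹ (τ₂ v) : S) : Ω) ∈ Z := aut_Z c (aut_Z c hv)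
    have e1 := hd1 _ hw
    rw [MulAut.apply_inv_self] at e1
    have e2 := hd2 v hv
    have h3 : ((σ v * v⁻¹ : S) : Ω) ∈ Subgroup.zpowers s := by
      have := Subgroup.mul_mem _ (Subgroup.inv_mem _ e1) e2
      rw [← Subgroup.coe_inv, ← Subgroup.coe_mul] at this
      rw [hσ, MulAut.mul_apply]
      simpa [mul_assoc] using this
    obtain ⟨i, hi⟩ := h3
    exact ⟨i, Subtype.ext (by rw [Subgroup.coe_zpow]; exact hi.symm)⟩
  have hsp : ∀ v : S, (v : Ω) ∈ Z → (σ ^ p) v = v := by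
    intro v hv
    obtain ⟨i, hi⟩ := hd v hv
    have hn : ∀ n : ℕ, (σ ^ n) v = (sS ^ i) ^ n * v := by
      intro n
      induction n with
      | zero => simp
      | succ n ih =>
        rw [pow_succ', MulAut.mul_apply, ih, map_mul, map_pow, map_zpow, hσs, pow_succ,
          mul_assoc, ← hi, inv_mul_cancel_right]
    rw [hn, ← zpow_natCast, ← zpow_mul, mul_comm, zpow_mul, zpow_natCast,
      show sS ^ p = 1 from Subtype.ext (by simpa using c.spow), one_zpow, one_mul]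
  have := aut_fix c hF (mul_mem (inv_mem h1) h2) hsp v hv
  conv_lhs => rw [← this]
  simp [hσ, MulAut.mul_apply]

lemma normal_of_crit {Q : Subgroup Ω} (hQS : Q ≤ S)
    (hbase : ∀ α ∈ F.autGroup S, ∀ v : S, (v : Ω) ∈ Q → ((α v : S) : Ω) ∈ Q)
    (hA : ∀ A : Subgroup Ω, F.IsFullyNormalized A → F.IsCentric A → F.IsRadical p A → A ≠ S →
      Q ≤ A ∧ ∀ α ∈ F.autGroup A, ∀ v : A, (v : Ω) ∈ Q → ((α v : A) : Ω) ∈ Q) : F.IsNormal Q := by
  refine isNormal_of_centricRadical c.hS hF hQS fun P h1 h2 h3 => ?_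
  by_cases hP : P = S
  · subst hP
    exact ⟨hQS, hbase⟩
  · exact hA P h1 h2 h3 hP

omit hF

lemma good_inter {A B : Subgroup Ω} (hA : Mid S p Z A) (hB : Mid S p Z B) (hne : A ≠ B) {v : Ω}
    (hvA : v ∈ A) (hvB : v ∈ B) : v ∈ Z := by
  by_contra hv
  have : Finite A := finite_sub hA.le
  have : Finite B := finite_sub hB.le
  have hBA : B ≤ A := by
    intro w hw
    obtain ⟨z, hz, i, rfl⟩ := decomp hB.above hB.card hvB hv
      (normal_of_above c c.ZS c.smem (hB.le hvB)) hw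
    exact A.mul_mem (hA.above hz) (A.zpow_mem hvA i)
  exact hne (Subgroup.eq_of_le_of_card_ge hBA (by rw [hA.card, hB.card])).symm

lemma good_split {A B : Subgroup Ω} (hA : Mid S p Z A) (hB : Mid S p Z B) (hne : A ≠ B) {v : Ω}
    (hv : v ∈ S) : ∃ u ∈ A, ∃ w ∈ B, v = u * w := by
  have : Finite A := finite_sub hA.le
  have : Finite B := finite_sub hB.le
  have : Finite Z := c.finiteZ
  obtain ⟨t, ht, htA⟩ : ∃ t ∈ B, t ∉ A := by
    by_contra! h
    have h1 := Subgroup.card_le_of_le (show B ≤ Z from fun x hx => good_inter c hA hB hne (h x hx) hx)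
    rw [hB.card] at h1
    have := hp.out.two_le
    have := Nat.card_pos (α := Z)
    nlinarith
  obtain ⟨u, hu, i, rfl⟩ := decomp hA.le (by rw [c.card, hA.card]; ring) (hB.le ht) htA
    (normal_of_above c hA.le (hA.above c.smem) (hB.le ht)) hv
  exact ⟨u, hu, _, B.zpow_mem ht i, rfl⟩

lemma good_noncomm {A B : Subgroup Ω} (hA : Mid S p Z A) (hB : Mid S p Z B) (hne : A ≠ B) {u w : Ω}
    (hu : u ∈ A) (huZ : u ∉ Z) (hw : w ∈ B) (hwZ : w ∉ Z) : u * w ≠ w * u := by
  intro h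
  refine huZ ((c.Zc u).mpr ⟨hA.le hu, fun y hy => ?_⟩)
  have : Finite A := finite_sub hA.le
  have : Finite B := finite_sub hB.le
  obtain ⟨a, ha, i, rfl⟩ := decomp hA.le (by rw [c.card, hA.card]; ring) (hB.le hw)
    (fun hwA => hwZ (good_inter c hA hB hne hwA hw))
    (normal_of_above c hA.le (hA.above c.smem) (hB.le hw)) hy
  have e1 : Commute u a := mid_comm c hA u hu a ha
  have e2 : Commute u (w ^ i) := (show Commute u w from h).zpow_right i
  exact (e1.mul_right e2).eq.symm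

lemma good_map {α : MulAut S} (hA : Good S p Z A) :
    Good S p Z ((A.subgroupOf S).map (S.subtype.comp α.toMonoidHom)) := by
  set B := (A.subgroupOf S).map (S.subtype.comp α.toMonoidHom) with hB
  have hinj : Function.Injective (S.subtype.comp α.toMonoidHom) :=
    S.subtype_injective.comp α.injective
  refine ⟨⟨?_, ?_, ?_⟩, ?_⟩
  · rintro _ ⟨v, -, rfl⟩; exact (α v).2
  · intro z hz
    refine ⟨α.symm ⟨z, c.ZS hz⟩, Subgroup.mem_subgroupOf.mpr (hA.1.above (aut_Z c hz)), ?_⟩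
    simp
  · rw [hB, ← hA.1.card, ← Nat.card_congr ((A.subgroupOf S).equivMapOfInjective _ hinj).toEquiv]
    exact Nat.card_congr (Subgroup.subgroupOfEquivOfLe hA.1.le).toEquiv
  · rintro _ ⟨v, hv, rfl⟩
    have h1 : v ^ p = 1 := Subtype.ext (by simpa using hA.2 v (Subgroup.mem_subgroupOf.mp hv))
    show ((α v : S) : Ω) ^ p = 1
    rw [← Subgroup.coe_pow, ← map_pow, h1, map_one, Subgroup.coe_one]

end main

section main2

variable {Ω : Type u} [Group Ω] {p : ℕ} [hp : Fact p.Prime] {S : Subgroup Ω} [Finite S]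
  {F : FusionSystem S} {Z : Subgroup Ω} {s : Ω} (c : Setting S p Z s) (hF : F.IsSaturated p)
include c hF

lemma data_Z {A K W : Subgroup Ω} (d : Data F p Z A s K W) {z : Ω} (hz : z ∈ Z) :
    ∃ k ∈ K, ∃ i : ℤ, z = k * s ^ i := by
  have : Finite Z := c.finiteZ
  have : Finite K := finite_sub (d.KZ.trans c.ZS)
  exact decomp d.KZ d.Kcard c.smem d.sK
    (mem_normalizer_of_conj_mem fun k hk => by
      rw [c.central (d.KZ hk) (c.ZS c.smem), mul_inv_cancel_right]; exact hk) hz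

lemma exists_refl {A K W : Subgroup Ω} (d : Data F p Z A s K W) (hp2 : p ≠ 2) :
    ∃ τ ∈ F.autGroup S, (∀ v : S, (v : Ω) = s → ((τ v : S) : Ω) = s⁻¹) ∧
      (∀ v : S, (v : Ω) ∈ Z → ((τ v * v⁻¹ : S) : Ω) ∈ Subgroup.zpowers s) ∧
      ∀ v : S, (v : Ω) ∈ Z → (τ v = v ↔ (v : Ω) ∈ K) := by
  obtain ⟨τ, hτ, hK, hs⟩ := d.refl hp2
  refine ⟨τ, hτ, hs, ?_⟩
  let sS : S := ⟨s, c.ZS c.smem⟩
  have hts : τ sS = sS⁻¹ := Subtype.ext (hs sS rfl)
  have key : ∀ v : S, (v : Ω) ∈ Z → ∃ (k : S) (i : ℤ), (k : Ω) ∈ K ∧ v = k * sS ^ i ∧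
      τ v = k * sS ^ (-i) := by
    intro v hv
    obtain ⟨k, hk, i, he⟩ := data_Z c hF d hv
    refine ⟨⟨k, c.ZS (d.KZ hk)⟩, i, hk, Subtype.ext (by simpa using he), ?_⟩
    rw [show v = ⟨k, c.ZS (d.KZ hk)⟩ * sS ^ i from Subtype.ext (by simpa using he), map_mul,
      map_zpow, hK _ hk, hts, inv_zpow, zpow_neg]
  refine ⟨fun v hv => ?_, fun v hv => ⟨fun h => ?_, hK v⟩⟩
  · obtain ⟨k, i, hk, he, ht⟩ := key v hv
    rw [ht, he, mul_inv_rev, mul_assoc, ← mul_assoc (sS ^ (-i)), ← zpow_neg, ← zpow_add]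
    have hc : Commute (k : Ω) (s ^ (-i + -i)) :=
      c.central (Z.zpow_mem c.smem _) (c.ZS (d.KZ hk))
    simp only [Subgroup.coe_mul, Subgroup.coe_inv, Subgroup.coe_zpow]
    rw [← mul_assoc, hc.eq, mul_inv_cancel_right]
    exact Subgroup.zpow_mem_zpowers s _
  · obtain ⟨k, i, hk, he, ht⟩ := key v hv
    rw [ht] at h
    rw [he] at h
    have h2 : sS ^ (i + i) = 1 := by
      have h' := mul_left_cancel h
      rw [zpow_neg, inv_eq_iff_mul_eq_one] at h'
      rw [zpow_add, h']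
    have ho : orderOf sS = p := orderOf_eq_prime (Subtype.ext (by simpa [sS] using c.spow))
      (fun h => c.sne (congrArg Subtype.val h))
    have hdvd := orderOf_dvd_iff_zpow_eq_one.mpr h2
    rw [ho, ← two_mul] at hdvd
    have hi : (p : ℤ) ∣ i := by
      refine (IsCoprime.dvd_of_dvd_mul_left ?_ hdvd)
      rw [Int.isCoprime_iff_gcd_eq_one]
      exact (Nat.coprime_primes hp.out Nat.prime_two).mpr hp2
    have hsi : sS ^ i = 1 := orderOf_dvd_iff_zpow_eq_one.mp (ho.symm ▸ hi)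
    rw [he, hsi, mul_one]
    exact hk

lemma K_eq {A K W A' K' W' : Subgroup Ω} (d : Data F p Z A s K W) (d' : Data F p Z A' s K' W')
    (hp2 : p ≠ 2) : K = K' := by
  obtain ⟨τ, hτ, hs, hd, hK⟩ := exists_refl c hF d hp2
  obtain ⟨τ', hτ', hs', hd', hK'⟩ := exists_refl c hF d' hp2
  have hu := uniq c hF hτ hτ' hs hs' hd hd'
  ext k
  constructor <;> intro hk
  · have hkZ := d.KZ hk
    have := (hK ⟨k, c.ZS hkZ⟩ hkZ).mpr hk
    rw [hu _ hkZ] at this
    exact (hK' _ hkZ).mp this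
  · have hkZ := d'.KZ hk
    have := (hK' ⟨k, c.ZS hkZ⟩ hkZ).mpr hk
    rw [← hu _ hkZ] at this
    exact (hK _ hkZ).mp this

lemma K_base {A K W : Subgroup Ω} (d : Data F p Z A s K W) (hp2 : p ≠ 2) :
    ∀ α ∈ F.autGroup S, ∀ v : S, (v : Ω) ∈ K → ((α v : S) : Ω) ∈ K := by
  intro α hα v hv
  obtain ⟨τ, hτ, hs, hd, hK⟩ := exists_refl c hF d hp2
  set τ' := α⁻¹ * τ * α with hτ'def
  have hτ' : τ' ∈ F.autGroup S := mul_mem (mul_mem (inv_mem hα) hτ) hα
  have hs' : ∀ v : S, (v : Ω) = s → ((τ' v : S) : Ω) = s⁻¹ := by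
    intro w hw
    obtain ⟨i, hi⟩ := aut_s c (τ := α) (hw ▸ Subgroup.mem_zpowers s : (w : Ω) ∈ Subgroup.zpowers s)
    have h1 : α w = w ^ i := Subtype.ext (by rw [Subgroup.coe_zpow, hw]; exact hi.symm)
    have h2 : τ w = w⁻¹ := Subtype.ext (by rw [Subgroup.coe_inv, hw]; exact hs w hw)
    rw [hτ'def, MulAut.mul_apply, MulAut.mul_apply, h1, map_zpow, h2, inv_zpow, ← h1, ← map_inv,
      MulAut.inv_apply_self, Subgroup.coe_inv, hw]
  have hd' : ∀ v : S, (v : Ω) ∈ Z → ((τ' v * v⁻¹ : S) : Ω) ∈ Subgroup.zpowers s := by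
    intro w hw
    have h1 := aut_s c (τ := α⁻¹) (hd _ (aut_Z c (τ := α) hw))
    rw [map_mul, map_inv, MulAut.inv_apply_self] at h1
    simpa [hτ'def, MulAut.mul_apply] using h1
  have hvZ := d.KZ hv
  have h := (uniq c hF hτ hτ' hs hs' hd hd' v hvZ).symm
  rw [(hK v hvZ).mpr hv, hτ'def, MulAut.mul_apply, MulAut.mul_apply] at h
  have h' := congrArg α h
  rw [MulAut.apply_inv_self] at h'
  exact (hK _ (aut_Z c hvZ)).mp h'

variable (hcore : F.core = ⊥)
include hcore

lemma eq_bot_of_crit {Q : Subgroup Ω} (hQS : Q ≤ S)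
    (hbase : ∀ α ∈ F.autGroup S, ∀ v : S, (v : Ω) ∈ Q → ((α v : S) : Ω) ∈ Q)
    (hA : ∀ A : Subgroup Ω, F.IsFullyNormalized A → F.IsCentric A → F.IsRadical p A → A ≠ S →
      Q ≤ A ∧ ∀ α ∈ F.autGroup A, ∀ v : A, (v : Ω) ∈ Q → ((α v : A) : Ω) ∈ Q) : Q = ⊥ :=
  le_bot_iff.mp (hcore ▸ le_core_of_isNormal (normal_of_crit c hF hQS hbase hA))

omit hcore in
lemma good_of_fcr {A : Subgroup Ω} (hfn : F.IsFullyNormalized A) (hc : F.IsCentric A)
    (hr : F.IsRadical p A) (hne : A ≠ S) : Good S p Z A := by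
  obtain ⟨K, W, d⟩ := exists_data c hF hfn hc hr hne
  exact ⟨mid_of_centric c hfn.1 hne hc, d.elem⟩

/-- An essential subgroup and a second elementary subgroup. -/
lemma exists_pair (hSne : S ≠ ⊥) :
    ∃ A K W, F.IsFullyNormalized A ∧ F.IsCentric A ∧ F.IsRadical p A ∧ A ≠ S ∧
      Data F p Z A s K W ∧ ∃ B, B ≠ A ∧ Good S p Z B ∧
        ((∃ α ∈ F.autGroup S, ∃ v : S, (v : Ω) ∈ A ∧ ((α v : S) : Ω) ∉ A) ∨
          (F.IsFullyNormalized B ∧ F.IsCentric B ∧ F.IsRadical p B ∧ B ≠ S)) := by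
  obtain ⟨A, h1, h2, h3, h4⟩ : ∃ A, F.IsFullyNormalized A ∧ F.IsCentric A ∧ F.IsRadical p A ∧ A ≠ S := by
    by_contra! h
    exact hSne (eq_bot_of_crit c hF hcore le_rfl (fun α _ v _ => (α v).2)
      fun A a b d e => absurd (h A a b d) e)
  obtain ⟨K, W, d⟩ := exists_data c hF h1 h2 h3 h4
  have hgA := good_of_fcr c hF h1 h2 h3 h4
  refine ⟨A, K, W, h1, h2, h3, h4, d, ?_⟩
  by_cases hmove : ∃ α ∈ F.autGroup S, ∃ v : S, (v : Ω) ∈ A ∧ ((α v : S) : Ω) ∉ A
  · obtain ⟨α, hα, v, hv, hv'⟩ := hmove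
    refine ⟨_, ?_, good_map c (α := α) hgA, Or.inl ⟨α, hα, v, hv, hv'⟩⟩
    intro h
    exact hv' (h.le ⟨v, Subgroup.mem_subgroupOf.mpr hv, rfl⟩)
  · by_contra h
    push Not at hmove h
    have hbot : A = ⊥ := eq_bot_of_crit c hF hcore h1.1 hmove fun B b1 b2 b3 b4 => by
      by_cases hBA : B = A
      · subst hBA; exact ⟨le_rfl, fun α _ v _ => (α v).2⟩
      · exact absurd b4 (not_not.mpr ((h B hBA (good_of_fcr c hF b1 b2 b3 b4)).2 b1 b2 b3))
    exact c.sne (Subgroup.mem_bot.mp (hbot ▸ hgA.1.above c.smem))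

end main2

section final

variable {Ω : Type u} [Group Ω] {p : ℕ} [hp : Fact p.Prime] {S : Subgroup Ω} [Finite S]
  {F : FusionSystem S} {Z : Subgroup Ω} {s : Ω} (c : Setting S p Z s) (hF : F.IsSaturated p)
  (hcore : F.core = ⊥) (hSne : S ≠ ⊥)
include c

lemma exists_notMem {A : Subgroup Ω} (hA : Mid S p Z A) : ∃ a ∈ A, a ∉ Z := by
  by_contra! h
  have : Finite A := finite_sub hA.le
  have : Finite Z := c.finiteZ
  have h1 := Subgroup.card_le_of_le (show A ≤ Z from h)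
  rw [hA.card] at h1
  have := hp.out.two_le
  have := Nat.card_pos (α := Z)
  have : 2 * Nat.card Z ≤ p * Nat.card Z := Nat.mul_le_mul_right _ hp.out.two_le
  omega

/-- the commutator power formula in class two -/
lemma mul_pow_class_two {u w : Ω} (hu : u ∈ S) (hw : w ∈ S) (n : ℕ) :
    (u * w) ^ n = u ^ n * w ^ n * (w * u * w⁻¹ * u⁻¹) ^ n.choose 2 := by
  set k := w * u * w⁻¹ * u⁻¹ with hk
  have hkZ : k ∈ Z := (c.sZ (c.comm w hw u hu))
  have hcu : Commute u k := c.central hkZ hu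
  have hcw : Commute w k := c.central hkZ hw
  have hwu : w * u = k * u * w := by simp [hk, mul_assoc]
  have hwn : ∀ n : ℕ, w ^ n * u = k ^ n * u * w ^ n := by
    intro n
    induction n with
    | zero => simp
    | succ n ih =>
      calc w ^ (n + 1) * u = w * (w ^ n * u) := by rw [pow_succ']; group
        _ = (w * k ^ n) * u * w ^ n := by rw [ih]; group
        _ = k ^ n * (w * u) * w ^ n := by rw [(hcw.pow_right n).eq]; group
        _ = k ^ (n + 1) * u * w ^ (n + 1) := by rw [hwu, pow_succ, pow_succ' w]; group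
  induction n with
  | zero => simp
  | succ n ih =>
    have hC : Commute (u * w) (k ^ n.choose 2) := (hcu.mul_left hcw).pow_right _
    calc (u * w) ^ (n + 1) = u ^ n * w ^ n * (k ^ n.choose 2 * (u * w)) := by
          rw [pow_succ, ih]; group
      _ = u ^ n * w ^ n * ((u * w) * k ^ n.choose 2) := by rw [hC.eq]
      _ = u ^ n * (w ^ n * u) * w * k ^ n.choose 2 := by group
      _ = u ^ n * (k ^ n * u) * w ^ n * w * k ^ n.choose 2 := by rw [hwn]; group
      _ = u ^ (n + 1) * (k ^ n * w ^ (n + 1)) * k ^ n.choose 2 := by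
          rw [← (hcu.pow_right n).eq, pow_succ, pow_succ w]; group
      _ = u ^ (n + 1) * (w ^ (n + 1) * k ^ n) * k ^ n.choose 2 := by
          rw [((hcw.pow_left (n + 1)).pow_right n).eq]
      _ = u ^ (n + 1) * w ^ (n + 1) * k ^ (n + 1).choose 2 := by
          rw [Nat.choose_succ_succ, Nat.choose_one_right, pow_add]; group

lemma third_impossible (hp2 : p = 2) {A B C : Subgroup Ω} (hA : Good S p Z A) (hB : Good S p Z B)
    (hAB : A ≠ B) (hC : Good S p Z C) : C = A ∨ C = B := by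
  by_contra! h
  subst hp2
  obtain ⟨v, hv, hvZ⟩ := exists_notMem c hC.1
  obtain ⟨u, hu, w, hw, rfl⟩ := good_split c hA.1 hB.1 hAB (hC.1.le hv)
  have huZ : u ∉ Z := fun hz => by
    have : u * w ∈ B := B.mul_mem (hB.1.above hz) hw
    exact hvZ (good_inter c hC.1 hB.1 h.2 hv this)
  have hwZ : w ∉ Z := fun hz => by
    have : u * w ∈ A := A.mul_mem hu (hA.1.above hz)
    exact hvZ (good_inter c hC.1 hA.1 h.1 hv this)
  refine good_noncomm c hA.1 hB.1 hAB hu huZ hw hwZ ?_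
  have e1 : u⁻¹ = u := inv_eq_of_mul_eq_one_right (by rw [← pow_two]; exact hA.2 u hu)
  have e2 : w⁻¹ = w := inv_eq_of_mul_eq_one_right (by rw [← pow_two]; exact hB.2 w hw)
  have e3 : (u * w)⁻¹ = u * w := inv_eq_of_mul_eq_one_right (by rw [← pow_two]; exact hC.2 _ hv)
  rw [mul_inv_rev, e1, e2] at e3
  exact e3.symm

include hF

lemma two_fix (hp2 : p = 2) {A B : Subgroup Ω} (hA : Good S p Z A) (hB : Good S p Z B) (hAB : A ≠ B) :
    ∀ α ∈ F.autGroup S, ∀ v : S, (v : Ω) ∈ A → ((α v : S) : Ω) ∈ A := by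
  intro α hα
  have : Finite (MulAut S) := Finite.of_injective (fun f => (f : S → S)) DFunLike.coe_injective
  have : Finite A := finite_sub hA.1.le
  rcases third_impossible c hp2 hA hB hAB (good_map c (α := α) hA) with h | h
  · exact fun v hv => h.le ⟨v, Subgroup.mem_subgroupOf.mpr hv, rfl⟩
  · exfalso
    have hAB' : ∀ v : S, (v : Ω) ∈ A → ((α v : S) : Ω) ∈ B := fun v hv =>
      h.le ⟨v, Subgroup.mem_subgroupOf.mpr hv, rfl⟩
    have hBA' : ∀ v : S, (v : Ω) ∈ B → ((α v : S) : Ω) ∈ A := by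
      rcases third_impossible c hp2 hA hB hAB (good_map c (α := α) hB) with h' | h'
      · exact fun v hv => h'.le ⟨v, Subgroup.mem_subgroupOf.mpr hv, rfl⟩
      · exfalso
        refine hAB (le_antisymm (fun a ha => ?_) (fun b hb => ?_))
        · have hm : ((α ⟨a, hA.1.le ha⟩ : S) : Ω) ∈ B :=
            h.le ⟨⟨a, hA.1.le ha⟩, Subgroup.mem_subgroupOf.mpr ha, rfl⟩
          obtain ⟨w, hw, hwe⟩ := h'.ge hm
          have hwa : w = ⟨a, hA.1.le ha⟩ := α.injective (Subtype.ext hwe)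
          subst hwa
          exact Subgroup.mem_subgroupOf.mp hw
        · have hm : ((α ⟨b, hB.1.le hb⟩ : S) : Ω) ∈ B :=
            h'.le ⟨⟨b, hB.1.le hb⟩, Subgroup.mem_subgroupOf.mpr hb, rfl⟩
          obtain ⟨w, hw, hwe⟩ := h.ge hm
          have hwb : w = ⟨b, hB.1.le hb⟩ := α.injective (Subtype.ext hwe)
          subst hwb
          exact Subgroup.mem_subgroupOf.mp hw
    have hpar : ∀ n : ℕ, ∀ v : S, (v : Ω) ∈ A →
        (Even n → (((α ^ n) v : S) : Ω) ∈ A) ∧ (Odd n → (((α ^ n) v : S) : Ω) ∈ B) := by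
      intro n
      induction n with
      | zero => exact fun v hv => ⟨fun _ => by simpa using hv, fun h => by simp at h⟩
      | succ n ih =>
        intro v hv
        rw [pow_succ', MulAut.mul_apply]
        refine ⟨fun he => hBA' _ ((ih v hv).2 ?_), fun ho => hAB' _ ((ih v hv).1 ?_)⟩
        · exact Nat.not_even_iff_odd.mp (Nat.even_add_one.mp he)
        · exact Nat.not_odd_iff_even.mp (Nat.odd_add_one.mp ho)
    obtain ⟨k, m, hm, hkm⟩ := Nat.exists_eq_pow_mul_and_not_dvd (orderOf_pos α).ne' p hp.out.ne_one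
    obtain ⟨g, hg, he⟩ := aut_inner c hF (pow_mem hα m) (k := k) (by
      rw [← pow_mul, mul_comm, ← hkm, pow_orderOf_eq_one])
    obtain ⟨a, ha, haZ⟩ := exists_notMem c hA.1
    have hodd : Odd m := Nat.not_even_iff_odd.mp (fun hev => hm (hp2 ▸ hev.two_dvd))
    have h1 := (hpar m ⟨a, hA.1.le ha⟩ ha).2 hodd
    rw [he] at h1
    have h2 : g * a * g⁻¹ ∈ A :=
      conj_mem_of_normalizer (normal_of_above c hA.1.le (hA.1.above c.smem) hg) ha
    have h3 := good_inter c hA.1 hB.1 hAB h2 h1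
    have h4 : a = g⁻¹ * (g * a * g⁻¹) * g := by group
    rw [c.central h3 (S.inv_mem hg), inv_mul_cancel_right] at h4
    exact haZ (h4 ▸ h3)

include hcore hSne

lemma two_pair (hp2 : p = 2) : ∃ A B K W K' W', A ≠ B ∧ Good S p Z A ∧ Good S p Z B ∧
    Data F p Z A s K W ∧ Data F p Z B s K' W' ∧
    ∀ P, F.IsFullyNormalized P → F.IsCentric P → F.IsRadical p P → P ≠ S → P = A ∨ P = B := by
  obtain ⟨A, K, W, h1, h2, h3, h4, d, B, hBA, hgB, h⟩ := exists_pair c hF hcore hSne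
  have hgA := good_of_fcr c hF h1 h2 h3 h4
  rcases h with ⟨α, hα, v, hv, hv'⟩ | ⟨b1, b2, b3, b4⟩
  · exact absurd (two_fix c hF hp2 hgA hgB (Ne.symm hBA) α hα v hv) hv'
  · obtain ⟨K', W', d'⟩ := exists_data c hF b1 b2 b3 b4
    exact ⟨A, B, K, W, K', W', Ne.symm hBA, hgA, hgB, d, d', fun P a1 a2 a3 a4 =>
      third_impossible c hp2 hgA hgB (Ne.symm hBA) (good_of_fcr c hF a1 a2 a3 a4)⟩

omit hcore hSne

/-- restriction to an invariant subgroup -/
lemma exists_res {A : Subgroup Ω} (hA : A ≤ S) {α : MulAut S} (hα : α ∈ F.autGroup S)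
    (h : ∀ v : S, (v : Ω) ∈ A → ((α v : S) : Ω) ∈ A) :
    ∃ γ ∈ F.autGroup A, ∀ v : A, ((γ v : A) : Ω) = (α ⟨v, hA v.2⟩ : S) := by
  have : Finite A := finite_sub hA
  obtain ⟨φ, hφ, he⟩ := exists_restrict ((mem_autGroup le_rfl).mp hα) hA
  have hr : φ.range = A := range_eq_of_mem hφ (fun v => (he v).symm ▸ h _ v.2) le_rfl
  exact ⟨_, homEquiv_mem_autGroup hφ hr, fun v => by rw [homEquiv_coe, he]; rfl⟩

lemma K_inter_inv {A B K W K' W' : Subgroup Ω} (hA : Good S p Z A) (hB : Good S p Z B)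
    (hfixA : ∀ α ∈ F.autGroup S, ∀ v : S, (v : Ω) ∈ A → ((α v : S) : Ω) ∈ A)
    (hfixB : ∀ α ∈ F.autGroup S, ∀ v : S, (v : Ω) ∈ B → ((α v : S) : Ω) ∈ B)
    (d : Data F p Z A s K W) (d' : Data F p Z B s K' W') (hp2 : p = 2) :
    (∀ α ∈ F.autGroup S, ∀ v : S, (v : Ω) ∈ K ⊓ K' → ((α v : S) : Ω) ∈ K ⊓ K') ∧
    ∀ γ ∈ F.autGroup A, ∀ v : A, (v : Ω) ∈ K ⊓ K' → ((γ v : A) : Ω) ∈ K ⊓ K' := by
  have key : ∀ α ∈ F.autGroup S, ∀ v : S, (v : Ω) ∈ K' → ((α v : S) : Ω) ∈ K' := by
    intro α hα v hv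
    obtain ⟨γ, hγ, he⟩ := exists_res c hF hB.1.le hα (hfixB α hα)
    have := d'.Kinv γ hγ ⟨v, hB.1.above (d'.KZ hv)⟩ hv
    rwa [he] at this
  refine ⟨fun α hα v hv => ⟨?_, key α hα v hv.2⟩, fun γ hγ v hv => ⟨d.Kinv γ hγ v hv.1, ?_⟩⟩
  · obtain ⟨γ, hγ, he⟩ := exists_res c hF hA.1.le hα (hfixA α hα)
    have := d.Kinv γ hγ ⟨v, hA.1.above (d.KZ hv.1)⟩ hv.1
    rwa [he] at this
  · obtain ⟨ψ, hψ, he⟩ := d.ext2 hp2 γ hγ
    rw [he v ⟨v, hA.1.le v.2⟩ rfl hv.1]
    exact key ψ hψ _ hv.2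

include hcore hSne in
lemma two_card_le (hp2 : p = 2) : Nat.card Z ≤ 4 := by
  obtain ⟨A, B, K, W, K', W', hAB, hA, hB, d, d', hall⟩ := two_pair c hF hcore hSne hp2
  have hfA := two_fix c hF hp2 hA hB hAB
  have hfB := two_fix c hF hp2 hB hA (Ne.symm hAB)
  obtain ⟨i1, i2⟩ := K_inter_inv c hF hA hB hfA hfB d d' hp2
  obtain ⟨-, i3⟩ := K_inter_inv c hF hB hA hfB hfA d' d hp2
  have hI : K ⊓ K' = ⊥ := by
    refine eq_bot_of_crit c hF hcore (inf_le_left.trans (d.KZ.trans c.ZS)) i1 fun P a1 a2 a3 a4 => ?_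
    rcases hall P a1 a2 a3 a4 with rfl | rfl
    · exact ⟨inf_le_left.trans (d.KZ.trans hA.1.above), i2⟩
    · refine ⟨inf_le_left.trans (d.KZ.trans hB.1.above), ?_⟩
      rw [inf_comm]; exact i3
  have : Finite Z := c.finiteZ
  have hinj : Function.Injective (fun x : K × K' =>
      (⟨(x.1 : Ω) * x.2, Z.mul_mem (d.KZ x.1.2) (d'.KZ x.2.2)⟩ : Z)) := by
    rintro ⟨⟨a, ha⟩, ⟨b, hb⟩⟩ ⟨⟨a', ha'⟩, ⟨b', hb'⟩⟩ h
    have h1 : a * b = a' * b' := congrArg Subtype.val h
    have h2 : a'⁻¹ * a = b' * b⁻¹ := by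
      calc a'⁻¹ * a = a'⁻¹ * (a * b) * b⁻¹ := by group
        _ = b' * b⁻¹ := by rw [h1]; group
    have hm : a'⁻¹ * a ∈ K ⊓ K' :=
      ⟨K.mul_mem (K.inv_mem ha') ha, h2.symm ▸ K'.mul_mem hb' (K'.inv_mem hb)⟩
    rw [hI, Subgroup.mem_bot, inv_mul_eq_one] at hm
    subst hm
    have hb2 : b = b' := mul_left_cancel h1
    subst hb2
    rfl
  have h := Nat.card_le_card_of_injective _ hinj
  rw [Nat.card_prod] at h
  have e1 := d.Kcard
  have e2 := d'.Kcard
  subst hp2
  have : Nat.card K' = Nat.card K := by omega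
  rw [this] at h
  nlinarith

include hcore hSne in
lemma two_card_ne (hp2 : p = 2) (hhyp : F.hyperfocalSubgroup p = S) : Nat.card Z ≠ 4 := by
  intro h4
  obtain ⟨A, B, K, W, K', W', hAB, hA, hB, d, d', hall⟩ := two_pair c hF hcore hSne hp2
  have hfA := two_fix c hF hp2 hA hB hAB
  have hfB := two_fix c hF hp2 hB hA (Ne.symm hAB)
  have hWS : W ≤ S := d.WA.trans hA.1.le
  have hWS' : W' ≤ S := d'.WA.trans hB.1.le
  have : Finite W := finite_sub hWS
  have : Finite W' := finite_sub hWS'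
  set E := W ⊔ W' with hE
  have hES : E ≤ S := sup_le hWS hWS'
  have hEn : S ≤ Subgroup.normalizer (E : Set Ω) :=
    normal_of_above c hES (Subgroup.mem_sup_left d.sW)
  have hn : W' ≤ Subgroup.normalizer (W : Set Ω) := hWS'.trans (normal_of_above c hWS d.sW)
  have hsurj : Function.Surjective (fun x : W × W' =>
      (⟨(x.1 : Ω) * x.2, E.mul_mem (Subgroup.mem_sup_left x.1.2) (Subgroup.mem_sup_right x.2.2)⟩ : E)) := by
    rintro ⟨e, he⟩
    have he' : e ∈ ((W ⊔ W' : Subgroup Ω) : Set Ω) := he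
    rw [Subgroup.coe_mul_of_right_le_normalizer_left _ _ hn] at he'
    obtain ⟨a, ha, b, hb, rfl⟩ := he'
    exact ⟨⟨⟨a, ha⟩, ⟨b, hb⟩⟩, rfl⟩
  have hcardE : Nat.card E < Nat.card S := by
    have hle : Nat.card (W × W') ≤ Nat.card S := by
      rw [Nat.card_prod, c.card, h4, hp2]
      exact (Nat.mul_le_mul d.Wcard d'.Wcard).trans (by norm_num [hp2])
    refine lt_of_lt_of_le (lt_of_le_of_ne (Nat.card_le_card_of_surjective _ hsurj) fun heq => ?_) hle
    have hb := hsurj.bijective_of_nat_card_le heq.ge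
    have hs2 : s * s = 1 := by rw [← pow_two]; exact hp2 ▸ c.spow
    have := hb.1 (a₁ := (⟨s, d.sW⟩, ⟨s, d'.sW⟩)) (a₂ := (1, 1)) (Subtype.ext (by simpa using hs2))
    exact c.sne (congrArg (fun x : W × W' => (x.1 : Ω)) this)
  have hKone : ∀ {A B K W : Subgroup Ω}, Good S p Z A → Data F p Z A s K W →
      W ≤ E → ∀ γ ∈ F.autGroup A, ∀ v : A, ((γ v : A) : Ω) * (v : Ω)⁻¹ ∈ E := by
    intro A B K W hA d hWE γ hγ v
    have : Finite Z := c.finiteZ
    have : Finite K := finite_sub (d.KZ.trans c.ZS)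
    have hK2 : Nat.card K = 2 := by have := d.Kcard; rw [h4, hp2] at this; omega
    obtain ⟨k, hk, w, hw, he⟩ := d.split v v.2
    have hkA : k ∈ A := hA.1.above (d.KZ hk)
    let kA : A := ⟨k, hkA⟩
    let wA : A := ⟨w, d.WA hw⟩
    have hfix : γ kA = kA := by
      by_cases hk1 : k = 1
      · rw [show kA = 1 from Subtype.ext hk1, map_one]
      · obtain ⟨a, b, hab, hu⟩ := Nat.card_eq_two_iff.mp hK2
        have h1 : (⟨k, hk⟩ : K) ≠ 1 := fun h => hk1 (congrArg Subtype.val h)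
        have h2 : (⟨(γ kA : A), d.Kinv γ hγ kA hk⟩ : K) ≠ 1 := fun h => hk1 (by
          have h' : γ kA = 1 := Subtype.ext (congrArg (fun x : K => (x : Ω)) h)
          exact congrArg Subtype.val (γ.map_eq_one_iff.mp h'))
        have hall2 : ∀ x : K, x = a ∨ x = b := fun x => by
          have : x ∈ ({a, b} : Set K) := hu ▸ Set.mem_univ x
          exact this
        have heq : (⟨(γ kA : A), d.Kinv γ hγ kA hk⟩ : K) = ⟨k, hk⟩ := by
          rcases hall2 1 with h | h <;> rcases hall2 ⟨k, hk⟩ with h' | h' <;>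
            rcases hall2 ⟨(γ kA : A), d.Kinv γ hγ kA hk⟩ with h'' | h'' <;>
            simp_all
        exact Subtype.ext (congrArg (fun x : K => (x : Ω)) heq)
    have hv : v = kA * wA := Subtype.ext he
    have h1 : ((γ v : A) : Ω) * (v : Ω)⁻¹ = k * (((γ wA : A) : Ω) * w⁻¹) * k⁻¹ := by
      rw [hv, map_mul, hfix]; simp [kA, wA, mul_assoc]
    rw [h1]
    exact conj_mem_of_normalizer (hEn (hA.1.le hkA))
      (E.mul_mem (hWE (d.Winv γ hγ wA hw)) (E.inv_mem (hWE hw)))
  have hAE := hKone (B := B) hA d le_sup_left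
  have hBE := hKone (B := A) hB d' le_sup_right
  have hSE : ∀ α ∈ F.autGroup S, ∀ v : S, ((α v : S) : Ω) * (v : Ω)⁻¹ ∈ E := by
    intro α hα v
    obtain ⟨u, hu, w, hw, he⟩ := good_split c hA.1 hB.1 hAB v.2
    obtain ⟨γ, hγ, e1⟩ := exists_res c hF hA.1.le hα (hfA α hα)
    obtain ⟨δ, hδ, e2⟩ := exists_res c hF hB.1.le hα (hfB α hα)
    have f1 := hAE γ hγ ⟨u, hu⟩
    have f2 := hBE δ hδ ⟨w, hw⟩
    rw [e1] at f1
    rw [e2] at f2
    have hv : v = ⟨u, hA.1.le hu⟩ * ⟨w, hB.1.le hw⟩ := Subtype.ext he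
    rw [hv, map_mul]
    have := E.mul_mem f1 (conj_mem_of_normalizer (hEn (hA.1.le hu)) f2)
    simpa [mul_assoc] using this
  have hM := Lib.FusionP3.Induction.hom_induction c.hS hF
    (M := fun P φ => ∀ x : P, φ x * (x : Ω)⁻¹ ∈ E)
    (fun P Q φ ψ χ _ _ h he h1 h2 x => by
      have := E.mul_mem (h2 ⟨φ x, h x⟩) (h1 x)
      simpa [he, mul_assoc] using this)
    (fun P Q φ ψ h _ he h1 x => by
      have := h1 ⟨x, h x.2⟩
      simpa [he] using this)
    (fun P a1 a2 a3 α hα _ x => by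
      by_cases hP : P = S
      · subst hP; exact hSE α hα x
      · rcases hall P a1 a2 a3 hP with rfl | rfl
        · exact hAE α hα x
        · exact hBE α hα x)
  have hle : F.hyperfocalSubgroup p ≤ E := (Subgroup.closure_le _).mpr <| by
    rintro _ ⟨P, α, x, hP, -, rfl⟩
    have h1 := hM P _ ((mem_autGroup hP).mp α.2) x
    have h2 := conj_mem_of_normalizer (hEn (S.inv_mem (hP x.2))) h1
    simpa [mul_assoc] using h2
  rw [hhyp] at hle
  have : Finite E := finite_sub hES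
  exact absurd (Subgroup.card_le_of_le hle) (not_le.mpr hcardE)

omit hF

lemma extraspecial_of_card (hZc : Nat.card Z = p) {A B : Subgroup Ω} (hA : Mid S p Z A)
    (hB : Mid S p Z B) (hAB : A ≠ B) : IsExtraspecial p S ∧ Nat.card S = p ^ 3 := by
  have : Finite Z := c.finiteZ
  have hC : Subgroup.center S = Z.subgroupOf S := by
    ext v
    rw [Subgroup.mem_center_iff, Subgroup.mem_subgroupOf, c.Zc]
    exact ⟨fun h => ⟨v.2, fun y hy => congrArg Subtype.val (h ⟨y, hy⟩)⟩,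
      fun h y => Subtype.ext (h.2 y y.2)⟩
  have hCc : Nat.card (Subgroup.center S) = p := by
    rw [hC, Nat.card_congr (Subgroup.subgroupOfEquivOfLe c.ZS).toEquiv, hZc]
  have hzs : Subgroup.zpowers s = Z := Subgroup.eq_of_le_of_card_ge c.sZ (by
    rw [Nat.card_zpowers, orderOf_eq_prime c.spow c.sne, hZc])
  have hcle : commutator S ≤ Subgroup.center S := by
    rw [commutator_def, Subgroup.commutator_le]
    intro a _ b _
    rw [hC, Subgroup.mem_subgroupOf, ← hzs, commutatorElement_def]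
    exact c.comm a a.2 b b.2
  have hcne : commutator S ≠ ⊥ := by
    intro h
    obtain ⟨a, ha, haZ⟩ := exists_notMem c hA
    obtain ⟨b, hb, hbZ⟩ := exists_notMem c hB
    refine good_noncomm c hA hB hAB ha haZ hb hbZ ?_
    have hm := Subgroup.commutator_mem_commutator (Subgroup.mem_top (⟨a, hA.le ha⟩ : S))
      (Subgroup.mem_top (⟨b, hB.le hb⟩ : S))
    rw [← commutator_def, h, Subgroup.mem_bot, commutatorElement_eq_one_iff_mul_comm] at hm
    exact congrArg Subtype.val hm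
  have hceq : commutator S = Subgroup.center S := by
    refine Subgroup.eq_of_le_of_card_ge hcle ?_
    rw [hCc]
    have hd := Subgroup.card_dvd_of_le hcle
    rw [hCc] at hd
    rcases (Nat.dvd_prime hp.out).mp hd with h | h
    · exact absurd (Subgroup.card_eq_one.mp h) hcne
    · exact h.ge
  have hcoat : ∀ {M : Subgroup Ω}, Mid S p Z M → IsCoatom (M.subgroupOf S) := by
    intro M hM
    have : Finite M := finite_sub hM.le
    refine ⟨fun h => ?_, fun U hU => ?_⟩
    · have := Subgroup.card_le_of_le (Subgroup.subgroupOf_eq_top.mp h)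
      rw [c.card, hM.card] at this
      have := Nat.le_of_mul_le_mul_right this Nat.card_pos
      have := hp.out.two_le
      nlinarith
    · obtain ⟨t, htU, htM⟩ := SetLike.exists_of_lt hU
      refine eq_top_iff.mpr fun v _ => ?_
      obtain ⟨m, hm, i, he⟩ := decomp hM.le (by rw [c.card, hM.card]; ring) t.2 htM
        (normal_of_above c hM.le (hM.above c.smem) t.2) v.2
      rw [show v = ⟨m, hM.le hm⟩ * t ^ i from Subtype.ext (by simpa using he)]
      exact U.mul_mem (hU.le (Subgroup.mem_subgroupOf.mpr hm)) (U.zpow_mem htU i)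
  have hfr : frattini S = Subgroup.center S := by
    refine le_antisymm (fun v hv => ?_) ?_
    · rw [hC, Subgroup.mem_subgroupOf]
      exact good_inter c hA hB hAB (Subgroup.mem_subgroupOf.mp (frattini_le_coatom (hcoat hA) hv))
        (Subgroup.mem_subgroupOf.mp (frattini_le_coatom (hcoat hB) hv))
    · refine le_iInf₂ fun M hM => ?_
      intro z hz
      by_contra hzM
      have hlt : M < M ⊔ Subgroup.zpowers z := lt_of_le_of_ne le_sup_left fun h => hzM (by
        rw [h]; exact Subgroup.mem_sup_right (Subgroup.mem_zpowers z))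
      have htop := hM.2 _ hlt
      have hab : ∀ a b : S, a * b * a⁻¹ * b⁻¹ ∈ M := by
        intro a b
        have hn : Subgroup.zpowers z ≤ Subgroup.normalizer (M : Set S) := fun g hg =>
          Subgroup.mem_normalizer_iff.mpr fun h => by
            rw [← Subgroup.mem_center_iff.mp ((Subgroup.zpowers_le.mpr hz) hg) h, mul_inv_cancel_right]
        have hd : ∀ a : S, ∃ m ∈ M, ∃ g ∈ Subgroup.center S, a = m * g := by
          intro a
          have ha : a ∈ ((M ⊔ Subgroup.zpowers z : Subgroup S) : Set S) := by rw [htop]; trivial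
          rw [Subgroup.coe_mul_of_right_le_normalizer_left _ _ hn] at ha
          obtain ⟨m, hm, g, hg, rfl⟩ := ha
          exact ⟨m, hm, g, (Subgroup.zpowers_le.mpr hz) hg, rfl⟩
        obtain ⟨m, hm, g, hg, rfl⟩ := hd a
        obtain ⟨m', hm', g', hg', rfl⟩ := hd b
        have e1 : ∀ y : S, y * g = g * y := Subgroup.mem_center_iff.mp hg
        have e2 : ∀ y : S, y * g' = g' * y := Subgroup.mem_center_iff.mp hg'
        have hval : m * g * (m' * g') * (m * g)⁻¹ * (m' * g')⁻¹ = m * m' * m⁻¹ * m'⁻¹ := by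
          calc m * g * (m' * g') * (m * g)⁻¹ * (m' * g')⁻¹
              = m * (g * m') * (g' * g⁻¹) * m⁻¹ * g'⁻¹ * m'⁻¹ := by group
            _ = m * (m' * g) * (g⁻¹ * g') * m⁻¹ * g'⁻¹ * m'⁻¹ := by rw [← e1 m', e2 g⁻¹]
            _ = m * m' * (g' * m⁻¹) * g'⁻¹ * m'⁻¹ := by group
            _ = m * m' * (m⁻¹ * g') * g'⁻¹ * m'⁻¹ := by rw [e2 m⁻¹]
            _ = m * m' * m⁻¹ * m'⁻¹ := by group
        rw [hval]
        exact mul_mem (mul_mem (mul_mem hm hm') (inv_mem hm)) (inv_mem hm')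
      have hcM : commutator S ≤ M := by
        rw [commutator_def, Subgroup.commutator_le]
        exact fun a _ b _ => by rw [commutatorElement_def]; exact hab a b
      exact hzM (hcM (hceq ▸ hz))
  exact ⟨⟨⟨c.hS, hfr, hceq⟩, hCc⟩, by rw [c.card, hZc]; ring⟩

end final

theorem main {Ω : Type u} [Group Ω] {S : Subgroup Ω} [Finite S] (p : ℕ) [hp : Fact p.Prime]
    (hS : IsPGroup p ↥S) (F : FusionSystem S) (hF : F.IsSaturated p) (hS1 : S ≠ ⊥)
    (hcore : F.core = ⊥) (hhyp : F.hyperfocalSubgroup p = S)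
    (hZ : (Subgroup.center ↥S).index ≤ p ^ 2) :
    IsExtraspecial p ↥S ∧ Nat.card S = p ^ 3 ∧ (p ≠ 2 → Monoid.exponent ↥S = p) ∧
      (p = 2 → Nonempty (↥S ≃* DihedralGroup 4)) := by
  classical
  obtain ⟨s, c⟩ := exists_setting hS hF hS1 hcore hZ
  set Z := S ⊓ Subgroup.centralizer (S : Set Ω)
  have : Finite Z := c.finiteZ
  obtain ⟨A, K, W, h1, h2, h3, h4, d, B, hBA, hgB, -⟩ := exists_pair c hF hcore hS1
  have hgA := good_of_fcr c hF h1 h2 h3 h4
  have hZc : Nat.card Z = p := by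
    by_cases hp2 : p = 2
    · have hle := two_card_le c hF hcore hS1 hp2
      have hne := two_card_ne c hF hcore hS1 hp2 hhyp
      obtain ⟨k, hk⟩ := (isPGroup_of_le hS c.ZS).exists_card_eq
      subst hp2
      rw [hk] at hle hne ⊢
      have hk2 : k ≤ 2 := by
        by_contra h
        have := Nat.pow_le_pow_right (show 0 < 2 by norm_num) (show 3 ≤ k by omega)
        omega
      have hk0 : k ≠ 0 := fun h => by
        have := Subgroup.card_eq_one.mp (show Nat.card Z = 1 by rw [hk, h, pow_zero])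
        exact c.sne (Subgroup.mem_bot.mp (this ▸ c.smem))
      obtain rfl : k = 1 := by
        by_contra h
        obtain rfl : k = 2 := by omega
        norm_num at hne
      rfl
    · have hK : K = ⊥ := by
        refine eq_bot_of_crit c hF hcore (d.KZ.trans c.ZS) (K_base c hF d hp2) fun P a1 a2 a3 a4 => ?_
        obtain ⟨K', W', d'⟩ := exists_data c hF a1 a2 a3 a4
        have hKK := K_eq c hF d d' hp2
        refine ⟨(d.KZ.trans (mid_of_centric c a1.1 a4 a2).above), fun α hα v hv => ?_⟩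
        rw [hKK] at hv ⊢
        exact d'.Kinv α hα v hv
      rw [d.Kcard, hK, Subgroup.card_bot, mul_one]
  obtain ⟨hE, h3c⟩ := extraspecial_of_card c hZc hgA.1 hgB.1 (Ne.symm hBA)
  refine ⟨hE, h3c, fun hp2 => ?_, fun hp2 => ?_⟩
  · have hdvd : Monoid.exponent S ∣ p := Monoid.exponent_dvd_of_forall_pow_eq_one fun v => by
      obtain ⟨u, hu, w, hw, he⟩ := good_split c hgA.1 hgB.1 (Ne.symm hBA) v.2
      apply Subtype.ext
      rw [Subgroup.coe_pow, he, mul_pow_class_two c (hgA.1.le hu) (hgB.1.le hw), hgA.2 u hu,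
        hgB.2 w hw, one_mul, one_mul]
      obtain ⟨m, hm⟩ := Nat.Prime.dvd_choose_self hp.out (k := 2) (by norm_num)
        (lt_of_le_of_ne hp.out.two_le (Ne.symm hp2))
      rw [hm, pow_mul, c.Zp _ (c.sZ (c.comm w (hgB.1.le hw) u (hgA.1.le hu))), one_pow]
      rfl
    refine ((Nat.dvd_prime hp.out).mp hdvd).resolve_left fun h => ?_
    exact c.sne (congrArg Subtype.val
      ((Monoid.exp_eq_one_iff.mp h).elim (⟨s, c.ZS c.smem⟩ : S) 1))
  · subst hp2
    obtain ⟨a, ha, haZ⟩ := exists_notMem c hgA.1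
    obtain ⟨b, hb, hbZ⟩ := exists_notMem c hgB.1
    set x : S := ⟨a, hgA.1.le ha⟩
    set y : S := ⟨b, hgB.1.le hb⟩
    have hx : orderOf x = 2 := orderOf_eq_prime (Subtype.ext (by simpa [x] using hgA.2 a ha))
      (fun h => haZ (by rw [show a = 1 from congrArg Subtype.val h]; exact Z.one_mem))
    have hy : orderOf y = 2 := orderOf_eq_prime (Subtype.ext (by simpa [y] using hgB.2 b hb))
      (fun h => hbZ (by rw [show b = 1 from congrArg Subtype.val h]; exact Z.one_mem))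
    have hnc : x * y ≠ y * x := fun h =>
      good_noncomm c hgA.1 hgB.1 (Ne.symm hBA) ha haZ hb hbZ (congrArg Subtype.val h)
    have hcard := Lib.Involutions.Basic.card_closure_pair hx hy
    have hd := Subgroup.card_subgroup_dvd_card (Subgroup.closure ({x, y} : Set S))
    rw [hcard, h3c] at hd
    have ho : orderOf (x * y) = 4 := by
      have h1 : orderOf (x * y) ≠ 1 := fun h => by
        rw [orderOf_eq_one_iff, mul_eq_one_iff_eq_inv, Lib.Involutions.Basic.invol_inv hy] at h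
        exact hnc (by rw [h])
      have h2' : orderOf (x * y) ≠ 2 := fun h => by
        have h' : (x * y)⁻¹ = x * y := Lib.Involutions.Basic.invol_inv h
        rw [mul_inv_rev, Lib.Involutions.Basic.invol_inv hx, Lib.Involutions.Basic.invol_inv hy] at h'
        exact hnc h'.symm
      have hd4 : orderOf (x * y) ∣ 4 := Nat.dvd_of_mul_dvd_mul_left (show 0 < 2 by norm_num) hd
      have := Nat.le_of_dvd (by norm_num) hd4
      interval_cases h : orderOf (x * y) <;> simp_all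
    have htop : Subgroup.closure ({x, y} : Set S) = ⊤ := by
      rw [← Subgroup.card_eq_iff_eq_top, hcard, ho, h3c]
      norm_num
    exact ⟨((Subgroup.topEquiv.symm.trans (MulEquiv.subgroupCongr htop.symm)).trans
      (Lib.Involutions.Basic.closurePairEquiv hx hy)).trans (ho ▸ MulEquiv.refl _)⟩

/-- Let p be a prime, S a nontrivial finite p-group whose centre has index at most p², and F a saturated fusion system over S with no nontrivial normal subgroup and with hyperfocal subgroup equal to S. Then S is extraspecial of order p³; for odd p it has exponent p, and for p = 2 it is dihedral of order 8. -/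
theorem result {Ω : Type*} [Group Ω] {S : Subgroup Ω} [Finite S] (p : ℕ) [Fact p.Prime] (hS : IsPGroup p ↥S) (F : Cfsg.FusionSystem S) (hF : F.IsSaturated p) (hS1 : S ≠ ⊥) (hcore : F.core = ⊥) (hhyp : F.hyperfocalSubgroup p = S) (hZ : (Subgroup.center ↥S).index ≤ p ^ 2) : Cfsg.IsExtraspecial p ↥S ∧ Nat.card S = p ^ 3 ∧ (p ≠ 2 → Monoid.exponent ↥S = p) ∧ (p = 2 → Nonempty (↥S ≃* DihedralGroup 4)) := by
  exact main p hS F hF hS1 hcore hhyp hZ
end Cfsg.Agent.S5265
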