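import Cfsg.Agent.Lib.FusionSystem.Essential
import Cfsg.Agent.Lib.MaxClass.Basic
import Cfsg.Statements.S5270
-- import your own Cfsg.Agent.* helpers here

set_option autoImplicit false
set_option linter.style.haveILetI false
open Cfsg

namespace Cfsg.Agent.S5270

open Cfsg.FusionSystem Cfsg.Agent.Lib Cfsg.Agent.Lib.FS

/-- Facts about a group of maximal class: the centre and the second centre. -/
theorem centre_facts {X : Type*} [Group X] [Finite X] {p n : ℕ} [hp : Fact p.Prime] (hX : Nat.card X = p ^ n)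
    (h4 : 4 ≤ n) (hmax : (⊤ : Subgroup X).lowerCentralSeries (n - 2) ≠ ⊥) :
    Nat.card (Subgroup.center X) = p ∧ Nat.card (Subgroup.upperCentralSeries X 2) = p ^ 2 := by
  have hP : IsPGroup p X := IsPGroup.of_card hX
  haveI := hP.isNilpotent
  have hc : Group.nilpotencyClass X = n - 1 :=
    (MaxClass.MC.class_eq (⟨hX, h4, hmax⟩ : MaxClass.MC p n X))
  obtain ⟨h1, h2, h3⟩ := PGroups.center_quotient_of_class (by omega) hX hc
  obtain ⟨h1', -, -⟩ := PGroups.center_quotient_of_class (X := X ⧸ Subgroup.center X) (n := n - 1)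
    (by omega) h2 (by omega)
  refine ⟨h1, ?_⟩
  have ha := Subgroup.card_mul_index ((Subgroup.center (X ⧸ Subgroup.center X)).comap
    (QuotientGroup.mk' (Subgroup.center X)))
  have hb := Subgroup.card_mul_index (Subgroup.center (X ⧸ Subgroup.center X))
  rw [Subgroup.index_comap_of_surjective _ (QuotientGroup.mk'_surjective _), hX] at ha
  rw [h1', h2] at hb
  rw [show Subgroup.upperCentralSeries X 2 = (Subgroup.center (X ⧸ Subgroup.center X)).comap
    (QuotientGroup.mk' (Subgroup.center X)) by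
      rw [← Subgroup.upperCentralSeries_one (G := X ⧸ Subgroup.center X),
        Subgroup.comap_upperCentralSeries_quotient_center]]
  refine Nat.eq_of_mul_eq_mul_right (Nat.pos_of_ne_zero (fun h0 => by
    rw [h0, mul_zero] at hb; exact (pow_ne_zero _ hp.out.ne_zero) hb.symm) :
      0 < (Subgroup.center (X ⧸ Subgroup.center X)).index) ?_
  rw [ha, pow_two, mul_assoc, hb, ← pow_succ']
  congr 1; omega

/-- In a group of maximal class the centraliser of the second centre has index `p`. -/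
theorem index_centralizer_two {X : Type*} [Group X] [Finite X] {p n : ℕ} [hp : Fact p.Prime]
    (hX : Nat.card X = p ^ n) (h4 : 4 ≤ n) (hmax : (⊤ : Subgroup X).lowerCentralSeries (n - 2) ≠ ⊥) :
    (Subgroup.centralizer (Subgroup.upperCentralSeries X 2 : Set X)).index = p := by
  obtain ⟨h1, h2⟩ := centre_facts hX h4 hmax
  set U := Subgroup.upperCentralSeries X 2
  have hne : ¬ U ≤ Subgroup.center X := fun h => by
    have := Subgroup.card_le_of_le h
    rw [h1, h2] at this
    have := hp.out.two_le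
    nlinarith
  obtain ⟨z, hzU, hz⟩ := SetLike.not_le_iff_exists.1 hne
  have hcomm : ∀ s : X, z * s * z⁻¹ * s⁻¹ ∈ Subgroup.center X := fun s => by
    have h := (Subgroup.mem_upperCentralSeries_succ_iff).1 hzU s
    rwa [Subgroup.upperCentralSeries_one] at h
  let f : X →* Subgroup.center X := MonoidHom.mk' (fun s => ⟨_, hcomm s⟩) fun s t => Subtype.ext (by
    show z * (s * t) * z⁻¹ * (s * t)⁻¹ = z * s * z⁻¹ * s⁻¹ * (z * t * z⁻¹ * t⁻¹)
    rw [mul_assoc (z * s * z⁻¹), Subgroup.mem_center_iff.1 (hcomm t) s⁻¹]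
    group)
  have hker : f.ker = Subgroup.centralizer ({z} : Set X) := by
    ext s
    rw [MonoidHom.mem_ker, Subgroup.mem_centralizer_singleton_iff, ← Subtype.coe_inj]
    show z * s * z⁻¹ * s⁻¹ = 1 ↔ _
    exact commutatorElement_eq_one_iff_mul_comm.trans eq_comm
  have heq : Subgroup.centralizer (U : Set X) = Subgroup.centralizer ({z} : Set X) := by
    refine le_antisymm (Subgroup.centralizer_le (Set.singleton_subset_iff.2 hzU)) fun s hs => ?_
    have hlt : Subgroup.center X ⊔ Subgroup.zpowers z = U := by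
      refine Subgroup.eq_of_le_of_card_ge (sup_le ?_ (Subgroup.zpowers_le.2 hzU)) ?_
      · rw [← Subgroup.upperCentralSeries_one (G := X)]
        exact Subgroup.upperCentralSeries_mono X (by omega)
      · rw [h2]
        obtain ⟨j, hj⟩ := IsPGroup.iff_card.1 ((IsPGroup.of_card hX).to_subgroup
          (Subgroup.center X ⊔ Subgroup.zpowers z))
        have hlt : Nat.card (Subgroup.center X) < Nat.card ↥(Subgroup.center X ⊔ Subgroup.zpowers z) := by
          refine lt_of_le_of_ne (Subgroup.card_le_of_le le_sup_left) fun he => hz ?_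
          rw [Subgroup.eq_of_le_of_card_ge le_sup_left he.ge]
          exact (le_sup_right : Subgroup.zpowers z ≤ _) (Subgroup.mem_zpowers z)
        rw [h1, hj] at hlt
        rw [hj]
        exact Nat.pow_le_pow_right hp.out.pos
          ((Nat.pow_lt_pow_iff_right hp.out.one_lt).1 (by rwa [pow_one] : p ^ 1 < p ^ j))
    have hle : U ≤ Subgroup.centralizer ({s} : Set X) := hlt ▸ sup_le
      (fun c hc => Subgroup.mem_centralizer_singleton_iff.2 (Subgroup.mem_center_iff.1 hc s).symm)
      (Subgroup.zpowers_le.2 (Subgroup.mem_centralizer_singleton_iff.2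
        (Subgroup.mem_centralizer_singleton_iff.1 hs).symm))
    exact fun u hu => Subgroup.mem_centralizer_singleton_iff.1 (hle hu)
  rw [heq, ← hker, Subgroup.index_ker]
  rcases hp.out.eq_one_or_self_of_dvd _ (h1 ▸ Subgroup.card_subgroup_dvd_card f.range) with h | h
  · exfalso
    refine hz (Subgroup.mem_center_iff.2 fun s => ?_)
    have hs : f s = 1 := by
      have : f s ∈ f.range := ⟨s, rfl⟩
      rwa [Subgroup.card_eq_one.1 h, Subgroup.mem_bot] at this
    exact Subgroup.mem_centralizer_singleton_iff.1 (hker ▸ hs : s ∈ Subgroup.centralizer ({z} : Set X))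
  · exact h

variable {Ω : Type*} [Group Ω] {S : Subgroup Ω} [Finite S] {p : ℕ} [hp : Fact p.Prime]

/-- A normal subgroup with Sylow automiser of order `p` in `Out` that is not normalised is essential. -/
theorem essential_of_index {F : FusionSystem S} (hS : IsPGroup p S) (hF : F.IsSaturated p)
    {C : Subgroup Ω} (hC : C ≤ S) (hidx : C.relIndex S = p)
    (hcen : F.IsCentric C) {α : MulAut C} (hα : α ∈ F.autGroup C)
    (hno : ∃ u ∈ autInducedBy S C, α * u * α⁻¹ ∉ autInducedBy S C) : F.IsEssential p C := by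
  haveI := FS.finite_sub hC
  have hnorm : (C.subgroupOf S).Normal := by
    refine Subgroup.normal_of_index_eq_minFac_card ?_
    obtain ⟨k, hk⟩ := IsPGroup.iff_card.1 hS
    have h := Subgroup.index_dvd_card (C.subgroupOf S)
    rw [show (C.subgroupOf S).index = p from hidx, hk] at h
    have hk0 : k ≠ 0 := by
      rintro rfl
      rw [pow_zero] at h
      exact hp.out.ne_one (Nat.dvd_one.1 h)
    rw [hk, Nat.pow_minFac hk0, hp.out.minFac_eq]
    exact hidx
  have hSN : ∀ g ∈ S, g ∈ Subgroup.normalizer (C : Set Ω) := fun g hg =>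
    FS.mem_normalizer_of_conj_mem fun c hc =>
      Subgroup.mem_subgroupOf.1 (hnorm.conj_mem ⟨c, hC hc⟩ (Subgroup.mem_subgroupOf.2 hc) ⟨g, hg⟩)
  have hN : normalizerIn S C = S := inf_eq_left.2 hSN
  have hfn : F.IsFullyNormalized C := ⟨hC, fun Q _ => by
    rw [hN]; exact Subgroup.card_le_of_le (FS.normalizerIn_le Q)⟩
  haveI hInn : ((Inn C).subgroupOf (F.autGroup C)).Normal := inferInstance
  refine ⟨hcen, hfn, hInn, ?_⟩
  obtain ⟨R, hR⟩ := (FS.fullyAutomized_of_fullyNormalized hS hF hfn).2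
  set π := QuotientGroup.mk' ((Inn C).subgroupOf (F.autGroup C))
  set P := R.mapSurjective (QuotientGroup.mk'_surjective ((Inn C).subgroupOf (F.autGroup C))) with hPdef
  let c : S →* F.autGroup C := MonoidHom.codRestrict
    (C.normalizerMonoidHom.comp (Subgroup.inclusion hSN)) (F.autGroup C)
    fun g => FS.autInducedBy_le_autGroup F hC (FS.mem_autInducedBy.2 ⟨g, g.2, fun _ => rfl⟩)
  have hPr : (P : Subgroup (↥(F.autGroup C) ⧸ (Inn C).subgroupOf (F.autGroup C))) = (π.comp c).range := by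
    rw [hPdef, Sylow.coe_mapSurjective, hR, MonoidHom.range_comp]
    congr 1
    ext a
    rw [Subgroup.mem_subgroupOf, FS.mem_autInducedBy]
    constructor
    · rintro ⟨g, hg, he⟩
      exact ⟨⟨g, hg⟩, Subtype.ext (MulEquiv.ext fun x => Subtype.ext (he x).symm)⟩
    · rintro ⟨g, rfl⟩
      exact ⟨g, g.2, fun _ => rfl⟩
  have hker : C.subgroupOf S ≤ (π.comp c).ker := fun g hg => by
    refine MonoidHom.mem_ker.2 ((QuotientGroup.eq_one_iff _).2 (Subgroup.mem_subgroupOf.2 ?_))
    exact ⟨⟨g, hg⟩, MulEquiv.ext fun x => Subtype.ext rfl⟩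
  have hcard : Nat.card (P : Subgroup (↥(F.autGroup C) ⧸ (Inn C).subgroupOf (F.autGroup C))) = p := by
    rw [hPr, ← Subgroup.index_ker]
    have hdv : (π.comp c).ker.index ∣ p :=
      (Subgroup.index_dvd_of_le hker).trans (dvd_of_eq hidx)
    rcases hp.out.eq_one_or_self_of_dvd _ hdv
      with h | h
    · exfalso
      obtain ⟨g, hgS, hgC⟩ := SetLike.not_le_iff_exists.1
        (fun hSC : S ≤ C => hp.out.ne_one (hidx.symm.trans (Subgroup.relIndex_eq_one.2 hSC)))
      have hg : (⟨g, hgS⟩ : S) ∈ (π.comp c).ker := by rw [Subgroup.index_eq_one.1 h]; trivial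
      exact FS.not_inn_of_not_mem (hcen.2 C (FS.isConj_refl F hC)) hC ⟨hgS, hSN g hgS⟩ hgC
        (Subgroup.mem_subgroupOf.1 ((QuotientGroup.eq_one_iff _).1 (MonoidHom.mem_ker.1 hg)))
    · exact h
  refine ⟨Subgroup.normalizer ((P : Subgroup (↥(F.autGroup C) ⧸ (Inn C).subgroupOf (F.autGroup C))) :
      Set (↥(F.autGroup C) ⧸ (Inn C).subgroupOf (F.autGroup C))), hcard ▸ Subgroup.card_subgroup_dvd_card _, ?_,
    P, iSup_le fun Q => ?_⟩
  · intro htop
    obtain ⟨u, hu, huα⟩ := hno
    have hn : π ⟨α, hα⟩ ∈ Subgroup.normalizer ((P : Subgroup (↥(F.autGroup C) ⧸ (Inn C).subgroupOf (F.autGroup C))) : Set (↥(F.autGroup C) ⧸ (Inn C).subgroupOf (F.autGroup C))) :=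
      htop.ge (Subgroup.mem_top _)
    have hu' : π ⟨u, FS.autInducedBy_le_autGroup F hC hu⟩ ∈
        (P : Subgroup (↥(F.autGroup C) ⧸ (Inn C).subgroupOf (F.autGroup C))) :=
      ⟨_, show _ ∈ (R : Subgroup (F.autGroup C)) by rw [hR]; exact Subgroup.mem_subgroupOf.2 hu, rfl⟩
    obtain ⟨r, hr, hre⟩ := (hn _).1 hu'
    rw [← map_inv, ← map_mul, ← map_mul] at hre
    have hi := (QuotientGroup.eq (s := (Inn C).subgroupOf (F.autGroup C))).1 hre
    replace hr : r ∈ (R : Subgroup (F.autGroup C)) := hr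
    rw [hR] at hr
    have h2 := mul_mem (Subgroup.mem_subgroupOf.1 hr) (FS.inn_le_autInducedBy hC (Subgroup.mem_subgroupOf.1 hi))
    simp only [Subgroup.coe_mul, Subgroup.coe_inv, mul_inv_cancel_left] at h2
    exact huα h2
  · obtain ⟨Q, hQP, hQ⟩ := Q
    show Subgroup.normalizer (Q : Set (↥(F.autGroup C) ⧸ (Inn C).subgroupOf (F.autGroup C))) ≤ _
    have hQne : Q ≠ ⊥ := fun h => hQ fun A _ _ => by
      rw [pow_zero]
      exact (Nat.card_le_card_of_injective A.subtype A.subtype_injective).trans (by rw [h, Subgroup.card_bot])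
    rw [show Q = (P : Subgroup (↥(F.autGroup C) ⧸ (Inn C).subgroupOf (F.autGroup C))) from Subgroup.eq_of_le_of_card_ge hQP (by
      rcases hp.out.eq_one_or_self_of_dvd _ (hcard ▸ Subgroup.card_dvd_of_le hQP) with h | h
      · exact absurd (Subgroup.card_eq_one.1 h) hQne
      · rw [h, hcard])]


/-- Let p ≥ 5 be a prime, S a finite p-group of maximal class of order p^n with n ≥ 4, and F a saturated fusion system over S. If some map of F defined on the second centre Z₂(S) with image Z₂(S) does not carry Z(S) into itself, then the centralizer C_S(Z₂(S)) is an F-essential subgroup. -/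
theorem result {Ω : Type*} [Group Ω] {S : Subgroup Ω} [Finite S] (p : ℕ) [Fact p.Prime] (hS : IsPGroup p ↥S) (n : ℕ) (hn : Nat.card S = p ^ n) (h4 : 4 ≤ n) (hmax : Subgroup.lowerCentralSeries S (n - 2) ≠ ⊥) (F : Cfsg.FusionSystem S) (hF : F.IsSaturated p) (hp : 5 ≤ p) (φ : ↥((Subgroup.upperCentralSeries ↥S 2).map S.subtype) →* Ω) (hφ : φ ∈ F.Hom ((Subgroup.upperCentralSeries ↥S 2).map S.subtype)) (hφZ : φ.range = ((Subgroup.upperCentralSeries ↥S 2).map S.subtype)) (hmove : ∃ (z : Ω) (hz : z ∈ ((Subgroup.upperCentralSeries ↥S 2).map S.subtype)), z ∈ ((Subgroup.center ↥S).map S.subtype) ∧ φ ⟨z, hz⟩ ∉ ((Subgroup.center ↥S).map S.subtype)) : F.IsEssential p (S ⊓ Subgroup.centralizer (((Subgroup.upperCentralSeries ↥S 2).map S.subtype) : Set Ω)) :=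
by
  have hmaxX : (⊤ : Subgroup S).lowerCentralSeries (n - 2) ≠ ⊥ := fun h => hmax (by
    rw [← Subgroup.top_subtype_lowerCentralSeries, h, Subgroup.map_bot])
  obtain ⟨hZ, hU⟩ := centre_facts hn h4 hmaxX
  have hidx := index_centralizer_two hn h4 hmaxX
  set C := S ⊓ Subgroup.centralizer (((Subgroup.upperCentralSeries ↥S 2).map S.subtype) : Set Ω) with hCdef
  have hCsub : C.subgroupOf S = Subgroup.centralizer ((Subgroup.upperCentralSeries ↥S 2) : Set S) := by
    ext g
    constructor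
    · rintro ⟨-, h⟩ u hu
      exact Subtype.ext (h _ ⟨u, hu, rfl⟩)
    · refine fun h => ⟨g.2, ?_⟩
      rintro _ ⟨u, hu, rfl⟩
      exact congrArg Subtype.val (h u hu)
  have hCidx : C.relIndex S = p := by
    show (C.subgroupOf S).index = p
    rw [hCsub, hidx]
  have hCS : C ≤ S := inf_le_left
  haveI := FS.finite_sub hCS
  have hZ2S : ((Subgroup.upperCentralSeries ↥S 2).map S.subtype) ≤ S := Subgroup.map_subtype_le _
  haveI := FS.finite_sub hZ2S
  -- every subgroup of index `p` contains the centre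
  have hcen : F.IsCentric C := by
    refine ⟨hCS, fun Q hQ g hg => ?_⟩
    by_contra hgQ
    obtain ⟨χ, hχ, rfl⟩ := hQ
    have hQS : χ.range ≤ S := FS.range_le_base hχ
    have hgS : g ∈ S := hg.1
    have hQidx : (χ.range.subgroupOf S).index = p := by
      have h1 := Subgroup.card_mul_index (χ.range.subgroupOf S)
      have h2 := Subgroup.card_mul_index (C.subgroupOf S)
      rw [Nat.card_congr (Subgroup.subgroupOfEquivOfLe hQS).toEquiv,
        ← Nat.card_congr (MonoidHom.ofInjective (F.injective_of_mem hχ)).toEquiv,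
        ← Nat.card_congr (Subgroup.subgroupOfEquivOfLe hCS).toEquiv] at h1
      rw [show (C.subgroupOf S).index = p from hCidx, ← h1] at h2
      exact (Nat.eq_of_mul_eq_mul_left Nat.card_pos h2).symm
    have hcomax : ∀ K : Subgroup S, χ.range.subgroupOf S ≤ K → (⟨g, hgS⟩ : S) ∈ K → K = ⊤ := by
      intro K hK hgK
      rcases Fact.out (p := p.Prime) |>.eq_one_or_self_of_dvd _ (hQidx ▸ Subgroup.index_dvd_of_le hK) with h | h
      · exact Subgroup.index_eq_one.1 h
      · exfalso
        refine hgQ (Subgroup.mem_subgroupOf.1 (?_ : (⟨g, hgS⟩ : S) ∈ χ.range.subgroupOf S))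
        rwa [Subgroup.eq_of_le_of_card_ge hK (le_of_eq ?_)]
        have h1 := Subgroup.card_mul_index (χ.range.subgroupOf S)
        have h2 := Subgroup.card_mul_index K
        rw [h, ← h1, hQidx] at h2
        exact Nat.eq_of_mul_eq_mul_right (Fact.out (p := p.Prime)).pos h2
    have hgc : (⟨g, hgS⟩ : S) ∈ Subgroup.center S := by
      refine Subgroup.mem_center_iff.2 fun s => ?_
      have hK := hcomax (Subgroup.centralizer ({⟨g, hgS⟩} : Set S))
        (fun y hy => Subgroup.mem_centralizer_singleton_iff.2 (Subtype.ext (FS.mem_centralizerIn.1 hg |>.2 y hy)))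
        (Subgroup.mem_centralizer_singleton_iff.2 rfl)
      exact Subgroup.mem_centralizer_singleton_iff.1 (hK.ge (Subgroup.mem_top s))
    haveI : (χ.range.subgroupOf S).Normal := by
      refine Subgroup.normal_of_index_eq_minFac_card ?_
      rw [hn, Nat.pow_minFac (by omega), (Fact.out (p := p.Prime)).minFac_eq]
      exact hQidx
    have hne : χ.range.subgroupOf S ≠ ⊥ := fun h => by
      rw [h, Subgroup.index_bot, hn] at hQidx
      have : n = 1 := Nat.pow_right_injective (Fact.out (p := p.Prime)).two_le (by simpa using hQidx)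
      omega
    have hmeet := PGroups.normal_inf_center_ne_bot hS _ hne
    have hle : Subgroup.center S ≤ χ.range.subgroupOf S := by
      rcases Fact.out (p := p.Prime) |>.eq_one_or_self_of_dvd _
        (hZ ▸ Subgroup.card_dvd_of_le (inf_le_right : χ.range.subgroupOf S ⊓ Subgroup.center S ≤ _)) with h | h
      · exact absurd (Subgroup.card_eq_one.1 h) hmeet
      · rw [← Subgroup.eq_of_le_of_card_ge inf_le_right (le_of_eq (hZ.trans h.symm) : _ ≤ Nat.card
          ↥(χ.range.subgroupOf S ⊓ Subgroup.center S))]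
        exact inf_le_left
    exact hgQ (hle hgc)
  -- `Z₂` is receptive, so `φ` extends to `C`
  have hZ2n : F.IsFullyNormalized ((Subgroup.upperCentralSeries ↥S 2).map S.subtype) := by
    refine ⟨hZ2S, fun Q _ => @Subgroup.card_le_of_le _ _ _ _ (FS.finite_sub (FS.normalizerIn_le _)) (le_inf (FS.normalizerIn_le Q) ?_)⟩
    intro g hg
    refine FS.mem_normalizer_of_conj_mem ?_
    rintro _ ⟨u, hu, rfl⟩
    exact ⟨_, (inferInstance : (Subgroup.upperCentralSeries ↥S 2).Normal).conj_mem u hu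
      ⟨g, FS.normalizerIn_le Q hg⟩, rfl⟩
  obtain ⟨ψ₀, hψ₀, he₀⟩ := (FS.receptive_of_fullyNormalized hS hF hZ2n).2 ((Subgroup.upperCentralSeries ↥S 2).map S.subtype) φ hφ hφZ
  have hCext : C ≤ extender S ((Subgroup.upperCentralSeries ↥S 2).map S.subtype) φ := FS.centralizerIn_le_extender ((Subgroup.upperCentralSeries ↥S 2).map S.subtype) φ
  obtain ⟨ψ, hψ, he⟩ := FS.exists_restrict hψ₀ hCext
  have hZ2C : ∀ y ∈ ((Subgroup.upperCentralSeries ↥S 2).map S.subtype), y ∈ C := by
    intro y hy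
    refine ⟨hZ2S hy, fun w hw => ?_⟩
    obtain ⟨u, hu, rfl⟩ := hy
    obtain ⟨v, hv, rfl⟩ := hw
    have hcom : IsMulCommutative (Subgroup.upperCentralSeries ↥S 2) := IsPGroup.isMulCommutative_of_card_eq_prime_sq hU
    exact congrArg (fun t : (Subgroup.upperCentralSeries ↥S 2) => ((t : S) : Ω)) (hcom.is_comm.comm ⟨v, hv⟩ ⟨u, hu⟩)
  have heZ : ∀ (y : Ω) (hy : y ∈ ((Subgroup.upperCentralSeries ↥S 2).map S.subtype)), ψ ⟨y, hZ2C y hy⟩ = φ ⟨y, hy⟩ := fun y hy =>
    (he _).trans (he₀ y hy _)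
  have hrange : ψ.range = C := by
    refine Subgroup.eq_of_le_of_card_ge ?_
      (le_of_eq (Nat.card_congr (MonoidHom.ofInjective (F.injective_of_mem hψ)).toEquiv))
    rintro _ ⟨c, rfl⟩
    refine ⟨FS.apply_mem hψ c, fun w hw => ?_⟩
    obtain ⟨y, rfl⟩ := hφZ.ge hw
    rw [← heZ y y.2, ← map_mul, ← map_mul]
    exact congrArg ψ (Subtype.ext (c.2.2 y y.2))
  refine essential_of_index hS hF hCS hCidx hcen (FS.homEquiv_mem_autGroup hψ hrange) ?_
  by_contra hall
  push Not at hall
  have hnorm : (C.subgroupOf S).Normal := by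
    refine Subgroup.normal_of_index_eq_minFac_card ?_
    rw [hn, Nat.pow_minFac (by omega), (Fact.out (p := p.Prime)).minFac_eq]
    exact hCidx
  have hSN : ∀ g ∈ S, g ∈ normalizerIn S C := fun g hg => ⟨hg, FS.mem_normalizer_of_conj_mem fun c hc =>
    Subgroup.mem_subgroupOf.1 (hnorm.conj_mem ⟨c, hCS hc⟩ (Subgroup.mem_subgroupOf.2 hc) ⟨g, hg⟩)⟩
  have hCn : F.IsFullyNormalized C :=
    ⟨hCS, fun Q _ => @Subgroup.card_le_of_le _ _ _ _ (FS.finite_sub (FS.normalizerIn_le _)) fun g hg => hSN g hg.1⟩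
  obtain ⟨χ, hχ, heχ⟩ := (FS.receptive_of_fullyNormalized hS hF hCn).2 C ψ hψ hrange
  have hfull : S ≤ extender S C ψ := by
    intro g hg
    obtain ⟨h, hh, heh⟩ := FS.mem_autInducedBy.1
      (hall _ (FS.mem_autInducedBy.2 ⟨g, hg, fun _ => rfl⟩ :
        C.normalizerMonoidHom ⟨g, (hSN g hg).2⟩ ∈ autInducedBy S C))
    refine FS.mem_extender_of (hSN g hg) hh fun x hx => ?_
    have h1 := heh (FS.homEquiv hψ hrange x)
    rw [MulAut.mul_apply, MulAut.mul_apply, MulAut.inv_apply_self] at h1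
    exact h1
  obtain ⟨θ, hθ, heθ⟩ := FS.exists_restrict hχ hfull
  have hθS : θ.range = S := Subgroup.eq_of_le_of_card_ge (FS.range_le_base hθ)
    (le_of_eq (Nat.card_congr (MonoidHom.ofInjective (F.injective_of_mem hθ)).toEquiv))
  obtain ⟨z, hz, ⟨zc, hzc, hzz⟩, hzout⟩ := hmove
  have hzS : z ∈ S := hZ2S hz
  refine hzout ⟨⟨φ ⟨z, hz⟩, FS.apply_mem hφ _⟩, Subgroup.mem_center_iff.2 fun s => Subtype.ext ?_, rfl⟩
  obtain ⟨t, ht⟩ := hθS.ge s.2
  have hzv : θ ⟨z, hzS⟩ = φ ⟨z, hz⟩ :=
    ((heθ _).trans (heχ z (hZ2C z hz) _)).trans (heZ z hz)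
  show (s : Ω) * φ ⟨z, hz⟩ = φ ⟨z, hz⟩ * s
  rw [← hzv, ← ht, ← map_mul, ← map_mul]
  refine congrArg θ ?_
  have hc := Subgroup.mem_center_iff.1 hzc t
  rwa [show zc = (⟨z, hzS⟩ : S) from Subtype.ext hzz] at hc

end Cfsg.Agent.S5270
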