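import Cfsg.Statements.S5271
import Cfsg.Agent.Lib.FusionP3.WeakEmb.Main

set_option autoImplicit false
set_option linter.style.haveILetI false
open Cfsg

namespace Cfsg.Agent.S5271

/-- A nilpotency criterion for fusion systems. Let F be a saturated fusion system over a finite p-group S of order at least p². Call a subgroup Q of S weakly embedded in F when there is a subgroup P of S strongly closed in F such that both the product QP and the intersection Q ∩ P are strongly closed in F. Then F is the inner fusion system of S if and only if there is a subgroup D of S with 1 < D < S such that every subgroup of S of the same order as D is weakly embedded in F and, for every fully normalized subgroup H of S of that order, the normalizer fusion system of H in F is the inner fusion system of N_S(H). -/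
theorem result {Ω : Type*} [Group Ω] {S : Subgroup Ω} [Finite S] (p : ℕ) [Fact p.Prime] (hS : IsPGroup p ↥S) (F : Cfsg.FusionSystem S) (hF : F.IsSaturated p) (hcard : p ^ 2 ≤ Nat.card S) : (∀ P : Subgroup Ω, F.Hom P = (Cfsg.innerFusionSystem S).Hom P) ↔ ∃ D : Subgroup Ω, ⊥ < D ∧ D < S ∧ (∀ Q : Subgroup Ω, Q ≤ S → Nat.card ↥Q = Nat.card ↥D → ∃ P : Subgroup Ω, F.StronglyClosed P ∧ F.StronglyClosed (Q ⊔ P) ∧ F.StronglyClosed (Q ⊓ P)) ∧ (∀ H : Subgroup Ω, F.IsFullyNormalized H → Nat.card ↥H = Nat.card ↥D → ∀ N : Cfsg.FusionSystem (Cfsg.FusionSystem.normalizerIn S H), F.IsNormalizerSystem H N → ∀ P : Subgroup Ω, N.Hom P = (Cfsg.innerFusionSystem (Cfsg.FusionSystem.normalizerIn S H)).Hom P) := by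
  classical
  have hp : p.Prime := Fact.out
  constructor
  · intro hin
    obtain ⟨m, hm⟩ := IsPGroup.iff_card.1 hS
    have hm2 : 2 ≤ m := (Nat.pow_le_pow_iff_right hp.one_lt).1 (hm ▸ hcard)
    obtain ⟨D₀, hD₀⟩ := Sylow.exists_subgroup_card_pow_prime (G := S) p (n := m - 1)
      (hm ▸ pow_dvd_pow p (by omega))
    have hDc : Nat.card (D₀.map S.subtype) = p ^ (m - 1) := by
      rw [Subgroup.card_map_of_injective S.subtype_injective, hD₀]
    have h1lt : 1 < p ^ (m - 1) := Nat.one_lt_pow (by omega) hp.one_lt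
    refine ⟨D₀.map S.subtype, bot_lt_iff_ne_bot.2 (Lib.FusionP3.WeakEmb.ne_bot_of_one_lt (hDc ▸ h1lt)),
      lt_of_le_of_ne (Subgroup.map_subtype_le _) fun he => ?_, ?_, ?_⟩
    · have := Nat.pow_lt_pow_right hp.one_lt (show m - 1 < m by omega)
      rw [← hDc, he, hm] at this
      exact lt_irrefl _ this
    · intro Q hQ hQc
      have hb : F.StronglyClosed (⊥ : Subgroup Ω) := by
        refine ⟨bot_le, fun R hR φ hφ x => ?_⟩
        rw [show x = 1 from Subtype.ext (Subgroup.mem_bot.1 (hR x.2)), map_one]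
        exact one_mem _
      refine ⟨⊥, hb, ?_, by rwa [inf_bot_eq]⟩
      rw [sup_bot_eq]
      have hlt : Q < S := lt_of_le_of_ne hQ fun he => by
        have := Nat.pow_lt_pow_right hp.one_lt (show m - 1 < m by omega)
        rw [← hDc, ← hQc, he, hm] at this
        exact lt_irrefl _ this
      have hN := Lib.FusionP3.Induction.lt_normalizerIn hS hlt
      haveI : Finite (Cfsg.FusionSystem.normalizerIn S Q) := Lib.FS.finite_sub (Lib.FS.normalizerIn_le Q)
      have hNc : Nat.card (Cfsg.FusionSystem.normalizerIn S Q) = p ^ m := by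
        obtain ⟨j, hj⟩ := IsPGroup.iff_card.1 (hS.to_le (Lib.FS.normalizerIn_le Q))
        have h2 : Nat.card (Cfsg.FusionSystem.normalizerIn S Q) ≤ p ^ m :=
          hm ▸ Subgroup.card_le_of_le (Lib.FS.normalizerIn_le Q)
        haveI := Lib.FS.finite_sub hQ
        have h3 : p ^ (m - 1) < p ^ j := by
          rw [← hj, ← hDc, ← hQc]
          exact Nat.lt_of_le_of_ne (Subgroup.card_le_of_le hN.le) fun he =>
            hN.ne (Subgroup.eq_of_le_of_card_ge hN.le he.ge)
        have h4 := (Nat.pow_lt_pow_iff_right hp.one_lt).1 h3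
        have h5 := (Nat.pow_le_pow_iff_right hp.one_lt).1 (hj ▸ h2)
        rw [hj, show j = m by omega]
      have hNS : Cfsg.FusionSystem.normalizerIn S Q = S :=
        Subgroup.eq_of_le_of_card_ge (Lib.FS.normalizerIn_le Q) (by rw [hNc, hm])
      refine ⟨hQ, fun R hR φ hφ x => ?_⟩
      rw [hin R] at hφ
      obtain ⟨-, g, hg, hgx⟩ := hφ
      rw [hgx]
      exact (Subgroup.mem_normalizer_iff.1 (Lib.FS.mem_normalizerIn.1 (hNS.ge hg)).2 _).1 (hR x.2)
    · intro H hH _ N hN P
      haveI := Lib.FS.finite_sub hH.1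
      ext φ
      rw [hN P]
      constructor
      · rintro ⟨-, hPN, -, ψ, hψ, hres, hQ⟩
        rw [hin] at hψ
        obtain ⟨-, g, hg, hgx⟩ := hψ
        refine ⟨hPN, g, Lib.FS.mem_normalizerIn.2 ⟨hg, Lib.FS.mem_normalizer_of_conj_mem fun y hy => ?_⟩, fun x => ?_⟩
        · have h := hQ.le ⟨⟨y, Subgroup.mem_sup_right hy⟩, hy, rfl⟩
          rw [hgx] at h
          exact h
        · rw [← hres x, hgx]
          rfl
      · rintro ⟨hPN, g, hg, hgx⟩
        have hgS := (Lib.FS.mem_normalizerIn.1 hg).1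
        have hgn := (Lib.FS.mem_normalizerIn.1 hg).2
        have hPS := hPN.trans (Lib.FS.normalizerIn_le H)
        refine ⟨Lib.FS.hom_congr (F.conj_mem hPS hgS) fun x => hgx x, hPN, fun x => ?_,
          _, F.conj_mem (sup_le hPS hH.1) hgS, fun x => (hgx x).symm, ?_⟩
        · rw [hgx]
          exact mul_mem (mul_mem hg (hPN x.2)) (inv_mem hg)
        · ext y
          constructor
          · rintro ⟨x, hx, rfl⟩
            exact (Subgroup.mem_normalizer_iff.1 hgn _).1 hx
          · intro hy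
            have hx : g⁻¹ * y * g ∈ H := by
              rw [Subgroup.mem_normalizer_iff.1 hgn]
              simpa [mul_assoc] using hy
            refine ⟨⟨g⁻¹ * y * g, Subgroup.mem_sup_right hx⟩, hx, ?_⟩
            show g * (g⁻¹ * y * g) * g⁻¹ = y
            simp [mul_assoc]
  · rintro ⟨D, hD1, hD2, hEmb, hNinn⟩
    haveI := Lib.FS.finite_sub hD2.le
    obtain ⟨k, hk⟩ := IsPGroup.iff_card.1 (hS.to_le hD2.le)
    have hk0 : k ≠ 0 := by
      rintro rfl
      rw [pow_zero] at hk
      exact hD1.ne' (Subgroup.card_eq_one.1 hk)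
    have hdS : p ^ k < Nat.card S := hk ▸ Nat.lt_of_le_of_ne (Subgroup.card_le_of_le hD2.le) fun he =>
      hD2.ne (Subgroup.eq_of_le_of_card_ge hD2.le he.ge)
    have hN : Lib.FusionP3.WeakEmb.NTr F p (p ^ k) := by
      intro H hH hHc
      obtain ⟨H', hc, hfn⟩ := Lib.FS.exists_isFullyNormalized F hH
      obtain ⟨ψ, hψ, hm, hmap⟩ := Lib.FS.exists_normalizer_map hS hF hfn hc
      refine Lib.FusionP3.GT.NTriv.of_map hψ hm hmap ?_
      haveI : Finite (Cfsg.FusionSystem.normalizerIn S H') := Lib.FS.finite_sub (Lib.FS.normalizerIn_le H')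
      obtain ⟨N, hN⟩ := Lib.FS.exists_normalizerSystem F hfn.1
      refine Lib.FusionP3.GT.NTriv.of_ptriv_normalizer hN fun P hP α hα hco => ?_
      refine Lib.FusionP3.WeakEmb.isInner_autGroup (hS.to_le (Lib.FS.normalizerIn_le H')) ?_ hP hα hco
      intro P' φ hφ
      rw [hNinn H' hfn ((Lib.FS.isConj_card hc).trans (hHc.trans hk.symm)) N hN P'] at hφ
      exact hφ.2
    have hinn := Lib.FusionP3.WeakEmb.main _ rfl hS F hF k hk0 hdS
      (fun Q hQ hQc => hEmb Q hQ (hQc.trans hk.symm)) hN
    intro P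
    ext φ
    constructor
    · intro hφ
      exact ⟨(F.le_of_mem hφ).1, hinn P φ hφ⟩
    · rintro ⟨hP, g, hg, hgx⟩
      exact Lib.FS.hom_congr (F.conj_mem hP hg) fun x => hgx x

end Cfsg.Agent.S5271
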