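import Cfsg.Prelude.Def_FusionSystem
import Cfsg.Prelude.Def_PLocal
import Cfsg.Agent.Lib.Tech42.WeakFF.Fusion

set_option autoImplicit false

namespace Cfsg.Agent.S5278

open Cfsg Cfsg.FusionSystem Cfsg.Agent.Lib

theorem result {Ω : Type*} [Group Ω] {S : Subgroup Ω} [Finite S] (p : ℕ) [Fact p.Prime] (hS : IsPGroup p ↥S) (F : Cfsg.FusionSystem S) (hF : F.IsSaturated p) (hp : p ≠ 2) (T : Subgroup Ω) (hT : T ≤ S ⊓ Subgroup.centralizer (S : Set Ω)) (hJT : ∀ NJ : Cfsg.FusionSystem (Cfsg.FusionSystem.normalizerIn S (Cfsg.thompsonSubgroupAOf S)), F.IsNormalizerSystem (Cfsg.thompsonSubgroupAOf S) NJ → ∀ NT : Cfsg.FusionSystem (Cfsg.FusionSystem.normalizerIn S T), F.IsNormalizerSystem T NT → NJ.IsSubsystemOf NT) : F.WeaklyClosed T ∨ ∃ X : Subgroup (MulAut ↥T), X ≤ F.autGroup T ∧ X ≠ ⊥ ∧ IsCyclic ↥X ∧ (Nat.card ↥X).Coprime p ∧ ∀ a b : ↥T, a ∈ Subgroup.closure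 {y : ↥T | ∃ ψ ∈ X, ∃ t : ↥T, y = ψ t * t⁻¹} → b ∈ Subgroup.closure {y : ↥T | ∃ ψ ∈ X, ∃ t : ↥T, y = ψ t * t⁻¹} → a ≠ 1 → b ≠ 1 → ∃ ψ ∈ X, ψ a = b := by
  have hTS : T ≤ S := hT.trans inf_le_left
  have hTc : ∀ s ∈ S, ∀ t ∈ T, s * t = t * s := fun s hs t ht =>
    Subgroup.mem_centralizer_iff.mp (hT ht).2 s hs
  haveI := FS.finite_sub hTS
  have hJS : FS.Control.NormMaps F (FusionP3.TG.thompJ S) (WeakFF.Stab T) := by
    rw [← FusionP3.TG.thompsonSubgroupAOf_eq le_rfl]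
    obtain ⟨NJ, hNJ⟩ := FS.exists_normalizerSystem F (Subgroup.map_subtype_le _ :
      Cfsg.thompsonSubgroupAOf S ≤ S)
    obtain ⟨NT, hNT⟩ := FS.exists_normalizerSystem F hTS
    intro P φ hφ hTP x hx
    obtain ⟨-, -, -, ψ, hψ, he, hm⟩ := (hNT P).le (hJT NJ hNJ NT hNT P ((hNJ P).ge hφ))
    rw [← he x]
    exact hm.le ⟨_, hx, rfl⟩
  rcases WeakFF.allMaps_stab_or_torus hS hF hp hTS hTc hJS with h | ⟨α, hα, hco, hne, htr⟩
  · exact .inl ⟨hTS, fun φ hφ => FS.range_eq_of_mem hφ (fun x => h T φ hφ le_rfl x x.2) le_rfl⟩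
  · refine .inr ⟨Subgroup.zpowers α, Subgroup.zpowers_le.2 hα, fun e => hne (Subgroup.zpowers_eq_bot.mp e),
      inferInstance, by rwa [Nat.card_zpowers], fun a b ha hb ha1 hb1 => ?_⟩
    haveI : Finite (MulAut T) := Finite.of_injective (fun f : MulAut T => (f : T → T)) DFunLike.coe_injective
    have hle : ∀ c ∈ Subgroup.closure {y : ↥T | ∃ ψ ∈ Subgroup.zpowers α, ∃ t : ↥T, y = ψ t * t⁻¹},
        c ∈ Subgroup.closure {y : ↥T | ∃ k : ℕ, ∃ t : ↥T, y = (α ^ k) t * t⁻¹} := fun c hc => by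
      refine Subgroup.closure_mono ?_ hc
      rintro _ ⟨ψ, hψ, t, rfl⟩
      obtain ⟨k, rfl⟩ := Submonoid.mem_powers_iff _ _ |>.mp ((isOfFinOrder_of_finite α).mem_powers_iff_mem_zpowers.mpr hψ)
      exact ⟨k, t, rfl⟩
    obtain ⟨k, hk⟩ := htr a (hle a ha) b (hle b hb) ha1 hb1
    exact ⟨α ^ k, Subgroup.npow_mem_zpowers α k, hk⟩

end Cfsg.Agent.S5278
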