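import Cfsg.Statements.S5283
import Cfsg.Agent.Lib.FusionEssential.Supersoluble
import Cfsg.Agent.Lib.FusionEssential.InvariantLine

set_option autoImplicit false
open Cfsg

namespace Cfsg.Agent.S5283

section
open Cfsg Cfsg.FusionSystem
open Cfsg.Agent.Lib
open Cfsg.Agent.Lib.FusionEssential Cfsg.Agent.Lib.FusionEssential.StepChain
open Cfsg.Agent.Lib.FusionEssential.Supersoluble

/-- The converse: a normal base with small automisers gives a chain. -/
theorem super_of_auts {Ω : Type*} [Group Ω] {S : Subgroup Ω} [Finite S] {p : ℕ} [Fact p.Prime]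
    (hS : IsPGroup p S) {F : FusionSystem S} (hF : F.IsSaturated p) (hN : F.IsNormal S)
    (hauts : ∀ H : Subgroup (MulAut S), (Nat.card H).Coprime p → IsMulCommutative H ∧ ∀ h ∈ H, h ^ (p - 1) = 1) :
    IsSuper F := by
  haveI : Finite (MulAut S) := Finite.of_injective (fun f : MulAut S => (f : S → S)) DFunLike.coe_injective
  set A := F.autGroup S
  obtain ⟨R, hR⟩ := (FS.isFullyAutomized_base hS hF).2
  haveI hRn : (R : Subgroup A).Normal := by
    refine ⟨fun n hn g => ?_⟩
    rw [hR, Subgroup.mem_subgroupOf] at hn ⊢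
    obtain ⟨t, ht, hte⟩ := FS.mem_autInducedBy.1 hn
    refine FS.mem_autInducedBy.2 ⟨((g : MulAut S) ⟨t, ht⟩ : S), SetLike.coe_mem _, fun x => ?_⟩
    have h1 : (n : MulAut S) ((g : MulAut S)⁻¹ x) = ⟨t, ht⟩ * ((g : MulAut S)⁻¹ x) * ⟨t, ht⟩⁻¹ :=
      Subtype.ext (hte _)
    show (((g : MulAut S) ((n : MulAut S) ((g : MulAut S)⁻¹ x)) : S) : Ω) = _
    rw [h1, map_mul, map_mul, map_inv, MulAut.apply_inv_self]
    rfl
  have hcop : Nat.Coprime (Nat.card (R : Subgroup A)) (R : Subgroup A).index := by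
    obtain ⟨k, hk⟩ := IsPGroup.iff_card.1 R.isPGroup'
    rw [hk]
    exact Nat.Coprime.pow_left _ ((Fact.out : p.Prime).coprime_iff_not_dvd.2 R.not_dvd_index)
  obtain ⟨K, hK⟩ := Subgroup.exists_right_complement'_of_coprime hcop
  have hKc : (Nat.card (K.map A.subtype)).Coprime p := by
    have h1 : Nat.card (R : Subgroup A) * Nat.card K = Nat.card (R : Subgroup A) * (R : Subgroup A).index := by
      rw [hK.card_mul_card, Subgroup.card_mul_index]
    rw [Subgroup.card_map_of_injective A.subtype_injective, Nat.eq_of_mul_eq_mul_left Nat.card_pos h1]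
    exact ((Fact.out : p.Prime).coprime_iff_not_dvd.2 R.not_dvd_index).symm
  obtain ⟨hHc, hHp⟩ := hauts _ hKc
  -- strongly closed means normal and invariant
  have hsc : ∀ Q : Subgroup S, Q.Normal → (∀ a ∈ K.map A.subtype, ∀ x ∈ Q, a x ∈ Q) → SC F Q := by
    intro Q hQn hQH
    refine ⟨Subgroup.map_subtype_le _, fun P hP φ hφ x => ?_⟩
    obtain ⟨y, hy, hyx⟩ := hP x.2
    obtain ⟨α, hα, he⟩ := (FS.isNormal_iff_extend hS hF le_rfl).1 hN P (FS.src_le hφ) φ hφ
    obtain ⟨r, hr, k, hk, hrk⟩ : ∃ r ∈ (R : Subgroup A), ∃ k ∈ K, r * k = ⟨α, hα⟩ := by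
      obtain ⟨⟨r, k⟩, hrk⟩ := hK.2 ⟨α, hα⟩
      exact ⟨r, r.2, k, k.2, hrk⟩
    rw [hR, Subgroup.mem_subgroupOf] at hr
    obtain ⟨t, ht, hte⟩ := FS.mem_autInducedBy.1 hr
    refine ⟨α y, ?_, ?_⟩
    · rw [show α = (r : MulAut S) * k from (congrArg Subtype.val hrk).symm, MulAut.mul_apply]
      have h2 : (k : MulAut S) y ∈ Q := hQH _ ⟨k, hk, rfl⟩ y hy
      rw [show (r : MulAut S) ((k : MulAut S) y) = ⟨t, ht⟩ * (k : MulAut S) y * ⟨t, ht⟩⁻¹ from Subtype.ext (hte _)]
      exact hQn.conj_mem _ h2 _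
    · show ((α y : S) : Ω) = φ x
      rw [← he x]
      congr 2
      exact Subtype.ext hyx
  refine super_of_chain hS ?_
  classical
  obtain ⟨P, hP, hmax⟩ := WellFounded.has_min
    (wellFounded_gt : WellFounded ((· > ·) : Subgroup S → Subgroup S → Prop))
    {P | Chain p (SC F) P} ⟨⊥, Chain.bot⟩
  suffices P = ⊤ by subst this; exact hP
  by_contra hne
  have hPi := inv_of_chain (sc_bot F) hP
  haveI := sc_normal hPi
  haveI : Nontrivial (S ⧸ P) := QuotientGroup.nontrivial_iff.2 hne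
  have hKA : ∀ a ∈ K.map A.subtype, a ∈ A := by rintro _ ⟨k, -, rfl⟩; exact k.2
  have hmap : ∀ a ∈ K.map A.subtype, P.map ((a : MulAut S) : S →* S) = P := fun a ha =>
    le_antisymm (by rintro _ ⟨x, hx, rfl⟩; exact sc_aut hPi (hKA a ha) x hx)
      fun x hx => ⟨a⁻¹ x, sc_aut hPi (inv_mem (hKA a ha)) x hx, MulAut.apply_inv_self _ a x⟩
  let H' : Set (MulAut (S ⧸ P)) :=
    {b | ∃ a ∈ K.map A.subtype, ∀ x : S, b (QuotientGroup.mk' P x) = QuotientGroup.mk' P (a x)}
  obtain ⟨v, hvc, hv1, hvp, hvH⟩ := InvariantLine.exists_line (hS.to_quotient P) H'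
    (by
      rintro b ⟨a, ha, hb⟩ b' ⟨a', ha', hb'⟩
      refine MulEquiv.ext fun y => ?_
      obtain ⟨x, rfl⟩ := QuotientGroup.mk'_surjective P y
      have hcm : a * a' = a' * a := congrArg Subtype.val
        (hHc.is_comm.comm (⟨a, ha⟩ : K.map A.subtype) ⟨a', ha'⟩)
      rw [MulAut.mul_apply, MulAut.mul_apply, hb, hb', hb', hb, ← MulAut.mul_apply, hcm, MulAut.mul_apply])
    (by
      rintro b ⟨a, ha, hb⟩
      refine MulEquiv.ext fun y => ?_
      obtain ⟨x, rfl⟩ := QuotientGroup.mk'_surjective P y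
      have hit : ∀ j, (b ^ j) (QuotientGroup.mk' P x) = QuotientGroup.mk' P ((a ^ j) x) := by
        intro j
        induction j with
        | zero => rfl
        | succ j ih => rw [pow_succ', pow_succ', MulAut.mul_apply, ih, hb, MulAut.mul_apply]
      rw [hit, hHp a ha]
      rfl)
  obtain ⟨x, rfl⟩ := QuotientGroup.mk'_surjective P v
  set Q := P ⊔ Subgroup.zpowers x
  have hQc : Q = (Subgroup.zpowers (QuotientGroup.mk' P x)).comap (QuotientGroup.mk' P) := by
    rw [← MonoidHom.map_zpowers, Subgroup.comap_map_eq, QuotientGroup.ker_mk', sup_comm]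
  have hQn : Q.Normal := by
    rw [hQc]
    haveI : (Subgroup.zpowers (QuotientGroup.mk' P x)).Normal := by
      refine ⟨fun n hn g => ?_⟩
      have hn' : n ∈ Subgroup.center (S ⧸ P) := Subgroup.zpowers_le.2 hvc hn
      rw [Subgroup.mem_center_iff.1 hn' g, mul_inv_cancel_right]
      exact hn
    infer_instance
  have hxP : x ^ p ∈ P := (QuotientGroup.eq_one_iff _).1 ((map_pow (QuotientGroup.mk' P) x p).trans hvp)
  have hQsc : SC F Q := by
    refine hsc Q hQn fun a ha y hy => ?_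
    rw [hQc, Subgroup.mem_comap] at hy ⊢
    have hb : (QuotientGroup.congr P P a (hmap a ha)) ∈ H' :=
      ⟨a, ha, fun z => QuotientGroup.congr_mk' P P a (hmap a ha) z⟩
    obtain ⟨n, hn⟩ := Subgroup.mem_zpowers_iff.1 hy
    rw [show QuotientGroup.mk' P (a y) = (QuotientGroup.congr P P a (hmap a ha)) (QuotientGroup.mk' P y) from
      (QuotientGroup.congr_mk' P P a (hmap a ha) y).symm]
    rw [show (QuotientGroup.congr P P a (hmap a ha)) (QuotientGroup.mk' P y) =
      (QuotientGroup.congr P P a (hmap a ha)) (QuotientGroup.mk' P x ^ n) by rw [hn], map_zpow]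
    exact zpow_mem (hvH _ hb) n
  exact hmax Q (Chain.step x hP hQsc rfl hxP)
    (lt_of_le_not_ge le_sup_left fun h =>
      hv1 ((QuotientGroup.eq_one_iff x).2 (h (Subgroup.mem_sup_right (Subgroup.mem_zpowers x)))))

end

/-- Call a saturated fusion system F over a finite p-group S supersoluble when S has a chain of subgroups 1 = S_0 ≤ S_1 ≤ … ≤ S_m = S, each strongly closed in F, with each S_{i+1} generated by S_i together with one further element (cyclic steps). Then every saturated fusion system over S is supersoluble if and only if S is normal in every saturated fusion system over S (S is resistant) and every subgroup of Aut(S) of order prime to p is abelian of exponent dividing p − 1. -/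
theorem result {Ω : Type*} [Group Ω] {S : Subgroup Ω} [Finite S] (p : ℕ) [Fact p.Prime] (hS : IsPGroup p ↥S) : (∀ F : Cfsg.FusionSystem S, F.IsSaturated p → (∃ (m : ℕ) (c : Fin (m + 1) → Subgroup Ω), c 0 = ⊥ ∧ c (Fin.last m) = S ∧ (∀ i : Fin (m + 1), F.StronglyClosed (c i)) ∧ ∀ i : Fin m, c i.castSucc ≤ c i.succ ∧ ∃ x ∈ S, c i.succ = c i.castSucc ⊔ Subgroup.zpowers x)) ↔ (∀ F : Cfsg.FusionSystem S, F.IsSaturated p → F.IsNormal S) ∧ ∀ H : Subgroup (MulAut ↥S), (Nat.card ↥H).Coprime p → IsMulCommutative ↥H ∧ ∀ h ∈ H, h ^ (p - 1) = 1 := by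
  refine ⟨fun h => ⟨fun F hF => Cfsg.Agent.Lib.FusionEssential.Supersoluble.isNormal_of_super hS hF (h F hF),
    fun H hH => Cfsg.Agent.Lib.FusionEssential.Supersoluble.auts_of_super hS h H hH⟩, ?_⟩
  rintro ⟨hN, hA⟩ F hF
  exact super_of_auts hS hF (hN F hF) hA

end Cfsg.Agent.S5283
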