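import Cfsg.Statements.S5284
import Cfsg.Agent.Lib.FusionEssential.Supersoluble
import Cfsg.Agent.Lib.FusionEssential.Abelian

set_option autoImplicit false
open Cfsg

namespace Cfsg.Agent.S5284

/-- A product of two equal cyclic factors and the rest. -/
theorem split_two {ι : Type} [DecidableEq ι] (M : ι → Type) [∀ l, CommGroup (M l)] {i j : ι} (hij : i ≠ j) :
    Nonempty (((l : ι) → M l) ≃* (M i × M j) × ((l : {l // l ≠ i ∧ l ≠ j}) → M l)) := by
  let f : ((l : ι) → M l) →* (M i × M j) × ((l : {l // l ≠ i ∧ l ≠ j}) → M l) :=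
    { toFun := fun x => ((x i, x j), fun l => x l)
      map_one' := rfl
      map_mul' := fun x y => rfl }
  refine ⟨MulEquiv.ofBijective f ⟨fun x y e => funext fun l => ?_, fun y => ?_⟩⟩
  · simp only [f, MonoidHom.coe_mk, OneHom.coe_mk, Prod.mk.injEq] at e
    rcases eq_or_ne l i with rfl | hi
    · exact e.1.1
    rcases eq_or_ne l j with rfl | hj
    · exact e.1.2
    exact congrFun e.2 ⟨l, hi, hj⟩
  · refine ⟨fun l => if hi : l = i then hi ▸ y.1.1 else if hj : l = j then hj ▸ y.1.2 else y.2 ⟨l, hi, hj⟩, ?_⟩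
    simp only [f, MonoidHom.coe_mk, OneHom.coe_mk]
    refine Prod.ext (Prod.ext (by simp) (by simp [hij.symm])) (funext fun l => ?_)
    simp [l.2.1, l.2.2]

/-- Two involutions with product of order dividing four generate a group of exponent four. -/
theorem pow_four_of_closure {G : Type*} [Group G] {a b : G} (ha : a * a = 1) (hb : b * b = 1)
    (hab : (a * b) ^ 4 = 1) {g : G} (hg : g ∈ Subgroup.closure ({a, b} : Set G)) : g ^ 4 = 1 := by
  have hinv : a⁻¹ = a := inv_eq_of_mul_eq_one_right ha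
  have hflip : ∀ g ∈ Subgroup.zpowers (a * b), a * g * a = g⁻¹ := by
    intro g hg
    obtain ⟨n, rfl⟩ := Subgroup.mem_zpowers_iff.1 hg
    conv_lhs => arg 2; rw [← hinv]
    rw [← conj_zpow, ← inv_zpow, mul_inv_rev, hinv, inv_eq_of_mul_eq_one_right hb, ← mul_assoc a a b, ha,
      one_mul]
  have key : g ∈ Subgroup.zpowers (a * b) ∨ a * g ∈ Subgroup.zpowers (a * b) := by
    refine Subgroup.closure_induction
      (p := fun g _ => g ∈ Subgroup.zpowers (a * b) ∨ a * g ∈ Subgroup.zpowers (a * b)) ?_ ?_ ?_ ?_ hg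
    · rintro x (rfl | rfl)
      · exact Or.inr (by rw [ha]; exact one_mem _)
      · exact Or.inr (Subgroup.mem_zpowers _)
    · exact Or.inl (one_mem _)
    · rintro x y - - (hx | hx) (hy | hy)
      · exact Or.inl (mul_mem hx hy)
      · refine Or.inr ?_
        rw [show a * (x * y) = (a * x * a) * (a * y) by
          rw [mul_assoc (a * x) a (a * y), ← mul_assoc a a y, ha, one_mul, mul_assoc], hflip x hx]
        exact mul_mem (inv_mem hx) hy
      · exact Or.inr (by rw [← mul_assoc]; exact mul_mem hx hy)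
      · refine Or.inl ?_
        have h := mul_mem (inv_mem hx) hy
        rw [← hflip _ hx] at h
        rwa [← mul_assoc a a x, ha, one_mul, mul_assoc x a (a * y), ← mul_assoc a a y, ha, one_mul] at h
    · rintro x - (hx | hx)
      · exact Or.inl (inv_mem hx)
      · refine Or.inr ?_
        have h := inv_mem (inv_mem hx)
        rw [← hflip _ (inv_mem hx), mul_inv_rev, hinv, mul_assoc a (x⁻¹ * a) a, mul_assoc x⁻¹ a a, ha,
          mul_one] at h
        exact h
  rcases key with h | h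
  · obtain ⟨n, rfl⟩ := Subgroup.mem_zpowers_iff.1 h
    rw [← zpow_natCast, ← zpow_mul, mul_comm, zpow_mul, zpow_natCast, hab, one_zpow]
  · have h2 : g * g = 1 := by
      have h := hflip _ h
      rw [← mul_assoc a a g, ha, one_mul, mul_inv_rev, hinv] at h
      calc g * g = g * (g * a) * a := by rw [mul_assoc g (g * a) a, mul_assoc g a a, ha, mul_one]
        _ = g * (g⁻¹ * a) * a := by rw [h]
        _ = 1 := by rw [mul_inv_cancel_left, ha]
    rw [show 4 = 2 * 2 from rfl, pow_mul, pow_two g, h2, one_pow]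

/-- A homocyclic rank two factor gives a bad group of automorphisms. -/
theorem not_auts {S : Type*} [Group S] {p : ℕ} [Fact p.Prime] {n : ℕ} (hn : 0 < n) {H : Type}
    [CommGroup H] (e : S ≃* (Multiplicative (ZMod (p ^ n)) × Multiplicative (ZMod (p ^ n))) × H)
    (h : ∀ A : Subgroup (MulAut S), Finite A → (Nat.card A).Coprime p →
      IsMulCommutative A ∧ ∀ a ∈ A, a ^ (p - 1) = 1) [Finite (MulAut S)] : False := by
  have hq : 1 < p ^ n := Nat.one_lt_pow hn.ne' (Fact.out : p.Prime).one_lt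
  haveI : Fact (1 < p ^ n) := ⟨hq⟩
  let L : MulAut ((Multiplicative (ZMod (p ^ n))) × (Multiplicative (ZMod (p ^ n)))) →* MulAut S :=
    (MulAut.congr e.symm).toMonoidHom.comp
      { toFun := fun d => MulEquiv.prodCongr d (MulEquiv.refl H)
        map_one' := rfl
        map_mul' := fun d d' => rfl }
  have hL : ∀ (d : MulAut ((Multiplicative (ZMod (p ^ n))) × (Multiplicative (ZMod (p ^ n))))) (u : (Multiplicative (ZMod (p ^ n))) × (Multiplicative (ZMod (p ^ n)))), L d (e.symm (u, 1)) = e.symm (d u, 1) := by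
    intro d u
    show e.symm (MulEquiv.prodCongr d (MulEquiv.refl H) (e (e.symm (u, 1)))) = _
    rw [MulEquiv.apply_symm_apply]
    rfl
  let u : (Multiplicative (ZMod (p ^ n))) := Multiplicative.ofAdd 1
  have hu : u ≠ 1 := fun h => one_ne_zero (α := ZMod (p ^ n)) h
  have hinj : ∀ {x y : (Multiplicative (ZMod (p ^ n))) × (Multiplicative (ZMod (p ^ n)))}, e.symm (x, (1 : H)) = e.symm (y, 1) → x = y := fun h =>
    congrArg Prod.fst (e.symm.injective h)
  by_cases hp2 : p = 2
  · let ψ : MulAut ((Multiplicative (ZMod (p ^ n))) × (Multiplicative (ZMod (p ^ n)))) :=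
      { toFun := fun x => (x.2⁻¹, x.1 * x.2⁻¹)
        invFun := fun x => (x.2 * x.1⁻¹, x.1⁻¹)
        left_inv := fun x => by simp
        right_inv := fun x => by simp
        map_mul' := fun x y => by simp [Prod.ext_iff, mul_comm, mul_assoc, mul_left_comm] }
    have h3 : ψ ^ 3 = 1 := by
      refine MulEquiv.ext fun x => ?_
      show ψ (ψ (ψ x)) = x
      simp [ψ, Prod.ext_iff, mul_comm, mul_left_comm]
    have hc : (Nat.card (Subgroup.zpowers (L ψ))).Coprime p := by
      rw [Nat.card_zpowers]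
      exact Nat.Coprime.coprime_dvd_left (orderOf_dvd_of_pow_eq_one (by rw [← map_pow, h3, map_one]))
        (show Nat.Coprime 3 p by rw [hp2]; decide)
    have h1 := (h _ inferInstance hc).2 _ (Subgroup.mem_zpowers _)
    rw [show p - 1 = 1 by omega, pow_one] at h1
    have h2 := hL ψ (u, 1)
    rw [h1, MulAut.one_apply] at h2
    exact hu (congrArg Prod.fst (hinj h2) |>.trans (by simp [ψ]))
  · let s : MulAut ((Multiplicative (ZMod (p ^ n))) × (Multiplicative (ZMod (p ^ n)))) := MulEquiv.prodComm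
    let t : MulAut ((Multiplicative (ZMod (p ^ n))) × (Multiplicative (ZMod (p ^ n)))) :=
      { toFun := fun x => (x.1⁻¹, x.2)
        invFun := fun x => (x.1⁻¹, x.2)
        left_inv := fun x => by simp
        right_inv := fun x => by simp
        map_mul' := fun x y => by simp [mul_comm] }
    have hs : s * s = 1 := MulEquiv.ext fun x => rfl
    have ht : t * t = 1 := MulEquiv.ext fun x => by simp [t, MulAut.mul_apply]
    have hst : (s * t) ^ 4 = 1 := MulEquiv.ext fun x => by
      simp [s, t, pow_succ', MulAut.mul_apply, Prod.ext_iff]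
    have hc : (Nat.card (Subgroup.closure ({L s, L t} : Set (MulAut S)))).Coprime p := by
      have h4 : ∀ g : Subgroup.closure ({L s, L t} : Set (MulAut S)), ∃ k, g ^ 2 ^ k = 1 := fun g =>
        ⟨2, Subtype.ext (pow_four_of_closure (by rw [← map_mul, hs, map_one]) (by rw [← map_mul, ht, map_one])
          (by rw [← map_mul, ← map_pow, hst, map_one]) g.2)⟩
      haveI : Fact (Nat.Prime 2) := ⟨Nat.prime_two⟩
      obtain ⟨k, hk⟩ := IsPGroup.iff_card.1 (show IsPGroup 2 _ from h4)
      rw [hk]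
      exact Nat.Coprime.pow_left _ ((Nat.coprime_primes Nat.prime_two (Fact.out : p.Prime)).2 (Ne.symm hp2))
    have hcomm := (h _ inferInstance hc).1.is_comm.comm
      (⟨L s, Subgroup.subset_closure (by simp)⟩ : Subgroup.closure ({L s, L t} : Set (MulAut S)))
      ⟨L t, Subgroup.subset_closure (by simp)⟩
    have h1 : L (s * t) = L (t * s) := by rw [map_mul, map_mul]; exact congrArg Subtype.val hcomm
    have h2 := hL (s * t) (u, 1)
    rw [h1, hL] at h2
    have h3 : u = u⁻¹ := by
      have h4 := congrArg Prod.snd (hinj h2)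
      simpa [s, t, MulAut.mul_apply] using h4
    have h5 : u ^ 2 = 1 := by rw [pow_two]; nth_rewrite 2 [h3]; exact mul_inv_cancel u
    have h6 : ((2 : ℕ) : ZMod (p ^ n)) = 0 := by
      have h7 : (2 : ℕ) • (1 : ZMod (p ^ n)) = 0 := h5
      rwa [nsmul_one] at h7
    have h7 : p ∣ 2 := (dvd_pow_self p hn.ne').trans ((ZMod.natCast_eq_zero_iff 2 (p ^ n)).1 h6)
    exact hp2 ((Nat.prime_dvd_prime_iff_eq (Fact.out : p.Prime) Nat.prime_two).1 h7)

section
open Cfsg.Agent.Lib.FusionEssential

/-- Roots in cyclic groups of prime power order. -/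
theorem zmod_root {p m j : ℕ} [Fact p.Prime] {z : Multiplicative (ZMod (p ^ m))} (h : z ^ p = 1) (hj : j < m) :
    ∃ c : ℕ, z = Multiplicative.ofAdd ((c : ZMod (p ^ m)) * (p : ZMod (p ^ m)) ^ j) := by
  haveI : NeZero (p ^ m) := ⟨pow_ne_zero _ (NeZero.ne p)⟩
  set v := Multiplicative.toAdd z
  have h1 : ((p * v.val : ℕ) : ZMod (p ^ m)) = 0 := by
    rw [Nat.cast_mul, ZMod.natCast_zmod_val, ← nsmul_eq_mul]
    exact h
  have h2 : p * p ^ j ∣ p * v.val :=
    dvd_trans (by rw [← pow_succ']; exact pow_dvd_pow p hj) ((ZMod.natCast_eq_zero_iff _ _).1 h1)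
  obtain ⟨d, hd⟩ := (Nat.mul_dvd_mul_iff_left (Fact.out : p.Prime).pos).1 h2
  refine ⟨d, ?_⟩
  rw [← Nat.cast_pow, ← Nat.cast_mul, mul_comm, ← hd, ZMod.natCast_zmod_val]
  rfl

open StepChain Supersoluble in
/-- Distinct invariants give a chain of characteristic subgroups. -/
theorem super_of_injective {Ω : Type*} [Group Ω] {S : Subgroup Ω} [Finite S] {p : ℕ} [Fact p.Prime]
    (hS : IsPGroup p S) (hab : ∀ x ∈ S, ∀ y ∈ S, x * y = y * x) {F : Cfsg.FusionSystem S}
    (hF : F.IsSaturated p) {ι : Type} [Fintype ι] (a : ι → ℕ) (ha : Function.Injective a)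
    (e : S ≃* ((i : ι) → Multiplicative (ZMod (p ^ a i)))) : IsSuper F := by
  have hsc : ∀ Q : Subgroup S, (∀ α : MulAut S, ∀ x ∈ Q, α x ∈ Q) → SC F Q := by
    intro Q hQ
    refine ⟨Subgroup.map_subtype_le _, fun P hP φ hφ x => ?_⟩
    obtain ⟨y, hy, hyx⟩ := hP x.2
    obtain ⟨α, hα, he⟩ := Abelian.exists_aut_extend hS hF hab hφ
    refine ⟨α y, hQ α y hy, ?_⟩
    show ((α y : S) : Ω) = φ x
    rw [← he x]
    congr 2
    exact Subtype.ext hyx
  have hc : ∀ x y : S, x * y = y * x := fun x y => Subtype.ext (hab x x.2 y y.2)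
  let U : ℕ → ℕ → Subgroup S := fun m k =>
    { carrier := {x | x ^ p ^ (m + 1) = 1 ∧ ∃ y : S, x ^ p ^ m = y ^ p ^ k}
      one_mem' := ⟨one_pow _, 1, by simp⟩
      mul_mem' := fun {x y} ⟨hx, x', hx'⟩ ⟨hy, y', hy'⟩ =>
        ⟨by rw [(show Commute x y from hc x y).mul_pow, hx, hy, one_mul],
          x' * y', by rw [(show Commute x y from hc x y).mul_pow, hx', hy', (show Commute x' y' from hc x' y').mul_pow]⟩
      inv_mem' := fun {x} ⟨hx, x', hx'⟩ => ⟨by rw [inv_pow, hx, inv_one], x'⁻¹, by rw [inv_pow, hx', inv_pow]⟩ }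
  let T : ℕ → Subgroup S := fun m =>
    { carrier := {x | x ^ p ^ m = 1}
      one_mem' := one_pow _
      mul_mem' := fun {x y} hx hy => show _ = _ by
        rw [(show Commute x y from hc x y).mul_pow, show x ^ p ^ m = 1 from hx, show y ^ p ^ m = 1 from hy, one_mul]
      inv_mem' := fun {x} hx => show _ = _ by rw [inv_pow, show x ^ p ^ m = 1 from hx, inv_one] }
  obtain ⟨K, hK⟩ : ∃ K, ∀ i, a i ≤ K := ⟨Finset.univ.sup a, fun i => Finset.le_sup (Finset.mem_univ i)⟩
  have hcomp : ∀ (i : ι) (z : Multiplicative (ZMod (p ^ a i))) (k : ℕ), a i ≤ k → z ^ p ^ k = 1 := by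
    intro i z k hk
    show (p ^ k) • Multiplicative.toAdd z = 0
    rw [nsmul_eq_mul, (ZMod.natCast_eq_zero_iff _ _).2 (pow_dvd_pow p hk), zero_mul]
  have hexp : ∀ x : S, x ^ p ^ K = 1 := fun x => e.injective (by
    rw [map_pow, map_one]
    exact funext fun i => hcomp i _ K (hK i))
  have hdown : ∀ m k, Chain p (SC F) (U m (k + 1)) → Chain p (SC F) (U m k) := by
    intro m k h
    have hle : U m (k + 1) ≤ U m k := fun x hx => by
      obtain ⟨h1, y, hy⟩ := hx
      exact ⟨h1, y ^ p, by rw [hy, ← pow_mul, ← pow_succ']⟩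
    by_cases hQ : U m k ≤ U m (k + 1)
    · rwa [le_antisymm hQ hle]
    obtain ⟨x, hxQ, hxP⟩ := SetLike.not_le_iff_exists.1 hQ
    have hroot : ∀ y ∈ U m k, (∀ l, a l = k + 1 → e (y ^ p ^ m) l = 1) → y ∈ U m (k + 1) := by
      rintro y ⟨hy1, y', hy'⟩ hl
      have hcl : ∀ l, ∃ w : Multiplicative (ZMod (p ^ a l)), e (y ^ p ^ m) l = w ^ p ^ (k + 1) := by
        intro l
        rcases lt_trichotomy (a l) (k + 1) with h1 | h1 | h1
        · exact ⟨1, by rw [one_pow, hy', map_pow, Pi.pow_apply, hcomp l _ k (Nat.lt_succ_iff.1 h1)]⟩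
        · exact ⟨1, by rw [one_pow, hl l h1]⟩
        · obtain ⟨c, hc'⟩ := zmod_root (j := k + 1) (z := e (y ^ p ^ m) l)
            (by rw [← Pi.pow_apply, ← map_pow, ← pow_mul, ← pow_succ, hy1, map_one]; rfl) h1
          refine ⟨Multiplicative.ofAdd (c : ZMod (p ^ a l)), ?_⟩
          rw [hc', ← ofAdd_nsmul, nsmul_eq_mul, Nat.cast_pow, mul_comm]
      choose w hw using hcl
      exact ⟨hy1, e.symm w, e.injective (by rw [map_pow e (e.symm w), e.apply_symm_apply]; exact funext hw)⟩
    obtain ⟨i, hi, hzi⟩ : ∃ i, a i = k + 1 ∧ e (x ^ p ^ m) i ≠ 1 := by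
      by_contra hcon
      push Not at hcon
      exact hxP (hroot x hxQ hcon)
    refine .step x h (hsc _ ?_) ?_ ?_
    · rintro α z ⟨h1, z', hz'⟩
      exact ⟨by rw [← map_pow, h1, map_one], α z', by rw [← map_pow, hz', map_pow]⟩
    · refine le_antisymm (fun y hy => ?_) (sup_le hle (Subgroup.zpowers_le.2 hxQ))
      have hlin : ∀ z ∈ U m k, ∃ s : ℕ, e (z ^ p ^ m) i = Multiplicative.ofAdd ((s : ZMod (p ^ a i)) * (p : ZMod (p ^ a i)) ^ k) :=
        fun z hz => zmod_root (by
          obtain ⟨h1, -⟩ := hz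
          rw [← Pi.pow_apply, ← map_pow, ← pow_mul, ← pow_succ, h1, map_one]; rfl) (by omega)
      obtain ⟨s, hs⟩ := hlin x hxQ
      obtain ⟨t, ht⟩ := hlin y hy
      have hsp : (s : ZMod p) ≠ 0 := by
        intro h0
        obtain ⟨s', rfl⟩ := (ZMod.natCast_eq_zero_iff s p).1 h0
        refine hzi (hs.trans ?_)
        rw [Nat.cast_mul, mul_comm (p : ZMod (p ^ a i)) _, mul_assoc, ← pow_succ', ← hi, ← Nat.cast_pow,
          ZMod.natCast_self, mul_zero, ofAdd_zero]
      set c : ℕ := (-(t : ZMod p) / (s : ZMod p)).val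
      have hdvd : p ∣ t + c * s := by
        rw [← ZMod.natCast_eq_zero_iff, Nat.cast_add, Nat.cast_mul, ZMod.natCast_zmod_val, div_mul_cancel₀ _ hsp,
          add_neg_cancel]
      have hmem : y * x ^ c ∈ U m (k + 1) := by
        refine hroot _ (mul_mem hy (pow_mem hxQ c)) fun l hl => ?_
        obtain rfl : l = i := ha (hl.trans hi.symm)
        obtain ⟨d, hd⟩ := hdvd
        rw [(show Commute y (x ^ c) from hc _ _).mul_pow, map_mul, Pi.mul_apply, ← pow_mul, mul_comm c, pow_mul,
          map_pow e (x ^ p ^ m), Pi.pow_apply, hs, ht, ← ofAdd_nsmul, ← ofAdd_add, nsmul_eq_mul, ← mul_assoc, ← add_mul,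
          ← Nat.cast_mul, ← Nat.cast_add, hd, Nat.cast_mul, mul_comm (p : ZMod (p ^ a l)) _, mul_assoc,
          ← pow_succ', ← hl, ← Nat.cast_pow, ZMod.natCast_self, mul_zero, ofAdd_zero]
      rw [show y = (y * x ^ c) * (x ^ c)⁻¹ by rw [mul_inv_cancel_right]]
      exact Subgroup.mul_mem_sup hmem (inv_mem (pow_mem (Subgroup.mem_zpowers x) c))
    · obtain ⟨h1, x', hx'⟩ := hxQ
      refine ⟨by rw [← pow_mul, mul_comm, pow_mul, h1, one_pow], 1, ?_⟩
      rw [one_pow, ← pow_mul, ← pow_succ', h1]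
  have hTU : ∀ m, T m = U m K := fun m => by
    ext x
    refine ⟨fun hx => ⟨by rw [pow_succ, pow_mul, show x ^ p ^ m = 1 from hx, one_pow],
      1, by rw [one_pow, show x ^ p ^ m = 1 from hx]⟩, fun ⟨_, y, hy⟩ => show _ = _ by rw [hy, hexp]⟩
  have hU0 : ∀ m, U m 0 = T (m + 1) := fun m => by
    ext x
    exact ⟨fun hx => hx.1, fun hx => ⟨hx, x ^ p ^ m, by rw [pow_zero, pow_one]⟩⟩
  have hT : ∀ m, Chain p (SC F) (T m) := by
    intro m
    induction m with
    | zero =>
      have h0 : T 0 = ⊥ := eq_bot_iff.2 fun x hx => by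
        have : x ^ p ^ 0 = 1 := hx
        rwa [pow_zero, pow_one, ← Subgroup.mem_bot] at this
      rw [h0]; exact .bot
    | succ m ih =>
      have hall : ∀ j k, k + j = K → Chain p (SC F) (U m k) := by
        intro j
        induction j with
        | zero => intro k hk; obtain rfl : k = K := (Nat.add_zero k).symm.trans hk; rw [← hTU]; exact ih
        | succ j ihj => intro k hk; exact hdown m k (ihj (k + 1) (by omega))
      rw [← hU0]
      exact hall K 0 (by omega)
  refine super_of_chain hS ?_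
  have htop : T K = ⊤ := eq_top_iff.2 fun x _ => hexp x
  rw [← htop]
  exact hT K

end

/-- Let S be a finite abelian p-group. Every saturated fusion system over S is supersoluble (S has a chain of F-strongly closed subgroups from 1 to S with cyclic steps) if and only if the invariants of S are pairwise distinct, that is, S is not isomorphic to a direct product (Z/p^n × Z/p^n) × H with n ≥ 1. -/
theorem result {Ω : Type*} [Group Ω] {S : Subgroup Ω} [Finite S] (p : ℕ) [Fact p.Prime] (hS : IsPGroup p ↥S) (hab : IsMulCommutative ↥S) : (∀ F : Cfsg.FusionSystem S, F.IsSaturated p → (∃ (m : ℕ) (c : Fin (m + 1) → Subgroup Ω), c 0 = ⊥ ∧ c (Fin.last m) = S ∧ (∀ i : Fin (m + 1), F.StronglyClosed (c i)) ∧ ∀ i : Fin m, c i.castSucc ≤ c i.succ ∧ ∃ x ∈ S, c i.succ = c i.castSucc ⊔ Subgroup.zpowers x)) ↔ ¬ ∃ (n : ℕ) (H : Type) (_ : CommGroup H), 0 < n ∧ Nonempty (↥S ≃* (Multiplicative (ZMod (p ^ n)) × Multiplicative (ZMod (p ^ n))) × H) := by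
  classical
  haveI : Finite (MulAut S) := Finite.of_injective (fun f : MulAut S => (f : S → S)) DFunLike.coe_injective
  constructor
  · rintro hsup ⟨n, H, iH, hn, ⟨e⟩⟩
    exact not_auts hn e fun A _ hA => Cfsg.Agent.Lib.FusionEssential.Supersoluble.auts_of_super hS hsup A hA
  · intro hno F hF
    letI : CommGroup S := { (inferInstance : Group S) with mul_comm := fun a b => hab.is_comm.comm a b }
    obtain ⟨ι, hι, q, hq, ⟨e⟩⟩ := CommGroup.equiv_prod_multiplicative_zmod_of_finite S
    obtain ⟨N, hN⟩ := IsPGroup.iff_card.1 hS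
    have hdvd : ∀ i, q i ∣ p ^ N := by
      intro i
      rw [← hN, Nat.card_congr e.toEquiv, Nat.card_pi]
      refine dvd_trans ?_ (Finset.dvd_prod_of_mem _ (Finset.mem_univ i))
      rw [Nat.card_congr Multiplicative.toAdd, Nat.card_zmod]
    choose a ha ha' using fun i => (Nat.dvd_prime_pow (Fact.out : p.Prime)).1 (hdvd i)
    let e' : S ≃* ((i : ι) → Multiplicative (ZMod (p ^ a i))) :=
      e.trans (MulEquiv.piCongrRight fun i => (ZMod.ringEquivCongr (ha' i)).toAddEquiv.toMultiplicative)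
    by_cases hinj : Function.Injective a
    · exact super_of_injective hS (fun x hx y hy => congrArg Subtype.val (hab.is_comm.comm ⟨x, hx⟩ ⟨y, hy⟩))
        hF a hinj e'
    · exfalso
      unfold Function.Injective at hinj
      push Not at hinj
      obtain ⟨i, j, hij, hne⟩ := hinj
      obtain ⟨e''⟩ := split_two (fun l => Multiplicative (ZMod (p ^ a l))) hne
      refine hno ⟨a i, _, inferInstance, ?_, ⟨(e'.trans e'').trans (MulEquiv.prodCongr
        (MulEquiv.prodCongr (MulEquiv.refl _)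
          (ZMod.ringEquivCongr (by rw [hij])).toAddEquiv.toMultiplicative) (MulEquiv.refl _))⟩⟩
      by_contra h0
      have := hq i
      rw [ha' i, Nat.eq_zero_of_not_pos h0, pow_zero] at this
      exact lt_irrefl _ this

end Cfsg.Agent.S5284
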