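import Cfsg.Statements.S5287
import Cfsg.Agent.Lib.MetacyclicChains.Forward
import Cfsg.Agent.Lib.MetacyclicChains.MaximalClassTwo

set_option autoImplicit false
set_option linter.style.haveILetI false
open Cfsg

namespace Cfsg.Agent.S5287

/-- Let S be a finite metacyclic p-group (an extension of a cyclic group by a cyclic group). Every saturated fusion system over S is supersoluble (S has a chain of F-strongly closed subgroups from 1 to S with cyclic steps) if and only if S is not homocyclic of rank two (isomorphic to Z/p^n × Z/p^n with n ≥ 1) and, when p = 2, S is not dihedral of order at least 4, not quasi-dihedral (semidihedral) and not generalized quaternion of order at least 8. -/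
theorem result {Ω : Type*} [Group Ω] {S : Subgroup Ω} [Finite S] (p : ℕ) [Fact p.Prime] (hS : IsPGroup p ↥S) (hm : Cfsg.IsMetacyclic ↥S) : (∀ F : Cfsg.FusionSystem S, F.IsSaturated p → (∃ (m : ℕ) (c : Fin (m + 1) → Subgroup Ω), c 0 = ⊥ ∧ c (Fin.last m) = S ∧ (∀ i : Fin (m + 1), F.StronglyClosed (c i)) ∧ ∀ i : Fin m, c i.castSucc ≤ c i.succ ∧ ∃ x ∈ S, c i.succ = c i.castSucc ⊔ Subgroup.zpowers x)) ↔ ¬ ((∃ n : ℕ, 0 < n ∧ Nonempty (↥S ≃* Multiplicative (ZMod (p ^ n)) × Multiplicative (ZMod (p ^ n)))) ∨ (p = 2 ∧ ((∃ n : ℕ, 2 ≤ n ∧ Nonempty (↥S ≃* DihedralGroup n)) ∨ Cfsg.IsQuasiDihedral ↥S ∨ (∃ n : ℕ, 2 ≤ n ∧ Nonempty (↥S ≃* QuaternionGroup n))))) := by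
  classical
  constructor
  · intro hall hex
    have hall' : Lib.MetacyclicChains.AllHaveChains S p := hall
    rcases hex with ⟨n, hn, ⟨e⟩⟩ | ⟨rfl, h⟩
    · by_cases hp2 : p = 2
      · subst hp2
        exact Lib.MetacyclicChains.not_chains_homocyclic_two hS hn e hall'
      · exact Lib.MetacyclicChains.not_chains_homocyclic_odd hp2 hS hn e hall'
    · obtain ⟨k, hk⟩ := IsPGroup.iff_card.1 hS
      rcases h with ⟨n, hn, ⟨e⟩⟩ | h | ⟨n, hn, ⟨e⟩⟩
      · rw [Nat.card_congr e.toEquiv, DihedralGroup.nat_card] at hk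
        obtain ⟨j, -, rfl⟩ := (Nat.dvd_prime_pow Nat.prime_two).1 (⟨2, by rw [← hk]; ring⟩ : n ∣ 2 ^ k)
        by_cases hj : 2 ≤ j
        · exact Lib.MetacyclicChains.not_chains_dihedral hS hj e hall'
        · have hj0 : j ≠ 0 := by rintro rfl; simp at hn
          obtain rfl : j = 1 := by omega
          have h4 : IsKleinFour (Multiplicative (ZMod (2 ^ 1)) × Multiplicative (ZMod (2 ^ 1))) := by
            have hc : Nat.card (Multiplicative (ZMod (2 ^ 1)) × Multiplicative (ZMod (2 ^ 1))) = 4 := by
              simp [Nat.card_eq_fintype_card]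
            haveI : Nontrivial (Multiplicative (ZMod (2 ^ 1)) × Multiplicative (ZMod (2 ^ 1))) :=
              Finite.one_lt_card_iff_nontrivial.1 (by omega)
            have hsq : ∀ g : Multiplicative (ZMod (2 ^ 1)) × Multiplicative (ZMod (2 ^ 1)),
                g ^ 2 = 1 := by
              have hz : ∀ a : ZMod (2 ^ 1), 2 • a = 0 := fun a => by
                simpa [Nat.card_zmod] using card_nsmul_eq_zero' (G := ZMod (2 ^ 1)) (x := a)
              exact fun g => Prod.ext (congrArg Multiplicative.ofAdd (hz g.1.toAdd))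
                (congrArg Multiplicative.ofAdd (hz g.2.toAdd))
            exact ⟨hc, ((Nat.dvd_prime Nat.prime_two).1
              (Monoid.exponent_dvd_of_forall_pow_eq_one hsq)).resolve_left fun h =>
                not_subsingleton _ (Monoid.exp_eq_one_iff.1 h)⟩
          haveI : IsKleinFour (DihedralGroup (2 ^ 1)) :=
            (inferInstance : IsKleinFour (DihedralGroup 2))
          obtain ⟨f⟩ := IsKleinFour.nonempty_mulEquiv (G₁ := DihedralGroup (2 ^ 1))
            (G₂ := Multiplicative (ZMod (2 ^ 1)) × Multiplicative (ZMod (2 ^ 1)))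
          exact Lib.MetacyclicChains.not_chains_homocyclic_two hS one_pos (e.trans f) hall'
      · exact Lib.MetacyclicChains.not_chains_quasiDihedral hS h hall'
      · haveI : NeZero n := ⟨by omega⟩
        rw [Nat.card_congr e.toEquiv, Nat.card_eq_fintype_card, QuaternionGroup.card] at hk
        obtain ⟨j, -, rfl⟩ := (Nat.dvd_prime_pow Nat.prime_two).1 (⟨4, by rw [← hk]; ring⟩ : n ∣ 2 ^ k)
        have hj : 1 ≤ j := by
          by_contra h0
          obtain rfl : j = 0 := by omega
          simp at hn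
        exact Lib.MetacyclicChains.not_chains_quaternion hS hj e hall'
  · intro hno F hF
    refine Lib.MetacyclicChains.exists_of_chain ?_
    by_cases hp2 : p = 2
    · subst hp2
      exact Lib.MetacyclicChains.exists_chain_two hS hm (fun h => hno (Or.inl h))
        (fun h => hno (Or.inr ⟨rfl, Or.inl h⟩)) (fun h => hno (Or.inr ⟨rfl, Or.inr (Or.inl h)⟩))
        (fun h => hno (Or.inr ⟨rfl, Or.inr (Or.inr h)⟩)) hF
    · exact Lib.MetacyclicChains.exists_chain_odd hp2 hS hm (fun h => hno (Or.inl h)) hF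

end Cfsg.Agent.S5287
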