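import Cfsg.Statements.S5291
import Cfsg.Agent.Lib.FusionSystem.NormalFacts
import Cfsg.Agent.Lib.FusionAlperin.Join

set_option autoImplicit false
open Cfsg

namespace Cfsg.Agent.S5291

/-- Let F be a saturated fusion system over a finite p-group S and E a weakly normal subsystem of F over a subgroup T. Suppose a subgroup R of T is normal in E (E = N_E(R)), and let R* be the subgroup of T generated by the images of R under all maps of F with source R. Then R* is normal in F (F = N_F(R*)). -/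
theorem result {Ω : Type*} [Group Ω] {S : Subgroup Ω} [Finite S] (p : ℕ) [Fact p.Prime] (hS : IsPGroup p S)
    (F : Cfsg.FusionSystem S) (hF : F.IsSaturated p)
    {T : Subgroup Ω} (E : Cfsg.FusionSystem T) (hE : E.IsWeaklyNormalIn F p)
    (R : Subgroup Ω) (hR : E.IsNormal R) :
    F.IsNormal (Subgroup.closure {x : Ω | ∃ φ ∈ F.Hom R, ∃ r : R, x = φ r}) := by
  obtain ⟨hEs, -, hsub, hT, hinv, hfr⟩ := hE
  have hTS : T ≤ S := hT.1
  haveI := Cfsg.Agent.Lib.FS.finite_sub hTS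
  have hRT : R ≤ T := hR.1
  haveI := Cfsg.Agent.Lib.FS.finite_sub hRT
  -- conjugates of R by automorphisms of T are normal in E
  let img : MulAut T → Subgroup Ω := fun α => (R.subgroupOf T).map (T.subtype.comp α.toMonoidHom)
  have himg : ∀ α ∈ F.autGroup T, E.IsNormal (img α) := by
    intro α hα
    haveI : Finite (img α) := Cfsg.Agent.Lib.FS.finite_sub (show img α ≤ T by rintro _ ⟨y, -, rfl⟩; exact (α y).2)
    refine ⟨by rintro _ ⟨y, -, rfl⟩; exact (α y).2, fun P φ hφ => ?_⟩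
    have hP := Cfsg.Agent.Lib.FS.src_le hφ
    obtain ⟨φ', hφ', hφ'e⟩ := hinv P hP φ hφ α⁻¹ (inv_mem hα)
    obtain ⟨ψ, hψ, hψe, hψR⟩ := hR.2 _ φ' hφ'
    have hP' : ((P.subgroupOf T).map (T.subtype.comp (α⁻¹ : MulAut T).toMonoidHom)) ≤ T := Cfsg.Agent.Lib.FS.src_le hφ'
    have hPR : ((P.subgroupOf T).map (T.subtype.comp (α⁻¹ : MulAut T).toMonoidHom)) ⊔ R ≤ T := sup_le hP' hRT
    obtain ⟨χ, hχ, hχe⟩ := hinv (((P.subgroupOf T).map (T.subtype.comp (α⁻¹ : MulAut T).toMonoidHom)) ⊔ R) hPR ψ hψ α hα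
    have hmemP : ∀ x : P, ((α⁻¹ ⟨x, hP x.2⟩ : T) : Ω) ∈ ((P.subgroupOf T).map (T.subtype.comp (α⁻¹ : MulAut T).toMonoidHom)) := fun x => ⟨⟨x, hP x.2⟩, x.2, rfl⟩
    have hle : P ⊔ img α ≤ ((((P.subgroupOf T).map (T.subtype.comp (α⁻¹ : MulAut T).toMonoidHom)) ⊔ R).subgroupOf T).map (T.subtype.comp α.toMonoidHom) := by
      refine sup_le (fun x hx => ⟨α⁻¹ ⟨x, hP hx⟩, (le_sup_left : ((P.subgroupOf T).map (T.subtype.comp (α⁻¹ : MulAut T).toMonoidHom)) ≤ ((P.subgroupOf T).map (T.subtype.comp (α⁻¹ : MulAut T).toMonoidHom)) ⊔ R) (hmemP ⟨x, hx⟩), ?_⟩) ?_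
      · simp
      · rintro _ ⟨y, hy, rfl⟩
        exact ⟨y, (le_sup_right : R ≤ ((P.subgroupOf T).map (T.subtype.comp (α⁻¹ : MulAut T).toMonoidHom)) ⊔ R) hy, rfl⟩
    obtain ⟨τ, hτ, hτe⟩ := Cfsg.Agent.Lib.FS.exists_restrict hχ hle
    refine ⟨τ, hτ, fun x => ?_, ?_⟩
    · rw [hτe]
      have hψT : ψ (Subgroup.inclusion le_sup_left ⟨_, hmemP x⟩) ∈ T := Cfsg.Agent.Lib.FS.apply_mem hψ _
      have e := hχe (Subgroup.inclusion le_sup_left ⟨_, hmemP x⟩) hψT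
        (Subgroup.mem_map_of_mem _ (show (⟨_, hPR (Subgroup.inclusion le_sup_left ⟨_, hmemP x⟩).2⟩ : T) ∈ _ from
          (Subgroup.inclusion le_sup_left ⟨_, hmemP x⟩).2))
      refine Eq.trans ?_ (e.trans ?_)
      · congr 1
        refine Subtype.ext ?_
        show (x : Ω) = ((α (α⁻¹ ⟨x, hP x.2⟩) : T) : Ω)
        rw [MulAut.apply_inv_self]
      · have hφT : φ x ∈ T := Cfsg.Agent.Lib.FS.apply_mem hφ x
        rw [show (⟨ψ (Subgroup.inclusion le_sup_left ⟨_, hmemP x⟩), hψT⟩ : T) = α⁻¹ ⟨φ x, hφT⟩ from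
          Subtype.ext ((hψe _).trans (hφ'e x hφT (hmemP x))), MulAut.apply_inv_self]
    · refine Cfsg.Agent.Lib.FS.map_subgroupOf_eq_of_mapsTo hτ le_sup_right fun y hy => ?_
      obtain ⟨z, hz, hzy⟩ := hy
      rw [hτe]
      have hzR : (z : Ω) ∈ R := hz
      set w : ↥(((P.subgroupOf T).map (T.subtype.comp (α⁻¹ : MulAut T).toMonoidHom)) ⊔ R) := ⟨z, (le_sup_right : R ≤ ((P.subgroupOf T).map (T.subtype.comp (α⁻¹ : MulAut T).toMonoidHom)) ⊔ R) hzR⟩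
      have hψz : ψ w ∈ R := hψR.le ⟨w, hzR, rfl⟩
      have hαz : ((α z : T) : Ω) = y := hzy
      have e := hχe w (hRT hψz) (by
        show ((α z : T) : Ω) ∈ _
        rw [hαz]; exact hle y.2)
      refine ⟨⟨ψ w, hRT hψz⟩, hψz, Eq.trans ?_ (Eq.trans e.symm ?_)⟩
      · rfl
      · congr 1; exact Subtype.ext hαz
  -- the closure
  set Q : Subgroup Ω := Subgroup.closure {x : Ω | ∃ φ ∈ F.Hom R, ∃ r : R, x = φ r} with hQdef
  have himgQ : ∀ α ∈ F.autGroup T, img α ≤ Q := by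
    rintro α hα _ ⟨y, hy, rfl⟩
    obtain ⟨ψ, hψ, -, hψe⟩ := Cfsg.Agent.Lib.FS.exists_hom_of_aut hTS hα
    obtain ⟨ψ', hψ', hψ'e⟩ := Cfsg.Agent.Lib.FS.exists_restrict hψ hRT
    exact Subgroup.subset_closure ⟨ψ', hψ', ⟨y, hy⟩, by rw [hψ'e, hψe]; rfl⟩
  have hQeq : Q = sSup (img '' {α | α ∈ F.autGroup T}) := by
    refine le_antisymm ((Subgroup.closure_le _).2 ?_) (sSup_le fun _ ⟨α, hα, e⟩ => e ▸ himgQ α hα)
    rintro _ ⟨φ, hφ, r, rfl⟩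
    obtain ⟨α, hα, φ₀, hφ₀, he⟩ := hfr R hRT φ hφ
    have h0 : φ₀ r ∈ R := Cfsg.Agent.Lib.FS.isNormal_apply_mem hR hφ₀ r.2
    rw [SetLike.mem_coe, he r (hRT h0)]
    exact le_sSup (show img α ∈ img '' {α | α ∈ F.autGroup T} from ⟨α, hα, rfl⟩) ⟨⟨φ₀ r, hRT h0⟩, h0, rfl⟩
  have hQE : E.IsNormal Q := by
    rw [hQeq]
    refine Cfsg.Agent.Lib.FusionAlperin.Join.sSup_mem_of_finite ?_ _
      (Cfsg.Agent.Lib.FusionAlperin.Join.isNormal_bot E)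
      (fun _ _ => Cfsg.Agent.Lib.FusionAlperin.Join.isNormal_sup E) ?_
    · exact (Cfsg.Agent.Lib.FusionAlperin.Join.finite_subgroups_le T).subset
        (fun _ ⟨α, hα, e⟩ => e ▸ (himg α hα).1)
    · rintro _ ⟨α, hα, rfl⟩; exact himg α hα
  have hQT : Q ≤ T := hQE.1
  haveI := Cfsg.Agent.Lib.FS.finite_sub hQT
  have hQinv : ∀ α ∈ F.autGroup T, ∀ y : T, (y : Ω) ∈ Q → ((α y : T) : Ω) ∈ Q := by
    intro α hα y hy
    suffices hle : Q.subgroupOf T ≤ (Q.subgroupOf T).comap α.toMonoidHom from hle hy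
    have hgen : Q.subgroupOf T = Subgroup.closure {z : T | ∃ φ ∈ F.Hom R, ∃ r : R, (z : Ω) = φ r} := by
      refine Subgroup.map_injective T.subtype_injective ?_
      rw [Subgroup.map_subgroupOf_eq_of_le hQT, MonoidHom.map_closure, hQdef]
      congr 1
      ext x
      refine ⟨fun hx => ⟨⟨x, hQT (Subgroup.subset_closure hx)⟩, hx, rfl⟩, ?_⟩
      rintro ⟨z, hz, rfl⟩; exact hz
    conv_lhs => rw [hgen]
    refine (Subgroup.closure_le _).2 ?_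
    rintro z ⟨φ, hφ, r, hzr⟩
    show ((α z : T) : Ω) ∈ Q
    obtain ⟨ψ, hψ, -, hψe⟩ := Cfsg.Agent.Lib.FS.exists_hom_of_aut hTS hα
    have hφT : ∀ r : R, φ r ∈ T := fun r => hQT (Subgroup.subset_closure ⟨φ, hφ, r, rfl⟩)
    obtain ⟨χ, hχ, hχe⟩ := Cfsg.Agent.Lib.FS.exists_comp hφ hψ hφT
    refine Subgroup.subset_closure ⟨χ, hχ, r, ?_⟩
    rw [hχe, ← hψe]
    congr 1
    exact Subtype.ext hzr
  refine (Cfsg.Agent.Lib.FS.isNormal_iff_extend hS hF (hQT.trans hTS)).2 fun P hPQ φ hφ => ?_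
  obtain ⟨α, hα, φ₀, hφ₀, he⟩ := hfr P (hPQ.trans hQT) φ hφ
  obtain ⟨ψ, hψ, hψe, hψQ⟩ := hQE.2 P φ₀ hφ₀
  obtain ⟨β, hβ, hβe⟩ := Cfsg.Agent.Lib.FS.exists_restrict hψ (le_sup_right : Q ≤ P ⊔ Q)
  have hβQ : ∀ x, β x ∈ Q := fun x => by rw [hβe]; exact hψQ.le ⟨_, x.2, rfl⟩
  obtain ⟨μ, hμ, -, hμe⟩ := Cfsg.Agent.Lib.FS.exists_hom_of_aut hTS hα
  obtain ⟨χ, hχ, hχe⟩ := Cfsg.Agent.Lib.FS.exists_comp (hsub Q hβ) hμ (fun x => hQT (hβQ x))
  have hr : χ.range = Q := Cfsg.Agent.Lib.FS.range_eq_of_mem hχ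
    (fun x => by rw [hχe, hμe]; exact hQinv α hα _ (hβQ x)) le_rfl
  refine ⟨Cfsg.Agent.Lib.FS.homEquiv hχ hr, Cfsg.Agent.Lib.FS.homEquiv_mem_autGroup hχ hr, fun x => ?_⟩
  show χ _ = φ x
  rw [hχe, hμe, he x (Cfsg.Agent.Lib.FS.apply_mem hφ₀ x)]
  congr 2
  refine Subtype.ext ?_
  show β _ = φ₀ x
  rw [hβe, ← hψe x]
  rfl

end Cfsg.Agent.S5291
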