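import Cfsg.Statements.S5292
import Cfsg.Agent.Lib.FusionEssential.TransportRealized
import Cfsg.Agent.Lib.FusionSystem.ModelUnique
import Cfsg.Agent.Lib.FusionSystem.Agree
import Cfsg.Agent.Lib.FusionAlperin.Model
import Cfsg.Agent.Lib.PSolvable.HallHigman

set_option autoImplicit false
universe u
open Cfsg

namespace Cfsg.Agent.S5292

section
open Cfsg Cfsg.FusionSystem Cfsg.Agent.Lib.FusionEssential.Transport
open Cfsg.Agent.Lib

variable {Ω : Type*} [Group Ω] {S : Subgroup Ω} [Finite S] {F : FusionSystem S} {p : ℕ} [Fact p.Prime]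
variable {G : Type*} [Group G] {ι : S →* G}

/-- A model acts onto the automiser of the core, with a `p`-group as kernel. -/
theorem exists_action [Finite G] (hM : F.IsModel p G ι) :
    ∃ f : G →* F.autGroup F.core, Function.Surjective f ∧ f.ker ≤ pCore p G := by
  have hP := FS.model_pCore_eq hM
  obtain ⟨-, h, -, hC⟩ := hM
  have hcore := FusionAlperin.Join.isNormal_core F
  let j : F.core →* pCore p G := (ι.comp (Subgroup.inclusion hcore.1)).codRestrict _ fun y => by
    rw [hP]; exact ⟨Subgroup.inclusion hcore.1 y, y.2, rfl⟩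
  have hj : Function.Bijective j := by
    refine ⟨fun a b e => Subgroup.inclusion_injective hcore.1 (h.1 (congrArg Subtype.val e)), fun o => ?_⟩
    obtain ⟨s, hs, hso⟩ := hP.le o.2
    exact ⟨⟨s, hs⟩, Subtype.ext hso⟩
  let e := MulEquiv.ofBijective j hj
  let f₀ : G →* MulAut F.core := (MulAut.congr e.symm).toMonoidHom.comp MulAut.conjNormal
  have hf₀ : ∀ g (y : F.core), ι (Subgroup.inclusion hcore.1 (f₀ g y)) =
      g * ι (Subgroup.inclusion hcore.1 y) * g⁻¹ := by
    intro g y
    have h1 : e (f₀ g y) = MulAut.conjNormal g (e y) := e.apply_symm_apply _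
    exact congrArg Subtype.val h1
  have hmem : ∀ g, f₀ g ∈ F.autGroup F.core := fun g =>
    (FS.mem_autGroup hcore.1).2 ((h.2 _ hcore.1 _ fun y => hcore.1 (f₀ g y).2).2 ⟨g, hf₀ g⟩)
  refine ⟨f₀.codRestrict _ hmem, fun α => ?_, fun g hg => hC ?_⟩
  · obtain ⟨φ, hφ, -, hφe⟩ := FS.exists_hom_of_aut hcore.1 α.2
    obtain ⟨g, hg⟩ := (h.2 _ hcore.1 φ (FS.apply_mem hφ)).1 hφ
    refine ⟨g, Subtype.ext (MulEquiv.ext fun y => ?_)⟩
    refine Subgroup.inclusion_injective hcore.1 (h.1 ((hf₀ g y).trans ((hg y).symm.trans ?_)))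
    exact congrArg ι (Subtype.ext (hφe y))
  · intro o ho
    obtain ⟨s, hs, rfl⟩ := hP.le ho
    have hg' : f₀ g = 1 := congrArg Subtype.val hg
    have h1 := hf₀ g ⟨(s : Ω), hs⟩
    rw [hg'] at h1
    calc ι s * g = g * ι s * g⁻¹ * g := by rw [← show ι s = g * ι s * g⁻¹ from h1]
      _ = g * ι s := by group

/-- Dividing by a normal subgroup of order prime to `p` does not change the realized system. -/
theorem realized_quotient (hS : IsPGroup p S) (hF : F.IsSaturated p) (h : F.IsRealizedBy ι) [Finite G]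
    (T : Sylow p G) (hT : (T : Subgroup G) = ι.range) (N : Subgroup G) [N.Normal]
    (hcop : (Nat.card N).Coprime p) :
    F.IsRealizedBy ((QuotientGroup.mk' N).comp ι) ∧
      ∃ T' : Sylow p (G ⧸ N), (T' : Subgroup (G ⧸ N)) = ((QuotientGroup.mk' N).comp ι).range := by
  have hiso := iso_of_realized h hT
  have hdisj : (T : Subgroup G) ⊓ N = ⊥ := by
    obtain ⟨n, hn⟩ := IsPGroup.iff_card.1 (T.isPGroup'.to_le (inf_le_left : (T : Subgroup G) ⊓ N ≤ T))
    refine Subgroup.eq_bot_of_card_eq _ (Nat.eq_one_of_dvd_coprimes (hcop.pow_right n).symm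
      (hn ▸ dvd_rfl) (Subgroup.card_dvd_of_le inf_le_right))
  have hfac := FS.group_factor T N
  rw [hdisj] at hfac
  have hsm := FS.factor_isSurjectiveMorphism T.isPGroup' (hiso.isSaturated hS hF) (FS.stronglyClosed_bot _) hfac
  have hinj : Function.Injective ((QuotientGroup.mk' N).comp ι) := by
    refine (injective_iff_map_eq_one _).2 fun s hs => ?_
    have h1 : ι s ∈ (T : Subgroup G) ⊓ N := ⟨hiso.mem_base s, (QuotientGroup.eq_one_iff _).1 hs⟩
    rw [hdisj] at h1
    exact hiso.1 ((Subgroup.mem_bot.1 h1).trans (map_one ι).symm)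
  refine ⟨realized_of_iso ⟨hinj, Iso.comp hiso.2 hsm⟩,
    T.mapSurjective (QuotientGroup.mk'_surjective N), ?_⟩
  show (T : Subgroup G).map (QuotientGroup.mk' N) = _
  rw [MonoidHom.range_comp, ← hT]

end

/-- Let F be a saturated fusion system over a finite p-group S. Then F is the fusion system of some finite p-solvable group on a Sylow p-subgroup if and only if F is constrained (some subgroup normal in F is centric in F) and the group of automorphisms that F induces on its largest normal subgroup O_p(F) is p-solvable. -/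
theorem result {Ω : Type u} [Group Ω] {S : Subgroup Ω} [Finite S] (p : ℕ) [Fact p.Prime] (hS : IsPGroup p S)
    (F : Cfsg.FusionSystem S) (hF : F.IsSaturated p) :
    (∃ (G : Type u) (_ : Group G) (_ : Finite G) (ι : S →* G), Cfsg.IsPSolvable p G ∧ F.IsRealizedBy ι ∧
        ∃ T : Sylow p G, (T : Subgroup G) = ι.range) ↔
      (F.IsConstrained p ∧ Cfsg.IsPSolvable p ↥(F.autGroup F.core)) := by
  constructor
  · rintro ⟨G, iG, iF, ι, hsol, hreal, T, hT⟩
    obtain ⟨hreal', T', hT'⟩ := realized_quotient hS hF hreal T hT (Cfsg.pPrimeCore p G)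
      Cfsg.Agent.Lib.PSolvable.card_pPrimeCore_coprime
    have hsol' := Cfsg.Agent.Lib.PSolvable.isPSolvable_quotient hsol (Cfsg.pPrimeCore p G)
    have hM : F.IsModel p (G ⧸ Cfsg.pPrimeCore p G) ((QuotientGroup.mk' _).comp ι) :=
      ⟨inferInstance, hreal', ⟨T', hT'⟩, Cfsg.Agent.Lib.PSolvable.centralizer_pCore_le hsol'
        (Cfsg.Agent.Lib.PSolvable.pPrimeCore_quotient_eq_bot _ rfl)⟩
    obtain ⟨f, hf, -⟩ := exists_action hM
    exact ⟨Cfsg.Agent.Lib.FS.isConstrained_of_isModel hM,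
      Cfsg.Agent.Lib.PSolvable.isPSolvable_of_surjective f hf hsol'⟩
  · rintro ⟨hcon, hsol⟩
    obtain ⟨G, iG, ι, hM⟩ := Cfsg.Agent.Lib.FusionAlperin.Model.exists_model_of_constrained hS hcon
    haveI := hM.1
    obtain ⟨f, hf, hker⟩ := exists_action hM
    obtain ⟨hfin, hreal, hT, -⟩ := hM
    refine ⟨G, iG, hfin, ι, ?_, hreal, hT⟩
    refine Cfsg.Agent.Lib.PSolvable.isPSolvable_of_extension f.ker
      (Cfsg.Agent.Lib.PSolvable.isPSolvable_of_isPGroup (Cfsg.Agent.Lib.PSolvable.isPGroup_pCore.to_le hker))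
      ((Cfsg.Agent.Lib.PSolvable.isPSolvable_congr (QuotientGroup.quotientKerEquivOfSurjective f hf)).2 hsol)

end Cfsg.Agent.S5292
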