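import Cfsg.Agent.Lib.FusionSystem.NormalCentralizer
import Cfsg.Statements.S5293
-- import your own Cfsg.Agent.* helpers here

set_option autoImplicit false
open Cfsg

namespace Cfsg.Agent.S5293

/-- Let F be a saturated fusion system over a finite p-group S, E a normal subsystem of F over T ≤ S, and C the join of the subgroups X ≤ C_S(T) such that E is contained in the centralizer system C_F(X). Then for the centralizer fusion system C_F(T) over C_S(T), the focal subgroup of C_F(T) is contained in C. -/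
theorem result {Ω : Type*} [Group Ω] {S : Subgroup Ω} [Finite S] (p : ℕ) [Fact p.Prime] (hS : IsPGroup p S)
    (F : Cfsg.FusionSystem S) (hF : F.IsSaturated p)
    {T : Subgroup Ω} (E : Cfsg.FusionSystem T) (hE : E.IsNormalIn F p)
    (C : Subgroup Ω)
    (hC : C = sSup {X : Subgroup Ω | X ≤ Cfsg.FusionSystem.centralizerIn S T ∧ ∀ P : Subgroup Ω, E.Hom P ⊆ F.centralizerHom X P})
    (D : Cfsg.FusionSystem (Cfsg.FusionSystem.centralizerIn S T)) (hD : F.IsCentralizerSystem T D) :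
    D.focalSubgroup ≤ C :=
by
  open Cfsg.FusionSystem Cfsg.Agent.Lib.FS in
  have hT : T ≤ S := hE.1.2.2.2.1.1
  open Cfsg.FusionSystem Cfsg.Agent.Lib.FS in
  have hYC : D.focalSubgroup ≤ Cfsg.FusionSystem.centralizerIn S T := by
    refine (Subgroup.closure_le _).2 ?_
    rintro _ ⟨P, φ, x, hφ, rfl⟩
    exact mul_mem (inv_mem (Cfsg.Agent.Lib.FS.src_le hφ x.2)) (Cfsg.Agent.Lib.FS.apply_mem hφ x)
  rw [hC]
  refine le_sSup ⟨hYC, fun P φ hφ => ?_⟩
  have hPT : P ≤ T := Cfsg.Agent.Lib.FS.src_le hφ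
  have hcen : ∀ t ∈ T, t ∈ Cfsg.FusionSystem.centralizerIn S D.focalSubgroup := fun t ht =>
    Cfsg.Agent.Lib.FS.mem_centralizerIn.2 ⟨hT ht, fun y hy =>
      ((Cfsg.Agent.Lib.FS.mem_centralizerIn.1 (hYC hy)).2 t ht).symm⟩
  refine ⟨hE.1.2.2.1 P hφ, fun t ht => hcen t (hPT ht), fun x => hcen _ (Cfsg.Agent.Lib.FS.apply_mem hφ x), ?_⟩
  exact Cfsg.Agent.Lib.FS.NormalCentralizer.fixes_focal hS hE hD P φ hφ


end Cfsg.Agent.S5293
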