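import Cfsg.Statements.S5294
import Cfsg.Agent.Lib.FusionSystem.NormalFacts
import Cfsg.Agent.Lib.FusionAlperin.Join
import Cfsg.Agent.Lib.FusionAlperin.Model

set_option autoImplicit false
universe u
open Cfsg

namespace Cfsg.Agent.S5294

/-- The relative norm: a map into the fixed points that is a `p'`-power on them. -/
theorem exists_relNorm {A : Type*} [Group A] [Finite A] {V : Type*} [CommGroup V] (g : A →* MulAut V)
    (P₀ : Subgroup A) (Z : Subgroup V) (hP₀ : ∀ h ∈ P₀, ∀ v ∈ Z, g h v = v) :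
    ∃ T : Z →* V, (∀ a v, g a (T v) = T v) ∧ ∀ v : Z, (∀ a, g a v = v) → T v = (v : V) ^ P₀.index := by
  letI : Fintype (A ⧸ P₀) := Fintype.ofFinite _
  let T : Z →* V := ∏ c : A ⧸ P₀, (g c.out).toMonoidHom.comp Z.subtype
  have hT : ∀ v : Z, T v = ∏ c : A ⧸ P₀, g c.out v := fun v => MonoidHom.finsetProd_apply _ _ _
  refine ⟨T, fun a v => ?_, fun v hv => ?_⟩
  · rw [hT, map_prod]
    refine Fintype.prod_equiv (MulAction.toPerm a) _ _ fun c => ?_
    show g a (g c.out v) = g (a • c : A ⧸ P₀).out v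
    obtain ⟨h, hh⟩ : ∃ h : P₀, (a • c : A ⧸ P₀).out = a * c.out * h := by
      conv in (a • c) => rw [← QuotientGroup.out_eq' c]
      exact QuotientGroup.mk_out_eq_mul P₀ _
    rw [hh, map_mul, map_mul, MulAut.mul_apply, MulAut.mul_apply, hP₀ h h.2 v v.2]
  · rw [hT, Finset.prod_congr rfl (fun c _ => hv c.out), Finset.prod_const, Finset.card_univ,
      ← Nat.card_eq_fintype_card, Subgroup.index]

/-- Let F be a saturated fusion system over a finite p-group S whose centre Z(S) lies in the largest subgroup O_p(F) normal in F. Then the centre Z(F) of F is a direct factor of Z(S): there is a subgroup K of Z(S) with Z(F) ∩ K = 1 and Z(F)K = Z(S). -/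
theorem result {Ω : Type u} [Group Ω] {S : Subgroup Ω} [Finite S] (p : ℕ) [Fact p.Prime] (hS : IsPGroup p S)
    (F : Cfsg.FusionSystem S) (hF : F.IsSaturated p) (hZ : (S ⊓ Subgroup.centralizer (S : Set Ω)) ≤ F.core) :
    ∃ K : Subgroup Ω, K ≤ (S ⊓ Subgroup.centralizer (S : Set Ω)) ∧ F.center ⊓ K = ⊥ ∧ F.center ⊔ K = (S ⊓ Subgroup.centralizer (S : Set Ω)) := by
  set Q := F.core with hQdef
  set Zs := S ⊓ Subgroup.centralizer (S : Set Ω) with hZsdef
  have hQn : F.IsNormal Q := Cfsg.Agent.Lib.FusionAlperin.Join.isNormal_core F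
  haveI := Cfsg.Agent.Lib.FS.finite_sub hQn.1
  obtain ⟨R, hR⟩ := (Cfsg.Agent.Lib.FS.fullyAutomized_of_fullyNormalized hS hF
    (Cfsg.Agent.Lib.FusionAlperin.Model.fullyNormalized_of_normal hQn)).2
  -- the centre of the system
  have hcen := (Cfsg.Agent.Lib.FS.isCentral_iff hS hF).1 (Cfsg.Agent.Lib.FusionAlperin.Join.isCentral_center F)
  have hCS : F.center ≤ Zs := fun x hx => ⟨hcen.1 hx, fun g hg => by
    obtain ⟨τ, hτ, hτe⟩ := Cfsg.Agent.Lib.FS.exists_restrict (F.conj_mem le_rfl hg) (Subgroup.zpowers_le.2 (hcen.1 hx))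
    have h1 : g * x * g⁻¹ = x := hcen.2 x hx _ ⟨τ, hτ, hτe _⟩
    conv_rhs => rw [← h1]
    group⟩
  have hCfix : ∀ {x}, x ∈ F.center → ∀ α ∈ F.autGroup Q, ∀ hx : x ∈ Q, ((α ⟨x, hx⟩ : Q) : Ω) = x := by
    intro x hx α hα hxQ
    obtain ⟨φ, hφ, -, hφe⟩ := Cfsg.Agent.Lib.FS.exists_hom_of_aut hQn.1 hα
    obtain ⟨τ, hτ, hτe⟩ := Cfsg.Agent.Lib.FS.exists_restrict hφ (Subgroup.zpowers_le.2 hxQ)
    refine hcen.2 x hx _ ⟨τ, hτ, ?_⟩
    rw [hτe, ← hφe]
  -- the relative norm on the centre of the core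
  letI : CommGroup ↥(Subgroup.center Q) :=
    { (inferInstance : Group ↥(Subgroup.center Q)) with
      mul_comm := fun a b => Subtype.ext (Subgroup.mem_center_iff.1 b.2 a) }
  let g : F.autGroup Q →* MulAut ↥(Subgroup.center Q) :=
    { toFun := fun a => Subgroup.centerCongr (a : MulAut Q)
      map_one' := rfl
      map_mul' := fun _ _ => rfl }
  have hg : ∀ (a : F.autGroup Q) (v : Subgroup.center Q), ((g a v : Subgroup.center Q) : Q) = (a : MulAut Q) v :=
    fun _ _ => rfl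
  let Z : Subgroup ↥(Subgroup.center Q) := Zs.comap (Q.subtype.comp (Subgroup.center Q).subtype)
  obtain ⟨T, hTfix, hTpow⟩ := exists_relNorm g (R : Subgroup (F.autGroup Q)) Z (by
    intro a ha v hv
    rw [hR] at ha
    obtain ⟨s, hs, hse⟩ := Cfsg.Agent.Lib.FS.mem_autInducedBy.1 (Subgroup.mem_subgroupOf.1 ha)
    refine Subtype.ext (Subtype.ext ?_)
    rw [hg, hse]
    rw [(show s * ((v : Q) : Ω) = ((v : Q) : Ω) * s from (Subgroup.mem_inf.1 hv).2 s hs), mul_inv_cancel_right])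
  have hmem : ∀ x ∈ Zs, ∃ hx : x ∈ Q, (⟨x, hx⟩ : Q) ∈ Subgroup.center Q := fun x hx =>
    ⟨hZ hx, Subgroup.mem_center_iff.2 fun y => Subtype.ext ((Subgroup.mem_inf.1 hx).2 y (hQn.1 y.2))⟩
  have hTc : ∀ v : Z, (((T v : Subgroup.center Q) : Q) : Ω) ∈ F.center := by
    intro v
    let C : Subgroup Ω :=
      (Subgroup.map (Q.subtype.comp (Subgroup.center Q).subtype) (Subgroup.zpowers (T v)))
    have hC : F.IsCentral C := by
      refine (Cfsg.Agent.Lib.FS.isCentral_iff hS hF).2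
        ⟨by rintro _ ⟨w, -, rfl⟩; exact hQn.1 (w : Q).2, ?_⟩
      rintro x hx y ⟨φ, hφ, rfl⟩
      obtain ⟨w, hw, hwx⟩ := hx
      obtain ⟨n, rfl⟩ := Subgroup.mem_zpowers_iff.1 hw
      have hxQ : x ∈ Q := hwx ▸ ((T v ^ n : Subgroup.center Q) : Q).2
      obtain ⟨α, hα, he⟩ := (Cfsg.Agent.Lib.FS.isNormal_iff_extend hS hF hQn.1).1 hQn _
        (Subgroup.zpowers_le.2 hxQ) φ hφ
      rw [← he, show (Subgroup.inclusion (Subgroup.zpowers_le.2 hxQ) ⟨x, Subgroup.mem_zpowers x⟩ : Q) =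
        ((T v ^ n : Subgroup.center Q) : Q) from Subtype.ext hwx.symm, ← hg ⟨α, hα⟩, map_zpow, hTfix, hwx.symm]
      rfl
    exact (show C ≤ F.center from le_sSup hC) ⟨_, Subgroup.mem_zpowers _, rfl⟩
  have hcop : Nat.Coprime (Nat.card Zs) (R : Subgroup (F.autGroup Q)).index := by
    haveI := Cfsg.Agent.Lib.FS.finite_sub (show Zs ≤ S from inf_le_left)
    obtain ⟨n, hn⟩ := IsPGroup.iff_card.1 (Cfsg.Agent.Lib.FS.isPGroup_of_le hS (show Zs ≤ S from inf_le_left))
    rw [hn]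
    exact Nat.Coprime.pow_left _ ((Fact.out : p.Prime).coprime_iff_not_dvd.2 R.not_dvd_index)
  have hTc' : ∀ (x : Ω) (hx : x ∈ F.center) (v : Z), (((v : Subgroup.center Q) : Q) : Ω) = x →
      T v = (v : Subgroup.center Q) ^ (R : Subgroup (F.autGroup Q)).index := by
    intro x hx v hv
    refine hTpow v fun a => Subtype.ext (Subtype.ext ?_)
    rw [hg]
    refine hCfix (show (((v : Subgroup.center Q) : Q) : Ω) ∈ F.center from hv ▸ hx) a a.2 _
  refine ⟨T.ker.map ((Q.subtype.comp (Subgroup.center Q).subtype).comp Z.subtype), ?_, ?_, ?_⟩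
  · rintro _ ⟨v, -, rfl⟩; exact v.2
  · refine eq_bot_iff.2 fun x hx => Subgroup.mem_bot.2 ?_
    obtain ⟨hxc, v, hv, hvx⟩ := Subgroup.mem_inf.1 hx
    have h1 : (v : Subgroup.center Q) ^ (R : Subgroup (F.autGroup Q)).index = 1 := by
      rw [← hTc' x hxc v hvx]; exact hv
    have h2 : (⟨x, hCS hxc⟩ : Zs) ^ (R : Subgroup (F.autGroup Q)).index = 1 := by
      refine Subtype.ext ?_
      show x ^ _ = 1
      rw [← hvx]
      show ((Q.subtype.comp (Subgroup.center Q).subtype) v) ^ _ = 1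
      rw [← map_pow, h1, map_one]
    exact congrArg Subtype.val ((powCoprime hcop).injective
      (show powCoprime hcop ⟨x, hCS hxc⟩ = powCoprime hcop 1 by simpa [powCoprime] using h2))
  · refine le_antisymm (sup_le hCS (by rintro _ ⟨v, -, rfl⟩; exact v.2)) fun x hx => ?_
    obtain ⟨hxQ, hxZ⟩ := hmem x hx
    let v : Z := ⟨⟨⟨x, hxQ⟩, hxZ⟩, hx⟩
    have hcop' : Nat.Coprime (Nat.card F.center) (R : Subgroup (F.autGroup Q)).index :=
      Nat.Coprime.coprime_dvd_left (Subgroup.card_dvd_of_le hCS) hcop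
    obtain ⟨w, hw⟩ := (powCoprime hcop').surjective ⟨_, hTc v⟩
    obtain ⟨hwQ, hwZ⟩ := hmem w (hCS w.2)
    let w' : Z := ⟨⟨⟨w, hwQ⟩, hwZ⟩, hCS w.2⟩
    have hk : w'⁻¹ * v ∈ T.ker := by
      rw [MonoidHom.mem_ker, map_mul, map_inv, inv_mul_eq_one, hTc' _ w.2 w' rfl]
      refine Subtype.ext (Subtype.ext ?_)
      have := congrArg Subtype.val hw
      simpa [powCoprime, w'] using this
    have h3 := Subgroup.mul_mem_sup w.2 (Subgroup.mem_map_of_mem
      ((Q.subtype.comp (Subgroup.center Q).subtype).comp Z.subtype) hk)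
    simpa [v, w'] using h3

end Cfsg.Agent.S5294
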