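import Cfsg.Statements.S5295
import Cfsg.Agent.Lib.Transfer.FusionFix

set_option autoImplicit false
universe u
open Cfsg

namespace Cfsg.Agent.S5295

/-- The trace from the fixed points of `T` onto the fixed points of `X`. -/
theorem exists_retraction {A X : Type*} [CommGroup A] [Finite A] [Group X] [Finite X] (act : X →* MulAut A)
    (T : Subgroup X) (hidx : (Nat.card A).Coprime T.index) :
    ∃ (M : Subgroup A) (r : M →* A), (∀ a, (∀ t ∈ T, act t a = a) → a ∈ M) ∧ (∀ m x, act x (r m) = r m) ∧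
      ∀ m : M, (∀ x, act x m = m) → r m = m := by
  classical
  haveI := Fintype.ofFinite (X ⧸ T)
  let M : Subgroup A :=
    { carrier := {a | ∀ t ∈ T, act t a = a}
      one_mem' := fun t _ => map_one _
      mul_mem' := fun ha hb t ht => by rw [map_mul, ha t ht, hb t ht]
      inv_mem' := fun ha t ht => by rw [map_inv, ha t ht] }
  let tr : M →* A :=
    { toFun := fun m => ∏ q : X ⧸ T, act (Quotient.out q) (m : A)
      map_one' := by simp
      map_mul' := fun m n => by simp [Finset.prod_mul_distrib] }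
  have hrep : ∀ (y : X) (m : M), act y (m : A) = act (Quotient.out (y : X ⧸ T)) (m : A) := by
    intro y m
    have h : y⁻¹ * Quotient.out (y : X ⧸ T) ∈ T := QuotientGroup.eq.1 (QuotientGroup.out_eq' _).symm
    conv_lhs => rw [← m.2 _ h]
    rw [← MulAut.mul_apply, ← map_mul, mul_inv_cancel_left]
  have htr : ∀ x m, act x (tr m) = tr m := by
    intro x m
    show act x (∏ q : X ⧸ T, act (Quotient.out q) (m : A)) = ∏ q : X ⧸ T, act (Quotient.out q) (m : A)
    rw [map_prod]
    refine Fintype.prod_equiv (MulAction.toPerm x) _ _ fun q => ?_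
    rw [← MulAut.mul_apply, ← map_mul, hrep]
    congr 2
    refine congrArg _ ?_
    show ((x * Quotient.out q : X) : X ⧸ T) = x • q
    conv_rhs => rw [← QuotientGroup.out_eq' q]
    rfl
  obtain ⟨k, hk⟩ : ∃ k : ℤ, ∀ a : A, (a ^ T.index) ^ k = a :=
    ⟨_, fun a => (powCoprime (G := A) hidx).left_inv a⟩
  refine ⟨M, (zpowGroupHom k).comp tr, fun a ha => ha, fun m x => ?_, fun m hm => ?_⟩
  · show act x (tr m ^ k) = tr m ^ k
    rw [map_zpow, htr]
  · have h : tr m = (m : A) ^ T.index := by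
      show (∏ q : X ⧸ T, act (Quotient.out q) (m : A)) = _
      rw [Finset.prod_congr rfl fun q _ => hm _, Finset.prod_const, Finset.card_univ, Subgroup.index,
        Nat.card_eq_fintype_card]
    show tr m ^ k = (m : A)
    rw [h, hk]

open Cfsg.FusionSystem Cfsg.Agent.Lib.FS Cfsg.Agent.Lib.Transfer
open scoped IsMulCommutative


/-- Let F be a saturated fusion system over a finite p-group S with p odd. Then the centre Z(F) of F is a direct factor of Z(S): there is a subgroup K of Z(S) with Z(F) ∩ K = 1 and Z(F)K = Z(S). (At the prime 2 this can fail.) -/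
theorem result {Ω : Type u} [Group Ω] {S : Subgroup Ω} [Finite S] (p : ℕ) [Fact p.Prime] (hp : p ≠ 2) (hS : IsPGroup p S)
    (F : Cfsg.FusionSystem S) (hF : F.IsSaturated p) :
    ∃ K : Subgroup Ω, K ≤ (S ⊓ Subgroup.centralizer (S : Set Ω)) ∧ F.center ⊓ K = ⊥ ∧ F.center ⊔ K = (S ⊓ Subgroup.centralizer (S : Set Ω)) := by
  set J := Cfsg.thompsonSubgroupAOf S with hJ
  have hJS : J ≤ S := AbelianJ.thompsonSubgroupAOf_le _
  haveI := finite_sub hJS
  have hJn : S ≤ normalizerIn S J := fun g hg =>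
    FusionLocal.normalizerIn_le_of_char hJS (CharHyp.characteristic_thompsonAOf _) (le_normalizerIn le_rfl hg)
  haveI := finite_sub (normalizerIn_le (S := S) J)
  have hfn : F.IsFullyNormalized J :=
    ⟨hJS, fun Q _ => Subgroup.card_le_of_le ((normalizerIn_le Q).trans hJn)⟩
  obtain ⟨-, W, hW⟩ := fullyAutomized_of_fullyNormalized hS hF hfn
  set ZS : Subgroup Ω := S ⊓ Subgroup.centralizer (S : Set Ω) with hZS
  have hZJ : ∀ z ∈ ZS, z ∈ J := fun z hz => by
    have h1 : (⟨z, hz.1⟩ : S) ∈ Cfsg.thompsonSubgroupAOf (⊤ : Subgroup S) :=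
      FusionFix.mem_thompsonAOf_of_central (Subgroup.mem_top _) fun y _ =>
        Subtype.ext (Subgroup.mem_centralizer_iff.1 hz.2 y y.2)
    have h2 := AbelianJ.map_thompsonSubgroupAOf S.subtype S.subtype_injective ⊤
    rw [← MonoidHom.range_eq_map, S.range_subtype] at h2
    exact h2.le ⟨_, h1, rfl⟩
  let act : F.autGroup J →* MulAut (Subgroup.center J) :=
    { toFun := fun α => Subgroup.centerCongr α.1
      map_one' := MulEquiv.ext fun _ => rfl
      map_mul' := fun _ _ => MulEquiv.ext fun _ => rfl }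
  have hidx : (Nat.card (Subgroup.center J)).Coprime (W : Subgroup (F.autGroup J)).index := by
    obtain ⟨j, hj⟩ := IsPGroup.iff_card.1 ((isPGroup_of_le hS hJS).to_subgroup (Subgroup.center J))
    rw [hj]
    exact (((Fact.out : p.Prime).coprime_iff_not_dvd).2 W.not_dvd_index).pow_left j
  obtain ⟨M, r, hM, hr, hid⟩ := exists_retraction act (W : Subgroup (F.autGroup J)) hidx
  let j : ZS →* Subgroup.center J :=
    { toFun := fun z => ⟨⟨z, hZJ z z.2⟩, Subgroup.mem_center_iff.2 fun g =>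
        Subtype.ext (Subgroup.mem_centralizer_iff.1 z.2.2 g (hJS g.2))⟩
      map_one' := rfl
      map_mul' := fun _ _ => rfl }
  have hjM : ∀ z, j z ∈ M := fun z => hM _ fun t ht => by
    rw [hW, Subgroup.mem_subgroupOf, mem_autInducedBy] at ht
    obtain ⟨g, hg, hgt⟩ := ht
    apply Subtype.ext
    apply Subtype.ext
    refine (hgt _).trans ?_
    show g * (z : Ω) * g⁻¹ = z
    rw [Subgroup.mem_centralizer_iff.1 z.2.2 g hg, mul_inv_cancel_right]
  let R : ZS →* Ω := (J.subtype.comp (Subgroup.center J).subtype).comp (r.comp (j.codRestrict M hjM))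
  have hRS : ∀ z, R z ∈ S ∧ ∀ g ∈ S, g * R z = R z * g := by
    intro z
    refine ⟨hJS (SetLike.coe_mem _), fun g hg => ?_⟩
    have hα : J.normalizerMonoidHom ⟨g, (hJn hg).2⟩ ∈ F.autGroup J :=
      autInducedBy_le_autGroup F hJS (mem_autInducedBy.2 ⟨g, hg, fun _ => rfl⟩)
    have h := congrArg (fun a : Subgroup.center J => ((a : J) : Ω)) (hr (j.codRestrict M hjM z) ⟨_, hα⟩)
    exact mul_inv_eq_iff_eq_mul.1 h
  have hfixJ : ∀ z, FusionFix.Fixes F (R z) J := fun z α hα x hx => by
    have hxe : x = ((r (j.codRestrict M hjM z) : Subgroup.center J) : J) := Subtype.ext hx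
    rw [hxe]
    exact congrArg (fun a : Subgroup.center J => ((a : J) : Ω)) (hr (j.codRestrict M hjM z) ⟨α, hα⟩)
  have hmem : R.range ≤ F.center := by
    refine FusionFix.le_center_of_fixed hS hF (fun w hw => ?_) ?_
    · obtain ⟨z, rfl⟩ := hw
      exact (hRS z).1
    · rintro _ ⟨z, rfl⟩
      exact FusionFix.fix_all_thompson hS hF (hRS z).1 (hRS z).2 (Or.inr fun _ => Or.inl hp) (hfixJ z)
  have hcen := Cfsg.Agent.Lib.FusionAlperin.Join.isCentral_center F
  have hfixC : ∀ c ∈ F.center, ∀ (P : Subgroup Ω) (φ : P →* Ω), φ ∈ F.Hom P → ∀ x : P, (x : Ω) = c → φ x = c := by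
    intro c hc P φ hφ x hx
    obtain ⟨ψ, -, he, hf⟩ := hcen.2 P φ hφ
    rw [← he, show (Subgroup.inclusion le_sup_left x : ↥(P ⊔ F.center)) =
      Subgroup.inclusion le_sup_right ⟨c, hc⟩ from Subtype.ext hx]
    exact hf ⟨c, hc⟩
  have hCZ : F.center ≤ ZS := fun c hc => ⟨hcen.1 hc, Subgroup.mem_centralizer_iff.2 fun g hg =>
    mul_inv_eq_iff_eq_mul.1 (hfixC c hc (Subgroup.zpowers c) _
      (F.conj_mem (Subgroup.zpowers_le.2 (hcen.1 hc)) hg) ⟨c, Subgroup.mem_zpowers c⟩ rfl)⟩
  have hR : ∀ z : ZS, (z : Ω) ∈ F.center → R z = z := by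
    intro z hz
    have h := hid (j.codRestrict M hjM z) fun α => by
      apply Subtype.ext
      apply Subtype.ext
      obtain ⟨φ, hφ, -, he⟩ := exists_hom_of_aut hJS α.2
      exact (he _).symm.trans (hfixC z hz J φ hφ _ rfl)
    exact congrArg (fun a : Subgroup.center J => ((a : J) : Ω)) h
  refine ⟨R.ker.map ZS.subtype, Subgroup.map_subtype_le _, ?_, ?_⟩
  · rw [Subgroup.eq_bot_iff_forall]
    rintro x ⟨hx, z, hz, rfl⟩
    exact (hR z hx).symm.trans hz
  · refine le_antisymm (sup_le hCZ (Subgroup.map_subtype_le _)) fun z hz => ?_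
    have hc := hmem ⟨⟨z, hz⟩, rfl⟩
    set c := R ⟨z, hz⟩ with hcd
    have : z = c * (c⁻¹ * z) := by group
    rw [this]
    refine mul_mem (Subgroup.mem_sup_left hc) (Subgroup.mem_sup_right ?_)
    refine ⟨⟨c, hCZ hc⟩⁻¹ * ⟨z, hz⟩, ?_, rfl⟩
    show R _ = 1
    rw [map_mul, map_inv, hR ⟨c, hCZ hc⟩ hc]
    exact inv_mul_cancel c

end Cfsg.Agent.S5295
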