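import Cfsg.Statements.S5296
import Cfsg.Agent.Lib.FusionEssential.HyperfocalControl

set_option autoImplicit false
universe u
open Cfsg

namespace Cfsg.Agent.S5296

/-- Small-exponent abelian subgroups of the hyperfocal subgroup control fusion. Let E and F be saturated fusion systems over the same finite p-group S with E contained in F. Suppose that E and F have the same maps between A and B for all subgroups A, B of the hyperfocal subgroup of F that are elementary abelian when p is odd, respectively abelian of exponent dividing 4 when p = 2. Then E = F. -/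
theorem result {Ω : Type u} [Group Ω] {S : Subgroup Ω} [Finite S] (p : ℕ) [Fact p.Prime] (hS : IsPGroup p S)
    (E F : Cfsg.FusionSystem S) (hE : E.IsSaturated p) (hF : F.IsSaturated p) (hEF : E.IsSubsystemOf F)
    (hodd : p ≠ 2 → ∀ A B : Subgroup Ω, A ≤ (F.hyperfocalSubgroup p) → B ≤ (F.hyperfocalSubgroup p) →
      Cfsg.IsElementaryAbelian p A → Cfsg.IsElementaryAbelian p B → E.homSet A B = F.homSet A B)
    (htwo : p = 2 → ∀ A B : Subgroup Ω, A ≤ (F.hyperfocalSubgroup p) → B ≤ (F.hyperfocalSubgroup p) →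
      IsMulCommutative ↥A → IsMulCommutative ↥B → (∀ a ∈ A, a ^ 4 = 1) → (∀ b ∈ B, b ^ 4 = 1) → E.homSet A B = F.homSet A B) :
    ∀ P : Subgroup Ω, E.Hom P = F.Hom P := by
  have hT := Cfsg.Agent.Lib.FusionEssential.HyperfocalControl.controls_hyperfocal hS hF
  refine fun P => Set.Subset.antisymm (hEF P) ?_
  have key : ∀ (n : ℕ), p ^ n ≠ 2 → 1 ≤ n →
      Cfsg.Agent.Lib.FusionEssential.HyperfocalControl.SameWithin (p ^ n) (F.hyperfocalSubgroup p) E F →
      F.Hom P ⊆ E.Hom P := fun n hn hn0 h =>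
    Cfsg.Agent.Lib.FusionEssential.HyperfocalControl.hom_subset hn hn0 S ‹_› hS E F hE hF hEF _ hT h P
  have img : ∀ (q : ℕ) (A : Subgroup Ω), (∀ a ∈ A, ∀ b ∈ A, a * b = b * a) → (∀ a ∈ A, a ^ q = 1) →
      ∀ φ : A →* Ω, IsMulCommutative φ.range ∧ ∀ b ∈ φ.range, b ^ q = 1 := by
    intro q A hc he φ
    constructor
    · refine ⟨⟨fun a b => ?_⟩⟩
      obtain ⟨_, x, rfl⟩ := a
      obtain ⟨_, y, rfl⟩ := b
      apply Subtype.ext
      show φ x * φ y = φ y * φ x
      rw [← map_mul, ← map_mul]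
      exact congrArg φ (Subtype.ext (hc x x.2 y y.2))
    · rintro _ ⟨x, rfl⟩
      rw [← map_pow, show x ^ q = 1 from Subtype.ext (he x x.2), map_one]
  rcases eq_or_ne p 2 with h2 | hne
  · refine key 2 (by subst h2; norm_num) (by norm_num) fun A hA hc he φ hφ => ?_
    have h4 : p ^ 2 = 4 := by subst h2; norm_num
    rw [h4] at he
    obtain ⟨hBc, hBe⟩ := img 4 A hc he φ
    have hh := htwo h2 A φ.range hA (hT.map A φ hφ hA)
      ⟨⟨fun a b => Subtype.ext (hc a a.2 b b.2)⟩⟩ hBc he hBe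
    exact (hh.ge (⟨hφ, fun x => ⟨x, rfl⟩⟩ : φ ∈ F.homSet A φ.range)).1
  · refine key 1 (by simpa using hne) le_rfl fun A hA hc he φ hφ => ?_
    rw [pow_one] at he
    obtain ⟨hBc, hBe⟩ := img p A hc he φ
    have hh := hodd hne A φ.range hA (hT.map A φ hφ hA)
      ⟨⟨⟨fun a b => Subtype.ext (hc a a.2 b b.2)⟩⟩, he⟩ ⟨hBc, hBe⟩
    exact (hh.ge (⟨hφ, fun x => ⟨x, rfl⟩⟩ : φ ∈ F.homSet A φ.range)).1

end Cfsg.Agent.S5296
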