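import Cfsg.Statements.S5297
import Cfsg.Agent.Lib.FusionEssential.PClosed

set_option autoImplicit false
universe u
open Cfsg

namespace Cfsg.Agent.S5297

/-- Let F be a saturated fusion system over a finite p-group S. If every map of F between cyclic subgroups of the hyperfocal subgroup of F of order p or 4 is a map of the normalizer system of S (it extends to a map of F defined on all of S), then S is normal in F. -/
theorem result {Ω : Type u} [Group Ω] {S : Subgroup Ω} [Finite S] (p : ℕ) [Fact p.Prime] (hS : IsPGroup p S)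
    (F : Cfsg.FusionSystem S) (hF : F.IsSaturated p)
    (h : ∀ A B : Subgroup Ω, A ≤ (F.hyperfocalSubgroup p) → B ≤ (F.hyperfocalSubgroup p) → IsCyclic ↥A → (Nat.card ↥A = p ∨ Nat.card ↥A = 4) → IsCyclic ↥B → (Nat.card ↥B = p ∨ Nat.card ↥B = 4) →
      F.homSet A B ⊆ F.normalizerHom S A) :
    F.IsNormal S := by
  refine Cfsg.Agent.Lib.FusionEssential.PClosed.isNormal_base_of_series hS hF
    (Cfsg.Agent.Lib.FusionP3.Tate.hyperfocal_stronglyClosed hS hF)
    (fun P hP a ha hco x => Cfsg.Agent.Lib.FusionEssential.PClosed.inv_mul_mem_hyperfocal hP ha hco x) ?_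
  intro P φ hφ x hxV hxs i hxi
  rcases eq_or_ne (x : Ω) 1 with hx1 | hx1
  · rw [show x = 1 from Subtype.ext hx1, map_one]; exact one_mem _
  have hle : Subgroup.zpowers (x : Ω) ≤ P := Subgroup.zpowers_le.2 x.2
  obtain ⟨ψ, hψ, hψe⟩ := Cfsg.Agent.Lib.FS.exists_restrict hφ hle
  have hφxV : φ x ∈ F.hyperfocalSubgroup p := Cfsg.Agent.Lib.FS.stronglyClosed_apply_mem
    (Cfsg.Agent.Lib.FusionP3.Tate.hyperfocal_stronglyClosed hS hF) hφ hxV
  have hφs : Cfsg.Agent.Lib.FusionEssential.SmallOrder.Small p (φ x) :=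
    (Cfsg.Agent.Lib.FusionEssential.SmallOrder.small_map_iff φ (F.injective_of_mem hφ) x).2
      ((Cfsg.Agent.Lib.FusionEssential.SmallOrder.small_coe_iff x).1 hxs)
  have hφ1 : φ x ≠ 1 := fun e => hx1 (by
    rw [show x = 1 from F.injective_of_mem hφ (by rw [e, map_one])]; rfl)
  have hmem : ψ ∈ F.homSet (Subgroup.zpowers (x : Ω)) (Subgroup.zpowers (φ x)) := by
    refine ⟨hψ, ?_⟩
    rintro ⟨y, hy⟩
    obtain ⟨j, rfl⟩ := Subgroup.mem_zpowers_iff.1 hy
    refine Subgroup.mem_zpowers_iff.2 ⟨j, ?_⟩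
    rw [hψe, ← map_zpow]
    exact congrArg φ (Subtype.ext (by simp))
  obtain ⟨-, -, -, χ, hχ, hχe, -⟩ := h _ _ (Subgroup.zpowers_le.2 hxV) (Subgroup.zpowers_le.2 hφxV) inferInstance
    (Cfsg.Agent.Lib.FusionEssential.PClosed.card_zpowers_of_small hxs hx1) inferInstance
    (Cfsg.Agent.Lib.FusionEssential.PClosed.card_zpowers_of_small hφs hφ1) hmem
  obtain ⟨β, hβ, hβe⟩ := Cfsg.Agent.Lib.FS.exists_restrict hχ (le_sup_right : S ≤ Subgroup.zpowers (x : Ω) ⊔ S)
  have hxS : (x : Ω) ∈ S := Cfsg.Agent.Lib.FS.src_le hφ x.2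
  have e : φ x = β ⟨x, hxS⟩ := by
    rw [hβe ⟨x, hxS⟩, ← show ψ ⟨x, Subgroup.mem_zpowers _⟩ = φ x from hψe _, ← hχe ⟨x, Subgroup.mem_zpowers _⟩]
    rfl
  rw [e]
  exact Cfsg.Agent.Lib.FusionEssential.PClosed.hom_base_mem_series hβ ⟨x, hxS⟩ hxi

end Cfsg.Agent.S5297
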