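import Cfsg.Statements.S5298
import Cfsg.Agent.Lib.FusionEssential.PClosed

set_option autoImplicit false
universe u
open Cfsg

namespace Cfsg.Agent.S5298

/-- Let F be a saturated fusion system over a finite p-group S. If every map of F between cyclic subgroups of the hyperfocal subgroup of F of order p or 4 is conjugation by an element of S, then F is the inner fusion system of S. -/
theorem result {Ω : Type u} [Group Ω] {S : Subgroup Ω} [Finite S] (p : ℕ) [Fact p.Prime] (hS : IsPGroup p S)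
    (F : Cfsg.FusionSystem S) (hF : F.IsSaturated p)
    (h : ∀ A B : Subgroup Ω, A ≤ (F.hyperfocalSubgroup p) → B ≤ (F.hyperfocalSubgroup p) → IsCyclic ↥A → (Nat.card ↥A = p ∨ Nat.card ↥A = 4) → IsCyclic ↥B → (Nat.card ↥B = p ∨ Nat.card ↥B = 4) →
      F.homSet A B ⊆ (Cfsg.innerFusionSystem S).Hom A) :
    ∀ P : Subgroup Ω, F.Hom P = (Cfsg.innerFusionSystem S).Hom P := by
  have hVc := Cfsg.Agent.Lib.FusionP3.Tate.hyperfocal_stronglyClosed hS hF
  have hconj : ∀ (P : Subgroup Ω) (φ : P →* Ω), φ ∈ F.Hom P → ∀ x : P, (x : Ω) ∈ F.hyperfocalSubgroup p →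
      Cfsg.Agent.Lib.FusionEssential.SmallOrder.Small p (x : Ω) → ∃ s ∈ S, φ x = s * (x : Ω) * s⁻¹ := by
    intro P φ hφ x hxV hxs
    rcases eq_or_ne (x : Ω) 1 with hx1 | hx1
    · exact ⟨1, one_mem _, by rw [show x = 1 from Subtype.ext hx1, map_one]; simp⟩
    have hle : Subgroup.zpowers (x : Ω) ≤ P := Subgroup.zpowers_le.2 x.2
    obtain ⟨ψ, hψ, hψe⟩ := Cfsg.Agent.Lib.FS.exists_restrict hφ hle
    have hφxV : φ x ∈ F.hyperfocalSubgroup p := Cfsg.Agent.Lib.FS.stronglyClosed_apply_mem hVc hφ hxV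
    have hφs : Cfsg.Agent.Lib.FusionEssential.SmallOrder.Small p (φ x) :=
      (Cfsg.Agent.Lib.FusionEssential.SmallOrder.small_map_iff φ (F.injective_of_mem hφ) x).2
        ((Cfsg.Agent.Lib.FusionEssential.SmallOrder.small_coe_iff x).1 hxs)
    have hφ1 : φ x ≠ 1 := fun e => hx1 (by
      rw [show x = 1 from F.injective_of_mem hφ (by rw [e, map_one])]; rfl)
    have hmem : ψ ∈ F.homSet (Subgroup.zpowers (x : Ω)) (Subgroup.zpowers (φ x)) := by
      refine ⟨hψ, ?_⟩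
      rintro ⟨y, hy⟩
      obtain ⟨j, rfl⟩ := Subgroup.mem_zpowers_iff.1 hy
      refine Subgroup.mem_zpowers_iff.2 ⟨j, ?_⟩
      rw [hψe, ← map_zpow]
      exact congrArg φ (Subtype.ext (by simp))
    obtain ⟨-, s, hs, hse⟩ := h _ _ (Subgroup.zpowers_le.2 hxV) (Subgroup.zpowers_le.2 hφxV) inferInstance
      (Cfsg.Agent.Lib.FusionEssential.PClosed.card_zpowers_of_small hxs hx1) inferInstance
      (Cfsg.Agent.Lib.FusionEssential.PClosed.card_zpowers_of_small hφs hφ1) hmem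
    refine ⟨s, hs, ?_⟩
    rw [← show ψ ⟨x, Subgroup.mem_zpowers _⟩ = φ x from hψe _]
    exact hse ⟨x, Subgroup.mem_zpowers _⟩
  have hmove := fun P (hP : P ≤ S) a ha hco x =>
    Cfsg.Agent.Lib.FusionEssential.PClosed.inv_mul_mem_hyperfocal (F := F) (p := p) (P := P) hP (a := a) ha hco x
  have hN : F.IsNormal S := by
    refine Cfsg.Agent.Lib.FusionEssential.PClosed.isNormal_base_of_series hS hF hVc hmove ?_
    intro P φ hφ x hxV hxs i hxi
    obtain ⟨s, hs, e⟩ := hconj P φ hφ x hxV hxs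
    rw [e]
    exact (Subgroup.mem_normalizer_iff.1 (Subgroup.self_le_normalizer_lowerCentralSeries (S := S) i hs) _).1 hxi
  -- `Aut_F(S)` is a `p`-group
  have hSS : IsPGroup p (F.autGroup S) := by
    refine Cfsg.Agent.Lib.FusionEssential.PClosed.isPGroup_of_small hS le_rfl (F.autGroup S) le_rfl
      (fun γ hγ a ha => mul_mem (mul_mem hγ ha) (inv_mem hγ)) hVc (hmove S le_rfl) ?_
    intro Q hQV hQi hQs a ha hco x hx
    obtain ⟨n, hn⟩ := Cfsg.Agent.Lib.FusionEssential.PClosed.exists_lowerCentralSeries_eq_bot hS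
    refine Cfsg.Agent.Lib.FusionEssential.SmallOrder.fixed_of_series hS a hco
      (fun i => Q ⊓ (S.lowerCentralSeries i).subgroupOf S) (n := n) ?_ ?_ x ?_
    · simp only [hn]
      rw [Subgroup.bot_subgroupOf, inf_bot_eq]
    · rintro i y ⟨hyQ, hyi⟩
      refine ⟨Q.mul_mem (Q.inv_mem hyQ) (hQi a ha y hyQ), ?_⟩
      obtain ⟨φ, hφ, -, he⟩ := Cfsg.Agent.Lib.FS.exists_hom_of_aut le_rfl ha
      obtain ⟨s, hs, e⟩ := hconj S φ hφ y (Subgroup.mem_subgroupOf.1 (hQV hyQ))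
        ((Cfsg.Agent.Lib.FusionEssential.SmallOrder.small_coe_iff y).2 (hQs y hyQ))
      rw [he] at e
      show (y : Ω)⁻¹ * ((a y : S) : Ω) ∈ S.lowerCentralSeries (i + 1)
      rw [e]
      exact Cfsg.Agent.Lib.FusionEssential.PClosed.conj_mem_series (Subgroup.mem_subgroupOf.1 hyi) hs
    · exact ⟨hx, Subgroup.mem_subgroupOf.2 x.2⟩
  have haut : F.autGroup S ≤ (Cfsg.innerFusionSystem S).autGroup S := by
    obtain ⟨R, hR⟩ := (Cfsg.Agent.Lib.FS.fullyAutomized_of_fullyNormalized hS hF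
      (Cfsg.Agent.Lib.FS.isFullyNormalized_base F)).2
    have htop : (R : Subgroup (F.autGroup S)) = ⊤ :=
      (R.is_maximal' (hSS.to_subgroup ⊤) le_top).symm
    intro α hα
    exact Cfsg.Agent.Lib.FS.autInducedBy_le_autGroup (Cfsg.innerFusionSystem S) le_rfl
      (Subgroup.mem_subgroupOf.1 (hR ▸ htop ▸ Subgroup.mem_top (⟨α, hα⟩ : F.autGroup S)))
  intro P
  refine Set.Subset.antisymm ?_ fun φ ⟨hP, g, hg, he⟩ => Cfsg.Agent.Lib.FS.mem_of_conj F hP hg he
  refine Cfsg.Agent.Lib.FS.le_of_essential_autGroup_le hS hF (E := Cfsg.innerFusionSystem S) (fun Q hQ => ?_) P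
  rcases hQ with rfl | hess
  · exact haut
  · exfalso
    obtain ⟨M, -, -, -, hne⟩ := Cfsg.Agent.Lib.FusionEssential.exists_data hS hF hess
    exact hne (le_antisymm hess.2.1.1 (((Cfsg.Agent.Lib.FS.isNormal_iff_essential hS hF).1 hN Q (Or.inr hess)).1))

end Cfsg.Agent.S5298
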