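import Cfsg.Statements.S5299
import Cfsg.Agent.Lib.Transfer.InvolvesS4

set_option autoImplicit false
universe u
open Cfsg

namespace Cfsg.Agent.S5299

/-- A `p`-group that is a section of `G` is a section of a Sylow `p`-subgroup of `G`. -/
theorem involves_sylow {G X : Type*} [Group G] [Group X] [Finite G] {p : ℕ} [Fact p.Prime] (T : Sylow p G)
    (hX : IsPGroup p X) (h : Cfsg.Involves X G) : Cfsg.Involves X ↥(T : Subgroup G) := by
  obtain ⟨K, φ, hφ⟩ := Cfsg.Agent.Lib.Transfer.InvolvesS4.exists_hom_of_involves h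
  obtain ⟨P⟩ : Nonempty (Sylow p ↥K) := inferInstance
  haveI : Finite X := Finite.of_surjective φ hφ
  have htop : ((P.mapSurjective hφ : Sylow p X) : Subgroup X) = ⊤ :=
    Eq.symm ((P.mapSurjective hφ).is_maximal' (IsPGroup.to_subgroup hX ⊤) le_top)
  have hsurj : Function.Surjective (φ.comp (P : Subgroup ↥K).subtype) := by
    intro x
    have hx : x ∈ ((P.mapSurjective hφ : Sylow p X) : Subgroup X) := htop ▸ Subgroup.mem_top x
    obtain ⟨y, hy, rfl⟩ := hx
    exact ⟨⟨y, hy⟩, rfl⟩
  obtain ⟨P', hP'⟩ := (P.isPGroup'.map K.subtype).exists_le_sylow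
  obtain ⟨g, hg⟩ := MulAction.exists_smul_eq G P' T
  let f : ↥(P : Subgroup ↥K) →* G :=
    ((MulAut.conj g).toMonoidHom.comp K.subtype).comp (P : Subgroup ↥K).subtype
  have hf : ∀ x, f x ∈ (T : Subgroup G) := fun x => by
    rw [← hg, Sylow.coe_subgroup_smul]
    exact ⟨_, hP' ⟨x, x.2, rfl⟩, rfl⟩
  have hinj : Function.Injective (f.codRestrict (T : Subgroup G) hf) := fun x y e =>
    Subtype.ext (Subtype.ext ((MulAut.conj g).injective (congrArg Subtype.val e)))
  exact Cfsg.Agent.Lib.Transfer.InvolvesS4.involves_of_injective _ hinj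
    (Cfsg.Agent.Lib.Transfer.InvolvesS4.involves_of_hom ⊤
      ((φ.comp (P : Subgroup ↥K).subtype).comp Subgroup.topEquiv.toMonoidHom)
      (fun x => by obtain ⟨y, hy⟩ := hsurj x; exact ⟨⟨y, Subgroup.mem_top y⟩, hy⟩))

/-- Let F be a saturated fusion system over a finite p-group S, H a finite group and Q a p-subgroup of H. If Q is not involved in S (no section of S is isomorphic to Q), then F is H-free: H is involved in no model of the normalizer system of a fully normalized centric subgroup. -/
theorem result {Ω : Type u} [Group Ω] {S : Subgroup Ω} [Finite S] (p : ℕ) [Fact p.Prime] (hS : IsPGroup p S)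
    (F : Cfsg.FusionSystem S) (hF : F.IsSaturated p) (H : Type*) [Group H] [Finite H] (Q : Subgroup H) (hQ : IsPGroup p Q)
    (hfree : ¬ Cfsg.Involves (↥Q) (↥S)) : F.IsSectionFree p H := by
  intro Q₀ hfn hcent N hN L _ ι hmod hinv
  obtain ⟨hfin, hreal, ⟨T, hT⟩, -⟩ := hmod
  haveI := hfin
  obtain ⟨K, φ, hφ⟩ := Cfsg.Agent.Lib.Transfer.InvolvesS4.exists_hom_of_involves hinv
  have hQL : Cfsg.Involves (↥Q) L :=
    Cfsg.Agent.Lib.Transfer.InvolvesS4.involves_of_hom ((Q.comap φ).map K.subtype)
      ((φ.subgroupComap Q).comp ((Q.comap φ).equivMapOfInjective K.subtype K.subtype_injective).symm.toMonoidHom)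
      (by
        intro y
        obtain ⟨x, hx⟩ := hφ y
        refine ⟨(Q.comap φ).equivMapOfInjective K.subtype K.subtype_injective
          ⟨x, show φ x ∈ Q by rw [hx]; exact y.2⟩, ?_⟩
        show φ.subgroupComap Q (((Q.comap φ).equivMapOfInjective K.subtype K.subtype_injective).symm _) = y
        rw [MulEquiv.symm_apply_apply]
        exact Subtype.ext hx)
  have h1 := involves_sylow T hQ hQL
  rw [hT] at h1
  refine hfree (Cfsg.Agent.Lib.Transfer.InvolvesS4.involves_of_injective
    ((Subgroup.inclusion (inf_le_left : Cfsg.FusionSystem.normalizerIn S Q₀ ≤ S)).comp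
      (MonoidHom.ofInjective hreal.1).symm.toMonoidHom) ?_ h1)
  intro x y e
  exact (MonoidHom.ofInjective hreal.1).symm.injective (Subgroup.inclusion_injective (inf_le_left : Cfsg.FusionSystem.normalizerIn S Q₀ ≤ S) e)

end Cfsg.Agent.S5299
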