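import Cfsg.Statements.S5300
import Cfsg.Agent.Lib.FusionEssential.PClosed

set_option autoImplicit false
universe u
open Cfsg

namespace Cfsg.Agent.S5300

/-- Let F be a saturated fusion system over a finite p-group S. If every cyclic subgroup of the focal subgroup of F of order p (of order 2 or 4 when p = 2) is normal in S, then S is normal in F. -/
theorem result {Ω : Type u} [Group Ω] {S : Subgroup Ω} [Finite S] (p : ℕ) [Fact p.Prime] (hS : IsPGroup p S)
    (F : Cfsg.FusionSystem S) (hF : F.IsSaturated p)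
    (hnorm : ∀ x ∈ F.focalSubgroup, (x ^ p = 1 ∨ (p = 2 ∧ x ^ 4 = 1)) → ∀ s ∈ S, s * x * s⁻¹ ∈ Subgroup.zpowers x) :
    F.IsNormal S := by
  have hVc : F.StronglyClosed F.focalSubgroup := by
    refine ⟨Cfsg.Agent.Lib.FusionP3.Tate.focal_le F, fun R hR φ hφ x => ?_⟩
    have := mul_mem (hR x.2) (Cfsg.Agent.Lib.FusionP3.Tate.focal_gen_mem hφ x)
    rwa [mul_inv_cancel_left] at this
  refine Cfsg.Agent.Lib.FusionEssential.PClosed.isNormal_base hS hF fun P hess => ?_
  have hP : P ≤ S := hess.2.1.1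
  haveI := Cfsg.Agent.Lib.FS.finite_sub hP
  have hp : p.Prime := Fact.out
  let good : P → Prop := fun x => (x : Ω) ∈ F.focalSubgroup ∧ Cfsg.Agent.Lib.FusionEssential.SmallOrder.Small p (x : Ω)
  have hgood : ∀ γ ∈ F.autGroup P, ∀ x, good x → good (γ x) := fun γ hγ x hx =>
    ⟨(Cfsg.Agent.Lib.FS.autGroup_mem_iff_of_stronglyClosed hVc hP hγ x).1 hx.1,
      (Cfsg.Agent.Lib.FusionEssential.SmallOrder.small_coe_iff _).2
        ((Cfsg.Agent.Lib.FusionEssential.SmallOrder.small_mulAut_iff γ x).2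
          ((Cfsg.Agent.Lib.FusionEssential.SmallOrder.small_coe_iff x).1 hx.2))⟩
  let K : Subgroup (MulAut P) :=
    { carrier := {a | a ∈ F.autGroup P ∧ ∀ x, good x → a x = x ∨ (p = 2 ∧ a x = x⁻¹)}
      one_mem' := ⟨one_mem _, fun x _ => Or.inl rfl⟩
      mul_mem' := fun {a b} ha hb => ⟨mul_mem ha.1 hb.1, fun x hx => by
        rw [MulAut.mul_apply]
        rcases hb.2 x hx with e | ⟨e2, e⟩ <;> rw [e]
        · exact ha.2 x hx
        · rw [map_inv]
          rcases ha.2 x hx with e' | ⟨-, e'⟩ <;> rw [e']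
          · exact Or.inr ⟨e2, rfl⟩
          · exact Or.inl (inv_inv x)⟩
      inv_mem' := fun {a} ha => ⟨inv_mem ha.1, fun x hx => by
        rcases ha.2 x hx with e | ⟨e2, e⟩
        · left; conv_lhs => rw [← e]
          exact MulAut.inv_apply_self _ a x
        · right
          refine ⟨e2, a.injective ?_⟩
          rw [MulAut.apply_inv_self, map_inv, e, inv_inv]⟩ }
  have hKn : ∀ γ ∈ F.autGroup P, ∀ a ∈ K, γ * a * γ⁻¹ ∈ K := fun γ hγ a ha =>
    ⟨mul_mem (mul_mem hγ ha.1) (inv_mem hγ), fun x hx => by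
      rw [MulAut.mul_apply, MulAut.mul_apply]
      rcases ha.2 _ (hgood _ (inv_mem hγ) x hx) with e | ⟨e2, e⟩ <;> rw [e]
      · exact Or.inl (MulAut.apply_inv_self _ γ x)
      · exact Or.inr ⟨e2, by rw [map_inv, MulAut.apply_inv_self]⟩⟩
  refine Cfsg.Agent.Lib.FusionEssential.PClosed.not_normal_pGroup hS hF hess K (fun a ha => ha.1) hKn ?_ ?_
  · refine Cfsg.Agent.Lib.FusionEssential.PClosed.isPGroup_of_small hS hP K (fun a ha => ha.1) hKn hVc
      (fun a ha _ x => ?_) ?_
    · obtain ⟨φ, hφ, -, he⟩ := Cfsg.Agent.Lib.FS.exists_hom_of_aut hP ha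
      rw [← he]
      exact Cfsg.Agent.Lib.FusionP3.Tate.focal_gen_mem hφ x
    · intro Q hQV _ hQs a ha hco x hx
      have hgx : good x := ⟨Subgroup.mem_subgroupOf.1 (hQV hx),
        (Cfsg.Agent.Lib.FusionEssential.SmallOrder.small_coe_iff x).2 (hQs x hx)⟩
      rcases ha.2 x hgx with e | ⟨rfl, e⟩
      · exact e
      · obtain ⟨k, hk⟩ : ∃ k, orderOf a = 2 * k + 1 :=
          (Nat.Coprime.odd_of_right hco).imp fun k hk => hk
        have h2 : ∀ j : ℕ, (a ^ (2 * j)) x = x := by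
          intro j
          induction j with
          | zero => simp
          | succ j ih =>
            rw [show 2 * (j + 1) = 2 * j + 1 + 1 by ring, pow_succ, pow_succ, MulAut.mul_apply,
              MulAut.mul_apply, e, map_inv, e, inv_inv, ih]
        have h1 : (a ^ (2 * k + 1)) x = x⁻¹ := by
          rw [pow_succ, MulAut.mul_apply, e, map_inv, h2]
        rw [← hk, pow_orderOf_eq_one, MulAut.one_apply] at h1
        rw [e, ← h1]
  · intro a ha
    refine ⟨Cfsg.Agent.Lib.FS.autInducedBy_le_autGroup F hP ha, fun x hx => ?_⟩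
    obtain ⟨s, hs, he⟩ := Cfsg.Agent.Lib.FS.mem_autInducedBy.1 ha
    obtain ⟨i, hi⟩ := Subgroup.mem_zpowers_iff.1 (hnorm x hx.1 hx.2 s hs)
    obtain ⟨k, hk⟩ := hS ⟨s, hs⟩
    have hk' : s ^ p ^ k = 1 := congrArg Subtype.val hk
    have hit : ∀ n : ℕ, s ^ n * (x : Ω) * (s ^ n)⁻¹ = (x : Ω) ^ (i ^ n) := by
      intro n
      induction n with
      | zero => simp
      | succ n ih =>
        calc s ^ (n + 1) * (x : Ω) * (s ^ (n + 1))⁻¹ = s * (s ^ n * (x : Ω) * (s ^ n)⁻¹) * s⁻¹ := by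
              rw [pow_succ']; group
          _ = (s * (x : Ω) * s⁻¹) ^ (i ^ n) := by rw [ih, conj_zpow]
          _ = _ := by rw [← hi, ← zpow_mul, ← pow_succ']
    have h1 := hit (p ^ k)
    rw [hk', one_mul, inv_one, mul_one] at h1
    rcases hx.2 with hxp | ⟨rfl, hx4⟩
    · left
      apply Subtype.ext
      rw [he, ← hi]
      have hd : (p : ℤ) ∣ i - i ^ (p ^ k) := by
        rw [← ZMod.intCast_zmod_eq_zero_iff_dvd]
        push_cast
        rw [ZMod.pow_card_pow, sub_self]
      obtain ⟨t, ht⟩ := hd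
      calc (x : Ω) ^ i = (x : Ω) ^ ((p : ℤ) * t) * (x : Ω) ^ (i ^ (p ^ k)) := by
            rw [← zpow_add, ← ht, sub_add_cancel]
        _ = x := by rw [← h1, zpow_mul, zpow_natCast, hxp, one_zpow, one_mul]
    · have hz : (x : Ω) ^ (4 : ℤ) = 1 := by exact_mod_cast hx4
      rcases Int.even_or_odd i with ⟨t, ht⟩ | ⟨t, ht⟩
      · left
        apply Subtype.ext
        rw [he, ← hi]
        have hsq : (x : Ω) ^ (2 : ℤ) = 1 := by
          have e1 : (x : Ω) ^ (2 : ℤ) = s⁻¹ * ((x : Ω) ^ i) ^ (2 : ℤ) * s := by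
            rw [hi, conj_zpow]; group
          rw [e1, ← zpow_mul, show i * 2 = 4 * t by rw [ht]; ring, zpow_mul, hz, one_zpow]
          group
        have e2 : (x : Ω) ^ i = 1 := by rw [ht, ← two_mul, zpow_mul, hsq, one_zpow]
        have e3 : (x : Ω) = 1 := by
          rw [e2] at hi
          have : s⁻¹ * 1 * s = (x : Ω) := by rw [hi]; group
          simpa using this.symm
        rw [e2, e3]
      · rcases Int.even_or_odd t with ⟨r, hr⟩ | ⟨r, hr⟩
        · left
          apply Subtype.ext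
          rw [he, ← hi, show i = 4 * r + 1 by rw [ht, hr]; ring, zpow_add, zpow_mul, hz, one_zpow, one_mul, zpow_one]
        · right
          refine ⟨rfl, Subtype.ext ?_⟩
          rw [he, ← hi, show i = 4 * (r + 1) + -1 by rw [ht, hr]; ring, zpow_add, zpow_mul, hz, one_zpow, one_mul,
            zpow_neg_one]
          rfl

end Cfsg.Agent.S5300
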