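import Cfsg.Statements.S5301
import Cfsg.Agent.Lib.FusionEssential.PClosed

set_option autoImplicit false
universe u
open Cfsg

namespace Cfsg.Agent.S5301

/-- Let F be a saturated fusion system over a finite p-group S. If for every subgroup P of S that is fully normalized, centric and radical in F the automorphism group that F induces on P has a normal Sylow p-subgroup, then S is normal in F. -/
theorem result {Ω : Type u} [Group Ω] {S : Subgroup Ω} [Finite S] (p : ℕ) [Fact p.Prime] (hS : IsPGroup p S)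
    (F : Cfsg.FusionSystem S) (hF : F.IsSaturated p)
    (hcl : ∀ P : Subgroup Ω, F.IsFullyNormalized P → F.IsCentric P → F.IsRadical p P →
      ∃ R : Sylow p ↥(F.autGroup P), (R : Subgroup ↥(F.autGroup P)).Normal) :
    F.IsNormal S := by
  refine Cfsg.Agent.Lib.FusionEssential.PClosed.isNormal_base hS hF fun P hess => ?_
  have hP : P ≤ S := hess.2.1.1
  haveI := Cfsg.Agent.Lib.FS.finite_sub hP
  obtain ⟨R, hR⟩ := hcl P hess.2.1 hess.1 (Cfsg.Agent.Lib.FS.radical_of_essential hS hF hess)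
  obtain ⟨T, hT⟩ := (Cfsg.Agent.Lib.FS.fullyAutomized_of_fullyNormalized hS hF hess.2.1).2
  haveI := hR
  haveI : Unique (Sylow p ↥(F.autGroup P)) := Sylow.unique_of_normal R hR
  have hTR : T = R := Subsingleton.elim T R
  refine Cfsg.Agent.Lib.FusionEssential.PClosed.not_normal_pGroup hS hF hess
    ((R : Subgroup ↥(F.autGroup P)).map (F.autGroup P).subtype) (Subgroup.map_subtype_le _) ?_
    (R.isPGroup'.map _) ?_
  · rintro γ hγ _ ⟨a, ha, rfl⟩
    exact ⟨⟨γ, hγ⟩ * a * ⟨γ, hγ⟩⁻¹, hR.conj_mem a ha _, rfl⟩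
  · intro a ha
    exact ⟨⟨a, Cfsg.Agent.Lib.FS.autInducedBy_le_autGroup F hP ha⟩, hTR ▸ hT.ge (Subgroup.mem_subgroupOf.2 ha), rfl⟩

end Cfsg.Agent.S5301
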