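import Cfsg.Statements.S5306
import Cfsg.Agent.Lib.PGroups.Thompson

set_option autoImplicit false
open Cfsg

namespace Cfsg.Agent.S5306

open Cfsg.Agent.Lib.PGroups in
theorem thompson_eq_of_le {X : Type*} [Group X] [Finite X] (p : ℕ) [Fact p.Prime] (P₁ P₂ : Sylow p X)
    (h : Cfsg.thompsonSubgroupOf p (P₁ : Subgroup X) ≤ P₂) :
    Cfsg.thompsonSubgroupOf p (P₂ : Subgroup X) = Cfsg.thompsonSubgroupOf p (P₁ : Subgroup X) := by
  obtain ⟨c, hc⟩ := MulAction.exists_smul_eq X P₁ P₂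
  have hmap : (P₁ : Subgroup X).map (MulAut.conj c).toMonoidHom = (P₂ : Subgroup X) := by
    rw [← hc]; rfl
  obtain ⟨A, hA⟩ := maxElemAbIn_nonempty p (P₁ : Subgroup X)
  have hAQ : A ≤ (P₁ : Subgroup X) ⊓ P₂ := le_inf hA.1 ((le_thompsonSubgroupOf hA).trans h)
  have hA2 : A ∈ maxElemAbIn p (P₂ : Subgroup X) := by
    refine ⟨hAQ.trans inf_le_right, hA.2.1, fun B hB hB' => ?_⟩
    rw [← hmap] at hB
    have hc' : (P₁ : Subgroup X).map (MulAut.conj c).toMonoidHom ≤ (MulAut.conj c).toMonoidHom.range :=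
      Subgroup.map_le_range _ _
    have hB'' := Subgroup.map_comap_eq_self (hB.trans hc')
    rw [← hB'', Subgroup.card_map_of_injective (MulAut.conj c).injective]
    refine hA.2.2 _ ?_ (elemAb_comap _ (MulAut.conj c).injective hB')
    intro z hz
    obtain ⟨w, hw, hwz⟩ := hB hz
    exact (MulAut.conj c).injective hwz ▸ hw
  have e : Cfsg.thompsonSubgroupOf p ((P₁ : Subgroup X) ⊓ P₂) = Cfsg.thompsonSubgroupOf p (P₁ : Subgroup X) :=
    thompsonSubgroupOf_eq_of_le inf_le_left (le_inf (thompsonSubgroupOf_le p _) h)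
  have hle : Cfsg.thompsonSubgroupOf p (P₁ : Subgroup X) ≤ Cfsg.thompsonSubgroupOf p (P₂ : Subgroup X) :=
    e ▸ thompsonSubgroupOf_mono inf_le_right hA2 hAQ
  refine (Subgroup.eq_of_le_of_card_ge hle ?_).symm
  rw [← hmap, ← thompsonSubgroupOf_conj, Subgroup.card_map_of_injective (MulAut.conj c).injective]

/-- Let P be a Sylow p-subgroup of the finite group X and J = J(P) its Thompson subgroup (generated by the elementary abelian subgroups of P of largest order). If x and y lie in the centre of J and y = g x g⁻¹ for some g in X, then y = n x n⁻¹ for some n in the normalizer N_X(J). -/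
theorem result {X : Type*} [Group X] [Finite X] (p : ℕ) [Fact p.Prime] (P : Sylow p X) (J : Subgroup X) (hJ : J = Cfsg.thompsonSubgroupOf p (P : Subgroup X))
    (x y : X) (hx : x ∈ J ∧ ∀ j ∈ J, Commute j x) (hy : y ∈ J ∧ ∀ j ∈ J, Commute j y) (g : X) (hg : g * x * g⁻¹ = y) :
    ∃ n ∈ Subgroup.normalizer (J : Set X), n * x * n⁻¹ = y := by
  subst hJ
  obtain ⟨hxJ, hxc⟩ := hx
  obtain ⟨hyJ, hyc⟩ := hy
  let C : Subgroup X := Subgroup.centralizer {y}
  have hC : ∀ z, z ∈ C ↔ y * z = z * y := fun z => by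
    rw [Subgroup.mem_centralizer_iff]; simp
  have hJC : Cfsg.thompsonSubgroupOf p (P : Subgroup X) ≤ C := fun j hj => (hC j).mpr (hyc j hj).eq.symm
  have hJp : IsPGroup p (Cfsg.thompsonSubgroupOf p (P : Subgroup X)) :=
    P.isPGroup'.to_le (Cfsg.Agent.Lib.PGroups.thompsonSubgroupOf_le p _)
  obtain ⟨Q, hQ⟩ := (hJp.comap_subtype (K := C)).exists_le_sylow
  obtain ⟨P₂, hP₂⟩ := (Q.isPGroup'.map C.subtype).exists_le_sylow
  have hJ2 : Cfsg.thompsonSubgroupOf p (P : Subgroup X) ≤ P₂ := fun j hj =>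
    hP₂ ⟨⟨j, hJC hj⟩, hQ hj, rfl⟩
  have hTC : (Cfsg.thompsonSubgroupOf p (P : Subgroup X)).map (MulAut.conj g).toMonoidHom ≤ C := by
    rintro _ ⟨j, hj, rfl⟩
    rw [hC, ← hg]
    show g * x * g⁻¹ * (g * j * g⁻¹) = g * j * g⁻¹ * (g * x * g⁻¹)
    calc g * x * g⁻¹ * (g * j * g⁻¹) = g * (x * j) * g⁻¹ := by group
      _ = g * (j * x) * g⁻¹ := by rw [(hxc j hj).eq]
      _ = _ := by group
  obtain ⟨R, hR⟩ := ((hJp.map (MulAut.conj g).toMonoidHom).comap_subtype (K := C)).exists_le_sylow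
  obtain ⟨h, hh⟩ := MulAction.exists_smul_eq C R Q
  refine ⟨(h : X) * g, ?_, ?_⟩
  · apply Cfsg.Agent.Lib.PGroups.mem_normalizer_of_map_conj_eq
    have hle : (Cfsg.thompsonSubgroupOf p (P : Subgroup X)).map (MulAut.conj ((h : X) * g)).toMonoidHom ≤ P₂ := by
      rintro _ ⟨j, hj, rfl⟩
      apply hP₂
      refine ⟨h * ⟨g * j * g⁻¹, hTC ⟨j, hj, rfl⟩⟩ * h⁻¹, ?_, ?_⟩
      · rw [← hh]
        exact ⟨⟨g * j * g⁻¹, hTC ⟨j, hj, rfl⟩⟩, hR ⟨j, hj, rfl⟩, rfl⟩
      · show (h : X) * (g * j * g⁻¹) * (h : X)⁻¹ = h * g * j * ((h : X) * g)⁻¹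
        group
    rw [Cfsg.Agent.Lib.PGroups.thompsonSubgroupOf_conj] at hle ⊢
    have e2 := thompson_eq_of_le p P P₂ hJ2
    have e1 := thompson_eq_of_le p (((h : X) * g) • P) P₂ hle
    exact (e2.symm.trans e1).symm
  · rw [show (h : X) * g * x * ((h : X) * g)⁻¹ = h * (g * x * g⁻¹) * (h : X)⁻¹ by group, hg,
      ← (hC h).mp h.2, mul_inv_cancel_right]

end Cfsg.Agent.S5306
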