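import Cfsg.Statements.S5316
import Cfsg.Agent.S5185
import Cfsg.Agent.S5186
import Cfsg.Agent.Lib.Soft3.Final

set_option autoImplicit false
open Cfsg

namespace Cfsg.Agent.S5316

/-- Let p ≥ 5 be a prime, S a finite p-group of maximal class of order p^n with n ≥ 5 (nilpotency class n − 1), F a saturated fusion system over S, and E an F-essential subgroup that is not a pearl (not elementary abelian of order p² and not extraspecial of order p³ and exponent p). Then E has order at least p⁴. -/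
theorem result {Ω : Type*} [Group Ω] {S : Subgroup Ω} [Finite S] (p : ℕ) [Fact p.Prime] (hp : 5 ≤ p) (hS : IsPGroup p ↥S) (n : ℕ) (hn : Nat.card S = p ^ n) (h5 : 5 ≤ n)
    (hmax : Subgroup.lowerCentralSeries S (n - 2) ≠ ⊥) (F : Cfsg.FusionSystem S) (hF : F.IsSaturated p)
    (E : Subgroup Ω) (hE : F.IsEssential p E)
    (hnp : ¬ ((Nat.card ↥E = p ^ 2 ∧ Cfsg.IsElementaryAbelian p E) ∨ (Nat.card ↥E = p ^ 3 ∧ Cfsg.IsExtraspecial p ↥E ∧ Monoid.exponent ↥E = p))) :
    p ^ 4 ≤ Nat.card ↥E := by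
  have hES : E ≤ S := hE.2.1.1
  haveI := Cfsg.Agent.Lib.FS.finite_sub hES
  have hmaxX : (⊤ : Subgroup S).lowerCentralSeries (n - 2) ≠ ⊥ := fun h => hmax (by
    rw [← Subgroup.top_subtype_lowerCentralSeries, h, Subgroup.map_bot])
  have hMC : Cfsg.Agent.Lib.MaxClass.MC p n ↥S := ⟨hn, by omega, hmaxX⟩
  have hpp : p.Prime := Fact.out
  obtain ⟨k, hk⟩ := IsPGroup.iff_card.1 (Cfsg.Agent.Lib.FS.isPGroup_of_le hS hES)
  rw [hk]
  refine Nat.pow_le_pow_right hpp.pos ?_
  by_contra hk4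
  rcases (by omega : k ≤ 1 ∨ k = 2 ∨ k = 3) with hk1 | rfl | rfl
  · -- a self-centralising subgroup of order at most `p`
    set E₀ := E.subgroupOf S with hE₀
    have hc : Nat.card E₀ = p ^ k := (Nat.card_congr (Subgroup.subgroupOfEquivOfLe hES).toEquiv).trans hk
    have hne : E₀ ≠ ⊤ := fun h => by
      rw [h, Subgroup.card_top, hn] at hc
      have := Nat.pow_right_injective hpp.two_le hc
      omega
    obtain ⟨g, -, hgE, hgN⟩ := Cfsg.Agent.Lib.Fgs55.exists_normalizing hS (le_top : E₀ ≤ ⊤) hne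
    have hZ : Subgroup.center ↥S ≤ E₀ := fun z hz => Subgroup.mem_subgroupOf.2 (hE.1.2 E
      (Cfsg.Agent.Lib.FS.isConj_refl F hES) ⟨z.2, Subgroup.mem_centralizer_iff.2 fun e he =>
        congrArg Subtype.val (Subgroup.mem_center_iff.1 hz ⟨e, hES he⟩)⟩)
    haveI : Nontrivial ↥S := ⟨g, 1, fun h => hgE (h ▸ one_mem _)⟩
    haveI := hS.center_nontrivial
    have hZ1 : 1 < Nat.card (Subgroup.center ↥S) := Finite.one_lt_card
    have hkp : Nat.card E₀ ≤ p := by
      rw [hc]
      exact (Nat.pow_le_pow_right hpp.pos hk1).trans (pow_one p).le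
    have hle : Nat.card E₀ ≤ Nat.card (Subgroup.center ↥S) := by
      obtain ⟨i, hi⟩ := IsPGroup.iff_card.1 (hS.to_subgroup (Subgroup.center ↥S))
      rw [hi] at hZ1 ⊢
      refine hkp.trans (Nat.le_self_pow ?_ p)
      rintro rfl
      simp at hZ1
    have heq : Subgroup.center ↥S = E₀ := Subgroup.eq_of_le_of_card_ge hZ hle
    refine hgE (Subgroup.mem_subgroupOf.2 (hE.1.2 E (Cfsg.Agent.Lib.FS.isConj_refl F hES)
      ⟨g.2, Subgroup.mem_centralizer_iff.2 fun e he => ?_⟩))
    exact (congrArg Subtype.val (Subgroup.mem_center_iff.1 (heq.ge (show (⟨e, hES he⟩ : ↥S) ∈ E₀ from he)) g)).symm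
  · exact hnp (Or.inl ⟨hk, (Cfsg.Agent.S5185.result p hS F hF E hE hk).1⟩)
  · rcases Cfsg.Agent.S5186.result p hS F hF E hE hk with hel | ⟨-, hes, hx⟩ | ⟨hp2, -⟩
    · have hup := Cfsg.Agent.Lib.Soft3.subgroupOf_up_eq E hES
      refine Cfsg.Agent.Lib.Soft3.false_of_abelian hS hF hMC (by omega) h5 (E₀ := E.subgroupOf S)
        (by rw [hup]; exact hE) (fun a ha b hb => Subtype.ext ?_)
        ((Nat.card_congr (Subgroup.subgroupOfEquivOfLe hES).toEquiv).trans hk)
      haveI := hel.1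
      show (a : Ω) * b = b * a
      exact congrArg Subtype.val (hel.1.is_comm.comm (⟨(a : Ω), ha⟩ : E) ⟨(b : Ω), hb⟩)
    · refine hnp (Or.inr ⟨hk, hes, Nat.dvd_antisymm ?_ ?_⟩)
      · exact Monoid.exponent_dvd_of_forall_pow_eq_one fun x => Subtype.ext (by
          rw [Subgroup.coe_pow]; exact hx x x.2)
      · obtain ⟨z, hz, hz1⟩ : ∃ z : E, z ∈ (⊤ : Subgroup E) ∧ z ≠ 1 :=
          (⊤ : Subgroup E).bot_or_exists_ne_one.resolve_left fun h => by
            have h1 := Subgroup.card_top (G := E)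
            rw [h, Subgroup.card_bot, hk] at h1
            exact (Nat.one_lt_pow (by omega) hpp.one_lt).ne h1
        have := Monoid.order_dvd_exponent z
        rwa [orderOf_eq_prime (Subtype.ext (by rw [Subgroup.coe_pow]; exact hx z z.2)) hz1] at this
    · omega

end Cfsg.Agent.S5316
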