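import Cfsg.Statements.S5340
import Cfsg.Agent.S5339
-- import your own Cfsg.Agent.* helpers here

set_option autoImplicit false
open Cfsg

namespace Cfsg.Agent.S5340

/-- Let F be a saturated fusion system over a nontrivial finite p-group S such that S is generated by its elements of order p, any two subgroups of S of order p are F-conjugate, and Aut_F(S) consists of inner automorphisms only. Then F is simple. -/
theorem result {Ω : Type*} [Group Ω] {S : Subgroup Ω} [Finite S] (p : ℕ) [Fact p.Prime] (hS : IsPGroup p S) (F : Cfsg.FusionSystem S) (hF : F.IsSaturated p) (hS1 : S ≠ ⊥) (hgen : Subgroup.closure {x : Ω | x ∈ S ∧ orderOf x = p} = S) (htr : ∀ A B : Subgroup Ω, A ≤ S → B ≤ S → Nat.card A = p → Nat.card B = p → F.IsConj A B) (htop : F.autGroup S = Cfsg.Inn ↥S) : F.IsSimple p := by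
  refine Cfsg.Agent.S5339.result p hS F hF hS1 htop fun T hT => ?_
  rcases eq_or_ne T ⊥ with h | h
  · exact Or.inl h
  right
  refine le_antisymm hT.1 ?_
  have hTp : IsPGroup p T := hS.to_le hT.1
  haveI : Finite T := Finite.of_injective (Subgroup.inclusion hT.1) (Subgroup.inclusion_injective hT.1)
  have hTne : Nat.card T ≠ 1 := fun hc => h (Subgroup.eq_bot_of_card_eq T hc)
  have hdvd : p ∣ Nat.card T := by
    obtain ⟨k, hk⟩ := IsPGroup.iff_card.mp hTp
    rcases Nat.eq_zero_or_pos k with rfl | hk0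
    · exact absurd (by simpa using hk) hTne
    · rw [hk]; exact dvd_pow_self p hk0.ne'
  obtain ⟨t, ht⟩ := exists_prime_orderOf_dvd_card' p hdvd
  have hto : orderOf (t : Ω) = p := by rw [← ht]; exact Subgroup.orderOf_coe t
  calc S = Subgroup.closure {x : Ω | x ∈ S ∧ orderOf x = p} := hgen.symm
    _ ≤ T := by
      rw [Subgroup.closure_le]
      rintro x ⟨hxS, hxo⟩
      have hA : Subgroup.zpowers (t : Ω) ≤ T := Subgroup.zpowers_le.mpr t.2
      have hB : Subgroup.zpowers x ≤ S := Subgroup.zpowers_le.mpr hxS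
      obtain ⟨φ, hφ, hrange⟩ := htr _ _ (hA.trans hT.1) hB (by rw [Nat.card_zpowers, hto]) (by rw [Nat.card_zpowers, hxo])
      have hxr : x ∈ φ.range := hrange ▸ Subgroup.mem_zpowers x
      obtain ⟨a, rfl⟩ := hxr
      exact hT.2 _ hA φ hφ a

end Cfsg.Agent.S5340
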