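import Cfsg.Statements.S5317
import Cfsg.Agent.S5340
import Cfsg.Agent.Lib.PSLTwo.Sylow
import Cfsg.Agent.Lib.FusionSystem.Group

set_option autoImplicit false
open Cfsg

namespace Cfsg.Agent.S5317

/-- Let F be a finite field of odd order q with q² ≡ 1 mod 16 (so that a Sylow 2-subgroup of PSL(2,q), dihedral of order the 2-part of (q²−1)/2, has order at least 8). Then the 2-fusion system of PSL(2,F) on a Sylow 2-subgroup is simple: saturated, over a nontrivial 2-group, with no normal subsystem other than the trivial one and itself. -/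
theorem result {F : Type*} [Field F] [Fintype F] (hodd : Fintype.card F % 2 = 1) (h16 : 16 ∣ Fintype.card F ^ 2 - 1)
    (S : Sylow 2 (Matrix.ProjectiveSpecialLinearGroup (Fin 2) F)) :
    (Cfsg.groupFusionSystem (S : Subgroup (Matrix.ProjectiveSpecialLinearGroup (Fin 2) F))).IsSimple 2 := by
  have hsat : (Cfsg.groupFusionSystem (S : Subgroup (Matrix.ProjectiveSpecialLinearGroup (Fin 2) F))).IsSaturated 2 :=
    haveI : Fact (Nat.Prime 2) := ⟨Nat.prime_two⟩
    Cfsg.Agent.Lib.FS.isSaturated_group S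
  obtain ⟨hne, hgen, hcl, hnorm⟩ := Cfsg.Agent.Lib.PSLTwo.Sylow.psl2_sylow hodd h16 S
  haveI : Fact (Nat.Prime 2) := ⟨Nat.prime_two⟩
  refine Cfsg.Agent.S5340.result 2 S.isPGroup' _ hsat hne hgen ?_ ?_
  · intro A B hA hB hcA hcB
    haveI : Finite A := Nat.finite_of_card_ne_zero (by omega)
    haveI : Finite B := Nat.finite_of_card_ne_zero (by omega)
    obtain ⟨⟨x, hxA⟩, hx⟩ := exists_prime_orderOf_dvd_card' 2 (by rw [hcA])
    obtain ⟨⟨y, hyB⟩, hy⟩ := exists_prime_orderOf_dvd_card' 2 (by rw [hcB])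
    rw [Subgroup.orderOf_mk] at hx hy
    obtain ⟨g, hg⟩ := hcl x y hx hy
    have hAe : A = Subgroup.zpowers x := (Subgroup.eq_of_le_of_card_ge (Subgroup.zpowers_le.mpr hxA)
      (by rw [Nat.card_zpowers, hx, hcA])).symm
    have hBe : B = Subgroup.zpowers y := (Subgroup.eq_of_le_of_card_ge (Subgroup.zpowers_le.mpr hyB)
      (by rw [Nat.card_zpowers, hy, hcB])).symm
    subst hAe hBe
    have hr : (Cfsg.conjHom (Subgroup.zpowers x) g).range = Subgroup.zpowers y := by
      rw [Cfsg.conjHom, MonoidHom.range_comp, Subgroup.range_subtype, MonoidHom.map_zpowers]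
      rw [show (MulAut.conj g).toMonoidHom x = y from hg]
    refine ⟨Cfsg.conjHom (Subgroup.zpowers x) g, ⟨hA, fun z => ?_, g, fun z => rfl⟩, hr⟩
    exact hB (hr ▸ ⟨z, rfl⟩)
  · apply le_antisymm
    · unfold Cfsg.FusionSystem.autGroup
      rw [Subgroup.closure_le]
      intro α hα
      obtain ⟨-, -, g, hg⟩ := hα
      have hn : g ∈ Subgroup.normalizer ((S : Subgroup (Matrix.ProjectiveSpecialLinearGroup (Fin 2) F)) :
          Set (Matrix.ProjectiveSpecialLinearGroup (Fin 2) F)) :=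
        Cfsg.Agent.Lib.PSLTwo.Sylow.mem_normalizer_of_conj_mem fun x hx => by
          rw [show g * x * g⁻¹ = _ from (hg ⟨x, hx⟩).symm]
          exact (α ⟨x, hx⟩).2
      obtain ⟨s, hs, hsx⟩ := hnorm g hn
      refine ⟨⟨s, hs⟩, ?_⟩
      ext x
      exact (hsx x.1 x.2).symm.trans (hg x).symm
    · rintro _ ⟨s, rfl⟩
      exact Subgroup.subset_closure ⟨le_rfl, fun x => (MulAut.conj s x).2, s.1, fun x => rfl⟩

end Cfsg.Agent.S5317
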