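import Cfsg.Statements.S5318
import Cfsg.Agent.Lib.FusionPSL3.Embedding
import Cfsg.Agent.Lib.PSLTwo.Sylow
import Cfsg.Agent.Lib.Linear.Order

set_option autoImplicit false
open Cfsg

namespace Cfsg.Agent.S5318

open Cfsg.Agent.Lib.FusionPSL3 in
theorem index_odd {F : Type*} [Field F] [Fintype F] (hodd : Fintype.card F % 2 = 1) :
    ¬ 2 ∣ (iota (K := F)).range.index := by
  have hcr : Nat.card (iota (K := F)).range = Nat.card (GL (Fin 2) F) :=
    (Nat.card_congr (MonoidHom.ofInjective iota_injective).toEquiv).symm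
  have h1 := Subgroup.card_mul_index (iota (K := F)).range
  rw [hcr, Cfsg.Agent.Lib.Linear.card_GL_two] at h1
  have h2 := Cfsg.Agent.Lib.Linear.sub_one_mul_card_SL (F := F) 3 (by norm_num)
  rw [← h1, Fin.prod_univ_three] at h2
  have hq : 1 < Fintype.card F := Fintype.one_lt_card
  simp only [Fin.val_zero, Fin.val_one, Fin.val_two, pow_zero, pow_one] at h2
  obtain ⟨m, hm⟩ : ∃ m, Fintype.card F = m + 1 := ⟨_, (Nat.sub_add_cancel hq.le).symm⟩
  rw [hm] at h2 hodd hq
  rw [show (m + 1) ^ 3 - 1 = m * (m ^ 2 + 3 * m + 3) by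
        rw [show (m + 1) ^ 3 = m * (m ^ 2 + 3 * m + 3) + 1 by ring]; simp,
    show (m + 1) ^ 3 - (m + 1) = m * (m + 1) * (m + 2) by
        rw [show (m + 1) ^ 3 = m * (m + 1) * (m + 2) + (m + 1) by ring]; simp,
    show (m + 1) ^ 3 - (m + 1) ^ 2 = m * (m + 1) ^ 2 by
        rw [show (m + 1) ^ 3 = m * (m + 1) ^ 2 + (m + 1) ^ 2 by ring]; simp,
    Nat.add_sub_cancel] at h2
  have h3 : (iota (K := F)).range.index = (m ^ 2 + 3 * m + 3) * (m + 1) ^ 2 := by
    apply Nat.eq_of_mul_eq_mul_left (show 0 < m * ((m + 1) * m ^ 2 * (m + 2)) by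
      have : 0 < m := by omega
      positivity)
    refine Eq.trans ?_ (h2.trans ?_) <;> ring
  rw [h3]
  intro hd
  have : Even m := by rw [Nat.even_iff]; omega
  obtain ⟨k, rfl⟩ := this
  rcases (Nat.prime_two.dvd_mul).mp hd with h | h
  · rw [show (k + k) ^ 2 + 3 * (k + k) + 3 = 2 * (2 * k ^ 2 + 3 * k + 1) + 1 by ring] at h
    omega
  · have := Nat.prime_two.dvd_of_dvd_pow h
    omega

/-- For a finite field F of odd order, the 2-fusion system of PSL(3,F) on a Sylow 2-subgroup (semidihedral or wreathed according as |F| ≡ 3 or 1 mod 4) is simple. -/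
theorem result {F : Type*} [Field F] [Fintype F] (hodd : Fintype.card F % 2 = 1) (S : Sylow 2 (Matrix.ProjectiveSpecialLinearGroup (Fin 3) F)) :
    (Cfsg.groupFusionSystem (S : Subgroup (Matrix.ProjectiveSpecialLinearGroup (Fin 3) F))).IsSimple 2 := by
  classical
  open Cfsg.Agent.Lib.FusionPSL3 in
  exact (by
    have h2 : (2 : F) ≠ 0 := Cfsg.Agent.Lib.PSLTwo.Sylow.two_ne_zero_of_odd hodd
    haveI : Finite (Matrix.ProjectiveSpecialLinearGroup (Fin 3) F) :=
      Finite.of_surjective (QuotientGroup.mk' (Subgroup.center (Matrix.SpecialLinearGroup (Fin 3) F)))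
        (QuotientGroup.mk'_surjective _)
    refine isSimple_quotient h2 (⊤ : Subgroup (Matrix.SpecialLinearGroup (Fin 3) F))
      (((QuotientGroup.mk' (Subgroup.center (Matrix.SpecialLinearGroup (Fin 3) F))).comp
        (Subgroup.subtype ⊤)) : _ →* Matrix.ProjectiveSpecialLinearGroup (Fin 3) F) ?_ ?_ ⊤
      (fun g => by simp) trivial trivial trivial trivial trivial ?_
      (fun h _ => trivial) (fun a b _ => ⟨trivial, trivial⟩) ?_ ?_ ?_ ?_ S
    · intro x
      obtain ⟨y, rfl⟩ := QuotientGroup.mk'_surjective _ x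
      exact ⟨⟨y, trivial⟩, rfl⟩
    · intro m
      rw [MonoidHom.comp_apply]
      constructor
      · intro h m'
        exact Subtype.ext ((Subgroup.mem_center_iff.mp ((QuotientGroup.eq_one_iff _).mp h)) m').symm
      · intro h
        exact (QuotientGroup.eq_one_iff _).mpr (Subgroup.mem_center_iff.mpr fun g =>
          (congrArg Subtype.val (h ⟨g, trivial⟩)).symm)
    · rw [← MonoidHom.range_eq_map]
      show ¬ 2 ∣ ((iota (K := F)).range.subgroupOf ⊤).index
      rw [show ((iota (K := F)).range.subgroupOf ⊤).index = (iota (K := F)).range.relIndex ⊤ from rfl,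
        Subgroup.relIndex_top_right]
      exact index_odd hodd
    · refine ⟨Matrix.GeneralLinearGroup.mkOfDetNeZero !![1, 1; 1, -1] ?_, trivial, ?_⟩
      · rw [Matrix.det_fin_two_of]; intro h; exact h2 (by linear_combination -h)
      · rw [mul_inv_eq_iff_eq_mul]
        apply gl_ext <;>
          simp [Matrix.GeneralLinearGroup.mkOfDetNeZero, diagU_val, swapU_val, Matrix.mul_apply, Fin.sum_univ_two]
    · obtain ⟨a, ha⟩ := FiniteField.exists_nonsquare (F := F) (fun hc => h2 (by
        have h0 := ringChar.Nat.cast_ringChar (R := F)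
        rw [hc] at h0
        exact_mod_cast h0))
      have ha0 : a ≠ 0 := fun h => ha (h ▸ IsSquare.zero)
      obtain ⟨r, k, hr, hk⟩ := Cfsg.Agent.Lib.PSLTwo.Sylow.exists_odd_pow (Units.mk0 a ha0)
      refine ⟨Units.mk0 a ha0 ^ r, trivial, ⟨k, hk⟩, fun l _ hl => ha ?_⟩
      obtain ⟨j, rfl⟩ : ∃ j, r = 2 * j + 1 := ⟨r / 2, by omega⟩
      refine ⟨(l : F) / a ^ j, ?_⟩
      have := congrArg Units.val hl
      rw [Units.val_pow_eq_pow_val, Units.val_mul, Units.val_mk0] at this
      field_simp
      linear_combination this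
    · obtain ⟨x, y, hxy⟩ := Cfsg.Agent.Lib.PSLTwo.Sylow.exists_conic hodd (D := (-1 : F)) (c := -1)
        (neg_ne_zero.mpr one_ne_zero)
      refine ⟨Matrix.GeneralLinearGroup.mkOfDetNeZero !![x, y; y, -x] ?_, trivial, ?_, ?_, ?_⟩
      · rw [Matrix.det_fin_two_of]
        intro h
        exact one_ne_zero (α := F) (by linear_combination hxy + h)
      · ext
        simp [Matrix.GeneralLinearGroup.mkOfDetNeZero, Matrix.det_fin_two_of]
        linear_combination -hxy
      · apply gl_ext <;>
          simp [Matrix.GeneralLinearGroup.mkOfDetNeZero, diagU_val, Matrix.mul_apply, Fin.sum_univ_two]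
        all_goals first
          | linear_combination hxy
          | ring
      · rw [mul_inv_eq_iff_eq_mul]
        apply gl_ext <;>
          simp [Matrix.GeneralLinearGroup.mkOfDetNeZero, quarterU_val, diagU_val, Matrix.mul_apply, Fin.sum_univ_two]
    · left
      intro u _ hud huu
      open Cfsg.Agent.Lib.PSLTwo.Sylow in
      exact (by
        have hu1 : u.1.det = 1 := congrArg Units.val hud
        have e : ∀ i j, (u * u).1 i j = (negU : GL (Fin 2) F).1 i j := fun i j => by rw [huu]
        have e00 := e 0 0; have e01 := e 0 1; have e10 := e 1 0; have e11 := e 1 1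
        simp [diagU_val, Matrix.mul_apply, Fin.sum_univ_two] at e00 e01 e10 e11
        rw [Matrix.det_fin_two] at hu1
        have htr : u.1 0 0 + u.1 1 1 = 0 := by
          have h4 : (u.1 0 0 + u.1 1 1) * (u.1 0 0 + u.1 1 1) = 0 := by
            linear_combination e00 + e11 + 2 * hu1
          exact mul_self_eq_zero.mp h4
        let a : Matrix.SpecialLinearGroup (Fin 2) F := mk2 0 1 (-1) 0 (by ring)
        let b : Matrix.SpecialLinearGroup (Fin 2) F := mk2 (u.1 0 0) (u.1 0 1) (u.1 1 0) (u.1 1 1) hu1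
        have h4 : slTr a ^ 2 ≠ 4 := by
          simp [slTr, a]
          rw [show (4 : F) = 2 * 2 by norm_num]
          exact (mul_ne_zero h2 h2).symm
        obtain ⟨h, hh⟩ := exists_conj hodd h2 (a := a) (b := b) h4 (by simp [slTr, a, b, htr])
        have ea : Matrix.SpecialLinearGroup.toGL a = quarterU := by
          apply gl_ext <;> simp [quarterU_val, a] <;> rfl
        have eb : Matrix.SpecialLinearGroup.toGL b = u := by
          apply gl_ext <;> simp [b] <;> rfl
        refine ⟨Matrix.SpecialLinearGroup.toGL h, trivial, ?_⟩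
        rw [← ea, ← eb, ← map_inv, ← map_mul, ← map_mul, hh]))

end Cfsg.Agent.S5318
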