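import Cfsg.Statements.S5319
import Cfsg.Agent.Lib.FusionPSL3.Embedding
import Cfsg.Agent.Lib.Unitary.Order

set_option autoImplicit false
open Cfsg

namespace Cfsg.Agent.S5319

open Cfsg.Agent.Lib.FusionPSL3 Cfsg.Agent.Lib.Unitary Matrix

variable {F : Type*} [Field F] [Fintype F] {q : ℕ}

theorem two_ne_zero' (hq : Fintype.card F = q ^ 2) (hodd : q % 2 = 1) : (2 : F) ≠ 0 := by
  obtain ⟨p, k, hp, hc, hk, rfl⟩ := q_eq_primePow hq
  intro h
  have h' : ((2 : ℕ) : F) = 0 := by exact_mod_cast h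
  have := (CharP.cast_eq_zero_iff F p 2).mp h'
  rcases (Nat.dvd_prime Nat.prime_two).mp this with e | e
  · exact hp.ne_one e
  · subst e
    rw [Nat.pow_mod] at hodd
    simp [zero_pow (by omega : k ≠ 0)] at hodd

theorem two_pow_q (hq : Fintype.card F = q ^ 2) : (2 : F) ^ q = 2 := by
  rw [show (2 : F) = 1 + 1 by norm_num, add_pow_q hq, one_pow]

theorem neg_one_norm (hodd : q % 2 = 1) : ((-1 : Fˣ) : F) * ((-1 : Fˣ) : F) ^ q = 1 := by
  have : Odd q := Nat.odd_iff.mpr hodd
  simp [this.neg_one_pow]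

theorem iota_mem_SU (hq : Fintype.card F = q ^ 2) (g : GL (Fin 2) F) :
    iota g ∈ Cfsg.SU 3 F q ↔ g ∈ Cfsg.GU 2 F q := by
  rw [mem_SU_iff, mem_GU_iff]
  constructor
  · intro h u v
    have := h ![u 0, u 1, 0] ![v 0, v 1, 0]
    simpa [hermForm, Fin.sum_univ_two, Fin.sum_univ_three, iota_val, Matrix.mulVec, dotProduct,
      zero_pow_q hq] using this
  · intro h u v
    have hd := det_norm_one hq (⟨g, h⟩ : Cfsg.GU 2 F q)
    have h' := h ![u 0, u 1] ![v 0, v 1]
    simp [hermForm, Fin.sum_univ_two, Matrix.mulVec, dotProduct] at h'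
    simp [hermForm, Fin.sum_univ_three, iota_val, Matrix.mulVec, dotProduct, mul_pow]
    have hne : g.1.det ≠ 0 := fun h0 => by simp [h0] at hd
    have hd' : g.1.det⁻¹ * g.1.det⁻¹ ^ q = 1 := by
      rw [inv_pow, ← mul_inv, hd, inv_one]
    linear_combination h' + (u 2 * v 2 ^ q) * hd'

theorem permOuter_mem (hq : Fintype.card F = q ^ 2) : (permOuter : Matrix.SpecialLinearGroup (Fin 3) F) ∈ Cfsg.SU 3 F q := by
  rw [mem_SU_iff]
  intro u v
  simp [hermForm, Fin.sum_univ_three, permOuter, mk3, Matrix.mulVec, dotProduct, neg_pow_q hq]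
  ring

theorem permLast_mem (hq : Fintype.card F = q ^ 2) : (permLast : Matrix.SpecialLinearGroup (Fin 3) F) ∈ Cfsg.SU 3 F q := by
  rw [mem_SU_iff]
  intro u v
  simp [hermForm, Fin.sum_univ_three, permLast, mk3, Matrix.mulVec, dotProduct, neg_pow_q hq]
  ring

theorem diag_mem (hq : Fintype.card F = q ^ 2) (a b : Fˣ) :
    diagU a b ∈ Cfsg.GU 2 F q ↔ (a : F) * (a : F) ^ q = 1 ∧ (b : F) * (b : F) ^ q = 1 := by
  rw [mem_GU_iff]
  constructor
  · intro h
    constructor
    · have := h ![1, 0] ![1, 0]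
      simpa [hermForm, Fin.sum_univ_two, diagU_val, Matrix.mulVec, dotProduct, zero_pow_q hq] using this
    · have := h ![0, 1] ![0, 1]
      simpa [hermForm, Fin.sum_univ_two, diagU_val, Matrix.mulVec, dotProduct, zero_pow_q hq] using this
  · rintro ⟨ha, hb⟩ u v
    simp [hermForm, Fin.sum_univ_two, diagU_val, Matrix.mulVec, dotProduct, mul_pow]
    linear_combination (u 0 * v 0 ^ q) * ha + (u 1 * v 1 ^ q) * hb

theorem swap_mem : (swapU : GL (Fin 2) F) ∈ Cfsg.GU 2 F q := by
  rw [mem_GU_iff]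
  intro u v
  simp [hermForm, Fin.sum_univ_two, swapU_val, Matrix.mulVec, dotProduct, add_comm]

/-- A matrix of `GU 2` from orthonormal columns. -/
theorem exists_GU2 (hq : Fintype.card F = q ^ 2) (a b c d : F)
    (h00 : a * a ^ q + c * c ^ q = 1) (h11 : b * b ^ q + d * d ^ q = 1) (h01 : a * b ^ q + c * d ^ q = 0) :
    ∃ h : GL (Fin 2) F, h ∈ Cfsg.GU 2 F q ∧ h.1 = !![a, b; c, d] := by
  have h10 : b * a ^ q + d * c ^ q = 0 := by
    have := congrArg (conj hq) h01
    simp only [map_add, map_mul, map_zero] at this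
    change a ^ q * (b ^ q) ^ q + c ^ q * (d ^ q) ^ q = 0 at this
    rw [pow_q_q hq, pow_q_q hq] at this
    linear_combination this
  have hp : ∀ u v, hermForm 2 F q (!![a, b; c, d] *ᵥ u) (!![a, b; c, d] *ᵥ v) = hermForm 2 F q u v := by
    intro u v
    simp [hermForm, Fin.sum_univ_two, Matrix.mulVec, dotProduct, add_pow_q hq, mul_pow]
    linear_combination (u 0 * v 0 ^ q) * h00 + (u 1 * v 1 ^ q) * h11 + (u 0 * v 1 ^ q) * h01 + (u 1 * v 0 ^ q) * h10
  exact ⟨(mkGU hq _ hp).1, (mkGU hq _ hp).2, mkGU_val hq _ hp⟩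

theorem refl_swap_conj (hq : Fintype.card F = q ^ 2) (hodd : q % 2 = 1) :
    ∃ h ∈ Cfsg.GU 2 F q, h * reflU * h⁻¹ = (swapU : GL (Fin 2) F) := by
  have h2 := two_ne_zero' hq hodd
  obtain ⟨x, hx⟩ := norm_surj hq (y := (2 : F)⁻¹) (by rw [inv_pow, two_pow_q hq])
  have e : 2 * (x * x ^ q) = 1 := by rw [hx, mul_inv_cancel₀ h2]
  obtain ⟨h, hh, hv⟩ := exists_GU2 hq x x x (-x)
    (by linear_combination e) (by rw [neg_pow_q hq]; linear_combination e) (by rw [neg_pow_q hq]; ring)
  refine ⟨h, hh, ?_⟩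
  rw [mul_inv_eq_iff_eq_mul]
  apply gl_ext <;> simp [hv, diagU_val, swapU_val, Matrix.mul_apply, Fin.sum_univ_two]

theorem exists_nonsquare_norm (hq : Fintype.card F = q ^ 2) (hodd : q % 2 = 1) :
    ∃ a : Fˣ, diagU a 1 ∈ Cfsg.GU 2 F q ∧ TwoElem a ∧
      ∀ l : Fˣ, diagU l l ∈ Cfsg.GU 2 F q → a ≠ l * l := by
  classical
  have h2 := two_ne_zero' hq hodd
  let f : (normHom F q).ker → (normHom F q).ker := fun l => l * l
  have hmem : ∀ u : Fˣ, u ∈ (normHom F q).ker ↔ (u : F) * (u : F) ^ q = 1 := by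
    intro u
    rw [MonoidHom.mem_ker]
    simp only [Cfsg.Agent.Lib.Unitary.normHom, powMonoidHom_apply]
    rw [← pow_succ', ← Units.val_pow_eq_pow_val, Units.val_eq_one]
  have hns : ¬ Function.Surjective f := by
    intro hs
    have hi := Finite.injective_iff_surjective.mpr hs
    have h1 : (-1 : Fˣ) ∈ (normHom F q).ker := (hmem _).mpr (neg_one_norm hodd)
    have := hi (show f ⟨-1, h1⟩ = f 1 from Subtype.ext (by simp [f]))
    have := congrArg (fun z : (normHom F q).ker => ((z : Fˣ) : F)) this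
    simp at this
    exact h2 (by linear_combination -this)
  simp only [Function.Surjective, not_forall, not_exists] at hns
  obtain ⟨a, ha⟩ := hns
  obtain ⟨k, r, hr, hord⟩ := Nat.exists_eq_two_pow_mul_odd (orderOf_pos (a : Fˣ)).ne'
  refine ⟨(a : Fˣ) ^ r, ?_, ⟨k, by rw [← pow_mul, mul_comm, ← hord, pow_orderOf_eq_one]⟩, fun l hl e => ?_⟩
  · rw [diag_mem hq]
    exact ⟨(hmem _).mp (pow_mem a.2 r), by simp⟩
  · have hlk : l ∈ (normHom F q).ker := (hmem l).mpr ((diag_mem hq l l).mp hl).1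
    obtain ⟨j, rfl⟩ := hr
    refine ha ⟨l * ((a : Fˣ) ^ j)⁻¹, mul_mem hlk (inv_mem (pow_mem a.2 j))⟩ (Subtype.ext ?_)
    show l * ((a : Fˣ) ^ j)⁻¹ * (l * ((a : Fˣ) ^ j)⁻¹) = a
    rw [mul_mul_mul_comm, ← e, ← mul_inv, ← pow_add, ← two_mul, mul_inv_eq_iff_eq_mul, ← pow_succ']

theorem exists_anticommuting (hq : Fintype.card F = q ^ 2) (hodd : q % 2 = 1) :
    ∃ u ∈ Cfsg.GU 2 F q, Matrix.GeneralLinearGroup.det u = 1 ∧ u * u = negU ∧
      u * quarterU * u⁻¹ = negU * quarterU := by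
  classical
  have h2 := two_ne_zero' hq hodd
  obtain ⟨ε, hε, hεq⟩ := exists_trace_zero_ne_zero hq
  have hεq' : ε ^ q = -ε := by linear_combination hεq
  let K₀ : Subfield F := RingHom.eqLocusField (conj hq) (RingHom.id F)
  have hK₀ : ∀ x : F, x ∈ K₀ ↔ x ^ q = x := fun x => Iff.rfl
  have hcard : Fintype.card K₀ = q := by
    rw [← Nat.card_eq_fintype_card]
    exact (Nat.card_congr (Equiv.subtypeEquivRight hK₀)).trans (card_fixed hq)
  have hc : ε * ε ∈ K₀ := by rw [hK₀, mul_pow, hεq']; ring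
  have hD : (⟨ε * ε, hc⟩ : K₀) ≠ 0 := fun h => hε (mul_self_eq_zero.mp (congrArg Subtype.val h))
  have hodd' : Fintype.card K₀ % 2 = 1 := by rw [hcard]; exact hodd
  obtain ⟨x, y, hxy⟩ := FiniteField.exists_root_sum_quadratic
    (f := Polynomial.X ^ 2 - Polynomial.C (-(⟨ε * ε, hc⟩ : K₀)⁻¹)) (g := Polynomial.C (1 : K₀) * Polynomial.X ^ 2)
    (Polynomial.degree_X_pow_sub_C (by decide) _) (Polynomial.degree_C_mul_X_pow 2 one_ne_zero) hodd'
  simp at hxy
  have hxy' : (x : F) * x + (ε * ε)⁻¹ + (y : F) * y = 0 := by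
    have := congrArg Subtype.val hxy
    push_cast at this
    linear_combination this
  have hsum : (ε * ε) * ((x : F) * x + (y : F) * y) = -1 := by
    have := mul_inv_cancel₀ (mul_ne_zero hε hε)
    linear_combination (ε * ε) * hxy' - this
  have hx : (x : F) ^ q = x := (hK₀ _).mp x.2
  have hy : (y : F) ^ q = y := (hK₀ _).mp y.2
  obtain ⟨u, hu, hv⟩ := exists_GU2 hq (ε * x) (ε * y) (ε * y) (-(ε * x))
    (by rw [mul_pow, mul_pow, hεq', hx, hy]; linear_combination -hsum)
    (by rw [neg_pow_q hq, mul_pow, mul_pow, hεq', hx, hy]; linear_combination -hsum)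
    (by rw [neg_pow_q hq, mul_pow, mul_pow, hεq', hx, hy]; ring)
  refine ⟨u, hu, ?_, ?_, ?_⟩
  · ext
    simp [hv, Matrix.det_fin_two_of]
    linear_combination -hsum
  · apply gl_ext <;> simp [hv, diagU_val, Matrix.mul_apply, Fin.sum_univ_two]
    all_goals first
      | linear_combination hsum
      | ring
  · rw [mul_inv_eq_iff_eq_mul]
    apply gl_ext <;> simp [hv, quarterU_val, diagU_val, Matrix.mul_apply, Fin.sum_univ_two]

/-- An eigenvector of a 2×2 matrix of square -1 and determinant 1. -/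
theorem exists_eigen (h2 : (2 : F) ≠ 0) {u : GL (Fin 2) F} (hd : Matrix.GeneralLinearGroup.det u = 1)
    (hu : u * u = negU) {i : F} (hi : i * i = -1) :
    ∃ v w : F, (v ≠ 0 ∨ w ≠ 0) ∧ u.1 0 0 * v + u.1 0 1 * w = i * v ∧ u.1 1 0 * v + u.1 1 1 * w = i * w := by
  have e : ∀ a b, (u * u).1 a b = (negU : GL (Fin 2) F).1 a b := fun a b => by rw [hu]
  have e00 := e 0 0; have e01 := e 0 1; have e10 := e 1 0; have e11 := e 1 1
  simp [diagU_val, Matrix.mul_apply, Fin.sum_univ_two] at e00 e01 e10 e11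
  have hd' : u.1 0 0 * u.1 1 1 - u.1 0 1 * u.1 1 0 = 1 := by
    rw [← Matrix.det_fin_two]; exact congrArg Units.val hd
  by_cases h : u.1 0 0 + i = 0 ∧ u.1 1 0 = 0
  · refine ⟨u.1 0 1, u.1 1 1 + i, Or.inr fun h0 => h2 ?_, by linear_combination e01, ?_⟩
    · have ha : u.1 0 0 = -i := by linear_combination h.1
      rw [ha, h.2] at hd'
      linear_combination -hd' - i * h0 + hi
    · linear_combination e11 - hi
  · refine ⟨u.1 0 0 + i, u.1 1 0, ?_, ?_, ?_⟩
    · rcases not_and_or.mp h with h | h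
      · exact Or.inl h
      · exact Or.inr h
    · linear_combination e00 - hi
    · linear_combination e10

theorem conj_quarter (hq : Fintype.card F = q ^ 2) (hodd : q % 2 = 1) {i : F} (hi : i * i = -1)
    (hiq : i ^ q = i) {u : GL (Fin 2) F} (hu : u ∈ Cfsg.GU 2 F q)
    (hd : Matrix.GeneralLinearGroup.det u = 1) (huu : u * u = negU) :
    ∃ h ∈ Cfsg.GU 2 F q, h * quarterU * h⁻¹ = u := by
  have h2 := two_ne_zero' hq hodd
  have hi0 : i ≠ 0 := fun h => by simp [h] at hi
  obtain ⟨a, b, hab, ha, hb⟩ := exists_eigen h2 hd huu hi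
  obtain ⟨c, d, hcd, hc, hd'⟩ := exists_eigen h2 hd huu (i := -i) (by linear_combination hi)
  have key : ∀ a b c d : F, ∀ l m : F, u.1 0 0 * a + u.1 0 1 * b = l * a → u.1 1 0 * a + u.1 1 1 * b = l * b →
      u.1 0 0 * c + u.1 0 1 * d = m * c → u.1 1 0 * c + u.1 1 1 * d = m * d →
      l * m ^ q ≠ 1 → a * c ^ q + b * d ^ q = 0 := by
    intro a b c d l m e1 e2 e3 e4 hlm
    have := mem_GU_iff.mp hu ![a, b] ![c, d]
    simp [hermForm, Fin.sum_univ_two, Matrix.mulVec, dotProduct, e1, e2, e3, e4, mul_pow] at this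
    by_contra h0
    exact hlm (mul_right_cancel₀ h0 (by linear_combination this))
  have hne : (-1 : F) ≠ 1 := fun h => h2 (by linear_combination -h)
  have iso1 : a * a ^ q + b * b ^ q = 0 :=
    key a b a b i i ha hb ha hb (by rw [hiq, hi]; exact hne)
  have iso2 : c * c ^ q + d * d ^ q = 0 :=
    key c d c d (-i) (-i) hc hd' hc hd' (by rw [neg_pow_q hq, hiq, neg_mul_neg, hi]; exact hne)
  have hgam : a * c ^ q + b * d ^ q ≠ 0 := by
    intro h0
    -- then the two eigenvectors would be parallel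
    have hpar : a * d - b * c = 0 := by
      have hP : a ^ q * d ^ q - b ^ q * c ^ q = 0 := by
        rcases hab with h | h
        · apply mul_left_cancel₀ h
          linear_combination (d ^ q) * iso1 - (b ^ q) * h0
        · apply mul_left_cancel₀ h
          linear_combination (a ^ q) * h0 - (c ^ q) * iso1
      refine pow_q_injective hq ?_
      rw [zero_pow_q hq, sub_pow_q hq, mul_pow, mul_pow]
      exact hP
    have h2i : (2 : F) * i ≠ 0 := mul_ne_zero h2 hi0
    rcases hab with h | h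
    · apply mul_ne_zero h2i h
      rcases hcd with h' | h'
      · apply mul_right_cancel₀ h'
        linear_combination (-c) * ha + a * hc - u.1 0 1 * hpar
      · have hc0 : c ≠ 0 := by
          intro hc0; rw [hc0, mul_zero, sub_zero] at hpar
          exact h' ((mul_eq_zero.mp hpar).resolve_left h)
        apply mul_right_cancel₀ hc0
        linear_combination (-c) * ha + a * hc - u.1 0 1 * hpar
    · apply mul_ne_zero h2i h
      rcases hcd with h' | h'
      · have hd0 : d ≠ 0 := by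
          intro hd0; rw [hd0, mul_zero, zero_sub, neg_eq_zero] at hpar
          exact h' ((mul_eq_zero.mp hpar).resolve_left h)
        apply mul_right_cancel₀ hd0
        linear_combination (-d) * hb + b * hd' + u.1 1 0 * hpar
      · apply mul_right_cancel₀ h'
        linear_combination (-d) * hb + b * hd' + u.1 1 0 * hpar
  set β : F := (2 / (a * c ^ q + b * d ^ q)) ^ q with hβ
  have hβq : β ^ q * (a * c ^ q + b * d ^ q) = 2 := by
    rw [hβ, pow_q_q hq, div_mul_cancel₀ _ hgam]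
  have hβq' : β * (c * a ^ q + d * b ^ q) = 2 := by
    have := congrArg (conj hq) hβq
    simp only [map_add, map_mul] at this
    change (β ^ q) ^ q * (a ^ q * (c ^ q) ^ q + b ^ q * (d ^ q) ^ q) = (2 : F) ^ q at this
    rw [pow_q_q hq, pow_q_q hq, pow_q_q hq, two_pow_q hq] at this
    linear_combination this
  set s : F := (2 : F)⁻¹ with hs
  set t : F := (2 * i)⁻¹ with ht
  have hs2 : 2 * s = 1 := mul_inv_cancel₀ h2
  have ht2 : 2 * i * t = 1 := mul_inv_cancel₀ (mul_ne_zero h2 hi0)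
  have hsq : s ^ q = s := by rw [hs, inv_pow, two_pow_q hq]
  have htq : t ^ q = t := by rw [ht, inv_pow, mul_pow, two_pow_q hq, hiq]
  obtain ⟨h, hh, hv⟩ := exists_GU2 hq (s * (a + β * c)) (t * (a - β * c)) (s * (b + β * d)) (t * (b - β * d))
    (by
      simp only [mul_pow, add_pow_q hq, hsq]
      linear_combination (s * s) * iso1 + (s * s * β * β ^ q) * iso2 + (s * s) * hβq + (s * s) * hβq' + (2 * s + 1) * hs2)
    (by
      simp only [mul_pow, sub_pow_q hq, htq]
      linear_combination (t * t) * iso1 + (t * t * β * β ^ q) * iso2 - (t * t) * hβq - (t * t) * hβq'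
        + (2 * i * t + 1) * ht2 - 4 * t * t * hi)
    (by
      simp only [mul_pow, sub_pow_q hq, htq]
      linear_combination (s * t) * iso1 - (s * t * β * β ^ q) * iso2 - (s * t) * hβq + (s * t) * hβq')
  refine ⟨h, hh, ?_⟩
  rw [mul_inv_eq_iff_eq_mul]
  have hst : s = i * t := by apply mul_left_cancel₀ h2; linear_combination hs2 - ht2
  apply gl_ext <;> simp [hv, quarterU_val, Matrix.mul_apply, Fin.sum_univ_two]
  · rw [hst]; linear_combination (-(i * t)) * ha - (i * t * β) * hc - (t * a - t * β * c) * hi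
  · rw [hst]; linear_combination (-t) * ha + (t * β) * hc
  · rw [hst]; linear_combination (-(i * t)) * hb - (i * t * β) * hd' - (t * b - t * β * d) * hi
  · rw [hst]; linear_combination (-t) * hb + (t * β) * hd'

theorem mono_sylow (hq : Fintype.card F = q ^ 2) (hodd : q % 4 = 3)
    (P : Subgroup (GL (Fin 2) F)) (hPH : P ≤ Cfsg.GU 2 F q) (hP : IsPGroup 2 P)
    (hW : monoTwo (Cfsg.GU 2 F q) ≤ P) : P ≤ monoTwo (Cfsg.GU 2 F q) := by
  classical
  haveI : Fact (Nat.Prime 2) := ⟨Nat.prime_two⟩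
  have hmem : ∀ u : Fˣ, u ∈ (normHom F q).ker ↔ (u : F) * (u : F) ^ q = 1 := by
    intro u
    rw [MonoidHom.mem_ker]
    simp only [Cfsg.Agent.Lib.Unitary.normHom, powMonoidHom_apply]
    rw [← pow_succ', ← Units.val_pow_eq_pow_val, Units.val_eq_one]
  let A : Sylow 2 (normHom F q).ker := default
  have hAcard : Nat.card A = 2 ^ (q + 1).factorization 2 := by
    rw [Sylow.card_eq_multiplicity, (card_normHom hq).1]
  have hA2 : ∀ z : A, TwoElem (((z : (normHom F q).ker) : Fˣ)) := fun z => by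
    obtain ⟨k, hk⟩ := A.isPGroup' z
    exact ⟨k, congrArg (fun y : A => ((y : (normHom F q).ker) : Fˣ)) hk⟩
  have hAn : ∀ z : A, (((z : (normHom F q).ker) : Fˣ) : F) * (((z : (normHom F q).ker) : Fˣ) : F) ^ q = 1 :=
    fun z => (hmem _).mp (z : (normHom F q).ker).2
  let d : A × A → GL (Fin 2) F := fun z => diagU ((z.1 : (normHom F q).ker) : Fˣ) ((z.2 : (normHom F q).ker) : Fˣ)
  have hdW : ∀ z, d z ∈ monoTwo (Cfsg.GU 2 F q) := fun z =>
    mem_monoTwo_diag ((diag_mem hq _ _).mpr ⟨hAn z.1, hAn z.2⟩) (hA2 z.1) (hA2 z.2)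
  have hsW : (swapU : GL (Fin 2) F) ∈ monoTwo (Cfsg.GU 2 F q) :=
    ⟨swap_mem, 1, 1, TwoElem.one, TwoElem.one, Or.inr (by rw [diagU_one, one_mul])⟩
  have hWcard : Nat.card (A × A × Bool) ≤ Nat.card (monoTwo (Cfsg.GU 2 F q)) := by
    refine Nat.card_le_card_of_injective (fun z => if z.2.2 then
      (⟨d (z.1, z.2.1) * swapU, Subgroup.mul_mem _ (hdW _) hsW⟩ : monoTwo (Cfsg.GU 2 F q))
      else ⟨d (z.1, z.2.1), hdW _⟩) ?_
    rintro ⟨x, y, b⟩ ⟨x', y', b'⟩ h
    have hd00 : ∀ x x' y y', (d (x, y)).1 0 0 = (d (x', y')).1 0 0 → (d (x, y)).1 1 1 = (d (x', y')).1 1 1 →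
        x = x' ∧ y = y' := fun x x' y y' e1 e2 =>
      ⟨Subtype.ext (Subtype.ext (Units.ext (by simpa [d, diagU_val] using e1))),
       Subtype.ext (Subtype.ext (Units.ext (by simpa [d, diagU_val] using e2)))⟩
    have hne : ∀ x y x' y', d (x, y) ≠ d (x', y') * swapU := by
      intro x y x' y' e
      have := congrArg (fun g : GL (Fin 2) F => g.1 0 0) e
      simp [d, diagU_val, swapU_val, Matrix.mul_apply, Fin.sum_univ_two] at this
    rcases b <;> rcases b' <;> simp only [Bool.false_eq_true, if_false, if_true] at h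
    · have h' := congrArg Subtype.val h
      obtain ⟨rfl, rfl⟩ := hd00 x x' y y' (by rw [show d (x, y) = d (x', y') from h']) (by rw [show d (x, y) = d (x', y') from h'])
      rfl
    · exact absurd (congrArg Subtype.val h) (hne _ _ _ _)
    · exact absurd (congrArg Subtype.val h).symm (hne _ _ _ _)
    · have h' : d (x, y) = d (x', y') := mul_right_cancel (congrArg Subtype.val h)
      obtain ⟨rfl, rfl⟩ := hd00 x x' y y' (by rw [h']) (by rw [h'])
      rfl
  rw [Nat.card_prod, Nat.card_prod, Nat.card_eq_fintype_card (α := Bool), Fintype.card_bool, hAcard] at hWcard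
  have hH : Nat.card (Cfsg.GU 2 F q) = q * ((q + 1) * (q ^ 2 - 1)) := by
    rw [card_GU hq 2, Finset.prod_range_succ, Finset.prod_range_one]
    simp
  obtain ⟨j, hj⟩ : ∃ j, q = 4 * j + 3 := ⟨q / 4, by omega⟩
  have hfac : (Nat.card (Cfsg.GU 2 F q)).factorization 2 = 2 * (q + 1).factorization 2 + 1 := by
    have e : Nat.card (Cfsg.GU 2 F q) = (q + 1) * (q + 1) * 2 * (q * (2 * j + 1)) := by
      rw [hH, show q ^ 2 - 1 = (q + 1) * (2 * (2 * j + 1)) by
        rw [show q ^ 2 = (q + 1) * (2 * (2 * j + 1)) + 1 by rw [hj]; ring]; simp]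
      ring
    have hq0 : q ≠ 0 := by omega
    rw [e, Nat.factorization_mul (by positivity) (by positivity), Nat.factorization_mul (by positivity) (by norm_num),
      Nat.factorization_mul (by positivity) (by positivity)]
    simp only [Finsupp.add_apply]
    rw [Nat.Prime.factorization_self Nat.prime_two, Nat.factorization_eq_zero_of_not_dvd
      (n := q * (2 * j + 1)) (by
        intro h
        rcases (Nat.prime_two.dvd_mul).mp h with h | h <;> omega)]
    ring
  haveI : Finite P := inferInstance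
  have hle : Nat.card P ≤ Nat.card (monoTwo (Cfsg.GU 2 F q)) := by
    obtain ⟨n, hn⟩ := hP.exists_card_eq
    have hdvd : 2 ^ n ∣ Nat.card (Cfsg.GU 2 F q) := hn ▸ Subgroup.card_dvd_of_le hPH
    have := (Nat.Prime.pow_dvd_iff_le_factorization Nat.prime_two Nat.card_pos.ne').mp hdvd
    refine le_trans ?_ hWcard
    rw [hn]
    calc 2 ^ n ≤ 2 ^ (2 * (q + 1).factorization 2 + 1) := Nat.pow_le_pow_right (by norm_num) (by omega)
      _ = _ := by rw [pow_succ, two_mul, pow_add]; ring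
  exact (Subgroup.eq_of_le_of_card_ge hW hle).ge

theorem index_odd (hq : Fintype.card F = q ^ 2) (hodd : q % 2 = 1) :
    ¬ 2 ∣ (((Cfsg.GU 2 F q).map iota).subgroupOf (Cfsg.SU 3 F q)).index := by
  have hle : (Cfsg.GU 2 F q).map iota ≤ Cfsg.SU 3 F q := by
    rintro _ ⟨g, hg, rfl⟩; exact (iota_mem_SU hq g).mpr hg
  have h1 := Subgroup.card_mul_index (((Cfsg.GU 2 F q).map iota).subgroupOf (Cfsg.SU 3 F q))
  rw [Nat.card_congr (Subgroup.subgroupOfEquivOfLe hle).toEquiv, Subgroup.card_map_of_injective iota_injective] at h1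
  have h3 := card_SU (n := 3) hq (by norm_num)
  have hG2 := card_GU hq 2
  have hG3 := card_GU hq 3
  rw [← h1, hG2, hG3] at h3
  simp [Finset.prod_range_succ, show ¬ Even 1 by decide, show Even 2 by decide] at h3
  intro hd
  obtain ⟨t, ht⟩ := hd
  rw [ht] at h3
  have hq1 := one_lt_q hq
  have hpos : 0 < q * ((q + 1) * (q ^ 2 - 1)) := by
    have h11 : 1 < q ^ 2 := by nlinarith
    have : 0 < q ^ 2 - 1 := by omega
    positivity
  obtain ⟨j, hj⟩ : ∃ j, q = 2 * j + 1 := ⟨q / 2, by omega⟩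
  have e : (q + 1) * (2 * t) = q ^ 2 * (q ^ 3 + 1) := by
    apply Nat.eq_of_mul_eq_mul_left hpos
    refine Eq.trans ?_ (h3.trans ?_) <;> ring
  have e2 : q ^ 3 + 1 = (q + 1) * (q * (q - 1) + 1) := by
    rw [hj, Nat.add_sub_cancel]; ring
  have e3 : 2 * t = q ^ 2 * (q * (q - 1) + 1) := by
    apply Nat.eq_of_mul_eq_mul_left (show 0 < q + 1 by omega)
    rw [e, e2]; ring
  rw [hj, Nat.add_sub_cancel, show (2 * j + 1) ^ 2 * ((2 * j + 1) * (2 * j) + 1) =
    2 * ((2 * j + 1) ^ 3 * j + 2 * j * j + 2 * j) + 1 by ring] at e3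
  omega

/-- Let q be an odd prime power and F a field with q² elements. Then the 2-fusion system of PSU(3,q) (realised as the special unitary group of the standard Hermitian form over F modulo its centre) on a Sylow 2-subgroup is simple. -/
theorem result {F : Type*} [Field F] [Fintype F] (q : ℕ) (hq : Fintype.card F = q ^ 2) (hodd : q % 2 = 1) (S : Sylow 2 (Cfsg.PSU 3 F q)) :
    (Cfsg.groupFusionSystem (S : Subgroup (Cfsg.PSU 3 F q))).IsSimple 2 := by
  classical
  have h2 := two_ne_zero' hq hodd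
  haveI : Finite (Cfsg.PSU 3 F q) :=
    Finite.of_surjective (QuotientGroup.mk' (Subgroup.center (Cfsg.SU 3 F q))) (QuotientGroup.mk'_surjective _)
  refine isSimple_quotient h2 (Cfsg.SU 3 F q) (QuotientGroup.mk' (Subgroup.center (Cfsg.SU 3 F q)))
    (QuotientGroup.mk'_surjective _) ?_ (Cfsg.GU 2 F q) (iota_mem_SU hq) (permOuter_mem hq) (permLast_mem hq)
    ((diag_mem hq _ _).mpr ⟨neg_one_norm hodd, neg_one_norm hodd⟩)
    ((diag_mem hq _ _).mpr ⟨by simp, neg_one_norm hodd⟩) swap_mem (index_odd hq hodd) ?_ ?_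
    (refl_swap_conj hq hodd) (exists_nonsquare_norm hq hodd) (exists_anticommuting hq hodd) ?_ S
  · intro m
    refine (QuotientGroup.eq_one_iff m).trans ?_
    exact ⟨fun h m' => ((Subgroup.mem_center_iff.mp h) m').symm,
      fun h => Subgroup.mem_center_iff.mpr fun m' => (h m').symm⟩
  · intro h hh
    refine (diag_mem hq _ _).mpr ⟨?_, by simp⟩
    exact det_norm_one hq (⟨h, hh⟩ : Cfsg.GU 2 F q)
  · intro a b h
    obtain ⟨ha, hb⟩ := (diag_mem hq a b).mp h
    exact ⟨(diag_mem hq _ _).mpr ⟨ha, by simp⟩, (diag_mem hq _ _).mpr ⟨hb, by simp⟩⟩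
  · rcases (show q % 4 = 1 ∨ q % 4 = 3 by omega) with h4 | h4
    · left
      obtain ⟨i, hi⟩ : IsSquare (-1 : F) := by
        rw [FiniteField.isSquare_neg_one_iff, hq, Nat.pow_mod, h4]; norm_num
      have hiq : i ^ q = i := by
        obtain ⟨j, rfl⟩ : ∃ j, q = 4 * j + 1 := ⟨q / 4, by omega⟩
        rw [show 4 * j + 1 = 2 * (2 * j) + 1 by ring, pow_succ, pow_mul, pow_two, ← hi, pow_mul]
        simp
      exact fun u hu hd huu => conj_quarter hq hodd hi.symm hiq hu hd huu
    · exact Or.inr (mono_sylow hq h4)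

end Cfsg.Agent.S5319
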