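import Cfsg.Statements.S5320
import Cfsg.Agent.Lib.FusionPSp4.Embedding
import Cfsg.Agent.Lib.FusionAlperin.Simple

set_option autoImplicit false
set_option linter.style.haveILetI false
open Cfsg

namespace Cfsg.Agent.S5320

open Matrix Cfsg.FusionSystem Cfsg.Agent.Lib.FusionPSp4 Cfsg.Agent.Lib.PSLTwo.Sylow

universe u

variable {F : Type u} [Field F] [Fintype F]

local notation "SL2" => Matrix.SpecialLinearGroup (Fin 2) F
local notation "M2" => Matrix (Fin 2) (Fin 2) F
local notation "G0" => Matrix.symplecticGroup (Fin 2) F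

set_option maxHeartbeats 1000000 in
theorem isSimple_of_hom (hodd : Fintype.card F % 2 = 1) {G : Type*} [Group G] [Finite G]
    (π : G0 →* G) (hπs : Function.Surjective π)
    (hker : ∀ x : G0, π x = 1 ↔ x = 1 ∨ x = pair (negOne, negOne))
    (Q : Sylow 2 SL2) (hnc : ∃ x ∈ (Q : Subgroup SL2), ∃ y ∈ (Q : Subgroup SL2), x * y ≠ y * x)
    (S : Sylow 2 G) (hS : (S : Subgroup G) = (wreath (Q : Subgroup SL2)).map π) :
    (Cfsg.groupFusionSystem (S : Subgroup G)).IsSimple 2 := by
  classical
  haveI : Fact (Nat.Prime 2) := ⟨Nat.prime_two⟩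
  have h2 := two_ne_zero_of_odd (F := F) hodd
  set T : Subgroup G0 := wreath (Q : Subgroup SL2) with hT
  set N : G0 := pair (negOne, negOne) with hN
  set z : G0 := pair (1, negOne) with hz
  have hQN : (negOne : SL2) ∈ (Q : Subgroup SL2) := negOne_mem Q
  have hNT : N ∈ T := pair_mem hQN hQN
  have hzT : z ∈ T := pair_mem (one_mem _) hQN
  have hNc : ∀ x : G0, N * x = x * N := fun x =>
    ((Subgroup.mem_center_iff.mp (mem_center_iff'.mpr (Or.inr rfl))) x).symm
  have cN : ∀ r : SL2, (negOne : SL2) * r = r * negOne := negOne_central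
  have hneg1 : (negOne : SL2) ≠ 1 := negOne_ne_one h2
  have hπeq : ∀ {x y : G0}, π x = π y → x = y ∨ x = N * y := by
    intro x y h
    have : π (x * y⁻¹) = 1 := by rw [map_mul, map_inv, h, mul_inv_cancel]
    rcases (hker _).mp this with e | e
    · exact Or.inl (mul_inv_eq_one.mp e)
    · exact Or.inr (mul_inv_eq_iff_eq_mul.mp e)
  have hπN : π N = 1 := (hker _).mpr (Or.inr rfl)
  have hTS : ∀ {x : G0}, π x ∈ (S : Subgroup G) → x ∈ T := by
    intro x hx
    rw [hS] at hx
    obtain ⟨t, ht, e⟩ := hx
    rcases hπeq e.symm with rfl | rfl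
    · exact ht
    · exact T.mul_mem hNT ht
  have hST : ∀ {x : G0}, x ∈ T → π x ∈ (S : Subgroup G) := by
    intro x hx; rw [hS]; exact Subgroup.mem_map_of_mem π hx
  obtain ⟨x₀, hx₀, y₀, hy₀, hxy₀⟩ := hnc
  have hx₀1 : x₀ ≠ 1 := by rintro rfl; exact hxy₀ (by simp)
  -- the centre of `T` modulo `N`
  have hcen : ∀ t ∈ T, (∀ t' ∈ T, π (t * t') = π (t' * t)) →
      t = 1 ∨ t = N ∨ t = z ∨ t = pair (negOne, 1) := by
    intro t ht hcomm
    obtain ⟨a, ha, b, hb, hab⟩ := ht
    have hcA : ∀ x ∈ (Q : Subgroup SL2), t * pair (x, 1) = pair (x, 1) * t ∨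
        t * pair (x, 1) = N * (pair (x, 1) * t) := fun x hx => hπeq (hcomm _ (pair_mem hx (one_mem _)))
    have hcB : ∀ x ∈ (Q : Subgroup SL2), t * pair (1, x) = pair (1, x) * t ∨
        t * pair (1, x) = N * (pair (1, x) * t) := fun x hx => hπeq (hcomm _ (pair_mem (one_mem _) hx))
    rcases hab with rfl | rfl
    · have ha' : ∀ x ∈ (Q : Subgroup SL2), a * x = x * a := by
        intro x hx
        rcases hcA x hx with e | e
        · simp only [← map_mul, Prod.mk_mul_mk, mul_one, one_mul] at e
          exact (pair_inj e).1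
        · simp only [hN, ← map_mul, Prod.mk_mul_mk, mul_one, one_mul] at e
          exact absurd (mul_eq_right.mp (pair_inj e).2.symm) hneg1
      have hb' : ∀ x ∈ (Q : Subgroup SL2), b * x = x * b := by
        intro x hx
        rcases hcB x hx with e | e
        · simp only [← map_mul, Prod.mk_mul_mk, mul_one, one_mul] at e
          exact (pair_inj e).2
        · simp only [hN, ← map_mul, Prod.mk_mul_mk, mul_one, one_mul] at e
          exact absurd (mul_eq_right.mp (pair_inj e).1.symm) hneg1
      rcases scalar_of_commute hxy₀ (ha' _ hx₀) (ha' _ hy₀) with rfl | rfl <;>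
        rcases scalar_of_commute hxy₀ (hb' _ hx₀) (hb' _ hy₀) with rfl | rfl
      · exact Or.inl (map_one pair)
      · exact Or.inr (Or.inr (Or.inl rfl))
      · exact Or.inr (Or.inr (Or.inr rfl))
      · exact Or.inr (Or.inl rfl)
    · exfalso
      rcases hcA x₀ hx₀ with e | e
      · simp only [mul_assoc, sig_mul_pair] at e
        simp only [← mul_assoc, ← map_mul, Prod.mk_mul_mk, mul_one, one_mul] at e
        have := (pair_inj (mul_right_cancel e)).1
        exact hx₀1 (mul_eq_right.mp this.symm)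
      · simp only [hN, mul_assoc, sig_mul_pair] at e
        simp only [← mul_assoc, ← map_mul, Prod.mk_mul_mk, mul_one, one_mul] at e
        have h1 := (pair_inj (mul_right_cancel e)).1
        have h3 : negOne * x₀ = (1 : SL2) := mul_eq_right.mp h1.symm
        have : x₀ = negOne := by
          calc x₀ = (negOne * negOne) * x₀ := by rw [negOne_sq, one_mul]
            _ = negOne := by rw [mul_assoc, h3, mul_one]
        exact hxy₀ (this ▸ cN y₀)
  have hu₁ : (Matrix.diagonal ![(2 : F)⁻¹, 1]).det + (Matrix.diagonal ![(2 : F)⁻¹, 1]).det = 1 := by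
    simp [Matrix.det_diagonal, Fin.prod_univ_two]
    field_simp
    ring
  refine Cfsg.Agent.Lib.FusionAlperin.Simple.isSimple_group S ?_ ?_
    {R | (Cfsg.groupFusionSystem (S : Subgroup G)).IsFullyNormalized R ∧
      (Cfsg.groupFusionSystem (S : Subgroup G)).IsCentric R} (fun R hR => hR) ?_
  · intro h
    have := hST hzT
    rw [h, Subgroup.mem_bot, hker] at this
    rcases this with e | e
    · exact hneg1 (pair_inj (e.trans (map_one pair).symm)).2
    · exact hneg1 (pair_inj e).1.symm
  · -- no proper strongly closed subgroup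
    rintro X ⟨hXS, hX⟩
    rcases eq_or_ne X ⊥ with rfl | hXne
    · exact Or.inl rfl
    right
    refine le_antisymm hXS ?_
    have hfuse : ∀ x : G, x ∈ X → ∀ g : G, g * x * g⁻¹ ∈ (S : Subgroup G) → g * x * g⁻¹ ∈ X := by
      intro x hx g hg
      have hxS : Subgroup.zpowers x ≤ X := Subgroup.zpowers_le.mpr hx
      have hmem : ∀ y ∈ Subgroup.zpowers x, g * y * g⁻¹ ∈ (S : Subgroup G) := by
        intro y hy
        obtain ⟨i, rfl⟩ := Subgroup.mem_zpowers_iff.mp hy
        rw [← conj_zpow]; exact zpow_mem hg i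
      exact hX _ hxS _ (Cfsg.Agent.Lib.FS.conjHom_mem_group (hxS.trans hXS) hmem) ⟨x, Subgroup.mem_zpowers x⟩
    set X₀ : Subgroup G0 := X.comap π with hX₀
    have hfuse0 : ∀ x ∈ X₀, ∀ g : G0, g * x * g⁻¹ ∈ T → g * x * g⁻¹ ∈ X₀ := by
      intro x hx g hg
      have := hST hg
      rw [map_mul, map_mul, map_inv] at this
      have := hfuse (π x) hx (π g) this
      show π _ ∈ X
      rwa [map_mul, map_mul, map_inv]
    have hN₀ : N ∈ X₀ := by show π N ∈ X; rw [hπN]; exact one_mem _
    -- the central involution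
    have hz₀ : z ∈ X₀ := by
      have hne : X.subgroupOf (S : Subgroup G) ≠ ⊥ := by
        intro h
        rw [Subgroup.subgroupOf_eq_bot, disjoint_iff, inf_eq_left.mpr hXS] at h
        exact hXne h
      haveI : (X.subgroupOf (S : Subgroup G)).Normal := ⟨fun n hn g => by
        show ((g * n * g⁻¹ : (S : Subgroup G)) : G) ∈ X
        push_cast
        exact hfuse _ hn _ ((g * n * g⁻¹).2)⟩
      obtain ⟨c, ⟨hcX, hcc⟩, hc1⟩ := (Subgroup.bot_or_exists_ne_one
        (X.subgroupOf (S : Subgroup G) ⊓ Subgroup.center _)).resolve_left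
        (Cfsg.Agent.Lib.PGroups.normal_inf_center_ne_bot S.isPGroup' _ hne)
      obtain ⟨t, ht⟩ := hπs (c : G)
      have htT : t ∈ T := hTS (ht ▸ c.2)
      have htX : π t ∈ X := ht ▸ hcX
      have hcomm : ∀ t' ∈ T, π (t * t') = π (t' * t) := by
        intro t' ht'
        rw [map_mul, map_mul, ht]
        exact (congrArg Subtype.val ((Subgroup.mem_center_iff.mp hcc) ⟨π t', hST ht'⟩)).symm
      have hc1' : π t ≠ 1 := by rw [ht]; exact fun e => hc1 (Subtype.ext e)
      rcases hcen t htT hcomm with rfl | rfl | rfl | rfl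
      · exact absurd (map_one π) hc1'
      · exact absurd hπN hc1'
      · exact htX
      · have : z = N * pair (negOne, 1) := by
          rw [hz, hN, ← map_mul, Prod.mk_mul_mk, negOne_sq, mul_one]
        rw [this]; exact X₀.mul_mem hN₀ htX
    have hsig : (sig : G0) ∈ X₀ := by
      have e : mix _ hu₁ * z * (mix _ hu₁)⁻¹ = (sig : G0) := by
        rw [hz, mix_conj, mul_inv_cancel_right]
      exact e ▸ hfuse0 z hz₀ _ (e ▸ sig_mem _)
    have hanti : ∀ a ∈ (Q : Subgroup SL2), pair (a, a⁻¹) ∈ X₀ := by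
      intro a ha
      have e : pair (a, 1) * sig * (pair (a, 1))⁻¹ = pair (a, a⁻¹) * (sig : G0) := by
        rw [← map_inv, mul_assoc, sig_mul_pair, ← mul_assoc, ← map_mul]; simp
      have hm : pair (a, a⁻¹) * (sig : G0) ∈ X₀ :=
        e ▸ hfuse0 sig hsig _ (e ▸ T.mul_mem (pair_mem ha (inv_mem ha)) (sig_mem _))
      simpa using X₀.mul_mem hm (X₀.inv_mem hsig)
    have hfoc : ∀ a ∈ (Q : Subgroup SL2), pair (a, 1) ∈ X₀ := by
      intro a ha
      have ha' : a ∈ (Q : Subgroup SL2).focalSubgroup := by
        rw [← Subgroup.commutator_inf_eq_focalSubgroup]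
        exact ⟨sylow_le_commutator hodd Q ha, ha⟩
      rw [Subgroup.focalSubgroup_def] at ha'
      refine Subgroup.closure_induction (p := fun c _ => pair (c, 1) ∈ X₀) ?_ ?_ ?_ ?_ ha'
      · rintro c ⟨hc, x, hx, g, rfl⟩
        have hgx : g * x⁻¹ * g⁻¹ ∈ (Q : Subgroup SL2) := by
          have := (Q : Subgroup SL2).mul_mem ((Q : Subgroup SL2).inv_mem hx) hc
          rwa [commutatorElement_def, show x⁻¹ * (x * g * x⁻¹ * g⁻¹) = g * x⁻¹ * g⁻¹ by group] at this
        have e : pair (g, 1) * pair (x⁻¹, x) * (pair (g, 1))⁻¹ = (pair (g * x⁻¹ * g⁻¹, x) : G0) := by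
          rw [← map_inv, ← map_mul, ← map_mul]; simp
        have h1 : pair (x⁻¹, x) ∈ X₀ := by simpa using hanti x⁻¹ (inv_mem hx)
        have h3 := X₀.mul_mem (hanti x hx) (e ▸ hfuse0 _ h1 _ (e ▸ pair_mem hgx hx))
        rw [← map_mul] at h3
        simpa [commutatorElement_def, mul_assoc] using h3
      · show pair (1 : SL2 × SL2) ∈ X₀
        rw [map_one]; exact one_mem _
      · intro c d _ _ hc hd
        simpa [← map_mul] using X₀.mul_mem hc hd
      · intro c _ hc
        simpa [← map_inv] using X₀.inv_mem hc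
    intro g hg
    obtain ⟨t, rfl⟩ := hπs g
    have hpair : ∀ a ∈ (Q : Subgroup SL2), ∀ b ∈ (Q : Subgroup SL2), pair (a, b) ∈ X₀ := by
      intro a ha b hb
      have hb' : pair (1, b) ∈ X₀ := by
        have := hfuse0 _ (hfoc b hb) sig (by rw [sig_conj]; exact pair_mem (one_mem _) hb)
        rwa [sig_conj] at this
      simpa [← map_mul] using X₀.mul_mem (hfoc a ha) hb'
    obtain ⟨a, ha, b, hb, rfl | rfl⟩ := hTS hg
    · exact hpair a ha b hb
    · exact X₀.mul_mem (hpair a ha b hb) hsig
  · -- `Aut_F(S)` is locally generated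
    intro α hα
    obtain ⟨g, -, hgα⟩ := Cfsg.Agent.Lib.FS.mem_autInducedBy.mp hα
    set A : Subgroup (MulAut (S : Subgroup G)) := ⨆ R ∈ {R | (Cfsg.groupFusionSystem (S : Subgroup G)).IsFullyNormalized R ∧
      (Cfsg.groupFusionSystem (S : Subgroup G)).IsCentric R}, autInducedBy
        (Subgroup.closure {g : G | g ∈ Subgroup.normalizer (R : Set G) ∧ ∃ k : ℕ, orderOf g = 2 ^ k})
        (S : Subgroup G) with hA
    let K : Subgroup (Subgroup.normalizer ((S : Subgroup G) : Set G)) :=
      A.comap (S : Subgroup G).normalizerMonoidHom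
    let L : Subgroup G := K.map (Subgroup.normalizer ((S : Subgroup G) : Set G)).subtype
    suffices hL : g ∈ L by
      obtain ⟨n, hn, rfl⟩ := hL
      have : (S : Subgroup G).normalizerMonoidHom n = α := by
        ext x
        exact (hgα x).symm
      exact this ▸ hn
    have hgN : g ∈ Subgroup.normalizer ((S : Subgroup G) : Set G) :=
      Cfsg.Agent.Lib.PSLTwo.Sylow.mem_normalizer_of_conj_mem fun x hx => by
        rw [← hgα ⟨x, hx⟩]; exact (α _).2
    have horder : ∀ y : G, y ^ 4 = 1 → ∃ k : ℕ, orderOf y = 2 ^ k := fun y hy => by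
      obtain ⟨i, -, hi⟩ := (Nat.dvd_prime_pow Nat.prime_two).mp
        (show orderOf y ∣ 2 ^ 2 from orderOf_dvd_of_pow_eq_one hy)
      exact ⟨i, hi⟩
    have hinL : ∀ R, (Cfsg.groupFusionSystem (S : Subgroup G)).IsFullyNormalized R →
        (Cfsg.groupFusionSystem (S : Subgroup G)).IsCentric R →
        ∀ x ∈ Subgroup.normalizer ((S : Subgroup G) : Set G),
          x ∈ Subgroup.closure {g : G | g ∈ Subgroup.normalizer (R : Set G) ∧ ∃ k : ℕ, orderOf g = 2 ^ k} →
          x ∈ L := fun R hRn hRc x hx hxR =>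
      ⟨⟨x, hx⟩, (show _ ∈ A from Subgroup.mem_iSup_of_mem R (Subgroup.mem_iSup_of_mem ⟨hRn, hRc⟩
        (Cfsg.Agent.Lib.FS.mem_autInducedBy.mpr ⟨x, hxR, fun _ => rfl⟩))), rfl⟩
    have hSL : (S : Subgroup G) ≤ L := by
      intro x hx
      refine hinL (S : Subgroup G) ⟨le_rfl, fun R hR => ?_⟩ ⟨le_rfl, fun R hR => ?_⟩ x (Subgroup.le_normalizer hx) ?_
      · have e : normalizerIn (S : Subgroup G) (S : Subgroup G) = (S : Subgroup G) :=
          inf_eq_left.mpr Subgroup.le_normalizer
        rw [e]; exact Subgroup.card_le_of_le inf_le_left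
      · obtain ⟨-, hRS, c, hc⟩ := Cfsg.Agent.Lib.FS.group_isConj_iff.mp hR
        have e : R = (S : Subgroup G) := Subgroup.eq_of_le_of_card_ge hRS (le_of_eq (by
          rw [← hc, Subgroup.card_map_of_injective (MulAut.conj c).injective]))
        rw [e]; exact inf_le_left
      · refine Subgroup.subset_closure ⟨Subgroup.le_normalizer hx, ?_⟩
        obtain ⟨k, hk⟩ := IsPGroup.iff_orderOf.mp S.isPGroup' ⟨x, hx⟩
        exact ⟨k, by rw [← hk, Subgroup.orderOf_mk]⟩
    have hCL : ∀ x : G, (∀ s ∈ (S : Subgroup G), x * s * x⁻¹ = s) → x ∈ L := by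
      intro x hx
      refine ⟨⟨x, Cfsg.Agent.Lib.PSLTwo.Sylow.mem_normalizer_of_conj_mem fun s hs => by rw [hx s hs]; exact hs⟩, ?_, rfl⟩
      show _ ∈ A
      have : (S : Subgroup G).normalizerMonoidHom
          ⟨x, Cfsg.Agent.Lib.PSLTwo.Sylow.mem_normalizer_of_conj_mem fun s hs => by rw [hx s hs]; exact hs⟩ = 1 := by
        ext s
        exact hx s s.2
      rw [this]; exact one_mem _
    -- lift `g`
    obtain ⟨n, rfl⟩ := hπs g
    have hnT : ∀ t ∈ T, n * t * n⁻¹ ∈ T := fun t ht => hTS (by
      rw [map_mul, map_mul, map_inv]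
      exact (Subgroup.mem_normalizer_iff.mp hgN _).mp (hST ht))
    have hnT' : ∀ t ∈ T, n⁻¹ * t * n ∈ T := fun t ht => hTS (by
      rw [map_mul, map_mul, map_inv]
      simpa using (Subgroup.mem_normalizer_iff.mp (inv_mem hgN) _).mp (hST ht))
    have hnz : ∀ t ∈ T, π (n * z * n⁻¹ * t) = π (t * (n * z * n⁻¹)) := by
      intro t ht
      obtain ⟨a, -, b, -, hab⟩ := hnT' t ht
      have hcz : π (z * (n⁻¹ * t * n)) = π ((n⁻¹ * t * n) * z) := by
        rcases hab with e | e <;> rw [e]
        · rw [hz, ← map_mul, ← map_mul]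
          simp only [Prod.mk_mul_mk, one_mul, mul_one, cN]
        · have e' : z * (pair (a, b) * sig) = N * (pair (a, b) * sig * z) := by
            rw [hz, hN, mul_assoc (pair (a, b)), sig_mul_pair, ← mul_assoc, ← map_mul, ← mul_assoc (pair (a, b)),
              ← map_mul, ← mul_assoc, ← map_mul]
            congr 2
            simp only [Prod.mk_mul_mk, one_mul, mul_one, cN b]
            rw [← cN a, ← mul_assoc, negOne_sq, one_mul]
          rw [e', map_mul, hπN, one_mul]
      calc π (n * z * n⁻¹ * t) = π n * π (z * (n⁻¹ * t * n)) * (π n)⁻¹ := by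
            simp only [map_mul, map_inv]; group
        _ = π n * π ((n⁻¹ * t * n) * z) * (π n)⁻¹ := by rw [hcz]
        _ = _ := by simp only [map_mul, map_inv]; group
    obtain ⟨a, b, hnab⟩ : ∃ a b : SL2, n = pair (a, b) ∨ n = pair (a, b) * sig := by
      have hnzn : n * z = n * z * n⁻¹ * n := by group
      rcases hcen _ (hnT z hzT) hnz with e | e | e | e
      · exact absurd (pair_inj ((conj_eq_one_iff.mp e).trans (map_one pair).symm)).2 hneg1
      · have : z = N := by
          calc z = n⁻¹ * (n * z * n⁻¹) * n := by group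
            _ = N := by rw [e, mul_assoc, hNc]; group
        exact absurd (pair_inj this).1.symm hneg1
      · exact mem_wreath_of_conj h2 (Or.inl (by rw [hnzn, e]))
      · exact mem_wreath_of_conj h2 (Or.inr (by rw [hnzn, e]))
    suffices hcore : ∀ a b : SL2, π (pair (a, b)) ∈ Subgroup.normalizer ((S : Subgroup G) : Set G) →
        π (pair (a, b)) ∈ L by
      rcases hnab with rfl | rfl
      · exact hcore a b hgN
      · rw [map_mul] at hgN ⊢
        refine L.mul_mem (hcore a b ?_) (hSL (hST (sig_mem _)))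
        simpa using mul_mem hgN (inv_mem (Subgroup.le_normalizer (hST (sig_mem (Q : Subgroup SL2)))))
    clear! α
    intro a b hab
    have hconjT : ∀ t ∈ T, pair (a, b) * t * (pair (a, b))⁻¹ ∈ T := fun t ht => hTS (by
      rw [map_mul, map_mul, map_inv]
      exact (Subgroup.mem_normalizer_iff.mp hab _).mp (hST ht))
    have hbQ : ∀ x ∈ (Q : Subgroup SL2), b * x * b⁻¹ ∈ (Q : Subgroup SL2) := by
      intro x hx
      have := hconjT _ (pair_mem (one_mem _) hx)
      rw [← map_inv, ← map_mul, ← map_mul] at this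
      simpa using (pair_mem_iff.mp this).2
    have habQ : a * b⁻¹ ∈ (Q : Subgroup SL2) := by
      have := T.mul_mem (hconjT sig (sig_mem _)) (T.inv_mem (sig_mem _))
      rw [mul_assoc (pair (a, b)), ← map_inv, sig_mul_pair, ← mul_assoc, ← map_mul, mul_inv_cancel_right] at this
      simpa using (pair_mem_iff.mp this).1
    -- reduce to diagonal elements
    let D : SL2 →* G := π.comp (pair.comp ((MonoidHom.id SL2).prod (MonoidHom.id SL2)))
    have hD : ∀ h, D h = π (pair (h, h)) := fun _ => rfl
    suffices hdiag : b ∈ L.comap D by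
      have e : pair (a, b) = pair (a * b⁻¹, 1) * (pair (b, b) : G0) := by rw [← map_mul]; simp
      rw [e, map_mul, ← hD]
      exact L.mul_mem (hSL (hST (pair_mem habQ (one_mem _)))) hdiag
    have hQL : (Q : Subgroup SL2) ≤ L.comap D := fun h hh => hSL (hST (pair_mem hh hh))
    rcases normalizer_cases hodd Q ⟨x₀, hx₀, y₀, hy₀, hxy₀⟩ with hA | ⟨u, hu, v, hv, huu, hvv, hanti, hall⟩
    · obtain ⟨s, hs, hsb⟩ := hA b hbQ
      have hc : ∀ x ∈ (Q : Subgroup SL2), (s⁻¹ * b) * x * (s⁻¹ * b)⁻¹ = x := by
        intro x hx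
        calc (s⁻¹ * b) * x * (s⁻¹ * b)⁻¹ = s⁻¹ * (b * x * b⁻¹) * s := by group
          _ = x := by rw [hsb x hx]; group
      have : s⁻¹ * b ∈ L.comap D := by
        refine hCL _ ?_
        intro y hy
        obtain ⟨t, rfl⟩ := hπs y
        obtain ⟨c, hcQ, d, hdQ, rfl | rfl⟩ := hTS hy
        · rw [hD, ← map_inv π, ← map_mul, ← map_mul, ← map_inv pair, ← map_mul, ← map_mul]
          simp only [Prod.inv_mk, Prod.mk_mul_mk, hc c hcQ, hc d hdQ]
        · rw [hD, ← map_inv π, ← map_mul, ← map_mul, ← map_inv pair, ← mul_assoc, ← map_mul,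
            mul_assoc, sig_mul_pair, ← mul_assoc, ← map_mul]
          simp only [Prod.inv_mk, Prod.swap, Prod.mk_mul_mk, hc c hcQ, hc d hdQ]
      have := (L.comap D).mul_mem (hQL hs) this
      simpa using this
    · -- quaternion case
      have huv : u * v = negOne * (v * u) := anti_comm h2 hanti
      have hvvu : v * (u * v) = u := by
        rw [← mul_assoc, hanti, mul_assoc negOne, mul_assoc u, hvv, ← cN u, ← mul_assoc, negOne_sq, one_mul]
      have huuv : u * (u * v) = negOne * v := by rw [← mul_assoc, huu]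
      have hww : (u * v) * (u * v) = negOne := by rw [mul_assoc, hvvu, huu]
      have hwv : (u * v) * v = negOne * (v * (u * v)) := by
        rw [hvvu, mul_assoc, hvv, cN u]
      have hwu : (u * v) * u = v := by
        rw [huv, mul_assoc, mul_assoc, huu, ← cN v, ← mul_assoc, negOne_sq, one_mul]
      -- Q modulo ±1 is elementary abelian
      have hsgn : ∀ x ∈ (Q : Subgroup SL2), x * x = 1 ∨ x * x = negOne := by
        intro x hx
        obtain ⟨y, hy, hxy⟩ := hall x hx
        have hyy : y * y = 1 ∨ y * y = negOne := by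
          rcases hy with e | e | e | e <;> rw [e]
          · exact Or.inl (one_mul _)
          · exact Or.inr huu
          · exact Or.inr hvv
          · exact Or.inr hww
        have : x * x = y * y := by
          rcases hxy with e | e <;> rw [e]
          rw [mul_assoc, ← mul_assoc y, ← cN y, mul_assoc negOne y y, ← mul_assoc, negOne_sq, one_mul]
        rw [this]; exact hyy
      have hinvQ : ∀ x ∈ (Q : Subgroup SL2), x⁻¹ = x ∨ x⁻¹ = negOne * x := by
        intro x hx
        rcases hsgn x hx with e | e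
        · exact Or.inl (inv_eq_of_mul_eq_one_right e)
        · exact Or.inr (inv_eq_of_mul_eq_one_right (by rw [← mul_assoc, ← cN x, mul_assoc, e, negOne_sq]))
      have hcomQ : ∀ x ∈ (Q : Subgroup SL2), ∀ y ∈ (Q : Subgroup SL2), ∃ ε : SL2,
          (ε = 1 ∨ ε = negOne) ∧ x * y = ε * (y * x) := by
        intro x hx y hy
        refine ⟨(x * y) * (x * y) * (x * x)⁻¹ * (y * y)⁻¹, ?_, ?_⟩
        · rcases hsgn _ (mul_mem hx hy) with e | e <;> rcases hsgn x hx with e' | e' <;>
            rcases hsgn y hy with e'' | e'' <;> rw [e, e', e''] <;>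
            simp [inv_eq_of_mul_eq_one_right negOne_sq, negOne_sq]
        · have hc : ∀ w ∈ (Q : Subgroup SL2), ∀ r : SL2, (w * w)⁻¹ * r = r * (w * w)⁻¹ := by
            intro w hw r
            rcases hsgn w hw with e | e <;> rw [e]
            · simp
            · rw [inv_eq_of_mul_eq_one_right negOne_sq]; exact cN r
          calc x * y = x * y * (x * ((x * x)⁻¹ * (y * ((y * y)⁻¹ * (y * x))))) := by group
            _ = _ := by
              rw [← mul_assoc ((x * x)⁻¹) y, hc x hx y, mul_assoc y]
              group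
      -- the subgroup generated by the involutions z, sig and diag(a, a)
      let dg : ↥(Q : Subgroup SL2) → G0 := fun a => pair ((a : SL2), (a : SL2))
      let T₈ : Subgroup G0 := Subgroup.closure (Set.range dg ∪ {z, sig})
      have hT₈T : T₈ ≤ T := (Subgroup.closure_le _).mpr (by
        rintro x (⟨a, rfl⟩ | rfl | rfl)
        · exact pair_mem a.2 a.2
        · exact hzT
        · exact sig_mem _)
      have hgdg : ∀ x ∈ (Q : Subgroup SL2), pair (x, x) ∈ T₈ := fun x hx =>
        Subgroup.subset_closure (Or.inl ⟨⟨x, hx⟩, rfl⟩)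
      have hgz : z ∈ T₈ := Subgroup.subset_closure (Or.inr (Or.inl rfl))
      have hgs : (sig : G0) ∈ T₈ := Subgroup.subset_closure (Or.inr (Or.inr rfl))
      have hNT₈ : N ∈ T₈ := hgdg _ hQN
      have hpair₈ : ∀ x ∈ (Q : Subgroup SL2), ∀ ε : SL2, ε = 1 ∨ ε = negOne → pair (x, ε * x) ∈ T₈ := by
        intro x hx ε hε
        rcases hε with rfl | rfl
        · rw [one_mul]; exact hgdg x hx
        · have := T₈.mul_mem hgz (hgdg x hx)
          rw [hz, ← map_mul] at this
          simpa using this
      have hnorm₈ : ∀ (m : G0), (∀ x ∈ Set.range dg ∪ {z, sig}, m * x * m⁻¹ ∈ T₈) →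
          ∀ x ∈ T₈, m * x * m⁻¹ ∈ T₈ := by
        intro m hm x hx
        exact (Subgroup.closure_le (K := T₈.comap (MulAut.conj m).toMonoidHom)).mpr hm hx
      -- T normalises T₈
      have hTn : ∀ t ∈ T, ∀ x ∈ T₈, t * x * t⁻¹ ∈ T₈ := by
        have hstep : ∀ c ∈ (Q : Subgroup SL2), ∀ d ∈ (Q : Subgroup SL2), ∀ x ∈ T₈,
            pair (c, d) * x * (pair (c, d))⁻¹ ∈ T₈ := by
          intro c hc d hd
          apply hnorm₈
          rintro x (⟨⟨w, hw⟩, rfl⟩ | rfl | rfl)
          · rw [← map_inv, ← map_mul, ← map_mul]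
            simp only [Prod.inv_mk, Prod.mk_mul_mk]
            obtain ⟨ε, hε, he⟩ := hcomQ c hc w hw
            obtain ⟨δ, hδ, hd'⟩ := hcomQ d hd w hw
            rw [he, hd']
            simp only [mul_assoc, mul_inv_cancel, mul_one]
            rcases hε with rfl | rfl
            · rw [one_mul]; exact hpair₈ w hw δ hδ
            · have := T₈.mul_mem hNT₈ (hpair₈ w hw (negOne * δ) (by
                rcases hδ with rfl | rfl
                · exact Or.inr (mul_one _)
                · exact Or.inl negOne_sq))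
              rw [hN, ← map_mul] at this
              simpa [← mul_assoc, negOne_sq] using this
          · rw [hz, ← map_inv, ← map_mul, ← map_mul]
            simp only [Prod.inv_mk, Prod.mk_mul_mk, mul_one, mul_inv_cancel, ← cN d, mul_assoc]
            exact hgz
          · rw [← map_inv, mul_assoc, sig_mul_pair, ← mul_assoc, ← map_mul]
            simp only [Prod.inv_mk, Prod.mk_mul_mk]
            refine T₈.mul_mem ?_ hgs
            rcases hinvQ _ (mul_mem hc (inv_mem hd)) with e | e <;> rw [_root_.mul_inv_rev, inv_inv] at e <;> rw [e]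
            · simpa using hpair₈ _ (mul_mem hc (inv_mem hd)) 1 (Or.inl rfl)
            · exact hpair₈ _ (mul_mem hc (inv_mem hd)) negOne (Or.inr rfl)
        rintro t ⟨c, hc, d, hd, rfl | rfl⟩ x hx
        · exact hstep c hc d hd x hx
        · have h1 : sig * x * (sig : G0)⁻¹ ∈ T₈ := T₈.mul_mem (T₈.mul_mem hgs hx) (T₈.inv_mem hgs)
          have := hstep c hc d hd _ h1
          simpa [mul_assoc] using this
      set R : Subgroup G := T₈.map π with hR
      have hRS : R ≤ (S : Subgroup G) := by rintro _ ⟨x, hx, rfl⟩; exact hST (hT₈T hx)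
      have hSR : (S : Subgroup G) ≤ Subgroup.normalizer (R : Set G) := by
        intro y hy
        obtain ⟨t, rfl⟩ := hπs y
        refine Cfsg.Agent.Lib.PSLTwo.Sylow.mem_normalizer_of_conj_mem ?_
        rintro _ ⟨x, hx, rfl⟩
        exact ⟨_, hTn t (hTS hy) x hx, by simp⟩
      have hRn : (Cfsg.groupFusionSystem (S : Subgroup G)).IsFullyNormalized R := by
        refine ⟨hRS, fun P hP => ?_⟩
        have e : normalizerIn (S : Subgroup G) R = (S : Subgroup G) := inf_eq_left.mpr hSR
        rw [e]; exact Subgroup.card_le_of_le inf_le_left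
      have hab₈ : ∀ x ∈ R, ∀ y ∈ R, x * y = y * x := by
        have hgen : ∀ x ∈ Set.range dg ∪ {z, sig}, ∀ y ∈ Set.range dg ∪ {z, sig}, π x * π y = π y * π x := by
          have e1 : ∀ w : SL2, π z * π (pair (w, w)) = π (pair (w, w)) * π z := by
            intro w; rw [hz, ← map_mul, ← map_mul, ← map_mul, ← map_mul]; simp [cN]
          have e2 : ∀ w : SL2, π sig * π (pair (w, w)) = π (pair (w, w)) * π sig := by
            intro w; rw [← map_mul, ← map_mul, sig_mul_pair]
          have e3 : π z * π (sig : G0) = π sig * π z := by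
            have hzs : (sig : G0) * z = N * (z * sig) := by
              rw [hz, hN, sig_mul_pair, ← mul_assoc, ← map_mul]; simp [negOne_sq]
            rw [← map_mul π sig, hzs, map_mul π N, hπN, one_mul, map_mul]
          rintro x (⟨⟨w, hw⟩, rfl⟩ | rfl | rfl) y (⟨⟨w', hw'⟩, rfl⟩ | rfl | rfl)
          · obtain ⟨ε, hε, he⟩ := hcomQ w hw w' hw'
            have e0 : π (pair (ε, ε)) = 1 := by
              rcases hε with rfl | rfl
              · exact (hker _).mpr (Or.inl (map_one pair))
              · exact hπN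
            rw [← map_mul, ← map_mul, ← map_mul, ← map_mul]
            simp only [Prod.mk_mul_mk, he]
            rw [show ((ε * (w' * w), ε * (w' * w)) : SL2 × SL2) = (ε, ε) * (w' * w, w' * w) from rfl,
              map_mul, map_mul, e0, one_mul]
          · exact (e1 w).symm
          · exact (e2 w).symm
          · exact e1 w'
          · rfl
          · exact e3
          · exact e2 w'
          · exact e3.symm
          · rfl
        rintro _ ⟨x, hx, rfl⟩ _ ⟨y, hy, rfl⟩
        have hy' : ∀ x' ∈ Set.range dg ∪ {z, sig}, π x' * π y = π y * π x' := by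
          intro x' hx'
          exact (Subgroup.closure_le (K := (Subgroup.centralizer {π x'}).comap π)).mpr
            (fun y' hy' => Subgroup.mem_centralizer_singleton_iff.mpr (hgen y' hy' x' hx'))
            hy |> Subgroup.mem_centralizer_singleton_iff.mp |> Eq.symm
        exact ((Subgroup.closure_le (K := (Subgroup.centralizer {π y}).comap π)).mpr
            (fun x' hx' => Subgroup.mem_centralizer_singleton_iff.mpr (hy' x' hx')) hx
            |> Subgroup.mem_centralizer_singleton_iff.mp)
      have hCR : centralizerIn (S : Subgroup G) R ≤ R := by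
        intro y hy
        obtain ⟨hyS, hyc⟩ := Cfsg.Agent.Lib.FS.mem_centralizerIn'.mp hy
        obtain ⟨t, rfl⟩ := hπs y
        have hs := hyc (π sig) ⟨sig, hgs, rfl⟩
        rw [← map_inv, ← map_mul, ← map_mul] at hs
        obtain ⟨c, hc, d, hd, ht⟩ := hTS hyS
        have key : ∀ c d : SL2, c ∈ (Q : Subgroup SL2) → d ∈ (Q : Subgroup SL2) →
            pair (c, d) * (sig : G0) * (pair (c, d))⁻¹ = sig ∨ pair (c, d) * (sig : G0) * (pair (c, d))⁻¹ = N * sig →
            pair (c, d) ∈ T₈ := by
          intro c d hc hd h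
          have e : pair (c, d) * (sig : G0) * (pair (c, d))⁻¹ = pair (c * d⁻¹, d * c⁻¹) * sig := by
            rw [← map_inv, mul_assoc, sig_mul_pair, ← mul_assoc, ← map_mul]; rfl
          rw [e] at h
          rcases h with h | h
          · have h' : pair (c * d⁻¹, d * c⁻¹) = (1 : G0) := mul_eq_right.mp h
            have := (pair_inj (h'.trans (map_one pair).symm)).1
            rw [mul_inv_eq_one] at this
            subst this
            simpa using hpair₈ c hc 1 (Or.inl rfl)
          · have := (pair_inj (mul_right_cancel h)).2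
            rw [mul_inv_eq_iff_eq_mul] at this
            rw [this]
            exact hpair₈ c hc negOne (Or.inr rfl)
        rcases ht with rfl | rfl
        · exact ⟨_, key c d hc hd (hπeq hs), rfl⟩
        · refine ⟨_, T₈.mul_mem (key c d hc hd ?_) hgs, rfl⟩
          have e : pair (c, d) * sig * sig * (pair (c, d) * (sig : G0))⁻¹ =
              pair (c, d) * sig * (pair (c, d))⁻¹ := by group
          rw [e] at hs
          exact hπeq hs
      have hRc : (Cfsg.groupFusionSystem (S : Subgroup G)).IsCentric R := by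
        have hfc := (Cfsg.Agent.Lib.FS.fullyNormalized_props S.isPGroup'
          (Cfsg.Agent.Lib.FS.isSaturated_group S) hRn).1
        refine ⟨hRS, fun P hP => ?_⟩
        have hle := hfc.2 P hP
        obtain ⟨-, hPS, c, hc⟩ := Cfsg.Agent.Lib.FS.group_isConj_iff.mp hP
        have hPP : P ≤ centralizerIn (S : Subgroup G) P := by
          intro y hy
          refine Cfsg.Agent.Lib.FS.mem_centralizerIn'.mpr ⟨hPS hy, fun x hx => ?_⟩
          rw [← hc] at hx hy
          obtain ⟨x', hx', rfl⟩ := hx
          obtain ⟨y', hy', rfl⟩ := hy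
          rw [← map_inv, ← map_mul, ← map_mul, hab₈ y' hy' x' hx', mul_inv_cancel_right]
        have hcard : Nat.card (centralizerIn (S : Subgroup G) P) ≤ Nat.card P := by
          refine hle.trans ?_
          rw [← hc, Subgroup.card_map_of_injective (MulAut.conj c).injective]
          exact Subgroup.card_le_of_le hCR
        exact (Subgroup.eq_of_le_of_card_ge hPP hcard).ge
      -- the two extra involutions
      have hmk : ∀ p q : SL2, p * p = negOne → q * q = negOne → q * p = negOne * (p * q) →
          ((2 : F)⁻¹ • (p.1 + q.1)).det + ((2 : F)⁻¹ • (p.1 + q.1)).det = 1 := by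
        intro p q hp hq hpq
        have hsum : (p.1 + q.1) * (p.1 + q.1) = (-2 : F) • (1 : M2) := by
          have e1 : p.1 * p.1 = -1 := by rw [← negOne_val, ← hp]; rfl
          have e2 : q.1 * q.1 = -1 := by rw [← negOne_val, ← hq]; rfl
          have e3 : q.1 * p.1 = -(p.1 * q.1) := by
            calc q.1 * p.1 = (negOne * (p * q)).1 := congrArg Subtype.val hpq
              _ = _ := by
                show negOne.1 * (p.1 * q.1) = _
                rw [negOne_val, neg_mul, one_mul]
          rw [add_mul, mul_add, mul_add, e1, e2, e3, neg_smul, two_smul]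
          abel
        have hd := congrArg Matrix.det hsum
        rw [det_mul, det_smul] at hd
        simp at hd
        have tr : ∀ w : SL2, w * w = negOne → w.1 0 0 + w.1 1 1 = 0 := by
          intro w hw
          have e01 := congrArg (fun g : SL2 => g.1 0 1) hw
          have e00 := congrArg (fun g : SL2 => g.1 0 0) hw
          have e10 := congrArg (fun g : SL2 => g.1 1 0) hw
          simp [Cfsg.Agent.Lib.PSLTwo.Sylow.mul_apply'] at e01 e00 e10
          by_contra hne
          have hb : w.1 0 1 = 0 := (mul_eq_zero.mp (show w.1 0 1 * (w.1 0 0 + w.1 1 1) = 0 by linear_combination e01)).resolve_right hne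
          have hc' : w.1 1 0 = 0 := (mul_eq_zero.mp (show w.1 1 0 * (w.1 0 0 + w.1 1 1) = 0 by linear_combination e10)).resolve_right hne
          have hdw := det_eq w
          rw [hb, hc'] at hdw
          rw [hb] at e00
          exact hne (by linear_combination (w.1 1 1) * e00 - w.1 0 0 * hdw)
        have s00 := congrFun (congrFun hsum 0) 0
        simp [Matrix.mul_apply, Fin.sum_univ_two] at s00
        rw [Matrix.det_fin_two]
        simp only [Matrix.smul_apply, Matrix.add_apply, smul_eq_mul]
        have hi : (2 : F) * (2 : F)⁻¹ = 1 := mul_inv_cancel₀ h2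
        linear_combination (-(2 * (2 : F)⁻¹ * (2 : F)⁻¹)) * s00 +
          (2 * (2 : F)⁻¹ * (2 : F)⁻¹ * (p.1 0 0 + q.1 0 0)) * (tr p hp) +
          (2 * (2 : F)⁻¹ * (2 : F)⁻¹ * (p.1 0 0 + q.1 0 0)) * (tr q hq) + (2 * (2 : F)⁻¹ + 1) * hi
      set u₁ : M2 := (2 : F)⁻¹ • (u.1 + v.1) with hu₁d
      set u₂ : M2 := (2 : F)⁻¹ • (v.1 + (u * v).1) with hu₂d
      have h₁ := hmk u v huu hvv hanti
      have h₂ := hmk v (u * v) hvv hww hwv
      have hmv : ∀ p q : SL2, q * p = negOne * (p * q) → p * p = negOne → q * q = negOne →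
          ((2 : F)⁻¹ • (p.1 + q.1)) * p.1 = q.1 * ((2 : F)⁻¹ • (p.1 + q.1)) ∧
          ((2 : F)⁻¹ • (p.1 + q.1)) * q.1 = p.1 * ((2 : F)⁻¹ • (p.1 + q.1)) := by
        intro p q hpq hp hq
        have e1 : p.1 * p.1 = -1 := by rw [← negOne_val, ← hp]; rfl
        have e2 : q.1 * q.1 = -1 := by rw [← negOne_val, ← hq]; rfl
        constructor <;> rw [smul_mul_assoc, mul_smul_comm, add_mul, mul_add, e1, e2] <;> congr 1 <;> abel
      have hmix : ∀ (p q r : SL2) (hd), (∀ x ∈ ({1, p, q, r} : Set SL2), x ∈ (Q : Subgroup SL2)) →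
          r = p * q → q * p = negOne * (p * q) → p * p = negOne → q * q = negOne →
          (∀ x ∈ (Q : Subgroup SL2), ∃ y ∈ ({1, p, q, r} : Set SL2), x = y ∨ x = negOne * y) →
          π (mix ((2 : F)⁻¹ • (p.1 + q.1)) hd) ∈
            {g : G | g ∈ Subgroup.normalizer (R : Set G) ∧ ∃ k : ℕ, orderOf g = 2 ^ k} := by
        intro p q r hd hmemQ hr hpq hp hq hall'
        set w : M2 := (2 : F)⁻¹ • (p.1 + q.1) with hw
        obtain ⟨hwp, hwq⟩ := hmv p q hpq hp hq
        set k := mix w hd
        have hsq : k * k = N := by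
          apply Subtype.ext
          show emb w w w (-w) * emb w w w (-w) = N.1
          have e1 : p.1 * p.1 = -1 := by rw [← negOne_val, ← hp]; rfl
          have e2 : q.1 * q.1 = -1 := by rw [← negOne_val, ← hq]; rfl
          have e3 : q.1 * p.1 = -(p.1 * q.1) := by
            calc q.1 * p.1 = (negOne * (p * q)).1 := congrArg Subtype.val hpq
              _ = _ := by
                show negOne.1 * (p.1 * q.1) = _
                rw [negOne_val, neg_mul, one_mul]
          have hw2 : w * w + w * w = -1 := by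
            rw [hw, smul_mul_smul_comm, ← two_smul F ((_ : F) • (_ : M2)), smul_smul, add_mul, mul_add,
              mul_add, e1, e2, e3, show -1 + p.1 * q.1 + (-(p.1 * q.1) + -1) = (-2 : F) • (1 : M2) by
                rw [neg_smul, two_smul]; abel, smul_smul]
            rw [show (2 : F) * ((2 : F)⁻¹ * (2 : F)⁻¹) * -2 = -1 by field_simp, neg_one_smul]
          rw [emb_mul, mul_neg, neg_mul, neg_mul_neg, add_neg_cancel, hw2, hN, pair_val, negOne_val]
        have hkpair : ∀ x x' : SL2, w * x.1 = x'.1 * w → k * pair (x, x) * k⁻¹ = pair (x', x') := by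
          intro x x' e
          rw [mul_inv_eq_iff_eq_mul]
          apply Subtype.ext
          show emb w w w (-w) * emb x.1 0 0 x.1 = emb x'.1 0 0 x'.1 * emb w w w (-w)
          rw [emb_mul, emb_mul]; simp [e]
        have hkz : k * z * k⁻¹ = sig := by rw [hz, mix_conj, mul_inv_cancel_right]
        have hks : k * sig * k⁻¹ = z := by
          calc k * sig * k⁻¹ = k * (k * z * k⁻¹) * k⁻¹ := by rw [hkz]
            _ = (k * k) * z * (k * k)⁻¹ := by group
            _ = z := by rw [hsq, hNc, mul_inv_cancel_right]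
        refine ⟨?_, horder _ ?_⟩
        · refine Cfsg.Agent.Lib.PSLTwo.Sylow.mem_normalizer_of_conj_mem ?_
          rintro _ ⟨x, hx, rfl⟩
          refine ⟨k * x * k⁻¹, hnorm₈ k ?_ x hx, by simp⟩
          rintro x (⟨⟨y, hy⟩, rfl⟩ | rfl | rfl)
          · obtain ⟨y', hy', hyy⟩ := hall' y hy
            obtain ⟨x', hx', e⟩ : ∃ x' ∈ (Q : Subgroup SL2), w * y'.1 = x'.1 * w := by
              rcases hy' with e0 | e0 | e0 | e0 <;> rw [e0]
              · exact ⟨1, one_mem _, by simp⟩
              · exact ⟨q, hmemQ q (by simp), hwp⟩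
              · exact ⟨p, hmemQ p (by simp), hwq⟩
              · refine ⟨q * p, mul_mem (hmemQ q (by simp)) (hmemQ p (by simp)), ?_⟩
                rw [hr, Matrix.SpecialLinearGroup.coe_mul, Matrix.SpecialLinearGroup.coe_mul, ← mul_assoc,
                  hwp, mul_assoc, hwq, ← mul_assoc]
            have hk' := hkpair y' x' e
            show k * pair (y, y) * k⁻¹ ∈ T₈
            rcases hyy with e0 | e0 <;> rw [e0]
            · rw [hk']; exact hgdg x' hx'
            · rw [show pair (negOne * y', negOne * y') = N * pair (y', y') by rw [hN, ← map_mul]; rfl,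
                ← mul_assoc, ← hNc, mul_assoc N, mul_assoc N, hk']
              exact T₈.mul_mem hNT₈ (hgdg x' hx')
          · rw [hkz]; exact hgs
          · rw [hks]; exact hgz
        · rw [← map_pow, show k ^ 4 = (k * k) * (k * k) by simp only [pow_succ, pow_zero, one_mul, mul_assoc],
            hsq, map_mul, hπN, one_mul]
      have hk₁ : π (mix u₁ h₁) ∈ _ := hmix u v (u * v) h₁ (by
          rintro x (rfl | rfl | rfl | rfl)
          exacts [one_mem _, hu, hv, mul_mem hu hv]) rfl hanti huu hvv (fun x hx => hall x hx)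
      have hk₂ : π (mix u₂ h₂) ∈ _ := hmix v (u * v) u h₂ (by
          rintro x (rfl | rfl | rfl | rfl)
          exacts [one_mem _, hv, mul_mem hu hv, hu]) hvvu.symm hwv hvv hww (fun x hx => by
          obtain ⟨y, hy, hxy⟩ := hall x hx
          refine ⟨y, ?_, hxy⟩
          rcases hy with rfl | rfl | rfl | rfl <;> simp)
      -- their product
      have hωdet : ((2 : F) • (u₁ * u₂)).det = 1 := by
        rw [det_smul, det_mul, Fintype.card_fin]
        linear_combination (2 * u₂.det) * h₁ + h₂
      let ω : SL2 := ⟨(2 : F) • (u₁ * u₂), hωdet⟩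
      have hω : mix u₁ h₁ * mix u₂ h₂ = pair (ω, ω) := by
        apply Subtype.ext
        show emb u₁ u₁ u₁ (-u₁) * emb u₂ u₂ u₂ (-u₂) = emb ((2 : F) • (u₁ * u₂)) 0 0 ((2 : F) • (u₁ * u₂))
        rw [emb_mul, two_smul]; simp
      obtain ⟨f1, f2⟩ : u₁ * u.1 = v.1 * u₁ ∧ u₁ * v.1 = u.1 * u₁ := hmv u v hanti huu hvv
      obtain ⟨g1, g2⟩ : u₂ * v.1 = (u * v).1 * u₂ ∧ u₂ * (u * v).1 = v.1 * u₂ := hmv v (u * v) hwv hvv hww
      have hnval : ∀ x : SL2, (negOne * x).1 = -x.1 := fun x => by
        rw [Matrix.SpecialLinearGroup.coe_mul, negOne_val, neg_mul, one_mul]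
      have g3 : u₂ * u.1 = -(u.1 * u₂) := by
        have e1 : v.1 * u.1 = -(u.1 * v.1) := by
          rw [← Matrix.SpecialLinearGroup.coe_mul, hanti, hnval]; rfl
        have e2 : (u * v).1 * u.1 = v.1 := by rw [← Matrix.SpecialLinearGroup.coe_mul, hwu]
        have e3 : u.1 * (u * v).1 = -v.1 := by rw [← Matrix.SpecialLinearGroup.coe_mul, huuv, hnval]
        have e4 : u.1 * v.1 = (u * v).1 := rfl
        rw [hu₂d, smul_mul_assoc, mul_smul_comm, ← smul_neg, add_mul, mul_add, e1, e2, e3, e4]
        congr 1; abel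
      have f3 : u₁ * (u * v).1 = -((u * v).1 * u₁) := by
        calc u₁ * (u * v).1 = (u₁ * u.1) * v.1 := (mul_assoc _ _ _).symm
          _ = (v.1 * u.1) * u₁ := by rw [f1, mul_assoc, f2, ← mul_assoc]
          _ = _ := by rw [← Matrix.SpecialLinearGroup.coe_mul, hanti, hnval, neg_mul]
      have hω1 : ω * u = negOne * (v * ω) := by
        apply Subtype.ext
        rw [hnval, Matrix.SpecialLinearGroup.coe_mul, Matrix.SpecialLinearGroup.coe_mul]
        show (2 : F) • (u₁ * u₂) * u.1 = -(v.1 * ((2 : F) • (u₁ * u₂)))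
        have hgen : ∀ A B : M2, A * u.1 = v.1 * A → B * u.1 = -(u.1 * B) →
            (2 : F) • (A * B) * u.1 = -(v.1 * ((2 : F) • (A * B))) := fun A B eA eB => by
          rw [smul_mul_assoc, mul_smul_comm, ← smul_neg, mul_assoc, eB, mul_neg, ← mul_assoc A, eA, mul_assoc]
        exact hgen u₁ u₂ f1 g3
      have hω2 : ω * v = negOne * (u * v * ω) := by
        apply Subtype.ext
        rw [hnval, Matrix.SpecialLinearGroup.coe_mul, Matrix.SpecialLinearGroup.coe_mul (u * v) ω]
        show (2 : F) • (u₁ * u₂) * v.1 = -((u * v).1 * ((2 : F) • (u₁ * u₂)))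
        have hgen : ∀ A B W : M2, B * v.1 = W * B → A * W = -(W * A) →
            (2 : F) • (A * B) * v.1 = -(W * ((2 : F) • (A * B))) := fun A B W eB eA => by
          rw [smul_mul_assoc, mul_smul_comm, ← smul_neg, mul_assoc, eB, ← mul_assoc A, eA, neg_mul, mul_assoc]
        exact hgen u₁ u₂ _ g1 f3
      have hωN : π (pair (ω, ω)) ∈ Subgroup.normalizer ((S : Subgroup G) : Set G) := by
        have hωQ : ∀ x ∈ (Q : Subgroup SL2), ω * x * ω⁻¹ ∈ (Q : Subgroup SL2) := by
          intro x hx
          obtain ⟨y, hy, hxy⟩ := hall x hx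
          have hy' : ω * y * ω⁻¹ ∈ (Q : Subgroup SL2) := by
            have m1 : ω * u * ω⁻¹ ∈ (Q : Subgroup SL2) := by
              rw [hω1, ← mul_assoc, mul_inv_cancel_right]; exact mul_mem hQN hv
            have m2 : ω * v * ω⁻¹ ∈ (Q : Subgroup SL2) := by
              rw [hω2, ← mul_assoc, mul_inv_cancel_right]; exact mul_mem hQN (mul_mem hu hv)
            rcases hy with e | e | e | e <;> rw [e]
            · simp
            · exact m1
            · exact m2
            · have := mul_mem m1 m2
              rwa [show ω * u * ω⁻¹ * (ω * v * ω⁻¹) = ω * (u * v) * ω⁻¹ by group] at this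
          rcases hxy with e | e <;> rw [e]
          · exact hy'
          · rw [← mul_assoc ω, ← cN ω, mul_assoc negOne, mul_assoc negOne]
            exact mul_mem hQN hy'
        refine Cfsg.Agent.Lib.PSLTwo.Sylow.mem_normalizer_of_conj_mem fun y hy => ?_
        obtain ⟨t, rfl⟩ := hπs y
        rw [← map_inv, ← map_mul, ← map_mul]
        refine hST ?_
        obtain ⟨c, hc, d, hd, rfl | rfl⟩ := hTS hy
        · rw [← map_inv, ← map_mul, ← map_mul]
          exact pair_mem (hωQ c hc) (hωQ d hd)
        · rw [← map_inv, ← mul_assoc, ← map_mul, mul_assoc, sig_mul_pair, ← mul_assoc, ← map_mul]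
          exact T.mul_mem (pair_mem (hωQ c hc) (hωQ d hd)) (sig_mem _)
      have hωL : ω ∈ L.comap D := by
        show D ω ∈ L
        rw [hD]
        refine hinL R hRn hRc _ hωN ?_
        rw [← hω, map_mul]
        exact mul_mem (Subgroup.subset_closure hk₁) (Subgroup.subset_closure hk₂)
      exact quat_normalizer hodd Q hu hv huu hvv hanti hall hω1 hω2 _ hQL hωL b hbQ

/-- For a finite field F of odd order, the 2-fusion system of the projective symplectic group PSp(4,F) on a Sylow 2-subgroup is simple. -/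
theorem result {F : Type*} [Field F] [Fintype F] (hodd : Fintype.card F % 2 = 1) (S : Sylow 2 (Cfsg.PSp 2 F)) :
    (Cfsg.groupFusionSystem (S : Subgroup (Cfsg.PSp 2 F))).IsSimple 2 := by
  classical
  haveI : Fact (Nat.Prime 2) := ⟨Nat.prime_two⟩
  obtain ⟨Q, hQ⟩ := exists_noncommuting_sylow (F := F) hodd
  haveI : Finite (Matrix.symplecticGroup (Fin 2) F) := inferInstance
  let π₀ : Matrix.symplecticGroup (Fin 2) F →* Cfsg.PSp 2 F :=
    QuotientGroup.mk' (Subgroup.center (Matrix.symplecticGroup (Fin 2) F))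
  have hπ₀ : Function.Surjective π₀ := QuotientGroup.mk'_surjective _
  haveI : Finite (Cfsg.PSp 2 F) := Finite.of_surjective π₀ hπ₀
  let T₀ : Sylow 2 (Matrix.symplecticGroup (Fin 2) F) :=
    (isPGroup_wreath Q.isPGroup').toSylow (wreath_index hodd Q)
  obtain ⟨g, hg⟩ := MulAction.exists_smul_eq (Cfsg.PSp 2 F) (T₀.mapSurjective hπ₀) S
  refine isSimple_of_hom hodd ((MulAut.conj g).toMonoidHom.comp π₀)
    ((MulAut.conj g).surjective.comp hπ₀) (fun x => ?_) Q hQ S ?_
  · rw [MonoidHom.comp_apply, MulEquiv.coe_toMonoidHom, EmbeddingLike.map_eq_one_iff]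
    exact (QuotientGroup.eq_one_iff x).trans mem_center_iff'
  · rw [← hg, ← Subgroup.map_map]
    rfl

end Cfsg.Agent.S5320
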