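import Cfsg.Statements.S5326
import Cfsg.Agent.Lib.FusionEssential.Proper

set_option autoImplicit false
open Cfsg

namespace Cfsg.Agent.S5326

/-- Let F be a saturated fusion system over a finite p-group S and Q an essential subgroup. Then the F-conjugacy class of Q cannot be left out of a generating family: there is a fusion system E over S whose automorphism group of every subgroup R ≤ S not F-conjugate to Q contains Aut_F(R), and yet E does not contain every map of F. -/
theorem result {Ω : Type*} [Group Ω] {S : Subgroup Ω} [Finite S] (p : ℕ) [Fact p.Prime] (hS : IsPGroup p S) (F : Cfsg.FusionSystem S) (hF : F.IsSaturated p) (Q : Subgroup Ω) (hQ : F.IsEssential p Q) : ∃ E : Cfsg.FusionSystem S, (∀ R : Subgroup Ω, R ≤ S → ¬ F.IsConj Q R → F.autGroup R ≤ E.autGroup R) ∧ ¬ F ≤ E := by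
  obtain ⟨E, hE, -, hne⟩ := Cfsg.Agent.Lib.FusionEssential.exists_proper_of_essential hS hF hQ
  refine ⟨E, fun R hR hRQ => ?_, hne⟩
  intro a ha
  rw [Cfsg.Agent.Lib.FS.mem_autGroup hR] at ha ⊢
  exact hE R (fun h => hRQ (Cfsg.Agent.Lib.FS.isConj_symm h)) ha

end Cfsg.Agent.S5326
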