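import Cfsg.Statements.S5327
import Cfsg.Agent.S5326
import Cfsg.Agent.Lib.FusionSystem.Essential

set_option autoImplicit false
open Cfsg

namespace Cfsg.Agent.S5327

/-- Let F be a saturated fusion system over a finite p-group S. Call a family of subgroups of S generating when every fusion system over S whose automorphism group of each member R contains Aut_F(R) contains every map of F. If two families are each closed under F-conjugacy and each generating, then their intersection is generating. -/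
theorem result {Ω : Type*} [Group Ω] {S : Subgroup Ω} [Finite S] (p : ℕ) [Fact p.Prime] (hS : IsPGroup p S) (F : Cfsg.FusionSystem S) (hF : F.IsSaturated p) (𝒬₁ 𝒬₂ : Set (Subgroup Ω)) (h₁ : ∀ R ∈ 𝒬₁, ∀ R' : Subgroup Ω, F.IsConj R R' → R' ∈ 𝒬₁) (h₂ : ∀ R ∈ 𝒬₂, ∀ R' : Subgroup Ω, F.IsConj R R' → R' ∈ 𝒬₂) (hg₁ : ∀ E : Cfsg.FusionSystem S, (∀ R ∈ 𝒬₁, F.autGroup R ≤ E.autGroup R) → F ≤ E) (hg₂ : ∀ E : Cfsg.FusionSystem S, (∀ R ∈ 𝒬₂, F.autGroup R ≤ E.autGroup R) → F ≤ E) (E : Cfsg.FusionSystem S) (hE : ∀ R ∈ 𝒬₁ ∩ 𝒬₂, F.autGroup R ≤ E.autGroup R) : F ≤ E := by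
  classical
  have key : ∀ 𝒬 : Set (Subgroup Ω), (∀ R ∈ 𝒬, ∀ R' : Subgroup Ω, F.IsConj R R' → R' ∈ 𝒬) →
      (∀ E : Cfsg.FusionSystem S, (∀ R ∈ 𝒬, F.autGroup R ≤ E.autGroup R) → F ≤ E) →
      (∀ Q, F.IsEssential p Q → Q ∈ 𝒬) ∧ (S ∈ 𝒬 ∨ F.autGroup S ≤ (Cfsg.innerFusionSystem S).autGroup S) := by
    intro 𝒬 hcl hgen
    refine ⟨fun Q hQ => ?_, ?_⟩
    · by_contra hQ'
      obtain ⟨E', hE', hne⟩ := Cfsg.Agent.S5326.result p hS F hF Q hQ
      refine hne (hgen E' fun R hR => ?_)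
      by_cases hRS : R ≤ S
      · exact hE' R hRS fun hc => hQ' (hcl R hR Q (Cfsg.Agent.Lib.FS.isConj_symm hc))
      · refine (Subgroup.closure_le _).2 fun α hα => ?_
        exact absurd (Cfsg.Agent.Lib.FS.src_le hα) hRS
    · by_cases hSQ : S ∈ 𝒬
      · exact Or.inl hSQ
      right
      let I : Cfsg.FusionSystem S :=
        { Hom := fun P => {φ | φ ∈ F.Hom P ∧ (P = S → ∃ g ∈ S, ∀ x : P, φ x = g * (x : Ω) * g⁻¹)}
          le_of_mem := fun h => F.le_of_mem h.1
          injective_of_mem := fun h => F.injective_of_mem h.1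
          conj_mem := fun {P g} hP hg => ⟨F.conj_mem hP hg, fun _ => ⟨g, hg, fun _ => rfl⟩⟩
          comp_mem := fun {P Q φ ψ} hφ hψ h => ⟨F.comp_mem hφ.1 hψ.1 h, fun hPS => by
            obtain ⟨g, hg, he⟩ := hφ.2 hPS
            have hQS : Q = S := by
              refine le_antisymm (Cfsg.Agent.Lib.FS.src_le hψ.1) fun y hy => ?_
              have hm : g⁻¹ * y * g ∈ P := by rw [hPS]; exact S.mul_mem (S.mul_mem (S.inv_mem hg) hy) hg
              have := h ⟨_, hm⟩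
              rw [he] at this
              simpa [mul_assoc] using this
            obtain ⟨k, hk, he'⟩ := hψ.2 hQS
            refine ⟨k * g, S.mul_mem hk hg, fun x => ?_⟩
            show ψ _ = _
            rw [he']
            show k * φ x * k⁻¹ = _
            rw [he]; group⟩
          inv_mem := fun {P φ} hφ => by
            obtain ⟨ψ, hψ, hψe⟩ := F.inv_mem hφ.1
            refine ⟨ψ, ⟨hψ, fun hr => ?_⟩, hψe⟩
            haveI := Cfsg.Agent.Lib.FS.finite_sub (Cfsg.Agent.Lib.FS.src_le hφ.1)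
            have hPS : P = S := Subgroup.eq_of_le_of_card_ge (Cfsg.Agent.Lib.FS.src_le hφ.1)
              (by rw [← Cfsg.Agent.Lib.FS.card_range hφ.1, hr])
            obtain ⟨g, hg, he⟩ := hφ.2 hPS
            refine ⟨g⁻¹, S.inv_mem hg, ?_⟩
            rintro ⟨_, x, rfl⟩
            rw [hψe]
            show (x : Ω) = g⁻¹ * φ x * g⁻¹⁻¹
            rw [he]; group }
      have hle := hgen I fun R hR => by
        refine (Subgroup.closure_le _).2 fun α hα => Subgroup.subset_closure ⟨hα, fun e => ?_⟩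
        exact absurd (e ▸ hR) hSQ
      refine (Subgroup.closure_le _).2 fun α hα => ?_
      obtain ⟨g, hg, he⟩ := (hle S hα).2 rfl
      exact Subgroup.subset_closure ⟨le_rfl, g, hg, he⟩
  obtain ⟨he₁, hs₁⟩ := key 𝒬₁ h₁ hg₁
  obtain ⟨he₂, hs₂⟩ := key 𝒬₂ h₂ hg₂
  refine Cfsg.Agent.Lib.FS.le_of_essential_autGroup_le hS hF fun P hP => ?_
  rcases hP with rfl | hess
  · rcases hs₁ with h | h
    · rcases hs₂ with h' | h'
      · exact hE _ ⟨h, h'⟩
      · exact h'.trans ((Subgroup.closure_le _).2 fun α ⟨_, g, hg, he⟩ =>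
          Cfsg.Agent.Lib.FS.mem_autGroup_of_hom (E.conj_mem le_rfl hg) he)
    · exact h.trans ((Subgroup.closure_le _).2 fun α ⟨_, g, hg, he⟩ =>
        Cfsg.Agent.Lib.FS.mem_autGroup_of_hom (E.conj_mem le_rfl hg) he)
  · exact hE P ⟨he₁ P hess, he₂ P hess⟩

end Cfsg.Agent.S5327
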