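import Cfsg.Statements.S5330
import Cfsg.Agent.Lib.FusionEssential.Abelian
import Cfsg.Agent.Lib.FusionAlperin.Join
import Cfsg.Agent.Lib.FusionP3.Tate

set_option autoImplicit false
open Cfsg

namespace Cfsg.Agent.S5330

/-- Let F be a saturated fusion system over a finite abelian p-group S. Then S is the internal direct product of the centre of the system and the focal subgroup: Z(F) ∩ foc(F) = 1 and Z(F)·foc(F) = S. -/
theorem result {Ω : Type*} [Group Ω] {S : Subgroup Ω} [Finite S] (p : ℕ) [Fact p.Prime] (hS : IsPGroup p S) (F : Cfsg.FusionSystem S) (hF : F.IsSaturated p) (hab : ∀ x ∈ S, ∀ y ∈ S, x * y = y * x) : F.center ⊓ F.focalSubgroup = ⊥ ∧ F.center ⊔ F.focalSubgroup = S := by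
  have hc : ∀ {x}, x ∈ F.center → ∀ α ∈ F.autGroup S, ∀ hx : x ∈ S, ((α ⟨x, hx⟩ : S) : Ω) = x := by
    intro x hx α hα hxS
    obtain ⟨φ, hφ, -, hφe⟩ := Cfsg.Agent.Lib.FS.exists_hom_of_aut le_rfl hα
    obtain ⟨τ, hτ, hτe⟩ := Cfsg.Agent.Lib.FS.exists_restrict hφ (Subgroup.zpowers_le.2 hxS)
    refine ((Cfsg.Agent.Lib.FS.isCentral_iff hS hF).1
      (Cfsg.Agent.Lib.FusionAlperin.Join.isCentral_center F)).2 x hx _ ⟨τ, hτ, ?_⟩
    rw [hτe, ← hφe]
  let Z : Subgroup Ω :=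
    { carrier := {x | ∃ hx : x ∈ S, ∀ α ∈ F.autGroup S, ((α ⟨x, hx⟩ : S) : Ω) = x}
      one_mem' := ⟨S.one_mem, fun α _ => by rw [show (⟨1, S.one_mem⟩ : S) = 1 from rfl, map_one]; rfl⟩
      mul_mem' := fun {a b} ⟨ha, ha'⟩ ⟨hb, hb'⟩ => ⟨S.mul_mem ha hb, fun α hα => by
        rw [show (⟨a * b, S.mul_mem ha hb⟩ : S) = ⟨a, ha⟩ * ⟨b, hb⟩ from rfl, map_mul, Subgroup.coe_mul,
          ha' α hα, hb' α hα]⟩
      inv_mem' := fun {a} ⟨ha, ha'⟩ => ⟨S.inv_mem ha, fun α hα => by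
        rw [show (⟨a⁻¹, S.inv_mem ha⟩ : S) = ⟨a, ha⟩⁻¹ from rfl, map_inv, Subgroup.coe_inv, ha' α hα]⟩ }
  have hcent : F.IsCentral Z := by
    refine (Cfsg.Agent.Lib.FS.isCentral_iff hS hF).2 ⟨fun x hx => hx.1, ?_⟩
    rintro x ⟨hx, hfix⟩ y ⟨φ, hφ, rfl⟩
    obtain ⟨α, hα, he⟩ := Cfsg.Agent.Lib.FusionEssential.Abelian.exists_aut_extend hS hF hab hφ
    exact (he _).symm.trans (hfix α hα)
  have hfoc : F.focalSubgroup ≤ S := Cfsg.Agent.Lib.FusionP3.Tate.focal_le F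
  haveI : IsMulCommutative S := ⟨⟨fun a b => Subtype.ext (hab a a.2 b b.2)⟩⟩
  letI : CommGroup S := { (inferInstance : Group S) with mul_comm := fun a b => Subtype.ext (hab a a.2 b b.2) }
  letI : Fintype (F.autGroup S) := Fintype.ofFinite _
  let N : S →* S := ∏ α : F.autGroup S, (α : MulAut S).toMonoidHom
  have hN : ∀ x : S, N x = ∏ α : F.autGroup S, (α : MulAut S) x := fun x => MonoidHom.finsetProd_apply _ _ _
  have hm : Nat.Coprime (Nat.card S) (Nat.card (F.autGroup S)) := by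
    obtain ⟨n, hn⟩ := IsPGroup.iff_card.1 hS
    rw [hn]
    exact Nat.Coprime.pow_left _ ((Fact.out : p.Prime).coprime_iff_not_dvd.2
      (Cfsg.Agent.Lib.FusionEssential.Abelian.not_dvd_card_autGroup hS hF hab))
  have hker : F.focalSubgroup ≤ N.ker.map S.subtype := by
    refine (Subgroup.closure_le _).2 ?_
    rintro y ⟨P, φ, x, hφ, rfl⟩
    obtain ⟨β, hβ, he⟩ := Cfsg.Agent.Lib.FusionEssential.Abelian.exists_aut_extend hS hF hab hφ
    refine ⟨(Subgroup.inclusion (Cfsg.Agent.Lib.FS.src_le hφ) x)⁻¹ *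
      β (Subgroup.inclusion (Cfsg.Agent.Lib.FS.src_le hφ) x), ?_, ?_⟩
    · rw [SetLike.mem_coe, MonoidHom.mem_ker, map_mul, map_inv, inv_mul_eq_one, hN, hN]
      exact (Fintype.prod_equiv (Equiv.mulRight (⟨β, hβ⟩ : F.autGroup S)) _ _ fun α => rfl).symm
    · simp only [Subgroup.coe_subtype, Subgroup.coe_mul, Subgroup.coe_inv, he x]
      rfl
  constructor
  · refine eq_bot_iff.2 fun x hx => Subgroup.mem_bot.2 ?_
    obtain ⟨hxc, hxf⟩ := Subgroup.mem_inf.1 hx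
    obtain ⟨y, hy, rfl⟩ := hker hxf
    have hy1 : ∏ α : F.autGroup S, (α : MulAut S) y = 1 := (hN y).symm.trans hy
    rw [Finset.prod_congr rfl (fun (α : F.autGroup S) _ => Subtype.ext (hc hxc α α.2 y.2) :
      ∀ α ∈ (Finset.univ : Finset (F.autGroup S)), (α : MulAut S) y = y), Finset.prod_const, Finset.card_univ,
      ← Nat.card_eq_fintype_card] at hy1
    rw [(powCoprime hm).injective (show powCoprime hm y = powCoprime hm 1 by simpa [powCoprime] using hy1)]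
    rfl
  · refine le_antisymm (sup_le (sSup_le fun _ h => h.1) hfoc) fun x hx => ?_
    obtain ⟨y, hy⟩ := (powCoprime hm).surjective ⟨x, hx⟩
    have h1 : ((N y : S) : Ω) ∈ F.center := by
      refine (show Z ≤ F.center from le_sSup hcent) ⟨(N y).2, fun β hβ => ?_⟩
      refine congrArg Subtype.val (show β (N y) = N y from ?_)
      rw [hN, map_prod]
      exact Fintype.prod_equiv (Equiv.mulLeft (⟨β, hβ⟩ : F.autGroup S)) _ _ fun α => rfl
    have h2 : (N y)⁻¹ * ⟨x, hx⟩ ∈ F.focalSubgroup.subgroupOf S := by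
      rw [← hy, hN, show powCoprime hm y = ∏ _α : F.autGroup S, y by
        simp [powCoprime, Finset.prod_const, Finset.card_univ, Nat.card_eq_fintype_card],
        ← Finset.prod_inv_distrib, ← Finset.prod_mul_distrib]
      refine prod_mem fun α _ => ?_
      rw [← inv_mem_iff, mul_inv_rev, inv_inv, mul_comm, mul_comm _ ((y : S)⁻¹)]
      obtain ⟨φ, hφ, -, hφe⟩ := Cfsg.Agent.Lib.FS.exists_hom_of_aut le_rfl α.2
      refine Subgroup.subset_closure ⟨S, φ, y, hφ, ?_⟩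
      simp [hφe]
    have h3 := Subgroup.mul_mem_sup h1 (Subgroup.mem_subgroupOf.1 h2)
    simpa using h3

end Cfsg.Agent.S5330
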