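import Cfsg.Statements.S5331
import Cfsg.Agent.Lib.FusionEssential.Abelian

set_option autoImplicit false
open Cfsg

namespace Cfsg.Agent.S5331

/-- An additive endomorphism of odd order fixing `x` after two steps fixes `x`. -/
theorem eq_of_two_steps {A : Type*} [AddCommGroup A] (f : A →+ A) {N : ℕ} (hN : Odd N)
    (hf : ∀ x, f^[N] x = x) {x : A} (h2 : f (f x) = x) : f x = x := by
  obtain ⟨k, rfl⟩ := hN
  have h : ∀ j, f^[2 * j] x = x := fun j => by
    induction j with
    | zero => rfl
    | succ j ih => rw [show 2 * (j + 1) = 2 * j + 2 by ring, Function.iterate_add_apply]; exact (congrArg _ h2).trans ih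
  have := hf x
  rwa [Function.iterate_add_apply, Function.iterate_one, show f^[2 * k] (f x) = f (f^[2 * k] x) from
    (Function.iterate_succ_apply f (2 * k) x).symm.trans (Function.iterate_succ_apply' f (2 * k) x), h k] at this

theorem zmod_half {m : ℕ} {z : ZMod (2 ^ m)} (h : 2 • z = 0) {j : ℕ} (hj : j < m) :
    (∃ c : ZMod (2 ^ m), z = 2 ^ j • c) ∧ (j + 1 = m → z = 0 ∨ z = ((2 ^ j : ℕ) : ZMod (2 ^ m))) := by
  haveI : NeZero (2 ^ m) := ⟨by positivity⟩
  have h1 : ((2 * z.val : ℕ) : ZMod (2 ^ m)) = 0 := by rw [← h, nsmul_eq_mul]; simp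
  have h2 : 2 ^ m ∣ 2 * z.val := (ZMod.natCast_eq_zero_iff _ _).1 h1
  have h3 : 2 ^ j ∣ z.val := by
    have : 2 * 2 ^ j ∣ 2 * z.val := dvd_trans (by rw [← pow_succ']; exact pow_dvd_pow 2 hj) h2
    exact (Nat.mul_dvd_mul_iff_left two_pos).1 this
  obtain ⟨d, hd⟩ := h3
  refine ⟨⟨d, ?_⟩, fun hm => ?_⟩
  · rw [nsmul_eq_mul, ← Nat.cast_mul, ← hd, ZMod.natCast_val, ZMod.cast_id]
  · have hlt : z.val < 2 ^ m := ZMod.val_lt z
    rw [hd, ← hm, pow_succ] at hlt
    have : d < 2 := lt_of_mul_lt_mul_left hlt (Nat.zero_le _)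
    rw [← ZMod.natCast_zmod_val z, hd]
    interval_cases d
    · exact Or.inl (by simp)
    · exact Or.inr (by simp)

/-- An automorphism of odd order of a product of cyclic 2-groups of distinct orders is trivial. -/
theorem endo_eq_id {n : ℕ} (a : Fin n → ℕ) (ha : Function.Injective a)
    (f : ((i : Fin n) → ZMod (2 ^ a i)) →+ ((i : Fin n) → ZMod (2 ^ a i)))
    {N : ℕ} (hN : Odd N) (hf : ∀ x, f^[N] x = x) (x : (i : Fin n) → ZMod (2 ^ a i)) : f x = x := by
  obtain ⟨K, hK⟩ : ∃ K, ∀ i, a i ≤ K := ⟨Finset.univ.sup a, fun i => Finset.le_sup (Finset.mem_univ i)⟩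
  let W : ℕ → ((i : Fin n) → ZMod (2 ^ a i)) → Prop := fun k x => 2 • x = 0 ∧ ∃ y, x = 2 ^ k • y
  have hWiff : ∀ k x, W k x ↔ (2 • x = 0 ∧ ∀ i, a i ≤ k → x i = 0) := by
    intro k x
    refine ⟨fun ⟨h, y, hy⟩ => ⟨h, fun i hi => ?_⟩, fun ⟨h, h'⟩ => ⟨h, ?_⟩⟩
    · rw [hy, Pi.smul_apply, nsmul_eq_mul, (ZMod.natCast_eq_zero_iff (2 ^ k) _).2 (pow_dvd_pow 2 hi), zero_mul]
    · have : ∀ i, ∃ c : ZMod (2 ^ a i), x i = 2 ^ k • c := by
        intro i
        rcases le_or_gt (a i) k with hi | hi
        · exact ⟨0, by rw [h' i hi, smul_zero]⟩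
        · exact (zmod_half (congrFun h i) hi).1
      choose c hc using this
      exact ⟨c, funext hc⟩
  have hWf : ∀ k x, W k x → W k (f x) := fun k x ⟨h, y, hy⟩ =>
    ⟨by rw [← map_nsmul, h, map_zero], f y, by rw [hy, map_nsmul]⟩
  have hWi : ∀ j k x, W k x → W k (f^[j] x) := fun j => by
    induction j with
    | zero => exact fun _ _ h => h
    | succ j ih => exact fun k x h => by rw [Function.iterate_succ_apply']; exact hWf _ _ (ih k x h)
  have step : ∀ j k, K ≤ k + j → ∀ x, W k x → f x = x := by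
    intro j
    induction j with
    | zero =>
      intro k hk x hx
      have : x = 0 := funext fun i => ((hWiff k x).1 hx).2 i (le_trans (hK i) (by simpa using hk))
      rw [this, map_zero]
    | succ j ih =>
      intro k hk x hx
      obtain ⟨h2, hz⟩ := (hWiff k x).1 hx
      obtain ⟨h2', hz'⟩ := (hWiff k (f x)).1 (hWf k x hx)
      have hdown : ∀ i y, a i = k + 1 → W k y → y i = 0 → W (k + 1) y := by
        intro i y hi hy hy0
        obtain ⟨e2, ez⟩ := (hWiff k y).1 hy
        refine (hWiff (k + 1) y).2 ⟨e2, fun l hl => ?_⟩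
        rcases hl.lt_or_eq with hl | hl
        · exact ez l (Nat.lt_succ_iff.1 hl)
        · rw [ha (hl.trans hi.symm)]; exact hy0
      have hd : W (k + 1) (f x - x) := by
        refine (hWiff (k + 1) _).2 ⟨by rw [smul_sub, h2, h2', sub_zero], fun i hi => ?_⟩
        rw [Pi.sub_apply, sub_eq_zero]
        rcases hi.lt_or_eq with hi | hi
        · rw [hz i (Nat.lt_succ_iff.1 hi), hz' i (Nat.lt_succ_iff.1 hi)]
        · have hlt : k < a i := by omega
          have hN0 : N - 1 + 1 = N := Nat.sub_add_cancel hN.pos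
          rcases (zmod_half (congrFun h2 i) hlt).2 hi.symm with e | e <;>
            rcases (zmod_half (congrFun h2' i) hlt).2 hi.symm with e' | e'
          · rw [e, e']
          · have := ((hWiff _ _).1 (hWf _ _ (hdown i x hi hx e))).2 i hi.le
            rw [this, e]
          · have := hWi (N - 1) _ _ (hdown i (f x) hi (hWf k x hx) e')
            rw [← Function.iterate_succ_apply, Nat.succ_eq_add_one, hN0, hf] at this
            rw [((hWiff _ _).1 this).2 i hi.le, e']
          · rw [e, e']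
      have hfix := ih (k + 1) (by omega) _ hd
      refine eq_of_two_steps f hN hf ?_
      have e : f x = x + (f x - x) := by abel
      calc f (f x) = f (x + (f x - x)) := by rw [← e]
        _ = f x + (f x - x) := by rw [map_add, hfix]
        _ = x + 2 • (f x - x) := by abel
        _ = x := by rw [smul_sub, h2, h2', sub_zero, add_zero]
  have hall : ∀ m (x : ((i : Fin n) → ZMod (2 ^ a i))), 2 ^ m • x = 0 → f x = x := by
    intro m
    induction m with
    | zero => intro x hx; rw [pow_zero, one_smul] at hx; rw [hx, map_zero]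
    | succ m ih =>
      intro x hx
      have h1 : f (2 • x) = 2 • x := ih _ (by rw [smul_smul, ← pow_succ]; exact hx)
      have h2 : 2 • (f x - x) = 0 := by rw [smul_sub, ← map_nsmul, h1, sub_self]
      have h3 : f (f x - x) = f x - x := step K 0 (by omega) _ ⟨h2, f x - x, by simp⟩
      refine eq_of_two_steps f hN hf ?_
      have e : f x = x + (f x - x) := by abel
      calc f (f x) = f (x + (f x - x)) := by rw [← e]
        _ = f x + (f x - x) := by rw [map_add, h3]
        _ = x + 2 • (f x - x) := by abel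
        _ = x := by rw [h2, add_zero]
  refine hall K x (funext fun i => ?_)
  rw [Pi.smul_apply, nsmul_eq_mul, (ZMod.natCast_eq_zero_iff (2 ^ K) _).2 (pow_dvd_pow 2 (hK i)), zero_mul]
  rfl

/-- Let S be a finite abelian 2-group that is a direct product of cyclic groups of pairwise distinct orders 2^{a_1} < 2^{a_2} < ⋯ < 2^{a_n} (all a_i ≥ 1). Then every saturated fusion system over S is the inner one: its maps are exactly the conjugations by elements of S. -/
theorem result {Ω : Type*} [Group Ω] {S : Subgroup Ω} [Finite S] (n : ℕ) (a : Fin n → ℕ) (ha : StrictMono a) (ha1 : ∀ i, 1 ≤ a i) (e : ↥S ≃* Multiplicative ((i : Fin n) → ZMod (2 ^ a i))) (F : Cfsg.FusionSystem S) (hF : F.IsSaturated 2) (P : Subgroup Ω) : F.Hom P = (Cfsg.innerFusionSystem S).Hom P := by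
  have hS : IsPGroup 2 S := by
    refine IsPGroup.of_card (n := ∑ i, a i) ?_
    rw [Nat.card_congr e.toEquiv, Nat.card_congr Multiplicative.toAdd, Nat.card_pi]
    simp [Finset.prod_pow_eq_pow_sum]
  have hab : ∀ x ∈ S, ∀ y ∈ S, x * y = y * x := fun x hx y hy =>
    congrArg Subtype.val (e.injective (by rw [map_mul, map_mul, mul_comm]) : (⟨x, hx⟩ * ⟨y, hy⟩ : S) = ⟨y, hy⟩ * ⟨x, hx⟩)
  refine Cfsg.Agent.Lib.FusionEssential.Abelian.hom_eq_inner hS hF hab (fun α hα => ?_) P
  have hodd : Odd (Nat.card (F.autGroup S)) := Nat.odd_iff.2 <| Nat.two_dvd_ne_zero.1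
    (Cfsg.Agent.Lib.FusionEssential.Abelian.not_dvd_card_autGroup hS hF hab)
  let f : ((i : Fin n) → ZMod (2 ^ a i)) →+ ((i : Fin n) → ZMod (2 ^ a i)) :=
    ((e.symm.trans (α.trans e)).toMonoidHom).toAdditive
  have hfj : ∀ j x, f^[j] x = Multiplicative.toAdd (e ((α ^ j) (e.symm (Multiplicative.ofAdd x)))) := by
    intro j x
    induction j with
    | zero => simp
    | succ j ih =>
      rw [Function.iterate_succ_apply', ih, pow_succ', MulAut.mul_apply]
      show Multiplicative.toAdd (e (α (e.symm (Multiplicative.ofAdd (Multiplicative.toAdd _))))) = _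
      rw [ofAdd_toAdd, MulEquiv.symm_apply_apply]
  have hpow : α ^ Nat.card (F.autGroup S) = 1 :=
    congrArg Subtype.val (pow_card_eq_one' (x := (⟨α, hα⟩ : F.autGroup S)))
  have key := endo_eq_id a ha.injective f hodd (fun x => by rw [hfj, hpow]; simp)
  refine MulEquiv.ext fun s => e.injective ?_
  have := key (Multiplicative.toAdd (e s))
  have h1 := hfj 1 (Multiplicative.toAdd (e s))
  rw [Function.iterate_one, this, pow_one, ofAdd_toAdd, MulEquiv.symm_apply_apply] at h1
  exact (Multiplicative.toAdd.injective h1).symm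

end Cfsg.Agent.S5331
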