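import Cfsg.Statements.S5332
import Cfsg.Agent.Lib.Transfer.FusionThompson

set_option autoImplicit false
open Cfsg

namespace Cfsg.Agent.S5332

/-- Let p be odd and F a saturated fusion system over a finite p-group S that is not the inner system of S. Then F contains a saturated constrained subsystem over S that is itself not the inner system. -/
theorem result {Ω : Type*} [Group Ω] {S : Subgroup Ω} [Finite S] (p : ℕ) [Fact p.Prime] (hS : IsPGroup p S) (F : Cfsg.FusionSystem S) (hF : F.IsSaturated p) (hp : p ≠ 2) (hne : ∃ P : Subgroup Ω, F.Hom P ≠ (Cfsg.innerFusionSystem S).Hom P) : ∃ E : Cfsg.FusionSystem S, E ≤ F ∧ E.IsConstrained p ∧ ∃ P : Subgroup Ω, E.Hom P ≠ (Cfsg.innerFusionSystem S).Hom P := by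
  obtain ⟨P₀, hP₀⟩ := hne
  obtain ⟨Q, hQn, hQc, hT, hQ⟩ := Cfsg.Agent.Lib.Transfer.FusionThompson.exists_normal_centric hS hF
    (Or.inl hp) (fun h => hP₀ (by rw [Cfsg.Agent.Lib.FS.eq_inner_of_pGroup hS hF h]))
  obtain ⟨E, hEF, -, hEc, hEQ⟩ :=
    Cfsg.Agent.Lib.Transfer.FusionThompson.exists_system_on_base hS hF hQn hQc hT
  refine ⟨E, hEF, hEc, ?_⟩
  by_contra h
  push Not at h
  have hEi : E = Cfsg.innerFusionSystem S :=
    Cfsg.Agent.Lib.FS.fusion_ext fun P φ => by rw [h P]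
  apply hQ
  rw [← hEQ, hEi]
  exact Cfsg.Agent.Lib.Transfer.FusionThompson.isPGroup_autGroup_innerFusionSystem hS Q

end Cfsg.Agent.S5332
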