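import Cfsg.Statements.S5333
import Cfsg.Agent.Lib.FusionEssential.Centric
import Cfsg.Agent.Lib.FusionSystem.Normalizer

set_option autoImplicit false
open Cfsg

namespace Cfsg.Agent.S5333

/-- Let F′ ≤ F be saturated fusion systems over the same finite p-group S. Suppose that for every subgroup Z ≤ S of order p that is fully centralized in F′, the maps of F and of F′ with source Z coincide and the centralizer systems C_F(Z) and C_{F′}(Z) coincide. Then F = F′. -/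
theorem result {Ω : Type*} [Group Ω] {S : Subgroup Ω} [Finite S] (p : ℕ) [Fact p.Prime] (hS : IsPGroup p S) (F : Cfsg.FusionSystem S) (hF : F.IsSaturated p) (F' : Cfsg.FusionSystem S) (hF' : F'.IsSaturated p) (hle : F' ≤ F) (hZ : ∀ Z : Subgroup Ω, Z ≤ S → Nat.card Z = p → F'.IsFullyCentralized Z → F.Hom Z = F'.Hom Z ∧ ∀ (C C' : Cfsg.FusionSystem (Cfsg.FusionSystem.centralizerIn S Z)), F.IsCentralizerSystem Z C → F'.IsCentralizerSystem Z C' → ∀ P : Subgroup Ω, C.Hom P = C'.Hom P) (P : Subgroup Ω) : F.Hom P = F'.Hom P := by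
  refine Cfsg.Agent.Lib.FusionEssential.Centric.hom_eq_of_centric hS hF hle ?_ P
  intro P hn hc _ α hα
  have hP : P ≤ S := hn.1
  rcases eq_or_ne S ⊥ with hS1 | hS1
  · refine Cfsg.Agent.Lib.FS.mem_of_conj F' hP S.one_mem fun x => ?_
    have hb : ∀ y : P, (y : Ω) = 1 := fun y => Subgroup.mem_bot.1 (hS1.le (hP y.2))
    simp [hb]
  -- an element of order p in the centre of S
  haveI : Nontrivial S := (Subgroup.nontrivial_iff_ne_bot S).2 hS1
  haveI := hS.center_nontrivial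
  obtain ⟨⟨z, hzc⟩, hz⟩ := exists_prime_orderOf_dvd_card' (G := Subgroup.center S) p (by
    obtain ⟨k, hk⟩ := IsPGroup.iff_card.1 (hS.to_subgroup (Subgroup.center S))
    have h1 : 1 < Nat.card (Subgroup.center S) := Finite.one_lt_card
    rw [hk] at h1 ⊢
    exact dvd_pow_self p (by rintro rfl; simp at h1))
  rw [Subgroup.orderOf_mk] at hz
  set Z : Subgroup Ω := Subgroup.zpowers (z : Ω) with hZdef
  have hZS : Z ≤ S := Subgroup.zpowers_le.2 z.2
  have hZcard : Nat.card Z = p := by rw [Nat.card_zpowers, Subgroup.orderOf_coe, hz]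
  have hCZ : Cfsg.FusionSystem.centralizerIn S Z = S := inf_eq_left.2 fun s hs => by
    intro y hy
    obtain ⟨j, rfl⟩ := Subgroup.mem_zpowers_iff.1 hy
    have := congrArg Subtype.val ((show Commute (⟨s, hs⟩ : S) z from Subgroup.mem_center_iff.1 hzc _).zpow_right j).eq
    simpa using this.symm
  have hZf : F'.IsFullyCentralized Z :=
    ⟨hZS, fun R _ => by rw [hCZ]; exact Subgroup.card_le_of_le (Cfsg.Agent.Lib.FS.centralizerIn_le R)⟩
  obtain ⟨hZhom, hZC⟩ := hZ Z hZS hZcard hZf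
  have hZP : Z ≤ P := by
    refine le_trans ?_ (hc.2 P (Cfsg.Agent.Lib.FS.isConj_refl F hP))
    refine le_inf hZS ?_
    intro y hy x hx
    have := (hCZ.ge (hP hx)).2 y hy
    exact this.symm
  obtain ⟨φ, hφ, hφr, hφe⟩ := Cfsg.Agent.Lib.FS.exists_hom_of_aut hP hα
  have hφ' : P.subtype.comp α.toMonoidHom = φ := MonoidHom.ext fun x => (hφe x).symm
  rw [hφ']
  obtain ⟨φZ, hφZ, hφZe⟩ := Cfsg.Agent.Lib.FS.exists_restrict hφ hZP
  rw [hZhom] at hφZ
  have hrng : φZ.range ≤ P := by rintro _ ⟨x, rfl⟩; rw [hφZe, hφe]; exact (α _).2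
  obtain ⟨β, hβ, hβr, hβl, -⟩ := Cfsg.Agent.Lib.FS.exists_inv hφZ rfl
  obtain ⟨γ, hγ, hγe⟩ := (Cfsg.Agent.Lib.FS.receptive_of_fullyCentralized hS hF' hZf).2 _ β hβ hβr
  have hPe : P ≤ Cfsg.FusionSystem.extender S φZ.range β := by
    refine le_trans ?_ (Cfsg.Agent.Lib.FS.centralizerIn_le_extender _ _)
    intro y hy
    refine ⟨hP hy, ?_⟩
    rintro w ⟨x, rfl⟩
    rw [hφZe, hφe]
    obtain ⟨v, hv⟩ : ∃ v, α v = ⟨y, hy⟩ := ⟨_, MulAut.apply_inv_self _ _ _⟩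
    have hcom : (⟨x, hZP x.2⟩ : P) * v = v * ⟨x, hZP x.2⟩ :=
      Subtype.ext ((hCZ.ge (hP v.2)).2 x x.2)
    have h2 := congrArg (fun u : P => (u : Ω)) (congrArg α hcom)
    simpa [hv] using h2
  obtain ⟨γ', hγ', hγ'e⟩ := Cfsg.Agent.Lib.FS.exists_restrict hγ hPe
  obtain ⟨δ, hδ, hδe⟩ := Cfsg.Agent.Lib.FS.exists_comp hφ (hle P hγ') (fun x => by rw [hφe]; exact (α x).2)
  obtain ⟨C, hC⟩ := Cfsg.Agent.Lib.FS.exists_centralizerSystem F hZS
  obtain ⟨C', hC'⟩ := Cfsg.Agent.Lib.FS.exists_centralizerSystem F' hZS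
  have hmem : δ ∈ C.Hom P := by
    rw [hC]
    refine ⟨hδ, by rw [hCZ]; exact hP, fun x => by rw [hCZ]; exact Cfsg.Agent.Lib.FS.apply_mem hδ x, ?_⟩
    obtain ⟨ψ, hψ, hψe⟩ := Cfsg.Agent.Lib.FS.exists_restrict hδ (show P ⊔ Z ≤ P from sup_le le_rfl hZP)
    refine ⟨ψ, hψ, fun x => hψe _, fun x => ?_⟩
    rw [hψe, hδe, hγ'e]
    have hxr : φ ⟨(x : Ω), hZP x.2⟩ ∈ φZ.range := ⟨x, hφZe x⟩
    refine (hγe _ hxr _).trans ?_
    rw [show (⟨φ ⟨(x : Ω), hZP x.2⟩, hxr⟩ : φZ.range) = ⟨φZ x, x, rfl⟩ from Subtype.ext (hφZe x).symm]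
    exact hβl _ _
  have hδ' : δ ∈ F'.Hom P := by
    have := hZC C C' hC hC' P ▸ hmem
    rw [hC'] at this
    exact this.1
  obtain ⟨γi, hγi, hγil⟩ := F'.inv_mem hγ'
  refine Cfsg.Agent.Lib.FS.mem_comp hδ' hγi (fun x => ⟨⟨φ x, by rw [hφe]; exact (α x).2⟩, (hδe x).symm⟩) fun x => ?_
  exact (hγil ⟨φ x, by rw [hφe]; exact (α x).2⟩).symm.trans (congrArg γi (Subtype.ext (hδe x).symm))

end Cfsg.Agent.S5333
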