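import Cfsg.Statements.S5334
import Cfsg.Agent.Lib.FusionEssential.Centric

set_option autoImplicit false
open Cfsg

namespace Cfsg.Agent.S5334

/-- Let F′ ≤ F be saturated fusion systems over the same finite p-group S, let Q and R be F-centric subgroups, φ a map of F with source Q and values in R, and ψ a map of F with source R. If two of φ, ψ and the composite ψ ∘ φ are maps of F′ then so is the third. -/
theorem result {Ω : Type*} [Group Ω] {S : Subgroup Ω} [Finite S] (p : ℕ) [Fact p.Prime] (hS : IsPGroup p S) (F : Cfsg.FusionSystem S) (hF : F.IsSaturated p) (F' : Cfsg.FusionSystem S) (hF' : F'.IsSaturated p) (hle : F' ≤ F) (Q R : Subgroup Ω) (hQ : F.IsCentric Q) (hR : F.IsCentric R) (φ : ↥Q →* Ω) (hφ : φ ∈ F.Hom Q) (hφR : ∀ x : Q, φ x ∈ R) (ψ : ↥R →* Ω) (hψ : ψ ∈ F.Hom R) : (φ ∈ F'.Hom Q → ψ ∈ F'.Hom R → ψ.comp (φ.codRestrict R hφR) ∈ F'.Hom Q) ∧ (ψ ∈ F'.Hom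 R → ψ.comp (φ.codRestrict R hφR) ∈ F'.Hom Q → φ ∈ F'.Hom Q) ∧ (φ ∈ F'.Hom Q → ψ.comp (φ.codRestrict R hφR) ∈ F'.Hom Q → ψ ∈ F'.Hom R) := by
  refine ⟨fun h1 h2 => F'.comp_mem h1 h2 hφR, fun h2 h3 => ?_, fun h1 h3 => ?_⟩
  · obtain ⟨ψi, hψi, hl⟩ := F'.inv_mem h2
    refine Cfsg.Agent.Lib.FS.mem_comp h3 hψi (fun x => ⟨⟨φ x, hφR x⟩, rfl⟩) fun x => ?_
    exact (hl ⟨φ x, hφR x⟩).symm
  · have hle' : φ.range ≤ R := by rintro _ ⟨x, rfl⟩; exact hφR x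
    have hc : F.IsCentric φ.range := ⟨Cfsg.Agent.Lib.FS.range_le_base hφ,
      fun T hT => hQ.2 T (Cfsg.Agent.Lib.FS.isConj_trans ⟨φ, hφ, rfl⟩ hT)⟩
    obtain ⟨φi, hφi, hl⟩ := F'.inv_mem h1
    obtain ⟨χ, hχ, hχe⟩ := Cfsg.Agent.Lib.FS.exists_comp hφi h3
      (by rintro ⟨_, x, rfl⟩; rw [hl]; exact x.2)
    refine Cfsg.Agent.Lib.FusionEssential.Centric.mem_of_restrict_centric hS hF hF' hle hc hle' hψ hχ ?_
    rintro ⟨_, x, rfl⟩
    rw [hχe]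
    simp only [hl]
    rfl

end Cfsg.Agent.S5334
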