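import Cfsg.Statements.S5335
import Cfsg.Agent.Lib.FusionEssential.Centric

set_option autoImplicit false
open Cfsg

namespace Cfsg.Agent.S5335

/-- Let F′ ≤ F be saturated fusion systems over the same finite p-group S. If the maps of F and of F′ with source Q coincide for every F-centric subgroup Q that is minimal among F-centric subgroups, then F = F′. -/
theorem result {Ω : Type*} [Group Ω] {S : Subgroup Ω} [Finite S] (p : ℕ) [Fact p.Prime] (hS : IsPGroup p S) (F : Cfsg.FusionSystem S) (hF : F.IsSaturated p) (F' : Cfsg.FusionSystem S) (hF' : F'.IsSaturated p) (hle : F' ≤ F) (hmin : ∀ Q : Subgroup Ω, F.IsCentric Q → (∀ R : Subgroup Ω, R < Q → ¬ F.IsCentric R) → F.Hom Q = F'.Hom Q) (P : Subgroup Ω) : F.Hom P = F'.Hom P := by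
  refine Cfsg.Agent.Lib.FusionEssential.Centric.hom_eq_of_centric hS hF hle ?_ P
  intro P hn hc _ α hα
  haveI := Cfsg.Agent.Lib.FS.finite_sub hn.1
  have key : ∀ k, ∀ Q : Subgroup Ω, Q ≤ P → Nat.card Q ≤ k → F.IsCentric Q →
      ∃ Q' : Subgroup Ω, Q' ≤ P ∧ F.IsCentric Q' ∧ ∀ R : Subgroup Ω, R < Q' → ¬ F.IsCentric R := by
    intro k
    induction k with
    | zero =>
      intro Q hQP hk _
      haveI := Cfsg.Agent.Lib.FS.finite_sub (hQP.trans hn.1)
      have := Nat.card_pos (α := Q)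
      omega
    | succ k ih =>
      intro Q hQP hk hQc
      by_cases hmin' : ∀ R : Subgroup Ω, R < Q → ¬ F.IsCentric R
      · exact ⟨Q, hQP, hQc, hmin'⟩
      · push Not at hmin'
        obtain ⟨R, hR, hRc⟩ := hmin'
        haveI := Cfsg.Agent.Lib.FS.finite_sub (hQP.trans hn.1)
        refine ih R (hR.le.trans hQP) ?_ hRc
        have : Nat.card R < Nat.card Q := lt_of_le_of_ne (Subgroup.card_le_of_le hR.le)
          fun h => hR.ne (Subgroup.eq_of_le_of_card_ge hR.le h.ge)
        omega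
  obtain ⟨Q, hQP, hQc, hQmin⟩ := key _ P le_rfl le_rfl hc
  have hφ := (Cfsg.Agent.Lib.FS.mem_autGroup hn.1).1 hα
  obtain ⟨χ, hχ, hχe⟩ := Cfsg.Agent.Lib.FS.exists_restrict hφ hQP
  exact Cfsg.Agent.Lib.FusionEssential.Centric.mem_of_restrict_centric hS hF hF' hle hQc hQP hφ
    (hmin Q hQc hQmin ▸ hχ) hχe

end Cfsg.Agent.S5335
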