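import Cfsg.Statements.S5336
import Cfsg.Agent.Lib.FusionSystem.NormalSub

set_option autoImplicit false
open Cfsg

namespace Cfsg.Agent.S5336

/-- Let G be a finite group with Sylow p-subgroup S whose fusion system F_S(G) is simple. If G has no nontrivial normal subgroup of order prime to p and no proper subgroup H containing S induces the same fusion system on S as G does, then G is a simple group. -/
theorem result {G : Type*} [Group G] [Finite G] (p : ℕ) [Fact p.Prime] (S : Sylow p G) (hsimple : (Cfsg.groupFusionSystem (S : Subgroup G)).IsSimple p) (hcore : Cfsg.pPrimeCore p G = ⊥) (hmin : ∀ (H : Subgroup G) (hSH : (S : Subgroup G) ≤ H), H ≠ ⊤ → ∃ P : Subgroup G, (Cfsg.fusionSystemOfSubgroup H (S : Subgroup G) hSH).Hom P ≠ (Cfsg.groupFusionSystem (S : Subgroup G)).Hom P) : IsSimpleGroup G := by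
  haveI : Nontrivial G := by
    by_contra hn
    rw [not_nontrivial_iff_subsingleton] at hn
    exact hsimple.2.1 (Subsingleton.elim _ _)
  refine ⟨fun N hN => ?_⟩
  rcases hsimple.2.2 _ _ (Cfsg.Agent.Lib.FS.isNormalIn_inf_normal S N) with h | ⟨h, hhom⟩
  · left
    obtain ⟨R, hR⟩ := Cfsg.Agent.Lib.FS.exists_sylow_inf_normal S N
    rw [h, Subgroup.bot_subgroupOf] at hR
    have hcop : (Nat.card N).Coprime p := by
      refine ((Fact.out : p.Prime).coprime_iff_not_dvd.2 fun hdvd => ?_).symm
      have h1 := R.not_dvd_index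
      rw [hR, Subgroup.index_bot] at h1
      exact h1 hdvd
    exact le_bot_iff.1 (hcore ▸ (le_sSup ⟨hN, hcop⟩ : N ≤ Cfsg.pPrimeCore p G))
  · right
    by_contra hne
    have hSN : (S : Subgroup G) ≤ N := h.symm.le.trans inf_le_right
    obtain ⟨P, hP⟩ := hmin N hSN hne
    refine hP ?_
    rw [← hhom P]
    show ({φ : P →* G | P ≤ (S : Subgroup G) ∧ (∀ x : P, φ x ∈ (S : Subgroup G)) ∧ _} : Set _) =
      {φ : P →* G | P ≤ (S : Subgroup G) ⊓ N ∧ (∀ x : P, φ x ∈ (S : Subgroup G) ⊓ N) ∧ _}
    rw [h]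

end Cfsg.Agent.S5336
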