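import Cfsg.Statements.S5341
import Cfsg.Agent.Lib.FusionSystem.Saturation

set_option autoImplicit false
open Cfsg

namespace Cfsg.Agent.S5341

open Cfsg.FusionSystem Cfsg.Agent.Lib.FS

theorem map_conj_of_sub {Ω : Type*} [Group Ω] {S T : Subgroup Ω} {F : Cfsg.FusionSystem S}
    {F' : Cfsg.FusionSystem T} (hsub : F'.IsSubsystemOf F) {P Q : Subgroup Ω} (h : F'.IsConj P Q) :
    F.IsConj P Q := by
  obtain ⟨φ, hφ, hr⟩ := h
  exact ⟨φ, hsub P hφ, hr⟩


/-- Let F be a saturated fusion system over a finite p-group S, T a subgroup strongly closed in F, and F′ any fusion system over T all of whose maps are maps of F. For a subgroup Q ≤ T: if Q is fully centralized in F then it is fully centralized in F′, and if Q is fully normalized in F then it is fully normalized in F′. -/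
theorem result {Ω : Type*} [Group Ω] {S : Subgroup Ω} [Finite S] (p : ℕ) [Fact p.Prime] (hS : IsPGroup p S) (F : Cfsg.FusionSystem S) (hF : F.IsSaturated p) (T : Subgroup Ω) (hT : F.StronglyClosed T) (F' : Cfsg.FusionSystem T) (hsub : F'.IsSubsystemOf F) (Q : Subgroup Ω) (hQT : Q ≤ T) : (F.IsFullyCentralized Q → F'.IsFullyCentralized Q) ∧ (F.IsFullyNormalized Q → F'.IsFullyNormalized Q) := by
  haveI : Finite T := finite_sub hT.1
  constructor
  · intro hQ
    refine ⟨hQT, fun R hR => ?_⟩
    have hRQ : F.IsConj R Q := isConj_symm (map_conj_of_sub hsub hR)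
    obtain ⟨φ, hφ, hφQ⟩ := hRQ
    obtain ⟨ψ, hψ, he⟩ := (receptive_of_fullyCentralized hS hF hQ).2 R φ hφ hφQ
    have hC : Cfsg.FusionSystem.centralizerIn T R ≤ extender S R φ :=
      (inf_le_inf_right _ hT.1).trans (centralizerIn_le_extender R φ)
    obtain ⟨χ, hχ, heχ⟩ := exists_restrict hψ hC
    have hRE : R ≤ extender S R φ := le_extender (src_le hφ) (apply_mem hφ)
    have hmap : (R.subgroupOf (extender S R φ)).map ψ = Q := by
      rw [map_subgroupOf_eq_range hRE, ← hφQ]
      congr 1
      ext x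
      exact he x x.2 _
    haveI : Finite (Cfsg.FusionSystem.centralizerIn T Q) := finite_sub ((centralizerIn_le Q).trans hT.1)
    refine Nat.card_le_card_of_injective
      (fun c => (⟨χ c, hT.2 _ inf_le_left χ hχ c, ?_⟩ : Cfsg.FusionSystem.centralizerIn T Q)) ?_
    · rw [heχ]
      exact ((apply_mem_centralizerIn_iff hψ hRE hmap _).2 ⟨hT.1 c.2.1, c.2.2⟩).2
    · intro a b hab
      exact F.injective_of_mem hχ (congrArg Subtype.val hab)
  · intro hQ
    refine ⟨hQT, fun R hR => ?_⟩
    have hRQ : F.IsConj R Q := isConj_symm (map_conj_of_sub hsub hR)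
    obtain ⟨ψ, hψ, hm, -⟩ := exists_normalizer_map hS hF hQ hRQ
    have hN : Cfsg.FusionSystem.normalizerIn T R ≤ Cfsg.FusionSystem.normalizerIn S R :=
      inf_le_inf_right _ hT.1
    obtain ⟨χ, hχ, heχ⟩ := exists_restrict hψ hN
    haveI : Finite (Cfsg.FusionSystem.normalizerIn T Q) := finite_sub ((normalizerIn_le Q).trans hT.1)
    refine Nat.card_le_card_of_injective
      (fun c => (⟨χ c, hT.2 _ inf_le_left χ hχ c, ?_⟩ : Cfsg.FusionSystem.normalizerIn T Q)) ?_
    · rw [heχ]
      exact (hm _).2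
    · intro a b hab
      exact F.injective_of_mem hχ (congrArg Subtype.val hab)

end Cfsg.Agent.S5341
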