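import Cfsg.Statements.S5343
import Cfsg.Agent.Lib.FusionEssential.TransportRealized
import Cfsg.Agent.S5336

set_option autoImplicit false
universe u
open Cfsg

namespace Cfsg.Agent.S5343

/-- Let F be a simple saturated fusion system over a finite p-group S that is realized by some finite group on a Sylow p-subgroup. Then F is realized by a finite simple group on a Sylow p-subgroup. -/
theorem result {Ω : Type u} [Group Ω] {S : Subgroup Ω} [Finite S] (p : ℕ) [Fact p.Prime] (hS : IsPGroup p S) (F : Cfsg.FusionSystem S) (hsimple : F.IsSimple p) (hreal : F.IsRealizable p) : ∃ (G : Type u) (_ : Group G) (_ : Finite G) (_ : IsSimpleGroup G) (ι : ↥S →* G), F.IsRealizedBy ι ∧ ∃ T : Sylow p G, (T : Subgroup G) = ι.range := by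
  classical
  have hex : ∃ n : ℕ, ∃ (G : Type u) (_ : Group G) (_ : Finite G) (ι : ↥S →* G),
      Nat.card G = n ∧ F.IsRealizedBy ι ∧ ∃ T : Sylow p G, (T : Subgroup G) = ι.range := by
    obtain ⟨G, iG, iF, ι, h, hT⟩ := hreal
    exact ⟨_, G, iG, iF, ι, rfl, h, hT⟩
  obtain ⟨G, iG, iF, ι, hcard, hreal, T, hT⟩ := Nat.find_spec hex
  have hminimal : ∀ (H : Type u) (_ : Group H) (_ : Finite H) (κ : ↥S →* H),
      F.IsRealizedBy κ → (∃ T : Sylow p H, (T : Subgroup H) = κ.range) → Nat.card G ≤ Nat.card H :=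
    fun H iH iHF κ hκ hT' => hcard ▸ Nat.find_min' hex ⟨H, iH, iHF, κ, rfl, hκ, hT'⟩
  have hiso := Cfsg.Agent.Lib.FusionEssential.Transport.iso_of_realized hreal hT
  have hsim : (Cfsg.groupFusionSystem (T : Subgroup G)).IsSimple p := hiso.isSimple hS hsimple
  refine ⟨G, iG, iF, ?_, ι, hreal, T, hT⟩
  refine Cfsg.Agent.S5336.result p T hsim ?_ ?_
  · -- no normal subgroup of order prime to `p`
    refine sSup_eq_bot.2 fun N hN => ?_
    obtain ⟨hNn, hcop⟩ := hN
    haveI := hNn
    by_contra hne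
    have hdisj : (T : Subgroup G) ⊓ N = ⊥ := by
      obtain ⟨n, hn⟩ := IsPGroup.iff_card.1 (T.isPGroup'.to_le (inf_le_left : (T : Subgroup G) ⊓ N ≤ T))
      refine Subgroup.eq_bot_of_card_eq _ (Nat.eq_one_of_dvd_coprimes (hcop.pow_right n).symm
        (hn ▸ dvd_rfl) (Subgroup.card_dvd_of_le inf_le_right))
    have hfac := Cfsg.Agent.Lib.FS.group_factor T N
    rw [hdisj] at hfac
    have hsm := Cfsg.Agent.Lib.FS.factor_isSurjectiveMorphism T.isPGroup'
      (hiso.isSaturated hS hsimple.1) (Cfsg.Agent.Lib.FS.stronglyClosed_bot _) hfac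
    have hcomp := Cfsg.Agent.Lib.FusionEssential.Transport.Iso.comp hiso.2 hsm
    have hinj : Function.Injective ((QuotientGroup.mk' N).comp ι) := by
      refine (injective_iff_map_eq_one _).2 fun s hs => ?_
      have h1 : ι s ∈ (T : Subgroup G) ⊓ N := ⟨hiso.mem_base s, (QuotientGroup.eq_one_iff _).1 hs⟩
      rw [hdisj] at h1
      exact hiso.1 ((Subgroup.mem_bot.1 h1).trans (map_one ι).symm)
    have hnew : F.IsRealizedBy ((QuotientGroup.mk' N).comp ι) :=
      Cfsg.Agent.Lib.FusionEssential.Transport.realized_of_iso ⟨hinj, hcomp⟩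
    have hle := hminimal (G ⧸ N) inferInstance inferInstance _ hnew
      ⟨T.mapSurjective (QuotientGroup.mk'_surjective N), by
        show (T : Subgroup G).map (QuotientGroup.mk' N) = _
        rw [MonoidHom.range_comp, ← hT]⟩
    have h1 : Nat.card G = Nat.card (G ⧸ N) * Nat.card N := Subgroup.card_eq_card_quotient_mul_card_subgroup N
    have h2 : 1 < Nat.card N := by
      haveI : Nontrivial N := (Subgroup.nontrivial_iff_ne_bot N).2 hne
      exact Finite.one_lt_card
    have h3 : 0 < Nat.card (G ⧸ N) := Nat.card_pos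
    nlinarith
  · intro H hTH hne
    by_contra hall
    push Not at hall
    have hmem : ∀ s, ι s ∈ H := fun s => hTH (hiso.mem_base s)
    have hnew : F.IsRealizedBy (ι.codRestrict H hmem) := by
      refine ⟨fun a b e => hiso.1 (congrArg Subtype.val e), fun P hP φ hv => ⟨fun hφ => ?_, ?_⟩⟩
      · obtain ⟨φ', hφ', he⟩ := Cfsg.Agent.Lib.FusionEssential.Transport.push hiso.2.1 hφ rfl
        rw [← hall] at hφ'
        obtain ⟨-, -, g, hg, hge⟩ := hφ'
        exact ⟨⟨g, hg⟩, fun x => Subtype.ext ((he x ⟨⟨x, hP x.2⟩, x.2, rfl⟩).symm.trans (hge _))⟩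
      · rintro ⟨g, hg⟩
        exact (hreal.2 P hP φ hv).2 ⟨g, fun x => congrArg Subtype.val (hg x)⟩
    have hrange : ((T.subtype hTH : Sylow p H) : Subgroup H) = (ι.codRestrict H hmem).range := by
      ext x
      constructor
      · intro hx
        obtain ⟨s, hs⟩ := hT.le (Subgroup.mem_subgroupOf.1 hx)
        exact ⟨s, Subtype.ext hs⟩
      · rintro ⟨s, rfl⟩
        exact Subgroup.mem_subgroupOf.2 (hiso.mem_base s)
    have hle := hminimal H inferInstance inferInstance _ hnew ⟨_, hrange⟩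
    exact hne (Subgroup.eq_top_of_le_card _ hle)

end Cfsg.Agent.S5343
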