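import Cfsg.Statements.S5347
import Cfsg.Agent.Lib.ThreeTranspositions.Basic

set_option autoImplicit false
open Cfsg

namespace Cfsg.Agent.S5347
open Cfsg.Agent.Lib.ThreeTranspositions

/-- Let D be a conjugation-invariant generating set of 3-transpositions of a finite group G, p a prime bigger than 3, and P a p-subgroup of G. If a member d of D normalizes P then d centralizes P. -/
theorem result {G : Type*} [Group G] [Finite G] {D : Set G} (hD : Cfsg.IsThreeTranspositionGroup D) {p : ℕ} (hp : p.Prime) (hp3 : 3 < p) (P : Subgroup G) (hP : IsPGroup p P) {d : G} (hd : d ∈ D) (hnorm : d ∈ Subgroup.normalizer (P : Set G)) : ∀ x ∈ P, Commute d x := by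
  intro x hx
  have hC := isClosedSet_of_group hD
  have hxd : x * d * x⁻¹ ∈ D := hD.2.1 x d hd
  have hmem : d * (x * d * x⁻¹) ∈ P := by
    have h1 : d * x * d⁻¹ ∈ P := (Subgroup.mem_normalizer_iff.1 hnorm x).1 hx
    have h2 : d * (x * d * x⁻¹) = (d * x * d⁻¹) * x⁻¹ := by
      rw [inv_eq hD.1 hd]; simp only [mul_assoc]
    rw [h2]; exact P.mul_mem h1 (P.inv_mem hx)
  obtain ⟨k, hk⟩ := hP ⟨_, hmem⟩
  have hk' : (d * (x * d * x⁻¹)) ^ p ^ k = 1 := by simpa [Subtype.ext_iff] using hk
  have h1 : d * (x * d * x⁻¹) = 1 := by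
    rcases hD.1.2 d hd _ hxd with h | h
    · have := pow_gcd_eq_one.2 ⟨hk', h⟩
      have e : Nat.gcd (p ^ k) 2 = 1 :=
        Nat.Coprime.pow_left k ((Nat.coprime_primes hp Nat.prime_two).2 (by omega))
      rwa [e, pow_one] at this
    · have := pow_gcd_eq_one.2 ⟨hk', h⟩
      have e : Nat.gcd (p ^ k) 3 = 1 :=
        Nat.Coprime.pow_left k ((Nat.coprime_primes hp Nat.prime_three).2 (by omega))
      rwa [e, pow_one] at this
  have h2 : d = x * d * x⁻¹ := by
    exact (eq_inv_of_mul_eq_one_left h1).trans (inv_eq hC.1 hxd)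
  show d * x = x * d
  calc d * x = (x * d * x⁻¹) * x := by rw [← h2]
    _ = x * d := by group

end Cfsg.Agent.S5347
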