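import Cfsg.Statements.S5348
import Cfsg.Agent.Lib.ThreeTranspositions.Basic

set_option autoImplicit false
open Cfsg

namespace Cfsg.Agent.S5348
open Cfsg.Agent.Lib.ThreeTranspositions

/-- Let D be a conjugation-invariant generating set of 3-transpositions of a finite group G and d a member of D. Let V be the set of members of D commuting with exactly the same members of D as d, and W the set of members w of D such that the members of D other than w commuting with w are precisely the members of D other than d commuting with d. Then V = {d} or W = {d}. -/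
theorem result {G : Type*} [Group G] [Finite G] {D : Set G} (hD : Cfsg.IsThreeTranspositionGroup D) {d : G} (hd : d ∈ D) : {v : G | v ∈ D ∧ ∀ e ∈ D, Commute v e ↔ Commute d e} = {d} ∨ {w : G | w ∈ D ∧ {y : G | y ∈ D ∧ y ≠ d ∧ Commute d y} = {y : G | y ∈ D ∧ y ≠ w ∧ Commute w y}} = {d} := by
  by_contra h
  rw [not_or] at h
  obtain ⟨hV, hW⟩ := h
  obtain ⟨v, ⟨hv, hvp⟩, hvd⟩ : ∃ v, v ∈ {v : G | v ∈ D ∧ ∀ e ∈ D, Commute v e ↔ Commute d e} ∧ v ≠ d := by
    by_contra hh
    push Not at hh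
    exact hV (Set.eq_singleton_iff_unique_mem.2 ⟨⟨hd, fun _ _ => Iff.rfl⟩, hh⟩)
  obtain ⟨w, ⟨hw, hwp⟩, hwd⟩ : ∃ w, w ∈ {w : G | w ∈ D ∧ {y : G | y ∈ D ∧ y ≠ d ∧ Commute d y} = {y : G | y ∈ D ∧ y ≠ w ∧ Commute w y}} ∧ w ≠ d := by
    by_contra hh
    push Not at hh
    exact hW (Set.eq_singleton_iff_unique_mem.2 ⟨⟨hd, rfl⟩, hh⟩)
  have h1 : Commute d v := (hvp d hd).2 (Commute.refl d) |>.symm
  have h2 : Commute w v := ((Set.ext_iff.1 hwp v).1 ⟨hv, hvd, h1⟩).2.2
  have h3 : Commute d w := (hvp w hw).1 h2.symm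
  exact ((Set.ext_iff.1 hwp w).1 ⟨hw, hwd, h3⟩).2.1 rfl

end Cfsg.Agent.S5348
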