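import Cfsg.Statements.S5349
import Cfsg.Agent.Lib.ThreeTranspositions.Blocks

set_option autoImplicit false
open Cfsg

namespace Cfsg.Agent.S5349
open Cfsg.Agent.Lib.ThreeTranspositions

/-- Let D be a conjugacy class of 3-transpositions generating the finite group G, with at least two members, and d a member of D. Then the set of members of D commuting with exactly the same members of D as d coincides with the set of members of D lying in the coset of d modulo the largest normal 2-subgroup of G, and also with the orbit of d under conjugation by that normal 2-subgroup. -/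
theorem result {G : Type*} [Group G] [Finite G] {D : Set G} (hD : Cfsg.IsThreeTranspositionClass D) (hD2 : ∃ a ∈ D, ∃ b ∈ D, a ≠ b) {d : G} (hd : d ∈ D) : {v : G | v ∈ D ∧ ∀ e ∈ D, Commute v e ↔ Commute d e} = {v : G | v ∈ D ∧ d⁻¹ * v ∈ Cfsg.pCore 2 G} ∧ {v : G | v ∈ D ∧ ∀ e ∈ D, Commute v e ↔ Commute d e} = {v : G | ∃ g ∈ Cfsg.pCore 2 G, v = g * d * g⁻¹} := by
  have hC := isClosedSet_of_class hD
  have hP : IsPGroup 2 (Cfsg.pCore 2 G) := Cfsg.Agent.Lib.Cores.pCore_isPGroup 2
  have h1 : vSet D d = {v : G | v ∈ D ∧ d⁻¹ * v ∈ Cfsg.pCore 2 G} := by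
    ext v
    refine ⟨fun hv => ⟨hv.1, ?_⟩, fun hv => mem_vSet_of_mem_pGroup hC hP hd hv.1 hv.2⟩
    rw [inv_eq hC.1 hd, ← (commute_of_mem_vSet hd hv).eq]
    exact mul_mem_pCore_two hC hd hv
  refine ⟨h1, ?_⟩
  show vSet D d = _
  ext v
  constructor
  · intro hv
    obtain ⟨f, hf, hfd⟩ := exists_not_commute hD hD2 hd
    obtain ⟨g, hg, he⟩ := exists_pCore_conj hC hd hv hf hfd
    exact ⟨g, hg, he.symm⟩
  · rintro ⟨g, hg, rfl⟩
    rw [h1]
    refine ⟨hC.2 g d hd, ?_⟩
    have h2 := (inferInstance : (Cfsg.pCore 2 G).Normal).conj_mem _ hg d⁻¹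
    rw [inv_inv] at h2
    have h3 := mul_mem h2 (inv_mem hg)
    convert h3 using 1
    group

end Cfsg.Agent.S5349
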