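import Cfsg.Statements.S5350
import Cfsg.Agent.Lib.ThreeTranspositions.Width
import Cfsg.Agent.Lib.ThreeTranspositions.QuatCentre

set_option autoImplicit false
open Cfsg
open Cfsg.Agent.Lib.ThreeTranspositions

namespace Cfsg.Agent.S5350

/-- Let D be a conjugacy class of 3-transpositions generating the finite group G, with at least two members, and d a member of D. Then the set of members w of D whose commuting partners in D (other than w) are exactly those of d (other than d) coincides with the set of members of D lying in the coset of d modulo the largest normal 3-subgroup of G, and also with the orbit of d under conjugation by that normal 3-subgroup. -/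
theorem result {G : Type*} [Group G] [Finite G] {D : Set G} (hD : Cfsg.IsThreeTranspositionClass D) (hD2 : ∃ a ∈ D, ∃ b ∈ D, a ≠ b) {d : G} (hd : d ∈ D) : {w : G | w ∈ D ∧ {y : G | y ∈ D ∧ y ≠ d ∧ Commute d y} = {y : G | y ∈ D ∧ y ≠ w ∧ Commute w y}} = {w : G | w ∈ D ∧ d⁻¹ * w ∈ Cfsg.pCore 3 G} ∧ {w : G | w ∈ D ∧ {y : G | y ∈ D ∧ y ≠ d ∧ Commute d y} = {y : G | y ∈ D ∧ y ≠ w ∧ Commute w y}} = {w : G | ∃ g ∈ Cfsg.pCore 3 G, w = g * d * g⁻¹} := by
  have hC := isClosedSet_of_class hD
  have hS := hC.1
  haveI : Fact (Nat.Prime 3) := ⟨Nat.prime_three⟩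
  have hto : ∀ w ∈ wSet D d, d⁻¹ * w ∈ pCore 3 G := fun w hw => by
    have h := inv_mem (mul_mem_pCore_three quaternionCentre hC hd hw)
    rwa [mul_inv_rev, inv_eq hS hw.1] at h
  have hback : ∀ w ∈ D, d⁻¹ * w ∈ pCore 3 G → w ∈ wSet D d := fun w hw h =>
    mem_wSet_of_mem_pGroup hC (Cfsg.Agent.Lib.Cores.pCore_isPGroup 3) hd hw h
  constructor
  · ext w
    exact ⟨fun h => ⟨h.1, hto w h⟩, fun h => hback w h.1 h.2⟩
  · ext w
    constructor
    · intro h
      obtain ⟨g, hg, he⟩ := exists_pCore_three_conj quaternionCentre hC hd h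
      exact ⟨g, hg, he.symm⟩
    · rintro ⟨g, hg, rfl⟩
      refine hback _ (hC.2 g d hd) ?_
      have h2 := mul_mem ((inferInstance : (pCore 3 G).Normal).conj_mem g hg d⁻¹) (inv_mem hg)
      convert h2 using 1
      group

end Cfsg.Agent.S5350
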