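import Cfsg.Statements.S5355
import Cfsg.Agent.Lib.ThreeTranspositions.Blocks

set_option autoImplicit false
open Cfsg

namespace Cfsg.Agent.S5355
open Cfsg.Agent.Lib.ThreeTranspositions

variable {G : Type*} [Group G] {D : Set G} {a b h : G}

/-- In a plane of type `S₄` the product of two commuting points moves the third. -/
theorem vmul_moves (hC : IsClosedSet D) (ha : a ∈ D) (hb : b ∈ D) (hab : a ≠ b)
    (hc : Commute a b) (hh : h ∈ D) (h1 : ¬ Commute a h) (h2 : ¬ Commute b h) :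
    (b * a) * h * (b * a)⁻¹ ≠ h := by
  have hS := hC.1
  set φ := s4Hom (mul_self hS ha) (mul_self hS hh) (mul_self hS hb) hc (braid hS ha hh h1)
    (braid hS hh hb (not_commute_symm h2)) with hφ
  have hinj : Function.Injective φ := s4Hom_injective _ _ _ _ _ _ hab
  have e0 : φ (Equiv.swap 0 1) = a := s4Hom_gen _ _ _ _ _ _ 0
  have e1 : φ (Equiv.swap 1 2) = h := s4Hom_gen _ _ _ _ _ _ 1
  have e2 : φ (Equiv.swap 2 3) = b := s4Hom_gen _ _ _ _ _ _ 2
  clear_value φ
  rw [← e0, ← e1, ← e2]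
  simp only [← map_mul, ← map_inv]
  exact fun h => absurd (hinj h) (by decide +kernel)

/-- Let D be a conjugacy class of 3-transpositions generating the finite group G, with at least two members, and d a member of D. Suppose that every member of D commuting with d commutes with exactly the same members of D as d does, and that exactly one member of D other than d commutes with d. Then G is isomorphic to the symmetric group of degree 4. -/
theorem result {G : Type*} [Group G] [Finite G] {D : Set G} (hD : Cfsg.IsThreeTranspositionClass D) (hD2 : ∃ a ∈ D, ∃ b ∈ D, a ≠ b) {d : G} (hd : d ∈ D) (hV : {y : G | y ∈ D ∧ Commute d y} = {v : G | v ∈ D ∧ ∀ e ∈ D, Commute v e ↔ Commute d e}) (hm : {y : G | y ∈ D ∧ Commute d y}.ncard = 2) : Nonempty (G ≃* Equiv.Perm (Fin 4)) := by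
  have hC := isClosedSet_of_class hD
  have hS := hC.1
  have hblock : ∀ y ∈ D, {z : G | z ∈ D ∧ Commute y z} = vSet D y ∧
      {z : G | z ∈ D ∧ Commute y z}.ncard = 2 := by
    intro y hy
    obtain ⟨g, rfl⟩ := class_exists_conj hD hd hy
    have himg : {z : G | z ∈ D ∧ Commute (g * d * g⁻¹) z}
        = (fun z => g * z * g⁻¹) '' {z : G | z ∈ D ∧ Commute d z} := by
      ext z
      constructor
      · rintro ⟨hz, hc⟩
        refine ⟨g⁻¹ * z * g⁻¹⁻¹, ⟨hC.2 g⁻¹ z hz, ?_⟩, by group⟩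
        rwa [← Commute.conj_iff g, conj_conj_inv]
      · rintro ⟨u, ⟨hu, hc⟩, rfl⟩
        exact ⟨hC.2 g u hu, (Commute.conj_iff g).2 hc⟩
    refine ⟨?_, ?_⟩
    · rw [himg, hV]
      ext z
      constructor
      · rintro ⟨u, hu, rfl⟩
        exact conj_mem_vSet hC g hu
      · intro hz
        refine ⟨g⁻¹ * z * g⁻¹⁻¹, ?_, by group⟩
        have := conj_mem_vSet hC g⁻¹ hz
        rwa [show g⁻¹ * (g * d * g⁻¹) * g⁻¹⁻¹ = d by group] at this
    · rw [himg, Set.ncard_image_of_injective _ (fun a b h => conj_injective h), hm]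
  obtain ⟨v, hv, hvd⟩ : ∃ v ∈ vSet D d, v ≠ d := by
    have h2 : 1 < (vSet D d).ncard := by
      show 1 < _
      rw [← (hblock d hd).1, (hblock d hd).2]
      norm_num
    exact Set.exists_ne_of_one_lt_ncard h2 d
  obtain ⟨f, hf, hfd⟩ := exists_not_commute hD hD2 hd
  have hvD : v ∈ D := hv.1
  have hdv : Commute d v := (commute_of_mem_vSet hd hv).symm
  have hfv : ¬ Commute v f := fun h => hfd ((hv.2 f hf).1 h)
  set φ := s4Hom (mul_self hS hd) (mul_self hS hf) (mul_self hS hvD) hdv (braid hS hd hf hfd)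
    (braid hS hf hvD (not_commute_symm hfv)) with hφ
  have hinj : Function.Injective φ := s4Hom_injective _ _ _ _ _ _ hvd.symm
  have e0 : φ (Equiv.swap 0 1) = d := s4Hom_gen _ _ _ _ _ _ 0
  have e1 : φ (Equiv.swap 1 2) = f := s4Hom_gen _ _ _ _ _ _ 1
  have e2 : φ (Equiv.swap 2 3) = v := s4Hom_gen _ _ _ _ _ _ 2
  clear_value φ
  clear hφ
  have himgD : ∀ σ : Equiv.Perm (Fin 4), φ (σ * Equiv.swap 0 1 * σ⁻¹) ∈ D := fun σ => by
    rw [map_mul, map_mul, map_inv, e0]; exact hC.2 _ d hd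
  have h12 : φ (Equiv.swap 1 2) ∈ D := e1 ▸ hf
  have h23 : φ (Equiv.swap 2 3) ∈ D := e2 ▸ hvD
  have h03 : φ (Equiv.swap 0 3) ∈ D := by
    have := himgD (Equiv.swap 1 3)
    rwa [show Equiv.swap (1 : Fin 4) 3 * Equiv.swap 0 1 * (Equiv.swap 1 3)⁻¹ = Equiv.swap 0 3 by
      decide +kernel] at this
  have h02 : φ (Equiv.swap 0 2) ∈ D := by
    have := himgD (Equiv.swap 1 2)
    rwa [show Equiv.swap (1 : Fin 4) 2 * Equiv.swap 0 1 * (Equiv.swap 1 2)⁻¹ = Equiv.swap 0 2 by
      decide +kernel] at this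
  have h13 : φ (Equiv.swap 1 3) ∈ D := by
    have := himgD (Equiv.swap 0 3)
    rwa [show Equiv.swap (0 : Fin 4) 3 * Equiv.swap 0 1 * (Equiv.swap 0 3)⁻¹ = Equiv.swap 1 3 by
      decide +kernel] at this
  have pair : ∀ (σ τ : Equiv.Perm (Fin 4)), φ σ ∈ D → φ τ ∈ D → σ ≠ τ → Commute σ τ →
      ∀ h ∈ D, Commute (φ σ) h → h = φ σ ∨ h = φ τ := by
    intro σ τ hσ hτ hne hc h hh hch
    have hsub : ({φ σ, φ τ} : Set G) ⊆ {z : G | z ∈ D ∧ Commute (φ σ) z} := by
      rintro z (rfl | rfl)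
      · exact ⟨hσ, Commute.refl _⟩
      · exact ⟨hτ, hc.map φ⟩
    have heq := Set.eq_of_subset_of_ncard_le hsub (by
      rw [(hblock _ hσ).2, Set.ncard_pair fun he => hne (hinj he)]) (Set.toFinite _)
    have : h ∈ ({φ σ, φ τ} : Set G) := by rw [heq]; exact ⟨hh, hch⟩
    exact this
  have flip : ∀ (σ τ : Equiv.Perm (Fin 4)), φ σ ∈ D → φ τ ∈ D → σ ≠ τ → Commute σ τ →
      ∀ h ∈ D, ¬ Commute (φ σ) h → ∀ h', h' ∈ vSet D h → h' ≠ h →
        (φ τ * φ σ) * h * (φ τ * φ σ)⁻¹ = h' := by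
    intro σ τ hσ hτ hne hc h hh hch h' hh' hne'
    have hτV : φ τ ∈ vSet D (φ σ) := by
      rw [← (hblock _ hσ).1]; exact ⟨hτ, hc.map φ⟩
    have hch2 : ¬ Commute (φ τ) h := fun hx => hch ((hτV.2 h hh).1 hx)
    have hmem := vConj_mem hC hσ hτV hh
    have hmove := vmul_moves hC hσ hτ (fun he => hne (hinj he)) (hc.map φ) hh hch hch2
    have hsub : ({h, h'} : Set G) ⊆ vSet D h :=
      Set.insert_subset (self_mem_vSet hh) (Set.singleton_subset_iff.2 hh')
    have heq := Set.eq_of_subset_of_ncard_le hsub (by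
      rw [← (hblock h hh).1, (hblock h hh).2, Set.ncard_pair hne'.symm]) (Set.toFinite _)
    rw [← heq] at hmem
    exact hmem.resolve_left hmove
  have hall : ∀ h ∈ D, h ∈ φ.range := by
    intro h hh
    by_contra hn
    have hn' : ∀ σ, h ≠ φ σ := fun σ he => hn ⟨σ, he.symm⟩
    have hA : ¬ Commute (φ (Equiv.swap 0 1)) h := fun hc => by
      rcases pair _ (Equiv.swap 2 3) (e0 ▸ hd) h23 (by decide +kernel)
        (by show _ = _; decide +kernel) h hh hc with he | he <;> exact hn' _ he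
    have hB : ¬ Commute (φ (Equiv.swap 1 2)) h := fun hc => by
      rcases pair _ (Equiv.swap 0 3) h12 h03 (by decide +kernel)
        (by show _ = _; decide +kernel) h hh hc with he | he <;> exact hn' _ he
    have hC' : ¬ Commute (φ (Equiv.swap 0 2)) h := fun hc => by
      rcases pair _ (Equiv.swap 1 3) h02 h13 (by decide +kernel)
        (by show _ = _; decide +kernel) h hh hc with he | he <;> exact hn' _ he
    obtain ⟨h', hh', hne'⟩ : ∃ u ∈ vSet D h, u ≠ h := by
      have h2 : 1 < (vSet D h).ncard := by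
        rw [← (hblock h hh).1, (hblock h hh).2]; norm_num
      exact Set.exists_ne_of_one_lt_ncard h2 h
    have fA := flip _ (Equiv.swap 2 3) (e0 ▸ hd) h23 (by decide +kernel)
      (by show _ = _; decide +kernel) h hh hA h' hh' hne'
    have fB := flip _ (Equiv.swap 0 3) h12 h03 (by decide +kernel)
      (by show _ = _; decide +kernel) h hh hB h' hh' hne'
    have fC := flip _ (Equiv.swap 1 3) h02 h13 (by decide +kernel)
      (by show _ = _; decide +kernel) h hh hC' h' hh' hne'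
    simp only [← map_mul] at fA fB fC
    apply hne'
    rw [← fC, show Equiv.swap (1 : Fin 4) 3 * Equiv.swap 0 2
      = (Equiv.swap 0 3 * Equiv.swap 1 2)⁻¹ * (Equiv.swap 2 3 * Equiv.swap 0 1) by decide +kernel,
      map_mul, map_inv]
    calc _ = (φ (Equiv.swap 0 3 * Equiv.swap 1 2))⁻¹ * (φ (Equiv.swap 2 3 * Equiv.swap 0 1) * h *
          (φ (Equiv.swap 2 3 * Equiv.swap 0 1))⁻¹) * φ (Equiv.swap 0 3 * Equiv.swap 1 2) := by
          group
      _ = h := by rw [fA, ← fB]; group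
  have hsurj : Function.Surjective φ := by
    rw [← MonoidHom.range_eq_top, eq_top_iff, ← hD.2.2, Subgroup.closure_le]
    exact hall
  exact ⟨(MulEquiv.ofBijective φ ⟨hinj, hsurj⟩).symm⟩

end Cfsg.Agent.S5355
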