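import Cfsg.Statements.S5356
import Cfsg.Agent.Lib.ThreeTranspositions.Lift
import Cfsg.Agent.Lib.ThreeTranspositions.Width
import Cfsg.Agent.Lib.ThreeTranspositions.QuatCentre

set_option autoImplicit false
open Cfsg
open scoped Pointwise
open Cfsg.Agent.Lib.ThreeTranspositions

namespace Cfsg.Agent.S5356

/-- Let D be a conjugacy class of 3-transpositions generating the finite group G, with at least two members, and d a member of D such that every member of D commuting with d commutes with exactly the same members of D as d. Then there is a Sylow 3-subgroup P of G normalized by d such that G is generated by d, P and the largest normal 2-subgroup of G. -/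
theorem result {G : Type*} [Group G] [Finite G] {D : Set G} (hD : Cfsg.IsThreeTranspositionClass D) (hD2 : ∃ a ∈ D, ∃ b ∈ D, a ≠ b) {d : G} (hd : d ∈ D) (hV : {y : G | y ∈ D ∧ Commute d y} = {v : G | v ∈ D ∧ ∀ e ∈ D, Commute v e ↔ Commute d e}) : ∃ P : Sylow 3 G, d ∈ Subgroup.normalizer (P : Set G) ∧ Subgroup.zpowers d ⊔ (P : Subgroup G) ⊔ Cfsg.pCore 2 G = ⊤ := by
  classical
  haveI : Fact (Nat.Prime 2) := ⟨Nat.prime_two⟩
  haveI : Fact (Nat.Prime 3) := ⟨Nat.prime_three⟩
  have hC := isClosedSet_of_class hD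
  have hS := hC.1
  have hvs : ∀ a ∈ D, ∀ b ∈ D, Commute a b → b ∈ vSet D a := by
    intro a ha b hb hab
    obtain ⟨g, rfl⟩ := class_exists_conj hD hd ha
    have h1 : g⁻¹ * b * g⁻¹⁻¹ ∈ {y : G | y ∈ D ∧ Commute d y} := by
      refine ⟨hC.2 g⁻¹ b hb, ?_⟩
      have := (Commute.conj_iff g⁻¹).2 hab
      rwa [show g⁻¹ * (g * d * g⁻¹) * g⁻¹⁻¹ = d by group] at this
    rw [hV] at h1
    have h2 := conj_mem_vSet hC g (h1 : g⁻¹ * b * g⁻¹⁻¹ ∈ vSet D d)
    rwa [conj_conj_inv] at h2
  obtain ⟨f, hf, hfd⟩ := exists_not_commute hD hD2 hd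
  have hO : IsPGroup 2 (pCore 2 G) := Cfsg.Agent.Lib.Cores.pCore_isPGroup 2
  set π := QuotientGroup.mk' (pCore 2 G) with hπ
  have hker : π.ker = pCore 2 G := QuotientGroup.ker_mk' _
  have hsurj : Function.Surjective π := QuotientGroup.mk'_surjective _
  have hdO : ∀ e ∈ D, e ∉ pCore 2 G := by
    intro e he hmem
    have hall : ∀ x ∈ D, x ∈ pCore 2 G := fun x hx => by
      obtain ⟨g, rfl⟩ := class_exists_conj hD he hx
      exact (inferInstance : (pCore 2 G).Normal).conj_mem e hmem g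
    exact hfd (commute_of_mem_isPGroup hS hO hd hf (hall d hd) (hall f hf))
  have hE : IsClosedSet (π '' D) := by
    refine ⟨⟨?_, ?_⟩, ?_⟩
    · rintro _ ⟨a, ha, rfl⟩
      refine orderOf_eq_prime (by rw [pow_two, ← map_mul, mul_self hS ha, map_one]) fun h => ?_
      exact hdO a ha (by rw [← hker]; exact MonoidHom.mem_ker.2 h)
    · rintro _ ⟨a, ha, rfl⟩ _ ⟨b, hb, rfl⟩
      exact map_sq_or_cube π hS ha hb
    · intro g' e' he'
      obtain ⟨a, ha, rfl⟩ := he'
      obtain ⟨g, rfl⟩ := hsurj g'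
      exact ⟨g * a * g⁻¹, hC.2 g a ha, by simp only [map_mul, map_inv]⟩
  have hw : ∀ a ∈ π '' D, ∀ b ∈ π '' D, Commute a b → a = b := by
    rintro _ ⟨a, ha, rfl⟩ _ ⟨b, hb, rfl⟩ hab
    by_cases h : Commute a b
    · have h1 := mul_mem_pCore_two hC ha (hvs a ha b hb h)
      rw [← hker, MonoidHom.mem_ker, map_mul] at h1
      rw [eq_inv_of_mul_eq_one_right h1, inv_eq hE.1 ⟨b, hb, rfl⟩]
    · have h2 : (π a * π b) ^ 2 = 1 :=
        sq_eq_one_of_commute (mul_self hE.1 ⟨a, ha, rfl⟩) (mul_self hE.1 ⟨b, hb, rfl⟩) hab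
      have h3 : (π a * π b) ^ 3 = 1 := by
        rw [← map_mul, ← map_pow, cube_eq_one hS ha hb h, map_one]
      rw [pow_succ, h2, one_mul] at h3
      rw [eq_inv_of_mul_eq_one_left h3, inv_eq hE.1 ⟨b, hb, rfl⟩]
  set N := pCore 3 (G ⧸ pCore 2 G) with hN
  have hmulN : ∀ e ∈ D, π (e * d) ∈ N := fun e he => by
    rw [map_mul]
    exact width_one_mul_mem quaternionCentre hE hw ⟨e, he, rfl⟩ ⟨d, hd, rfl⟩
  have hgen : ∀ x : G ⧸ pCore 2 G, x ∈ N ∨ π d * x ∈ N := by
    have hdd : π d * π d = 1 := by rw [← map_mul, mul_self hS hd, map_one]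
    intro x
    obtain ⟨g, rfl⟩ := hsurj x
    have hg : g ∈ Subgroup.closure D := hD.2.2 ▸ Subgroup.mem_top g
    induction hg using Subgroup.closure_induction with
    | mem e he =>
      refine Or.inr ?_
      have := inv_mem (hmulN e he)
      rwa [map_mul, mul_inv_rev, ← map_inv, ← map_inv, inv_eq hS he, inv_eq hS hd] at this
    | one => exact Or.inl (by rw [map_one]; exact one_mem _)
    | mul a b _ _ ha hb =>
      rw [map_mul]
      have hconj : ∀ y ∈ N, π d * y * π d ∈ N := fun y hy => by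
        have := (inferInstance : N.Normal).conj_mem y hy (π d)
        rwa [inv_eq_of_mul_eq_one_left hdd] at this
      rcases ha with ha | ha <;> rcases hb with hb | hb
      · exact Or.inl (mul_mem ha hb)
      · refine Or.inr ?_
        have h := mul_mem (hconj _ ha) hb
        rwa [← mul_assoc (π d * π a * π d), mul_assoc _ (π d) (π d), hdd, mul_one, mul_assoc] at h
      · exact Or.inr (by rw [← mul_assoc]; exact mul_mem ha hb)
      · refine Or.inl ?_
        have h := mul_mem (hconj _ ha) hb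
        rwa [← mul_assoc (π d) (π d) (π a), hdd, one_mul, mul_assoc, ← mul_assoc (π d) (π d) (π b),
          hdd, one_mul] at h
    | inv a _ ha =>
      rw [map_inv]
      rcases ha with ha | ha
      · exact Or.inl (inv_mem ha)
      · refine Or.inr ?_
        have h1 := (inferInstance : N.Normal).conj_mem _ (inv_mem ha) (π d)
        rwa [mul_inv_rev, inv_eq_of_mul_eq_one_left hdd, mul_assoc, mul_assoc, hdd, mul_one] at h1
  have hNP : IsPGroup 3 N := Cfsg.Agent.Lib.Cores.pCore_isPGroup 3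
  obtain ⟨P⟩ : Nonempty (Sylow 3 G) := inferInstance
  let Q : Sylow 3 (G ⧸ pCore 2 G) := P.mapSurjective hsurj
  have hPN : (P : Subgroup G).map π = N := by
    refine le_antisymm ?_ (Cfsg.Agent.Lib.Cores.pCore_le_sylow Q)
    rintro _ ⟨x, hx, rfl⟩
    rcases hgen (π x) with h | h
    · exact h
    · exfalso
      obtain ⟨k, hk⟩ := P.isPGroup' ⟨x, hx⟩
      have hk' : x ^ 3 ^ k = 1 := by simpa [Subtype.ext_iff] using hk
      have h2 : QuotientGroup.mk' N (π x) = QuotientGroup.mk' N (π d) := by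
        refine (QuotientGroup.eq.2 ?_).symm
        rwa [← map_inv, inv_eq hS hd]
      have h3 : (QuotientGroup.mk' N (π x)) ^ 2 = 1 := by
        rw [h2, ← map_pow, ← map_pow, pow_two, mul_self hS hd, map_one, map_one]
      have h4 : (QuotientGroup.mk' N (π x)) ^ 3 ^ k = 1 := by
        rw [← map_pow, ← map_pow, hk', map_one, map_one]
      have h5 := pow_gcd_eq_one.2 ⟨h3, h4⟩
      rw [show Nat.gcd 2 (3 ^ k) = 1 from Nat.Coprime.pow_right k (by norm_num), pow_one, h2] at h5
      have h6 : π d ∈ N := (QuotientGroup.eq_one_iff _).1 h5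
      obtain ⟨j, hj⟩ := hNP ⟨π d, h6⟩
      have hj' : (π d) ^ 3 ^ j = 1 := by simpa [Subtype.ext_iff] using hj
      have h7 := pow_gcd_eq_one.2
        ⟨(pow_two (π d)).trans (mul_self hE.1 ⟨d, hd, rfl⟩), hj'⟩
      rw [show Nat.gcd 2 (3 ^ j) = 1 from Nat.Coprime.pow_right j (by norm_num), pow_one] at h7
      exact hdO d hd (by rw [← hker]; exact MonoidHom.mem_ker.2 h7)
  have hK : ∀ x : G, π x ∈ N → x ∈ (P : Subgroup G) ⊔ pCore 2 G := by
    intro x hx
    rw [← hPN, ← Subgroup.mem_comap, Subgroup.comap_map_eq, hker] at hx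
    exact hx
  have hdinv := inv_eq hS hd
  have hmem : ∀ x ∈ (P : Subgroup G), d * x * d ∈ (P : Subgroup G) ⊔ pCore 2 G := by
    intro x hx
    apply hK
    rw [map_mul, map_mul]
    have h1 : π x ∈ N := hPN ▸ ⟨x, hx, rfl⟩
    have := (inferInstance : N.Normal).conj_mem _ h1 (π d)
    rwa [← map_inv, hdinv] at this
  have hyp : ∀ g : G, g * d * g⁻¹ * d ∈ pCore 2 G →
      ∃ o ∈ pCore 2 G, g * d * g⁻¹ = o * d * o⁻¹ := by
    intro g hg
    have hv := hC.2 g d hd
    have h1 : d⁻¹ * (g * d * g⁻¹) ∈ pCore 2 G := by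
      have := (inferInstance : (pCore 2 G).Normal).conj_mem _ hg d
      convert this using 1
      rw [hdinv]; simp only [mul_assoc, mul_self hS hd, mul_one]
    obtain ⟨o, ho, he⟩ := exists_pCore_conj hC hd (mem_vSet_of_mem_pGroup hC hO hd hv h1) hf hfd
    exact ⟨o, ho, he.symm⟩
  obtain ⟨o, ho, hn⟩ := exists_normalizes (O := pCore 2 G) (P := (P : Subgroup G)) (p := 3)
    (by norm_num) hO P.isPGroup' (mul_self hS hd) hmem hyp
  refine ⟨MulAut.conj o • P, ?_, ?_⟩
  · have key : ∀ y ∈ (P : Subgroup G).map (MulAut.conj o).toMonoidHom,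
        d * y * d ∈ (P : Subgroup G).map (MulAut.conj o).toMonoidHom := by
      rintro _ ⟨x, hx, rfl⟩
      exact hn x hx
    refine Subgroup.mem_normalizer_iff.2 ?_
    intro y
    rw [hdinv]
    refine ⟨key y, fun h => ?_⟩
    have := key _ h
    rwa [show d * (d * y * d) * d = y by
      simp only [mul_assoc, mul_self hS hd, mul_one]; rw [← mul_assoc, mul_self hS hd, one_mul]] at this
  · set T := Subgroup.zpowers d ⊔ ((MulAut.conj o • P : Sylow 3 G) : Subgroup G) ⊔ pCore 2 G with hT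
    have hOT : pCore 2 G ≤ T := le_sup_right
    have hdT : d ∈ T := Subgroup.mem_sup_left (Subgroup.mem_sup_left (Subgroup.mem_zpowers d))
    have hPT : (P : Subgroup G) ≤ T := by
      intro x hx
      have h1 : o * x * o⁻¹ ∈ T :=
        Subgroup.mem_sup_left (Subgroup.mem_sup_right ⟨x, hx, rfl⟩)
      have := mul_mem (mul_mem (inv_mem (hOT ho)) h1) (hOT ho)
      rwa [show o⁻¹ * (o * x * o⁻¹) * o = x by group] at this
    rw [eq_top_iff]
    intro g _
    rcases hgen (π g) with h | h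
    · exact sup_le hPT hOT (hK g h)
    · rw [← map_mul] at h
      have := mul_mem hdT (sup_le hPT hOT (hK _ h))
      rwa [← mul_assoc, mul_self hS hd, one_mul] at this

end Cfsg.Agent.S5356
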