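import Cfsg.Statements.S5358
import Cfsg.Agent.Lib.ThreeTranspositions.ReflectThree
-- import your own Cfsg.Agent.* helpers here

set_option autoImplicit false
open scoped MatrixGroups
open Cfsg

namespace Cfsg.Agent.S5358

/-- Let Q be a non-degenerate quadratic form on the n-dimensional coordinate space over the field with three elements and u, v vectors of the same non-zero norm Q(u) = Q(v) spanning different lines (v ≠ u and v ≠ −u). Then the reflection matrices of u and v commute if and only if u and v are orthogonal for the polar form of Q. -/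
theorem result (n : ℕ) (Q : QuadraticForm (ZMod 3) (Fin n → ZMod 3)) (hQ : (QuadraticMap.polarBilin Q).Nondegenerate) (u v : Fin n → ZMod 3) (hu : Q u ≠ 0) (huv : Q u = Q v) (h1 : v ≠ u) (h2 : v ≠ -u) : Commute (Cfsg.reflectionMatrix (⇑Q) u) (Cfsg.reflectionMatrix (⇑Q) v) ↔ QuadraticMap.polar (⇑Q) u v = 0 := by
  have hu' : Q v ≠ 0 := huv ▸ hu
  rw [← Cfsg.Agent.Lib.Forms.irefl_coe Q u, ← Cfsg.Agent.Lib.Forms.irefl_coe Q v]
  constructor
  · intro h
    refine Cfsg.Agent.Lib.ThreeTranspositions.ReflectThree.polar_eq_zero_of_commute hu huv h1 h2 ?_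
    have h' : Commute (Cfsg.Agent.Lib.Forms.irefl Q u) (Cfsg.Agent.Lib.Forms.irefl Q v) :=
      Subtype.ext (Units.ext (by simpa only [Subgroup.coe_mul, Units.val_mul] using h.eq))
    simpa only [Cfsg.Agent.Lib.Forms.toOrth_irefl] using h'.map (Cfsg.Agent.Lib.Forms.toOrth Q)
  · intro h
    have h' := (Cfsg.Agent.Lib.ThreeTranspositions.ReflectThree.orefl_commute h).map (Cfsg.Agent.Lib.Forms.toOrth Q).symm
    have h3 := congrArg (fun g : Cfsg.isometryGroup (ZMod 3) (⇑Q) =>
      ((g : GL (Fin n) (ZMod 3)) : Matrix (Fin n) (Fin n) (ZMod 3))) h'.eq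
    simp only [Subgroup.coe_mul, Units.val_mul] at h3
    exact h3

end Cfsg.Agent.S5358
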