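import Cfsg.Statements.S5361
import Cfsg.Agent.Lib.ThreeTranspositions.Maximal
import Cfsg.Agent.Lib.ThreeTranspositions.SimpleDerived

set_option autoImplicit false
open Cfsg
open Cfsg.Agent.Lib.ThreeTranspositions

namespace Cfsg.Agent.S5361

/-- Let D be a conjugacy class of 3-transpositions generating the finite group G, and suppose the centre of G is trivial and some two different members of D commute. Then the following are equivalent: (1) the commutator subgroup of G is simple (possibly of prime order); (2) G acts primitively on D by conjugation; (3) the largest normal 2-subgroup and the largest normal 3-subgroup of G are trivial and the commuting graph of D is connected. -/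
theorem result {G : Type*} [Group G] [Finite G] {D : Set G} (hD : Cfsg.IsThreeTranspositionClass D) (hZ : Subgroup.center G = ⊥) (hw : ∃ a ∈ D, ∃ b ∈ D, a ≠ b ∧ Commute a b) : (IsSimpleGroup (commutator G) ↔ Cfsg.IsPrimitiveUnderConj D) ∧ (Cfsg.IsPrimitiveUnderConj D ↔ (Cfsg.pCore 2 G = ⊥ ∧ Cfsg.pCore 3 G = ⊥ ∧ (Cfsg.commutingGraph D).Connected)) := by
  obtain ⟨a, ha, b, hb, hab, hcab⟩ := id hw
  have hD2 : ∃ a ∈ D, ∃ b ∈ D, a ≠ b := ⟨a, ha, b, hb, hab⟩
  have hgrp := isThreeTranspositionGroup_of_class hD
  have hC := isClosedSet_of_class hD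
  have hbot : ∀ N : Subgroup G, N ≤ Subgroup.center G → N = ⊥ := fun N h => le_bot_iff.1 (hZ ▸ h)
  have hiff : IsPrimitiveUnderConj D ↔
      (pCore 2 G = ⊥ ∧ pCore 3 G = ⊥ ∧ (commutingGraph D).Connected) := by
    constructor
    · intro hprim
      obtain ⟨h2, h3⟩ := cores_central_of_primitive hD hprim hw
      exact ⟨hbot _ h2, hbot _ h3, connected_of_primitive hD hprim hw⟩
    · rintro ⟨h2, h3, hconn⟩
      have h2' : pCore 2 G ≤ Subgroup.center G := h2 ▸ bot_le
      have h3' : pCore 3 G ≤ Subgroup.center G := h3 ▸ bot_le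
      obtain ⟨L, hLn, hLc, -, hF⟩ := exists_component hD hD2 h2' h3'
      haveI := hLn
      exact isPrimitive_of_index_le_two hD hD2 h2' h3' hLc.2 hF
        (index_le_two_of_connected hD ha hLc.2 hconn)
  refine ⟨⟨fun hs => ?_, fun hprim => ?_⟩, hiff⟩
  · exact isPrimitive_of_simple hD hZ hw hs
  · exact isSimpleGroup_of_primitive hD hZ hw hprim

end Cfsg.Agent.S5361
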