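import Cfsg.Statements.S5363
-- import your own Cfsg.Agent.* helpers here

set_option autoImplicit false
open Cfsg

namespace Cfsg.Agent.S5363

theorem conj_pow_aux {G : Type*} [Group G] {a b : G} (ha : a * a = 1) (hb : b * b = 1) (j : ℕ) :
    (a * b) ^ j * a * ((a * b) ^ j)⁻¹ = (a * b) ^ (2 * j) * a := by
  have h1 : a * (a * b) * a⁻¹ = (a * b)⁻¹ := by
    rw [mul_inv_rev, inv_eq_of_mul_eq_one_left ha, inv_eq_of_mul_eq_one_left hb, ← mul_assoc, ha,
      one_mul]
  have h2 : a * ((a * b) ^ j)⁻¹ * a⁻¹ = (a * b) ^ j := by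
    rw [← inv_pow, ← conj_pow, ← conj_inv, h1, inv_inv]
  rw [two_mul, pow_add, mul_assoc ((a * b) ^ j), mul_assoc]
  congr 1
  exact mul_inv_eq_iff_eq_mul.1 h2

/-- Let D be a conjugation-invariant set of involutions of a finite group G. Then every product of two members of D has odd order or order 2 if and only if, for every a in D and every b in D different from a and commuting with a, the members of D commuting with a b are exactly those commuting with both a and b. -/
theorem result {G : Type*} [Group G] [Finite G] {D : Set G} (hinv : ∀ d ∈ D, orderOf d = 2) (hconj : ∀ g : G, ∀ d ∈ D, g * d * g⁻¹ ∈ D) : (∀ a ∈ D, ∀ b ∈ D, Odd (orderOf (a * b)) ∨ orderOf (a * b) = 2) ↔ ∀ a ∈ D, ∀ b ∈ D, b ≠ a → Commute a b → {y : G | y ∈ D ∧ Commute (a * b) y} = {y : G | y ∈ D ∧ Commute a y} ∩ {y : G | y ∈ D ∧ Commute b y} := by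
  have hsq : ∀ d ∈ D, d * d = 1 := fun d hd => by
    have h := pow_orderOf_eq_one d
    rwa [hinv d hd, pow_two] at h
  have hinv' : ∀ d ∈ D, d⁻¹ = d := fun d hd => inv_eq_of_mul_eq_one_left (hsq d hd)
  constructor
  · intro h a ha b hb hne hab
    have htsq : (a * b) * (a * b) = 1 := by
      rw [mul_assoc, ← mul_assoc b, ← hab.eq, mul_assoc a b b, hsq b hb, mul_one, hsq a ha]
    have hta : Commute (a * b) a := (Commute.refl a).mul_left hab.symm
    have hb' : b = a * (a * b) := by rw [← mul_assoc, hsq a ha, one_mul]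
    ext y
    simp only [Set.mem_inter_iff, Set.mem_setOf_eq]
    refine ⟨?_, fun ⟨⟨hy, h1⟩, _, h2⟩ => ⟨hy, h1.mul_left h2⟩⟩
    rintro ⟨hy, hty⟩
    have hya : Commute a y := by
      by_contra hn
      have hn2 : (y * a) * (y * a) ≠ 1 := by
        intro h2
        apply hn
        have h3 := inv_eq_of_mul_eq_one_left h2
        rw [mul_inv_rev, hinv' a ha, hinv' y hy] at h3
        exact h3
      obtain ⟨k, hk⟩ : Odd (orderOf (y * a)) := by
        refine (h y hy a ha).resolve_right fun h2 => hn2 ?_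
        rw [← pow_two, ← h2]
        exact pow_orderOf_eq_one _
      have hr : (y * a) ^ (2 * k + 1) = 1 := by rw [← hk]; exact pow_orderOf_eq_one _
      have hg : (y * a) ^ k * y * ((y * a) ^ k)⁻¹ = a := by
        rw [conj_pow_aux (hsq y hy) (hsq a ha) k]
        calc (y * a) ^ (2 * k) * y = (y * a) ^ (2 * k) * (y * a) * a := by
              rw [mul_assoc ((y * a) ^ (2 * k)), mul_assoc y, hsq a ha, mul_one]
          _ = a := by rw [← pow_succ, hr, one_mul]
      have htg : Commute (a * b) ((y * a) ^ k) := (hty.mul_right hta).pow_right k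
      have hyt : y * (a * b) ∈ D := by
        have h1 := hconj ((y * a) ^ k)⁻¹ b hb
        have h2 : ((y * a) ^ k)⁻¹ * b * ((y * a) ^ k)⁻¹⁻¹ = y * (a * b) := by
          rw [inv_inv]
          calc ((y * a) ^ k)⁻¹ * b * (y * a) ^ k
              = ((y * a) ^ k)⁻¹ * (a * (a * b)) * (y * a) ^ k := by rw [← hb']
            _ = ((y * a) ^ k)⁻¹ * a * ((a * b) * (y * a) ^ k) := by simp only [mul_assoc]
            _ = ((y * a) ^ k)⁻¹ * a * (y * a) ^ k * (a * b) := by
              rw [htg.eq]; simp only [mul_assoc]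
            _ = ((y * a) ^ k)⁻¹ * ((y * a) ^ k * y * ((y * a) ^ k)⁻¹) * (y * a) ^ k * (a * b) := by
              rw [hg]
            _ = y * (a * b) := by group
        rwa [h2] at h1
      have hc : Commute (a * y) (a * b) := (hta.mul_right hty).symm
      have hay : a * y = (y * a)⁻¹ := by rw [mul_inv_rev, hinv' a ha, hinv' y hy]
      rcases h a ha _ hyt with h1 | h1
      · obtain ⟨j, hj⟩ := h1
        have h2 := pow_orderOf_eq_one (a * (y * (a * b)))
        rw [hj, ← mul_assoc a, hc.mul_pow] at h2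
        have h3 := congrArg (· ^ (2 * k + 1)) h2
        simp only [one_pow] at h3
        rw [((hc.pow_pow (2 * j + 1) (2 * j + 1))).mul_pow, ← pow_mul (a * y), mul_comm (2 * j + 1),
          pow_mul, hay, inv_pow, hr, inv_one, one_pow, one_mul, ← pow_mul] at h3
        have h4 : (a * b) ^ ((2 * j + 1) * (2 * k + 1)) = a * b := by
          rw [show (2 * j + 1) * (2 * k + 1) = 2 * (2 * j * k + j + k) + 1 by ring, pow_succ,
            pow_mul, pow_two, htsq, one_pow, one_mul]
        rw [h4] at h3
        exact hne ((eq_inv_of_mul_eq_one_left h3).trans (hinv' b hb)).symm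
      · have h2 := pow_orderOf_eq_one (a * (y * (a * b)))
        rw [h1, ← mul_assoc a, hc.mul_pow, pow_two (a * b), htsq, mul_one, hay, inv_pow,
          inv_eq_one, pow_two] at h2
        exact hn2 h2
    refine ⟨⟨hy, hya⟩, hy, ?_⟩
    rw [hb']
    exact hya.mul_left hty
  · intro h a ha b hb
    by_contra hk
    rw [not_or, Nat.not_odd_iff_even] at hk
    obtain ⟨⟨m, hm⟩, hk2⟩ := hk
    have hpos := orderOf_pos (a * b)
    have hr : (a * b) ^ (m + m) = 1 := by rw [← hm]; exact pow_orderOf_eq_one _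
    have hzne : (a * b) ^ m ≠ 1 := by
      intro h0
      have := orderOf_le_of_pow_eq_one (by omega) h0
      omega
    have hzz : (a * b) ^ m * (a * b) ^ m = 1 := by rw [← pow_add]; exact hr
    have h1 : a * (a * b) * a⁻¹ = (a * b)⁻¹ := by
      rw [mul_inv_rev, hinv' a ha, hinv' b hb, ← mul_assoc, hsq a ha, one_mul]
    have haz : Commute a ((a * b) ^ m) := by
      have : a * (a * b) ^ m * a⁻¹ = (a * b) ^ m := by
        rw [← conj_pow, h1, inv_pow, inv_eq_of_mul_eq_one_left hzz]
      exact mul_inv_eq_iff_eq_mul.1 this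
    have hzb : Commute ((a * b) ^ m) b := by
      have hb' : b = a * (a * b) := by rw [← mul_assoc, hsq a ha, one_mul]
      have h2 := haz.symm.mul_right ((Commute.refl (a * b)).pow_left m)
      rwa [← hb'] at h2
    have hcD : (a * b) ^ m * a ∈ D := by
      rcases Nat.even_or_odd' m with ⟨j, hj | hj⟩
      · have h2 := hconj ((a * b) ^ j) a ha
        rwa [conj_pow_aux (hsq a ha) (hsq b hb), ← hj] at h2
      · have h2 := hconj ((a * b) ^ j * a) b hb
        have h3 : (a * b) ^ j * a * b * ((a * b) ^ j * a)⁻¹ = (a * b) ^ m * a := by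
          rw [mul_inv_rev, hinv' a ha, hj, pow_succ']
          calc (a * b) ^ j * a * b * (a * ((a * b) ^ j)⁻¹)
              = (a * b) ^ j * (a * b) * a * ((a * b) ^ j)⁻¹ := by simp only [mul_assoc]
            _ = (a * b) * ((a * b) ^ j * a * ((a * b) ^ j)⁻¹) := by
              rw [(Commute.refl (a * b)).pow_left j |>.eq]; simp only [mul_assoc]
            _ = (a * b) * (a * b) ^ (2 * j) * a := by
              rw [conj_pow_aux (hsq a ha) (hsq b hb), ← mul_assoc]
        rwa [h3] at h2
    have hne : (a * b) ^ m * a ≠ a := fun h0 => hzne (mul_eq_right.1 h0)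
    have hcomm : Commute a ((a * b) ^ m * a) := haz.mul_right (Commute.refl a)
    have hprod : a * ((a * b) ^ m * a) = (a * b) ^ m := by
      rw [← mul_assoc, haz.eq, mul_assoc, hsq a ha, mul_one]
    have h4 := (Set.ext_iff.1 (h a ha _ hcD hne hcomm) b).1 ⟨hb, by rw [hprod]; exact hzb⟩
    have h5 : Commute a b := h4.1.2
    have h6 : (a * b) ^ 2 = 1 := by
      rw [h5.mul_pow, pow_two, pow_two, hsq a ha, hsq b hb, one_mul]
    have h7 := orderOf_le_of_pow_eq_one (by omega) h6
    have h8 : a * b ≠ 1 := fun h0 => hzne (by rw [h0, one_pow])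
    have h9 : orderOf (a * b) ≠ 1 := fun h0 => h8 (orderOf_eq_one_iff.1 h0)
    omega

end Cfsg.Agent.S5363
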