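import Cfsg.Statements.S5364


set_option autoImplicit false
open Cfsg

namespace Cfsg.Agent.S5364

/-- Let D be a conjugation-invariant set of involutions of a finite group G and t an involution in the centre of G such that d t does not lie in D for any d in D. If the images of the members of D in G modulo the subgroup generated by t satisfy the 3-transposition order conditions (each has order 2 and any two have product of order at most 3), then so do the members of D. -/
theorem result {G : Type*} [Group G] [Finite G] {D : Set G} (hinv : ∀ d ∈ D, orderOf d = 2) (hconj : ∀ g : G, ∀ d ∈ D, g * d * g⁻¹ ∈ D) (t : G) (ht : orderOf t = 2) (htZ : t ∈ Subgroup.center G) (hDt : ∀ d ∈ D, d * t ∉ D) [(Subgroup.zpowers t).Normal] (himg : Cfsg.IsThreeTranspositionSet ((QuotientGroup.mk : G → G ⧸ Subgroup.zpowers t) '' D)) : Cfsg.IsThreeTranspositionSet D := by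
  have hsq : ∀ d ∈ D, d * d = 1 := fun d hd => by
    have h := pow_orderOf_eq_one d
    rwa [hinv d hd, pow_two] at h
  have mem : ∀ x : G, x ∈ Subgroup.zpowers t → x = 1 ∨ x = t := by
    rintro x ⟨n, rfl⟩
    show t ^ n = 1 ∨ t ^ n = t
    rcases Int.even_or_odd n with ⟨k, rfl⟩ | ⟨k, rfl⟩
    · left
      rw [← two_mul, zpow_mul, zpow_ofNat, ← ht, pow_orderOf_eq_one, one_zpow]
    · right
      rw [zpow_add_one, zpow_mul, zpow_ofNat, ← ht, pow_orderOf_eq_one, one_zpow, one_mul]
  refine ⟨hinv, fun a ha b hb => ?_⟩
  rcases himg.2 _ ⟨a, ha, rfl⟩ _ ⟨b, hb, rfl⟩ with h | h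
  · rw [← QuotientGroup.mk_mul, ← QuotientGroup.mk_pow, QuotientGroup.eq_one_iff] at h
    rcases mem _ h with h | h
    · exact Or.inl h
    · exfalso
      apply hDt a ha
      have h1 : b * a * b⁻¹ = a * t := by
        rw [← h, inv_eq_of_mul_eq_one_left (hsq b hb), pow_two, ← mul_assoc, ← mul_assoc,
          ← mul_assoc, hsq a ha, one_mul]
      rw [← h1]; exact hconj b a ha
  · rw [← QuotientGroup.mk_mul, ← QuotientGroup.mk_pow, QuotientGroup.eq_one_iff] at h
    rcases mem _ h with h | h
    · exact Or.inr h
    · exfalso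
      apply hDt a ha
      have h1 : (b * a) * b * (b * a)⁻¹ = a * t := by
        rw [← h, mul_inv_rev, inv_eq_of_mul_eq_one_left (hsq b hb),
          inv_eq_of_mul_eq_one_left (hsq a ha), pow_succ, pow_two]
        simp only [← mul_assoc, hsq a ha, one_mul]
      rw [← h1]; exact hconj _ b hb

end Cfsg.Agent.S5364
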