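import Cfsg.Statements.S5365
import Cfsg.Agent.Lib.ThreeTranspositions.LocalPetersen

set_option autoImplicit false
open Cfsg

namespace Cfsg.Agent.S5365

open Lib.ThreeTranspositions Lib.ThreeTranspositions.LocalSThree

theorem square_case {G : Type*} [Group G] [Finite G] {D : Set G} (hL : LocThree D)
    (hcore : ∀ d ∈ D, Nat.card (Cfsg.pCore 3 ↥(Subgroup.centralizer ({d} : Set G))) = 3)
    {d : G} (hd : d ∈ D) (hA : TypeA D d) :
    Nonempty (↥(Subgroup.closure D) ≃* Equiv.Perm (Fin 3) × Equiv.Perm (Fin 3)) := by
  have hS := hL.1.1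
  obtain ⟨a, ha, b, hb, hab⟩ := exists_two hL hd
  have hdM : d ∈ nbr D a := nbr_symm hd ha
  have hall : D = nbr D d ∪ nbr D a := by
    refine Set.Subset.antisymm ?_ (Set.union_subset (fun y hy => hy.1) (fun y hy => hy.1))
    intro e he
    by_contra hout
    simp only [Set.mem_union, not_or] at hout
    have hed : ¬ Commute e d := fun h => by
      by_cases h' : e = d
      · exact hout.2 (h' ▸ hdM)
      · exact hout.1 ⟨he, h', h.symm⟩
    have hea : ¬ Commute e a := fun h => by
      by_cases h' : e = a
      · exact hout.1 (h' ▸ ha)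
      · exact hout.2 ⟨he, h', h.symm⟩
    have hAe : TypeA D e := by
      have := typeA_conj hL.1 hA (d * e)
      rwa [conj_of_not_commute hS hd he (not_commute_symm hed)] at this
    have hAall : ∀ y ∈ D, TypeA D y := by
      intro y hy
      by_cases hdy : Commute d y
      · by_cases h : y = d
        · exact h ▸ hA
        · have hyn : y ∈ nbr D d := ⟨hy, h, hdy⟩
          have hey : ¬ Commute e y := by
            intro hc
            by_cases h' : e = y
            · exact hout.1 (h' ▸ hyn)
            · have : e ∈ nbr D a := hA y hyn a ha ▸ (⟨he, h', hc.symm⟩ : e ∈ nbr D y)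
              exact hout.2 this
          have := typeA_conj hL.1 hAe (e * y)
          rwa [conj_of_not_commute hS he hy hey] at this
      · have := typeA_conj hL.1 hA (d * y)
        rwa [conj_of_not_commute hS hd hy hdy] at this
    exact square_contra hL hAall hd ha hb hab (hcore d hd) he hed hea
  set A := Subgroup.closure (nbr D d)
  set B := Subgroup.closure (nbr D a)
  obtain ⟨eA⟩ := hL.2 d hd
  obtain ⟨eB⟩ := hL.2 a ha.1
  have comm : ∀ (x : A) (y : B), Commute (A.subtype x) (B.subtype y) := by
    have h1 : A ≤ Subgroup.centralizer (nbr D a) := by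
      rw [Subgroup.closure_le]
      intro x hx y hy
      have : y ∈ nbr D x := hA a ha x hx ▸ hy
      exact this.2.2.eq.symm
    have h2 : B ≤ Subgroup.centralizer (A : Set G) := by
      rw [Subgroup.closure_le]
      intro y hy x hx
      exact (h1 hx y hy).symm
    intro x y
    exact h2 y.2 x x.2
  have center3 : ∀ σ : Equiv.Perm (Fin 3), (∀ τ, τ * σ = σ * τ) → σ = 1 := by decide +kernel
  let f : ↥A × ↥B →* G := A.subtype.noncommCoprod B.subtype comm
  have hinj : Function.Injective f := by
    rw [← MonoidHom.ker_eq_bot_iff, Subgroup.eq_bot_iff_forall]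
    rintro ⟨x, y⟩ h
    rw [MonoidHom.mem_ker] at h
    have hxy : (x : G) * (y : G) = 1 := h
    have hx : x = 1 := by
      apply eA.injective
      rw [map_one]
      apply center3
      intro τ
      obtain ⟨u, rfl⟩ := eA.surjective τ
      rw [← map_mul, ← map_mul]
      congr 1
      apply Subtype.ext
      have hx' : (x : G) = ((y⁻¹ : B) : G) := eq_inv_of_mul_eq_one_left hxy
      show (u : G) * x = x * u
      rw [hx']
      exact (comm u y⁻¹).eq
    subst hx
    have hy : y = 1 := Subtype.ext (by simpa using hxy)
    rw [hy]
    rfl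
  have hr : f.range = Subgroup.closure D := by
    rw [MonoidHom.noncommCoprod_range, Subgroup.range_subtype, Subgroup.range_subtype,
      ← Subgroup.closure_union, ← hall]
  exact ⟨((MulEquiv.subgroupCongr hr.symm).trans (MonoidHom.ofInjective hinj).symm).trans
    (MulEquiv.prodCongr eA eB)⟩

/-- Let D be a non-empty conjugation-invariant set of involutions of a finite group G satisfying the 3-transposition order conditions, and suppose that for every d in D the members of D other than d commuting with d generate a subgroup isomorphic to the symmetric group of degree 3, and the largest normal 3-subgroup of the centralizer of d has order 3. Then the subgroup generated by D is isomorphic to the symmetric group of degree 5 or to the direct product of two symmetric groups of degree 3. -/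
theorem result {G : Type*} [Group G] [Finite G] {D : Set G} (hD : Cfsg.IsThreeTranspositionSet D) (hconj : ∀ g : G, ∀ d ∈ D, g * d * g⁻¹ ∈ D) (hne : D.Nonempty) (hloc : ∀ d ∈ D, Nonempty (↥(Subgroup.closure {y : G | y ∈ D ∧ y ≠ d ∧ Commute d y}) ≃* Equiv.Perm (Fin 3)) ∧ Nat.card (Cfsg.pCore 3 ↥(Subgroup.centralizer ({d} : Set G))) = 3) : Nonempty (↥(Subgroup.closure D) ≃* Equiv.Perm (Fin 5)) ∨ Nonempty (↥(Subgroup.closure D) ≃* Equiv.Perm (Fin 3) × Equiv.Perm (Fin 3)) := by
  obtain ⟨d, hd⟩ := hne
  have hL : LocThree D := ⟨⟨hD, hconj⟩, fun x hx => (hloc x hx).1⟩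
  by_cases hA : TypeA D d
  · exact .inr (square_case hL (fun x hx => (hloc x hx).2) hd hA)
  · exact .inl (petersen hL hd hA)

end Cfsg.Agent.S5365
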