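import Cfsg.Statements.S5383
import Cfsg.Agent.Lib.SuzSeven52.Seven
import Cfsg.Agent.Lib.SuzType52.Setup
-- import your own Cfsg.Agent.* helpers here

set_option autoImplicit false
open Cfsg

namespace Cfsg.Agent.S5383

/-- Let G be a finite group of Suzuki sporadic type (involution z with generalized Fitting subgroup Q of its centralizer C extraspecial of order 2^7, C/Q the commutator subgroup of the isometry group of the elliptic quadratic form in dimension 6 over the field with two elements, z not weakly closed in Q). Then for every Sylow 7-subgroup B of G, the centralizer of B is isomorphic to the direct product of a cyclic group of order 7 and the alternating group of degree 4, and the normalizer of B has order 504. -/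
theorem result {G : Type*} [Group G] [Finite G] (z : G) (hz : orderOf z = 2) (Q : Subgroup (Subgroup.centralizer ({z} : Set G))) [Q.Normal] (hF : Cfsg.generalizedFittingSubgroup (Subgroup.centralizer ({z} : Set G)) = Q) (hQ : Cfsg.IsExtraspecial 2 Q) (hcard : Nat.card Q = 2 ^ 7) (e : (Subgroup.centralizer ({z} : Set G)) ⧸ Q ≃* Cfsg.Omega (ZMod 2) (Cfsg.quadFormMinus 2 (ZMod 2) 1 1)) (hnwc : ∃ g : G, (∃ hq : g * z * g⁻¹ ∈ Subgroup.centralizer ({z} : Set G), (⟨g * z * g⁻¹, hq⟩ : Subgroup.centralizer ({z} : Set G)) ∈ Q) ∧ g * z * g⁻¹ ≠ z) (B : Sylow 7 G) : Nonempty (↥(Subgroup.centralizer ((B : Subgroup G) : Set G)) ≃* Multiplicative (ZMod 7) × alternatingGroup (Fin 4)) ∧ Nat.card ↥(Subgroup.normalizer ((B : Subgroup G) : Set G)) = 504 := by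
  haveI : Fact (Nat.Prime 7) := ⟨by norm_num⟩
  obtain ⟨co, ac, h⟩ := Lib.SuzType52.exists_frame z hz _ rfl Q hF hQ hcard e
  obtain ⟨g, ⟨hq, hgQ⟩, hne⟩ := hnwc
  obtain ⟨x, n, d⟩ := h.exists_duo ⟨g, ⟨_, hgQ, rfl⟩, hne⟩
  obtain ⟨b, hb, hsyl, ⟨ε⟩, hN⟩ := Lib.SuzSeven52.exists_seven_data d
  obtain ⟨P, hP⟩ := (IsPGroup.of_card (p := 7) (n := 1)
    (show Nat.card (Subgroup.zpowers b) = 7 ^ 1 by rw [Nat.card_zpowers, hb, pow_one])).exists_le_sylow
  have hPe : Subgroup.zpowers b = (P : Subgroup G) :=
    Subgroup.eq_of_le_of_card_ge hP (by rw [hsyl P, Nat.card_zpowers, hb])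
  obtain ⟨c, hc⟩ := MulAction.exists_smul_eq G P B
  have hB : (B : Subgroup G) = (Subgroup.zpowers b).map (MulAut.conj c).toMonoidHom := by
    rw [← hc, Sylow.coe_subgroup_smul, hPe]
    rfl
  rw [hB]
  set Z := Subgroup.zpowers b with hZ
  have hcm : (Subgroup.centralizer ((Z : Subgroup G) : Set G)).map (MulAut.conj c).toMonoidHom =
      Subgroup.centralizer ((Z.map (MulAut.conj c).toMonoidHom : Subgroup G) : Set G) := by
    ext y
    rw [Subgroup.mem_map_equiv, Subgroup.mem_centralizer_iff, Subgroup.mem_centralizer_iff]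
    constructor
    · intro h u hu
      obtain ⟨a, ha, rfl⟩ := hu
      have := congrArg (MulAut.conj c) (h a ha)
      simpa [mul_assoc] using this
    · intro h a ha
      have := congrArg (MulAut.conj c).symm (h _ ⟨a, ha, rfl⟩)
      simpa [mul_assoc] using this
  refine ⟨⟨((MulEquiv.subgroupCongr hcm.symm).trans
    ((MulAut.conj c).subgroupMap _).symm).trans ε⟩, ?_⟩
  rw [← Subgroup.map_equiv_normalizer_eq Z (MulAut.conj c),
    Subgroup.card_map_of_injective (MulAut.conj c).injective, hN]

end Cfsg.Agent.S5383
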