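import Cfsg.Statements.S5385
import Cfsg.Agent.Lib.Co1Type31.Setup
import Cfsg.Agent.Lib.Co1Type32.Centre

set_option autoImplicit false
open Cfsg

namespace Cfsg.Agent.S5385

/-- Let G be a finite group of Conway type (involution z with generalized Fitting subgroup Q of its centralizer C extraspecial of order 2^9, C/Q the commutator subgroup of the isometry group of the hyperbolic quadratic form in dimension 8 over the field with two elements, z not weakly closed in Q), and let B be a subgroup of C of order 5 such that the centralizer of B in Q is extraspecial of order 32 containing no elementary abelian subgroup of order 8 (the quaternion-times-dihedral type). Then the layer L of the centralizer of B in G is isomorphic to the Hall–Janko group and the centralizer of L is isomorphic to the alternating group of degree 5. -/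
theorem result {G : Type*} [Group G] [Finite G] (z : G) (hz : orderOf z = 2) (Q : Subgroup (Subgroup.centralizer ({z} : Set G))) [Q.Normal] (hF : Cfsg.generalizedFittingSubgroup (Subgroup.centralizer ({z} : Set G)) = Q) (hQ : Cfsg.IsExtraspecial 2 Q) (hcard : Nat.card Q = 2 ^ 9) (e : (Subgroup.centralizer ({z} : Set G)) ⧸ Q ≃* Cfsg.Omega (ZMod 2) (Cfsg.quadFormPlus 4 (ZMod 2))) (hnwc : ∃ g : G, (∃ hq : g * z * g⁻¹ ∈ Subgroup.centralizer ({z} : Set G), (⟨g * z * g⁻¹, hq⟩ : Subgroup.centralizer ({z} : Set G)) ∈ Q) ∧ g * z * g⁻¹ ≠ z) (B : Subgroup (Subgroup.centralizer ({z} : Set G))) (hB : Nat.card B = 5) (hCQ : Cfsg.IsExtraspecial 2 ↥(Q ⊓ Subgroup.centralizer (B : Set (Subgroup.centralizer ({z} : Set G))))) (hCQcard : Nat.card ↥(Q ⊓ Subgroup.centralizer (B : Set (Subgroup.centralizer ({z} : Set G)))) = 32) (hminus : ∀ A : Subgroup (Subgroup.centralizer ({z} : Set G)), A ≤ Q ⊓ Subgroup.centralizer (B : Set (Subgroup.centralizer ({z} : Set G))) → Cfsg.IsElementaryAbelian 2 A → Nat.card A ≤ 4) : Cfsg.Spor.IsoJ2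 ↥(Cfsg.layer ↥(Subgroup.centralizer ((B.map (Subgroup.subtype (Subgroup.centralizer ({z} : Set G)))) : Set G))) ∧ Nonempty (↥(Subgroup.centralizer (((Cfsg.layer ↥(Subgroup.centralizer ((B.map (Subgroup.subtype (Subgroup.centralizer ({z} : Set G)))) : Set G))).map (Subgroup.subtype _)) : Set G)) ≃* alternatingGroup (Fin 5)) := by
  classical
  open Cfsg.Agent.Lib.Co1Type31 Cfsg.Agent.Lib.Co1Type32 in
  have main : ∀ b : Subgroup.centralizer ({z} : Set G), B = Subgroup.zpowers b → orderOf b = 5 →
      Cfsg.Spor.IsoJ2 ↥(Cfsg.layer ↥(CB (b : G))) ∧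
      Nonempty (↥(Subgroup.centralizer
        (((Cfsg.layer ↥(CB (b : G))).map (Subgroup.subtype _)) : Set G)) ≃* alternatingGroup (Fin 5)) := by
    intro b hBb hb
    let C := Subgroup.centralizer ({z} : Set G)
    have hcm : ∀ {c : C}, c ∈ Subgroup.centralizer (B : Set C) ↔ Commute (b : G) (c : G) := by
      intro c
      rw [hBb, Subgroup.zpowers_eq_closure, Subgroup.centralizer_closure, Subgroup.mem_centralizer_singleton_iff]
      exact ⟨fun e => (congrArg Subtype.val e).symm, fun e => Subtype.ext e.eq.symm⟩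
    have hmap : (Q ⊓ Subgroup.centralizer (B : Set C)).map C.subtype =
        Q.map C.subtype ⊓ Subgroup.centralizer ({(b : G)} : Set G) := by
      ext q
      constructor
      · rintro ⟨c, ⟨hc, hcb⟩, rfl⟩
        exact ⟨⟨c, hc, rfl⟩, Subgroup.mem_centralizer_singleton_iff.2 (hcm.1 hcb).eq.symm⟩
      · rintro ⟨⟨c, hc, rfl⟩, hcb⟩
        exact ⟨c, ⟨hc, hcm.2 (Commute.symm (Subgroup.mem_centralizer_singleton_iff.1 hcb))⟩, rfl⟩
    obtain ⟨co, ac, h⟩ := exists_frame z hz C rfl Q hF hQ hcard e
    obtain ⟨g, ⟨hgq, hgQ⟩, hgne⟩ := hnwc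
    have hzC : z ∈ C := Subgroup.mem_centralizer_singleton_iff.2 rfl
    have hzQ : (⟨z, hzC⟩ : C) ∈ Q := by
      obtain ⟨w, hw, e⟩ := h.es.mem
      exact (Subtype.ext e : w = ⟨z, hzC⟩) ▸ hw
    have hbz : Commute (b : G) z := Subgroup.mem_centralizer_singleton_iff.1 b.2
    obtain ⟨co', ac', x, n, β, f⟩ := exists_fx h ⟨g, ⟨_, hgQ, rfl⟩, hgne⟩
      (b := (b : G)) (by rw [Subgroup.orderOf_coe, hb]) hbz
      (by rw [← hmap, Subgroup.card_map_of_injective C.subtype_injective, hCQcard])
      (fun q hq hbq hc => by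
        obtain ⟨q, hq, rfl⟩ := hq
        set S := Q ⊓ Subgroup.centralizer (B : Set C) with hS
        have hqS : q ∈ S := ⟨hq, hcm.2 hbq⟩
        have hzS : (⟨z, hzC⟩ : C) ∈ S := ⟨hzQ, hcm.2 hbz⟩
        have hq' : (⟨q, hqS⟩ : S) ∈ Subgroup.center S := Subgroup.mem_center_iff.2 fun r =>
          Subtype.ext (Subtype.ext (hc _ ⟨r, r.2.1, rfl⟩ (hcm.1 r.2.2)).eq.symm)
        have hz' : (⟨⟨z, hzC⟩, hzS⟩ : S) ∈ Subgroup.center S := Subgroup.mem_center_iff.2 fun r =>
          Subtype.ext (Subtype.ext (Subgroup.mem_centralizer_singleton_iff.1 (r : C).2))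
        obtain ⟨a, c, -, hac⟩ := Nat.card_eq_two_iff.1 hCQ.2
        have hall : ∀ w : Subgroup.center S, w = a ∨ w = c := fun w => by
          have : w ∈ ({a, c} : Set (Subgroup.center S)) := hac ▸ Set.mem_univ w
          simpa using this
        have h3 : ∀ w : Subgroup.center S, w = 1 ∨ w = ⟨_, hz'⟩ := fun w => by
          have hne : (⟨_, hz'⟩ : Subgroup.center S) ≠ 1 := fun e => h.es.ne
            (congrArg (fun r : Subgroup.center S => (((r : S) : C) : G)) e)
          rcases hall w with h1 | h1 <;> rcases hall 1 with h2 | h2 <;> rcases hall ⟨_, hz'⟩ with h3 | h3 <;>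
            first | exact Or.inl (h1.trans h2.symm) | exact Or.inr (h1.trans h3.symm) |
              exact absurd (h3.trans h2.symm) hne
        rcases h3 ⟨_, hq'⟩ with e | e
        · exact Or.inl (congrArg (fun r : Subgroup.center S => (((r : S) : C) : G)) e)
        · exact Or.inr (congrArg (fun r : Subgroup.center S => (((r : S) : C) : G)) e))
      (fun A hA hel => by
        have hAC : A ≤ C := fun a ha => Subgroup.map_subtype_le _ (hA ha).1
        rw [← Nat.card_congr (Subgroup.subgroupOfEquivOfLe hAC).toEquiv]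
        refine hminus (A.subgroupOf C) (fun a ha => ?_) ⟨⟨⟨fun a c => ?_⟩⟩, fun a ha => Subtype.ext ?_⟩
        · rw [← hmap] at hA
          obtain ⟨c, hc, e⟩ := hA ha
          exact (Subtype.ext e : c = a) ▸ hc
        · refine Subtype.ext (Subtype.ext ?_)
          show ((a : C) : G) * ((c : C) : G) = ((c : C) : G) * ((a : C) : G)
          exact (congrArg Subtype.val (hel.1.is_comm.comm ⟨_, a.2⟩ ⟨_, c.2⟩) :)
        · exact hel.2 _ ha)
    rw [f.layer_eq]
    refine ⟨f.commJ2, ?_⟩
    rw [Fx.EB_map]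
    exact f.centralizer_alt
  haveI : Fact (Nat.Prime 5) := ⟨by norm_num⟩
  obtain ⟨b', hb'⟩ := exists_prime_orderOf_dvd_card' (G := B) 5 (by rw [hB])
  have hb : orderOf (b' : Subgroup.centralizer ({z} : Set G)) = 5 := by rw [Subgroup.orderOf_coe, hb']
  have hBb : B = Subgroup.zpowers (b' : Subgroup.centralizer ({z} : Set G)) :=
    (Subgroup.eq_of_le_of_card_ge (Subgroup.zpowers_le.2 b'.2) (by rw [Nat.card_zpowers, hb, hB])).symm
  have hc : Subgroup.centralizer
      ((B.map (Subgroup.subtype (Subgroup.centralizer ({z} : Set G)))) : Set G) =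
      Cfsg.Agent.Lib.Co1Type32.CB ((b' : Subgroup.centralizer ({z} : Set G)) : G) := by
    refine (congrArg (fun S : Subgroup (Subgroup.centralizer ({z} : Set G)) => Subgroup.centralizer
      ((S.map (Subgroup.centralizer ({z} : Set G)).subtype) : Set G)) hBb).trans ?_
    rw [MonoidHom.map_zpowers, Subgroup.zpowers_eq_closure, Subgroup.centralizer_closure]
    rfl
  rw [hc]
  exact main _ hBb hb

end Cfsg.Agent.S5385
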