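import Cfsg.Statements.S5387
import Cfsg.Agent.Lib.ThreeTranspositions.CoverPSL34

set_option autoImplicit false
open Cfsg
open scoped commutatorElement

namespace Cfsg.Agent.S5387

open Lib.ThreeTranspositions.CoverPSL34

/-- Up to isomorphism there is at most one quasisimple group whose centre is elementary abelian of order 4 and whose central quotient is isomorphic to the projective special linear group of dimension 3 over the field with four elements: any two such groups are isomorphic. -/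
theorem result {L₁ L₂ : Type*} [Group L₁] [Finite L₁] [Group L₂] [Finite L₂] (F : Type) [Field F] [Fintype F] (hF : Fintype.card F = 4) (h₁ : Cfsg.IsQuasisimple L₁) (h₂ : Cfsg.IsQuasisimple L₂) (hc₁ : Nat.card (Subgroup.center L₁) = 4) (hc₂ : Nat.card (Subgroup.center L₂) = 4) (he₁ : ∀ x ∈ Subgroup.center L₁, x * x = 1) (he₂ : ∀ x ∈ Subgroup.center L₂, x * x = 1) (e₁ : L₁ ⧸ Subgroup.center L₁ ≃* Matrix.ProjectiveSpecialLinearGroup (Fin 3) F) (e₂ : L₂ ⧸ Subgroup.center L₂ ≃* Matrix.ProjectiveSpecialLinearGroup (Fin 3) F) : Nonempty (L₁ ≃* L₂) := by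
  classical
  haveI : Fact (Nat.Prime 2) := ⟨Nat.prime_two⟩
  haveI : CharP F 2 := charP_of_card_eq_prime_pow (p := 2) (f := 2) (by simpa using hF)
  let φ₁ : L₁ →* PSL3 F := e₁.toMonoidHom.comp (QuotientGroup.mk' _)
  let φ₂ : L₂ →* PSL3 F := e₂.toMonoidHom.comp (QuotientGroup.mk' _)
  have hs₁ : Function.Surjective φ₁ := e₁.surjective.comp (QuotientGroup.mk'_surjective _)
  have hs₂ : Function.Surjective φ₂ := e₂.surjective.comp (QuotientGroup.mk'_surjective _)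
  have hk₁ : ∀ x, φ₁ x = 1 ↔ x ∈ Subgroup.center L₁ := fun x => by
    show e₁ (QuotientGroup.mk x) = 1 ↔ _
    rw [MulEquiv.map_eq_one_iff, QuotientGroup.eq_one_iff]
  have hk₂ : ∀ x, φ₂ x = 1 ↔ x ∈ Subgroup.center L₂ := fun x => by
    show e₂ (QuotientGroup.mk x) = 1 ↔ _
    rw [MulEquiv.map_eq_one_iff, QuotientGroup.eq_one_iff]
  let P0 : Subgroup (L₁ × L₂) := (φ₁.comp (MonoidHom.fst L₁ L₂)).eqLocus (φ₂.comp (MonoidHom.snd L₁ L₂))
  have hP0 : ∀ x, x ∈ P0 ↔ φ₁ x.1 = φ₂ x.2 := fun _ => Iff.rfl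
  let M : Subgroup (L₁ × L₂) := ⁅P0, P0⁆
  have hMP : M ≤ P0 := Subgroup.commutator_le_self P0
  have htop₁ : (⁅(⊤ : Subgroup L₁), ⊤⁆) = ⊤ := h₁.1.commutator_eq_top
  have htop₂ : (⁅(⊤ : Subgroup L₂), ⊤⁆) = ⊤ := h₂.1.commutator_eq_top
  have hm₁ : M.map (MonoidHom.fst L₁ L₂) = ⊤ := by
    rw [Subgroup.map_commutator, show P0.map (MonoidHom.fst L₁ L₂) = ⊤ from eq_top_iff.2 fun a _ => by
      obtain ⟨b, hb⟩ := hs₂ (φ₁ a)
      exact ⟨(a, b), hb.symm, rfl⟩, htop₁]
  have hm₂ : M.map (MonoidHom.snd L₁ L₂) = ⊤ := by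
    rw [Subgroup.map_commutator, show P0.map (MonoidHom.snd L₁ L₂) = ⊤ from eq_top_iff.2 fun b _ => by
      obtain ⟨a, ha⟩ := hs₁ (φ₂ b)
      exact ⟨(a, b), ha, rfl⟩, htop₂]
  let f₁ : M →* L₁ := (MonoidHom.fst L₁ L₂).comp M.subtype
  let f₂ : M →* L₂ := (MonoidHom.snd L₁ L₂).comp M.subtype
  have hf₁ : Function.Surjective f₁ := fun a => by
    obtain ⟨x, hx, h⟩ := (hm₁ ▸ Subgroup.mem_top a : a ∈ M.map (MonoidHom.fst L₁ L₂))
    exact ⟨⟨x, hx⟩, h⟩
  have hf₂ : Function.Surjective f₂ := fun a => by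
    obtain ⟨x, hx, h⟩ := (hm₂ ▸ Subgroup.mem_top a : a ∈ M.map (MonoidHom.snd L₁ L₂))
    exact ⟨⟨x, hx⟩, h⟩
  let pr : M →* PSL3 F := φ₁.comp f₁
  have E : CExt pr := by
    refine ⟨hs₁.comp hf₁, fun x hx => ?_, fun x hx => ?_⟩ <;>
    · have h1 : φ₁ x.1.1 = 1 := hx
      have h2 : φ₂ x.1.2 = 1 := by rw [← (hP0 x.1).1 (hMP x.2)]; exact h1
      first
        | (rw [Subgroup.mem_center_iff]
           intro y
           exact Subtype.ext (Prod.ext (Subgroup.mem_center_iff.1 ((hk₁ _).1 h1) y.1.1)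
            (Subgroup.mem_center_iff.1 ((hk₂ _).1 h2) y.1.2)))
        | exact Subtype.ext (Prod.ext (he₁ _ ((hk₁ _).1 h1)) (he₂ _ ((hk₂ _).1 h2)))
  have hperf : commutator M = ⊤ := by
    have hle : M ≤ ⁅M, M⁆ := by
      show ⁅P0, P0⁆ ≤ ⁅M, M⁆
      rw [Subgroup.commutator_le]
      intro x hx y hy
      have split : ∀ x ∈ P0, ∃ m ∈ M, ∃ k ∈ Subgroup.center (L₁ × L₂), x = m * k := by
        intro x hx
        obtain ⟨m, hm⟩ := E.surj (φ₁ x.1)
        refine ⟨m.1, m.2, m.1⁻¹ * x, ?_, by group⟩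
        have h1 : φ₁ (m.1⁻¹ * x).1 = 1 := by
          rw [Prod.fst_mul, Prod.fst_inv, map_mul, map_inv, show φ₁ m.1.1 = φ₁ x.1 from hm,
            inv_mul_cancel]
        have h2 : φ₂ (m.1⁻¹ * x).2 = 1 :=
          ((hP0 _).1 (P0.mul_mem (P0.inv_mem (hMP m.2)) hx)).symm.trans h1
        rw [Subgroup.mem_center_iff]
        exact fun y => Prod.ext (Subgroup.mem_center_iff.1 ((hk₁ _).1 h1) y.1)
          (Subgroup.mem_center_iff.1 ((hk₂ _).1 h2) y.2)
      obtain ⟨m, hm, k, hk, rfl⟩ := split x hx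
      obtain ⟨n, hn, l, hl, rfl⟩ := split y hy
      rw [comm_central hk hl]
      exact Subgroup.commutator_mem_commutator hm hn
    apply Subgroup.map_injective M.subtype_injective
    rw [Subgroup.map_subtype_commutator, ← MonoidHom.range_eq_map, Subgroup.range_subtype]
    exact le_antisymm (Subgroup.commutator_le_self M) hle
  have hker : Nat.card pr.ker ≤ 4 := card_ker_le E hperf (by rw [Nat.card_eq_fintype_card, hF])
  have hcard : Nat.card M = Nat.card pr.ker * Nat.card (PSL3 F) := by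
    rw [← Subgroup.card_mul_index pr.ker, Subgroup.index_ker, MonoidHom.range_eq_top.2 E.surj,
      Subgroup.card_top]
  have hL₁ : Nat.card L₁ = 4 * Nat.card (PSL3 F) := by
    rw [Subgroup.card_eq_card_quotient_mul_card_subgroup (Subgroup.center L₁), hc₁,
      Nat.card_congr e₁.toEquiv, mul_comm]
  have hL₂ : Nat.card L₂ = 4 * Nat.card (PSL3 F) := by
    rw [Subgroup.card_eq_card_quotient_mul_card_subgroup (Subgroup.center L₂), hc₂,
      Nat.card_congr e₂.toEquiv, mul_comm]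
  have hle : Nat.card M ≤ 4 * Nat.card (PSL3 F) := hcard ▸ Nat.mul_le_mul_right _ hker
  have b₁ : Function.Bijective f₁ :=
    hf₁.bijective_of_nat_card_le (by rw [hL₁]; exact hle)
  have b₂ : Function.Bijective f₂ :=
    hf₂.bijective_of_nat_card_le (by rw [hL₂]; exact hle)
  exact ⟨(MulEquiv.ofBijective f₁ b₁).symm.trans (MulEquiv.ofBijective f₂ b₂)⟩

end Cfsg.Agent.S5387
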