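import Cfsg.Statements.S5392
import Cfsg.Agent.Lib.Leech.Transitive
import Cfsg.Agent.Lib.LeechMod2.MinSpan
import Cfsg.Agent.Lib.LeechMod2.MinNorm
import Cfsg.Agent.Lib.SporStruct.LeechModTwo
-- import your own Cfsg.Agent.* helpers here

set_option autoImplicit false
open Cfsg

namespace Cfsg.Agent.S5392

open Cfsg.Agent.Lib
open Cfsg.Agent.Lib.Leech (vec eightE negOne norm_smul' dot_smul)

theorem min_pm {g : ↥Co0} {v : ↥leechLattice} (hv : sqNorm (vec v) = 32) {w : ↥leechLattice}
    (hw : vec (g • v) - vec v = 2 • vec w) : g • v = v ∨ g • v = -v := by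
  have hg := norm_smul' g v
  have h2 : (2 : ℕ) • vec w = vec w + vec w := two_nsmul _
  by_cases hw0 : vec w = 0
  · left
    apply Subtype.ext
    rw [hw0, nsmul_zero] at hw
    exact sub_eq_zero.1 hw
  · right
    have hmin : 32 ≤ sqNorm (vec w) := LeechMod2.min_norm w.2 hw0
    have h3 := Leech.sqNorm_sub (vec (g • v)) (vec v)
    rw [hw, h2, Leech.sqNorm_add, SporStruct.LeechModTwo.dot_self] at h3
    have h4 := Leech.sqNorm_add (vec (g • v)) (vec v)
    have h5 := Leech.sqNorm_nonneg (vec (g • v) + vec v)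
    have h6 : sqNorm (vec (g • v) + vec v) = 0 := by omega
    exact eq_neg_of_add_eq_zero_left (Subtype.ext (Leech.sqNorm_eq_zero.1 h6))

/-- The vector `4 (e_i + s e_j)`. -/
def fourV (i j : GolayPt) (s : ℤ) (hs : (1 + s) % 2 = 0) : ↥leechLattice :=
  ⟨_, Leech.four_pm_mem (i := i) (j := j) 1 s hs⟩

theorem norm_fourV {i j : GolayPt} (h : i ≠ j) (s : ℤ) (hs : (1 + s) % 2 = 0) (hs1 : s * s = 1) :
    sqNorm (vec (fourV i j s hs)) = 32 := by
  have e : ∀ k, (vec (fourV i j s hs) k) ^ 2 =
      (Pi.single i 16 + Pi.single j 16 : GolayPt → ℤ) k := by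
    intro k
    show ((Pi.single i (4 * 1) + Pi.single j (4 * s) : GolayPt → ℤ) k) ^ 2 = _
    simp only [Pi.add_apply, Pi.single_apply]
    split_ifs with a b b
    · exact absurd (a.symm.trans b) h
    · ring
    · linear_combination (16 : ℤ) * hs1
    · ring
  rw [sqNorm, Finset.sum_congr rfl fun k _ => e k, Leech.sum_add,
    Finset.sum_pi_single', Finset.sum_pi_single']
  simp

theorem eight_eq_add (i j : GolayPt) :
    eightE i = fourV i j 1 (by norm_num) + fourV i j (-1) (by norm_num) := by
  apply Subtype.ext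
  funext k
  show (Pi.single i 8 : GolayPt → ℤ) k =
    (Pi.single i (4 * 1) + Pi.single j (4 * 1) : GolayPt → ℤ) k +
      (Pi.single i (4 * 1) + Pi.single j (4 * (-1)) : GolayPt → ℤ) k
  simp only [Pi.add_apply, Pi.single_apply]
  split_ifs <;> norm_num

theorem eight_sub (i j : GolayPt) :
    fourV i j 1 (by norm_num) - fourV i j (-1) (by norm_num) = eightE j := by
  apply Subtype.ext
  funext k
  show (Pi.single i (4 * 1) + Pi.single j (4 * 1) : GolayPt → ℤ) k -
      (Pi.single i (4 * 1) + Pi.single j (4 * (-1)) : GolayPt → ℤ) k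
    = (Pi.single j 8 : GolayPt → ℤ) k
  simp only [Pi.add_apply, Pi.single_apply]
  split_ifs <;> norm_num

theorem eightE_apply (i k : GolayPt) : vec (eightE i) k = if k = i then 8 else 0 :=
  Pi.single_apply i (8 : ℤ) k

theorem central {g : ↥Co0}
    (hg : ∀ v : ↥leechLattice, ∃ w : ↥leechLattice, vec (g • v) - vec v = 2 • vec w) :
    g ∈ Subgroup.center ↥Co0 := by
  have hpm : ∀ v : ↥leechLattice, sqNorm (vec v) = 32 → g • v = v ∨ g • v = -v := fun v hv =>
    (hg v).elim fun w hw => min_pm hv hw
  have h8 : ∀ i j, i ≠ j → g • eightE i = eightE i ∨ g • eightE i = -eightE i ∨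
      g • eightE i = eightE j ∨ g • eightE i = -eightE j := by
    intro i j h
    rw [eight_eq_add i j, Leech.smul_add']
    rcases hpm _ (norm_fourV h 1 (by norm_num) (by norm_num)) with a | a <;>
      rcases hpm _ (norm_fourV h (-1) (by norm_num) (by norm_num)) with b | b <;> rw [a, b]
    · exact Or.inl rfl
    · exact Or.inr (Or.inr (Or.inl (by rw [← sub_eq_add_neg, eight_sub])))
    · exact Or.inr (Or.inr (Or.inr (by rw [← eight_sub i j]; abel)))
    · exact Or.inr (Or.inl (by abel))
  have hne : ∀ {i j : GolayPt}, i ≠ j → eightE j ≠ eightE i ∧ eightE j ≠ -eightE i := by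
    intro i j h
    constructor <;>
    · intro e
      have h1 := congrArg (fun v : ↥leechLattice => vec v j) e
      have hjj : (eightE j : GolayPt → ℤ) j = 8 := (eightE_apply j j).trans (if_pos rfl)
      have hij : (eightE i : GolayPt → ℤ) j = 0 := (eightE_apply i j).trans (if_neg (Ne.symm h))
      simp only [vec, AddSubgroup.coe_neg, Pi.neg_apply, hjj, hij] at h1
      norm_num at h1
  have h8' : ∀ i, g • eightE i = eightE i ∨ g • eightE i = -eightE i := by
    intro i
    obtain ⟨j, hj, k, hk, hjk⟩ : ∃ j, i ≠ j ∧ ∃ k, i ≠ k ∧ j ≠ k := by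
      revert i; decide +kernel
    rcases h8 i j hj with a | a | a | a
    · exact Or.inl a
    · exact Or.inr a
    all_goals
      rcases h8 i k hk with b | b | b | b
      · exact Or.inl b
      · exact Or.inr b
      all_goals
        rw [a] at b
        exfalso
        have h1 := hne hjk
        first
          | exact h1.1 b.symm
          | exact h1.2 (neg_eq_iff_eq_neg.1 b.symm)
          | exact h1.2 (by rw [b, neg_neg])
          | exact h1.1 (neg_injective b.symm)
          | exact h1.2 b.symm
  have hsame : ∀ i j, g • eightE i = eightE i → g • eightE j = eightE j := by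
    intro i j hi
    rcases h8' j with h | h
    · exact h
    exfalso
    have hij : i ≠ j := by
      rintro rfl
      have h1 := congrArg (fun v : ↥leechLattice => vec v i) (hi.symm.trans h)
      simp only [vec, AddSubgroup.coe_neg, Pi.neg_apply] at h1
      rw [show (eightE i : GolayPt → ℤ) i = 8 from (eightE_apply i i).trans (if_pos rfl)] at h1
      norm_num at h1
    have hv := norm_fourV hij 1 (by norm_num) (by norm_num)
    have e2 : eightE i + eightE j = fourV i j 1 (by norm_num) + fourV i j 1 (by norm_num) := by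
      rw [eight_eq_add i j, ← eight_sub i j]; abel
    have e3 : g • (eightE i + eightE j) = eightE i - eightE j := by
      rw [Leech.smul_add', hi, h, sub_eq_add_neg]
    rw [e2, Leech.smul_add'] at e3
    rcases hpm _ hv with a | a <;> rw [a] at e3
    · rw [← e2] at e3
      have h1 := congrArg (fun v : ↥leechLattice => vec v j) e3
      simp only [vec, AddSubgroup.coe_sub, AddSubgroup.coe_add, Pi.sub_apply, Pi.add_apply] at h1
      rw [show (eightE j : GolayPt → ℤ) j = 8 from (eightE_apply j j).trans (if_pos rfl),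
        show (eightE i : GolayPt → ℤ) j = 0 from (eightE_apply i j).trans (if_neg (Ne.symm hij))] at h1
      norm_num at h1
    · rw [← neg_add, ← e2] at e3
      have h1 := congrArg (fun v : ↥leechLattice => vec v i) e3
      simp only [vec, AddSubgroup.coe_sub, AddSubgroup.coe_neg, AddSubgroup.coe_add, Pi.sub_apply,
        Pi.neg_apply, Pi.add_apply] at h1
      rw [show (eightE i : GolayPt → ℤ) i = 8 from (eightE_apply i i).trans (if_pos rfl),
        show (eightE j : GolayPt → ℤ) i = 0 from (eightE_apply j i).trans (if_neg hij)] at h1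
      norm_num at h1
  rcases h8' none with h | h
  · rw [Leech.co0_ext (g := g) (h := 1) fun i => by rw [one_smul]; exact hsame none i h]
    exact one_mem _
  · rw [Leech.co0_ext (g := g) (h := negOne) fun i => by
      rw [Leech.negOne_smul]
      exact (h8' i).resolve_left fun e => by
        have h1 := congrArg (fun v : ↥leechLattice => vec v none) ((hsame i none e).symm.trans h)
        simp only [vec, AddSubgroup.coe_neg, Pi.neg_apply] at h1
        rw [show (eightE none : GolayPt → ℤ) none = 8 from (eightE_apply none none).trans (if_pos rfl)] at h1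
        norm_num at h1]
    exact Leech.negOne_mem_center

section Irreducible

variable {M : AddSubgroup (GolayPt → ℤ)}
  (hinv : ∀ g : ↥Co0, ∀ v : ↥leechLattice, (v : GolayPt → ℤ) ∈ M →
    ((g • v : ↥leechLattice) : GolayPt → ℤ) ∈ M)

include hinv

theorem shell_le {u v : ↥leechLattice} (hu : vec u ∈ M) {g₁ g₂ : ↥Co0}
    (h : vec (g₁ • u) = vec (g₂ • v)) : vec v ∈ M := by
  obtain ⟨g, hg⟩ := Leech.exists_smul_eq_of h
  rw [← hg]
  exact hinv g u hu

theorem min_shell {u v : ↥leechLattice} (hu : vec u ∈ M) (hun : sqNorm (vec u) = 32)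
    (hvn : sqNorm (vec v) = 32) : vec v ∈ M := by
  obtain ⟨g₁, h₁⟩ := Leech.transitive32 (p := none) (q := some 0) (by simp) hun
  obtain ⟨g₂, h₂⟩ := Leech.transitive32 (p := none) (q := some 0) (by simp) hvn
  exact shell_le hinv hu (h₁.trans h₂.symm)

theorem exists_min {y : ↥leechLattice} (hy : vec y ∈ M)
    (hn : sqNorm (vec y) = 32 ∨ sqNorm (vec y) = 48 ∨ sqNorm (vec y) = 64) :
    ∃ m : ↥leechLattice, sqNorm (vec m) = 32 ∧ vec m ∈ M := by
  rcases hn with h | h | h
  · exact ⟨y, h, hy⟩
  · have hd : Golay.setOfMask 8245261 ∈ dodecads := by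
      have hc : Golay.inCode 8245261 = true ∧ Golay.pc24 8245261 = 12 := by decide +kernel
      exact ⟨Golay.setOfMask_mem_supports hc.1, by rw [Golay.card_setOfMask, hc.2]⟩
    obtain ⟨p, hp, q, hq, hpq⟩ : ∃ p ∈ Golay.setOfMask 8245261,
        ∃ q ∈ Golay.setOfMask 8245261, p ≠ q :=
      Finset.one_lt_card.1 (by rw [hd.2]; norm_num)
    obtain ⟨g, hg⟩ := Leech.transitive48 hd h
    set u := g • y with hu
    set m := fourV p q 1 (by norm_num) with hm
    have hun : sqNorm (vec u) = 48 := by rw [hu, norm_smul', h]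
    have hmn : sqNorm (vec m) = 32 := norm_fourV hpq 1 _ (by norm_num)
    have hdot : dotInt (vec u) (vec m) = 16 := by
      rw [hg]
      show ∑ k, _ * (Pi.single p (4 * 1) + Pi.single q (4 * 1) : GolayPt → ℤ) k = 16
      simp [mul_add, Finset.sum_add_distrib, Pi.single_apply, Golay.mem_setOfMask.1 hp,
        Golay.mem_setOfMask.1 hq]
    have hdiff : sqNorm (vec (u - m)) = 48 := by
      simp only [vec, AddSubgroup.coe_sub, Leech.sqNorm_sub] at hun hmn hdot ⊢
      omega
    obtain ⟨g', hg'⟩ := Leech.transitive48 hd hdiff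
    refine ⟨m, hmn, ?_⟩
    have h1 : vec u ∈ M := hinv g y hy
    have h2 : vec (u - m) ∈ M := shell_le hinv hy (hg.trans hg'.symm)
    simpa [vec] using M.sub_mem h1 h2
  · have ho : Golay.setOfMask 14919680 ∈ octads ∧ none ∈ Golay.setOfMask 14919680 := by
      have hc : Golay.inCode 14919680 = true ∧ Golay.pc24 14919680 = 8 := by decide +kernel
      exact ⟨⟨Golay.setOfMask_mem_supports hc.1, by rw [Golay.card_setOfMask, hc.2]⟩,
        by rw [Golay.mem_setOfMask]; decide +kernel⟩
    set o := Golay.setOfMask 14919680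
    let m : ↥leechLattice := ⟨_, Leech.two_smul_code_mem (s := o) ho.1.1⟩
    obtain ⟨g, hg⟩ := Leech.transitive64 h
    set u := g • y with hu
    have hun : sqNorm (vec u) = 64 := by rw [hu, norm_smul', h]
    have hmn : sqNorm (vec m) = 32 := by
      show ∑ k, (if k ∈ o then (2 : ℤ) else 0) ^ 2 = 32
      simp [ite_pow, Finset.sum_ite_mem, ho.1.2]
    have hdot : dotInt (vec u) (vec m) = 16 := by
      rw [hg]
      show ∑ k, (Pi.single none 8 : GolayPt → ℤ) k * (if k ∈ o then (2 : ℤ) else 0) = 16
      simp [Pi.single_apply, ho.2]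
    have hdiff : sqNorm (vec (u - m)) = 64 := by
      simp only [vec, AddSubgroup.coe_sub, Leech.sqNorm_sub] at hun hmn hdot ⊢
      omega
    obtain ⟨g', hg'⟩ := Leech.transitive64 hdiff
    refine ⟨m, hmn, ?_⟩
    have h1 : vec u ∈ M := hinv g y hy
    have h2 : vec (u - m) ∈ M := shell_le hinv hy (congrArg vec (hg.trans hg'.symm))
    simpa [vec] using M.sub_mem h1 h2

end Irreducible


/-- The Leech lattice modulo twice itself is a faithful irreducible module for the first Conway group: an automorphism of the rank-24 lattice built from the length-24 code that moves every lattice vector only by twice a lattice vector lies in the centre of the automorphism group (the centre consists of ±1, which act trivially there, so the kernel is exactly the centre), and an additive subgroup lying between twice the lattice and the lattice that is invariant under all lattice automorphisms is one of the two. -/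
theorem result : (∀ g : ↥Cfsg.Co0, (∀ v : ↥Cfsg.leechLattice, ∃ w : ↥Cfsg.leechLattice, ((g • v : ↥Cfsg.leechLattice) : Cfsg.GolayPt → ℤ) - (v : Cfsg.GolayPt → ℤ) = 2 • (w : Cfsg.GolayPt → ℤ)) → g ∈ Subgroup.center ↥Cfsg.Co0) ∧ ∀ M : AddSubgroup (Cfsg.GolayPt → ℤ), (∀ v ∈ Cfsg.leechLattice, (2 : ℤ) • v ∈ M) → M ≤ Cfsg.leechLattice → (∀ g : ↥Cfsg.Co0, ∀ v : ↥Cfsg.leechLattice, (v : Cfsg.GolayPt → ℤ) ∈ M → ((g • v : ↥Cfsg.leechLattice) : Cfsg.GolayPt → ℤ) ∈ M) → (∀ x ∈ M, ∃ w ∈ Cfsg.leechLattice, x = (2 : ℤ) • w) ∨ M = Cfsg.leechLattice := by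
  refine ⟨fun g hg => central hg, fun M h2M hMle hinv => ?_⟩
  by_cases hall : ∀ x ∈ M, ∃ w ∈ leechLattice, x = (2 : ℤ) • w
  · exact Or.inl hall
  refine Or.inr (le_antisymm hMle ?_)
  push Not at hall
  obtain ⟨x, hxM, hx⟩ := hall
  obtain ⟨y, hy, hyn, z, hz, hxy⟩ := SporStruct.LeechModTwo.exists_short (hMle hxM)
  have hxy' : x - y = (2 : ℤ) • z := by rw [hxy, two_nsmul, two_smul]
  have hy0 : y ≠ 0 := fun h => hx z hz (by rw [← hxy', h, sub_zero])
  have hyM : y ∈ M := by
    have := M.sub_mem hxM (h2M z hz)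
    rwa [← hxy', sub_sub_cancel] at this
  have h32 := LeechMod2.min_norm hy hy0
  have h16 := Leech.sqNorm_dvd hy
  obtain ⟨m, hm, hmM⟩ := exists_min hinv (y := ⟨y, hy⟩) hyM (by
    show sqNorm y = 32 ∨ sqNorm y = 48 ∨ sqNorm y = 64
    omega)
  have key : LeechMod2.MinSpan.minSpan ≤ M.comap leechLattice.subtype :=
    (AddSubgroup.closure_le _).2 fun v hv => min_shell hinv hmM hm hv
  intro v hv
  exact key (LeechMod2.MinSpan.minSpan_eq_top ▸ AddSubgroup.mem_top (⟨v, hv⟩ : ↥leechLattice))

end Cfsg.Agent.S5392
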