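import Cfsg.Statements.S5393
import Cfsg.Agent.Lib.Golay.Stabilizers
-- import your own Cfsg.Agent.* helpers here

set_option autoImplicit false
open Cfsg

namespace Cfsg.Agent.S5393

open Cfsg.Agent.Lib.Golay
open scoped Pointwise

theorem support₂_comp (w : GolayPt → ZMod 2) (σ : Equiv.Perm GolayPt) :
    support₂ (fun p => w (σ.symm p)) = σ • support₂ w := by
  ext p
  rw [← Finset.inv_smul_mem_iff]
  simp only [support₂, Finset.mem_filter, Finset.mem_univ, true_and]
  rfl


/-- The length-24 code built from the squares modulo 23 contains the all-ones word, and the code modulo the all-ones word is an irreducible module over the field with two elements for the code's automorphism group: a subspace of the code that contains the all-ones word and is invariant under every coordinate permutation preserving the code is either the span of the all-ones word or the whole code. -/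
theorem result : (fun _ : Cfsg.GolayPt => (1 : ZMod 2)) ∈ Cfsg.golayCode ∧ ∀ W : Submodule (ZMod 2) (Cfsg.GolayPt → ZMod 2), (fun _ => (1 : ZMod 2)) ∈ W → W ≤ Cfsg.golayCode → (∀ σ ∈ Cfsg.M24, ∀ w ∈ W, (fun p => w (σ.symm p)) ∈ W) → W = Submodule.span (ZMod 2) {fun _ => (1 : ZMod 2)} ∨ W = Cfsg.golayCode := by
  refine ⟨one_mem, fun W hone hle hinv => ?_⟩
  by_cases hW : W ≤ Submodule.span (ZMod 2) {fun _ => (1 : ZMod 2)}
  · exact Or.inl (le_antisymm hW ((Submodule.span_singleton_le_iff_mem _ _).2 hone))
  refine Or.inr (le_antisymm hle ?_)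
  have key : ∀ v ∈ W, ∀ v' ∈ golayCode, (support₂ v').card = (support₂ v).card →
      ((support₂ v).card = 8 ∨ (support₂ v).card = 12) → v' ∈ W := by
    intro v hv v' hv' heq h
    have hs : support₂ v ∈ supports (golayCode : Set (GolayPt → ZMod 2)) := ⟨v, hle hv, rfl⟩
    have hs' : support₂ v' ∈ supports (golayCode : Set (GolayPt → ZMod 2)) := ⟨v', hv', rfl⟩
    obtain ⟨g, hg, hgs⟩ : ∃ g ∈ M24, g • support₂ v = support₂ v' := by
      rcases h with h | h
      · exact transitive_octads ⟨hs, h⟩ ⟨hs', heq.trans h⟩
      · exact transitive_dodecads ⟨hs, h⟩ ⟨hs', heq.trans h⟩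
    have he : v' = fun p => v (g.symm p) :=
      support₂_injective (by rw [support₂_comp, hgs])
    rw [he]
    exact hinv g hg v hv
  obtain ⟨v, hv, h8⟩ : ∃ v ∈ W, (support₂ v).card = 8 := by
    obtain ⟨w, hw, hwn⟩ := SetLike.not_le_iff_exists.1 hW
    rcases card_of_mem_supports (s := support₂ w) ⟨w, hle hw, rfl⟩ with h | h | h | h | h
    · refine absurd ?_ hwn
      have : w = 0 := support₂_injective (by
        rw [Finset.card_eq_zero.1 h]; ext p; simp [support₂])
      rw [this]
      exact Submodule.zero_mem _
    · exact ⟨w, hw, h⟩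
    · have hc : ∀ m : ℕ, m = 8245261 ∨ m = 15953934 → inCode m = true ∧ pc24 m = 12 := by
        rintro m (rfl | rfl) <;> decide +kernel
      have hm : ∀ m : ℕ, m = 8245261 ∨ m = 15953934 → wordOfMask m ∈ W := fun m hm =>
        key w hw _ (wordOfMask_mem (hc m hm).1)
          (by rw [support₂_wordOfMask, card_setOfMask, (hc m hm).2, h]) (Or.inr h)
      refine ⟨wordOfMask (8245261 ^^^ 15953934), ?_, ?_⟩
      · rw [wordOfMask_xor]
        exact W.add_mem (hm _ (Or.inl rfl)) (hm _ (Or.inr rfl))
      · rw [support₂_wordOfMask, card_setOfMask]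
        decide +kernel
    · refine ⟨w + (fun _ => (1 : ZMod 2)), W.add_mem hw hone, ?_⟩
      have : support₂ (w + fun _ => (1 : ZMod 2)) = (support₂ w)ᶜ := by
        ext p
        simp only [support₂, Finset.mem_filter, Finset.mem_univ, true_and, Finset.mem_compl,
          Pi.add_apply]
        generalize w p = x
        revert x
        decide
      rw [this, Finset.card_compl, card_golayPt, h]
    · refine absurd ?_ hwn
      have hu := Finset.eq_univ_of_card _ (h.trans card_golayPt.symm)
      have : w = fun _ => (1 : ZMod 2) := support₂_injective (by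
        rw [hu]; ext p; simp [support₂])
      rw [this]
      exact Submodule.mem_span_singleton_self _
  rw [golayCode_eq_span_rows, Submodule.span_le]
  rintro _ ⟨r, hr, rfl⟩
  refine key v hv _ (rows_mem r hr) ?_ (Or.inl h8)
  have hrows : ∀ r ∈ rows, pc24 r = 8 := by decide +kernel
  rw [support₂_wordOfMask, card_setOfMask, hrows r hr, h8]

end Cfsg.Agent.S5393
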