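import Cfsg.Statements.S5394
import Cfsg.Agent.Lib.M24Classes.Classes
-- import your own Cfsg.Agent.* helpers here

set_option autoImplicit false
open Cfsg

namespace Cfsg.Agent.S5394

open Cfsg.Agent.Lib.Golay Cfsg.Agent.Lib.M24Classes Cfsg.Agent.Lib.M24Classes.Classes
open scoped Pointwise

theorem okA : inM24 Data.rA = true ∧ inM24 Data.rB = true := by decide +kernel

theorem fixA : (Finset.univ.filter fun p => gperm Data.rA p = p) = setOfMask 3704512 := by
  simp only [gperm_apply (okCode_of_inM24 okA.1)]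
  decide +kernel

theorem fixA_octad : setOfMask 3704512 ∈ octads := by
  have h : inCode 3704512 = true ∧ pc24 3704512 = 8 := by decide +kernel
  exact ⟨setOfMask_mem_supports h.1, by rw [card_setOfMask, h.2]⟩

theorem freeB (p : GolayPt) : gperm Data.rB p ≠ p := by
  rw [gperm_apply (okCode_of_inM24 okA.2)]
  revert p
  decide +kernel

theorem sqAB : gperm Data.rA * gperm Data.rA = 1 ∧ gperm Data.rB * gperm Data.rB = 1 := by
  constructor <;>
  · refine Equiv.ext fun p => ?_
    simp only [Equiv.Perm.mul_apply, Equiv.Perm.one_apply, gperm_apply (okCode_of_inM24 okA.1),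
      gperm_apply (okCode_of_inM24 okA.2)]
    revert p
    decide +kernel

theorem filter_conj (m g : Equiv.Perm GolayPt) :
    (Finset.univ.filter fun p => (m * g * m⁻¹) p = p) =
      m • (Finset.univ.filter fun p => g p = p) := by
  ext p
  rw [← Finset.inv_smul_mem_iff]
  simp [Equiv.apply_eq_iff_eq_symm_apply, Equiv.Perm.smul_def]

theorem cases_conj {g : Equiv.Perm GolayPt} (hg : g ∈ M24) (h2 : orderOf g = 2) :
    ((Finset.univ.filter fun p => g p = p) ∈ octads ∧
      ∃ m ∈ M24, g = m * gperm Data.rA * m⁻¹) ∨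
    ((∀ p, g p ≠ p) ∧ ∃ m ∈ M24, g = m * gperm Data.rB * m⁻¹) := by
  have h1 : g ≠ 1 := fun h => by simp [h] at h2
  have hsq : g * g = 1 := by rw [← pow_two, ← h2, pow_orderOf_eq_one]
  obtain ⟨m, hm, h | h⟩ := invol_conj hg h1 hsq
  · refine Or.inl ⟨?_, m, hm, h⟩
    rw [h, filter_conj, fixA]
    exact smul_mem_octads hm fixA_octad
  · refine Or.inr ⟨fun p hp => ?_, m, hm, h⟩
    rw [h, Equiv.Perm.mul_apply, Equiv.Perm.mul_apply, ← Equiv.Perm.eq_inv_iff_eq] at hp
    exact freeB _ hp

theorem octad_not_free {g : Equiv.Perm GolayPt}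
    (h : (Finset.univ.filter fun p => g p = p) ∈ octads) : ¬ ∀ p, g p ≠ p := by
  intro hf
  have h8 := h.2
  rw [Finset.filter_false_of_mem (fun p _ => hf p)] at h8
  simp at h8


/-- The automorphism group of the length-24 code built from the squares modulo 23 has exactly two conjugacy classes of involutions: an involution either fixes exactly the eight points of an octad or has no fixed points, both kinds occur, and any two involutions of the same kind are conjugate in the group. -/
theorem result : (∀ g ∈ Cfsg.M24, orderOf g = 2 → (Finset.univ.filter fun p => g p = p) ∈ Cfsg.octads ∨ ∀ p, g p ≠ p) ∧ (∃ g ∈ Cfsg.M24, orderOf g = 2 ∧ (Finset.univ.filter fun p => g p = p) ∈ Cfsg.octads) ∧ (∃ g ∈ Cfsg.M24, orderOf g = 2 ∧ ∀ p, g p ≠ p) ∧ ∀ g ∈ Cfsg.M24, ∀ h ∈ Cfsg.M24, orderOf g = 2 → orderOf h = 2 → ((∀ p, g p ≠ p) ↔ (∀ p, h p ≠ p)) → ∃ k ∈ Cfsg.M24, k * g * k⁻¹ = h := by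
  refine ⟨fun g hg h => ?_, ?_, ?_, fun g hg h hh og oh hiff => ?_⟩
  · rcases cases_conj hg h with h' | h'
    · exact Or.inl h'.1
    · exact Or.inr h'.1
  · refine ⟨gperm Data.rA, gperm_mem_M24 okA.1, orderOf_eq_prime (by rw [pow_two, sqAB.1]) ?_,
      by rw [fixA]; exact fixA_octad⟩
    intro e
    have h := fixA
    rw [e] at h
    have h8 := fixA_octad.2
    rw [← h] at h8
    simp [card_golayPt] at h8
  · exact ⟨gperm Data.rB, gperm_mem_M24 okA.2,
      orderOf_eq_prime (by rw [pow_two, sqAB.2]) (fun e => freeB none (by rw [e]; rfl)), freeB⟩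
  · rcases cases_conj hg og with ⟨a, m, hm, e⟩ | ⟨a, m, hm, e⟩ <;>
      rcases cases_conj hh oh with ⟨b, n, hn, e'⟩ | ⟨b, n, hn, e'⟩
    · exact ⟨n * m⁻¹, M24.mul_mem hn (M24.inv_mem hm), by rw [e, e']; group⟩
    · exact absurd (hiff.2 b) (octad_not_free a)
    · exact absurd (hiff.1 a) (octad_not_free b)
    · exact ⟨n * m⁻¹, M24.mul_mem hn (M24.inv_mem hm), by rw [e, e']; group⟩

end Cfsg.Agent.S5394
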