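import Cfsg.Statements.S5395


set_option autoImplicit false
open Cfsg

namespace Cfsg.Agent.S5395

/-- For a finite extraspecial 2-group E, an automorphism of E that induces the identity on E modulo its centre is inner (so these automorphisms form exactly the inner automorphism group, an elementary abelian 2-group of order |E|/2). -/
theorem result {E : Type*} [Group E] [Finite E] (hE : Cfsg.IsExtraspecial 2 E) (φ : E ≃* E) (hφ : ∀ x : E, φ x * x⁻¹ ∈ Subgroup.center E) : ∃ g : E, ∀ x : E, φ x = g * x * g⁻¹ := by
  obtain ⟨⟨_, _, hcomm⟩, hcard⟩ := hE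
  obtain ⟨z, hz⟩ : ∃ z : Subgroup.center E, z ≠ 1 := by
    by_contra hh
    push Not at hh
    haveI : Subsingleton (Subgroup.center E) := ⟨fun a b => (hh a).trans (hh b).symm⟩
    rw [Nat.card_unique] at hcard
    omega
  have two : ∀ a : Subgroup.center E, a = 1 ∨ a = z := by
    intro a
    obtain ⟨u, v, huv, h⟩ := (Nat.card_eq_two_iff).1 hcard
    have ha : a ∈ ({u, v} : Set _) := by rw [h]; trivial
    have h1 : (1 : Subgroup.center E) ∈ ({u, v} : Set _) := by rw [h]; trivial
    have hz' : z ∈ ({u, v} : Set _) := by rw [h]; trivial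
    rcases ha with rfl | rfl <;> rcases h1 with h1 | h1 <;> rcases hz' with h2 | h2 <;> simp_all
  classical
  let sgn : Subgroup.center E →* ℚ := (Units.coeHom ℚ).comp (MonoidHom.mk' (fun a : Subgroup.center E => if a = 1 then (1 : ℚˣ) else -1) (by
    intro a b
    have hzz : z * z = 1 := by
      rcases two (z * z) with h | h
      · exact h
      · exact absurd (mul_eq_left.1 h) hz
    rcases two a with rfl | rfl <;> rcases two b with rfl | rfl <;> simp [hz, hzz]))
  have sgn_inj : Function.Injective sgn := by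
    intro a b h
    rcases two a with rfl | rfl <;> rcases two b with rfl | rfl <;>
      first
        | rfl
        | (exfalso; revert h; simp [sgn, hz]; norm_num)
        | (exfalso; revert h; norm_num [sgn, hz])
  let V := E ⧸ Subgroup.center E
  haveI : Finite (V →* Subgroup.center E) := Finite.of_injective _ DFunLike.coe_injective
  have hle : Nat.card (V →* Subgroup.center E) ≤ Nat.card V := by
    let u : (V →* Subgroup.center E) → (V →* ℚ) := fun f => sgn.comp f
    have hu : Function.Injective u := fun f g h =>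
      MonoidHom.ext fun x => sgn_inj (DFunLike.congr_fun h x)
    have li := (linearIndependent_monoidHom V ℚ).comp u hu
    letI := Fintype.ofFinite (V →* Subgroup.center E)
    letI := Fintype.ofFinite V
    have := li.fintype_card_le_finrank
    rw [Module.finrank_pi] at this
    rwa [Nat.card_eq_fintype_card, Nat.card_eq_fintype_card]
  have hker : ∀ (f : E →* Subgroup.center E), Subgroup.center E ≤ f.ker := fun f => by
    calc Subgroup.center E = commutator E := hcomm.symm
      _ ≤ f.ker := by
        rw [commutator_def, Subgroup.commutator_le]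
        intro g₁ _ g₂ _
        rw [MonoidHom.mem_ker, map_commutatorElement, commutatorElement_eq_one_iff_mul_comm]
        exact Subtype.ext (Subgroup.mem_center_iff.1 (f g₂).2 (f g₁ : E))
  have hmem : ∀ g x : E, g * x * g⁻¹ * x⁻¹ ∈ Subgroup.center E := fun g x => by
    rw [← hcomm, commutator_def]
    exact Subgroup.commutator_mem_commutator trivial trivial
  let ι : E → (E →* Subgroup.center E) := fun g =>
    MonoidHom.mk' (fun x => ⟨g * x * g⁻¹ * x⁻¹, hmem g x⟩) (fun x y => Subtype.ext (by
      show g * (x * y) * g⁻¹ * (x * y)⁻¹ = (g * x * g⁻¹ * x⁻¹) * (g * y * g⁻¹ * y⁻¹)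
      rw [show (g * x * g⁻¹ * x⁻¹) * (g * y * g⁻¹ * y⁻¹)
        = (g * x * g⁻¹) * (x⁻¹ * (g * y * g⁻¹ * y⁻¹)) by group,
        Subgroup.mem_center_iff.1 (hmem g y) x⁻¹]
      group))
  let Φ : V → (V →* Subgroup.center E) := fun v => QuotientGroup.lift _ (ι v.out) (hker _)
  have hΦ : Function.Injective Φ := by
    intro v w h
    have hh : ∀ x : E, v.out * x * v.out⁻¹ = w.out * x * w.out⁻¹ := fun x => by
      have := congrArg Subtype.val (DFunLike.congr_fun h (x : V))
      change v.out * x * v.out⁻¹ * x⁻¹ = w.out * x * w.out⁻¹ * x⁻¹ at this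
      exact mul_right_cancel this
    rw [← v.out_eq, ← w.out_eq]
    apply QuotientGroup.eq.2
    rw [Subgroup.mem_center_iff]
    intro x
    calc x * (v.out⁻¹ * w.out) = v.out⁻¹ * (v.out * x * v.out⁻¹) * w.out := by group
      _ = v.out⁻¹ * (w.out * x * w.out⁻¹) * w.out := by rw [hh]
      _ = v.out⁻¹ * w.out * x := by group
  have hsurj : Function.Surjective Φ :=
    (Nat.bijective_iff_injective_and_card Φ).2
      ⟨hΦ, le_antisymm (Nat.card_le_card_of_injective Φ hΦ) hle⟩ |>.2
  let χ : E →* Subgroup.center E := MonoidHom.mk' (fun x => ⟨φ x * x⁻¹, hφ x⟩)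
    (fun x y => Subtype.ext (by
      show φ (x * y) * (x * y)⁻¹ = (φ x * x⁻¹) * (φ y * y⁻¹)
      rw [map_mul, show (φ x * x⁻¹) * (φ y * y⁻¹) = φ x * (x⁻¹ * (φ y * y⁻¹)) by group,
        Subgroup.mem_center_iff.1 (hφ y) x⁻¹]
      group))
  obtain ⟨v, hv⟩ := hsurj (QuotientGroup.lift _ χ (hker χ))
  refine ⟨v.out, fun x => ?_⟩
  have h := congrArg Subtype.val (DFunLike.congr_fun hv (x : V))
  change v.out * x * v.out⁻¹ * x⁻¹ = φ x * x⁻¹ at h
  exact (mul_right_cancel h).symm

end Cfsg.Agent.S5395
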