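import Cfsg.Statements.S5396
import Cfsg.Agent.Lib.ThreeTranspositions.CocycleGroup

set_option autoImplicit false
open Cfsg

namespace Cfsg.Agent.S5396
open Cfsg.Agent.Lib.ThreeTranspositions.CocycleGroup

theorem rank_eq {n k : ℕ} {e : Fin n → ZMod 2} (hU : Nat.card (stdU e) = 2 ^ k)
    (hmax : ∀ U : AddSubgroup (Fin n → P), Singular e U → Nat.card U ≤ 2 ^ k) :
    sSup {j : ℕ | ∃ A : Subgroup (Ext e), Cfsg.IsElementaryAbelian 2 A ∧ Nat.card A = 2 ^ j} = k + 1 := by
  refine IsGreatest.csSup_eq ⟨⟨liftU (stdU e), liftU_elemAb stdU_singular, ?_⟩, ?_⟩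
  · rw [card_liftU, hU, pow_succ']
  · rintro j ⟨A, hA, hj⟩
    obtain ⟨U, hU', hle⟩ := elemAb_bound hA
    rw [← Nat.pow_le_pow_iff_right (le_refl 2), ← hj, pow_succ']
    exact hle.trans (Nat.mul_le_mul_left 2 (hmax U hU'))

/-- For every n ≥ 1 there exist finite extraspecial 2-groups of order 2^(2n+1) whose 2-rank (the largest rank of an elementary abelian subgroup) is n, and ones whose 2-rank is n + 1 (so for each such order there are two non-isomorphic extraspecial 2-groups, told apart by their 2-rank). -/
theorem result (n : ℕ) (hn : 1 ≤ n) : ∀ r ∈ ({n, n + 1} : Set ℕ), ∃ (E : Type) (_ : Group E) (_ : Finite E), Cfsg.IsExtraspecial 2 E ∧ Nat.card E = 2 ^ (2 * n + 1) ∧ sSup {k : ℕ | ∃ A : Subgroup E, Cfsg.IsElementaryAbelian 2 A ∧ Nat.card A = 2 ^ k} = r := by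
  intro r hr
  rcases hr with rfl | rfl
  · set e : Fin r → ZMod 2 := fun i => if i = ⟨0, hn⟩ then 1 else 0 with he
    refine ⟨Ext e, inferInstance, inferInstance, isExtraspecial hn, card_ext, ?_⟩
    rw [rank_eq (k := r - 1)]
    · omega
    · rw [card_stdU, ← Finset.mul_prod_erase _ _ (Finset.mem_univ (⟨0, hn⟩ : Fin r))]
      rw [Finset.prod_congr rfl (fun i hi => if_pos (show e i = 0 by simp [he, (Finset.mem_erase.1 hi).1]))]
      simp [he]
    · intro U hU
      have hle := card_sq_le (bil_eq_zero_of_singular hU)
      have h2 : Nat.card U ≤ 2 ^ r := by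
        by_contra h
        have := Nat.mul_self_lt_mul_self (not_le.1 h)
        rw [← pow_add, ← two_mul] at this
        omega
      have hne : Nat.card U ≠ 2 ^ r := by
        intro heq
        have hperp : ∀ v, (∀ u ∈ U, bil e v u = 0) → v ∈ U := by
          intro v hv
          classical
          by_contra hvU
          let U' : AddSubgroup (Fin r → P) := U ⊔ AddSubgroup.zmultiples v
          have hb : ∀ x ∈ U', ∀ y ∈ U', bil e x y = 0 := by
            have hvv : bil e v v = 0 := zmod2_add_self _
            have h1 : ∀ x ∈ U', (∀ u ∈ U, bil e x u = 0) ∧ bil e x v = 0 := by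
              intro x hx
              obtain ⟨a, ha, b, ⟨z, rfl⟩, rfl⟩ := AddSubgroup.mem_sup.1 hx
              have hz : z • v = 0 ∨ z • v = v := by
                have h2v : (2 : ℤ) • v = 0 := by rw [two_zsmul, add_self_vec]
                rcases Int.even_or_odd z with ⟨w, rfl⟩ | ⟨w, rfl⟩
                · left; rw [← two_mul, mul_comm, mul_zsmul, h2v, zsmul_zero]
                · right; rw [add_zsmul, one_zsmul, mul_comm, mul_zsmul, h2v, zsmul_zero, zero_add]
              show (∀ u ∈ U, bil e (a + z • v) u = 0) ∧ bil e (a + z • v) v = 0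
              rcases hz with hz | hz <;> rw [hz]
              · simp only [add_zero]
                exact ⟨fun u hu => bil_eq_zero_of_singular hU a ha u hu, by rw [bil_comm]; exact hv a ha⟩
              · refine ⟨fun u hu => ?_, ?_⟩
                · rw [bil_add_left, bil_eq_zero_of_singular hU a ha u hu, hv u hu, add_zero]
                · rw [bil_add_left, bil_comm, hv a ha, hvv, add_zero]
            intro x hx y hy
            obtain ⟨a, ha, b, ⟨z, rfl⟩, rfl⟩ := AddSubgroup.mem_sup.1 hy
            have hz := h1 x hx
            rw [bil_comm, bil_add_left, bil_comm a, hz.1 a ha, zero_add]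
            show bil e (z • v) x = 0
            have h2v : (2 : ℤ) • v = 0 := by rw [two_zsmul, add_self_vec]
            rcases Int.even_or_odd z with ⟨w, rfl⟩ | ⟨w, rfl⟩
            · rw [← two_mul, mul_comm, mul_zsmul, h2v, zsmul_zero]
              simp [bil, beta_zero_left, beta_zero_right]
            · rw [add_zsmul, one_zsmul, mul_comm, mul_zsmul, h2v, zsmul_zero, zero_add, bil_comm]
              exact hz.2
          have hlt : Nat.card U < Nat.card U' := by
            have hUU : U ≤ U' := le_sup_left
            refine lt_of_le_of_ne (AddSubgroup.card_le_of_le hUU) fun heq' => hvU ?_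
            rw [AddSubgroup.eq_of_le_of_card_ge hUU heq'.ge]
            exact AddSubgroup.mem_sup_right (AddSubgroup.mem_zmultiples v)
          have h3 := card_sq_le hb
          have h4 := Nat.mul_self_lt_mul_self hlt
          rw [heq, ← pow_add, ← two_mul] at h4
          omega
        have hs := sum_nonneg_of_max hU hperp
        rw [sum_sgn_q, ← Finset.mul_prod_erase _ _ (Finset.mem_univ (⟨0, hn⟩ : Fin r)),
          Finset.prod_congr rfl (fun i hi => if_pos (show e i = 0 by simp [he, (Finset.mem_erase.1 hi).1]))] at hs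
        simp [he] at hs
        have hp2 := pow_pos (show (0 : ℤ) < 2 by norm_num) (r - 1)
        omega
      obtain ⟨j, -, hj⟩ := (Nat.dvd_prime_pow Nat.prime_two).1
        (show Nat.card U ∣ 2 ^ (2 * r) by
          have h5 := AddSubgroup.card_addSubgroup_dvd_card U
          rwa [Nat.card_pi, Finset.prod_const, Nat.card_prod, Nat.card_zmod, Finset.card_univ,
            Fintype.card_fin, ← pow_two, ← pow_mul] at h5)
      rw [hj] at h2 hne ⊢
      have hjr : j ≤ r := (Nat.pow_le_pow_iff_right (le_refl 2)).1 h2
      have : j ≠ r := fun h => hne (by rw [h])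
      exact Nat.pow_le_pow_right two_pos (by omega)
  · refine ⟨Ext (fun _ : Fin n => (0 : ZMod 2)), inferInstance, inferInstance, isExtraspecial hn, card_ext, ?_⟩
    rw [rank_eq (k := n)]
    · rw [card_stdU]; simp
    · intro U hU
      have hle := card_sq_le (bil_eq_zero_of_singular hU)
      by_contra h
      have := Nat.mul_self_lt_mul_self (not_le.1 h)
      rw [← pow_add, ← two_mul] at this
      omega

end Cfsg.Agent.S5396
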