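import Cfsg.Statements.S5401
import Cfsg.Agent.Lib.FischerExist27.M24
import Cfsg.Agent.Lib.FischerExist27.M23
import Cfsg.Agent.Lib.FischerExist27.M22

set_option autoImplicit false
open Cfsg

namespace Cfsg.Agent.S5401

open Cfsg.Agent.Lib.FischerExist27

/-- Existence of the Fischer 3-transposition groups: there exist finite groups generated by a conjugacy class of 3-transpositions on which they act primitively that are of type M(22), of type M(23), and of type M(24) respectively. -/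
theorem result : (∃ (X : Type) (_ : Group X) (_ : Finite X) (E : Set X), Cfsg.IsThreeTranspositionClass E ∧ Cfsg.IsPrimitiveUnderConj E ∧ Cfsg.IsOfTypeM22 X E) ∧ (∃ (X : Type) (_ : Group X) (_ : Finite X) (E : Set X), Cfsg.IsThreeTranspositionClass E ∧ Cfsg.IsPrimitiveUnderConj E ∧ Cfsg.IsOfTypeM23 X E) ∧ (∃ (X : Type) (_ : Group X) (_ : Finite X) (E : Set X), Cfsg.IsThreeTranspositionClass E ∧ Cfsg.IsPrimitiveUnderConj E ∧ Cfsg.IsOfTypeM24 X E) := by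
  obtain ⟨ρ₂₂, h₂₂, a₂₂, b₂₂, c₂₂⟩ := M22.main
  obtain ⟨ρ₂₃, h₂₃, a₂₃, b₂₃, c₂₃⟩ := M23.main
  obtain ⟨hfin, E, a₂₄, b₂₄, c₂₄⟩ := M24.main
  exact ⟨⟨_, _, Finite.of_injective ρ₂₂ h₂₂.inj, _, a₂₂, b₂₂, c₂₂⟩,
    ⟨_, _, Finite.of_injective ρ₂₃ h₂₃.inj, _, a₂₃, b₂₃, c₂₃⟩,
    ⟨_, _, hfin, E, a₂₄, b₂₄, c₂₄⟩⟩

end Cfsg.Agent.S5401
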