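import Cfsg.Statements.S5405
import Cfsg.Agent.Lib.ThreeTranspositions.OrthCocycle
import Cfsg.Agent.Lib.Forms.Bridge

set_option autoImplicit false
open Cfsg
open scoped Matrix

namespace Cfsg.Agent.S5405

open Lib.ThreeTranspositions.OrthCocycle

/-- The bit `i` of `k`. -/
def bit (k i : ℕ) : ZMod 2 := if Nat.testBit k i then 1 else 0

theorem bit_xor (a b i : ℕ) : bit (Nat.xor a b) i = bit a i + bit b i := by
  show (if Nat.testBit (a ^^^ b) i then (1 : ZMod 2) else 0) = _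
  rw [Nat.testBit_xor, bit, bit]
  cases Nat.testBit a i <;> cases Nat.testBit b i <;> decide

section
variable {ι : Type} [Fintype ι] [DecidableEq ι] (idx : ι → ℕ)

/-- The vector with bits `k`. -/
def vec (k : ℕ) : V ι := fun i => bit k (idx i)

theorem vec_add (a b : ℕ) : vec idx (Nat.xor a b) = vec idx a + vec idx b :=
  funext fun _ => bit_xor _ _ _

variable {idx} {f : V ι → ZMod 2} {q : ℕ → ZMod 2} {N : ℕ}

/-- A numeric model of the form. -/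
structure Model (f : V ι → ZMod 2) (idx : ι → ℕ) (q : ℕ → ZMod 2) (N : ℕ) : Prop where
  surj : ∀ v : V ι, ∃ k < N, v = vec idx k
  eval : ∀ k, f (vec idx k) = q k

/-- The polar form on numbers. -/
def bn (q : ℕ → ZMod 2) (a b : ℕ) : ZMod 2 := q (Nat.xor a b) + q a + q b

theorem Model.polar (M : Model f idx q N) (a b : ℕ) : B f (vec idx a) (vec idx b) = bn q a b := by
  unfold B bn
  rw [← vec_add, M.eval, M.eval, M.eval]

theorem Model.conn (M : Model f idx q N) {n : ℕ} (b : Fin n → ℕ)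
    (h : ∀ i j, ¬ ((bn q (b i) (b j) = 0 ∧ b i ≠ b j) ∧
      ¬ ∃ z < N, q z = 1 ∧ bn q z (b i) = 1 ∧ bn q z (b j) = 1)) :
    ∀ i j, B f (vec idx (b i)) (vec idx (b j)) = 0 → vec idx (b i) ≠ vec idx (b j) →
      ∃ z, f z = 1 ∧ B f z (vec idx (b i)) = 1 ∧ B f z (vec idx (b j)) = 1 := by
  intro i j hb hne
  rw [M.polar] at hb
  obtain ⟨z, -, h1, h2, h3⟩ := not_not.1 fun hn => h i j ⟨⟨hb, fun e => hne (by rw [e])⟩, hn⟩
  exact ⟨vec idx z, by rw [M.eval, h1], by rw [M.polar, h2], by rw [M.polar, h3]⟩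

/-- Reachability on numbers. -/
def ReachN {n : ℕ} (q : ℕ → ZMod 2) (b : Fin n → ℕ) : List ℕ → Prop
  | [] => True
  | v :: rest => ReachN q b rest ∧ ((∃ i, v = b i) ∨
      ∃ i, bn q v (b i) = 1 ∧ Nat.xor v (b i) ∈ rest)

instance decReachN {n : ℕ} (q : ℕ → ZMod 2) (b : Fin n → ℕ) :
    (L : List ℕ) → Decidable (ReachN q b L)
  | [] => .isTrue trivial
  | v :: rest =>
    have := decReachN q b rest
    inferInstanceAs (Decidable (ReachN q b rest ∧ _))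

theorem Model.reach (M : Model f idx q N) {n : ℕ} (b : Fin n → ℕ) :
    ∀ L : List ℕ, ReachN q b L → Reach f (fun i => vec idx (b i)) (L.map (vec idx))
  | [], _ => trivial
  | v :: rest, h => by
    refine ⟨M.reach b rest h.1, ?_⟩
    rcases h.2 with ⟨i, rfl⟩ | ⟨i, h1, h2⟩
    · exact .inl ⟨i, rfl⟩
    · exact .inr ⟨i, by rw [M.polar, h1], by rw [← vec_add]; exact List.mem_map_of_mem h2⟩

/-- All crossed homomorphisms are principal, from numeric certificates. -/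
theorem Model.principal (M : Model f idx q N) (hB : BAdd f)
    (hgen : Subgroup.closure {g : ↥(isometryGroup (ZMod 2) f) |
      ∃ u, ∃ hu : f u = 1, g = refl hB u hu} = ⊤)
    {n : ℕ} (b d : Fin n → ℕ) (L : List ℕ)
    (hconn : ∀ i j, ¬ ((bn q (b i) (b j) = 0 ∧ b i ≠ b j) ∧
      ¬ ∃ z < N, q z = 1 ∧ bn q z (b i) = 1 ∧ bn q z (b j) = 1))
    (hb : ∀ i, q (b i) = 1) (hd : ∀ i j, bn q (d j) (b i) = if i = j then 1 else 0)
    (hL : ReachN q b L) (hall : ∀ k < N, q k = 1 → k ∈ L)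
    (φ : ↥(Omega (ZMod 2) f) → V ι)
    (hφ : ∀ g h, φ (g * h) = φ g + act g.1 (φ h)) :
    ∃ v : V ι, ∀ g : ↥(Omega (ZMod 2) f), φ g = act g.1 v - v :=
  Lib.ThreeTranspositions.OrthCocycle.principal hB hφ hgen
    (fun i => vec idx (b i)) (fun i => vec idx (d i)) (fun i => by rw [M.eval, hb])
    (fun i j => by rw [M.polar, hd]) (M.conn b hconn) _ (M.reach b L hL) (fun v hv => by
      obtain ⟨k, hk, rfl⟩ := M.surj v
      rw [M.eval] at hv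
      exact List.mem_map_of_mem (hall k hk hv))

theorem badd_of_quadratic (Q : QuadraticForm (ZMod 2) (V ι)) (hf : f = ⇑Q) : BAdd f := by
  subst hf
  intro x y z
  have h := QuadraticMap.polar_add_left Q x y z
  unfold QuadraticMap.polar at h
  unfold B
  simp only [CharTwo.sub_eq_add] at h
  exact h

theorem gen_of_quadratic (Q : QuadraticForm (ZMod 2) (V ι)) (hf : f = ⇑Q)
    (hQ : Lib.Forms.Nondeg Q) (hn : Fintype.card ι ≠ 4) (hB : BAdd f) :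
    Subgroup.closure {g : ↥(isometryGroup (ZMod 2) f) |
      ∃ u, ∃ hu : f u = 1, g = refl hB u hu} = ⊤ := by
  subst hf
  rw [eq_top_iff, ← Lib.Forms.closure_ireflSet hQ
    (Or.inr (by rwa [Module.finrank_fintype_fun_eq_card]))]
  refine Subgroup.closure_mono ?_
  rintro g ⟨v, hv, rfl⟩
  have hv1 : Q v = 1 := by
    revert hv
    generalize Q v = a
    revert a
    decide
  refine ⟨v, hv1, act_ext fun x => ?_⟩
  rw [act_refl]
  show ((Lib.Forms.irefl Q v : GL ι (ZMod 2)) : Matrix ι ι (ZMod 2)) *ᵥ x = _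
  rw [← Lib.Forms.isoOrth_apply Q (fun _ => rfl), Lib.Forms.toOrth_irefl]
  show Lib.Forms.refl Q v x = _
  rw [Lib.Forms.refl_apply, hv1, inv_one, one_mul]
  unfold QuadraticMap.polar B
  rw [sub_eq_add_neg x, ← neg_smul, add_comm v x]
  simp only [CharTwo.neg_eq, CharTwo.sub_eq_add]
  congr 2
  ring

end

def idxM1 : (Fin 1 ⊕ Fin 1) ⊕ Fin 2 → ℕ
  | .inl (.inl i) => i.val
  | .inl (.inr i) => 1 + i.val
  | .inr i => 2 + i.val

def qM1 (k : ℕ) : ZMod 2 := bit k 0 * bit k 1 + (bit k 2 ^ 2 + bit k 2 * bit k 3 + bit k 3 ^ 2)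

theorem modelM1 : Model (Cfsg.quadFormMinus 1 (ZMod 2) 1 1) idxM1 qM1 16 := by
  constructor
  · intro v
    have key : ∀ a0 a1 a2 a3 : ZMod 2, (1 * a0.val + 2 * a1.val + 4 * a2.val + 8 * a3.val) < 16 ∧
      bit (1 * a0.val + 2 * a1.val + 4 * a2.val + 8 * a3.val) 0 = a0 ∧
      bit (1 * a0.val + 2 * a1.val + 4 * a2.val + 8 * a3.val) 1 = a1 ∧
      bit (1 * a0.val + 2 * a1.val + 4 * a2.val + 8 * a3.val) 2 = a2 ∧
      bit (1 * a0.val + 2 * a1.val + 4 * a2.val + 8 * a3.val) 3 = a3 := by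
      decide +kernel
    obtain ⟨h, e0, e1, e2, e3⟩ := key (v (.inl (.inl 0))) (v (.inl (.inr 0))) (v (.inr 0)) (v (.inr 1))
    refine ⟨_, h, funext fun i => ?_⟩
    rcases i with (i | i) | i <;> fin_cases i <;>
      first | exact e0.symm | exact e1.symm | exact e2.symm | exact e3.symm
  · intro k
    show _ = qM1 k
    simp [Cfsg.quadFormMinus, vec, idxM1, qM1]

theorem hBM1 : BAdd (Cfsg.quadFormMinus 1 (ZMod 2) 1 1) := badd_of_quadratic (Lib.Forms.qMinus 1 1 1) (funext fun v => (Lib.Forms.qMinus_apply 1 1 1 v).symm)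

theorem genM1 : Subgroup.closure {g : ↥(isometryGroup (ZMod 2) (Cfsg.quadFormMinus 1 (ZMod 2) 1 1)) |
    ∃ u, ∃ hu : Cfsg.quadFormMinus 1 (ZMod 2) 1 1 u = 1, g = refl hBM1 u hu} = ⊤ := by
  refine gen_of_chain hBM1 (fun i => vec idxM1 (![5, 3, 4, 8] i)) (fun i => vec idxM1 (![3, 1, 11, 4] i))
    (fun i => ?_) (fun x => ?_) (fun k v hv hi hne h0 => ?_)
  · rw [modelM1.eval]; revert i; decide +kernel
  · obtain ⟨a, ha, rfl⟩ := modelM1.surj x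
    simp only [modelM1.polar]
    revert a
    decide +kernel
  · obtain ⟨a, ha, rfl⟩ := modelM1.surj v
    simp only [modelM1.polar, modelM1.eval] at hv hi h0
    have key : ∀ k : Fin 4, ∀ a < 16, ¬ ((qM1 a = 1 ∧
        ∀ i, i < k → bn qM1 a (![5, 3, 4, 8] i) = bn qM1 (![5, 3, 4, 8] k) (![5, 3, 4, 8] i)) ∧
        (a ≠ ![5, 3, 4, 8] k ∧ bn qM1 a (![5, 3, 4, 8] k) = 0) ∧
        ¬ ∃ z < 16, (qM1 z = 1 ∧ bn qM1 z (![5, 3, 4, 8] k) = 1 ∧ bn qM1 z a = 1) ∧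
          ∀ i, i < k → bn qM1 z (![5, 3, 4, 8] i) = bn qM1 (![5, 3, 4, 8] k) (![5, 3, 4, 8] i)) := by
      decide +kernel
    obtain ⟨z, -, ⟨h1, h2, h3⟩, h4⟩ := not_not.1 fun hn =>
      key k a ha ⟨⟨hv, hi⟩, ⟨fun e => hne (by rw [e]), h0⟩, hn⟩
    exact ⟨vec idxM1 z, by rw [modelM1.eval, h1], by rw [modelM1.polar, h2], by rw [modelM1.polar, h3],
      fun i hi' => by rw [modelM1.polar, modelM1.polar]; exact h4 i hi'⟩

theorem partM1 (φ : ↥(Omega (ZMod 2) (Cfsg.quadFormMinus 1 (ZMod 2) 1 1)) → ((Fin 1 ⊕ Fin 1) ⊕ Fin 2 → ZMod 2))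
    (hφ : ∀ g h, φ (g * h) = φ g + act g.1 (φ h)) :
    ∃ v, ∀ g : ↥(Omega (ZMod 2) (Cfsg.quadFormMinus 1 (ZMod 2) 1 1)), φ g = act g.1 v - v :=
  modelM1.principal hBM1 genM1 ![5, 3, 4, 8] ![3, 1, 11, 4]
    [10, 9, 12, 14, 13, 6, 8, 4, 3, 5]
    (by decide +kernel) (by decide +kernel) (by decide +kernel) (by decide +kernel) (by decide +kernel) φ hφ

def idxM2 : (Fin 2 ⊕ Fin 2) ⊕ Fin 2 → ℕ
  | .inl (.inl i) => i.val
  | .inl (.inr i) => 2 + i.val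
  | .inr i => 4 + i.val

def qM2 (k : ℕ) : ZMod 2 := bit k 0 * bit k 2 + bit k 1 * bit k 3 + (bit k 4 ^ 2 + bit k 4 * bit k 5 + bit k 5 ^ 2)

theorem modelM2 : Model (Cfsg.quadFormMinus 2 (ZMod 2) 1 1) idxM2 qM2 64 := by
  constructor
  · intro v
    have key : ∀ a0 a1 a2 a3 a4 a5 : ZMod 2, (1 * a0.val + 2 * a1.val + 4 * a2.val + 8 * a3.val + 16 * a4.val + 32 * a5.val) < 64 ∧
      bit (1 * a0.val + 2 * a1.val + 4 * a2.val + 8 * a3.val + 16 * a4.val + 32 * a5.val) 0 = a0 ∧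
      bit (1 * a0.val + 2 * a1.val + 4 * a2.val + 8 * a3.val + 16 * a4.val + 32 * a5.val) 1 = a1 ∧
      bit (1 * a0.val + 2 * a1.val + 4 * a2.val + 8 * a3.val + 16 * a4.val + 32 * a5.val) 2 = a2 ∧
      bit (1 * a0.val + 2 * a1.val + 4 * a2.val + 8 * a3.val + 16 * a4.val + 32 * a5.val) 3 = a3 ∧
      bit (1 * a0.val + 2 * a1.val + 4 * a2.val + 8 * a3.val + 16 * a4.val + 32 * a5.val) 4 = a4 ∧
      bit (1 * a0.val + 2 * a1.val + 4 * a2.val + 8 * a3.val + 16 * a4.val + 32 * a5.val) 5 = a5 := by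
      decide +kernel
    obtain ⟨h, e0, e1, e2, e3, e4, e5⟩ := key (v (.inl (.inl 0))) (v (.inl (.inl 1))) (v (.inl (.inr 0))) (v (.inl (.inr 1))) (v (.inr 0)) (v (.inr 1))
    refine ⟨_, h, funext fun i => ?_⟩
    rcases i with (i | i) | i <;> fin_cases i <;>
      first | exact e0.symm | exact e1.symm | exact e2.symm | exact e3.symm | exact e4.symm | exact e5.symm
  · intro k
    show _ = qM2 k
    simp [Cfsg.quadFormMinus, Fin.sum_univ_two, vec, idxM2, qM2]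

theorem hBM2 : BAdd (Cfsg.quadFormMinus 2 (ZMod 2) 1 1) := badd_of_quadratic (Lib.Forms.qMinus 2 1 1) (funext fun v => (Lib.Forms.qMinus_apply 2 1 1 v).symm)

theorem genM2 : Subgroup.closure {g : ↥(isometryGroup (ZMod 2) (Cfsg.quadFormMinus 2 (ZMod 2) 1 1)) |
    ∃ u, ∃ hu : Cfsg.quadFormMinus 2 (ZMod 2) 1 1 u = 1, g = refl hBM2 u hu} = ⊤ :=
  gen_of_quadratic (Lib.Forms.qMinus 2 1 1) (funext fun v => (Lib.Forms.qMinus_apply 2 1 1 v).symm) (Lib.Forms.qMinus_nondeg 2 (by decide)) (by decide) _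

theorem partM2 (φ : ↥(Omega (ZMod 2) (Cfsg.quadFormMinus 2 (ZMod 2) 1 1)) → ((Fin 2 ⊕ Fin 2) ⊕ Fin 2 → ZMod 2))
    (hφ : ∀ g h, φ (g * h) = φ g + act g.1 (φ h)) :
    ∃ v, ∀ g : ↥(Omega (ZMod 2) (Cfsg.quadFormMinus 2 (ZMod 2) 1 1)), φ g = act g.1 v - v :=
  modelM2.principal hBM2 genM2 ![13, 31, 14, 49, 11, 48] ![10, 48, 59, 61, 3, 45]
    [10, 56, 22, 7, 54, 51, 38, 24, 41, 44, 19, 34, 57, 40, 36, 25, 16, 52, 32, 33, 50, 28, 5, 63, 35, 47, 20, 17, 60, 18, 48, 11, 49, 14, 31, 13]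
    (by decide +kernel) (by decide +kernel) (by decide +kernel) (by decide +kernel) (by decide +kernel) φ hφ

def idxP4 : Fin 4 ⊕ Fin 4 → ℕ
  | .inl i => i.val
  | .inr i => 4 + i.val

def qP4 (k : ℕ) : ZMod 2 := bit k 0 * bit k 4 + bit k 1 * bit k 5 + bit k 2 * bit k 6 + bit k 3 * bit k 7

theorem modelP4 : Model (Cfsg.quadFormPlus 4 (ZMod 2)) idxP4 qP4 256 := by
  constructor
  · intro v
    have key : ∀ a0 a1 a2 a3 a4 a5 a6 a7 : ZMod 2, (1 * a0.val + 2 * a1.val + 4 * a2.val + 8 * a3.val + 16 * a4.val + 32 * a5.val + 64 * a6.val + 128 * a7.val) < 256 ∧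
      bit (1 * a0.val + 2 * a1.val + 4 * a2.val + 8 * a3.val + 16 * a4.val + 32 * a5.val + 64 * a6.val + 128 * a7.val) 0 = a0 ∧
      bit (1 * a0.val + 2 * a1.val + 4 * a2.val + 8 * a3.val + 16 * a4.val + 32 * a5.val + 64 * a6.val + 128 * a7.val) 1 = a1 ∧
      bit (1 * a0.val + 2 * a1.val + 4 * a2.val + 8 * a3.val + 16 * a4.val + 32 * a5.val + 64 * a6.val + 128 * a7.val) 2 = a2 ∧
      bit (1 * a0.val + 2 * a1.val + 4 * a2.val + 8 * a3.val + 16 * a4.val + 32 * a5.val + 64 * a6.val + 128 * a7.val) 3 = a3 ∧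
      bit (1 * a0.val + 2 * a1.val + 4 * a2.val + 8 * a3.val + 16 * a4.val + 32 * a5.val + 64 * a6.val + 128 * a7.val) 4 = a4 ∧
      bit (1 * a0.val + 2 * a1.val + 4 * a2.val + 8 * a3.val + 16 * a4.val + 32 * a5.val + 64 * a6.val + 128 * a7.val) 5 = a5 ∧
      bit (1 * a0.val + 2 * a1.val + 4 * a2.val + 8 * a3.val + 16 * a4.val + 32 * a5.val + 64 * a6.val + 128 * a7.val) 6 = a6 ∧
      bit (1 * a0.val + 2 * a1.val + 4 * a2.val + 8 * a3.val + 16 * a4.val + 32 * a5.val + 64 * a6.val + 128 * a7.val) 7 = a7 := by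
      decide +kernel
    obtain ⟨h, e0, e1, e2, e3, e4, e5, e6, e7⟩ := key (v (.inl 0)) (v (.inl 1)) (v (.inl 2)) (v (.inl 3)) (v (.inr 0)) (v (.inr 1)) (v (.inr 2)) (v (.inr 3))
    refine ⟨_, h, funext fun i => ?_⟩
    rcases i with i | i <;> fin_cases i <;>
      first | exact e0.symm | exact e1.symm | exact e2.symm | exact e3.symm | exact e4.symm | exact e5.symm |
        exact e6.symm | exact e7.symm
  · intro k
    show _ = qP4 k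
    simp [Cfsg.quadFormPlus, Fin.sum_univ_four, vec, idxP4, qP4]

theorem hBP4 : BAdd (Cfsg.quadFormPlus 4 (ZMod 2)) := badd_of_quadratic (Lib.Forms.qPlus 4) (funext fun v => Lib.Forms.qPlus_eq 4 v)

theorem genP4 : Subgroup.closure {g : ↥(isometryGroup (ZMod 2) (Cfsg.quadFormPlus 4 (ZMod 2))) |
    ∃ u, ∃ hu : Cfsg.quadFormPlus 4 (ZMod 2) u = 1, g = refl hBP4 u hu} = ⊤ :=
  gen_of_quadratic (Lib.Forms.qPlus 4) (funext fun v => (Lib.Forms.qPlus_apply 4 v).symm) (Lib.Forms.qPlus_nondeg 4) (by decide) _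

theorem partP4 (φ : ↥(Omega (ZMod 2) (Cfsg.quadFormPlus 4 (ZMod 2))) → (Fin 4 ⊕ Fin 4 → ZMod 2))
    (hφ : ∀ g h, φ (g * h) = φ g + act g.1 (φ h)) :
    ∃ v, ∀ g : ↥(Omega (ZMod 2) (Cfsg.quadFormPlus 4 (ZMod 2))), φ g = act g.1 v - v :=
  modelP4.principal hBP4 genP4 ![29, 76, 27, 158, 233, 50, 91, 122] ![33, 114, 182, 19, 27, 232, 156, 241]
    [182, 241, 156, 232, 173, 218, 199, 139, 114, 83, 68, 31, 89, 46, 107, 53, 62, 21, 98, 39, 121, 127, 251, 101, 58, 78, 100, 35, 77, 57, 124, 34, 19, 84, 17, 79, 86, 238, 196, 229, 140, 201, 151, 181, 211, 167, 226, 188, 71, 92, 162, 203, 149, 136, 25, 142, 43, 141, 202, 143, 209, 200, 42, 166, 191, 248, 169, 227, 109, 94, 154, 187, 214, 247, 145, 221, 116, 212, 152, 49, 69, 138, 223, 254, 198, 147, 178, 61, 113, 108, 253, 38, 168, 137, 216, 177, 106, 228, 197, 172, 119, 163, 239, 242, 99, 184, 54, 23, 70, 47, 244, 81, 122, 91,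 50, 233, 158, 27, 76, 29]
    (by decide +kernel) (by decide +kernel) (by decide +kernel) (by decide +kernel) (by decide +kernel) φ hφ

/-- Vanishing of first cohomology on the natural module for three small orthogonal groups over the field with two elements: for the commutator subgroup of the isometry group of the elliptic quadratic form in dimension 4, of the elliptic form in dimension 6, and of the hyperbolic form in dimension 8, every crossed homomorphism into the natural module (a map f with f(gh) = f(g) + g·f(h)) is principal (of the form g ↦ g·v − v). -/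
theorem result : (∀ f : ↥(Cfsg.Omega (ZMod 2) (Cfsg.quadFormMinus 1 (ZMod 2) 1 1)) → ((Fin 1 ⊕ Fin 1) ⊕ Fin 2 → ZMod 2), (∀ g h : ↥(Cfsg.Omega (ZMod 2) (Cfsg.quadFormMinus 1 (ZMod 2) 1 1)), f (g * h) = f g + Matrix.mulVec (((g : ↥(Cfsg.isometryGroup (ZMod 2) (Cfsg.quadFormMinus 1 (ZMod 2) 1 1))) : GL ((Fin 1 ⊕ Fin 1) ⊕ Fin 2) (ZMod 2)) : Matrix ((Fin 1 ⊕ Fin 1) ⊕ Fin 2) ((Fin 1 ⊕ Fin 1) ⊕ Fin 2) (ZMod 2)) (f h)) → ∃ v : (Fin 1 ⊕ Fin 1) ⊕ Fin 2 → ZMod 2, ∀ g : ↥(Cfsg.Omega (ZMod 2) (Cfsg.quadFormMinus 1 (ZMod 2) 1 1)), f g = Matrix.mulVec (((g : ↥(Cfsg.isometryGroup (ZMod 2) (Cfsg.quadFormMinus 1 (ZMod 2) 1 1))) : GL ((Fin 1 ⊕ Fin 1) ⊕ Fin 2) (ZMod 2)) : Matrix ((Fin 1 ⊕ Fin 1) ⊕ Fin 2) ((Fin 1 ⊕ Fin 1) ⊕ Fin 2) (ZMod 2)) v - v) ∧ (∀ f : ↥(Cfsg.Omega (ZMod 2) (Cfsg.quadFormMinus 2 (ZMod 2) 1 1)) → ((Fin 2 ⊕ Fin 2) ⊕ Fin 2 → ZMod 2), (∀ g h : ↥(Cfsg.Omega (ZMod 2) (Cfsg.quadFormMinus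 2 (ZMod 2) 1 1)), f (g * h) = f g + Matrix.mulVec (((g : ↥(Cfsg.isometryGroup (ZMod 2) (Cfsg.quadFormMinus 2 (ZMod 2) 1 1))) : GL ((Fin 2 ⊕ Fin 2) ⊕ Fin 2) (ZMod 2)) : Matrix ((Fin 2 ⊕ Fin 2) ⊕ Fin 2) ((Fin 2 ⊕ Fin 2) ⊕ Fin 2) (ZMod 2)) (f h)) → ∃ v : (Fin 2 ⊕ Fin 2) ⊕ Fin 2 → ZMod 2, ∀ g : ↥(Cfsg.Omega (ZMod 2) (Cfsg.quadFormMinus 2 (ZMod 2) 1 1)), f g = Matrix.mulVec (((g : ↥(Cfsg.isometryGroup (ZMod 2) (Cfsg.quadFormMinus 2 (ZMod 2) 1 1))) : GL ((Fin 2 ⊕ Fin 2) ⊕ Fin 2) (ZMod 2)) : Matrix ((Fin 2 ⊕ Fin 2) ⊕ Fin 2) ((Fin 2 ⊕ Fin 2) ⊕ Fin 2) (ZMod 2)) v - v) ∧ (∀ f : ↥(Cfsg.Omega (ZMod 2) (Cfsg.quadFormPlus 4 (ZMod 2))) → (Fin 4 ⊕ Fin 4 → ZMod 2), (∀ g h : ↥(Cfsg.Omega (ZMod 2) (Cfsg.quadFormPlus 4 (ZMod 2))), f (g * h) = f g + Matrix.mulVec (((g : ↥(Cfsg.isometryGroup (ZMod 2) (Cfsg.quadFormPlus 4 (ZMod 2)))) : GL (Fin 4 ⊕ Fin 4) (ZMod 2)) : Matrix (Fin 4 ⊕ Fin 4) (Fin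 4 ⊕ Fin 4) (ZMod 2)) (f h)) → ∃ v : Fin 4 ⊕ Fin 4 → ZMod 2, ∀ g : ↥(Cfsg.Omega (ZMod 2) (Cfsg.quadFormPlus 4 (ZMod 2))), f g = Matrix.mulVec (((g : ↥(Cfsg.isometryGroup (ZMod 2) (Cfsg.quadFormPlus 4 (ZMod 2)))) : GL (Fin 4 ⊕ Fin 4) (ZMod 2)) : Matrix (Fin 4 ⊕ Fin 4) (Fin 4 ⊕ Fin 4) (ZMod 2)) v - v) := by
  exact ⟨partM1, partM2, partP4⟩

end Cfsg.Agent.S5405
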