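import Cfsg.Statements.S5552
import Cfsg.Agent.Lib.Leech.Transitive
import Cfsg.Agent.Lib.LeechMod2.MinSpan
import Cfsg.Agent.Lib.Golay.Stabilizers
-- import your own Cfsg.Agent.* helpers here

set_option autoImplicit false
open Cfsg

namespace Cfsg.Agent.S5552

open Cfsg.Agent.Lib.Leech

/-- Squared length over sixteen. -/
def typ (v : leechLattice) : ℤ := sqNorm (vec v) / 16

theorem typ_spec (v : leechLattice) : sqNorm (vec v) = 16 * typ v :=
  (Int.mul_ediv_cancel' (sqNorm_dvd v.2)).symm

theorem typ_para (u v w : leechLattice) :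
    typ (u + v + w) + typ u + typ v + typ w = typ (u + v) + typ (u + w) + typ (v + w) := by
  have h := fun x : leechLattice => typ_spec x
  have e : sqNorm (vec (u + v + w)) + sqNorm (vec u) + sqNorm (vec v) + sqNorm (vec w) =
      sqNorm (vec (u + v)) + sqNorm (vec (u + w)) + sqNorm (vec (v + w)) := by
    simp only [sqNorm, vec, AddSubgroup.coe_add, Pi.add_apply, ← Finset.sum_add_distrib]
    exact Finset.sum_congr rfl fun i _ => by ring
  simp only [h] at e
  omega

theorem typ_coset (v w : leechLattice) : (2 : ℤ) ∣ typ (v + (w + w)) - typ v := by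
  obtain ⟨k, hk⟩ := dotInt_dvd v.2 w.2
  have e : sqNorm (vec (v + (w + w))) =
      sqNorm (vec v) + 4 * dotInt (vec v) (vec w) + 4 * sqNorm (vec w) := by
    simp only [sqNorm, dotInt, vec, AddSubgroup.coe_add, Pi.add_apply, Finset.mul_sum,
      ← Finset.sum_add_distrib]
    exact Finset.sum_congr rfl fun i _ => by ring
  rw [typ_spec, typ_spec v, typ_spec w, show dotInt (vec v) (vec w) = _ from hk] at e
  omega

/-- A lattice vector with two coordinates four. -/
def fours (a b : ℤ) (hab : (a + b) % 2 = 0) (i j : GolayPt) : leechLattice :=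
  ⟨Pi.single i (4 * a) + Pi.single j (4 * b), four_pm_mem a b hab⟩

/-- An odd lattice vector of squared length 32. -/
def odd0 : leechLattice := ⟨oddBase none, oddBase_mem none⟩

/-- The vector with two fours. -/
def pv : leechLattice := fours 1 1 rfl (some 0) (some 1)

/-- The vector with a four and a minus four. -/
def pw : leechLattice := fours 1 (-1) rfl (some 0) none

/-- A vector meeting `pv` in one four. -/
def px : leechLattice := fours 1 1 rfl (some 0) (some 2)

/-- Its complement inside a disjoint vector. -/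
def py : leechLattice := fours (-1) 1 rfl (some 0) (some 3)

theorem norms :
    (∑ i, vec pv i ^ 2 = 32 ∧ ∑ i, vec pw i ^ 2 = 32 ∧ ∑ i, vec odd0 i ^ 2 = 32 ∧
      ∑ i, vec px i ^ 2 = 32 ∧ ∑ i, vec py i ^ 2 = 32) ∧
    (∑ i, (vec pw i - vec odd0 i) ^ 2 = 32 ∧ ∑ i, (vec pv i - vec odd0 i) ^ 2 = 48 ∧
      ∑ i, (vec pv i - (vec pw i - vec odd0 i)) ^ 2 = 48 ∧ ∑ i, (vec pv i - vec pw i) ^ 2 = 32) ∧
    (∑ i, (vec pv i - vec px i) ^ 2 = 32 ∧ ∑ i, (vec pv i + vec py i) ^ 2 = 32 ∧
      ∑ i, (vec px i + vec py i) ^ 2 = 32 ∧ ∑ i, (vec pv i + (vec px i + vec py i)) ^ 2 = 64) := by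
  decide +kernel

/-- On the Leech lattice of the definitions, let Q be a function to the field with two elements that is constant on cosets of twice the lattice, is a quadratic form there (Q(u+v+w) + Q(u) + Q(v) + Q(w) = Q(u+v) + Q(u+w) + Q(v+w) for all u, v, w), is invariant under every lattice automorphism, and is not identically zero. Then Q(v) is the squared length of v divided by 16, reduced modulo 2, for every lattice vector v (squared lengths of lattice vectors are multiples of 16). -/
theorem result (Q : ↥Cfsg.leechLattice → ZMod 2) (hcoset : ∀ v w : ↥Cfsg.leechLattice, Q (v + (w + w)) = Q v) (hquad : ∀ u v w : ↥Cfsg.leechLattice, Q (u + v + w) + Q u + Q v + Q w = Q (u + v) + Q (u + w) + Q (v + w)) (hinv : ∀ (g : ↥Cfsg.Co0) (v : ↥Cfsg.leechLattice), Q (g • v) = Q v) (hne : ∃ v : ↥Cfsg.leechLattice, Q v ≠ 0) (v : ↥Cfsg.leechLattice) : Q v = ((Cfsg.sqNorm (v : Cfsg.GolayPt → ℤ) / 16 : ℤ) : ZMod 2) := by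
  -- bilinearity of the polarisation, behaviour under negation
  have h0 : Q 0 = 0 := by
    have := hquad 0 0 0
    simp only [add_zero] at this
    revert this; generalize Q 0 = a; revert a; decide
  have hneg : ∀ a b : leechLattice, Q (a - b) = Q (a + b) := fun a b => by
    rw [← hcoset (a - b) b, sub_add_add_cancel]
  -- the three shells
  have hshell : ∀ {n : ℤ} {t : leechLattice},
      (∀ u : leechLattice, sqNorm (vec u) = n → ∃ g : Cfsg.Co0, g • u = t) →
      ∀ u : leechLattice, sqNorm (vec u) = n → Q u = Q t := by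
    intro n t ht u hu
    obtain ⟨g, hg⟩ := ht u hu
    rw [← hg, hinv]
  have hd : Cfsg.Spor.squareDodecad ∈ Cfsg.dodecads := Lib.Golay.squareDodecad_mem
  obtain ⟨a, ha⟩ : ∃ a, ∀ u : leechLattice, sqNorm (vec u) = 32 → Q u = a := by
    refine ⟨Q pv, hshell fun u hu => ?_⟩
    obtain ⟨g, hg⟩ := transitive32 (p := some 0) (q := some 1) (by decide) hu
    refine ⟨g, Subtype.ext (hg.trans ?_)⟩
    show _ = vec pv
    funext k
    revert k
    decide +kernel
  obtain ⟨c, hc⟩ : ∃ c, ∀ u : leechLattice, sqNorm (vec u) = 48 → Q u = c := by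
    refine ⟨Q ⟨_, two_smul_code_mem hd.1⟩, hshell fun u hu => ?_⟩
    obtain ⟨g, hg⟩ := transitive48 hd hu
    exact ⟨g, Subtype.ext hg⟩
  obtain ⟨e, he⟩ : ∃ e, ∀ u : leechLattice, sqNorm (vec u) = 64 → Q u = e :=
    ⟨Q (eightE none), hshell fun u hu => transitive64 hu⟩
  -- sums of two minimal vectors
  obtain ⟨⟨nv, nw, no, nx, ny⟩, ⟨nwo, nvo, nvwo, nvw⟩, nvx, nvy, nxy, nvxy⟩ := norms
  have S : ∀ u w : leechLattice, sqNorm (vec (u + w)) = ∑ i, (vec u i + vec w i) ^ 2 := fun _ _ => rfl
  have D : ∀ u w : leechLattice, sqNorm (vec (u - w)) = ∑ i, (vec u i - vec w i) ^ 2 := fun _ _ => rfl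
  have ha0 : a = 0 := by
    have h := hquad pv odd0 (pw - odd0)
    rw [show pv + odd0 + (pw - odd0) = pv + pw by abel, show odd0 + (pw - odd0) = pw by abel] at h
    rw [← hneg pv pw, ← hneg pv odd0, ← hneg pv (pw - odd0),
      ha (pv - pw) ((D _ _).trans nvw), hc (pv - odd0) ((D _ _).trans nvo),
      hc (pv - (pw - odd0)) ((D _ _).trans nvwo), ha pv nv, ha odd0 no,
      ha (pw - odd0) ((D _ _).trans nwo), ha pw nw] at h
    exact (by decide : ∀ a c : ZMod 2, a + a + a + a = c + c + a → a = 0) _ _ h
  subst ha0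
  have he0 : e = 0 := by
    have h := hquad pv px py
    rw [show pv + px + py = pv + (px + py) by abel] at h
    rw [← hneg pv px, ha (pv - px) ((D _ _).trans nvx), ha (pv + py) ((S _ _).trans nvy),
      ha (px + py) ((S _ _).trans nxy), he (pv + (px + py)) ((S _ _).trans nvxy),
      ha pv nv, ha px nx, ha py ny] at h
    simpa using h
  subst he0
  -- the difference with the standard form
  let R : leechLattice → ZMod 2 := fun u => Q u + c * (typ u : ZMod 2)
  have hRquad : ∀ u v w, R (u + v + w) + R u + R v + R w = R (u + v) + R (u + w) + R (v + w) := by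
    intro u v w
    have h1 := hquad u v w
    have h2 := congrArg (fun k : ℤ => (k : ZMod 2)) (typ_para u v w)
    simp only [Int.cast_add] at h2
    simp only [R]
    linear_combination h1 + c * h2
  have hRcoset : ∀ u w, R (u + (w + w)) = R u := by
    intro u w
    have h2 := (ZMod.intCast_zmod_eq_zero_iff_dvd _ 2).mpr (typ_coset u w)
    rw [Int.cast_sub, sub_eq_zero] at h2
    simp only [R, hcoset, h2]
  have hRn : ∀ u : leechLattice, (sqNorm (vec u) = 32 ∨ sqNorm (vec u) = 48 ∨
      sqNorm (vec u) = 64) → R u = 0 := by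
    intro u hu
    simp only [R, typ]
    rcases hu with h | h | h
    · rw [ha u h, h]
      exact (by decide : ∀ c : ZMod 2, 0 + c * (((32 : ℤ) / 16 : ℤ) : ZMod 2) = 0) c
    · rw [hc u h, h]
      exact (by decide : ∀ c : ZMod 2, c + c * (((48 : ℤ) / 16 : ℤ) : ZMod 2) = 0) c
    · rw [he u h, h]
      exact (by decide : ∀ c : ZMod 2, 0 + c * (((64 : ℤ) / 16 : ℤ) : ZMod 2) = 0) c
  have hR0 : R 0 = 0 := by
    have := hRquad 0 0 0
    simp only [add_zero] at this
    revert this; generalize R 0 = a; revert a; decide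
  have hRneg : ∀ a b : leechLattice, R (a - b) = R (a + b) := fun a b => by
    rw [← hRcoset (a - b) b, sub_add_add_cancel]
  have hpair : ∀ u w : leechLattice, sqNorm (vec u) = 32 → sqNorm (vec w) = 32 →
      R (u + w) = 0 := by
    intro u w hu hw
    obtain ⟨k, hk⟩ := dotInt_dvd u.2 w.2
    have hp : sqNorm (vec (u + w)) = 64 + 16 * k := by
      have := sqNorm_add (vec u) (vec w)
      simp only [vec, AddSubgroup.coe_add] at this hu hw ⊢
      rw [this, hu, hw, hk]; ring
    have hm : sqNorm (vec (u - w)) = 64 - 16 * k := by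
      have := sqNorm_sub (vec u) (vec w)
      simp only [vec, AddSubgroup.coe_sub] at this hu hw ⊢
      rw [this, hu, hw, hk]; ring
    by_cases h1 : u + w = 0
    · rw [h1, hR0]
    by_cases h2 : u - w = 0
    · rw [← hRneg, h2, hR0]
    have p1 := sqNorm_ge (u + w).2 (fun h => h1 (Subtype.ext h))
    have m1 := sqNorm_ge (u - w).2 (fun h => h2 (Subtype.ext h))
    simp only [vec] at hp hm
    rcases (by omega : k = 0 ∨ k = -1 ∨ k = -2 ∨ k = 1 ∨ k = 2) with rfl | rfl | rfl | rfl | rfl
    · exact hRn _ (Or.inr (Or.inr (by simpa using hp)))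
    · exact hRn _ (Or.inr (Or.inl (by simpa using hp)))
    · exact hRn _ (Or.inl (by simpa using hp))
    · rw [← hRneg]; exact hRn _ (Or.inr (Or.inl (by simpa using hm)))
    · rw [← hRneg]; exact hRn _ (Or.inl (by simpa using hm))
  -- the polarisation kills everything
  have hmin : ∀ u : leechLattice, sqNorm (vec u) = 32 → R u = 0 := fun u h => hRn u (Or.inl h)
  have hlin : ∀ u w : leechLattice, sqNorm (vec u) = 32 → R (u + w) = R w := by
    intro u w hu
    have hw : w ∈ Lib.LeechMod2.MinSpan.minSpan := by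
      rw [Lib.LeechMod2.MinSpan.minSpan_eq_top]; exact AddSubgroup.mem_top w
    unfold Lib.LeechMod2.MinSpan.minSpan at hw
    induction hw using AddSubgroup.closure_induction with
    | mem x hx => rw [hpair u x hu hx, hmin x hx]
    | zero => rw [add_zero, hmin u hu, hR0]
    | add x y _ _ hx hy =>
      have h := hRquad u x y
      rw [hmin u hu, hx, hy, add_assoc u x y] at h
      revert h
      generalize R (u + (x + y)) = p; generalize R (x + y) = q
      generalize R x = r; generalize R y = s
      revert p q r s; decide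
    | neg x _ hx =>
      have h1 : R (u + -x) = R (u + x) := by rw [← sub_eq_add_neg, hRneg]
      have h2 : R (-x) = R x := by simpa using hRneg 0 x
      rw [h1, h2, hx]
  have hall : ∀ w : leechLattice, R w = 0 := by
    intro w
    have hw : w ∈ Lib.LeechMod2.MinSpan.minSpan := by
      rw [Lib.LeechMod2.MinSpan.minSpan_eq_top]; exact AddSubgroup.mem_top w
    suffices h : ∀ z, R (w + z) = R z by simpa [hR0] using h 0
    unfold Lib.LeechMod2.MinSpan.minSpan at hw
    induction hw using AddSubgroup.closure_induction with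
    | mem x hx => exact fun z => hlin x z hx
    | zero => exact fun z => by rw [zero_add]
    | add x y _ _ hx hy => exact fun z => by rw [add_assoc, hx, hy]
    | neg x _ hx => exact fun z => by simpa using (hx (-x + z)).symm
  obtain ⟨u, hu⟩ := hne
  have hc1 : c = 1 := by
    have := hall u
    simp only [R] at this
    by_contra h
    have hc0 : c = 0 := (by decide : ∀ c : ZMod 2, c ≠ 1 → c = 0) c h
    rw [hc0, zero_mul, add_zero] at this
    exact hu this
  have := hall v
  simp only [R, hc1, one_mul] at this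
  exact CharTwo.add_eq_zero.mp this

end Cfsg.Agent.S5552
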