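import Cfsg.Statements.S5553
import Cfsg.Agent.Lib.LeechMod2.MinNorm

set_option autoImplicit false
open Cfsg

namespace Cfsg.Agent.S5553

open Cfsg.Agent.Lib.Leech Cfsg.Agent.Lib.LeechMod2

theorem one_ne_zero' : (1 : GolayPt → ZMod 2) ≠ 0 := fun h => by simpa using congrFun h none


/-- The Leech lattice of the definitions has an additive subgroup A containing twice the lattice, of index 2^12 in the lattice, all of whose vectors have squared length divisible by 32: the invariant quadratic form 'squared length over 16 modulo 2' on the lattice modulo twice the lattice (a 24-dimensional space over the field with two elements) vanishes on a 12-dimensional subspace, so it is of plus type. -/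
theorem result : ∃ A : AddSubgroup (Cfsg.GolayPt → ℤ), A ≤ Cfsg.leechLattice ∧ (∀ v ∈ Cfsg.leechLattice, (2 : ℤ) • v ∈ A) ∧ (A.addSubgroupOf Cfsg.leechLattice).index = 2 ^ 12 ∧ ∀ v ∈ A, (32 : ℤ) ∣ Cfsg.sqNorm v := by
  classical
  let A : AddSubgroup (GolayPt → ℤ) :=
    { carrier := {v | v ∈ leechLattice ∧ ∃ c : ℤ, (c = 0 ∨ c = 2) ∧ ∀ i, v i % 4 = c}
      zero_mem' := ⟨leechLattice.zero_mem, 0, Or.inl rfl, fun i => rfl⟩
      add_mem' := by
        rintro a b ⟨ha, c, hc, hca⟩ ⟨hb, d, hd, hdb⟩
        refine ⟨leechLattice.add_mem ha hb, (c + d) % 4, by omega, fun i => ?_⟩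
        have := hca i; have := hdb i; simp only [Pi.add_apply]; omega
      neg_mem' := by
        rintro a ⟨ha, c, hc, hca⟩
        refine ⟨leechLattice.neg_mem ha, c, hc, fun i => ?_⟩
        have := hca i; simp only [Pi.neg_apply]; omega }
  refine ⟨A, fun v hv => hv.1, fun v hv => ?_, ?_, ?_⟩
  · refine ⟨leechLattice.zsmul_mem hv 2, ?_⟩
    rcases mem_leech_iff.1 hv with h | h
    · exact ⟨0, Or.inl rfl, fun i => by have := h.1 i; simp only [Pi.smul_apply, smul_eq_mul]; omega⟩
    · exact ⟨2, Or.inr rfl, fun i => by have := h.1 i; simp only [Pi.smul_apply, smul_eq_mul]; omega⟩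
  · have par : ∀ v : leechLattice, ∀ i, v.1 i % 2 = v.1 none % 2 := by
      intro v i
      rcases mem_leech_iff.1 v.2 with h | h <;> rw [h.1 i, h.1 none]
    let χ : leechLattice →+ ZMod 2 :=
      AddMonoidHom.mk' (fun v => ((v.1 none : ℤ) : ZMod 2)) (fun a b => by simp)
    have hχ : Function.Surjective χ := by
      intro t
      rcases zmod2_cases t with rfl | rfl
      · exact ⟨0, map_zero χ⟩
      · refine ⟨⟨_, oddBase_mem none⟩, ?_⟩
        simp [χ, oddBase]
        decide
    have hA0 : A.addSubgroupOf leechLattice ≤ χ.ker := by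
      rintro v ⟨-, c, hc, hcv⟩
      have := hcv none
      show ((v.1 none : ℤ) : ZMod 2) = 0
      rw [ZMod.intCast_zmod_eq_zero_iff_dvd]
      simp only [AddSubgroup.coe_subtype] at this
      omega
    have heven : ∀ v : χ.ker, EvenVec (v : leechLattice).1 := by
      rintro ⟨v, hv⟩
      rcases mem_leech_iff.1 v.2 with h | h
      · exact h
      · have h1 := h.1 none
        have h2 : ((v.1 none : ℤ) : ZMod 2) = 0 := hv
        rw [ZMod.intCast_zmod_eq_zero_iff_dvd] at h2
        omega
    have hmem : ∀ v : χ.ker, ind (res 2 (v : leechLattice).1) ∈ golayCode :=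
      fun v => isCode_iff.1 (heven v).2.1
    let ψ : χ.ker →+ golayCode :=
      AddMonoidHom.mk' (fun v => ⟨_, hmem v⟩) (fun a b => by
        apply Subtype.ext
        funext i
        have h1 := (heven a).1 i
        have h2 := (heven b).1 i
        simp only [Submodule.coe_add, Pi.add_apply, ind, mem_res, AddSubgroup.coe_add]
        split_ifs <;> first | rfl | omega | decide)
    have hψ : Function.Surjective ψ := by
      rintro ⟨w, hw⟩
      have hs : IsCode (support₂ w) := ⟨w, hw, rfl⟩
      refine ⟨⟨⟨_, two_smul_code_mem hs⟩, ?_⟩, ?_⟩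
      · show ((((if none ∈ support₂ w then (2 : ℤ) else 0)) : ℤ) : ZMod 2) = 0
        split_ifs <;> decide
      · apply Subtype.ext
        show ind (res 2 _) = w
        conv_rhs => rw [← ind_support₂ w]
        congr 1
        ext i
        simp only [mem_res]
        split_ifs <;> simp_all
    let one : golayCode := ⟨1, Cfsg.Agent.Lib.Golay.one_mem⟩
    have hcomap : (A.addSubgroupOf leechLattice).addSubgroupOf χ.ker
        = (AddSubgroup.zmultiples one).comap ψ := by
      ext v
      rw [AddSubgroup.mem_comap, AddSubgroup.mem_zmultiples_iff]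
      constructor
      · rintro ⟨-, c, hc, hcv⟩
        rcases hc with rfl | rfl
        · refine ⟨0, Subtype.ext (funext fun i => ?_)⟩
          have := hcv i
          simp only [AddSubgroup.coe_subtype] at this
          simp [ψ, ind, mem_res, this]
        · refine ⟨1, Subtype.ext (funext fun i => ?_)⟩
          have := hcv i
          simp only [AddSubgroup.coe_subtype] at this
          simp [ψ, one, ind, mem_res, this]
      · rintro ⟨n, hn⟩
        refine ⟨(v : leechLattice).2, ?_⟩
        have hval : ∀ i, ind (res 2 (v : leechLattice).1) i = (n : ZMod 2) := fun i => by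
          have := congrFun (congrArg Subtype.val hn) i
          simpa [ψ, one] using this.symm
        rcases zmod2_cases (n : ZMod 2) with h | h
        · refine ⟨0, Or.inl rfl, fun i => ?_⟩
          have := hval i
          have := (heven v).1 i
          simp only [AddSubgroup.coe_subtype]
          simp [ind, mem_res, h] at *
          omega
        · refine ⟨2, Or.inr rfl, fun i => ?_⟩
          have := hval i
          simp only [AddSubgroup.coe_subtype]
          simpa [ind, mem_res, h] using this
    have hcard1 : Nat.card (AddSubgroup.zmultiples one) = 2 := by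
      rw [Nat.card_zmultiples]
      refine addOrderOf_eq_prime (Subtype.ext (funext fun i => ?_)) fun h => one_ne_zero' (congrArg Subtype.val h)
      simp [one, CharTwo.two_eq_zero]
    have h2 : (AddSubgroup.zmultiples one).index * 2 = 2 ^ 12 := by
      have h := AddSubgroup.index_mul_card (AddSubgroup.zmultiples one)
      rw [hcard1] at h
      exact h.trans Cfsg.Agent.Lib.Golay.card_golayCode
    have h3 : χ.ker.index = 2 := by
      rw [AddSubgroup.index_ker, AddMonoidHom.range_eq_top.2 hχ]; simp
    rw [← AddSubgroup.relIndex_mul_index hA0, h3, AddSubgroup.relIndex, hcomap,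
      AddSubgroup.index_comap_of_surjective _ hψ]
    exact h2
  · rintro v ⟨hv, c, hc, hcv⟩
    rcases hc with rfl | rfl
    · rcases mem_leech_iff.1 hv with h | h
      · exact thirtytwo_dvd_of_four hcv h.2.2
      · have := h.1 none; have := hcv none; omega
    · exact thirtytwo_dvd_of_two hcv

end Cfsg.Agent.S5553
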