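import Cfsg.Statements.S5408
import Cfsg.Agent.S5552
import Cfsg.Agent.S5553
-- import your own Cfsg.Agent.* helpers here

set_option autoImplicit false
open Cfsg

namespace Cfsg.Agent.S5408

universe u

section Square

variable {P : Type u} [Group P]

open scoped Classical in
/-- The indicator of a non-identity element. -/
noncomputable def indic (a : P) : ZMod 2 := if a = 1 then 0 else 1

theorem indic_mul (hc : Nat.card (Subgroup.center P) = 2) {a b : P} (ha : a ∈ Subgroup.center P)
    (hb : b ∈ Subgroup.center P) : indic (a * b) = indic a + indic b := by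
  by_cases h1 : a = 1
  · rw [h1, one_mul, show indic (1 : P) = 0 from if_pos rfl, zero_add]
  by_cases h2 : b = 1
  · rw [h2, mul_one, show indic (1 : P) = 0 from if_pos rfl, add_zero]
  obtain ⟨x, -, hx⟩ := (Nat.card_eq_two_iff' (1 : Subgroup.center P)).mp hc
  have e1 := hx ⟨a, ha⟩ (fun h => h1 (congrArg Subtype.val h))
  have e2 := hx ⟨b, hb⟩ (fun h => h2 (congrArg Subtype.val h))
  have e3 := hx (⟨a, ha⟩⁻¹) (fun h => h1 (congrArg Subtype.val (inv_eq_one.mp h)))
  have hab : a * b = 1 := by
    have : b = a⁻¹ := congrArg Subtype.val (e2.trans e3.symm)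
    rw [this, mul_inv_cancel]
  simp only [indic, h1, h2, hab, if_false, if_true]
  decide

/-- The commutator in the order used for squares of products. -/
def kk (a b : P) : P := b⁻¹ * a⁻¹ * b * a

theorem kk_mem (hcom : commutator P = Subgroup.center P) (a b : P) :
    kk a b ∈ Subgroup.center P := by
  rw [← hcom]
  have h := Subgroup.commutator_mem_commutator (Subgroup.mem_top b⁻¹) (Subgroup.mem_top a⁻¹)
  simpa [kk, commutatorElement_def, commutator_def] using h

theorem sq_mul_eq (hcom : commutator P = Subgroup.center P) (a b : P) :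
    a * b * (a * b) = a * a * (b * b) * kk a b := by
  have h := Subgroup.mem_center_iff.mp (kk_mem hcom a b) b
  calc a * b * (a * b) = a * (a * (b * kk a b)) * b := by simp only [kk]; group
    _ = a * (a * (b * (kk a b * b))) := by group
    _ = a * (a * (b * (b * kk a b))) := by rw [h]
    _ = _ := by group

theorem kk_mul (hcom : commutator P = Subgroup.center P) (a b c : P) :
    kk (a * b) c = kk a c * kk b c := by
  have h := Subgroup.mem_center_iff.mp (kk_mem hcom a c) (c⁻¹ * b⁻¹ * c)
  calc kk (a * b) c = c⁻¹ * b⁻¹ * c * kk a c * b := by simp only [kk]; group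
    _ = kk a c * (c⁻¹ * b⁻¹ * c) * b := by rw [h]
    _ = kk a c * kk b c := by simp only [kk]; group

end Square

/-- Let G be a finite group of Monster type at the involution z with Q the extraspecial normal subgroup of order 2^25 of C = C_G(z) (so C/Q is identified with the first Conway group with Q modulo its centre the Leech lattice modulo 2, and z is not weakly closed in Q). Then Q is of plus type: it contains an elementary abelian subgroup of order 2^13. -/
theorem result {G : Type*} [Group G] [Finite G] (z : G) (Q : Subgroup (Subgroup.centralizer ({z} : Set G))) [Q.Normal] (hM : Cfsg.IsOfMonsterType z Q) : ∃ E : Subgroup Q, Cfsg.IsElementaryAbelian 2 E ∧ Nat.card E = 2 ^ 13 := by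
  obtain ⟨⟨-, -, ⟨⟨hp2, -, hcom⟩, hc2⟩, hcard, -⟩, e, ψ, hadd, hsurj, hker, hact⟩ := hM
  have hψ0 : ψ 0 = 1 := (hker 0).mpr ⟨0, by simp⟩
  have hsq : ∀ q : Q, q * q ∈ Subgroup.center Q := fun q => by
    obtain ⟨v, hv⟩ := hsurj (QuotientGroup.mk q)
    rw [← QuotientGroup.eq_one_iff, QuotientGroup.mk_mul, ← hv, ← hadd, hker]
    exact ⟨v, rfl⟩
  have hc1 : ∀ c ∈ Subgroup.center Q, c * c = 1 := by
    intro c hc
    have := pow_card_eq_one' (x := (⟨c, hc⟩ : Subgroup.center Q))
    rw [hc2, pow_two] at this
    exact congrArg Subtype.val this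
  have hlift : ∀ v, ∃ q : Q, ψ v = QuotientGroup.mk q := fun v => by
    obtain ⟨q, hq⟩ := QuotientGroup.mk_surjective (ψ v)
    exact ⟨q, hq.symm⟩
  choose lift hlift using hlift
  have hindep : ∀ (v : Cfsg.leechLattice) (q : Q), ψ v = QuotientGroup.mk q →
      q * q = lift v * lift v := by
    intro v q hq
    obtain ⟨c, hc, rfl⟩ : ∃ c ∈ Subgroup.center Q, q = lift v * c :=
      ⟨(lift v)⁻¹ * q, QuotientGroup.eq.mp ((hlift v).symm.trans hq), by simp⟩
    calc lift v * c * (lift v * c) = lift v * (c * lift v) * c := by group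
      _ = lift v * (lift v * c) * c := by rw [← Subgroup.mem_center_iff.mp hc]
      _ = lift v * lift v * (c * c) := by group
      _ = _ := by rw [hc1 c hc, mul_one]
  let f : Cfsg.leechLattice → ZMod 2 := fun v => indic (lift v * lift v)
  have hmul : ∀ (v w : Cfsg.leechLattice) (a b : Q), ψ v = QuotientGroup.mk a →
      ψ w = QuotientGroup.mk b → f (v + w) = f v + f w + indic (kk a b) := by
    intro v w a b ha hb
    have h : ψ (v + w) = QuotientGroup.mk (a * b) := by rw [hadd, ha, hb, QuotientGroup.mk_mul]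
    simp only [f]
    rw [← hindep _ _ h, ← hindep _ _ ha, ← hindep _ _ hb, sq_mul_eq hcom,
      indic_mul hc2 (Subgroup.mul_mem _ (hsq a) (hsq b)) (kk_mem hcom a b),
      indic_mul hc2 (hsq a) (hsq b)]
  have hquad : ∀ u v w, f (u + v + w) + f u + f v + f w = f (u + v) + f (u + w) + f (v + w) := by
    intro u v w
    have huv : ψ (u + v) = QuotientGroup.mk (lift u * lift v) := by
      rw [hadd, hlift u, hlift v, QuotientGroup.mk_mul]
    rw [hmul _ _ _ _ huv (hlift w), kk_mul hcom, indic_mul hc2 (kk_mem hcom _ _) (kk_mem hcom _ _),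
      hmul u w _ _ (hlift u) (hlift w), hmul v w _ _ (hlift v) (hlift w)]
    generalize f (u + v) = p; generalize f u = a; generalize f v = b; generalize f w = c
    generalize indic (kk (lift u) (lift w)) = i; generalize indic (kk (lift v) (lift w)) = j
    revert p a b c i j; decide
  have hcoset : ∀ v w, f (v + (w + w)) = f v := by
    intro v w
    have h : ψ (v + (w + w)) = QuotientGroup.mk (lift v) := by
      rw [hadd, (hker (w + w)).mpr ⟨w, rfl⟩, mul_one, hlift]
    simp only [f]
    rw [← hindep _ _ h]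
  have hinv : ∀ (g : ↥Cfsg.Co0) (v : Cfsg.leechLattice), f (g • v) = f v := by
    intro g v
    obtain ⟨h, hh⟩ := QuotientGroup.mk_surjective (e.symm (QuotientGroup.mk g : Cfsg.Spor.Co1))
    have hg := hact h g (by rw [hh, MulEquiv.apply_symm_apply]) v (lift v) (hlift v)
    simp only [f]
    rw [← hindep _ _ hg]
    simp only [indic]
    congr 1
    simp only [Subtype.ext_iff, Subgroup.coe_mul, Subgroup.coe_one, eq_iff_iff]
    constructor
    · intro h1
      have h2 : ∀ a b : Subgroup.centralizer ({z} : Set G),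
          ((a * b * a⁻¹ * (a * b * a⁻¹) : Subgroup.centralizer ({z} : Set G)) : G) = 1 →
          ((b * b : Subgroup.centralizer ({z} : Set G)) : G) = 1 := by
        intro a b h1
        simp only [Subgroup.coe_mul, InvMemClass.coe_inv] at h1 ⊢
        calc (b : G) * b = (a : G)⁻¹ * ((a : G) * b * (a : G)⁻¹ * ((a : G) * b * (a : G)⁻¹)) * a := by group
          _ = 1 := by rw [h1]; group
      exact h2 h (lift v) h1
    · intro h1
      simp only [Subgroup.coe_mul, InvMemClass.coe_inv] at h1 ⊢
      calc _ = (h : G) * ((((lift v : Q) : Subgroup.centralizer ({z} : Set G)) : G) *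
            (((lift v : Q) : Subgroup.centralizer ({z} : Set G)) : G)) * (h : G)⁻¹ := by group
        _ = 1 := by rw [h1]; group
  have hne : ∃ v, f v ≠ 0 := by
    by_contra hall
    push Not at hall
    have h1 : ∀ q : Q, q * q = 1 := fun q => by
      obtain ⟨v, hv⟩ := hsurj (QuotientGroup.mk q)
      have := hall v
      simp only [f, indic] at this
      rw [← hindep v q hv] at this
      by_contra hq
      rw [if_neg hq] at this
      exact one_ne_zero this
    have htop : Subgroup.center Q = ⊤ := by
      rw [eq_top_iff]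
      intro a _
      rw [Subgroup.mem_center_iff]
      intro b
      have hab := h1 (b * a)
      have ha := h1 a
      have hb := h1 b
      calc b * a = (b * a)⁻¹ := eq_inv_of_mul_eq_one_left hab
        _ = a⁻¹ * b⁻¹ := mul_inv_rev b a
        _ = a * b := by rw [← eq_inv_of_mul_eq_one_left ha, ← eq_inv_of_mul_eq_one_left hb]
    rw [htop, Subgroup.card_top, hcard] at hc2
    norm_num at hc2
  have hform := Cfsg.Agent.S5552.result f hcoset hquad hinv hne
  obtain ⟨A, hAle, hA2, hAindex, hA32⟩ := Cfsg.Agent.S5553.result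
  let φ : Multiplicative Cfsg.leechLattice →* Q ⧸ Subgroup.center Q :=
    MonoidHom.mk' (fun v => ψ v.toAdd) (fun v w => hadd v.toAdd w.toAdd)
  let A' : Subgroup (Multiplicative Cfsg.leechLattice) :=
    AddSubgroup.toSubgroup (A.addSubgroupOf Cfsg.leechLattice)
  have hφ : Function.Surjective φ := fun q => by
    obtain ⟨v, hv⟩ := hsurj q
    exact ⟨Multiplicative.ofAdd v, hv⟩
  have hkerle : φ.ker ≤ A' := by
    intro v hv
    obtain ⟨w, hw⟩ := (hker _).mp (MonoidHom.mem_ker.mp hv)
    show ((v.toAdd : Cfsg.leechLattice) : Cfsg.GolayPt → ℤ) ∈ A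
    rw [hw, AddSubgroup.coe_add, ← two_zsmul]
    exact hA2 _ w.2
  refine ⟨(A'.map φ).comap (QuotientGroup.mk' (Subgroup.center Q)), ?_, ?_⟩
  · have hex : ∀ q ∈ (A'.map φ).comap (QuotientGroup.mk' (Subgroup.center Q)), q * q = 1 := by
      intro q hq
      obtain ⟨v, hv, hvq⟩ := Subgroup.mem_map.mp (Subgroup.mem_comap.mp hq)
      have h0 : f v.toAdd = 0 := by
        rw [hform, ZMod.intCast_zmod_eq_zero_iff_dvd]
        obtain ⟨k, hk⟩ := hA32 _ (show ((v.toAdd : Cfsg.leechLattice) : Cfsg.GolayPt → ℤ) ∈ A from hv)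
        push_cast
        omega
      simp only [f, indic] at h0
      rw [← hindep _ q hvq] at h0
      by_contra hne1
      rw [if_neg hne1] at h0
      exact one_ne_zero h0
    refine ⟨⟨⟨fun a b => Subtype.ext ?_⟩⟩, fun a ha => by rw [pow_two]; exact hex a ha⟩
    have ha := hex a.1 a.2
    have hb := hex b.1 b.2
    have hab := hex _ (mul_mem a.2 b.2)
    show a.1 * b.1 = b.1 * a.1
    calc a.1 * b.1 = (a.1 * b.1)⁻¹ := eq_inv_of_mul_eq_one_left hab
      _ = b.1⁻¹ * a.1⁻¹ := mul_inv_rev _ _
      _ = b.1 * a.1 := by rw [← eq_inv_of_mul_eq_one_left ha, ← eq_inv_of_mul_eq_one_left hb]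
  · have hidx : ((A'.map φ).comap (QuotientGroup.mk' (Subgroup.center Q))).index = 2 ^ 12 := by
      rw [Subgroup.index_comap_of_surjective _ (QuotientGroup.mk'_surjective _),
        Subgroup.index_map_eq _ hφ hkerle, AddSubgroup.index_toSubgroup, hAindex]
    have h := Subgroup.card_mul_index ((A'.map φ).comap (QuotientGroup.mk' (Subgroup.center Q)))
    rw [hidx, hcard] at h
    have h2 : (2 : ℕ) ^ (2 * 12 + 1) = 2 ^ 13 * 2 ^ 12 := by norm_num
    rw [h2] at h
    exact Nat.eq_of_mul_eq_mul_right (by positivity) h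

end Cfsg.Agent.S5408
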