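import Cfsg.Statements.S5410
import Cfsg.Agent.Lib.LeechMod2.MonsterCross

set_option autoImplicit false
open Cfsg

namespace Cfsg.Agent.S5410

/-- Let G be a finite group of Monster type at the involution z with Q the extraspecial normal subgroup of order 2^25 of C = C_G(z) (so C/Q is identified with the first Conway group with Q modulo its centre the Leech lattice modulo 2, and z is not weakly closed in Q). Let g in G with s = g z g⁻¹ a member of Q other than z, let X be the image in C/Q of the centralizer of s in C, and let E be the image in C/Q of the intersection of g Q g⁻¹ with C. Then E is a normal subgroup of X, elementary abelian of order 2^11, and it has a complement in X isomorphic to the Mathieu group of degree 24 (the automorphism group of the length-24 binary Golay code). -/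
theorem result {G : Type*} [Group G] [Finite G] (z : G) (Q : Subgroup (Subgroup.centralizer ({z} : Set G))) [Q.Normal] (hM : Cfsg.IsOfMonsterType z Q) (s : G) (hsQ : ∃ hsc : s ∈ Subgroup.centralizer ({z} : Set G), (⟨s, hsc⟩ : Subgroup.centralizer ({z} : Set G)) ∈ Q) (hs : IsConj z s) (hs1 : s ≠ z) (g : G) (hg : g * z * g⁻¹ = s) (X E : Subgroup ((Subgroup.centralizer ({z} : Set G)) ⧸ Q)) (hX : X = ((Subgroup.centralizer ({z} : Set G) ⊓ Subgroup.centralizer ({s} : Set G)).subgroupOf (Subgroup.centralizer ({z} : Set G))).map (QuotientGroup.mk' Q)) (hE : E = (((Q.map (Subgroup.centralizer ({z} : Set G)).subtype).map (MulAut.conj g).toMonoidHom ⊓ Subgroup.centralizer ({z} : Set G)).subgroupOf (Subgroup.centralizer ({z} : Set G))).map (QuotientGroup.mk' Q)) : E ≤ X ∧ (∀ x ∈ X, ∀ y ∈ E, x * y * x⁻¹ ∈ E) ∧ Cfsg.IsElementaryAbelian 2 E ∧ Nat.card E = 2 ^ 11 ∧ ∃ K : Subgroup ((Subgroup.centralizer ({z} : Set G)) ⧸ Q), K ≤ X ∧ E ⊓ K = ⊥ ∧ E ⊔ K = X ∧ Nonempty (K ≃* Cfsg.M24)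 := by
  obtain ⟨hS, e, ψ, hψ⟩ := hM
  obtain ⟨hsc, hsm⟩ := hsQ
  obtain ⟨v, hv, hvs⟩ := (Lib.LeechMod2.MonsterCore.conj_iff hS hψ ⟨⟨s, hsc⟩, hsm⟩).mp ⟨hs, hs1⟩
  obtain ⟨e', ψ', hψ', he'⟩ := Lib.LeechMod2.MonsterCross.exists_standard hψ hv
  have hq := he'.trans hvs
  obtain ⟨h1, h2⟩ := Lib.LeechMod2.MonsterCross.main hS hψ' hq (a := g) hg
  have h3 := Lib.LeechMod2.MonsterCross.image_centralizer hS hψ' hq
  have hE' : E = Lib.LeechMod2.Frame.diagBar.comap e'.toMonoidHom := hE.trans h2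
  have hX' : X = (Lib.Leech.crossGroup.map Lib.LeechMod2.Frame.bar).comap e'.toMonoidHom :=
    hX.trans h3
  refine ⟨?_, ?_, ⟨⟨⟨fun x y => Subtype.ext (e'.injective ?_)⟩⟩, ?_⟩, ?_,
    Lib.LeechMod2.Frame.permBar.range.comap e'.toMonoidHom, ?_, ?_, ?_, ?_⟩
  · rw [hE', hX']
    exact Subgroup.comap_mono (Subgroup.map_mono Lib.LeechMod2.Frame.diag_le_cross)
  · intro x hx y hy
    rw [hE', Subgroup.mem_comap] at hy ⊢
    rw [hX', Subgroup.mem_comap] at hx
    obtain ⟨a, ha, hax⟩ := hx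
    obtain ⟨d, hd, hdy⟩ := hy
    refine ⟨a * d * a⁻¹, Lib.LeechMod2.Frame.cross_conj_diag ha hd, ?_⟩
    rw [map_mul, map_mul, map_mul, map_mul, map_inv, map_inv, hax, hdy]
  · have hx : e' (x : _ ⧸ Q) ∈ Lib.LeechMod2.Frame.diagBar := by
      exact Subgroup.mem_comap.mp (hE'.le x.2)
    have hy : e' (y : _ ⧸ Q) ∈ Lib.LeechMod2.Frame.diagBar := by
      exact Subgroup.mem_comap.mp (hE'.le y.2)
    rw [Subgroup.coe_mul, Subgroup.coe_mul, map_mul, map_mul]
    exact Lib.LeechMod2.Frame.diagBar_comm hx hy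
  · intro x hx
    rw [hE', Subgroup.mem_comap] at hx
    apply e'.injective
    rw [map_pow, map_one, pow_two]
    exact Lib.LeechMod2.Frame.diagBar_elem hx
  · rw [hE', show Lib.LeechMod2.Frame.diagBar.comap e'.toMonoidHom = _ from
      Subgroup.comap_equiv_eq_map_symm e' _, Subgroup.card_map_of_injective e'.symm.injective,
      Lib.LeechMod2.Frame.card_diagBar]
    norm_num
  · rw [hX', ← Lib.LeechMod2.Frame.sup_eq]
    exact Subgroup.comap_mono le_sup_right
  · rw [hE', ← Subgroup.comap_inf, Lib.LeechMod2.Frame.inf_eq]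
    exact (MonoidHom.comap_bot e'.toMonoidHom).trans
      ((MonoidHom.ker_eq_bot_iff _).mpr e'.injective)
  · rw [hE', hX', ← Lib.LeechMod2.Frame.sup_eq,
      Subgroup.comap_sup_eq _ _ _ e'.surjective]
  · exact ⟨(MulEquiv.subgroupCongr (Subgroup.comap_equiv_eq_map_symm e' _)).trans
      ((e'.symm.subgroupMap _).symm.trans (MonoidHom.ofInjective Lib.LeechMod2.Frame.permBar_injective).symm)⟩

end Cfsg.Agent.S5410
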