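import Cfsg.Statements.S5420
import Cfsg.Agent.Lib.LargeExtra.Basic

set_option autoImplicit false
set_option linter.style.haveILetI false
open Cfsg

namespace Cfsg.Agent.S5420

/-- Let Q be an extraspecial 2-subgroup of the finite group G whose centralizer in G is its centre Z and which is normal in the centralizer of Z. If Z lies in the largest normal 2-subgroup of G, then Q is a large extraspecial 2-subgroup of G: it normalizes no non-trivial subgroup of G of odd order. -/
theorem result {G : Type*} [Group G] [Finite G] (Q : Subgroup G) (hL1 : Cfsg.IsExtraspecial 2 ↥Q) (hL2 : Subgroup.centralizer (Q : Set G) = ((Subgroup.center ↥Q).map Q.subtype)) (hL3 : Subgroup.centralizer (((Subgroup.center ↥Q).map Q.subtype) : Set G) ≤ Subgroup.normalizer (Q : Set G)) (hZ : ((Subgroup.center ↥Q).map Q.subtype) ≤ Cfsg.pCore 2 G) : Cfsg.IsLargeExtraspecial Q := by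
  open Cfsg.Agent.Lib.LargeExtra.Basic in
  exact ⟨hL1, hL2, hL3, fun K hK hQK => eq_bot_of_centralizes hL1 hL2 hL3 K hK hQK (by
    intro k hk z hz
    have h1 : k * z * k⁻¹ * z⁻¹ ∈ K := by
      have : z * k⁻¹ * z⁻¹ ∈ K :=
        (Subgroup.mem_normalizer_iff.mp (hQK (centerMap_le Q hz)) _).mp (K.inv_mem hk)
      simpa [mul_assoc] using K.mul_mem hk this
    have h2 : k * z * k⁻¹ * z⁻¹ ∈ Cfsg.pCore 2 G :=
      (Cfsg.pCore 2 G).mul_mem ((pCore_normal' G).conj_mem z (hZ hz) k)
        ((Cfsg.pCore 2 G).inv_mem (hZ hz))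
    have h3 : k * z * k⁻¹ * z⁻¹ ∈ K ⊓ Cfsg.pCore 2 G := ⟨h1, h2⟩
    rw [odd_inf_two_eq_bot hK (pCore_isPGroup G), Subgroup.mem_bot] at h3
    exact mul_inv_eq_iff_eq_mul.mp (mul_inv_eq_one.mp h3))⟩

end Cfsg.Agent.S5420
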