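import Cfsg.Statements.S5422
import Cfsg.Agent.Lib.LargeExtra.FourGroup
import Cfsg.Agent.S5421

set_option autoImplicit false
open Cfsg

namespace Cfsg.Agent.S5422

/-- Let Q be an extraspecial 2-subgroup of the finite group G whose centralizer in G is its centre Z and which is normal in the centralizer of Z; suppose Q has width at least 2 (order 2^(2w+1) with w ≥ 2) and g is an element of G not normalizing Z with g Z g⁻¹ inside Q. Then Z lies inside g Q g⁻¹; writing V for the subgroup generated by Z and g Z g⁻¹ (a four-group), the normalizer of V induces on V its full automorphism group, that is, the centralizer of V has index 6 in the normalizer of V; and Q is a large extraspecial 2-subgroup of G. -/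
theorem result {G : Type*} [Group G] [Finite G] (Q : Subgroup G) (hL1 : Cfsg.IsExtraspecial 2 ↥Q) (hL2 : Subgroup.centralizer (Q : Set G) = ((Subgroup.center ↥Q).map Q.subtype)) (hL3 : Subgroup.centralizer (((Subgroup.center ↥Q).map Q.subtype) : Set G) ≤ Subgroup.normalizer (Q : Set G)) (w : ℕ) (hw : 2 ≤ w) (hcard : Nat.card ↥Q = 2 ^ (2 * w + 1)) (g : G) (hg : g ∉ Subgroup.normalizer (((Subgroup.center ↥Q).map Q.subtype) : Set G)) (hZg : (((Subgroup.center ↥Q).map Q.subtype)).map (MulAut.conj g).toMonoidHom ≤ Q) : ((Subgroup.center ↥Q).map Q.subtype) ≤ (Q).map (MulAut.conj g).toMonoidHom ∧ (Subgroup.centralizer ((((Subgroup.center ↥Q).map Q.subtype) ⊔ (((Subgroup.center ↥Q).map Q.subtype)).map (MulAut.conj g).toMonoidHom : Subgroup G) : Set G)).relIndex (Subgroup.normalizer ((((Subgroup.center ↥Q).map Q.subtype) ⊔ (((Subgroup.center ↥Q).map Q.subtype)).map (MulAut.conj g).toMonoidHom : Subgroup G) : Set G)) = 6 ∧ Cfsg.IsLargeExtraspecial Q := by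
  open Cfsg.Agent.Lib.LargeExtra.TwoConjugate in
  open Cfsg.Agent.Lib.LargeExtra.FourGroup in
  open Cfsg.Agent.Lib.LargeExtraspecial.Basic in
  obtain ⟨z, hz2, hzZ⟩ := Cfsg.Agent.Lib.LargeExtra.Basic.exists_z hL1
  obtain ⟨hes, -⟩ := es_of hL1 hzZ
  have hmapZ : ((Subgroup.center ↥Q).map Q.subtype).map (MulAut.conj g).toMonoidHom = Subgroup.zpowers (g * z * g⁻¹) := by
    rw [hzZ, MonoidHom.map_zpowers]
    simp
  have hne : g * z * g⁻¹ ≠ z := by
    intro h
    refine hg ?_
    rw [Subgroup.mem_normalizer_iff_map_conj_eq]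
    refine hmapZ.trans ?_
    rw [h, hzZ]
  have hmem : g * z * g⁻¹ ∈ Q := hZg (hmapZ ▸ Subgroup.mem_zpowers _)
  have hbig : 16 ≤ Nat.card ↥Q := by
    rw [hcard]
    calc 16 ≤ 2 ^ 5 := by norm_num
      _ ≤ _ := Nat.pow_le_pow_right (by norm_num) (by omega)
  have s : Setting Q z g := ⟨hes, centralizer_eq_of hz2 hzZ hL2, norm_of hzZ hL3, hmem, hne, hbig⟩
  refine ⟨?_, ?_, ?_⟩
  · rw [hzZ, Subgroup.zpowers_le]; exact z_mem s
  · rw [hmapZ, hzZ]; exact relIndex_six s
  · refine Cfsg.Agent.S5421.result Q hL1 hL2 hL3 (g * z * g⁻¹) hmem ?_ ?_ ?_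
    · intro h
      rw [hzZ] at h
      rcases Cfsg.Agent.Lib.LargeExtra.Basic.eq_one_or_eq hz2 h with h1 | h1
      · exact y_ne_one s h1
      · exact hne h1
    · exact orderOf_eq_prime (by rw [sq, (es' s).sq]) (y_ne_one s)
    · set C := Subgroup.centralizer ({g * z * g⁻¹} : Set G)
      have hPC : Subgroup.map (MulEquiv.toMonoidHom (MulAut.conj g)) Q ≤ C := fun q hq =>
        Subgroup.mem_centralizer_singleton_iff.mpr ((es' s).comm q hq).eq
      rw [hzZ, Subgroup.zpowers_le]
      refine Subgroup.map_mono (f := C.subtype) (le_sSup (show (Subgroup.map (MulEquiv.toMonoidHom (MulAut.conj g)) Q).subgroupOf C ∈ {N : Subgroup ↥C | N.Normal ∧ IsPGroup 2 N} from ⟨?_, ?_⟩)) ?_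
      · exact ⟨fun x hx c => norm' s c (Subgroup.mem_centralizer_singleton_iff.mp c.2) x hx⟩
      · exact ((Cfsg.Agent.Lib.LargeExtra.Basic.isPGroup hL1).map _).comap_subtype
      · exact ⟨⟨z, hPC (z_mem s)⟩, z_mem s, rfl⟩

end Cfsg.Agent.S5422
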