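import Cfsg.Statements.S5423
-- import your own Cfsg.Agent.* helpers here
import Cfsg.Agent.Lib.Holomorph83.Core

set_option autoImplicit false
open Cfsg

namespace Cfsg.Agent.S5423

/-- Let G be a finite group that is the split extension of an elementary abelian normal subgroup U of order 2^(n+1), n ≥ 1, by its full automorphism group: U has a complement M in G whose conjugation action on U is faithful and realizes every automorphism of U. Let Z be a subgroup of U of order 2 and Q the largest normal 2-subgroup of the centralizer C of Z. Then Q is extraspecial of order 2^(2n+1) with an elementary abelian subgroup of order 2^(n+1) (plus type), Q is a large extraspecial 2-subgroup of G, and C is the split extension of Q by the general linear group of degree n over the field with two elements. -/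
theorem result {G : Type*} [Group G] [Finite G] (n : ℕ) (hn : 1 ≤ n) (U M : Subgroup G) [U.Normal] (hU : Cfsg.IsElementaryAbelian 2 U) (hUcard : Nat.card ↥U = 2 ^ (n + 1)) (hUM : U ⊓ M = ⊥) (hUM' : U ⊔ M = ⊤) (hfaith : ∀ m ∈ M, (∀ u ∈ U, m * u * m⁻¹ = u) → m = 1) (hfull : ∀ φ : ↥U ≃* ↥U, ∃ m ∈ M, ∀ u : ↥U, ((φ u : ↥U) : G) = m * u * m⁻¹) (Z : Subgroup G) (hZU : Z ≤ U) (hZ : Nat.card ↥Z = 2) (Q : Subgroup G) (hQ : Q = (Cfsg.pCore 2 ↥(Subgroup.centralizer (Z : Set G))).map (Subgroup.centralizer (Z : Set G)).subtype) : Cfsg.IsExtraspecial 2 ↥Q ∧ Nat.card ↥Q = 2 ^ (2 * n + 1) ∧ (∃ E : Subgroup G, E ≤ Q ∧ Cfsg.IsElementaryAbelian 2 E ∧ Nat.card ↥E = 2 ^ (n + 1)) ∧ Cfsg.IsLargeExtraspecial Q ∧ ∃ K : Subgroup G, K ≤ Subgroup.centralizer (Z : Set G) ∧ Q ⊓ K = ⊥ ∧ Q ⊔ K = Subgroup.centralizer (Z : Set G) ∧ Nonempty (↥K ≃* Matrix.GeneralLinearGroup (Fin n) (ZMod 2)) := by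
  haveI : Fact (Nat.Prime 2) := ⟨Nat.prime_two⟩
  obtain ⟨⟨z, hzZ⟩, hz1⟩ : ∃ x : Z, x ≠ 1 := by
    haveI : Nontrivial Z := Finite.one_lt_card_iff_nontrivial.1 (by omega)
    exact exists_ne 1
  have hz : z ≠ 1 := fun e => hz1 (Subtype.ext e)
  have hZeq : Z = Subgroup.zpowers z := by
    refine (Subgroup.eq_of_le_of_card_ge (Subgroup.zpowers_le.2 hzZ) ?_).symm
    rw [hZ, Nat.card_zpowers]
    by_contra hlt
    exact hz (orderOf_eq_one_iff.1 (by have := orderOf_pos z; omega))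
  obtain ⟨ρ, ι, h, hιz, hιU⟩ :=
    Cfsg.Agent.Lib.Holomorph83.exists_hol U M hU hUcard hUM hUM' hfaith hfull (hZU hzZ) hz
  have hcz : Subgroup.centralizer (Z : Set G) =
      Subgroup.centralizer ({ι (Cfsg.Agent.Lib.Holomorph83.e0 n)} : Set G) := by
    rw [hιz, hZeq, Subgroup.zpowers_eq_closure, Subgroup.centralizer_closure]
  rw [hcz] at hQ ⊢
  obtain ⟨hex, hcard, hιQ, hcen, hcentQ, hnorm, hK⟩ := h.main hn Q hQ
  have hUQ : U ≤ Q := fun u hu => hιQ ((hιU u).1 hu)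
  refine ⟨hex, hcard, ⟨U, hUQ, hU, hUcard⟩, ⟨hex, hcentQ.trans hcen.symm, ?_, fun K hKodd hQK => ?_⟩, hK⟩
  · rw [hcen, Subgroup.zpowers_eq_closure, Subgroup.centralizer_closure]
    exact hnorm
  · have hKU : K ⊓ U = ⊥ := Cfsg.Agent.Lib.LargeExtra.Basic.odd_inf_two_eq_bot hKodd (IsPGroup.of_card hUcard)
    refine (Subgroup.eq_bot_iff_forall _).2 fun k hk => ?_
    have hρ : ρ k = 1 := LinearEquiv.ext fun a => h.ι_inj (by
      rw [← h.conj]
      have hu : ι a ∈ U := (hιU _).2 ⟨a, rfl⟩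
      have h1 : k * ι a * k⁻¹ * (ι a)⁻¹ ∈ K ⊓ U := by
        refine ⟨?_, U.mul_mem (Subgroup.Normal.conj_mem inferInstance _ hu k) (U.inv_mem hu)⟩
        rw [show k * ι a * k⁻¹ * (ι a)⁻¹ = k * (ι a * k⁻¹ * (ι a)⁻¹) by group]
        exact K.mul_mem hk ((Subgroup.mem_normalizer_iff.1 (hQK (hUQ hu)) k⁻¹).1 (K.inv_mem hk))
      rw [hKU, Subgroup.mem_bot, mul_inv_eq_one] at h1
      exact h1)
    have h2 : k ∈ K ⊓ U := ⟨hk, (hιU k).2 ((h.ker k).1 hρ)⟩
    rwa [hKU, Subgroup.mem_bot] at h2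

end Cfsg.Agent.S5423
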