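import Cfsg.Statements.S5427
import Cfsg.Agent.Lib.LargeExtra.Simple

set_option autoImplicit false
open Cfsg

namespace Cfsg.Agent.S5427

/-- Let z be an involution of the finite group G whose centralizer C has generalized Fitting subgroup Q, an extraspecial 2-group of width at least 2 (order 2^(2w+1), w ≥ 2). Let K be a subgroup of G such that the subgroup U generated by the K-conjugates of z is abelian and C is generated by the C-conjugates of U. Suppose that either some K-conjugate of z other than z lies in Q, or some element u of U ∩ Q outside the subgroup generated by z has z in the largest normal 2-subgroup of its centralizer. Then G is simple and Q is a large extraspecial 2-subgroup of G. -/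
theorem result {G : Type*} [Group G] [Finite G] (z : G) (hz : orderOf z = 2) (Q : Subgroup G) (hQC : Q ≤ Subgroup.centralizer ({z} : Set G)) (hF : (Cfsg.generalizedFittingSubgroup ↥(Subgroup.centralizer ({z} : Set G))).map (Subgroup.centralizer ({z} : Set G)).subtype = Q) (hQ : Cfsg.IsExtraspecial 2 ↥Q) (w : ℕ) (hw : 2 ≤ w) (hcard : Nat.card ↥Q = 2 ^ (2 * w + 1)) (K U : Subgroup G) (hU : U = Subgroup.closure {x : G | ∃ k ∈ K, x = k * z * k⁻¹}) (hUab : IsMulCommutative ↥U) (hgen : Subgroup.closure {x : G | ∃ c ∈ Subgroup.centralizer ({z} : Set G), ∃ u ∈ U, x = c * u * c⁻¹} = Subgroup.centralizer ({z} : Set G)) (h3 : (∃ k ∈ K, k * z * k⁻¹ ∈ Q ∧ k * z * k⁻¹ ≠ z) ∨ ∃ u ∈ U ⊓ Q, u ∉ Subgroup.zpowers z ∧ (∃ hz' : z ∈ Subgroup.centralizer ({u} : Set G), (⟨z, hz'⟩ : ↥(Subgroup.centralizer ({u} : Set G))) ∈ Cfsg.pCore 2 ↥(Subgroup.centralizer ({u} : Set G)))) : IsSimpleGroup G ∧ Cfsg.IsLargeExtraspecial Q := by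
  haveI : Fact (Nat.Prime 2) := ⟨Nat.prime_two⟩
  obtain ⟨hzZ, hL2, hL3, hzQ⟩ := Cfsg.Agent.Lib.LargeExtra.Simple.base_of_fitting z hz Q hF hQ
  obtain ⟨hes, -⟩ := Cfsg.Agent.Lib.LargeExtra.TwoConjugate.es_of hQ hzZ
  have hbig : 16 ≤ Nat.card ↥Q := by
    rw [hcard]
    calc 16 = 2 ^ 4 := by norm_num
      _ ≤ 2 ^ (2 * w + 1) := Nat.pow_le_pow_right (by norm_num) (by omega)
  have hzU : z ∈ U := hU ▸ Subgroup.subset_closure ⟨1, K.one_mem, by simp⟩
  have hUsq : ∀ x ∈ U, x * x = 1 := by
    intro x hx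
    rw [hU] at hx
    induction hx using Subgroup.closure_induction with
    | mem y hy =>
      obtain ⟨k, -, rfl⟩ := hy
      calc k * z * k⁻¹ * (k * z * k⁻¹) = k * (z * z) * k⁻¹ := by group
        _ = 1 := by rw [hes.sq]; group
    | one => simp
    | mul a b ha hb h1 h2 =>
      have hab : Commute a b := by
        have := hUab.is_comm.comm ⟨a, hU ▸ ha⟩ ⟨b, hU ▸ hb⟩
        exact congrArg Subtype.val this
      calc a * b * (a * b) = a * (b * a) * b := by group
        _ = (a * a) * (b * b) := by rw [← hab.eq]; group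
        _ = 1 := by rw [h1, h2, one_mul]
    | inv a _ h => rw [← mul_inv_rev, h, inv_one]
  obtain ⟨b, hbQ, hbU, hbZ, hzO⟩ : ∃ b ∈ Q, b ∈ U ∧ b ∉ Subgroup.zpowers z ∧
      z ∈ (Cfsg.pCore 2 ↥(Subgroup.centralizer ({b} : Set G))).map
        (Subgroup.centralizer ({b} : Set G)).subtype := by
    rcases h3 with ⟨k, hk, hyQ, hyne⟩ | ⟨u, ⟨huU, huQ⟩, huZ, hz', hzO⟩
    · have s : Cfsg.Agent.Lib.LargeExtra.TwoConjugate.Setting Q z k :=
        ⟨hes, Cfsg.Agent.Lib.LargeExtra.TwoConjugate.centralizer_eq_of hz hzZ hL2,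
          Cfsg.Agent.Lib.LargeExtra.TwoConjugate.norm_of hzZ hL3, hyQ, hyne, hbig⟩
      refine ⟨k * z * k⁻¹, hyQ, hU ▸ Subgroup.subset_closure ⟨k, hk, rfl⟩, fun h => ?_, ?_⟩
      · rcases Cfsg.Agent.Lib.LargeExtra.Basic.eq_one_or_eq hz h with h | h
        · exact Cfsg.Agent.Lib.LargeExtra.TwoConjugate.y_ne_one s h
        · exact hyne h
      · have hzP := Cfsg.Agent.Lib.LargeExtra.TwoConjugate.z_mem s
        set C := Subgroup.centralizer ({k * z * k⁻¹} : Set G) with hC
        have hPC : Q.map (MulAut.conj k).toMonoidHom ≤ C := fun q hq =>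
          Subgroup.mem_centralizer_singleton_iff.mpr
            ((Cfsg.Agent.Lib.LargeExtra.TwoConjugate.es' s).comm q hq).eq
        haveI : ((Q.map (MulAut.conj k).toMonoidHom).subgroupOf C).Normal := ⟨fun q hq c => by
          have := Cfsg.Agent.Lib.LargeExtra.TwoConjugate.norm' s c
            (Subgroup.mem_centralizer_singleton_iff.mp c.2) (q : G) hq
          simpa [Subgroup.mem_subgroupOf] using this⟩
        have hp : IsPGroup 2 ↥((Q.map (MulAut.conj k).toMonoidHom).subgroupOf C) :=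
          (hQ.1.1.map _).comap_subtype
        exact ⟨⟨z, hPC hzP⟩, Cfsg.Agent.Lib.Cores.le_pCore hp hzP, rfl⟩
    · exact ⟨u, huQ, huU, huZ, ⟨z, hz'⟩, hzO, rfl⟩
  have hb1 : b ≠ 1 := fun h => hbZ (h ▸ one_mem _)
  have hlarge : Cfsg.IsLargeExtraspecial Q :=
    Cfsg.Agent.S5421.result Q hQ hL2 hL3 b hbQ (hzZ ▸ hbZ)
      (orderOf_eq_prime (by rw [sq, hUsq b hbU]) hb1) (hzZ ▸ Subgroup.zpowers_le.mpr hzO)
  refine ⟨?_, hlarge⟩
  have s := Cfsg.Agent.Lib.LargeExtra.Structure.large_of hlarge hzZ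
  set M := Subgroup.normalClosure ({z} : Set G) with hM
  set C := Subgroup.centralizer ({z} : Set G) with hC
  have hUM : U ≤ M := by
    rw [hU, Subgroup.closure_le]
    rintro x ⟨k, -, rfl⟩
    exact (inferInstance : M.Normal).conj_mem z (Subgroup.subset_normalClosure rfl) k
  have hCM : C ≤ M := by
    rw [← hgen, Subgroup.closure_le]
    rintro x ⟨c, -, u, hu, rfl⟩
    exact (inferInstance : M.Normal).conj_mem u (hUM hu) c
  have hQM : Q ≤ M := hQC.trans hCM
  have hnonab : ∃ x ∈ Q, x * b ≠ b * x := by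
    by_contra h
    push Not at h
    rcases s.cent b (fun q hq => (h q hq).symm) with e | e
    · exact hb1 e
    · exact hbZ (e ▸ Subgroup.mem_zpowers z)
  rcases Cfsg.Agent.S5426.result Q hlarge z hzZ M hM with h | ⟨h, -⟩ | ⟨-, hs, -⟩ | ⟨-, L, u, huQ, hLs, -, hinf, hcomm, hsup, -⟩
  · -- `Q` normal would make `z` central
    exfalso
    haveI := h
    have hzc : ∀ g : G, Commute g z := by
      intro g
      have hmem : g * z * g⁻¹ ∈ Q := h.conj_mem z s.es.mem g
      rcases s.es.center _ hmem (fun p hp => by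
        have h1 : Commute (g⁻¹ * p * g) z := s.es.comm _ (h.conj_mem' p hp g)
        have := h1.map (MulAut.conj g).toMonoidHom
        simpa [mul_assoc] using this) with e | e
      · exact absurd (by simpa using e) s.es.ne
      · exact mul_inv_eq_iff_eq_mul.mp e
    have hUz : U = Subgroup.zpowers z := by
      refine le_antisymm ?_ (Subgroup.zpowers_le.mpr hzU)
      rw [hU, Subgroup.closure_le]
      rintro x ⟨k, -, rfl⟩
      rw [(hzc k).eq, mul_inv_cancel_right]
      exact Subgroup.mem_zpowers z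
    exact hbZ (hUz ▸ hbU)
  · exfalso
    obtain ⟨x, hx, hxb⟩ := hnonab
    exact hxb (congrArg Subtype.val (h.is_comm.comm ⟨x, hQM hx⟩ ⟨b, hQM hbQ⟩))
  · -- Frattini argument
    obtain ⟨P, hP⟩ := (s.two.comap_subtype (K := M)).exists_le_sylow
    haveI : Nontrivial ↥(P : Subgroup ↥M) :=
      ⟨⟨⟨⟨z, hQM s.es.mem⟩, hP s.es.mem⟩, 1, fun e =>
        s.es.ne (congrArg Subtype.val (congrArg Subtype.val e))⟩⟩
    have := P.2.center_nontrivial
    obtain ⟨⟨⟨w', hwP⟩, hwc⟩, hw'⟩ := exists_ne (1 : ↥(Subgroup.center ↥(P : Subgroup ↥M)))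
    have hcen : ∀ w' : ↥M, w' ∈ (P : Subgroup ↥M) → (∀ t ∈ (P : Subgroup ↥M), Commute t w') →
        w' = 1 ∨ (w' : G) = z := fun w' _ hall => by
      rcases s.cent w' (fun q hq =>
        (congrArg Subtype.val (hall ⟨q, hQM hq⟩ (hP hq))).symm) with e | e
      · exact Or.inl (Subtype.ext e)
      · exact Or.inr e
    have hwall : ∀ t ∈ (P : Subgroup ↥M), Commute t w' := fun t ht =>
      congrArg Subtype.val (Subgroup.mem_center_iff.mp hwc ⟨t, ht⟩)
    have hwz : (w' : G) = z :=
      (hcen w' hwP hwall).resolve_left fun e => hw' (Subtype.ext (Subtype.ext e))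
    have hnC : Subgroup.normalizer (((P : Subgroup ↥M).map M.subtype : Subgroup G) : Set G) ≤ M := by
      intro n hn
      apply hCM
      have hmem := Subgroup.mem_normalizer_iff.mp hn
      have hwP' : (w' : G) ∈ (P : Subgroup ↥M).map M.subtype := ⟨w', hwP, rfl⟩
      obtain ⟨v, hvP, hv⟩ := (hmem w').mp hwP'
      have hvz := hcen v hvP fun t ht => by
        apply Subtype.ext
        obtain ⟨t', ht', e⟩ := (hmem (n⁻¹ * (t : G) * n)).mpr
          (by rw [show n * (n⁻¹ * (t : G) * n) * n⁻¹ = (t : G) by group]; exact ⟨t, ht, rfl⟩)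
        have h1 : Commute (t' : G) (w' : G) := congrArg Subtype.val (hwall t' ht')
        have h2 := h1.map (MulAut.conj n).toMonoidHom
        change (t : G) * (v : G) = (v : G) * (t : G)
        simp only [MulEquiv.coe_toMonoidHom, MulAut.conj_apply, Subgroup.coe_subtype] at h2 e hv
        rw [e] at h2
        rw [hv]
        simpa [mul_assoc] using h2.eq
      rcases hvz with e | e
      · exfalso
        rw [e] at hv
        simp [hwz] at hv
        exact s.es.ne (by simpa [mul_assoc] using congrArg (fun x => n⁻¹ * x * n) hv.symm)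
      · rw [Subgroup.coe_subtype, e, hwz] at hv
        exact Subgroup.mem_centralizer_singleton_iff.mpr (eq_mul_inv_iff_mul_eq.mp hv).symm
    have htop : M = ⊤ := by
      rw [eq_top_iff, ← Sylow.normalizer_sup_eq_top P]
      exact sup_le hnC le_rfl
    haveI := hs
    haveI : Nontrivial G := ⟨⟨z, 1, s.es.ne⟩⟩
    exact IsSimpleGroup.isSimpleGroup_of_surjective M.subtype
      (fun g => ⟨⟨g, htop ▸ Subgroup.mem_top g⟩, rfl⟩)
  · exfalso
    haveI := hLs
    set L' := L.map (MulAut.conj u).toMonoidHom with hL'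
    have hn : L ⊔ L' ≤ Subgroup.normalizer (L : Set G) :=
      sup_le Subgroup.le_normalizer (le_trans (fun y hy => Subgroup.mem_centralizer_iff.mpr
        fun x hx => hcomm x hx y hy) (Subgroup.centralizer_le_normalizer _))
    have hu : u ∈ Subgroup.normalizer (L : Set G) := hn (hsup ▸ hQM huQ)
    rw [hL', Cfsg.Agent.Lib.CosetGraph.SylowIn.conj_map_eq_self hu, inf_idem] at hinf
    exact (Subgroup.nontrivial_iff_ne_bot L).mp inferInstance hinf

end Cfsg.Agent.S5427
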