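import Cfsg.Statements.S5428
import Cfsg.Agent.Lib.LargeExtra.Quotient
import Cfsg.Agent.Lib.Cores.Pi
import Cfsg.Agent.Lib.Fusion.Thompson

set_option autoImplicit false
open Cfsg
open scoped Pointwise

namespace Cfsg.Agent.S5428

/-- Let z be an involution of the finite group G whose centralizer C has generalized Fitting subgroup Q extraspecial (as a 2-group), let A be a subgroup of C of odd order, and let R be the centralizer of A in Q; suppose R has order at least 32, the largest normal subgroup of odd order of the centralizer of the subgroup generated by A and R lies in A, the order of that centralizer is not divisible by 4, and g is an element of G with g z g⁻¹ in R but outside the centre Z of Q. Let M be the subgroup generated by A and the centralizer of A (A is normal in it). Then: the centralizer in M of the subgroup generated by R and A, joined with A, equals the subgroup generated by A and Z; the image of R in M/A is a large extraspecial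 2-subgroup of M/A; and g z g⁻¹ is conjugate to z inside the subgroup generated by R and the centralizer of A in g Q g⁻¹. -/
theorem result {G : Type*} [Group G] [Finite G] (z : G) (hz : orderOf z = 2) (Q : Subgroup G) (hQC : Q ≤ Subgroup.centralizer ({z} : Set G)) (hF : (Cfsg.generalizedFittingSubgroup ↥(Subgroup.centralizer ({z} : Set G))).map (Subgroup.centralizer ({z} : Set G)).subtype = Q) (hQ : Cfsg.IsExtraspecial 2 ↥Q) (A : Subgroup G) (hA : A ≤ Subgroup.centralizer ({z} : Set G)) (hAodd : Odd (Nat.card ↥A)) (R : Subgroup G) (hR : R = Q ⊓ Subgroup.centralizer (A : Set G)) (hR32 : 32 ≤ Nat.card ↥R) (hO : (Cfsg.oddCore ↥(Subgroup.centralizer ((A ⊔ R : Subgroup G) : Set G))).map (Subgroup.centralizer ((A ⊔ R : Subgroup G) : Set G)).subtype ≤ A) (h4 : ¬ 4 ∣ Nat.card ↥(Subgroup.centralizer ((A ⊔ R : Subgroup G) : Set G))) (g : G) (hgR : g * z * g⁻¹ ∈ R) (hgZ : g * z * g⁻¹ ∉ ((Subgroup.center ↥Q).map Q.subtype)) (M : Subgroup G) (hM : M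 = Subgroup.centralizer (A : Set G) ⊔ A) [hn : (A.subgroupOf M).Normal] : (M ⊓ Subgroup.centralizer ((R ⊔ A : Subgroup G) : Set G)) ⊔ A = A ⊔ ((Subgroup.center ↥Q).map Q.subtype) ∧ Cfsg.IsLargeExtraspecial ((R.subgroupOf M).map (QuotientGroup.mk' (A.subgroupOf M))) ∧ ∃ x ∈ R ⊔ ((Q).map (MulAut.conj g).toMonoidHom ⊓ Subgroup.centralizer (A : Set G)), x * (g * z * g⁻¹) * x⁻¹ = z := by
  open Cfsg.Agent.Lib.LargeExtra.TwoConjugate in
  open Cfsg.Agent.Lib.LargeExtra.Quotient in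
  open Cfsg.Agent.Lib.LargeExtraspecial.Basic in
  haveI : Fact (Nat.Prime 2) := ⟨Nat.prime_two⟩
  set y := g * z * g⁻¹ with hy
  have hQ2 : IsPGroup 2 ↥Q := Cfsg.Agent.Lib.LargeExtra.Basic.isPGroup hQ
  have hRQ : R ≤ Q := hR ▸ inf_le_left
  have hyQ : y ∈ Q := hRQ hgR
  have hne : y ≠ z := by
    intro h
    refine hgZ (h ▸ ?_)
    refine Cfsg.Agent.Lib.LargeExtra.Basic.mem_centerMap.mpr ⟨h ▸ hyQ, fun q hq => ?_⟩
    exact Subgroup.mem_centralizer_singleton_iff.mp (hQC hq)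
  have hbig : 16 ≤ Nat.card ↥Q := le_trans (le_trans (by norm_num) hR32) (Subgroup.card_le_of_le hRQ)
  obtain ⟨hzZ, s⟩ := setting_of_fitting z hz Q hF hQ hyQ hne hbig
  have hAz : ∀ a ∈ A, Commute a z := fun a ha => Subgroup.mem_centralizer_singleton_iff.mp (hA ha)
  have hAQ : A ≤ Subgroup.normalizer (Q : Set G) := fun a ha =>
    Subgroup.mem_normalizer_fintype fun q hq => s.norm a (hAz a ha) q hq
  have memR : ∀ x, x ∈ R ↔ x ∈ Q ∧ ∀ a ∈ A, Commute a x := fun x => by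
    rw [hR, Subgroup.mem_inf, Subgroup.mem_centralizer_iff]; rfl
  have hzR : z ∈ R := (memR z).mpr ⟨s.es.mem, fun a ha => hAz a ha⟩
  have hAy : ∀ a ∈ A, Commute a y := fun a ha => ((memR y).mp hgR).2 a ha
  have hy1 : y * y = 1 := (es' s).sq
  have hyne1 : y ≠ 1 := y_ne_one s
  set Qy := Q.map (MulAut.conj g).toMonoidHom with hQy
  have hQy2 : IsPGroup 2 ↥Qy := hQ2.map _
  have hzQy : z ∈ Qy := z_mem s
  set T := Qy ⊓ Subgroup.centralizer (A : Set G) with hT
  have hCM : Subgroup.centralizer (A : Set G) ≤ M := hM ▸ le_sup_left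
  have hRA : R ≤ Subgroup.centralizer (A : Set G) := hR ▸ inf_le_right
  have hsplit : ∀ m ∈ M, ∃ c ∈ Subgroup.centralizer (A : Set G), ∃ a ∈ A, m = c * a := by
    intro m hm
    have hAn : Subgroup.centralizer (A : Set G) ≤ Subgroup.normalizer (A : Set G) := Subgroup.centralizer_le_normalizer _
    have h1 : m ∈ ((Subgroup.centralizer (A : Set G) : Subgroup G) : Set G) * (A : Set G) := by
      rw [← Subgroup.coe_mul_of_left_le_normalizer_right _ _ hAn, ← hM]; exact hm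
    obtain ⟨c, hc, a, ha, rfl⟩ := h1
    exact ⟨c, hc, a, ha, rfl⟩
  have hconjA : ∀ c a x : G, Commute a x → c * a * x * (c * a)⁻¹ = c * x * c⁻¹ := by
    intro c a x hax
    calc c * a * x * (c * a)⁻¹ = c * (a * x * a⁻¹) * c⁻¹ := by group
      _ = _ := by rw [mul_inv_eq_iff_eq_mul.mpr hax.eq]
  have hodd1 : ∀ u v : G, Commute u v → u ∈ A → (∃ k : ℕ, v ^ (2 ^ k) = 1) → (∃ k : ℕ, (u * v) ^ (2 ^ k) = 1) → u = 1 := by
    rintro u v huv hu ⟨k, hk⟩ ⟨l, hl⟩
    have h1 : u ^ (2 ^ (k + l)) = 1 := by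
      have h2 : (u * v) ^ (2 ^ (k + l)) = 1 := by rw [pow_add, mul_comm, pow_mul, hl, one_pow]
      rwa [huv.mul_pow, show v ^ 2 ^ (k + l) = 1 by rw [pow_add, pow_mul, hk, one_pow], mul_one] at h2
    have h3 : orderOf u ∣ 2 ^ (k + l) := orderOf_dvd_of_pow_eq_one h1
    have h4 : orderOf u ∣ Nat.card ↥A := Subgroup.orderOf_dvd_natCard A hu
    have h5 : (Nat.card ↥A).Coprime (2 ^ (k + l)) := Nat.Coprime.pow_right _ (Nat.coprime_two_right.mpr hAodd)
    exact orderOf_eq_one_iff.mp (Nat.eq_one_of_dvd_coprimes h5 h4 h3)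
  have hfix : ∀ c ∈ Subgroup.centralizer (A : Set G), ∀ r ∈ R, c * r * c⁻¹ * r⁻¹ ∈ A → c * r * c⁻¹ = r := by
    intro c hc r hr hu
    have h1 := Subgroup.mem_centralizer_iff.mp (hRA hr) _ hu
    obtain ⟨k, hk⟩ := hQ2 ⟨r, hRQ hr⟩
    have hk' : r ^ (2 ^ k) = 1 := congrArg Subtype.val hk
    have := hodd1 (c * r * c⁻¹ * r⁻¹) r h1 hu ⟨k, hk'⟩ ⟨k, by rw [inv_mul_cancel_right, conj_pow, hk', mul_one, mul_inv_cancel]⟩
    exact mul_inv_eq_one.mp this
  set H := Subgroup.centralizer ((A ⊔ R : Subgroup G) : Set G) with hH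
  have hzH : z ∈ H := by
    have hle : A ⊔ R ≤ Subgroup.centralizer ({z} : Set G) := sup_le hA (hRQ.trans hQC)
    exact fun x hx => Subgroup.mem_centralizer_singleton_iff.mp (hle hx)
  have hdich : ∀ c ∈ H, c ∈ A ∨ z⁻¹ * c ∈ A := by
    let zH : ↥H := ⟨z, hzH⟩
    have hzH2 : orderOf zH = 2 := by rw [Subgroup.orderOf_mk]; exact hz
    have h2 : 2 ∣ Nat.card ↥H := hzH2 ▸ orderOf_dvd_natCard zH
    obtain ⟨N, hN, hzN⟩ := Cfsg.Agent.Lib.Fusion.Thompson.exists_index_two_of_fixedPointFree (G := ↥H) (α := ↥H) (by omega) zH hzH2 (fun x hx => by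
      rw [smul_eq_mul, mul_eq_right] at hx
      rw [hx, orderOf_one] at hzH2
      norm_num at hzH2)
    haveI := Subgroup.normal_of_index_eq_two hN
    have hNodd : Nat.card ↥N % 2 = 1 := by
      have := Subgroup.card_mul_index N
      rw [hN] at this
      omega
    have hNA : ∀ n ∈ N, (n : G) ∈ A := fun n hn => hO ⟨n, Cfsg.Agent.Lib.Cores.le_oddCore (Nat.odd_iff.mpr hNodd) hn, rfl⟩
    intro c hc
    by_cases h1 : (⟨c, hc⟩ : ↥H) ∈ N
    · exact Or.inl (hNA _ h1)
    · exact Or.inr (hNA (zH⁻¹ * ⟨c, hc⟩) ((Subgroup.mul_mem_iff_of_index_two hN).mpr (iff_of_false (fun h => hzN (by simpa using h)) h1)))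
  have hcent : ∀ c ∈ M, (∀ r ∈ R, c * r * c⁻¹ * r⁻¹ ∈ A) → c ∈ A ∨ z⁻¹ * c ∈ A := by
    intro m hm hr
    obtain ⟨c, hc, a, ha, rfl⟩ := hsplit m hm
    have hcR : ∀ r ∈ R, Commute c r := fun r hr' => by
      refine mul_inv_eq_iff_eq_mul.mp (hfix c hc r hr' ?_)
      rw [← hconjA c a r (((memR r).mp hr').2 a ha)]
      exact hr r hr'
    have hcH : c ∈ H := by
      have hle : A ⊔ R ≤ Subgroup.centralizer ({c} : Set G) := sup_le
        (fun x hx => Subgroup.mem_centralizer_singleton_iff.mpr (Subgroup.mem_centralizer_iff.mp hc x hx))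
        (fun x hx => Subgroup.mem_centralizer_singleton_iff.mpr (hcR x hx).eq.symm)
      exact fun x hx => Subgroup.mem_centralizer_singleton_iff.mp (hle hx)
    rcases hdich c hcH with h1 | h1
    · exact Or.inl (mul_mem h1 ha)
    · exact Or.inr (by rw [← mul_assoc]; exact mul_mem h1 ha)
  have hznA : z ∉ A := by
    intro h
    have := Subgroup.orderOf_dvd_natCard A h
    rw [hz] at this
    exact (Nat.not_even_iff_odd.mpr hAodd) (even_iff_two_dvd.mpr this)
  have hoddy : ∀ u : G, u * u = 1 → u ∈ A → u = 1 := fun u hu huA =>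
    hodd1 u 1 (Commute.one_right u) huA ⟨0, by simp⟩ ⟨1, by rw [mul_one, pow_one, pow_two]; exact hu⟩
  have hnorm : ∀ c ∈ M, c * z * c⁻¹ * z⁻¹ ∈ A → ∀ r ∈ R, c * r * c⁻¹ ∈ R := by
    intro m hm hmz r hr
    obtain ⟨c, hc, a, ha, rfl⟩ := hsplit m hm
    rw [hconjA c a r (((memR r).mp hr).2 a ha)]
    rw [hconjA c a z (hAz a ha)] at hmz
    have hcz : Commute c z := mul_inv_eq_iff_eq_mul.mp (hfix c hc z hzR hmz)
    refine (memR _).mpr ⟨s.norm c hcz r (hRQ hr), fun b hb => ?_⟩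
    have hbc : Commute b c := Subgroup.mem_centralizer_iff.mp hc b hb
    exact ((hbc.mul_right (((memR r).mp hr).2 b hb)).mul_right hbc.inv_right)
  have hTinv : ∀ c ∈ M, c * y * c⁻¹ * y⁻¹ ∈ A → ∀ u ∈ T, c * u * c⁻¹ ∈ T := by
    intro m hm hmy u hu
    obtain ⟨c, hc, a, ha, rfl⟩ := hsplit m hm
    obtain ⟨hu1, hu2⟩ := Subgroup.mem_inf.mp hu
    rw [hconjA c a u (Subgroup.mem_centralizer_iff.mp hu2 a ha)]
    rw [hconjA c a y (hAy a ha)] at hmy
    have hcy : Commute c y := mul_inv_eq_iff_eq_mul.mp (hfix c hc y hgR hmy)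
    exact Subgroup.mem_inf.mpr ⟨norm' s c hcy u hu1, mul_mem (mul_mem hc hu2) (inv_mem hc)⟩
  refine ⟨?_, ?_, ?_⟩
  · refine le_antisymm (sup_le (fun m hm => ?_) le_sup_left) (sup_le le_sup_right ?_)
    · obtain ⟨hmM, hmC⟩ := Subgroup.mem_inf.mp hm
      rcases hcent m hmM (fun r hr => by
        rw [mul_inv_eq_iff_eq_mul.mpr (Subgroup.mem_centralizer_iff.mp hmC r (Subgroup.mem_sup_left hr)).symm, mul_inv_cancel]
        exact one_mem A) with h1 | h1
      · exact Subgroup.mem_sup_left h1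
      · have h2 : z * (z⁻¹ * m) ∈ A ⊔ (Subgroup.center ↥Q).map Q.subtype :=
          mul_mem (Subgroup.mem_sup_right (hzZ ▸ Subgroup.mem_zpowers z)) (Subgroup.mem_sup_left h1)
        simpa using h2
    · rw [hzZ, Subgroup.zpowers_le]
      refine Subgroup.mem_sup_left (Subgroup.mem_inf.mpr ⟨hCM (fun a ha => hAz a ha), ?_⟩)
      have hle : R ⊔ A ≤ Subgroup.centralizer ({z} : Set G) := sup_le (hRQ.trans hQC) hA
      exact fun x hx => Subgroup.mem_centralizer_singleton_iff.mp (hle hx)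
  · exact large_image s.es hQ2 hRQ (hRA.trans hCM) hzR hgR A hznA hy1
      (fun h => hyne1 (hoddy y hy1 h))
      (fun h => hne (by
        have hzy : Commute z y := commute_zy s
        have h1 := hoddy (z⁻¹ * y) (by rw [(hzy.inv_left).symm.mul_mul_mul_comm z⁻¹ y, hy1, mul_one, ← mul_inv_rev, s.es.sq, inv_one]) h
        exact (inv_mul_eq_one.mp h1).symm))
      hcent hnorm T (inf_le_right.trans hCM) (hQy2.to_le inf_le_left)
      (Subgroup.mem_inf.mpr ⟨hzQy, fun a ha => hAz a ha⟩) (fun u hu => (es' s).comm u hu.1) hTinv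
  · obtain ⟨r, hr, hrA, hry⟩ := exists_move_fixed s.es hQ2 hAQ hAodd hyQ hAy hyne1 hne
    have hAQy : A ≤ Subgroup.normalizer (Qy : Set G) := fun a ha =>
      Subgroup.mem_normalizer_fintype fun q hq => norm' s a (hAy a ha) q hq
    obtain ⟨q, hq, hqA, hqz⟩ := exists_move_fixed (es' s) hQy2 hAQy hAodd hzQy hAz s.es.ne (Ne.symm hne)
    refine ⟨q * r * q, ?_, swap_eq s.es.sq hy1 (commute_zy s) (mul_inv_eq_iff_eq_mul.mpr (s.es.comm r hr).eq) hry (mul_inv_eq_iff_eq_mul.mpr ((es' s).comm q hq).eq) hqz⟩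
    have hr' : r ∈ R := (memR r).mpr ⟨hr, hrA⟩
    have hq' : q ∈ T := Subgroup.mem_inf.mpr ⟨hq, fun a ha => hqA a ha⟩
    exact mul_mem (mul_mem (Subgroup.mem_sup_right hq') (Subgroup.mem_sup_left hr')) (Subgroup.mem_sup_right hq')

end Cfsg.Agent.S5428
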