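import Cfsg.Statements.S5429
import Cfsg.Agent.Lib.LargeExtra.Quotient

set_option autoImplicit false
open Cfsg

namespace Cfsg.Agent.S5429

/-- Let z be an involution of the finite group G with centralizer C whose generalized Fitting subgroup Q is extraspecial of width at least 3 (order 2^(2w+1), w ≥ 3); let g be an element of G with g z g⁻¹ in Q but outside the centre Z of Q, and t an involution lying in both Q and g Q g⁻¹ that is not conjugate to z; write P for the centralizer of t in Q and suppose that the elements of C acting trivially by conjugation on P modulo the subgroup generated by t and z are exactly the elements of Q. Then the image of P in the centralizer of t modulo the subgroup generated by t is a large extraspecial 2-subgroup there, and g z g⁻¹ is conjugate to z inside the subgroup generated by P and the centralizer of t in g Q g⁻¹. -/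
theorem result {G : Type*} [Group G] [Finite G] (z : G) (hz : orderOf z = 2) (Q : Subgroup G) (hQC : Q ≤ Subgroup.centralizer ({z} : Set G)) (hF : (Cfsg.generalizedFittingSubgroup ↥(Subgroup.centralizer ({z} : Set G))).map (Subgroup.centralizer ({z} : Set G)).subtype = Q) (hQ : Cfsg.IsExtraspecial 2 ↥Q) (w : ℕ) (hw : 3 ≤ w) (hcard : Nat.card ↥Q = 2 ^ (2 * w + 1)) (g : G) (hgQ : g * z * g⁻¹ ∈ Q) (hgZ : g * z * g⁻¹ ∉ ((Subgroup.center ↥Q).map Q.subtype)) (t : G) (ht : orderOf t = 2) (htQ : t ∈ Q ⊓ (Q).map (MulAut.conj g).toMonoidHom) (htz : ¬ IsConj z t) (P : Subgroup G) (hP : P = Q ⊓ Subgroup.centralizer ({t} : Set G)) (hCP : ∀ c ∈ Subgroup.centralizer ({z} : Set G), (∀ x ∈ P, ∃ y ∈ Subgroup.closure ({t, z} : Set G), c * x * c⁻¹ = x * y) ↔ c ∈ Q) [hn : ((Subgroup.zpowers t).subgroupOf (Subgroup.centralizer ({t} : Set G))).Normal] : Cfsg.IsLargeExtraspecial ((P.subgroupOf (Subgroup.centralizer ({t} : Set G))).map (QuotientGroup.mk' ((Subgroup.zpowers t).subgroupOf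 (Subgroup.centralizer ({t} : Set G))))) ∧ ∃ x ∈ P ⊔ ((Q).map (MulAut.conj g).toMonoidHom ⊓ Subgroup.centralizer ({t} : Set G)), x * (g * z * g⁻¹) * x⁻¹ = z := by
  open Cfsg.Agent.Lib.LargeExtra.TwoConjugate in
  open Cfsg.Agent.Lib.LargeExtra.Quotient in
  open Cfsg.Agent.Lib.LargeExtraspecial.Basic in
  haveI : Fact (Nat.Prime 2) := ⟨Nat.prime_two⟩
  set y := g * z * g⁻¹ with hy
  have hQ2 : IsPGroup 2 ↥Q := Cfsg.Agent.Lib.LargeExtra.Basic.isPGroup hQ
  have hne : y ≠ z := by
    intro h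
    refine hgZ (h ▸ ?_)
    refine Cfsg.Agent.Lib.LargeExtra.Basic.mem_centerMap.mpr ⟨h ▸ hgQ, fun q hq => ?_⟩
    exact Subgroup.mem_centralizer_singleton_iff.mp (hQC hq)
  have hbig : 16 ≤ Nat.card ↥Q := by
    rw [hcard]
    calc 16 ≤ 2 ^ 7 := by norm_num
      _ ≤ _ := Nat.pow_le_pow_right (by norm_num) (by omega)
  obtain ⟨hzZ, s⟩ := setting_of_fitting z hz Q hF hQ hgQ hne hbig
  obtain ⟨htQ1, htQy⟩ := Subgroup.mem_inf.mp htQ
  set Qy := Q.map (MulAut.conj g).toMonoidHom with hQy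
  have hQy2 : IsPGroup 2 ↥Qy := hQ2.map _
  have hzQy : z ∈ Qy := z_mem s
  have hy1 : y * y = 1 := (es' s).sq
  have ht1 : t * t = 1 := by rw [← pow_two, ← ht, pow_orderOf_eq_one]
  have htne : t ≠ 1 := fun h => by simp [h] at ht
  have htz' : t ≠ z := fun h => htz (h ▸ IsConj.refl z)
  have hyz : IsConj z y := isConj_iff.mpr ⟨g, rfl⟩
  have hty : t ≠ y := fun h => htz (h ▸ hyz)
  obtain ⟨q₁, hq₁, hq₁t⟩ := s.es.exists_conj_ne htQ1 htne htz'
  obtain ⟨q₂, hq₂, hq₂t⟩ := (es' s).exists_conj_ne htQy htne hty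
  have hzt : Commute z t := (s.es.comm t htQ1).symm
  have hyt : Commute y t := ((es' s).comm t htQy).symm
  have hnzt : ∀ u, IsConj z u → u ≠ t ∧ u ≠ z * t ∧ u ≠ y * t := by
    intro u hu
    refine ⟨fun h => htz (h ▸ hu), fun h => ?_, fun h => ?_⟩
    · exact htz (hu.trans (h ▸ (isConj_iff.mpr ⟨q₁, hq₁t.trans hzt.eq.symm⟩ : IsConj t (z * t)).symm))
    · exact htz (hu.trans (h ▸ (isConj_iff.mpr ⟨q₂, hq₂t.trans hyt.eq.symm⟩ : IsConj t (y * t)).symm))
  have htN : ∀ u, u ∈ Subgroup.zpowers t → u = 1 ∨ u = t := fun u hu => Cfsg.Agent.Lib.LargeExtra.Basic.eq_one_or_eq ht hu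
  have hPM : P ≤ Subgroup.centralizer ({t} : Set G) := hP ▸ inf_le_right
  have hPQ : P ≤ Q := hP ▸ inf_le_left
  have memP : ∀ x, x ∈ P ↔ x ∈ Q ∧ Commute x t := fun x => by rw [hP]; exact mem_A
  have hzP : z ∈ P := (memP z).mpr ⟨s.es.mem, hzt⟩
  have hyP : y ∈ P := (memP y).mpr ⟨hgQ, hyt⟩
  have hznt : z ∉ Subgroup.zpowers t := fun h => by
    rcases htN z h with h1 | h1
    exacts [s.es.ne h1, htz' h1.symm]
  obtain ⟨r, hr, hrt, hry⟩ := exists_move_in_centralizer s.es htQ1 hgQ (y_ne_one s) hne (hnzt y hyz).1 (hnzt y hyz).2.1 ht1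
  obtain ⟨q, hq, hqt, hqz⟩ := exists_move_in_centralizer (es' s) htQy hzQy s.es.ne (Ne.symm hne) (hnzt z (IsConj.refl z)).1 (hnzt z (IsConj.refl z)).2.2 ht1
  have hrP : r ∈ P := (memP r).mpr ⟨hr, hrt⟩
  have hcent : ∀ c ∈ Subgroup.centralizer ({t} : Set G), (∀ x ∈ P, c * x * c⁻¹ * x⁻¹ ∈ Subgroup.zpowers t) → c ∈ Subgroup.zpowers t ∨ z⁻¹ * c ∈ Subgroup.zpowers t := by
    intro c hc hall
    have hct : Commute c t := Subgroup.mem_centralizer_singleton_iff.mp hc
    have hcz : Commute c z := by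
      refine mul_inv_eq_iff_eq_mul.mp (?_ : c * z * c⁻¹ = z)
      obtain ⟨u, hu, hue⟩ : ∃ u ∈ Subgroup.zpowers t, c * r * c⁻¹ = u * r := ⟨_, hall r hrP, by simp⟩
      obtain ⟨v, hv, hve⟩ : ∃ v ∈ Subgroup.zpowers t, c * y * c⁻¹ = v * y := ⟨_, hall y hyP, by simp⟩
      have hvr : Commute v r := by
        rcases htN v hv with h | h <;> rw [h]
        exacts [Commute.one_left r, hrt.symm]
      have huy : Commute u y := by
        rcases htN u hu with h | h <;> rw [h]
        exacts [Commute.one_left y, hyt.symm]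
      have huv : Commute u v := by
        rcases htN u hu with h | h <;> rcases htN v hv with h' | h' <;> rw [h, h'] <;>
          first | exact Commute.one_left _ | exact Commute.one_right _ | exact Commute.refl _
      have h1 : c * z * c⁻¹ = (v * y)⁻¹ * ((u * r) * (v * y) * (u * r)⁻¹) := by
        rw [← hue, ← hve]
        calc c * z * c⁻¹ = c * (y⁻¹ * (r * y * r⁻¹)) * c⁻¹ := by rw [hry, inv_mul_cancel_left]
          _ = _ := by group
      rw [h1]
      have h2 : u * r * (v * y) * (u * r)⁻¹ = v * (y * z) := by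
        calc u * r * (v * y) * (u * r)⁻¹ = u * ((r * v * r⁻¹) * (r * y * r⁻¹)) * u⁻¹ := by group
          _ = u * (v * (y * z)) * u⁻¹ := by rw [mul_inv_eq_iff_eq_mul.mpr hvr.eq.symm, hry]
          _ = v * (y * z) := mul_inv_eq_iff_eq_mul.mpr (huv.mul_right (huy.mul_right (by
            rcases htN u hu with h | h <;> rw [h]
            exacts [Commute.one_left z, hzt.symm]))).eq
      rw [h2]; group
    have hcQ : c ∈ Q := by
      refine (hCP c (Subgroup.mem_centralizer_singleton_iff.mpr hcz.eq)).mp fun x hx => ?_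
      have hux : Commute (c * x * c⁻¹ * x⁻¹) x := by
        rcases htN _ (hall x hx) with h | h <;> rw [h]
        exacts [Commute.one_left x, ((memP x).mp hx).2.symm]
      refine ⟨c * x * c⁻¹ * x⁻¹, (Subgroup.zpowers_le (g := t) (H := Subgroup.closure ({t, z} : Set G))).mpr (Subgroup.subset_closure (Set.mem_insert t {z})) (hall x hx), ?_⟩
      calc c * x * c⁻¹ = (c * x * c⁻¹ * x⁻¹) * x := by group
        _ = _ := hux.eq
    have hcP : ∀ x ∈ P, Commute c x := by
      intro x hx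
      rcases s.es.conj c hcQ x (hPQ hx) with h | h
      · exact mul_inv_eq_iff_eq_mul.mp h
      · exfalso
        apply hznt
        have h1 := hall x hx
        rwa [h, (s.es.comm x (hPQ hx)).eq, mul_inv_cancel_right] at h1
    by_contra hcon
    push Not at hcon
    obtain ⟨x, hx, hxt, hxc⟩ := exists_move_in_centralizer s.es htQ1 hcQ
      (fun h => hcon.1 (h ▸ one_mem _)) (fun h => hcon.2 (by rw [h, inv_mul_cancel]; exact one_mem _))
      (fun h => hcon.1 (h ▸ Subgroup.mem_zpowers t))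
      (fun h => hcon.2 (by rw [h, inv_mul_cancel_left]; exact Subgroup.mem_zpowers t)) ht1
    rw [mul_inv_eq_iff_eq_mul.mpr (hcP x ((memP x).mpr ⟨hx, hxt⟩)).eq.symm, left_eq_mul] at hxc
    exact s.es.ne hxc
  have hfix : ∀ w, IsConj z w → (∀ u, IsConj z u → u ≠ w * t) → ∀ c : G, c * w * c⁻¹ * w⁻¹ ∈ Subgroup.zpowers t → Commute w t → Commute c w := by
    intro w hw hnot c hc hwt
    rcases htN _ hc with h | h
    · exact mul_inv_eq_iff_eq_mul.mp (mul_inv_eq_one.mp h)
    · exfalso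
      exact hnot (c * w * c⁻¹) (hw.trans (isConj_iff.mpr ⟨c, rfl⟩)) ((mul_inv_eq_iff_eq_mul.mp h).trans hwt.eq.symm)
  refine ⟨?_, ?_⟩
  · exact large_image s.es hQ2 hPQ hPM hzP hyP (Subgroup.zpowers t) hznt hy1
      (fun h => by rcases htN y h with h1 | h1; exacts [y_ne_one s h1, hty h1.symm])
      (fun h => by
        rcases htN _ h with h1 | h1
        · exact hne (inv_mul_eq_one.mp h1).symm
        · exact (hnzt y hyz).2.1 (inv_mul_eq_iff_eq_mul.mp h1))
      hcent
      (fun c hc hcz x hx => by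
        have hcz' := hfix z (IsConj.refl z) (fun u hu => (hnzt u hu).2.1) c hcz hzt
        have hct : Commute c t := Subgroup.mem_centralizer_singleton_iff.mp hc
        exact (memP _).mpr ⟨s.norm c hcz' x (hPQ hx), (hct.mul_left ((memP x).mp hx).2).mul_left hct.inv_left⟩)
      (Qy ⊓ Subgroup.centralizer ({t} : Set G)) inf_le_right (hQy2.to_le inf_le_left)
      (mem_A.mpr ⟨hzQy, hzt⟩) (fun u hu => (es' s).comm u hu.1)
      (fun c hc hcy u hu => by
        have hcy' := hfix y hyz (fun w hw => (hnzt w hw).2.2) c hcy hyt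
        exact Subgroup.mem_inf.mpr ⟨norm' s c hcy' u hu.1, mul_mem (mul_mem hc hu.2) (inv_mem hc)⟩)
  · exact ⟨q * r * q,
      mul_mem (mul_mem (Subgroup.mem_sup_right (mem_A.mpr ⟨hq, hqt⟩)) (Subgroup.mem_sup_left hrP)) (Subgroup.mem_sup_right (mem_A.mpr ⟨hq, hqt⟩)),
      swap_eq s.es.sq hy1 (commute_zy s) (mul_inv_eq_iff_eq_mul.mpr (s.es.comm r hr).eq) hry (mul_inv_eq_iff_eq_mul.mpr ((es' s).comm q hq).eq) hqz⟩

end Cfsg.Agent.S5429
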