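import Cfsg.Statements.S5430
import Cfsg.Agent.Lib.LargeExtra.FourGroup

set_option autoImplicit false
open Cfsg

namespace Cfsg.Agent.S5430

/-- Let Q be a large extraspecial 2-subgroup of the finite group G (extraspecial; centralizer equal to its centre; normal in the centralizer of its centre; normalizing no non-trivial subgroup of odd order) with centre generated by z, an involution, of width w ≥ 2 (order 2^(2w+1)); let g be an element outside the centralizer H of z with g z g⁻¹ in Q; write V for the subgroup generated by z and g z g⁻¹, X for the subgroup generated by Q and g Q g⁻¹, R for the subgroup generated by the centralizer of z in g Q g⁻¹ and the centralizer of g z g⁻¹ in Q, and E for the intersection of Q and g Q g⁻¹. Then R is the centralizer of V in X and is the largest normal 2-subgroup of X, and X/R is isomorphic to the symmetric group of degree 3; moreover the normalizer of V is the product of X and the centralizer of V in H, X is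 normal in it, and modulo R it is the direct product of X/R and of the centralizer of V in H modulo R. -/
theorem result {G : Type*} [Group G] [Finite G] (Q : Subgroup G) (hQ : Cfsg.IsLargeExtraspecial Q) (z : G) (hz : ((Subgroup.center ↥Q).map Q.subtype) = Subgroup.zpowers z) (hz2 : orderOf z = 2) (w : ℕ) (hw : 2 ≤ w) (hcard : Nat.card ↥Q = 2 ^ (2 * w + 1)) (g : G) (hgH : g ∉ Subgroup.centralizer ({z} : Set G)) (hgQ : g * z * g⁻¹ ∈ Q) (V X R E : Subgroup G) (hV : V = Subgroup.closure ({z, g * z * g⁻¹} : Set G)) (hX : X = Q ⊔ (Q).map (MulAut.conj g).toMonoidHom) (hR : R = ((Q).map (MulAut.conj g).toMonoidHom ⊓ Subgroup.centralizer ({z} : Set G)) ⊔ (Q ⊓ Subgroup.centralizer ({g * z * g⁻¹} : Set G))) (hE : E = Q ⊓ (Q).map (MulAut.conj g).toMonoidHom) : R = X ⊓ Subgroup.centralizer (V : Set G) ∧ R = (Cfsg.pCore 2 ↥X).map X.subtype ∧ (∃ h : (R.subgroupOf X).Normal, Nonempty (↥X ⧸ R.subgroupOf X ≃* Equiv.Perm (Fin 3))) ∧ Subgroup.normalizer (V : Set G)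 = X ⊔ (Subgroup.centralizer ({z} : Set G) ⊓ Subgroup.centralizer (V : Set G)) ∧ (∀ y ∈ Subgroup.normalizer (V : Set G), ∀ x ∈ X, y * x * y⁻¹ ∈ X) ∧ R ≤ Subgroup.centralizer ({z} : Set G) ⊓ Subgroup.centralizer (V : Set G) ∧ (∀ x ∈ X, ∀ c ∈ Subgroup.centralizer ({z} : Set G) ⊓ Subgroup.centralizer (V : Set G), x * c * x⁻¹ * c⁻¹ ∈ R) ∧ X ⊓ (Subgroup.centralizer ({z} : Set G) ⊓ Subgroup.centralizer (V : Set G)) = R := by
  open Cfsg.Agent.Lib.LargeExtra.TwoConjugate in
  open Cfsg.Agent.Lib.LargeExtra.FourGroup in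
  open Cfsg.Agent.Lib.LargeExtraspecial.Basic in
  haveI : Fact (Nat.Prime 2) := ⟨Nat.prime_two⟩
  obtain ⟨hext, hcen, hnorm, -⟩ := hQ
  obtain ⟨hes, -⟩ := es_of hext hz
  have hne : g * z * g⁻¹ ≠ z := fun h =>
    hgH (Subgroup.mem_centralizer_singleton_iff.mpr (mul_inv_eq_iff_eq_mul.mp h))
  have hbig : 16 ≤ Nat.card ↥Q := by
    rw [hcard]
    calc 16 ≤ 2 ^ 5 := by norm_num
      _ ≤ _ := Nat.pow_le_pow_right (by norm_num) (by omega)
  have s : Setting Q z g := ⟨hes, centralizer_eq_of hz2 hz hcen, norm_of hz hnorm, hgQ, hne, hbig⟩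
  have hVz : V = Subgroup.zpowers z ⊔ Subgroup.zpowers (g * z * g⁻¹) := by
    rw [hV, Subgroup.closure_eq_of_le]
    · rintro a (rfl | rfl)
      exacts [Subgroup.mem_sup_left (Subgroup.mem_zpowers _), Subgroup.mem_sup_right (Subgroup.mem_zpowers _)]
    · refine sup_le (Subgroup.zpowers_le.mpr (Subgroup.subset_closure ?_)) (Subgroup.zpowers_le.mpr (Subgroup.subset_closure ?_))
      exacts [Or.inl rfl, Or.inr rfl]
  clear hE hV
  subst hVz hX hR
  set V := Subgroup.zpowers z ⊔ Subgroup.zpowers (g * z * g⁻¹)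
  set X := Q ⊔ Subgroup.map (MulEquiv.toMonoidHom (MulAut.conj g)) Q
  have hCV : Subgroup.centralizer ({z} : Set G) ⊓ Subgroup.centralizer (V : Set G) = Subgroup.centralizer (V : Set G) :=
    inf_eq_right.mpr fun x hx => Subgroup.mem_centralizer_singleton_iff.mpr (mem_centralizer_V.mp hx).1.eq
  rw [hCV]
  have hXC := X_inf_centralizer s
  set R := (Subgroup.map (MulEquiv.toMonoidHom (MulAut.conj g)) Q ⊓ Subgroup.centralizer ({z} : Set G)) ⊔ (Q ⊓ Subgroup.centralizer ({g * z * g⁻¹} : Set G))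
  have hXN : X ≤ Subgroup.normalizer (V : Set G) := sup_le (Q_le_normalizer s) (P_le_normalizer s)
  obtain ⟨ψ, hψs, hψk⟩ := exists_perm_hom s X hXN le_sup_left le_sup_right
  have hker : ψ.ker = R.subgroupOf X := by
    rw [hψk, ← hXC, Subgroup.inf_subgroupOf_left]
  obtain ⟨ψN, hNs, hNk⟩ := exists_perm_hom s _ le_rfl (Q_le_normalizer s) (P_le_normalizer s)
  have hRX : R ≤ X := R_le_X s
  have hR2 : IsPGroup 2 ↥R := by
    have h2 : IsPGroup 2 ↥Q := Cfsg.Agent.Lib.LargeExtra.Basic.isPGroup hext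
    refine IsPGroup.to_sup_of_normal_right' (h2.map _ |>.to_le inf_le_left) (h2.to_le inf_le_left) ?_
    intro b hb
    rw [Subgroup.mem_normalizer_iff]
    have hmap : ∀ c : G, Commute c z → Commute c (g * z * g⁻¹) → ∀ a ∈ Q ⊓ Subgroup.centralizer ({g * z * g⁻¹} : Set G), c * a * c⁻¹ ∈ Q ⊓ Subgroup.centralizer ({g * z * g⁻¹} : Set G) := by
      intro c hcz hcy a ha
      obtain ⟨haQ, hay⟩ := mem_A.mp ha
      exact mem_A.mpr ⟨s.norm c hcz a haQ, (hcy.mul_left hay).mul_left hcy.inv_left⟩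
    obtain ⟨hb1, hb2⟩ := mem_A.mp hb
    have hb3 : Commute b (g * z * g⁻¹) := (es' s).comm b hb1
    intro a
    exact ⟨hmap b hb2 hb3 a, fun h => by simpa [mul_assoc] using hmap b⁻¹ hb2.inv_left hb3.inv_left _ h⟩
  have hC : ∀ y ∈ Subgroup.normalizer (V : Set G), ∀ c ∈ Subgroup.centralizer (V : Set G), y * c * y⁻¹ ∈ Subgroup.centralizer (V : Set G) := by
    intro y hy c hc
    rw [Subgroup.mem_centralizer_iff] at hc ⊢
    intro v hv
    have h1 := hc _ ((Subgroup.mem_normalizer_iff''.mp hy v).mp hv)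
    calc v * (y * c * y⁻¹) = y * (y⁻¹ * v * y * c) * y⁻¹ := by group
      _ = y * (c * (y⁻¹ * v * y)) * y⁻¹ := by rw [h1]
      _ = y * c * y⁻¹ * v := by group
  have hCX : ∀ c ∈ Subgroup.centralizer (V : Set G), ∀ x ∈ X, c * x * c⁻¹ ∈ X := by
    intro c hc x hx
    obtain ⟨hcz, hcy⟩ := mem_centralizer_V.mp hc
    have hle : X ≤ X.comap (MulEquiv.toMonoidHom (MulAut.conj c)) := sup_le
      (fun q hq => Subgroup.mem_sup_left (s.norm c hcz q hq))
      (fun q hq => Subgroup.mem_sup_right (norm' s c hcy q hq))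
    exact hle hx
  have hsplit : ∀ y ∈ Subgroup.normalizer (V : Set G), ∃ x ∈ X, x⁻¹ * y ∈ Subgroup.centralizer (V : Set G) := by
    intro y hy
    obtain ⟨ψ', hψ's, -⟩ := exists_perm_hom s X hXN le_sup_left le_sup_right
    let incl : ↥X →* ↥(Subgroup.normalizer (V : Set G)) := Subgroup.inclusion hXN
    obtain ⟨σ, hσ⟩ : ∃ σ, σ = ψN ⟨y, hy⟩ := ⟨_, rfl⟩
    have hsurj : Function.Surjective (ψN.comp incl) := by
      have hk : (ψN.comp incl).ker = ψ.ker := by
        rw [← MonoidHom.comap_ker, hNk, hψk]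
        rfl
      rw [← MonoidHom.range_eq_top]
      apply Subgroup.eq_top_of_card_eq
      rw [← Subgroup.index_ker, hk, Subgroup.index_ker, MonoidHom.range_eq_top.mpr hψs, Subgroup.card_top]
    obtain ⟨x, hx⟩ := hsurj σ
    refine ⟨x, x.2, ?_⟩
    have hm : (incl x)⁻¹ * (⟨y, hy⟩ : ↥(Subgroup.normalizer (V : Set G))) ∈ ψN.ker := by
      rw [MonoidHom.mem_ker, map_mul, map_inv, ← hσ, ← hx]
      exact inv_mul_cancel _
    rw [hNk] at hm
    exact hm
  have hnR : (R.subgroupOf X).Normal := hker ▸ inferInstance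
  refine ⟨hXC.symm, ?_, ⟨hnR, ?_⟩, ?_, ?_, R_le_centralizer s, ?_, hXC⟩
  · refine le_antisymm (fun r hr => ⟨⟨r, hRX hr⟩, le_sSup (show R.subgroupOf X ∈ {N : Subgroup ↥X | N.Normal ∧ IsPGroup 2 N} from ⟨hnR, hR2.comap_subtype⟩) hr, rfl⟩) ?_
    rintro _ ⟨x, hx, rfl⟩
    haveI := Cfsg.Agent.Lib.LargeExtra.Basic.pCore_normal' ↥X
    haveI : ((Cfsg.pCore 2 ↥X).map ψ).Normal := Subgroup.Normal.map inferInstance ψ hψs
    have hb := normal_two_eq_bot _ ((Cfsg.Agent.Lib.LargeExtra.Basic.pCore_isPGroup ↥X).map ψ)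
    have : x ∈ ψ.ker := (MonoidHom.mem_ker).mpr (Subgroup.mem_bot.mp (hb ▸ Subgroup.mem_map_of_mem ψ hx))
    rw [hker] at this
    exact this
  · exact ⟨(QuotientGroup.quotientMulEquivOfEq hker.symm).trans (QuotientGroup.quotientKerEquivOfSurjective ψ hψs)⟩
  · refine le_antisymm (fun y hy => ?_) (sup_le hXN (Subgroup.centralizer_le_normalizer _))
    obtain ⟨x, hx, hc⟩ := hsplit y hy
    have := mul_mem (Subgroup.mem_sup_left (T := Subgroup.centralizer (V : Set G)) hx) (Subgroup.mem_sup_right (S := X) hc)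
    simpa using this
  · intro y hy x hx
    obtain ⟨x', hx', hc⟩ := hsplit y hy
    have h1 := mul_mem (mul_mem hx' (hCX _ hc x hx)) (inv_mem hx')
    simpa [mul_assoc] using h1
  · intro x hx c hc
    rw [← hXC]
    refine Subgroup.mem_inf.mpr ⟨?_, mul_mem (hC x (hXN hx) c hc) (inv_mem hc)⟩
    have h1 := mul_mem hx (hCX c hc x⁻¹ (inv_mem hx))
    rw [show x * c * x⁻¹ * c⁻¹ = x * (c * x⁻¹ * c⁻¹) by group]
    exact h1

end Cfsg.Agent.S5430
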