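import Cfsg.Statements.S5431
import Cfsg.Agent.Lib.LargeExtra.FourGroup

set_option autoImplicit false
open Cfsg

namespace Cfsg.Agent.S5431

/-- Let Q be a large extraspecial 2-subgroup of the finite group G (extraspecial; centralizer equal to its centre; normal in the centralizer of its centre; normalizing no non-trivial subgroup of odd order) with centre generated by z, an involution, of width w ≥ 2 (order 2^(2w+1)); let g be an element outside the centralizer H of z with g z g⁻¹ in Q; write V for the subgroup generated by z and g z g⁻¹, X for the subgroup generated by Q and g Q g⁻¹, R for the subgroup generated by the centralizer of z in g Q g⁻¹ and the centralizer of g z g⁻¹ in Q, and E for the intersection of Q and g Q g⁻¹. Then V is the centre of R, E lies in the second centre of R, R is nilpotent of class at most 3, E and R/E are elementary abelian, R/E is the direct product of the images of the centralizer of g z g⁻¹ in Q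 and of the centralizer of z in g Q g⁻¹ (R is their product and they meet in E), and the commutator subgroup of X and E lies in V. -/
theorem result {G : Type*} [Group G] [Finite G] (Q : Subgroup G) (hQ : Cfsg.IsLargeExtraspecial Q) (z : G) (hz : ((Subgroup.center ↥Q).map Q.subtype) = Subgroup.zpowers z) (hz2 : orderOf z = 2) (w : ℕ) (hw : 2 ≤ w) (hcard : Nat.card ↥Q = 2 ^ (2 * w + 1)) (g : G) (hgH : g ∉ Subgroup.centralizer ({z} : Set G)) (hgQ : g * z * g⁻¹ ∈ Q) (V X R E : Subgroup G) (hV : V = Subgroup.closure ({z, g * z * g⁻¹} : Set G)) (hX : X = Q ⊔ (Q).map (MulAut.conj g).toMonoidHom) (hR : R = ((Q).map (MulAut.conj g).toMonoidHom ⊓ Subgroup.centralizer ({z} : Set G)) ⊔ (Q ⊓ Subgroup.centralizer ({g * z * g⁻¹} : Set G))) (hE : E = Q ⊓ (Q).map (MulAut.conj g).toMonoidHom) : (Subgroup.center ↥R).map R.subtype = V ∧ E ≤ (Subgroup.upperCentralSeries ↥R 2).map R.subtype ∧ Subgroup.upperCentralSeries ↥R 3 = ⊤ ∧ Cfsg.IsElementaryAbelian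 2 E ∧ (∀ x ∈ R, ∀ y ∈ R, x * y * x⁻¹ * y⁻¹ ∈ E ∧ x ^ 2 ∈ E) ∧ ((Q).map (MulAut.conj g).toMonoidHom ⊓ Subgroup.centralizer ({z} : Set G)) ⊓ (Q ⊓ Subgroup.centralizer ({g * z * g⁻¹} : Set G)) = E ∧ ⁅X, E⁆ ≤ V := by
  open Cfsg.Agent.Lib.LargeExtra.TwoConjugate in
  open Cfsg.Agent.Lib.LargeExtra.FourGroup in
  open Cfsg.Agent.Lib.LargeExtraspecial.Basic in
  haveI : Fact (Nat.Prime 2) := ⟨Nat.prime_two⟩
  obtain ⟨hext, hcen, hnorm, -⟩ := hQ
  obtain ⟨hes, -⟩ := es_of hext hz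
  have hne : g * z * g⁻¹ ≠ z := fun h =>
    hgH (Subgroup.mem_centralizer_singleton_iff.mpr (mul_inv_eq_iff_eq_mul.mp h))
  have hbig : 16 ≤ Nat.card ↥Q := by
    rw [hcard]
    calc 16 ≤ 2 ^ 5 := by norm_num
      _ ≤ _ := Nat.pow_le_pow_right (by norm_num) (by omega)
  have s : Setting Q z g := ⟨hes, centralizer_eq_of hz2 hz hcen, norm_of hz hnorm, hgQ, hne, hbig⟩
  have hVz : V = Subgroup.zpowers z ⊔ Subgroup.zpowers (g * z * g⁻¹) := by
    rw [hV, Subgroup.closure_eq_of_le]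
    · rintro a (rfl | rfl)
      exacts [Subgroup.mem_sup_left (Subgroup.mem_zpowers _), Subgroup.mem_sup_right (Subgroup.mem_zpowers _)]
    · refine sup_le (Subgroup.zpowers_le.mpr (Subgroup.subset_closure ?_)) (Subgroup.zpowers_le.mpr (Subgroup.subset_closure ?_))
      exacts [Or.inl rfl, Or.inr rfl]
  clear hV
  subst hVz hX
  have hzP := z_mem s
  have hy := es' s
  have hRC := R_le_centralizer s
  have hXC := X_inf_centralizer s
  rw [← hR] at hRC hXC
  set y := g * z * g⁻¹ with hydef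
  set P := Subgroup.map (MulEquiv.toMonoidHom (MulAut.conj g)) Q with hP
  set V := Subgroup.zpowers z ⊔ Subgroup.zpowers y with hVdef
  have hzy : Commute z y := commute_zy s
  have memR_A : ∀ a ∈ Q, Commute a y → a ∈ R := fun a ha hay => hR ▸ Subgroup.mem_sup_right (mem_A.mpr ⟨ha, hay⟩)
  have memR_B : ∀ b ∈ P, Commute b z → b ∈ R := fun b hb hbz => hR ▸ Subgroup.mem_sup_left (mem_A.mpr ⟨hb, hbz⟩)
  have hVR : V ≤ R := sup_le (Subgroup.zpowers_le.mpr (memR_A z s.es.mem hzy)) (Subgroup.zpowers_le.mpr (memR_A y s.mem (Commute.refl y)))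
  have hcap : (P ⊓ Subgroup.centralizer ({z} : Set G)) ⊓ (Q ⊓ Subgroup.centralizer ({y} : Set G)) = E := by
    rw [hE]
    ext e
    simp only [Subgroup.mem_inf, Subgroup.mem_centralizer_singleton_iff]
    exact ⟨fun h => ⟨h.2.1, h.1.1⟩, fun h => ⟨⟨h.2, (s.es.comm e h.1).eq⟩, h.1, (hy.comm e h.2).eq⟩⟩
  have hsplitR : ∀ x ∈ R, x ∈ Subgroup.closure (((P ⊓ Subgroup.centralizer ({z} : Set G) : Subgroup G) : Set G) ∪ ((Q ⊓ Subgroup.centralizer ({y} : Set G) : Subgroup G) : Set G)) := by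
    intro x hx
    rw [← Subgroup.sup_eq_closure, ← hR]
    exact hx
  have hER : E ≤ R := fun e he => by
    rw [hE] at he
    exact memR_A e he.1 (hy.comm e he.2)
  have hcomm2 : ∀ e ∈ E, ∀ f ∈ E, Commute e f := by
    intro e he f hf
    rw [hE] at he hf
    refine mul_inv_eq_iff_eq_mul.mp (?_ : e * f * e⁻¹ = f)
    rcases s.es.conj e he.1 f hf.1 with h | h
    · exact h
    · rcases hy.conj e he.2 f hf.2 with h' | h'
      · exact h'
      · exact absurd (mul_left_cancel (h.symm.trans h')).symm hne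
  have hsqE : ∀ e ∈ E, e ^ 2 = 1 := by
    intro e he
    rw [hE] at he
    rw [pow_two]
    rcases s.es.sq_cases he.1 with h | h
    · exact h
    · rcases hy.sq_cases he.2 with h' | h'
      · exact h'
      · exact absurd (h'.symm.trans h) hne
  have hEelem : Cfsg.IsElementaryAbelian 2 E :=
    ⟨⟨⟨fun a b => Subtype.ext (hcomm2 a a.2 b b.2).eq⟩⟩, hsqE⟩
  have hVnorm : ∀ x ∈ Q ⊔ P, ∀ v ∈ V, x * v * x⁻¹ ∈ V := fun x hx v hv =>
    (Subgroup.mem_normalizer_iff.mp (sup_le (Q_le_normalizer s) (P_le_normalizer s) hx) v).mp hv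
  have hXE : ∀ x ∈ Q ⊔ P, ∀ e ∈ E, x * e * x⁻¹ * e⁻¹ ∈ V := by
    intro x hx
    rw [Subgroup.sup_eq_closure] at hx
    induction hx using Subgroup.closure_induction with
    | mem a ha =>
      intro e he
      rw [hE] at he
      rcases ha with ha | ha
      · rcases s.es.conj a ha e he.1 with h | h <;> rw [h]
        · simp
        · rw [(s.es.comm e he.1).eq, mul_inv_cancel_right]; exact Subgroup.mem_sup_left (Subgroup.mem_zpowers z)
      · rcases hy.conj a ha e he.2 with h | h <;> rw [h]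
        · simp
        · rw [(hy.comm e he.2).eq, mul_inv_cancel_right]; exact Subgroup.mem_sup_right (Subgroup.mem_zpowers y)
    | one => intro e _; simp
    | mul a b ha hb iha ihb =>
      intro e he
      have e1 : a * b * e * (a * b)⁻¹ * e⁻¹ = (a * (b * e * b⁻¹ * e⁻¹) * a⁻¹) * (a * e * a⁻¹ * e⁻¹) := by group
      rw [e1]
      refine mul_mem (hVnorm a ?_ _ (ihb e he)) (iha e he)
      rw [Subgroup.sup_eq_closure]; exact ha
    | inv a ha iha =>
      intro e he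
      have e1 : a⁻¹ * e * a⁻¹⁻¹ * e⁻¹ = a⁻¹ * (a * e * a⁻¹ * e⁻¹)⁻¹ * a⁻¹⁻¹ := by group
      rw [e1]
      refine hVnorm _ ?_ _ (inv_mem (iha e he))
      rw [Subgroup.sup_eq_closure]; exact inv_mem ha
  have hRX : R ≤ Q ⊔ P := hR ▸ R_le_X s
  have hVE : V ≤ E := by
    rw [hE]
    exact sup_le (Subgroup.zpowers_le.mpr (Subgroup.mem_inf.mpr ⟨s.es.mem, hzP⟩)) (Subgroup.zpowers_le.mpr (Subgroup.mem_inf.mpr ⟨s.mem, hy.mem⟩))
  let E' : Subgroup ↥R := E.subgroupOf R
  haveI hE'n : E'.Normal := ⟨fun e he x => by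
    show (x : G) * (e : G) * (x : G)⁻¹ ∈ E
    have h1 := hVE (hXE x (hRX x.2) e he)
    have h2 := mul_mem h1 (show (e : G) ∈ E from he)
    simpa [mul_assoc] using h2⟩
  let π := QuotientGroup.mk' E'
  have hone : ∀ x : ↥R, π x = 1 ↔ (x : G) ∈ E := fun x => QuotientGroup.eq_one_iff x
  have hgen : ∀ (u : G), u ∈ R → ∀ hu : u ∈ R, π ⟨u, hu⟩ ∈ Subgroup.center (↥R ⧸ E') ∧ π ⟨u, hu⟩ * π ⟨u, hu⟩ = 1 := by
    have hAB : ∀ (a b : G) (ha : a ∈ R) (hb : b ∈ R), a ∈ Q → Commute a y → b ∈ P → Commute b z → π ⟨a, ha⟩ * π ⟨b, hb⟩ = π ⟨b, hb⟩ * π ⟨a, ha⟩ := by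
      intro a b ha hb h1 h2 h3 h4
      rw [← mul_inv_eq_one, ← map_mul, ← map_mul, ← map_inv, ← map_mul, hone, hE]
      show a * b * (b * a)⁻¹ ∈ Q ⊓ P
      rw [show a * b * (b * a)⁻¹ = a * b * a⁻¹ * b⁻¹ by group]
      refine Subgroup.mem_inf.mpr ⟨?_, mul_mem (norm' s a h2 b h3) (inv_mem h3)⟩
      rw [show a * b * a⁻¹ * b⁻¹ = a * (b * a⁻¹ * b⁻¹) by group]
      exact mul_mem h1 (s.norm b h4 _ (inv_mem h1))
    have hbase : ∀ (a : G) (ha : a ∈ R), (a ∈ Q ∧ Commute a y) ∨ (a ∈ P ∧ Commute a z) → π ⟨a, ha⟩ * π ⟨a, ha⟩ = 1 ∧ ∀ (b : G) (hb : b ∈ R), (b ∈ Q ∧ Commute b y) ∨ (b ∈ P ∧ Commute b z) → π ⟨a, ha⟩ * π ⟨b, hb⟩ = π ⟨b, hb⟩ * π ⟨a, ha⟩ := by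
      intro a ha h
      refine ⟨?_, ?_⟩
      · rw [← map_mul, hone, hE]
        show a * a ∈ Q ⊓ P
        rcases h with ⟨h1, -⟩ | ⟨h1, -⟩
        · rcases s.es.sq_cases h1 with h' | h' <;> rw [h']
          exacts [one_mem _, Subgroup.mem_inf.mpr ⟨s.es.mem, hzP⟩]
        · rcases hy.sq_cases h1 with h' | h' <;> rw [h']
          exacts [one_mem _, Subgroup.mem_inf.mpr ⟨s.mem, hy.mem⟩]
      · intro b hb h'
        rcases h with ⟨h1, h2⟩ | ⟨h1, h2⟩ <;> rcases h' with ⟨h3, h4⟩ | ⟨h3, h4⟩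
        · rw [← mul_inv_eq_one, ← map_mul, ← map_mul, ← map_inv, ← map_mul, hone, hE]
          show a * b * (b * a)⁻¹ ∈ Q ⊓ P
          rw [show a * b * (b * a)⁻¹ = a * b * a⁻¹ * b⁻¹ by group]
          rcases s.es.conj a h1 b h3 with h5 | h5 <;> rw [h5]
          · simp
          · rw [(s.es.comm b h3).eq, mul_inv_cancel_right]; exact Subgroup.mem_inf.mpr ⟨s.es.mem, hzP⟩
        · exact hAB a b ha hb h1 h2 h3 h4
        · exact (hAB b a hb ha h3 h4 h1 h2).symm
        · rw [← mul_inv_eq_one, ← map_mul, ← map_mul, ← map_inv, ← map_mul, hone, hE]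
          show a * b * (b * a)⁻¹ ∈ Q ⊓ P
          rw [show a * b * (b * a)⁻¹ = a * b * a⁻¹ * b⁻¹ by group]
          rcases hy.conj a h1 b h3 with h5 | h5 <;> rw [h5]
          · simp
          · rw [(hy.comm b h3).eq, mul_inv_cancel_right]; exact Subgroup.mem_inf.mpr ⟨s.mem, hy.mem⟩
    have hA2 : ∀ a, a ∈ ((P ⊓ Subgroup.centralizer ({z} : Set G) : Subgroup G) : Set G) ∪ ((Q ⊓ Subgroup.centralizer ({y} : Set G) : Subgroup G) : Set G) → (a ∈ Q ∧ Commute a y) ∨ (a ∈ P ∧ Commute a z) := by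
      rintro a (h | h)
      exacts [Or.inr (mem_A.mp h), Or.inl (mem_A.mp h)]
    -- every element of R commutes mod E with the generators
    have hR0 : Subgroup.closure (((P ⊓ Subgroup.centralizer ({z} : Set G) : Subgroup G) : Set G) ∪ ((Q ⊓ Subgroup.centralizer ({y} : Set G) : Subgroup G) : Set G)) = R := by
      rw [← Subgroup.sup_eq_closure, ← hR]
    have hcent : ∀ (a : G) (ha : a ∈ R), (a ∈ Q ∧ Commute a y) ∨ (a ∈ P ∧ Commute a z) → π ⟨a, ha⟩ ∈ Subgroup.center (↥R ⧸ E') := by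
      intro a ha h
      rw [Subgroup.mem_center_iff]
      intro c
      obtain ⟨⟨c, hc⟩, rfl⟩ := QuotientGroup.mk'_surjective E' c
      have key : ∀ c ∈ R, ∀ hc : c ∈ R, Commute (π ⟨c, hc⟩) (π ⟨a, ha⟩) := by
        intro c hc0
        have hc1 := hsplitR c hc0
        clear hc0
        induction hc1 using Subgroup.closure_induction with
        | mem b hb => intro hbR; exact (show Commute _ _ from (hbase a ha h).2 b hbR (hA2 b hb)).symm
        | one => intro h1; rw [show (⟨1, h1⟩ : ↥R) = 1 from rfl, map_one]; exact Commute.one_left _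
        | mul u v hu hv ihu ihv =>
          intro h1
          have hu' : u ∈ R := hR0 ▸ hu
          have hv' : v ∈ R := hR0 ▸ hv
          rw [show (⟨u * v, h1⟩ : ↥R) = ⟨u, hu'⟩ * ⟨v, hv'⟩ from rfl, map_mul]
          exact (ihu hu').mul_left (ihv hv')
        | inv u hu ihu =>
          intro h1
          have hu' : u ∈ R := hR0 ▸ hu
          rw [show (⟨u⁻¹, h1⟩ : ↥R) = ⟨u, hu'⟩⁻¹ from rfl, map_inv]
          exact (ihu hu').inv_left
      exact (key c hc hc).eq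
    intro u hu0
    have hu1 := hsplitR u hu0
    clear hu0
    induction hu1 using Subgroup.closure_induction with
    | mem b hb => intro hbR; exact ⟨hcent b hbR (hA2 b hb), (hbase b hbR (hA2 b hb)).1⟩
    | one => intro h1; rw [show (⟨1, h1⟩ : ↥R) = 1 from rfl, map_one]; exact ⟨one_mem _, one_mul _⟩
    | mul u v hu hv ihu ihv =>
      intro h1
      have hu' : u ∈ R := hR0 ▸ hu
      have hv' : v ∈ R := hR0 ▸ hv
      rw [show (⟨u * v, h1⟩ : ↥R) = ⟨u, hu'⟩ * ⟨v, hv'⟩ from rfl, map_mul]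
      obtain ⟨a1, a2⟩ := ihu hu'
      obtain ⟨b1, b2⟩ := ihv hv'
      exact ⟨mul_mem a1 b1, by rw [((show Commute (π ⟨v, hv'⟩) (π ⟨u, hu'⟩) from (Subgroup.mem_center_iff.mp a1 _))).mul_mul_mul_comm, a2, b2, one_mul]⟩
    | inv u hu ihu =>
      intro h1
      have hu' : u ∈ R := hR0 ▸ hu
      rw [show (⟨u⁻¹, h1⟩ : ↥R) = ⟨u, hu'⟩⁻¹ from rfl, map_inv]
      obtain ⟨a1, a2⟩ := ihu hu'
      exact ⟨inv_mem a1, by rw [← mul_inv_rev, a2, inv_one]⟩
  have hquot : ∀ x ∈ R, ∀ w ∈ R, x * w * x⁻¹ * w⁻¹ ∈ E ∧ x ^ 2 ∈ E := by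
    intro x hx w hw
    obtain ⟨c1, c2⟩ := hgen x hx hx
    have hcm : π ⟨w, hw⟩ * π ⟨x, hx⟩ = π ⟨x, hx⟩ * π ⟨w, hw⟩ := Subgroup.mem_center_iff.mp c1 _
    refine ⟨(hone (⟨x, hx⟩ * ⟨w, hw⟩ * ⟨x, hx⟩⁻¹ * ⟨w, hw⟩⁻¹)).mp ?_, (hone (⟨x, hx⟩ ^ 2)).mp ?_⟩
    · rw [map_mul, map_mul, map_mul, map_inv, map_inv, ← hcm, mul_inv_cancel_right, mul_inv_cancel]
    · rw [map_pow, pow_two]; exact c2
  have hcenter : (Subgroup.center ↥R).map R.subtype = V := by
    refine le_antisymm ?_ fun v hv => ⟨⟨v, hVR hv⟩, Subgroup.mem_center_iff.mpr fun r => Subtype.ext (hRC r.2 v hv).symm, rfl⟩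
    rintro _ ⟨⟨x, hx⟩, hxc, rfl⟩
    have hc : ∀ r ∈ R, Commute r x := fun r hr => congrArg Subtype.val (Subgroup.mem_center_iff.mp hxc ⟨r, hr⟩)
    have hxz : Commute x z := (hc z (memR_A z s.es.mem hzy)).symm
    obtain ⟨q₀, hq₀, hqy⟩ := exists_conj_y s
    set e := q₀⁻¹ * (x * q₀ * x⁻¹) with hedef
    have heQ : e ∈ Q := mul_mem (inv_mem hq₀) (s.norm x hxz q₀ hq₀)
    have heV : e ∈ V := by
      refine mem_four_of_commute s heQ fun a ha hay => ?_
      have hax : x * a * x⁻¹ = a := mul_inv_eq_iff_eq_mul.mpr (hc a (memR_A a ha hay)).eq.symm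
      rcases s.es.conj q₀ hq₀ a ha with h | h
      · have h' : Commute q₀ a := mul_inv_eq_iff_eq_mul.mp h
        have h2 : Commute (x * q₀ * x⁻¹) a := by
          have := h'.map (MulAut.conj x).toMonoidHom
          simpa [hax] using this
        exact (h'.inv_left).mul_left h2
      · have h2 : (x * q₀ * x⁻¹) * a * (x * q₀ * x⁻¹)⁻¹ = a * z := by
          calc (x * q₀ * x⁻¹) * a * (x * q₀ * x⁻¹)⁻¹ = x * (q₀ * (x⁻¹ * (x * a * x⁻¹) * x) * q₀⁻¹) * x⁻¹ := by rw [hax]; group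
            _ = x * (q₀ * a * q₀⁻¹) * x⁻¹ := by group
            _ = (x * a * x⁻¹) * (x * z * x⁻¹) := by rw [h]; group
            _ = a * z := by rw [hax, mul_inv_eq_iff_eq_mul.mpr hxz.eq]
        refine mul_inv_eq_iff_eq_mul.mp (?_ : e * a * e⁻¹ = a)
        calc e * a * e⁻¹ = q₀⁻¹ * ((x * q₀ * x⁻¹) * a * (x * q₀ * x⁻¹)⁻¹) * q₀ := by rw [hedef]; group
          _ = q₀⁻¹ * (q₀ * a * q₀⁻¹) * q₀ := by rw [h2, h]
          _ = a := by group
    have hxq : x * q₀ * x⁻¹ = q₀ * e := by rw [hedef, mul_inv_cancel_left]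
    have hsq : (q₀ * e) * (q₀ * e) = q₀ * q₀ := by
      rw [← hxq]
      rcases s.es.sq_cases hq₀ with h | h
      · calc (x * q₀ * x⁻¹) * (x * q₀ * x⁻¹) = x * (q₀ * q₀) * x⁻¹ := by group
          _ = q₀ * q₀ := by rw [h]; simp
      · calc (x * q₀ * x⁻¹) * (x * q₀ * x⁻¹) = x * (q₀ * q₀) * x⁻¹ := by group
          _ = q₀ * q₀ := by rw [h, mul_inv_eq_iff_eq_mul.mpr hxz.eq]
    have hzq : Commute z q₀ := (s.es.comm q₀ hq₀).symm
    have hyy : q₀ * y ≠ y * q₀ := by
      intro h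
      rw [mul_inv_eq_iff_eq_mul.mpr h, left_eq_mul] at hqy
      exact s.es.ne hqy
    have he2 : e = 1 ∨ e = z := by
      have ee : Commute e q₀ → e = 1 ∨ e = z := by
        intro hce
        rcases four_cases s heV with h | h | h | h
        · exact Or.inl h
        · exact Or.inr h
        · rw [h] at hce; exact absurd hce.eq.symm hyy
        · exfalso
          apply hyy
          have h1 : Commute (z * (z * y)) q₀ := hzq.mul_left (h ▸ hce)
          rw [← mul_assoc, s.es.sq, one_mul] at h1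
          exact h1.eq.symm
      refine ee ?_
      have he1 : e * e = 1 := by rw [← pow_two]; exact hsqE e (hVE heV)
      have h1 : e * q₀ * e = q₀ := mul_left_cancel (show q₀ * (e * q₀ * e) = q₀ * q₀ by rw [← hsq]; group)
      calc e * q₀ = e * q₀ * (e * e) := by rw [he1, mul_one]
        _ = (e * q₀ * e) * e := by group
        _ = q₀ * e := by rw [h1]
    -- x or xy centralises Q
    have hfinal : ∀ w : G, Commute w q₀ → (∀ a ∈ Q, Commute a y → Commute w a) → w ∈ V := by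
      intro w hw1 hw2
      have hall : ∀ q ∈ Q, Commute w q := by
        intro q hq
        rcases s.es.conj q hq y s.mem with h | h
        · exact hw2 q hq (mul_inv_eq_iff_eq_mul.mp h)
        · have hm : Commute (q₀⁻¹ * q) y := by
            refine mul_inv_eq_iff_eq_mul.mp (?_ : q₀⁻¹ * q * y * (q₀⁻¹ * q)⁻¹ = y)
            calc q₀⁻¹ * q * y * (q₀⁻¹ * q)⁻¹ = q₀⁻¹ * (q * y * q⁻¹) * q₀ := by group
              _ = q₀⁻¹ * (q₀ * y * q₀⁻¹) * q₀ := by rw [h, hqy]
              _ = y := by group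
          have := hw1.mul_right (hw2 _ (mul_mem (inv_mem hq₀) hq) hm)
          simpa using this
      rcases s.cent w hall with h | h <;> rw [h]
      exacts [one_mem _, Subgroup.mem_sup_left (Subgroup.mem_zpowers z)]
    have hxa : ∀ a ∈ Q, Commute a y → Commute x a := fun a ha hay => (hc a (memR_A a ha hay)).symm
    rcases he2 with h | h
    · exact hfinal x (mul_inv_eq_iff_eq_mul.mp (hxq.trans (by rw [h, mul_one]))) hxa
    · have h1 : x * y ∈ V := by
        refine hfinal _ ?_ (fun a ha hay => (hxa a ha hay).mul_left hay.symm)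
        refine mul_inv_eq_iff_eq_mul.mp (?_ : x * y * q₀ * (x * y)⁻¹ = q₀)
        have hy' : y * q₀ * y⁻¹ = q₀ * z := by
          calc y * q₀ * y⁻¹ = q₀ * ((q₀⁻¹ * y * q₀) * y⁻¹) := by group
            _ = q₀ * ((y * z) * y⁻¹) := by
              congr 2
              have h0 : q₀ * z * q₀⁻¹ = z := mul_inv_eq_iff_eq_mul.mpr hzq.eq.symm
              calc q₀⁻¹ * y * q₀ = q₀⁻¹ * ((y * z) * z) * q₀ := by rw [mul_assoc y, s.es.sq, mul_one]
                _ = q₀⁻¹ * ((q₀ * y * q₀⁻¹) * (q₀ * z * q₀⁻¹)) * q₀ := by rw [hqy, h0]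
                _ = y * z := by group
            _ = q₀ * z := by rw [← hzy.eq, mul_inv_cancel_right]
        calc x * y * q₀ * (x * y)⁻¹ = x * (y * q₀ * y⁻¹) * x⁻¹ := by group
          _ = (x * q₀ * x⁻¹) * (x * z * x⁻¹) := by rw [hy']; group
          _ = q₀ := by rw [hxq, h, mul_inv_eq_iff_eq_mul.mpr hxz.eq, mul_assoc, s.es.sq, mul_one]
      have h2 := mul_mem h1 (inv_mem (Subgroup.mem_sup_right (S := Subgroup.zpowers z) (Subgroup.mem_zpowers y)))
      simpa using h2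
  have hE2 : E ≤ (Subgroup.upperCentralSeries ↥R 2).map R.subtype := by
    intro e he
    refine ⟨⟨e, hER he⟩, ?_, rfl⟩
    show (⟨e, hER he⟩ : ↥R) ∈ Subgroup.upperCentralSeries ↥R 2
    rw [Subgroup.mem_upperCentralSeries_succ_iff]
    intro w
    rw [Subgroup.upperCentralSeries_one]
    have h1 : e * w * e⁻¹ * (w : G)⁻¹ ∈ V := by
      have := inv_mem (hXE w (hRX w.2) e he)
      simpa [mul_assoc] using this
    rw [← hcenter] at h1
    obtain ⟨t, ht, hte⟩ := h1
    rw [commutatorElement_def]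
    exact (Subtype.ext hte : t = ⟨e, hER he⟩ * w * ⟨e, hER he⟩⁻¹ * w⁻¹) ▸ ht
  refine ⟨hcenter, hE2, ?_, hEelem, hquot, hcap, ?_⟩
  · rw [eq_top_iff]
    intro x _
    rw [Subgroup.mem_upperCentralSeries_succ_iff]
    intro w
    obtain ⟨t, ht, hte⟩ := hE2 (hquot x x.2 w w.2).1
    rw [commutatorElement_def]
    exact (Subtype.ext hte : t = x * w * x⁻¹ * w⁻¹) ▸ ht
  · rw [Subgroup.commutator_le]
    intro x hx e he
    rw [commutatorElement_def]
    exact hXE x hx e he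

end Cfsg.Agent.S5431
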