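import Cfsg.Statements.S5432
-- import your own Cfsg.Agent.* helpers here
import Cfsg.Agent.Lib.Extraspecial.OutModel

set_option autoImplicit false
open Cfsg

namespace Cfsg.Agent.S5432

open Cfsg.Agent.Lib.Extraspecial Cfsg.Agent.Lib.Extraspecial.OutModel

theorem exists_elemAb_map {A B : Type*} [Group A] [Group B] (e : A ≃* B) (k : ℕ)
    (hA : ∃ X : Subgroup A, Cfsg.IsElementaryAbelian 2 X ∧ Nat.card X = k) :
    ∃ Y : Subgroup B, Cfsg.IsElementaryAbelian 2 Y ∧ Nat.card Y = k := by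
  obtain ⟨X, ⟨hc, he⟩, hk⟩ := hA
  refine ⟨X.map e.toMonoidHom, ⟨⟨⟨fun a b => ?_⟩⟩, ?_⟩, ?_⟩
  · obtain ⟨_, x, hx, rfl⟩ := a
    obtain ⟨_, y, hy, rfl⟩ := b
    refine Subtype.ext ?_
    show e x * e y = e y * e x
    rw [← map_mul, ← map_mul]
    exact congrArg e (congrArg Subtype.val (hc.is_comm.comm ⟨x, hx⟩ ⟨y, hy⟩))
  · rintro _ ⟨x, hx, rfl⟩
    rw [← map_pow, he x hx, map_one]
  · exact (Subgroup.card_map_of_injective (f := e.toMonoidHom) e.injective).trans hk

/-- Let E be an extraspecial 2-group of order 2^(2n+1), n ≥ 1. If E contains an elementary abelian subgroup of order 2^(n+1) (plus type), then its outer automorphism group is isomorphic to the full isometry group of the hyperbolic quadratic form in dimension 2n over the field with two elements; otherwise (minus type) it is isomorphic to the full isometry group of the elliptic quadratic form in dimension 2n over that field. -/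
theorem result {E : Type*} [Group E] [Finite E] (hE : Cfsg.IsExtraspecial 2 E) (n : ℕ) (hn : 1 ≤ n) (hcard : Nat.card E = 2 ^ (2 * n + 1)) : ((∃ A : Subgroup E, Cfsg.IsElementaryAbelian 2 A ∧ Nat.card ↥A = 2 ^ (n + 1)) → Nonempty (Cfsg.Out E ≃* Cfsg.isometryGroup (ZMod 2) (Cfsg.quadFormPlus n (ZMod 2)))) ∧ ((¬ ∃ A : Subgroup E, Cfsg.IsElementaryAbelian 2 A ∧ Nat.card ↥A = 2 ^ (n + 1)) → Nonempty (Cfsg.Out E ≃* Cfsg.isometryGroup (ZMod 2) (Cfsg.quadFormMinus (n - 1) (ZMod 2) 1 1))) := by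
  haveI : Fact (Nat.Prime 2) := ⟨Nat.prime_two⟩
  obtain ⟨z, hz⟩ := exists_esData hE
  obtain ⟨m, rfl⟩ : ∃ m, n = m + 1 := ⟨n - 1, by omega⟩
  have hP : Nat.card (Model (plusMat (m + 1))) = 2 ^ (2 * (m + 1) + 1) := by
    rw [card_model]; simp; ring_nf
  have hM : Nat.card (Model (minusMat m)) = 2 ^ (2 * (m + 1) + 1) := by
    rw [card_model]; simp; ring_nf
  refine ⟨fun hA => ?_, fun hA => ?_⟩
  · rw [← qf_plus]
    rcases two_of_three hz (esData (plusMat_sq (m + 1))) (esData (minusMat_sq m))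
      (hcard.trans hP.symm) (hP.trans hM.symm) with ⟨e, -⟩ | ⟨e, -⟩ | ⟨e, -⟩
    · exact ⟨(outCongr e).trans (outEquiv (plusMat_sq (m + 1)))⟩
    · exact absurd (exists_elemAb_map e _ (plus_exists (m + 1))) (minus_not_exists m)
    · exact absurd (exists_elemAb_map e _ hA) (minus_not_exists m)
  · rw [Nat.add_sub_cancel, ← qf_minus]
    rcases two_of_three hz (esData (plusMat_sq (m + 1))) (esData (minusMat_sq m))
      (hcard.trans hP.symm) (hP.trans hM.symm) with ⟨e, -⟩ | ⟨e, -⟩ | ⟨e, -⟩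
    · exact absurd (exists_elemAb_map e.symm _ (plus_exists (m + 1))) hA
    · exact absurd (exists_elemAb_map e _ (plus_exists (m + 1))) (minus_not_exists m)
    · exact ⟨(outCongr e).trans (outEquiv (minusMat_sq m))⟩

end Cfsg.Agent.S5432
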