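import Cfsg.Statements.S5433
import Cfsg.Agent.Lib.LargeExtra.Basic

set_option autoImplicit false
set_option linter.style.haveILetI false
open Cfsg

namespace Cfsg.Agent.S5433

/-- Let Q be a large extraspecial 2-subgroup of the finite group G (extraspecial; centralizer equal to its centre; normal in the centralizer of its centre; normalizing no non-trivial subgroup of odd order), and L a normal subgroup of G containing Q. Then G is the product of L and the normalizer of Q. -/
theorem result {G : Type*} [Group G] [Finite G] (Q : Subgroup G) (hQ : Cfsg.IsLargeExtraspecial Q) (L : Subgroup G) [L.Normal] (hQL : Q ≤ L) : L ⊔ Subgroup.normalizer (Q : Set G) = ⊤ := by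
  open Cfsg.Agent.Lib.LargeExtra.Basic in
  haveI : Fact (Nat.Prime 2) := ⟨Nat.prime_two⟩
  obtain ⟨z, hz2, hzZ⟩ := exists_z hQ.1
  have hzm : z ∈ (Subgroup.center ↥Q).map Q.subtype := hzZ ▸ Subgroup.mem_zpowers z
  obtain ⟨S, hS⟩ := ((isPGroup hQ.1).comap_subtype (K := L)).exists_le_sylow
  let S' : Subgroup G := (S : Subgroup ↥L).map L.subtype
  have hSp : IsPGroup 2 S' := S.2.map _
  have hQS : Q ≤ S' := fun q hq => ⟨⟨q, hQL hq⟩, hS (show (⟨q, hQL hq⟩ : ↥L) ∈ Q.comap L.subtype from hq), rfl⟩
  have hne : Nontrivial ↥S' := by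
    refine (Subgroup.nontrivial_iff_ne_bot _).mpr fun h => ?_
    have := hQS (mem_centerMap.mp hzm).1
    rw [h, Subgroup.mem_bot] at this
    rw [this, orderOf_one] at hz2
    exact absurd hz2 (by norm_num)
  obtain ⟨⟨c, hc⟩, hcne⟩ := (haveI := hSp.center_nontrivial; exists_ne (1 : Subgroup.center ↥S'))
  have hcC : ∀ y ∈ S', y * (c : G) = (c : G) * y := fun y hy =>
    congrArg Subtype.val (Subgroup.mem_center_iff.mp hc ⟨y, hy⟩)
  have hcz : (c : G) = z := by
    have h1 : (c : G) ∈ Subgroup.centralizer (Q : Set G) :=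
      Subgroup.mem_centralizer_iff.mpr fun q hq => hcC q (hQS hq)
    rw [hQ.2.1, hzZ] at h1
    exact (eq_one_or_eq hz2 h1).resolve_left fun h => hcne (Subtype.ext (Subtype.ext h))
  rw [eq_top_iff]
  intro g _
  haveI : Finite (Sylow 2 ↥L) := inferInstance
  have hF := Sylow.normalizer_sup_eq_top S
  have hg : g ∈ Subgroup.normalizer ((S' : Subgroup G) : Set G) ⊔ L := hF ▸ Subgroup.mem_top g
  have hNle : Subgroup.normalizer ((S' : Subgroup G) : Set G) ≤ Subgroup.normalizer (Q : Set G) := by
    intro n hn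
    refine hQ.2.2.1 ?_
    rw [hzZ, Subgroup.mem_centralizer_iff]
    have hnz : n * z * n⁻¹ = z := by
      have hzS : z ∈ S' := hQS (mem_centerMap.mp hzm).1
      have h1 : n * z * n⁻¹ ∈ Subgroup.centralizer (Q : Set G) := by
        rw [Subgroup.mem_centralizer_iff]
        intro q hq
        have hq' : n⁻¹ * q * n ∈ S' := (Subgroup.mem_normalizer_iff''.mp hn q).mp (hQS hq)
        have := hcC _ hq'
        rw [hcz] at this
        calc q * (n * z * n⁻¹) = n * ((n⁻¹ * q * n) * z) * n⁻¹ := by group
          _ = n * (z * (n⁻¹ * q * n)) * n⁻¹ := by rw [this]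
          _ = _ := by group
      rw [hQ.2.1, hzZ] at h1
      refine (eq_one_or_eq hz2 h1).resolve_left fun h => ?_
      have : z = 1 := conj_eq_one_iff.mp h
      rw [this, orderOf_one] at hz2
      exact absurd hz2 (by norm_num)
    intro w hw
    obtain ⟨i, rfl⟩ := hw
    exact ((show Commute n z from mul_inv_eq_iff_eq_mul.mp hnz).zpow_right i).eq.symm
  have := sup_le_sup hNle (le_refl L) hg
  rwa [sup_comm]

end Cfsg.Agent.S5433
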