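import Cfsg.Statements.S5434
import Cfsg.Agent.Lib.LargeExtra.TwoConjugate
import Cfsg.Agent.Lib.Coprime.Commutator
import Cfsg.Agent.Lib.PGroups.Frattini

set_option autoImplicit false
open Cfsg

namespace Cfsg.Agent.S5434

open Cfsg.Agent.Lib.LargeExtraspecial.Basic
open scoped commutatorElement

/-- A nonabelian subgroup of an extraspecial 2-group with complementary centraliser is extraspecial. -/
theorem extraspecial_factor {G : Type*} [Group G] [Finite G] {Q : Subgroup G} {z : G} (h : ES Q z)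
    (hQ2 : IsPGroup 2 ↥Q) (hz2 : orderOf z = 2) (H K : Subgroup G) (hsup : H ⊔ K = Q)
    (hcomm : ∀ x ∈ H, ∀ y ∈ K, Commute x y) (hna : ∃ a ∈ H, ∃ b ∈ H, ¬ Commute a b) :
    Cfsg.IsExtraspecial 2 ↥H := by
  haveI : Fact (Nat.Prime 2) := ⟨Nat.prime_two⟩
  have hHQ : H ≤ Q := hsup ▸ le_sup_left
  obtain ⟨a, ha, b, hb, hab⟩ := hna
  have hzH : z ∈ H := by
    rcases h.conj a (hHQ ha) b (hHQ hb) with h1 | h1
    · exact absurd (mul_inv_eq_iff_eq_mul.mp h1) hab
    · have h2 : b⁻¹ * (a * b * a⁻¹) ∈ H := mul_mem (inv_mem hb) (mul_mem (mul_mem ha hb) (inv_mem ha))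
      simpa [h1] using h2
  have hcen : ∀ x : ↥H, x ∈ Subgroup.center ↥H ↔ ((x : G) = 1 ∨ (x : G) = z) := by
    intro x
    constructor
    · intro hx
      refine h.center x (hHQ x.2) fun p hp => ?_
      have hle : Q ≤ Subgroup.centralizer ({(x : G)} : Set G) := by
        rw [← hsup]
        refine sup_le (fun y hy => Subgroup.mem_centralizer_singleton_iff.mpr ?_)
          (fun y hy => Subgroup.mem_centralizer_singleton_iff.mpr (hcomm x x.2 y hy).eq.symm)
        exact congrArg Subtype.val (Subgroup.mem_center_iff.mp hx ⟨y, hy⟩)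
      exact Subgroup.mem_centralizer_singleton_iff.mp (hle hp)
    · intro hx
      rw [Subgroup.mem_center_iff]
      intro y
      apply Subtype.ext
      show (y : G) * x = x * y
      rcases hx with hx | hx <;> rw [hx]
      · simp
      · exact (h.comm y (hHQ y.2)).eq
  have hH2 : IsPGroup 2 ↥H := hQ2.to_le hHQ
  have hcard : Nat.card (Subgroup.center ↥H) = 2 := by
    rw [← Subgroup.card_map_of_injective (K := Subgroup.center ↥H) H.subtype_injective]
    have : (Subgroup.center ↥H).map H.subtype = Subgroup.zpowers z := by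
      ext x
      constructor
      · rintro ⟨y, hy, rfl⟩
        rcases (hcen y).mp hy with hy | hy <;> simp only [Subgroup.coe_subtype, hy]
        exacts [one_mem _, Subgroup.mem_zpowers z]
      · intro hx
        rcases Cfsg.Agent.Lib.LargeExtra.Basic.eq_one_or_eq hz2 hx with rfl | rfl
        · exact one_mem _
        · exact ⟨⟨x, hzH⟩, (hcen _).mpr (Or.inr rfl), rfl⟩
    rw [this, Nat.card_zpowers, hz2]
  have hc : ∀ x y : ↥H, ⁅x, y⁆ ∈ Subgroup.center ↥H := by
    intro x y
    rw [hcen]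
    show (x : G) * y * (x : G)⁻¹ * (y : G)⁻¹ = 1 ∨ (x : G) * y * (x : G)⁻¹ * (y : G)⁻¹ = z
    rcases h.conj x (hHQ x.2) y (hHQ y.2) with h1 | h1 <;> rw [h1]
    · exact Or.inl (mul_inv_cancel _)
    · exact Or.inr (by rw [(h.comm y (hHQ y.2)).eq, mul_inv_cancel_right])
  have hder : commutator ↥H = Subgroup.center ↥H := by
    refine le_antisymm (Subgroup.commutator_le.mpr fun x _ y _ => hc x y) fun x hx => ?_
    rcases (hcen x).mp hx with h1 | h1
    · rw [show x = 1 from Subtype.ext h1]; exact one_mem _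
    · have h2 : ⁅(⟨a, ha⟩ : ↥H), (⟨b, hb⟩ : ↥H)⁆ = x := by
        apply Subtype.ext
        show a * b * a⁻¹ * b⁻¹ = (x : G)
        rcases h.conj a (hHQ ha) b (hHQ hb) with h2 | h2
        · exact absurd (mul_inv_eq_iff_eq_mul.mp h2) hab
        · rw [h2, h1, (h.comm b (hHQ hb)).eq, mul_inv_cancel_right]
      exact h2 ▸ Subgroup.commutator_mem_commutator (Subgroup.mem_top _) (Subgroup.mem_top _)
  refine ⟨⟨hH2, ?_, hder⟩, hcard⟩
  refine le_antisymm (Cfsg.Agent.Lib.PGroups.frattini_le_of_pow_commutator (p := 2) _ ?_ hder.le) ?_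
  · intro x
    rw [hcen]
    show ((x : G) ^ 2) = 1 ∨ ((x : G) ^ 2) = z
    rw [pow_two]
    exact h.sq_cases (hHQ x.2)
  · rw [← hder]
    exact Cfsg.Agent.Lib.PGroups.commutator_le_frattini (p := 2) hH2

/-- Let Q be a large extraspecial 2-subgroup of the finite group G (extraspecial; centralizer equal to its centre; normal in the centralizer of its centre; normalizing no non-trivial subgroup of odd order), and A a non-trivial subgroup of odd order of the normalizer of Q. Then Q is the central product of the centralizer of A in Q and the commutator subgroup [Q, A] (they generate Q and commute elementwise), [Q, A] is extraspecial, and the centralizer of A in Q is either the centre of Q or extraspecial. -/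
theorem result {G : Type*} [Group G] [Finite G] (Q : Subgroup G) (hQ : Cfsg.IsLargeExtraspecial Q) (A : Subgroup G) (hA : A ≤ Subgroup.normalizer (Q : Set G)) (hAodd : Odd (Nat.card ↥A)) (hA1 : A ≠ ⊥) : (Q ⊓ Subgroup.centralizer (A : Set G)) ⊔ ⁅Q, A⁆ = Q ∧ (∀ x ∈ Q ⊓ Subgroup.centralizer (A : Set G), ∀ y ∈ ⁅Q, A⁆, x * y = y * x) ∧ Cfsg.IsExtraspecial 2 ↥⁅Q, A⁆ ∧ (Q ⊓ Subgroup.centralizer (A : Set G) = ((Subgroup.center ↥Q).map Q.subtype) ∨ Cfsg.IsExtraspecial 2 ↥(Q ⊓ Subgroup.centralizer (A : Set G))) := by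

  haveI : Fact (Nat.Prime 2) := ⟨Nat.prime_two⟩
  obtain ⟨hext, hcen, hnorm, -⟩ := hQ
  obtain ⟨z, hz2, hzZ⟩ := Cfsg.Agent.Lib.LargeExtra.Basic.exists_z hext
  obtain ⟨hes, -⟩ := Cfsg.Agent.Lib.LargeExtra.TwoConjugate.es_of hext hzZ
  have hcent := Cfsg.Agent.Lib.LargeExtra.TwoConjugate.centralizer_eq_of hz2 hzZ hcen
  have hQ2 : IsPGroup 2 ↥Q := Cfsg.Agent.Lib.LargeExtra.Basic.isPGroup hext
  obtain ⟨k, hk⟩ := IsPGroup.iff_card.mp hQ2
  have hcop : (Nat.card ↥A).Coprime (Nat.card ↥Q) := by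
    rw [hk]
    exact Nat.Coprime.pow_right k (Nat.coprime_two_right.mpr hAodd)
  have hsolv : Group.IsSolvable A ∨ Group.IsSolvable Q := Or.inr (by
    haveI := hQ2.isNilpotent
    infer_instance)
  have hDQ : ⁅Q, A⁆ ≤ Q := Cfsg.Agent.Lib.Coprime.commutator_le_of_le_normalizer hA
  have haz : ∀ a ∈ A, Commute a z := by
    intro a ha
    have hn := Subgroup.mem_normalizer_iff.mp (hA ha)
    have h1 : a * z * a⁻¹ ∈ Q := (hn z).mp hes.mem
    rcases hes.center _ h1 (fun p hp => by
      have h2 : a⁻¹ * p * a ∈ Q := (Subgroup.mem_normalizer_iff''.mp (hA ha) p).mp hp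
      have h3 := (hes.comm _ h2).map (MulAut.conj a).toMonoidHom
      simpa [mul_assoc] using h3) with h2 | h2
    · exact absurd (by simpa using h2) hes.ne
    · exact mul_inv_eq_iff_eq_mul.mp h2
  have hzC : z ∈ Q ⊓ Subgroup.centralizer (A : Set G) := ⟨hes.mem, fun a ha => (haz a ha).eq⟩
  have hsup : (Q ⊓ Subgroup.centralizer (A : Set G)) ⊔ ⁅Q, A⁆ = Q := by
    rw [sup_comm]
    exact Cfsg.Agent.Lib.Coprime.commutator_sup_centralizer hA hcop hsolv
  have hcomm : ∀ x ∈ Q ⊓ Subgroup.centralizer (A : Set G), ∀ y ∈ ⁅Q, A⁆, Commute x y := by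
    rintro c ⟨hcQ, hcA⟩
    have hle : ⁅Q, A⁆ ≤ Subgroup.centralizer ({c} : Set G) := by
      rw [Subgroup.commutator_le]
      intro q hq a ha
      rw [Subgroup.mem_centralizer_singleton_iff, commutatorElement_def]
      have hm : a * q⁻¹ * a⁻¹ ∈ Q := (Subgroup.mem_normalizer_iff.mp (hA ha) _).mp (inv_mem hq)
      have h1 : chi c (q * (a * q⁻¹ * a⁻¹)) = 0 := by
        rw [hes.chi_mul_right hcQ hq hm]
        have h2 := chi_conj a c q⁻¹
        rw [mul_inv_eq_iff_eq_mul.mpr (hcA a ha)] at h2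
        rw [h2, ← hes.chi_mul_right hcQ hq (inv_mem hq), mul_inv_cancel]
        exact chi_eq_zero.mpr (Commute.one_right c)
      have h3 := (chi_eq_zero.mp h1).eq.symm
      simpa [mul_assoc] using h3
    exact fun y hy => (Subgroup.mem_centralizer_singleton_iff.mp (hle hy) : y * c = c * y).symm
  have hna : ∃ a ∈ ⁅Q, A⁆, ∃ b ∈ ⁅Q, A⁆, ¬ Commute a b := by
    by_contra hc
    push Not at hc
    have hDz : ∀ d ∈ ⁅Q, A⁆, d = 1 ∨ d = z := by
      intro d hd
      refine hcent d fun q hq => ?_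
      have hle : Q ≤ Subgroup.centralizer ({d} : Set G) := by
        rw [← hsup]
        exact sup_le (fun y hy => Subgroup.mem_centralizer_singleton_iff.mpr (hcomm y hy d hd).eq)
          (fun y hy => Subgroup.mem_centralizer_singleton_iff.mpr (hc d hd y hy).eq.symm)
      exact (Subgroup.mem_centralizer_singleton_iff.mp (hle hq)).symm
    have hA0 : A ≤ Subgroup.centralizer (Q : Set G) := by
      refine Cfsg.Agent.Lib.Coprime.le_centralizer_of_commutator_commutator
        (hcop.coprime_dvd_right (Subgroup.card_dvd_of_le hDQ)) ?_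
      rw [Subgroup.commutator_eq_bot_iff_le_centralizer]
      intro d hd
      rw [Subgroup.mem_centralizer_iff]
      intro a ha
      rcases hDz d hd with h | h <;> rw [h]
      exacts [(Commute.one_right a).eq, (haz a ha).eq]
    refine hA1 ((Subgroup.eq_bot_iff_forall A).mpr fun a ha => ?_)
    have h1 : a ∈ A ⊓ Q := ⟨ha, by
      rcases hcent a (fun q hq => (Subgroup.mem_centralizer_iff.mp (hA0 ha) q hq).symm) with h | h <;> rw [h]
      exacts [one_mem _, hes.mem]⟩
    rwa [Cfsg.Agent.Lib.LargeExtra.Basic.odd_inf_two_eq_bot hAodd hQ2, Subgroup.mem_bot] at h1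
  refine ⟨hsup, fun x hx y hy => (hcomm x hx y hy).eq, extraspecial_factor hes hQ2 hz2 _ (Q ⊓ Subgroup.centralizer (A : Set G)) ((sup_comm (⁅Q, A⁆) (Q ⊓ Subgroup.centralizer (A : Set G))).trans hsup) (fun x hx y hy => (hcomm y hy x hx).symm) hna, ?_⟩
  by_cases hC : ∃ a ∈ Q ⊓ Subgroup.centralizer (A : Set G), ∃ b ∈ Q ⊓ Subgroup.centralizer (A : Set G), ¬ Commute a b
  · exact Or.inr (extraspecial_factor hes hQ2 hz2 _ _ hsup hcomm hC)
  · left
    push Not at hC
    rw [hzZ]
    refine le_antisymm ?_ (Subgroup.zpowers_le.mpr hzC)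
    intro c hc
    rcases hcent c (fun q hq => by
      have hle : Q ≤ Subgroup.centralizer ({c} : Set G) := by
        rw [← hsup]
        exact sup_le (fun y hy => Subgroup.mem_centralizer_singleton_iff.mpr (hC c hc y hy).eq.symm)
          (fun y hy => Subgroup.mem_centralizer_singleton_iff.mpr (hcomm c hc y hy).eq.symm)
      exact (Subgroup.mem_centralizer_singleton_iff.mp (hle hq)).symm) with h | h <;> rw [h]
    exacts [one_mem _, Subgroup.mem_zpowers z]

end Cfsg.Agent.S5434
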