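import Cfsg.Statements.S5435
import Cfsg.Agent.Lib.Transfer.Fusion
import Cfsg.Agent.Lib.Fusion.Thompson
import Cfsg.Agent.Lib.TwoGroups.Recognition
import Cfsg.Agent.Lib.PLocal.CoprimeOperatorAct
import Cfsg.Agent.Lib.PGroups.Frattini
import Cfsg.Agent.Lib.LargeExtra.Basic

set_option autoImplicit false
open Cfsg

namespace Cfsg.Agent.S5435

open scoped commutatorElement
open scoped Pointwise
variable {G : Type*} [Group G]

/-- The standing facts about `R = C(z)`. -/
structure Ctx (R : Subgroup G) (z : G) : Prop where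
  mem_iff : ∀ c, c ∈ R ↔ Commute c z
  sq : z * z = 1
  ne : z ≠ 1
  norm : ∀ n ∈ Subgroup.normalizer (R : Set G), n ∈ R
  sqs : ∀ x ∈ R, x * x = 1 ∨ x * x = z
  conj : ∀ x ∈ R, ∀ v ∈ R, x * v * x⁻¹ = v ∨ x * v * x⁻¹ = v * z
  nonab : ∃ a ∈ R, ∃ b ∈ R, ¬ Commute a b

/-- An elementary abelian subgroup of index two of `R` containing `z`. -/
structure Good (R : Subgroup G) (z : G) (A : Subgroup G) : Prop where
  le : A ≤ R
  sq : ∀ a ∈ A, a * a = 1
  memz : z ∈ A
  split : ∃ t ∈ R, t ∉ A ∧ ∀ x ∈ R, x ∈ A ∨ t⁻¹ * x ∈ A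

variable {R : Subgroup G} {z : G}

theorem Good.comm {A : Subgroup G} (hA : Good R z A) {a b : G} (ha : a ∈ A) (hb : b ∈ A) :
    Commute a b := by
  have h1 := hA.sq _ (mul_mem ha hb)
  have ha' := inv_eq_of_mul_eq_one_right (hA.sq a ha)
  have hb' := inv_eq_of_mul_eq_one_right (hA.sq b hb)
  calc a * b = (a * b)⁻¹ := (inv_eq_of_mul_eq_one_right h1).symm
    _ = b * a := by rw [mul_inv_rev, ha', hb']

theorem Good.conj_mem (h : Ctx R z) {A : Subgroup G} (hA : Good R z A) {x a : G} (hx : x ∈ R)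
    (ha : a ∈ A) : x * a * x⁻¹ ∈ A := by
  rcases h.conj x hx a (hA.le ha) with h1 | h1 <;> rw [h1]
  exacts [ha, mul_mem ha hA.memz]

theorem Good.le_normalizer (h : Ctx R z) {A : Subgroup G} (hA : Good R z A) :
    R ≤ Subgroup.normalizer (A : Set G) := by
  intro x hx
  rw [Subgroup.mem_normalizer_iff]
  refine fun a => ⟨hA.conj_mem h hx, fun h1 => ?_⟩
  simpa [mul_assoc] using hA.conj_mem h (inv_mem hx) h1

theorem Good.central_or (h : Ctx R z) {A : Subgroup G} (hA : Good R z A) {a : G} (ha : a ∈ A)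
    {x : G} (hx : x ∈ R) (hxA : x ∉ A) (hc : Commute x a) : ∀ v ∈ R, Commute v a := by
  obtain ⟨t, ht, htA, hsplit⟩ := hA.split
  have hx' : t⁻¹ * x ∈ A := (hsplit x hx).resolve_left hxA
  have hta : Commute t a := by
    have := hc.mul_left (hA.comm (inv_mem hx') ha)
    simpa [mul_assoc] using this
  intro v hv
  rcases hsplit v hv with h1 | h1
  · exact hA.comm h1 ha
  · simpa using hta.mul_left (hA.comm h1 ha)

theorem Good.exists_noncentral (h : Ctx R z) {A : Subgroup G} (hA : Good R z A) :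
    ∃ a ∈ A, ¬ ∀ v ∈ R, Commute v a := by
  by_contra hc
  push Not at hc
  obtain ⟨t, ht, htA, hsplit⟩ := hA.split
  obtain ⟨a, ha, b, hb, hab⟩ := h.nonab
  apply hab
  rcases hsplit b hb with h2 | h2
  · exact hc b h2 a ha
  · rcases hsplit a ha with h1 | h1
    · exact (hc a h1 b hb).symm
    · have e1 : Commute (t⁻¹ * a) t := (hc _ h1 t ht).symm
      have e2 : Commute (t⁻¹ * b) t := (hc _ h2 t ht).symm
      have e3 : Commute (t⁻¹ * a) (t⁻¹ * b) := hA.comm h1 h2
      have := ((Commute.refl t).mul_right e2.symm).mul_left (e1.mul_right e3)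
      simpa using this

/-- `R ∩ C(a) = A` for noncentral `a ∈ A`. -/
theorem Good.eq_centralizer (h : Ctx R z) {A : Subgroup G} (hA : Good R z A) {a : G} (ha : a ∈ A)
    (hnc : ¬ ∀ v ∈ R, Commute v a) : R ⊓ Subgroup.centralizer ({a} : Set G) = A := by
  refine le_antisymm (fun x hx => ?_) (fun x hx => Subgroup.mem_inf.mpr
    ⟨hA.le hx, Subgroup.mem_centralizer_singleton_iff.mpr (hA.comm hx ha).eq⟩)
  by_contra hxA
  exact hnc (hA.central_or h ha hx.1 hxA (Subgroup.mem_centralizer_singleton_iff.mp hx.2))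

/-- The automiser of a good subgroup moves it only inside a four-group. -/
theorem Good.commutator_bound [Finite G] (h : Ctx R z) {A : Subgroup G} (hA : Good R z A) :
    ∃ w ∈ A, (w = z ∨ ¬ ∀ v ∈ R, Commute v w) ∧ ∀ n ∈ Subgroup.normalizer (A : Set G), ∀ a ∈ A,
      n * a * n⁻¹ * a⁻¹ ∈ Subgroup.closure ({z, w} : Set G) := by
  obtain ⟨t, ht, htA, hsplit⟩ := hA.split
  have htN := hA.le_normalizer h ht
  set N := Subgroup.normalizer (A : Set G) with hN
  let Ω : G → Prop := fun x => ∃ n ∈ N, x = n * z * n⁻¹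
  have hΩA : ∀ x, Ω x → x ∈ A := by
    rintro x ⟨n, hn, rfl⟩
    exact (Subgroup.mem_normalizer_iff.mp hn z).mp hA.memz
  have hΩconj : ∀ x, Ω x → ∀ m ∈ N, Ω (m * x * m⁻¹) := by
    rintro x ⟨n, hn, rfl⟩ m hm
    exact ⟨m * n, mul_mem hm hn, by group⟩
  have hΩz : Ω z := ⟨1, one_mem _, by simp⟩
  have hΩ1 : ∀ x, Ω x → x ≠ 1 := by
    rintro x ⟨n, hn, rfl⟩ h1
    exact h.ne (by simpa using h1)
  have hfix : ∀ x, Ω x → Commute t x → x = z := by
    intro x hx hcom
    have hall : ∀ v ∈ R, Commute v x := by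
      intro v hv
      rcases hsplit v hv with h1 | h1
      · exact hA.comm h1 (hΩA x hx)
      · simpa using hcom.mul_left (hA.comm h1 (hΩA x hx))
    obtain ⟨n, hn, rfl⟩ := hx
    have hback : ∀ v ∈ R, n⁻¹ * v * n ∈ R := by
      intro v hv
      rw [h.mem_iff]
      have := (hall v hv).map (MulAut.conj n⁻¹).toMonoidHom
      simpa [mul_assoc] using this
    have hnR : n⁻¹ ∈ R := by
      refine h.norm _ (Subgroup.mem_normalizer_fintype ?_)
      intro v hv
      show n⁻¹ * v * n⁻¹⁻¹ ∈ R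
      rw [inv_inv]
      exact hback v hv
    exact mul_inv_eq_iff_eq_mul.mpr ((h.mem_iff n).mp (inv_inv n ▸ inv_mem hnR)).eq
  have hmove : ∀ x, Ω x → x ≠ z → t * x * t⁻¹ = x * z ∧ Ω (x * z) := by
    intro x hx hxz
    have h1 : t * x * t⁻¹ = x * z := (h.conj t ht x (hA.le (hΩA x hx))).resolve_left
      (fun h1 => hxz (hfix x hx (mul_inv_eq_iff_eq_mul.mp h1)))
    exact ⟨h1, h1 ▸ hΩconj x hx t htN⟩
  have hprod : ∀ x y, Ω x → Ω y → x ≠ y → Ω (x * y) := by
    rintro x y hx ⟨n, hn, rfl⟩ hxy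
    have hne : n⁻¹ * x * n ≠ z := by
      intro h1
      apply hxy
      rw [← h1]; group
    have h1 := (hmove _ (by simpa using hΩconj x hx n⁻¹ (inv_mem hn)) hne).2
    have h2 := hΩconj _ h1 n hn
    simpa [mul_assoc] using h2
  by_cases hone : ∀ x, Ω x → x = z
  · refine ⟨z, hA.memz, Or.inl rfl, fun n hn a ha => ?_⟩
    have hnR : n ∈ R := (h.mem_iff n).mpr (mul_inv_eq_iff_eq_mul.mp (hone _ ⟨n, hn, rfl⟩))
    rcases h.conj n hnR a (hA.le ha) with h1 | h1 <;> rw [h1]
    · simp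
    · rw [(hA.comm ha hA.memz).eq, mul_inv_cancel_right]
      exact Subgroup.subset_closure (Or.inl rfl)
  push Not at hone
  obtain ⟨w, hw, hwz⟩ := hone
  have hall : ∀ x, Ω x → x ∈ Subgroup.closure ({z, w} : Set G) := by
    intro x hx
    by_cases hxz : x = z
    · exact hxz ▸ Subgroup.subset_closure (Or.inl rfl)
    by_cases hxw : x = w
    · exact hxw ▸ Subgroup.subset_closure (Or.inr rfl)
    have hp := hprod x w hx hw hxw
    have hcom : Commute t (x * w) := by
      refine mul_inv_eq_iff_eq_mul.mp (?_ : t * (x * w) * t⁻¹ = x * w)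
      calc t * (x * w) * t⁻¹ = (t * x * t⁻¹) * (t * w * t⁻¹) := by group
        _ = (x * z) * (w * z) := by rw [(hmove x hx hxz).1, (hmove w hw hwz).1]
        _ = x * w * (z * z) := ((hA.comm hA.memz (hΩA w hw)).mul_mul_mul_comm x z)
        _ = x * w := by rw [h.sq, mul_one]
    rw [eq_mul_inv_of_mul_eq (hfix _ hp hcom)]
    exact mul_mem (Subgroup.subset_closure (Or.inl rfl)) (inv_mem (Subgroup.subset_closure (Or.inr rfl)))
  refine ⟨w, hΩA w hw, Or.inr fun hc => hwz (hfix w hw (hc t ht)), fun n hn a ha => ?_⟩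
  have hR : ∀ r ∈ R, r * a * r⁻¹ * a⁻¹ = 1 ∨ r * a * r⁻¹ * a⁻¹ = z := by
    intro r hr
    rcases h.conj r hr a (hA.le ha) with h1 | h1 <;> rw [h1]
    · exact Or.inl (mul_inv_cancel a)
    · exact Or.inr (by rw [(hA.comm ha hA.memz).eq, mul_inv_cancel_right])
  have hzU : z ∈ Subgroup.closure ({z, w} : Set G) := Subgroup.subset_closure (Or.inl rfl)
  set x := n * z * n⁻¹ with hx
  have hxΩ : Ω x := ⟨n, hn, rfl⟩
  by_cases hxz : x = z
  · rcases hR n ((h.mem_iff n).mpr (mul_inv_eq_iff_eq_mul.mp hxz)) with h1 | h1 <;> rw [h1]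
    exacts [one_mem _, hzU]
  have hu : Ω (z * x) := hprod z x hΩz hxΩ (Ne.symm hxz)
  have hx1 : x ≠ 1 := hΩ1 x hxΩ
  obtain ⟨m, hm, hme⟩ := hu
  have hq : m⁻¹ * z * m ≠ z := by
    intro h1
    apply hx1
    have h2 : m * z * m⁻¹ = z := by
      calc m * z * m⁻¹ = m * (m⁻¹ * z * m) * m⁻¹ := by rw [h1]
        _ = z := by group
    rw [h2] at hme
    exact mul_eq_left.mp hme
  have hq2 := (hmove _ (by simpa using hΩconj z hΩz m⁻¹ (inv_mem hm)) hq).1
  set T := m * t * m⁻¹ with hT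
  have hTz : T * z * T⁻¹ = x := by
    calc T * z * T⁻¹ = m * (t * (m⁻¹ * z * m) * t⁻¹) * m⁻¹ := by rw [hT]; group
      _ = z * (m * z * m⁻¹) := by rw [hq2]; group
      _ = x := by rw [← hme, ← mul_assoc, h.sq, one_mul]
  have hr : T⁻¹ * n ∈ R := by
    rw [h.mem_iff]
    show T⁻¹ * n * z = z * (T⁻¹ * n)
    calc T⁻¹ * n * z = T⁻¹ * x * n := by rw [hx]; group
      _ = T⁻¹ * (T * z * T⁻¹) * n := by rw [hTz]
      _ = z * (T⁻¹ * n) := by group
  have hTN : T ∈ N := mul_mem (mul_mem hm htN) (inv_mem hm)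
  set r := T⁻¹ * n
  have hne : n = T * r := (mul_inv_cancel_left T n).symm
  have e : n * a * n⁻¹ * a⁻¹ = (T * (r * a * r⁻¹ * a⁻¹) * T⁻¹) * (T * a * T⁻¹ * a⁻¹) := by
    rw [hne]; group
  rw [e]
  refine mul_mem ?_ ?_
  · rcases hR r hr with h1 | h1 <;> rw [h1]
    · simp
    · rw [hTz]; exact hall x hxΩ
  · have ha' : m⁻¹ * a * m ∈ A := (Subgroup.mem_normalizer_iff''.mp hm a).mp ha
    have e2 : T * a * T⁻¹ * a⁻¹ = m * (t * (m⁻¹ * a * m) * t⁻¹ * (m⁻¹ * a * m)⁻¹) * m⁻¹ := by
      rw [hT]; group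
    rw [e2]
    rcases h.conj t ht _ (hA.le ha') with h1 | h1 <;> rw [h1]
    · simp
    · rw [(hA.comm ha' hA.memz).eq, mul_inv_cancel_right]
      exact hall _ ⟨m, hm, rfl⟩


theorem Good.card [Finite G] {A : Subgroup G} (hA : Good R z A) :
    Nat.card ↥R = 2 * Nat.card ↥A := by
  obtain ⟨t, ht, htA, hsplit⟩ := hA.split
  have hi : (A.subgroupOf R).index = 2 := by
    rw [Subgroup.index_eq_two_iff']
    refine ⟨⟨t, ht⟩⁻¹, fun b => ?_⟩
    simp only [Subgroup.mem_subgroupOf, Subgroup.coe_mul, Subgroup.coe_inv]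
    rcases hsplit b b.2 with h1 | h1
    · refine Or.inr ⟨h1, fun h2 => htA ?_⟩
      have h3 := mul_mem h2 (inv_mem h1)
      simpa using h3
    · refine Or.inl ⟨h1, fun h2 => htA ?_⟩
      have h3 := mul_mem h2 (inv_mem h1)
      simpa using h3
  have := Subgroup.card_mul_index (A.subgroupOf R)
  rw [hi, Nat.card_congr (Subgroup.subgroupOfEquivOfLe hA.le).toEquiv] at this
  omega

/-- The centraliser in `R` of a noncentral involution is good, given one good subgroup. -/
theorem good_centralizer (h : Ctx R z) {A : Subgroup G} (hA : Good R z A) {w : G} (hw : w ∈ R)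
    (hw2 : w * w = 1) (hnc : ¬ ∀ v ∈ R, Commute v w) :
    Good R z (R ⊓ Subgroup.centralizer ({w} : Set G)) := by
  have hzR : z ∈ R := hA.le hA.memz
  refine ⟨inf_le_left, ?_, Subgroup.mem_inf.mpr
    ⟨hzR, Subgroup.mem_centralizer_singleton_iff.mpr ((h.mem_iff w).mp hw).eq.symm⟩, ?_⟩
  · intro a ha
    by_cases hwA : w ∈ A
    · rw [hA.eq_centralizer h hwA hnc] at ha
      exact hA.sq a ha
    obtain ⟨haR, haw⟩ := Subgroup.mem_inf.mp ha
    rw [Subgroup.mem_centralizer_singleton_iff] at haw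
    obtain ⟨t, ht, -, hsplit⟩ := hA.split
    by_cases haA : a ∈ A
    · exact hA.sq a haA
    have h1 := (hsplit a haR).resolve_left haA
    have h2 := (hsplit w hw).resolve_left hwA
    have hd : w⁻¹ * a ∈ A := by
      have := mul_mem (inv_mem h2) h1
      simpa [mul_assoc] using this
    have hwd : Commute w (w⁻¹ * a) := (Commute.refl w).inv_right.mul_right haw.symm
    calc a * a = (w * (w⁻¹ * a)) * (w * (w⁻¹ * a)) := by rw [mul_inv_cancel_left]
      _ = (w * w) * ((w⁻¹ * a) * (w⁻¹ * a)) := hwd.symm.mul_mul_mul_comm w (w⁻¹ * a)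
      _ = 1 := by rw [hw2, hA.sq _ hd, one_mul]
  · push Not at hnc
    obtain ⟨t, ht, htw⟩ := hnc
    refine ⟨t, ht, fun h1 => htw (Subgroup.mem_centralizer_singleton_iff.mp (Subgroup.mem_inf.mp h1).2), ?_⟩
    intro x hx
    have h1 : t * w * t⁻¹ = w * z :=
      (h.conj t ht w hw).resolve_left (fun h1 => htw (mul_inv_eq_iff_eq_mul.mp h1))
    rcases h.conj x hx w hw with h2 | h2
    · exact Or.inl (Subgroup.mem_inf.mpr
        ⟨hx, Subgroup.mem_centralizer_singleton_iff.mpr (mul_inv_eq_iff_eq_mul.mp h2)⟩)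
    · refine Or.inr (Subgroup.mem_inf.mpr ⟨mul_mem (inv_mem ht) hx,
        Subgroup.mem_centralizer_singleton_iff.mpr (mul_inv_eq_iff_eq_mul.mp ?_)⟩)
      calc t⁻¹ * x * w * (t⁻¹ * x)⁻¹ = t⁻¹ * (x * w * x⁻¹) * t := by group
        _ = t⁻¹ * (t * w * t⁻¹) * t := by rw [h1, h2]
        _ = w := by group

/-- There are at most two good subgroups. -/
theorem Good.two (h : Ctx R z) {A B C : Subgroup G} (hA : Good R z A) (hB : Good R z B)
    (hC : Good R z C) (hAB : A ≠ B) : C = A ∨ C = B := by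
  obtain ⟨a, ha, hna⟩ := hA.exists_noncentral h
  obtain ⟨b, hb, hnb⟩ := hB.exists_noncentral h
  obtain ⟨c, hc, hnc⟩ := hC.exists_noncentral h
  have memA : ∀ x ∈ R, Commute x a → x ∈ A := fun x hx h1 =>
    hA.eq_centralizer h ha hna ▸ Subgroup.mem_inf.mpr
      ⟨hx, Subgroup.mem_centralizer_singleton_iff.mpr h1⟩
  have memB : ∀ x ∈ R, Commute x b → x ∈ B := fun x hx h1 =>
    hB.eq_centralizer h hb hnb ▸ Subgroup.mem_inf.mpr
      ⟨hx, Subgroup.mem_centralizer_singleton_iff.mpr h1⟩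
  by_cases hca : Commute c a
  · exact Or.inl ((hC.eq_centralizer h hc hnc).symm.trans
      (hA.eq_centralizer h (memA c (hC.le hc) hca) hnc))
  by_cases hcb : Commute c b
  · exact Or.inr ((hC.eq_centralizer h hc hnc).symm.trans
      (hB.eq_centralizer h (memB c (hC.le hc) hcb) hnc))
  exfalso
  have haR := hA.le ha
  have hbR := hB.le hb
  have hcR := hC.le hc
  have hab : ¬ Commute a b := fun h1 => hAB ((hA.eq_centralizer h (memA b hbR h1.symm) hnb).symm.trans
    (hB.eq_centralizer h hb hnb))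
  have e1 : a * b * a⁻¹ = b * z := (h.conj a haR b hbR).resolve_left (fun h1 => hab (mul_inv_eq_iff_eq_mul.mp h1))
  have e2 : b * a * b⁻¹ = a * z :=
    (h.conj b hbR a haR).resolve_left (fun h1 => hab (show Commute b a from mul_inv_eq_iff_eq_mul.mp h1).symm)
  have e3 : c * a * c⁻¹ = a * z := (h.conj c hcR a haR).resolve_left (fun h1 => hca (mul_inv_eq_iff_eq_mul.mp h1))
  have e4 : c * b * c⁻¹ = b * z := (h.conj c hcR b hbR).resolve_left (fun h1 => hcb (mul_inv_eq_iff_eq_mul.mp h1))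
  have hpR : a * b ∈ R := mul_mem haR hbR
  have hz : ∀ x ∈ R, x * z * x⁻¹ = z := fun x hx => mul_inv_eq_iff_eq_mul.mpr ((h.mem_iff x).mp hx).eq
  have pa : a * b * a * (a * b)⁻¹ = a * z := by
    calc a * b * a * (a * b)⁻¹ = a * (b * a * b⁻¹) * a⁻¹ := by group
      _ = a * (a * z * a⁻¹) := by rw [e2]; group
      _ = a * z := by rw [hz a haR]
  have pb : a * b * b * (a * b)⁻¹ = b * z := by
    calc a * b * b * (a * b)⁻¹ = a * b * a⁻¹ := by group
      _ = b * z := e1
  set d := (a * b)⁻¹ * c with hd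
  have hdR : d ∈ R := mul_mem (inv_mem hpR) hcR
  have hda : Commute d a := mul_inv_eq_iff_eq_mul.mp (by
    calc d * a * d⁻¹ = (a * b)⁻¹ * (c * a * c⁻¹) * (a * b) := by rw [hd]; group
      _ = (a * b)⁻¹ * (a * b * a * (a * b)⁻¹) * (a * b) := by rw [e3, pa]
      _ = a := by group)
  have hdb : Commute d b := mul_inv_eq_iff_eq_mul.mp (by
    calc d * b * d⁻¹ = (a * b)⁻¹ * (c * b * c⁻¹) * (a * b) := by rw [hd]; group
      _ = (a * b)⁻¹ * (a * b * b * (a * b)⁻¹) * (a * b) := by rw [e4, pb]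
      _ = b := by group)
  have hdA := memA d hdR hda
  have hbA : b ∉ A := fun h1 => hab (hA.comm ha h1)
  have hdall := hA.central_or h hdA hbR hbA hdb.symm
  have hc1 : c = a * b * d := by rw [hd, mul_inv_cancel_left]
  have hsq : c * c = z := by
    rw [hc1, ((hdall _ hpR).symm).mul_mul_mul_comm (a * b) d, hA.sq d hdA, mul_one]
    calc a * b * (a * b) = (a * b * a⁻¹) * ((a * a) * b) := by group
      _ = b * (z * b) := by rw [e1, hA.sq a ha, one_mul, mul_assoc]
      _ = z := by rw [← ((h.mem_iff b).mp hbR).eq, ← mul_assoc, hB.sq b hb, one_mul]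
  exact h.ne (hsq ▸ hC.sq c hc)

/-- Let L be a finite non-abelian simple group with an involution z whose centralizer R is a Sylow 2-subgroup of L whose Frattini subgroup is the subgroup generated by z. Then R is dihedral of order 8. -/
theorem result {L : Type*} [Group L] [Finite L] [IsSimpleGroup L] (hL : ¬ IsMulCommutative L) (z : L) (hz : orderOf z = 2) (R : Sylow 2 L) (hR : (R : Subgroup L) = Subgroup.centralizer ({z} : Set L)) (hΦ : (frattini ↥(R : Subgroup L)).map (R : Subgroup L).subtype = Subgroup.zpowers z) : Nonempty (↥(R : Subgroup L) ≃* DihedralGroup 4) := by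

  open Cfsg.Agent.Lib.LargeExtra.Basic in
  haveI : Fact (Nat.Prime 2) := ⟨Nat.prime_two⟩
  set Rg : Subgroup L := (R : Subgroup L) with hRg
  have hR2 : IsPGroup 2 ↥Rg := R.2
  have hmem : ∀ c, c ∈ Rg ↔ Commute c z := fun c => by
    rw [hR]; exact Subgroup.mem_centralizer_singleton_iff
  have hzsq : z * z = 1 := by rw [← sq, ← hz, pow_orderOf_eq_one]
  have hz1 : z ≠ 1 := fun h => by simp [h] at hz
  have hzR : z ∈ Rg := (hmem z).mpr (Commute.refl z)
  have hzc : ∀ x ∈ Rg, Commute x z := fun x hx => (hmem x).mp hx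
  have hfr : ∀ x : ↥Rg, x ∈ frattini ↥Rg → (x : L) = 1 ∨ (x : L) = z := fun x hx =>
    eq_one_or_eq hz (hΦ ▸ Subgroup.mem_map_of_mem Rg.subtype hx)
  have hsqs : ∀ x ∈ Rg, x * x = 1 ∨ x * x = z := fun x hx => by
    have := hfr _ (Cfsg.Agent.Lib.PGroups.pow_mem_frattini (p := 2) hR2 ⟨x, hx⟩)
    rwa [Subgroup.coe_pow, pow_two] at this
  have hconj : ∀ x ∈ Rg, ∀ v ∈ Rg, x * v * x⁻¹ = v ∨ x * v * x⁻¹ = v * z := fun x hx v hv => by
    rcases hfr _ (Cfsg.Agent.Lib.PGroups.commutatorElement_mem_frattini (p := 2) hR2 (⟨x, hx⟩ : ↥Rg) ⟨v, hv⟩) with h | h <;>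
      simp only [commutatorElement_def, Subgroup.coe_mul, Subgroup.coe_inv] at h
    · exact Or.inl (mul_inv_eq_one.mp h)
    · exact Or.inr ((mul_inv_eq_iff_eq_mul.mp h).trans (hzc v hv).eq.symm)
  have hnorm : ∀ n ∈ Subgroup.normalizer (Rg : Set L), n ∈ Rg := by
    intro n hn
    have h1 := Cfsg.Agent.Lib.PLocal.normalizer_le_normalizer_map_char (frattini ↥Rg) hn
    rw [hΦ, Subgroup.mem_normalizer_iff] at h1
    rcases eq_one_or_eq hz ((h1 z).mp (Subgroup.mem_zpowers z)) with h | h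
    · exact absurd (by simpa using h) hz1
    · exact (hmem n).mpr (mul_inv_eq_iff_eq_mul.mp h)
  have hperf : commutator L = ⊤ := by
    refine (IsSimpleGroup.eq_bot_or_eq_top_of_normal (commutator L) inferInstance).resolve_left fun h => hL ⟨⟨fun a b => ?_⟩⟩
    have h1 : ⁅a, b⁆ ∈ commutator L := Subgroup.commutator_mem_commutator (Subgroup.mem_top a) (Subgroup.mem_top b)
    rw [h, Subgroup.mem_bot, commutatorElement_eq_one_iff_mul_comm] at h1
    exact h1
  obtain ⟨g, hgR, hgz⟩ : ∃ g : L, g * z * g⁻¹ ∈ Rg ∧ g * z * g⁻¹ ≠ z := by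
    by_contra hcon
    push Not at hcon
    have hW : Cfsg.IsWeaklyClosed (Subgroup.zpowers z) Rg := by
      refine ⟨Subgroup.zpowers_le.mpr hzR, fun g hg => ?_⟩
      have h1 : g * z * g⁻¹ = z := hcon g (hg ⟨z, Subgroup.mem_zpowers z, rfl⟩)
      rw [MonoidHom.map_zpowers]
      show Subgroup.zpowers (g * z * g⁻¹) = _
      rw [h1]
    have hZC : Subgroup.zpowers z ≤ Subgroup.centralizer (Rg : Set L) :=
      Subgroup.zpowers_le.mpr fun x hx => (hzc x hx).eq
    have hctl : ∀ x ∈ R, ∀ g : L, g * x * g⁻¹ ∈ R → ∃ v ∈ Rg, v * x * v⁻¹ = g * x * g⁻¹ := by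
      intro x hx g hgx
      obtain ⟨v, hv, hve⟩ := Cfsg.Agent.Lib.Transfer.Fusion.controls_of_isWeaklyClosed R (Subgroup.zpowers z) hZC hW x hx g hgx
      refine ⟨v, (hmem v).mpr ?_, hve⟩
      rcases eq_one_or_eq hz ((Subgroup.mem_normalizer_iff.mp hv z).mp (Subgroup.mem_zpowers z)) with h | h
      · exact absurd (by simpa using h) hz1
      · exact mul_inv_eq_iff_eq_mul.mp h
    have he := Cfsg.Agent.Lib.Transfer.Fusion.commutator_inf_sylow_eq_of_controls R Rg le_rfl hctl
    rw [hperf, top_inf_eq] at he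
    have hRz : Rg ≤ Subgroup.zpowers z := (he.le.trans inf_le_left).trans (Subgroup.commutator_le.mpr fun a ha b hb => by
      rw [commutatorElement_def]
      rcases hconj a ha b hb with h | h <;> rw [h]
      · simp
      · rw [(hzc b hb).eq, mul_inv_cancel_right]; exact Subgroup.mem_zpowers z)
    have hcases : ∀ x : ↥Rg, (x : L) = 1 ∨ (x : L) = z := fun x => eq_one_or_eq hz (hRz x.2)
    have hbot : frattini ↥Rg ≤ ⊥ := by
      refine Cfsg.Agent.Lib.PGroups.frattini_le_of_pow_commutator (p := 2) ⊥ (fun x => ?_) (Subgroup.commutator_le.mpr fun a _ b _ => ?_)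
      · rw [Subgroup.mem_bot]
        apply Subtype.ext
        rw [Subgroup.coe_pow, pow_two]
        rcases hcases x with h | h <;> rw [h]
        exacts [one_mul 1, hzsq]
      · rw [Subgroup.mem_bot, commutatorElement_eq_one_iff_mul_comm]
        apply Subtype.ext
        show (a : L) * b = b * a
        rcases hcases a with h | h <;> rw [h]
        · simp
        · exact (hzc b b.2).eq.symm
    have hzm : z ∈ (frattini ↥Rg).map Rg.subtype := hΦ ▸ Subgroup.mem_zpowers z
    rw [le_bot_iff.mp hbot, Subgroup.map_bot, Subgroup.mem_bot] at hzm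
    exact hz1 hzm
  set y := g * z * g⁻¹ with hy
  have hy1 : y * y = 1 := by
    calc y * y = g * (z * z) * g⁻¹ := by rw [hy]; group
      _ = 1 := by rw [hzsq]; group
  have hy_ne1 : y ≠ 1 := fun h => hz1 (by rw [hy] at h; simpa using h)
  have hyback : ∀ c : L, Commute c y → g⁻¹ * c * g ∈ Rg := fun c hc => (hmem _).mpr (by
    have := hc.map (MulAut.conj g⁻¹).toMonoidHom
    simpa [hy, mul_assoc] using this)
  obtain ⟨t₀, ht₀, ht₀y⟩ : ∃ t ∈ Rg, ¬ Commute t y := by
    by_contra hcon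
    push Not at hcon
    have hg' : g⁻¹ ∈ Rg := hnorm _ (Subgroup.mem_normalizer_fintype fun v hv => by
      show g⁻¹ * v * g⁻¹⁻¹ ∈ Rg
      rw [inv_inv]
      exact hyback v (hcon v hv))
    exact hgz (mul_inv_eq_iff_eq_mul.mpr ((hmem g).mp (inv_inv g ▸ inv_mem hg')).eq)
  have ctx : Ctx Rg z := ⟨hmem, hzsq, hz1, hnorm, hsqs, hconj, ⟨t₀, ht₀, y, hgR, ht₀y⟩⟩
  set A₁ := Rg ⊓ Subgroup.centralizer ({y} : Set L) with hA₁def
  have hzy : Commute z y := (hzc y hgR).symm
  have hA₁ : Good Rg z A₁ := by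
    refine ⟨inf_le_left, ?_, Subgroup.mem_inf.mpr ⟨hzR, Subgroup.mem_centralizer_singleton_iff.mpr hzy.eq⟩, ?_⟩
    · intro a ha
      obtain ⟨haR, hay⟩ := Subgroup.mem_inf.mp ha
      rw [Subgroup.mem_centralizer_singleton_iff] at hay
      rcases hsqs a haR with h | h
      · exact h
      · rcases hsqs _ (hyback a hay) with h' | h'
        · calc a * a = g * (g⁻¹ * a * g * (g⁻¹ * a * g)) * g⁻¹ := by group
            _ = 1 := by rw [h']; group
        · exfalso
          refine hgz ?_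
          calc y = g * (g⁻¹ * a * g * (g⁻¹ * a * g)) * g⁻¹ := by rw [h']
            _ = a * a := by group
            _ = z := h
    · refine ⟨t₀, ht₀, fun h => ht₀y (Subgroup.mem_centralizer_singleton_iff.mp (Subgroup.mem_inf.mp h).2), fun x hx => ?_⟩
      have h1 : t₀ * y * t₀⁻¹ = y * z := (hconj t₀ ht₀ y hgR).resolve_left (fun h1 => ht₀y (mul_inv_eq_iff_eq_mul.mp h1))
      rcases hconj x hx y hgR with h2 | h2
      · exact Or.inl (Subgroup.mem_inf.mpr ⟨hx, Subgroup.mem_centralizer_singleton_iff.mpr (mul_inv_eq_iff_eq_mul.mp h2)⟩)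
      · refine Or.inr (Subgroup.mem_inf.mpr ⟨mul_mem (inv_mem ht₀) hx, Subgroup.mem_centralizer_singleton_iff.mpr (mul_inv_eq_iff_eq_mul.mp ?_)⟩)
        calc t₀⁻¹ * x * y * (t₀⁻¹ * x)⁻¹ = t₀⁻¹ * (x * y * x⁻¹) * t₀ := by group
          _ = t₀⁻¹ * (t₀ * y * t₀⁻¹) * t₀ := by rw [h1, h2]
          _ = y := by group
  have hyA : y ∈ A₁ := Subgroup.mem_inf.mpr ⟨hgR, Subgroup.mem_centralizer_singleton_iff.mpr rfl⟩
  by_cases hcen : ∀ e ∈ Rg, (∀ v ∈ Rg, Commute v e) → e = 1 ∨ e = z
  · -- the order is eight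
    obtain ⟨t, ht, htA, hsplit⟩ := hA₁.split
    have hfour : ∀ a ∈ A₁, a = 1 ∨ a = z ∨ a = y ∨ a = y * z := by
      intro a ha
      have hall : ∀ b ∈ A₁, Commute t b → b = 1 ∨ b = z := fun b hb htb =>
        hcen b (hA₁.le hb) (hA₁.central_or ctx hb ht htA htb)
      rcases hconj t ht a (hA₁.le ha) with h | h
      · exact (hall a ha (mul_inv_eq_iff_eq_mul.mp h)).elim Or.inl (fun h => Or.inr (Or.inl h))
      · have hty : t * y * t⁻¹ = y * z := (hconj t ht y hgR).resolve_left (fun h1 => by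
          rcases hall y hyA (mul_inv_eq_iff_eq_mul.mp h1) with h2 | h2
          exacts [hy_ne1 h2, hgz h2])
        have h1 : t * (y * a) * t⁻¹ = y * a := by
          calc t * (y * a) * t⁻¹ = (t * y * t⁻¹) * (t * a * t⁻¹) := by group
            _ = (y * z) * (a * z) := by rw [hty, h]
            _ = y * a * (z * z) := (hA₁.comm hA₁.memz ha).mul_mul_mul_comm y z
            _ = y * a := by rw [hzsq, mul_one]
        rcases hall _ (mul_mem hyA ha) (mul_inv_eq_iff_eq_mul.mp h1) with h2 | h2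
        · exact Or.inr (Or.inr (Or.inl ((eq_inv_of_mul_eq_one_right h2).trans (inv_eq_of_mul_eq_one_right hy1))))
        · refine Or.inr (Or.inr (Or.inr ?_))
          rw [← h2, ← mul_assoc, hy1, one_mul]
    have hcard4 : Nat.card ↥A₁ = 4 := by
      have hset : (A₁ : Set L) = {1, z, y, y * z} := by
        ext a
        simp only [SetLike.mem_coe, Set.mem_insert_iff, Set.mem_singleton_iff]
        refine ⟨hfour a, ?_⟩
        rintro (rfl | rfl | rfl | rfl)
        exacts [one_mem _, hA₁.memz, hyA, mul_mem hyA hA₁.memz]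
      show Nat.card (A₁ : Set L) = 4
      rw [hset, Nat.card_coe_set_eq]
      have n1 : y * z ≠ 1 := fun h => hgz ((eq_inv_of_mul_eq_one_left h).trans (inv_eq_of_mul_eq_one_right hzsq))
      have n2 : y * z ≠ z := fun h => hy_ne1 (mul_eq_right.mp h)
      have n3 : y * z ≠ y := fun h => hz1 (mul_eq_left.mp h)
      rw [Set.ncard_insert_of_notMem (by simp [Ne.symm hz1, Ne.symm hy_ne1, Ne.symm n1]),
        Set.ncard_insert_of_notMem (by simp [Ne.symm hgz, Ne.symm n2]),
        Set.ncard_pair (Ne.symm n3)]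
    have hcard8 : Nat.card ↥Rg = 2 * 4 := by rw [hA₁.card, hcard4]
    obtain ⟨a, ha, haA, ha2⟩ : ∃ a ∈ Rg, a ∉ A₁ ∧ a * a = z := by
      rcases hsqs t ht with h | h
      · refine ⟨y * t, mul_mem hgR ht, fun h1 => htA (by simpa [mul_assoc] using mul_mem (inv_mem hyA) h1), ?_⟩
        have hty : t * y * t⁻¹ = y * z := (hconj t ht y hgR).resolve_left (fun h1 => htA (Subgroup.mem_inf.mpr ⟨ht, Subgroup.mem_centralizer_singleton_iff.mpr (mul_inv_eq_iff_eq_mul.mp h1)⟩))
        calc y * t * (y * t) = y * (t * y * t⁻¹) * (t * t) := by group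
          _ = z := by rw [hty, h, mul_one, ← mul_assoc, hy1, one_mul]
      · exact ⟨t, ht, htA, h⟩
    have hay : a * y * a⁻¹ = y * z := (hconj a ha y hgR).resolve_left (fun h1 => haA (Subgroup.mem_inf.mpr ⟨ha, Subgroup.mem_centralizer_singleton_iff.mpr (mul_inv_eq_iff_eq_mul.mp h1)⟩))
    have hord : orderOf a = 4 := orderOf_eq_prime_pow (p := 2) (n := 1)
      (by rw [pow_one, pow_two, ha2]; exact hz1)
      (by rw [show (2 : ℕ) ^ (1 + 1) = 2 * 2 from rfl, pow_mul, pow_two a, ha2, pow_two, hzsq])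
    refine Cfsg.Agent.Lib.TwoGroups.Recognition.nonempty_dihedral_subgroup ha hgR hord hy1 ?_ ?_ hcard8
    · have h1 : y * a * y⁻¹ = a * z := by
        have hy' : y⁻¹ = y := inv_eq_of_mul_eq_one_right hy1
        calc y * a * y⁻¹ = y * (a * y * a⁻¹) * a := by rw [hy']; group
          _ = z * a := by rw [hay, ← mul_assoc, hy1, one_mul]
          _ = a * z := (hzc a ha).eq.symm
      rw [h1]
      refine eq_inv_of_mul_eq_one_left ?_
      rw [mul_assoc, ← (hzc a ha).eq, ← mul_assoc, ha2, hzsq]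
    · rintro ⟨k, hk⟩
      refine haA (Subgroup.mem_inf.mpr ⟨ha, Subgroup.mem_centralizer_singleton_iff.mpr ?_⟩)
      rw [← hk]
      exact (Commute.refl a).zpow_right k
  · exfalso
    push Not at hcen
    obtain ⟨e, he, hec, he1, hez⟩ := hcen
    have heA : ∀ A, Good Rg z A → e ∈ A := by
      intro A hA
      obtain ⟨a, ha, hna⟩ := hA.exists_noncentral ctx
      rw [← hA.eq_centralizer ctx ha hna]
      exact Subgroup.mem_inf.mpr ⟨he, Subgroup.mem_centralizer_singleton_iff.mpr (hec a (hA.le ha)).eq.symm⟩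
    have he2 : e * e = 1 := hA₁.sq e (heA _ hA₁)
    obtain ⟨w₁, hw₁, hw₁c, hb₁⟩ := hA₁.commutator_bound ctx
    obtain ⟨w₂, hw₂R, hw₂s, hw₂c, hb₂⟩ : ∃ w₂ ∈ Rg, w₂ * w₂ = 1 ∧ (w₂ = z ∨ (¬ (∀ v ∈ Rg, Commute v w₂) ∧ w₂ ∉ A₁)) ∧ ∀ A, Good Rg z A → ∀ n ∈ Subgroup.normalizer (A : Set L), ∀ a ∈ A, n * a * n⁻¹ * a⁻¹ ∈ Subgroup.closure ({z, w₁, w₂} : Set L) := by
      by_cases hB : ∃ B, Good Rg z B ∧ B ≠ A₁
      · obtain ⟨B, hB, hne⟩ := hB
        obtain ⟨w₂, hw₂, hw₂c, hb₂⟩ := hB.commutator_bound ctx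
        refine ⟨w₂, hB.le hw₂, hB.sq w₂ hw₂, hw₂c.imp id (fun h => ⟨h, fun h1 => hne ?_⟩), fun A hA n hn a ha => ?_⟩
        · exact (hB.eq_centralizer ctx hw₂ h).symm.trans (hA₁.eq_centralizer ctx h1 h)
        · rcases Good.two ctx hA₁ hB hA (Ne.symm hne) with rfl | rfl
          · exact Subgroup.closure_mono (by intro x; simp only [Set.mem_insert_iff, Set.mem_singleton_iff]; tauto) (hb₁ n hn a ha)
          · exact Subgroup.closure_mono (by intro x; simp only [Set.mem_insert_iff, Set.mem_singleton_iff]; tauto) (hb₂ n hn a ha)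
      · push Not at hB
        refine ⟨z, hzR, hzsq, Or.inl rfl, fun A hA n hn a ha => ?_⟩
        obtain rfl := hB A hA
        exact Subgroup.closure_mono (by intro x; simp only [Set.mem_insert_iff, Set.mem_singleton_iff]; tauto) (hb₁ n hn a ha)
    set D := Subgroup.closure ({z, w₁, w₂} : Set L) with hD
    have hDR : D ≤ Rg := by
      rw [hD, Subgroup.closure_le]
      rintro x (rfl | rfl | rfl)
      exacts [hzR, hA₁.le hw₁, hw₂R]
    have hw₁R : w₁ ∈ Rg := hA₁.le hw₁
    have hw₁s : w₁ * w₁ = 1 := hA₁.sq w₁ hw₁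
    have hrep : ∀ d ∈ D, ∃ i j k : L, (i = 1 ∨ i = z) ∧ (j = 1 ∨ j = w₁) ∧ (k = 1 ∨ k = w₂) ∧ d = i * j * k := by
      have step : ∀ d x : L, (∃ i j k : L, (i = 1 ∨ i = z) ∧ (j = 1 ∨ j = w₁) ∧ (k = 1 ∨ k = w₂) ∧ d = i * j * k) → (x = z ∨ x = w₁ ∨ x = w₂) → ∃ i j k : L, (i = 1 ∨ i = z) ∧ (j = 1 ∨ j = w₁) ∧ (k = 1 ∨ k = w₂) ∧ d * x = i * j * k := by
        rintro d x ⟨i, j, k, hi, hj, hk, rfl⟩ hx
        have hjR : j ∈ Rg := by rcases hj with hj | hj <;> rw [hj]; exacts [one_mem _, hw₁R]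
        have hkR : k ∈ Rg := by rcases hk with hk | hk <;> rw [hk]; exacts [one_mem _, hw₂R]
        have hiz : i * z = 1 ∨ i * z = z := by
          rcases hi with hi | hi <;> rw [hi]
          exacts [Or.inr (one_mul z), Or.inl hzsq]
        have hj' : j * w₁ = 1 ∨ j * w₁ = w₁ := by
          rcases hj with hj | hj <;> rw [hj]
          exacts [Or.inr (one_mul _), Or.inl hw₁s]
        rcases hx with hx | hx | hx <;> rw [hx]
        · refine ⟨i * z, j, k, hiz, hj, hk, ?_⟩
          rw [mul_assoc (i * j), (hzc k hkR).eq, ← mul_assoc, mul_assoc i j, (hzc j hjR).eq, ← mul_assoc]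
        · rcases hconj k hkR w₁ hw₁R with h | h
          · refine ⟨i, j * w₁, k, hi, hj', hk, ?_⟩
            rw [mul_assoc (i * j), mul_inv_eq_iff_eq_mul.mp h, ← mul_assoc, mul_assoc i j]
          · refine ⟨i * z, j * w₁, k, hiz, hj', hk, ?_⟩
            rw [mul_assoc (i * j), mul_inv_eq_iff_eq_mul.mp h, (hzc w₁ hw₁R).eq, show i * j * (z * w₁ * k) = i * (j * z) * w₁ * k by group, (hzc j hjR).eq]
            group
        · rcases hk with hk | hk <;> rw [hk]
          · exact ⟨i, j, w₂, hi, hj, Or.inr rfl, by rw [mul_one]⟩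
          · exact ⟨i, j, 1, hi, hj, Or.inl rfl, by rw [mul_assoc (i * j), hw₂s]⟩
      intro d hd
      rw [hD] at hd
      induction hd using Subgroup.closure_induction_right with
      | one => exact ⟨1, 1, 1, Or.inl rfl, Or.inl rfl, Or.inl rfl, by simp⟩
      | mul_right d _ x hx ih => exact step d x ih (by simpa using hx)
      | mul_inv_cancel d _ x hx ih =>
        have hx' : x = z ∨ x = w₁ ∨ x = w₂ := by simpa using hx
        refine step d x⁻¹ ih ?_
        rcases hx' with hx' | hx' | hx' <;> rw [hx']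
        exacts [Or.inl (inv_eq_of_mul_eq_one_right hzsq), Or.inr (Or.inl (inv_eq_of_mul_eq_one_right hw₁s)), Or.inr (Or.inr (inv_eq_of_mul_eq_one_right hw₂s))]
    have heD : e ∉ D := by
      intro h
      obtain ⟨i, j, k, hi, hj, hk, hd⟩ := hrep e h
      have hjk : ∀ v ∈ Rg, Commute v (j * k) := by
        intro v hv
        have hiv : Commute v i := by
          rcases hi with hi | hi <;> rw [hi]
          exacts [Commute.one_right v, hzc v hv]
        have := (hiv.inv_right).mul_right (hec v hv)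
        rw [hd, mul_assoc i, inv_mul_cancel_left] at this
        exact this
      have hzcen : ∀ v ∈ Rg, Commute v z := hzc
      have hi01 : ∀ c, c = 1 ∨ c = z → e = i * c → False := by
        intro c hc h1
        rcases hi with hi | hi <;> rw [hi] at h1 <;> rcases hc with hc | hc <;> rw [hc] at h1 <;> simp only [one_mul, mul_one, hzsq] at h1 <;>
          first | exact he1 h1 | exact hez h1
      refine hi01 (j * k) ?_ (by rw [hd, mul_assoc])
      rcases hj with hj | hj <;> rw [hj] at hjk ⊢ <;> rcases hk with hk | hk <;> rw [hk] at hjk ⊢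
      · exact Or.inl (one_mul 1)
      · rw [one_mul] at hjk ⊢
        exact Or.inr (hw₂c.resolve_right (fun h2 => h2.1 hjk))
      · rw [mul_one] at hjk ⊢
        exact Or.inr (hw₁c.resolve_right (fun h2 => h2 hjk))
      · rcases hw₁c with h1 | h1
        · rw [h1] at hjk ⊢
          rcases hw₂c with h2 | h2
          · rw [h2]; exact Or.inl hzsq
          · exact absurd (fun v hv => by
              have := (hzcen v hv).inv_right.mul_right (hjk v hv)
              rwa [inv_mul_cancel_left] at this) h2.1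
        · rcases hw₂c with h2 | h2
          · rw [h2] at hjk
            exact absurd (fun v hv => by
              have := (hjk v hv).mul_right (hzcen v hv).inv_right
              rwa [mul_inv_cancel_right] at this) h1
          · exfalso
            refine h2.2 ?_
            rw [← hA₁.eq_centralizer ctx hw₁ h1]
            refine Subgroup.mem_inf.mpr ⟨hw₂R, Subgroup.mem_centralizer_singleton_iff.mpr ?_⟩
            have := ((hjk w₁ hw₁R).symm.inv_left)
            have h3 : Commute w₁ (w₁⁻¹ * (w₁ * w₂)) := (Commute.refl w₁).inv_right.mul_right (hjk w₁ hw₁R)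
            rw [inv_mul_cancel_left] at h3
            exact h3.eq.symm
    obtain ⟨M, hM⟩ := (Set.toFinite {M : Subgroup L | D ≤ M ∧ M ≤ Rg ∧ e ∉ M}).exists_maximal ⟨D, le_rfl, hDR, heD⟩
    obtain ⟨hDM, hMR, heM⟩ := hM.1
    have hzM : z ∈ M := hDM (Subgroup.subset_closure (Or.inl rfl))
    have hcoset : ∀ x ∈ Rg, x ∉ M → e⁻¹ * x ∈ M := by
      intro x hx hxM
      have hxn : Subgroup.zpowers x ≤ Subgroup.normalizer (M : Set L) := by
        rw [Subgroup.zpowers_le]
        refine Subgroup.mem_normalizer_fintype fun v hv => ?_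
        show x * v * x⁻¹ ∈ M
        rcases hconj x hx v (hMR hv) with h | h <;> rw [h]
        exacts [hv, mul_mem hv hzM]
      have heX : e ∈ M ⊔ Subgroup.zpowers x := by
        by_contra h
        exact hxM (hM.2 (y := M ⊔ Subgroup.zpowers x) ⟨hDM.trans le_sup_left, sup_le hMR (Subgroup.zpowers_le.mpr hx), h⟩ le_sup_left (Subgroup.mem_sup_right (Subgroup.mem_zpowers x)))
      have he' : e ∈ (M : Set L) * (Subgroup.zpowers x : Set L) := by
        rw [← Subgroup.coe_mul_of_right_le_normalizer_left _ _ hxn]; exact heX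
      obtain ⟨m, hm, _, ⟨k, rfl⟩, hek⟩ := he'
      have hx2 : ∀ l : ℤ, x ^ (2 * l) ∈ M := fun l => by
        rw [zpow_mul, zpow_two]
        refine M.zpow_mem ?_ l
        rcases hsqs x hx with h | h <;> rw [h]
        exacts [one_mem _, hzM]
      obtain ⟨l, rfl | rfl⟩ := Int.even_or_odd' k
      · exact absurd (hek ▸ mul_mem hm (hx2 l)) heM
      · have h1 : e * x⁻¹ ∈ M := by
          have : e * x⁻¹ = m * x ^ (2 * l) := by rw [← hek]; simp only [zpow_add, zpow_one]; group
          rw [this]; exact mul_mem hm (hx2 l)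
        have h2 := inv_mem h1
        rw [mul_inv_rev, inv_inv] at h2
        rwa [(hec x hx).inv_right.eq] at h2
    have hidx : M.relIndex Rg = 2 := by
      show (M.subgroupOf Rg).index = 2
      rw [Subgroup.index_eq_two_iff]
      refine ⟨⟨e, he⟩, fun b => ?_⟩
      simp only [Subgroup.mem_subgroupOf, Subgroup.coe_mul]
      by_cases hb : (b : L) ∈ M
      · exact Or.inr ⟨hb, fun h => heM (by simpa using mul_mem (inv_mem hb) h)⟩
      · refine Or.inl ⟨?_, hb⟩
        have h1 := hcoset b b.2 hb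
        rwa [inv_eq_of_mul_eq_one_right he2, ← (hec b b.2).eq] at h1
    have hno2 : ∀ N : Subgroup L, N.index ≠ 2 := by
      intro N hN
      haveI := Subgroup.normal_of_index_eq_two hN
      rcases IsSimpleGroup.eq_bot_or_eq_top_of_normal N inferInstance with h | h
      · rw [h, Subgroup.index_bot] at hN
        haveI := isCyclic_of_prime_card hN
        exact hL IsCyclic.isMulCommutative
      · rw [h, Subgroup.index_top] at hN; omega
    obtain ⟨h, hh⟩ := Cfsg.Agent.Lib.Fusion.Thompson.exists_conj_mem_maximal R M hMR hidx hno2 e (orderOf_eq_prime (by rw [pow_two, he2]) he1)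
    set w := h * e * h⁻¹ with hwdef
    have hwR : w ∈ Rg := hMR hh
    have hw2 : w * w = 1 := by
      calc w * w = h * (e * e) * h⁻¹ := by rw [hwdef]; group
        _ = 1 := by rw [he2]; group
    have hwnc : ¬ ∀ v ∈ Rg, Commute v w := by
      intro hwc
      obtain ⟨n, hn, hne⟩ := Cfsg.Agent.Lib.Transfer.Fusion.exists_normalizer_conj_of_normal_set R {e}
        (fun x hx v hv => by rw [Set.mem_singleton_iff.mp hv]; exact mul_inv_eq_iff_eq_mul.mpr (hec x hx).eq)
        h (fun x hx v hv => by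
          rw [Set.mem_singleton_iff.mp hv, Set.image_singleton]
          exact mul_inv_eq_iff_eq_mul.mpr (hwc x hx).eq)
      rw [Set.image_singleton, Set.image_singleton, Set.singleton_eq_singleton_iff] at hne
      rw [mul_inv_eq_iff_eq_mul.mpr (hec n (hnorm n hn)).eq] at hne
      exact heM (by rw [hne]; exact hh)
    set C := Rg ⊓ Subgroup.centralizer ({w} : Set L) with hCdef
    have hC : Good Rg z C := good_centralizer ctx hA₁ hwR hw2 hwnc
    set E := Subgroup.centralizer ({e} : Set L) with hEdef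
    have hRE : Rg ≤ E := fun x hx => Subgroup.mem_centralizer_singleton_iff.mpr (hec x hx).eq
    have hCmap : C.map (MulAut.conj h⁻¹).toMonoidHom ≤ E := by
      rintro _ ⟨c, hc, rfl⟩
      rw [hEdef, Subgroup.mem_centralizer_singleton_iff]
      have hcw : Commute c w := Subgroup.mem_centralizer_singleton_iff.mp (Subgroup.mem_inf.mp hc).2
      have := hcw.map (MulAut.conj h⁻¹).toMonoidHom
      simpa [hwdef, mul_assoc] using this.eq
    obtain ⟨P, hP⟩ := (((hR2.to_le hC.le).map (MulAut.conj h⁻¹).toMonoidHom).comap_subtype (K := E)).exists_le_sylow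
    obtain ⟨k, hk⟩ := MulAction.exists_smul_eq E P (R.subtype hRE)
    set n := (k : L) * h⁻¹ with hn
    have hnw : n * w * n⁻¹ = e := by
      calc n * w * n⁻¹ = (k : L) * e * (k : L)⁻¹ := by rw [hn, hwdef]; group
        _ = e := mul_inv_eq_iff_eq_mul.mpr (Subgroup.mem_centralizer_singleton_iff.mp k.2)
    have hnC : ∀ c ∈ C, n * c * n⁻¹ ∈ Rg := by
      intro c hc
      have h1 : h⁻¹ * c * h ∈ C.map (MulAut.conj h⁻¹).toMonoidHom := ⟨c, hc, by simp [mul_assoc]⟩
      have h2 : (⟨h⁻¹ * c * h, hCmap h1⟩ : ↥E) ∈ (P : Subgroup ↥E) := hP h1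
      have h3 : k * ⟨h⁻¹ * c * h, hCmap h1⟩ * k⁻¹ ∈ ((R.subtype hRE) : Subgroup ↥E) := by
        rw [← hk, Sylow.coe_subgroup_smul, Subgroup.mem_pointwise_smul_iff_inv_smul_mem]
        simpa [MulAut.smul_def, mul_assoc] using h2
      have h4 : (k : L) * (h⁻¹ * c * h) * (k : L)⁻¹ ∈ Rg := h3
      simpa [hn, mul_assoc] using h4
    set B := C.map (MulAut.conj n).toMonoidHom with hBdef
    have hBle : B ≤ Rg := by rintro _ ⟨c, hc, rfl⟩; exact hnC c hc
    have hzB : z ∈ B := by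
      have hz' : ∀ c ∈ C, Commute (n⁻¹ * z * n) c := by
        intro c hc
        have := ((hzc _ (hnC c hc)).map (MulAut.conj n⁻¹).toMonoidHom).symm
        simpa [mul_assoc] using this
      have h1 : n⁻¹ * z * n ∈ Rg := (hmem _).mpr (hz' z hC.memz)
      refine ⟨n⁻¹ * z * n, Subgroup.mem_inf.mpr ⟨h1, Subgroup.mem_centralizer_singleton_iff.mpr (hz' w (Subgroup.mem_inf.mpr ⟨hwR, Subgroup.mem_centralizer_singleton_iff.mpr rfl⟩)).eq⟩, ?_⟩
      simp [mul_assoc]
    obtain ⟨b, hb, hbnc⟩ : ∃ b ∈ B, ¬ ∀ v ∈ Rg, Commute v b := by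
      by_contra hcon
      push Not at hcon
      have hn' : n⁻¹ ∈ Rg := hnorm _ (Subgroup.mem_normalizer_fintype fun v hv => by
        show n⁻¹ * v * n⁻¹⁻¹ ∈ Rg
        rw [inv_inv, hmem]
        have h1 := (hcon (n * z * n⁻¹) ⟨z, hC.memz, rfl⟩ v hv).map (MulAut.conj n⁻¹).toMonoidHom
        simpa [mul_assoc] using h1)
      have hnR : n ∈ Rg := inv_inv n ▸ inv_mem hn'
      refine hwnc fun v hv => ?_
      have hv' : n * v * n⁻¹ ∈ Rg := mul_mem (mul_mem hnR hv) (inv_mem hnR)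
      have h2 : Commute (n * v * n⁻¹) (n * w * n⁻¹) := hnw.symm ▸ hec _ hv'
      exact h2.of_map (f := (MulAut.conj n).toMonoidHom) (MulAut.conj n).injective
    have hb2 : b * b = 1 := by
      obtain ⟨c, hc, rfl⟩ := hb
      rw [← map_mul, hC.sq c hc, map_one]
    have hB' := good_centralizer ctx hA₁ (hBle hb) hb2 hbnc
    have hBeq : B = Rg ⊓ Subgroup.centralizer ({b} : Set L) := by
      refine Subgroup.eq_of_le_of_card_ge (fun v hv => Subgroup.mem_inf.mpr ⟨hBle hv, Subgroup.mem_centralizer_singleton_iff.mpr ?_⟩) ?_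
      · obtain ⟨c, hc, rfl⟩ := hb
        obtain ⟨d, hd, rfl⟩ := hv
        exact ((hC.comm hd hc).map (MulAut.conj n).toMonoidHom).eq
      · rw [hBdef, Subgroup.card_map_of_injective (MulAut.conj n).injective]
        have := hC.card
        have := hB'.card
        omega
    rw [← hBeq] at hB'
    obtain ⟨m, hm, hme⟩ := Cfsg.Agent.Lib.Transfer.Fusion.exists_normalizer_conj_of_normal_set R (C : Set L)
      (fun x hx v hv => hC.conj_mem ctx hx hv) n (fun x hx v hv => hB'.conj_mem ctx hx ⟨v, hv, rfl⟩)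
    have hnN : n ∈ Subgroup.normalizer (C : Set L) := by
      refine Subgroup.mem_normalizer_fintype fun v hv => ?_
      obtain ⟨u, hu, hue⟩ : n * v * n⁻¹ ∈ (fun q => m * q * m⁻¹) '' (C : Set L) := hme ▸ ⟨v, hv, rfl⟩
      rw [← hue]
      exact hC.conj_mem ctx (hnorm m hm) hu
    have hfin := hb₂ C hC n hnN w (Subgroup.mem_inf.mpr ⟨hwR, Subgroup.mem_centralizer_singleton_iff.mpr rfl⟩)
    rw [hnw] at hfin
    have := mul_mem (hDM hfin) hh
    rw [inv_mul_cancel_right] at this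
    exact heM this

end Cfsg.Agent.S5435
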