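import Cfsg.Statements.S5436
import Mathlib
import Cfsg.Agent.Lib.Components.GenFitting
import Cfsg.Agent.Lib.PGroups.Omega

set_option autoImplicit false
set_option linter.style.haveILetI false
open Cfsg

namespace Cfsg.Agent.S5436

theorem core {G : Type*} [Group G] [Finite G] (z : G) (hz : orderOf z = 2) (C : Subgroup G)
    (hCdef : C = Subgroup.centralizer ({z} : Set G)) (Q : Subgroup C) [Q.Normal]
    (hF : Cfsg.generalizedFittingSubgroup ↥C = Q) (hQ : Cfsg.IsExtraspecial 2 ↥Q)
    (hnwc : ∃ g : G, (∃ hq : g * z * g⁻¹ ∈ C, (⟨g * z * g⁻¹, hq⟩ : C) ∈ Q) ∧ g * z * g⁻¹ ≠ z)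
    (hsimp : IsSimpleGroup (↥C ⧸ Q))
    (hirr : ∀ W : Subgroup C, W.Normal → W ≤ Q → (W = Q ∨ ∀ x ∈ W, (x : G) ∈ Subgroup.zpowers z))
    (hwcl : Subgroup.closure {x : C | IsConj z (x : G)} ≠ Q) : IsSimpleGroup G := by
  haveI : Fact (Nat.Prime 2) := ⟨Nat.prime_two⟩
  have hz1 : z ≠ 1 := fun h => by rw [h, orderOf_one] at hz; norm_num at hz
  have hzz : z * z = 1 := by rw [← pow_two, ← hz, pow_orderOf_eq_one]
  have hzinv : z⁻¹ = z := inv_eq_of_mul_eq_one_right hzz
  have hmemC : ∀ x : G, x ∈ C ↔ z * x = x * z := fun x => by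
    rw [hCdef, Subgroup.mem_centralizer_iff]
    exact ⟨fun h => h z rfl, fun h y hy => by rw [Set.mem_singleton_iff.mp hy]; exact h⟩
  let zc : C := ⟨z, (hmemC z).mpr rfl⟩
  have hzcen : ∀ c : C, c * zc = zc * c := fun c => Subtype.ext ((hmemC c).mp c.2).symm
  have hQC : Subgroup.centralizer ((Q : Subgroup C) : Set C) ≤ Q := by
    rw [← hF]; exact Cfsg.Agent.Lib.Components.GenFitting.centralizer_le
  have hzQ : zc ∈ Q := hQC (Subgroup.mem_centralizer_iff.mpr fun q _ => hzcen q)
  have hQ2 : IsPGroup 2 Q := hQ.1.1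
  have hcen : ∀ x : C, ∀ hx : x ∈ Q, (⟨x, hx⟩ : Q) ∈ Subgroup.center Q → x = 1 ∨ x = zc := by
    intro x hx hxc
    by_contra hne
    push_neg at hne
    have hzc : (⟨zc, hzQ⟩ : Q) ∈ Subgroup.center Q :=
      Subgroup.mem_center_iff.mpr fun q => Subtype.ext (hzcen q)
    obtain ⟨u, w, huw, huni⟩ := Nat.card_eq_two_iff.mp hQ.2
    have hall : ∀ a : Subgroup.center Q, a = u ∨ a = w := fun a => by
      have : a ∈ ({u, w} : Set (Subgroup.center Q)) := huni ▸ Set.mem_univ a
      simpa using this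
    have h1 : (⟨⟨x, hx⟩, hxc⟩ : Subgroup.center Q) ≠ 1 := fun h =>
      hne.1 (congrArg Subtype.val (congrArg Subtype.val h))
    have h2 : (⟨⟨zc, hzQ⟩, hzc⟩ : Subgroup.center Q) ≠ 1 := fun h =>
      hz1 (congrArg Subtype.val (congrArg Subtype.val (congrArg Subtype.val h)))
    have h3 : (⟨⟨x, hx⟩, hxc⟩ : Subgroup.center Q) ≠ ⟨⟨zc, hzQ⟩, hzc⟩ := fun h =>
      hne.2 (congrArg Subtype.val (congrArg Subtype.val h))
    rcases hall ⟨⟨x, hx⟩, hxc⟩ with a | a <;> rcases hall ⟨⟨zc, hzQ⟩, hzc⟩ with b | b <;>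
      rcases hall 1 with c | c <;>
      first
        | exact h3 (a.trans b.symm)
        | exact h1 (a.trans c.symm)
        | exact h2 (b.trans c.symm)
  -- a nontrivial normal subgroup of `Q` contains `zc`
  have hmin : ∀ W : Subgroup C, W ≤ Q → (∀ q ∈ Q, ∀ x ∈ W, q * x * q⁻¹ ∈ W) → W ≠ ⊥ →
      zc ∈ W := by
    intro W hWQ hWn hW1
    haveI : (W.subgroupOf Q).Normal :=
      ⟨fun x hx q => hWn (q : C) q.2 (x : C) hx⟩
    have hne : W.subgroupOf Q ≠ ⊥ := fun h => hW1 (by
      rw [← Subgroup.map_subgroupOf_eq_of_le hWQ, h, Subgroup.map_bot])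
    have h := Cfsg.Agent.Lib.PGroups.normal_inf_center_ne_bot hQ2 (W.subgroupOf Q) hne
    obtain ⟨⟨x, hx⟩, ⟨hxW, hxc⟩, hx1⟩ := (Subgroup.bot_or_exists_ne_one _).resolve_left h
    rcases hcen x hx hxc with h' | h'
    · exact absurd (Subtype.ext h') hx1
    · exact h' ▸ hxW
  obtain ⟨g, ⟨hgC, hgQ⟩, hgne⟩ := hnwc
  set z' := g * z * g⁻¹ with hz'
  have : Nontrivial G := ⟨z, 1, hz1⟩
  refine ⟨fun N hN => ?_⟩
  haveI := hN
  by_cases hzN : z ∈ N
  · refine Or.inr ?_
    have hNQ : Q ≤ N.subgroupOf C := by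
      haveI : (Q ⊓ N.subgroupOf C).Normal := inferInstance
      rcases hirr (Q ⊓ N.subgroupOf C) inferInstance inf_le_left with h | h
      · exact h.symm.le.trans inf_le_right
      · have := h ⟨z', hgC⟩ ⟨hgQ, hN.conj_mem z hzN g⟩
        obtain ⟨i, hi⟩ := this
        exfalso
        change z ^ i = z' at hi
        rcases Int.even_or_odd i with ⟨j, hj⟩ | ⟨j, hj⟩
        · rw [hj, ← two_mul, zpow_mul, zpow_ofNat, pow_two, hzz, one_zpow] at hi
          exact hz1 (conj_eq_one_iff.mp hi.symm)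
        · rw [hj, zpow_add, zpow_mul, zpow_ofNat, pow_two, hzz, one_zpow, one_mul, zpow_one] at hi
          exact hgne hi.symm
    set W := Subgroup.closure {x : C | IsConj z (x : G)} with hW
    haveI hWn : W.Normal := by
      refine ⟨fun x hx c => ?_⟩
      induction hx using Subgroup.closure_induction with
      | mem y hy => exact Subgroup.subset_closure (hy.trans (isConj_iff.mpr ⟨(c : G), rfl⟩))
      | one => rw [mul_one, mul_inv_cancel]; exact one_mem W
      | mul a b _ _ ha hb =>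
        rw [show c * (a * b) * c⁻¹ = c * a * c⁻¹ * (c * b * c⁻¹) by group]
        exact mul_mem ha hb
      | inv a _ ha =>
        rw [show c * a⁻¹ * c⁻¹ = (c * a * c⁻¹)⁻¹ by group]
        exact inv_mem ha
    have hWN : W ≤ N.subgroupOf C := (Subgroup.closure_le _).mpr fun x hx => by
      obtain ⟨k, hk⟩ := isConj_iff.mp hx
      show (x : G) ∈ N
      rw [← hk]; exact hN.conj_mem z hzN k
    have hCN : C ≤ N := by
      haveI : ((N.subgroupOf C).map (QuotientGroup.mk' Q)).Normal :=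
        Subgroup.Normal.map inferInstance _ (QuotientGroup.mk'_surjective Q)
      rcases IsSimpleGroup.eq_bot_or_eq_top_of_normal
        ((N.subgroupOf C).map (QuotientGroup.mk' Q)) inferInstance with h | h
      · exfalso
        rw [Subgroup.map_eq_bot_iff, QuotientGroup.ker_mk'] at h
        rcases hirr W hWn (hWN.trans h) with h' | h'
        · exact hwcl h'
        · have hmem : (⟨z', hgC⟩ : C) ∈ W :=
            Subgroup.subset_closure (isConj_iff.mpr ⟨g, rfl⟩)
          obtain ⟨i, hi⟩ := h' _ hmem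
          change z ^ i = z' at hi
          rcases Int.even_or_odd i with ⟨j, hj⟩ | ⟨j, hj⟩
          · rw [hj, ← two_mul, zpow_mul, zpow_ofNat, pow_two, hzz, one_zpow] at hi
            exact hz1 (conj_eq_one_iff.mp hi.symm)
          · rw [hj, zpow_add, zpow_mul, zpow_ofNat, pow_two, hzz, one_zpow, one_mul, zpow_one] at hi
            exact hgne hi.symm
      · intro c hc
        have h1 : QuotientGroup.mk' Q ⟨c, hc⟩ ∈
            (N.subgroupOf C).map (QuotientGroup.mk' Q) := h ▸ Subgroup.mem_top _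
        obtain ⟨n, hn, he⟩ := h1
        have hq : n⁻¹ * ⟨c, hc⟩ ∈ Q := QuotientGroup.eq.mp he
        have h2 := mul_mem (show n ∈ N.subgroupOf C from hn) (hNQ hq)
        rw [mul_inv_cancel_left] at h2
        exact h2
    -- a Sylow `2`-subgroup of `G` lies in `C`
    obtain ⟨S⟩ : Nonempty (Sylow 2 C) := Sylow.nonempty
    set S0 := (S : Subgroup C).map C.subtype with hS0
    have hQS : Q ≤ (S : Subgroup C) := hQ2.le_sylow_of_normal S
    have hzS : z ∈ S0 := ⟨zc, hQS hzQ, rfl⟩
    have hNS : Subgroup.normalizer (S0 : Set G) ≤ C := by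
      intro n hn
      have hcS : ∀ y ∈ S0, y ∈ C := by rintro _ ⟨y, -, rfl⟩; exact y.2
      have hzn : n * z * n⁻¹ ∈ S0 := (Subgroup.mem_normalizer_iff.mp hn z).mp hzS
      obtain ⟨y, hy, hye⟩ := hzn
      have hyc : ∀ q ∈ (S : Subgroup C), q * y = y * q := by
        intro q hq
        refine Subtype.ext ?_
        show (q : G) * (y : G) = (y : G) * (q : G)
        rw [show (y : G) = n * z * n⁻¹ from hye]
        have hq' : n⁻¹ * (q : G) * n ∈ S0 :=
          (Subgroup.mem_normalizer_iff''.mp hn (q : G)).mp ⟨q, hq, rfl⟩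
        have hc := (hmemC _).mp (hcS _ hq')
        calc (q : G) * (n * z * n⁻¹) = n * ((n⁻¹ * q * n) * z) * n⁻¹ := by group
          _ = n * (z * (n⁻¹ * q * n)) * n⁻¹ := by rw [hc]
          _ = n * z * n⁻¹ * q := by group
      have hyQ : y ∈ Q := hQC (Subgroup.mem_centralizer_iff.mpr fun q hq => hyc q (hQS hq))
      rcases hcen y hyQ (Subgroup.mem_center_iff.mpr fun q => Subtype.ext (hyc q (hQS q.2))) with
        h | h
      · rw [h] at hye
        exact absurd (conj_eq_one_iff.mp hye.symm) hz1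
      · rw [h] at hye
        refine (hmemC n).mpr ?_
        conv_lhs => rw [show z = n * z * n⁻¹ from hye]
        group
    obtain ⟨T, hT⟩ := ((S.2.map C.subtype) : IsPGroup 2 S0).exists_le_sylow
    have hTS : (T : Subgroup G) = S0 := by
      by_contra hne
      haveI : Group.IsNilpotent (T : Subgroup G) := T.2.isNilpotent
      have h1 : S0.subgroupOf (T : Subgroup G) < ⊤ := lt_top_iff_ne_top.mpr fun h =>
        hne (le_antisymm (Subgroup.subgroupOf_eq_top.mp h) hT)
      obtain ⟨x, hx1, hx2⟩ := SetLike.exists_of_lt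
        (Group.normalizerCondition_of_isNilpotent (G := (T : Subgroup G)) _ h1)
      have h3 := Subgroup.le_normalizer_map (T : Subgroup G).subtype ⟨x, hx1, rfl⟩
      rw [Subgroup.map_subgroupOf_eq_of_le hT] at h3
      have hxC : (x : G) ∈ C := hNS h3
      have hle : (S : Subgroup C) ≤ (T : Subgroup G).subgroupOf C := fun s hs => hT ⟨s, hs, rfl⟩
      have heq := S.3 (T.2.comap_subtype (K := C)) hle
      exact hx2 ⟨⟨(x : G), hxC⟩, (heq ▸ x.2 : (⟨(x : G), hxC⟩ : C) ∈ (S : Subgroup C)), rfl⟩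
    have hTN : (T : Subgroup G) ≤ N := hTS ▸ (Subgroup.map_subtype_le _).trans hCN
    have htop := (T.subtype hTN).normalizer_sup_eq_top
    rw [show ((T.subtype hTN : Sylow 2 N) : Subgroup N) = (T : Subgroup G).subgroupOf N from rfl,
      Subgroup.map_subgroupOf_eq_of_le hTN, hTS] at htop
    exact top_le_iff.mp (htop ▸ sup_le (hNS.trans hCN) le_rfl)
  · refine Or.inl ?_
    have hNC : ∀ x ∈ N, x ∈ C → x = 1 := by
      have hNQ : Q ⊓ N.subgroupOf C = ⊥ := by
        by_contra hne
        exact hzN (hmin _ inf_le_left (fun q hq x hx =>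
          ⟨Q.mul_mem (Q.mul_mem hq hx.1) (Q.inv_mem hq),
            Subgroup.Normal.conj_mem inferInstance x hx.2 q⟩) hne).2
      intro x hxN hxC
      have hxQ : (⟨x, hxC⟩ : C) ∈ Subgroup.centralizer (Q : Set C) :=
        Subgroup.mem_centralizer_iff.mpr fun q hq =>
          Subgroup.commute_of_normal_of_disjoint Q (N.subgroupOf C) inferInstance inferInstance
            (disjoint_iff.mpr hNQ) q ⟨x, hxC⟩ hq hxN
      have : (⟨x, hxC⟩ : C) ∈ Q ⊓ N.subgroupOf C := ⟨hQC hxQ, hxN⟩
      rw [hNQ, Subgroup.mem_bot] at this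
      exact congrArg Subtype.val this
    have hinv : ∀ n ∈ N, z * n * z = n⁻¹ := by
      let f : N → N := fun n => ⟨(n : G)⁻¹ * (z * n * z), N.mul_mem (N.inv_mem n.2)
        (by simpa only [hzinv] using hN.conj_mem (n : G) n.2 z)⟩
      have hf : Function.Injective f := fun a b hab => by
        have hab' : (a : G)⁻¹ * (z * a * z) = (b : G)⁻¹ * (z * b * z) := congrArg Subtype.val hab
        have e : z * ((b : G) * (a : G)⁻¹) * z⁻¹ = (b : G) * (a : G)⁻¹ := by
          calc z * ((b : G) * (a : G)⁻¹) * z⁻¹ = (z * b * z) * (z * a * z)⁻¹ := by group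
            _ = (b : G) * ((b : G)⁻¹ * (z * b * z)) * (z * a * z)⁻¹ := by group
            _ = (b : G) * ((a : G)⁻¹ * (z * a * z)) * (z * a * z)⁻¹ := by rw [← hab']
            _ = (b : G) * (a : G)⁻¹ := by group
        have h1 : (b : G) * (a : G)⁻¹ ∈ C := (hmemC _).mpr (mul_inv_eq_iff_eq_mul.mp e)
        have h2 := hNC _ (N.mul_mem b.2 (N.inv_mem a.2)) h1
        exact Subtype.ext (mul_inv_eq_one.mp h2).symm
      intro n hn
      obtain ⟨a, ha⟩ := Finite.injective_iff_surjective.mp hf ⟨n, hn⟩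
      have ha' : (a : G)⁻¹ * (z * a * z) = n := congrArg Subtype.val ha
      rw [← ha', mul_inv_rev, inv_inv, mul_inv_rev, mul_inv_rev, hzinv]
      calc z * ((a : G)⁻¹ * (z * a * z)) * z = z * (a : G)⁻¹ * z * a * (z * z) := by group
        _ = z * (a : G)⁻¹ * z * a := by rw [hzz, mul_one]
        _ = z * ((a : G)⁻¹ * z) * a := by group
        _ = _ := by group
    have hinv' : ∀ n ∈ N, z' * n * z'⁻¹ = n⁻¹ := fun n hn => by
      have h := hinv (g⁻¹ * n * g) (by simpa using hN.conj_mem n hn g⁻¹)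
      calc z' * n * z'⁻¹ = g * (z * (g⁻¹ * n * g) * z⁻¹) * g⁻¹ := by rw [hz']; group
        _ = g * (g⁻¹ * n * g)⁻¹ * g⁻¹ := by rw [hzinv, h]
        _ = n⁻¹ := by group
    set K := Q ⊓ (Subgroup.centralizer (N : Set G)).subgroupOf C with hK
    have hKz : zc ∈ K := by
      refine hmin K inf_le_left (fun q hq x hx =>
        ⟨Q.mul_mem (Q.mul_mem hq hx.1) (Q.inv_mem hq),
          Subgroup.Normal.conj_mem inferInstance x hx.2 q⟩) fun h => ?_
      have hmem : zc * ⟨z', hgC⟩ ∈ K := ⟨mul_mem hzQ hgQ,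
        Subgroup.mem_centralizer_iff.mpr fun n hn => by
          show n * (z * z') = z * z' * n
          have e1 := hinv' n hn
          have e2 := hinv n⁻¹ (N.inv_mem hn)
          rw [inv_inv] at e2
          calc n * (z * z') = (z * n⁻¹ * z) * (z * z') := by rw [e2]
            _ = z * n⁻¹ * (z * z) * z' := by group
            _ = z * n⁻¹ * z' := by rw [hzz, mul_one]
            _ = z * (z' * n * z'⁻¹) * z' := by rw [e1]
            _ = z * z' * n := by group⟩
      rw [h, Subgroup.mem_bot] at hmem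
      have h' : z * z' = 1 := congrArg Subtype.val hmem
      exact hgne (by rw [eq_inv_of_mul_eq_one_right h', hzinv])
    rw [Subgroup.eq_bot_iff_forall]
    intro n hn
    exact hNC n hn ((hmemC n).mpr (Subgroup.mem_centralizer_iff.mp hKz.2 n hn).symm)


/-- Let z be an involution of the finite group G with centralizer H whose generalized Fitting subgroup Q is extraspecial of width at least 2 (order 2^(2w+1), w ≥ 2); suppose some conjugate of z other than z lies in Q, H/Q is a non-abelian simple group, H acts irreducibly by conjugation on Q modulo the subgroup generated by z (the only H-invariant subgroups of Q containing z are that subgroup and Q), and Q is not the subgroup generated by the conjugates of z lying in H. Then G is simple. -/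
theorem result {G : Type*} [Group G] [Finite G] (z : G) (hz : orderOf z = 2) (Q : Subgroup (Subgroup.centralizer ({z} : Set G))) [Q.Normal] (hF : Cfsg.generalizedFittingSubgroup ↥(Subgroup.centralizer ({z} : Set G)) = Q) (hQ : Cfsg.IsExtraspecial 2 ↥Q) (w : ℕ) (hw : 2 ≤ w) (hcard : Nat.card ↥Q = 2 ^ (2 * w + 1)) (hnwc : ∃ g : G, (∃ hq : g * z * g⁻¹ ∈ Subgroup.centralizer ({z} : Set G), (⟨g * z * g⁻¹, hq⟩ : Subgroup.centralizer ({z} : Set G)) ∈ Q) ∧ g * z * g⁻¹ ≠ z) (hsimp : IsSimpleGroup (↥(Subgroup.centralizer ({z} : Set G)) ⧸ Q)) (hna : ¬ IsMulCommutative (↥(Subgroup.centralizer ({z} : Set G)) ⧸ Q)) (hirr : ∀ W : Subgroup (Subgroup.centralizer ({z} : Set G)), W.Normal → W ≤ Q → (W = Q ∨ ∀ x ∈ W, (x : G) ∈ Subgroup.zpowers z)) (hwcl : Subgroup.closure {x : Subgroup.centralizer ({z} : Set G) | IsConj z (x : G)} ≠ Q) : IsSimpleGroup G := by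
  exact core z hz _ rfl Q hF hQ hnwc hsimp hirr hwcl

end Cfsg.Agent.S5436
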