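import Cfsg.Statements.S5437


set_option autoImplicit false
set_option linter.style.haveILetI false
open Cfsg

namespace Cfsg.Agent.S5437

/-- Let I be a set of involutions of the finite group G closed under conjugation, and H a subgroup of G. The following are equivalent: (1) for every member x of I lying in H, the conjugates of x lying in H form a single H-class and the centralizer of x lies in H; (2) for every g outside H, no member of I lies in both H and g H g⁻¹; (3) every member of I lying in H fixes exactly one coset in the action of G on the cosets of H. -/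
theorem result {G : Type*} [Group G] [Finite G] (I : Set G) (hI : ∀ x ∈ I, orderOf x = 2) (hIc : ∀ g : G, ∀ x ∈ I, g * x * g⁻¹ ∈ I) (H : Subgroup G) : ((∀ x ∈ I, x ∈ H → (∀ g : G, g * x * g⁻¹ ∈ H → ∃ h ∈ H, h * x * h⁻¹ = g * x * g⁻¹) ∧ Subgroup.centralizer ({x} : Set G) ≤ H) ↔ (∀ g : G, g ∉ H → ∀ x ∈ I, ¬ (x ∈ H ∧ x ∈ (H : Subgroup G).map (MulAut.conj g).toMonoidHom))) ∧ ((∀ g : G, g ∉ H → ∀ x ∈ I, ¬ (x ∈ H ∧ x ∈ (H : Subgroup G).map (MulAut.conj g).toMonoidHom)) ↔ ∀ x ∈ I, x ∈ H → ∃! c : G ⧸ H, x • c = c) := by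
  have key : ∀ (x g : G), x • (QuotientGroup.mk g : G ⧸ H) = QuotientGroup.mk g ↔ g⁻¹ * x * g ∈ H := by
    intro x g
    rw [MulAction.Quotient.smul_mk, QuotientGroup.eq, ← H.inv_mem_iff]
    simp [mul_assoc]
  have memc : ∀ (x g : G), x ∈ (H : Subgroup G).map (MulAut.conj g).toMonoidHom ↔ g⁻¹ * x * g ∈ H := by
    intro x g
    rw [Subgroup.mem_map]
    constructor
    · rintro ⟨y, hy, rfl⟩
      simpa [MulAut.conj_apply, mul_assoc] using hy
    · intro h
      exact ⟨_, h, by simp [MulAut.conj_apply, mul_assoc]⟩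
  refine ⟨⟨?_, ?_⟩, ⟨?_, ?_⟩⟩
  · intro h g hg x hx hxx
    obtain ⟨h1, h2⟩ := h x hx hxx.1
    have hg' := (memc x g).mp hxx.2
    obtain ⟨k, hk, hkx⟩ := h1 g⁻¹ (by simpa using hg')
    have hgk : g * k ∈ H := h2 (Subgroup.mem_centralizer_singleton_iff.mpr (by
      have : k * x = g⁻¹ * x * g * k := by rw [← mul_inv_eq_iff_eq_mul, hkx]; simp
      calc g * k * x = g * (k * x) := mul_assoc _ _ _
        _ = g * (g⁻¹ * x * g * k) := by rw [this]
        _ = x * (g * k) := by group))
    exact hg ((H.mul_mem_cancel_right hk).mp hgk)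
  · intro h x hx hxH
    refine ⟨fun g hg => ⟨g, ?_, rfl⟩, fun c hc => ?_⟩
    · by_contra hgH
      refine h g hgH (g * x * g⁻¹) (hIc g x hx) ⟨hg, (memc _ g).mpr ?_⟩
      simpa [mul_assoc] using hxH
    · by_contra hcH
      refine h c hcH x hx ⟨hxH, (memc x c).mpr ?_⟩
      rw [mul_assoc, ← Subgroup.mem_centralizer_singleton_iff.mp hc, inv_mul_cancel_left]
      exact hxH
  · intro h x hx hxH
    refine ⟨QuotientGroup.mk 1, (key x 1).mpr (by simpa using hxH), fun c hc => ?_⟩
    obtain ⟨g, rfl⟩ := QuotientGroup.mk_surjective c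
    refine QuotientGroup.eq.mpr ?_
    by_contra hg
    exact h g (fun hgH => hg (by simpa using hgH)) x hx ⟨hxH, (memc x g).mpr ((key x g).mp hc)⟩
  · intro h g hg x hx hxx
    obtain ⟨c, hc, hu⟩ := h x hx hxx.1
    have h1 := hu (QuotientGroup.mk 1) ((key x 1).mpr (by simpa using hxx.1))
    have h2 := hu (QuotientGroup.mk g) ((key x g).mpr ((memc x g).mp hxx.2))
    rw [← h1, QuotientGroup.eq] at h2
    exact hg (by simpa using h2)

end Cfsg.Agent.S5437
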