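import Cfsg.Statements.S5438


set_option autoImplicit false
set_option linter.style.haveILetI false
open Cfsg

namespace Cfsg.Agent.S5438

/-- Let z be a 2-central involution of the finite group G (an involution central in some Sylow 2-subgroup) and H a subgroup containing z such that the coset H is the only coset of H fixed by z (in the action of G on the cosets of H). Then H has odd index in G, and for every 2-element x of H the conjugates of x lying in H form a single H-class. -/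
theorem result {G : Type*} [Group G] [Finite G] (z : G) (hz : Cfsg.IsTwoCentralInvolution z) (H : Subgroup G) (hzH : z ∈ H) (hfix : ∀ g : G, g⁻¹ * z * g ∈ H → g ∈ H) : Odd H.index ∧ ∀ x ∈ H, (∃ k : ℕ, orderOf x = 2 ^ k) → ∀ g : G, g * x * g⁻¹ ∈ H → ∃ h ∈ H, h * x * h⁻¹ = g * x * g⁻¹ := by
  haveI : Fact (Nat.Prime 2) := ⟨Nat.prime_two⟩
  obtain ⟨hz2, P, hzP, hPc⟩ := hz
  have hCH : Subgroup.centralizer ({z} : Set G) ≤ H := by
    intro g hg
    refine hfix g ?_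
    rw [mul_assoc, ← Subgroup.mem_centralizer_singleton_iff.mp hg, inv_mul_cancel_left]
    exact hzH
  have hPH : (P : Subgroup G) ≤ H := fun x hx =>
    hCH (Subgroup.mem_centralizer_singleton_iff.mpr (hPc x hx))
  -- every 2-subgroup containing z lies in H
  have two_le : ∀ T : Subgroup G, IsPGroup 2 T → z ∈ T → T ≤ H := by
    intro T hT hzT
    by_contra hne
    haveI : Group.IsNilpotent ↥T := hT.isNilpotent
    have hlt : H.subgroupOf T < ⊤ := lt_top_iff_ne_top.mpr (fun h => hne (Subgroup.subgroupOf_eq_top.mp h))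
    obtain ⟨t, htN, htH⟩ := SetLike.exists_of_lt (Group.normalizerCondition_of_isNilpotent _ hlt)
    refine htH (hfix (t : G) ?_)
    have := (Subgroup.mem_normalizer_iff''.mp htN ⟨z, hzT⟩).mp hzH
    simpa [Subgroup.mem_subgroupOf] using this
  refine ⟨?_, fun x hxH ⟨k, hk⟩ g hg => ?_⟩
  · have h := P.not_dvd_index
    rw [Nat.odd_iff, ← Nat.two_dvd_ne_zero.trans Iff.rfl]
    intro h2
    exact h (h2.trans (Subgroup.index_dvd_of_le hPH))
  -- move 2-elements of H into P inside H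
  have toP : ∀ u ∈ H, (∃ j, orderOf u = 2 ^ j) → ∃ h ∈ H, h * u * h⁻¹ ∈ (P : Subgroup G) := by
    intro u hu ⟨j, hj⟩
    have hp : IsPGroup 2 ↥(Subgroup.zpowers (⟨u, hu⟩ : ↥H)) := IsPGroup.of_card (n := j) (by
      rw [Nat.card_zpowers, ← hj]; exact Subgroup.orderOf_mk _ _)
    obtain ⟨S, hS⟩ := hp.exists_le_sylow
    obtain ⟨h, hh⟩ := MulAction.exists_smul_eq ↥H S (P.subtype hPH)
    refine ⟨h, h.2, ?_⟩
    have h1 : h • (⟨u, hu⟩ : ↥H) = h • (⟨u, hu⟩ : ↥H) := rfl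
    have hmem : (MulAut.conj h) (⟨u, hu⟩ : ↥H) ∈ (P.subtype hPH : Subgroup ↥H) := by
      rw [← hh, Sylow.coe_subgroup_smul]
      exact Subgroup.smul_mem_pointwise_smul _ _ _ (hS (Subgroup.mem_zpowers _))
    rw [Sylow.coe_subtype] at hmem
    exact hmem
  obtain ⟨h₁, hh₁, hx₁⟩ := toP x hxH ⟨k, hk⟩
  obtain ⟨h₂, hh₂, hy₁⟩ := toP (g * x * g⁻¹) hg ⟨k, by
    rw [← hk]; exact (MulEquiv.orderOf_eq (MulAut.conj g) x)⟩
  -- z and its conjugate both centralise y
  let y : G := h₂ * (g * x * g⁻¹) * h₂⁻¹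
  let a : G := h₂ * g * h₁⁻¹
  have hay : a * (h₁ * x * h₁⁻¹) * a⁻¹ = y := by simp only [a, y]; group
  have hzy : Commute y z := hPc y hy₁
  have hzy' : Commute y (a * z * a⁻¹) := by
    rw [← hay]
    exact (show Commute (MulAut.conj a (h₁ * x * h₁⁻¹)) (MulAut.conj a z) from
      (show Commute (h₁ * x * h₁⁻¹) z from hPc _ hx₁).map (MulAut.conj a).toMonoidHom)
  let C := Subgroup.centralizer ({y} : Set G)
  have hz1 : z ∈ C := Subgroup.mem_centralizer_singleton_iff.mpr hzy.symm.eq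
  have hz3 : a * z * a⁻¹ ∈ C := Subgroup.mem_centralizer_singleton_iff.mpr hzy'.symm.eq
  have mkp : ∀ (w : G) (hw : w ∈ C), orderOf w = 2 → IsPGroup 2 ↥(Subgroup.zpowers (⟨w, hw⟩ : ↥C)) := by
    intro w hw h
    exact IsPGroup.of_card (n := 1) (by rw [Nat.card_zpowers, pow_one, ← h]; exact Subgroup.orderOf_mk _ _)
  obtain ⟨T, hT⟩ := (mkp z hz1 hz2).exists_le_sylow
  obtain ⟨T', hT'⟩ := (mkp _ hz3 (by rw [← hz2]; exact MulEquiv.orderOf_eq (MulAut.conj a) z)).exists_le_sylow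
  obtain ⟨c, hc⟩ := MulAction.exists_smul_eq ↥C T' T
  have hTH := two_le ((T : Subgroup ↥C).map C.subtype) (T.2.map _)
    ⟨⟨z, hz1⟩, hT (Subgroup.mem_zpowers _), rfl⟩
  have hcT : (MulAut.conj c) (⟨a * z * a⁻¹, hz3⟩ : ↥C) ∈ (T : Subgroup ↥C) := by
    rw [← hc, Sylow.coe_subgroup_smul]
    exact Subgroup.smul_mem_pointwise_smul _ _ _ (hT' (Subgroup.mem_zpowers _))
  have hca : ((c : G) * a)⁻¹ ∈ H := hfix _ (by
    have := hTH ⟨_, hcT, rfl⟩
    simpa [mul_assoc] using this)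
  rw [H.inv_mem_iff] at hca
  refine ⟨h₂⁻¹ * ((c : G) * a) * h₁, H.mul_mem (H.mul_mem (H.inv_mem hh₂) hca) hh₁, ?_⟩
  have hcy : (c : G) * y * (c : G)⁻¹ = y :=
    mul_inv_eq_iff_eq_mul.mpr (Subgroup.mem_centralizer_singleton_iff.mp c.2)
  calc h₂⁻¹ * ((c : G) * a) * h₁ * x * (h₂⁻¹ * ((c : G) * a) * h₁)⁻¹
      = h₂⁻¹ * ((c : G) * (a * (h₁ * x * h₁⁻¹) * a⁻¹) * (c : G)⁻¹) * h₂ := by group
    _ = h₂⁻¹ * y * h₂ := by rw [hay, hcy]
    _ = g * x * g⁻¹ := by simp only [y]; group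

end Cfsg.Agent.S5438
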