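import Cfsg.Statements.S5439


set_option autoImplicit false
set_option linter.style.haveILetI false
open Cfsg

namespace Cfsg.Agent.S5439

/-- Let I and J be two different conjugacy classes of involutions of the finite group G and H a subgroup such that every member of I ∪ J fixes exactly one coset in the action on the cosets of H, and such that for every a in I ∩ H and every b in (I ∪ J) ∩ H different from a and commuting with it, the centralizer of a b lies in H. Then H = G. -/
theorem result {G : Type*} [Group G] [Finite G] (I J : Set G) (a₀ b₀ : G) (ha₀ : orderOf a₀ = 2) (hb₀ : orderOf b₀ = 2) (hI : I = {x | IsConj a₀ x}) (hJ : J = {x | IsConj b₀ x}) (hIJ : I ≠ J) (H : Subgroup G) (hfix : ∀ x ∈ I ∪ J, ∃! c : G ⧸ H, x • c = c) (hcent : ∀ a ∈ I, a ∈ H → ∀ b ∈ I ∪ J, b ∈ H → a ≠ b → a * b = b * a → Subgroup.centralizer ({a * b} : Set G) ≤ H) : H = ⊤ := by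
  have ha₀I : a₀ ∈ I := by rw [hI]; exact IsConj.refl a₀
  have hconj : ∀ (c : G) (g x : G), IsConj c x → IsConj c (g * x * g⁻¹) :=
    fun c g x h => h.trans (isConj_iff.mpr ⟨g, rfl⟩)
  have hIc : ∀ g x : G, x ∈ I → g * x * g⁻¹ ∈ I := by rw [hI]; exact fun g x h => hconj a₀ g x h
  have hJc : ∀ g x : G, x ∈ J → g * x * g⁻¹ ∈ J := by rw [hJ]; exact fun g x h => hconj b₀ g x h
  have key : ∀ (x g : G), x • (QuotientGroup.mk g : G ⧸ H) = QuotientGroup.mk g ↔ g⁻¹ * x * g ∈ H := by
    intro x g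
    rw [MulAction.Quotient.smul_mk, QuotientGroup.eq, ← H.inv_mem_iff]
    simp [mul_assoc]
  have uniq : ∀ x ∈ I ∪ J, x ∈ H → ∀ g : G, g⁻¹ * x * g ∈ H → g ∈ H := by
    intro x hx hxH g hg
    obtain ⟨c, _, hu⟩ := hfix x hx
    have h1 := hu _ ((key x 1).mpr (by simpa using hxH))
    have h2 := hu _ ((key x g).mpr hg)
    rw [← h1, QuotientGroup.eq] at h2
    simpa using h2
  have cent : ∀ x ∈ I ∪ J, x ∈ H → ∀ g : G, g * x = x * g → g ∈ H := by
    intro x hx hxH g hg
    exact uniq x hx hxH g (by rw [mul_assoc, ← hg, inv_mul_cancel_left]; exact hxH)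
  obtain ⟨a, haI, haH⟩ : ∃ a ∈ I, a ∈ H := by
    obtain ⟨c, hc, -⟩ := hfix a₀ (Or.inl ha₀I)
    obtain ⟨g, rfl⟩ := QuotientGroup.mk_surjective c
    exact ⟨g⁻¹ * a₀ * g, by simpa using hIc g⁻¹ a₀ ha₀I, (key a₀ g).mp hc⟩
  have ord_of : ∀ {c x : G}, orderOf c = 2 → IsConj c x → orderOf x = 2 := by
    intro c x hc h
    obtain ⟨g, rfl⟩ := isConj_iff.mp h
    rw [← hc]; exact MulEquiv.orderOf_eq (MulAut.conj g) c
  have sqone : ∀ {x : G}, orderOf x = 2 → x * x = 1 := fun {x} h => by rw [← sq, ← h, pow_orderOf_eq_one]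
  have ha2 : orderOf a = 2 := ord_of ha₀ (hI ▸ haI : a ∈ {x | IsConj a₀ x})
  have hJH : ∀ b ∈ J, b ∈ H := by
    intro b hbJ
    have hb2 : orderOf b = 2 := ord_of hb₀ (hJ ▸ hbJ : b ∈ {x | IsConj b₀ x})
    have haa := sqone ha2
    have hbb := sqone hb2
    have hnI : ∀ y, y ∈ I → y ∉ J := by
      intro y hy hy'
      apply hIJ
      subst hI hJ
      ext w
      exact ⟨fun hw => hy'.trans (hy.symm.trans hw), fun hw => hy.trans (hy'.symm.trans hw)⟩
    generalize hr : a * b = r
    have hainv : a⁻¹ = a := inv_eq_of_mul_eq_one_right haa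
    have hbinv : b⁻¹ = b := inv_eq_of_mul_eq_one_right hbb
    have har : a * r = r⁻¹ * a := by
      rw [← hr, mul_inv_rev, hainv, hbinv, ← mul_assoc a a b, haa, one_mul, mul_assoc b a a, haa, mul_one]
    have hpow : ∀ j : ℕ, a * r ^ j = (r ^ j)⁻¹ * a := by
      intro j
      induction j with
      | zero => simp
      | succ j ih =>
        calc a * r ^ (j + 1) = (a * r ^ j) * r := by rw [pow_succ, mul_assoc]
          _ = (r ^ j)⁻¹ * (a * r) := by rw [ih, mul_assoc]
          _ = (r ^ j)⁻¹ * r⁻¹ * a := by rw [har, ← mul_assoc]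
          _ = _ := by rw [← mul_inv_rev, ← pow_succ']
    have hconja : ∀ j : ℕ, r ^ (2 * j) * a ∈ I := by
      intro j
      have : r ^ j * a * (r ^ j)⁻¹ = r ^ (2 * j) * a := by
        have h2 : a * (r ^ j)⁻¹ = r ^ j * a := by
          rw [mul_inv_eq_iff_eq_mul, mul_assoc, hpow, mul_inv_cancel_left]
        rw [mul_assoc, h2, ← mul_assoc, ← pow_add, two_mul]
      rw [← this]; exact hIc _ _ haI
    have hconjb : ∀ j : ℕ, r ^ (2 * j + 1) * a ∈ J := by
      intro j
      have h2 : a * (r ^ j)⁻¹ = r ^ j * a := by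
        rw [mul_inv_eq_iff_eq_mul, mul_assoc, hpow, mul_inv_cancel_left]
      have hra : r * a = a * b * a⁻¹ := by rw [← hr, hainv]
      have : r ^ j * (r * a) * (r ^ j)⁻¹ = r ^ (2 * j + 1) * a := by
        calc r ^ j * (r * a) * (r ^ j)⁻¹ = r ^ (j + 1) * (a * (r ^ j)⁻¹) := by rw [pow_succ]; group
          _ = r ^ (j + 1) * r ^ j * a := by rw [h2, ← mul_assoc]
          _ = _ := by rw [← pow_add]; congr 2; ring
      rw [← this, hra]
      exact hJc _ _ (hJc _ _ hbJ)
    obtain ⟨m, hm | hm⟩ := Nat.even_or_odd' (orderOf r)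
    · -- r has even order 2m, z = r^m
      have hzinv : (r ^ m)⁻¹ = r ^ m := inv_eq_of_mul_eq_one_right (by
        rw [← pow_add, ← two_mul, ← hm, pow_orderOf_eq_one])
      have hza : a * r ^ m = r ^ m * a := by rw [hpow, hzinv]
      have hzb : b * r ^ m = r ^ m * b := by
        have hbr : b = a * r := by rw [← hr, ← mul_assoc, haa, one_mul]
        rw [hbr]
        calc a * r * r ^ m = a * r ^ m * r := by rw [mul_assoc, ← pow_succ', pow_succ, ← mul_assoc]
          _ = r ^ m * (a * r) := by rw [hza, mul_assoc]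
      have hzne : r ^ m ≠ 1 := by
        have h0 : 0 < orderOf r := orderOf_pos r
        exact pow_ne_one_of_lt_orderOf (by omega) (by omega)
      have hzH : r ^ m ∈ H := cent a (Or.inl haI) haH _ hza.symm
      have hazU : r ^ m * a ∈ I ∪ J := by
        obtain ⟨j, hj | hj⟩ := Nat.even_or_odd' m
        · exact Or.inl (hj ▸ hconja j)
        · exact Or.inr (hj ▸ hconjb j)
      refine hcent a haI haH (r ^ m * a) hazU (H.mul_mem hzH haH) ?_ ?_ ?_
      · intro h
        exact hzne (mul_eq_right.mp h.symm)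
      · rw [← mul_assoc, hza]
      · rw [← mul_assoc, hza, mul_assoc, haa, mul_one, Subgroup.mem_centralizer_singleton_iff]
        exact hzb
    · exfalso
      refine hnI (r * a) ?_ (by simpa using hconjb 0)
      have : r ^ (2 * (m + 1)) = r := by
        rw [show 2 * (m + 1) = orderOf r + 1 by omega, pow_succ, pow_orderOf_eq_one, one_mul]
      simpa [this] using hconja (m + 1)
  rw [eq_top_iff]
  intro g _
  have hb : b₀ ∈ J := by rw [hJ]; exact IsConj.refl b₀
  refine uniq b₀ (Or.inr hb) (hJH b₀ hb) g (hJH _ ?_)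
  simpa using hJc g⁻¹ b₀ hb

end Cfsg.Agent.S5439
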