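import Cfsg.Statements.S5440
import Cfsg.Agent.Lib.LargeFischer13.Involutions

set_option autoImplicit false
open Cfsg

namespace Cfsg.Agent.S5440

/-- Let G be a finite group of large Fischer type at the involution z: the generalized Fitting subgroup Q of H = C_G(z) is extraspecial of order 2^13, H has normal subgroups Q ≤ H₁ ≤ H₂ with H₁/Q of order 3, H₂/H₁ the projective special unitary group of dimension 4 over the field with nine elements and H₂ of index 2 in H, and some conjugate of z other than z lies in Q. Then H has exactly two orbits, under conjugation, on the involutions of Q other than z. -/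
theorem result {G : Type*} [Group G] [Finite G] (z : G) (Q : Subgroup (Subgroup.centralizer ({z} : Set G))) [Q.Normal] (hF : Cfsg.IsOfLargeFischerTypeAt z Q) : ∃ s t : Subgroup.centralizer ({z} : Set G), s ∈ Q ∧ t ∈ Q ∧ orderOf s = 2 ∧ orderOf t = 2 ∧ (s : G) ≠ z ∧ (t : G) ≠ z ∧ (¬ ∃ h : Subgroup.centralizer ({z} : Set G), h * s * h⁻¹ = t) ∧ ∀ x : Subgroup.centralizer ({z} : Set G), x ∈ Q → orderOf x = 2 → (x : G) ≠ z → (∃ h : Subgroup.centralizer ({z} : Set G), h * s * h⁻¹ = x) ∨ ∃ h : Subgroup.centralizer ({z} : Set G), h * t * h⁻¹ = x := by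
  open Cfsg.Agent.Lib.LargeFischer13 in
  obtain ⟨B⟩ := exists_bridge z Q hF
  obtain ⟨F⟩ := B.D.exists_nframe
  set c2 : Model.Coord := fun i => if i = 0 ∨ i = 1 then some 0 else none with hc2def
  set c4 : Model.Coord := fun i => if i = 0 ∨ i = 1 then none else some 0 with hc4def
  have hc2 : Model.wt c2 = 2 := by rw [hc2def]; decide
  have hc4 : Model.wt c4 = 4 := by rw [hc4def]; decide
  obtain ⟨hs0, hsq⟩ := (F.sing_iff c2).mpr (Or.inl hc2)
  obtain ⟨ht0, htq⟩ := (F.sing_iff c4).mpr (Or.inr (Or.inl hc4))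
  obtain ⟨s, hsπ, hs2, hs1, hsz, hso⟩ := B.exists_involution hs0 hsq
  obtain ⟨t, htπ, ht2, ht1, htz, hto⟩ := B.exists_involution ht0 htq
  refine ⟨s, t, s.2, t.2, hso, hto, hsz, htz, ?_, fun x hx hxo hxz => ?_⟩
  · rintro ⟨h, hh⟩
    have e := B.smul_of_conj hh
    rw [hsπ, htπ] at e
    exact F.sep c2 c4 (Or.inl hc2) (Or.inl hc4) _ e
  · have hx2 : (⟨x, hx⟩ : Q) * ⟨x, hx⟩ = 1 := Subtype.ext (by
      show x * x = 1
      rw [← sq, ← hxo, pow_orderOf_eq_one])
    have hx1 : (⟨x, hx⟩ : Q) ≠ 1 := fun h => by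
      have : x = 1 := congrArg Subtype.val h
      simp [this] at hxo
    obtain ⟨hx0, hxq⟩ := B.sing hx2 hx1 hxz
    obtain ⟨c, hc, hcase⟩ := F.exists_class hx0 hxq
    rcases hcase with hU | hR
    · obtain ⟨w, hw⟩ := F.transU c2 c (Or.inl hc2) hU
      exact Or.inl (B.conj_of_smul hx2 hx0 (w := w) (by rw [hsπ, ← hc]; exact hw))
    · obtain ⟨w, hw⟩ := F.transR c4 c (Or.inl hc4) hR
      exact Or.inr (B.conj_of_smul hx2 hx0 (w := w) (by rw [htπ, ← hc]; exact hw))

end Cfsg.Agent.S5440
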