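import Cfsg.Statements.S5441
import Cfsg.Agent.Lib.LargeFischer13.Setting

set_option autoImplicit false
open Cfsg

namespace Cfsg.Agent.S5441

/-- Let G be a finite group of large Fischer type at the involution z: the generalized Fitting subgroup Q of H = C_G(z) is extraspecial of order 2^13, H has normal subgroups Q ≤ H₁ ≤ H₂ with H₁/Q of order 3, H₂/H₁ the projective special unitary group of dimension 4 over the field with nine elements and H₂ of index 2 in H, and some conjugate of z other than z lies in Q. Then the conjugates of z lying in Q and different from z form a single orbit under conjugation by H. -/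
theorem result {G : Type*} [Group G] [Finite G] (z : G) (Q : Subgroup (Subgroup.centralizer ({z} : Set G))) [Q.Normal] (hF : Cfsg.IsOfLargeFischerTypeAt z Q) (s t : G) (hsQ : ∃ hsc : s ∈ Subgroup.centralizer ({z} : Set G), (⟨s, hsc⟩ : Subgroup.centralizer ({z} : Set G)) ∈ Q) (htQ : ∃ htc : t ∈ Subgroup.centralizer ({z} : Set G), (⟨t, htc⟩ : Subgroup.centralizer ({z} : Set G)) ∈ Q) (hs : IsConj z s) (ht : IsConj z t) (hs1 : s ≠ z) (ht1 : t ≠ z) : ∃ h ∈ Subgroup.centralizer ({z} : Set G), h * s * h⁻¹ = t := by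
  open Cfsg.Agent.Lib.LargeFischer13 in
  obtain ⟨hsc, hsQ⟩ := hsQ
  obtain ⟨htc, htQ⟩ := htQ
  obtain ⟨g, hg⟩ := isConj_iff.mp hs
  obtain ⟨g', hg'⟩ := isConj_iff.mp ht
  obtain ⟨B⟩ := exists_bridge z Q hF
  obtain ⟨F⟩ := B.D.exists_nframe
  have hBs := B.big hF (g := g) (y := ⟨⟨s, hsc⟩, hsQ⟩) hg.symm (by rw [hg]; exact hs1)
  have hBt := B.big hF (g := g') (y := ⟨⟨t, htc⟩, htQ⟩) hg'.symm (by rw [hg']; exact ht1)
  obtain ⟨ht2, ht0, -⟩ := B.sing_of_conj hF (g := g') (y := ⟨⟨t, htc⟩, htQ⟩) hg'.symm (by rw [hg']; exact ht1)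
  obtain ⟨c, hc⟩ := F.exists_coord (B.π ⟨⟨s, hsc⟩, hsQ⟩)
  obtain ⟨c', hc'⟩ := F.exists_coord (B.π ⟨⟨t, htc⟩, htQ⟩)
  rw [← hc] at hBs
  rw [← hc'] at hBt
  obtain ⟨w, hw⟩ := F.transR c c' (F.isR_of_big hBs) (F.isR_of_big hBt)
  obtain ⟨h, hh⟩ := B.conj_of_smul (s := ⟨⟨s, hsc⟩, hsQ⟩) ht2 ht0 (w := w) (by rw [← hc, ← hc']; exact hw)
  exact ⟨h, h.2, congrArg Subtype.val hh⟩

end Cfsg.Agent.S5441
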