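import Cfsg.Statements.S5442
import Cfsg.Agent.Lib.LargeFischer13.Setting

set_option autoImplicit false
open Cfsg

namespace Cfsg.Agent.S5442

/-- Let G be a finite group of large Fischer type at the involution z: the generalized Fitting subgroup Q of H = C_G(z) is extraspecial of order 2^13, H has normal subgroups Q ≤ H₁ ≤ H₂ with H₁/Q of order 3, H₂/H₁ the projective special unitary group of dimension 4 over the field with nine elements and H₂ of index 2 in H, and some conjugate of z other than z lies in Q. Let s = g z g⁻¹ be a conjugate of z lying in Q and different from z. Then the intersection of Q and g Q g⁻¹ (as subgroups of G) is elementary abelian of order 2^7; and in H/Q, writing X for the image of the centralizer of s in H and E for the image of the intersection of g Q g⁻¹ with H, E is a normal subgroup of X, elementary abelian of order 32, with X/E isomorphic to the alternating group of degree 6. -/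
theorem result {G : Type*} [Group G] [Finite G] (z : G) (Q : Subgroup (Subgroup.centralizer ({z} : Set G))) [Q.Normal] (hF : Cfsg.IsOfLargeFischerTypeAt z Q) (s : G) (hsQ : ∃ hsc : s ∈ Subgroup.centralizer ({z} : Set G), (⟨s, hsc⟩ : Subgroup.centralizer ({z} : Set G)) ∈ Q) (hs : IsConj z s) (hs1 : s ≠ z) (g : G) (hg : g * z * g⁻¹ = s) (X E : Subgroup ((Subgroup.centralizer ({z} : Set G)) ⧸ Q)) (hX : X = ((Subgroup.centralizer ({z} : Set G) ⊓ Subgroup.centralizer ({s} : Set G)).subgroupOf (Subgroup.centralizer ({z} : Set G))).map (QuotientGroup.mk' Q)) (hE : E = ((((Q.map (Subgroup.centralizer ({z} : Set G)).subtype)).map (MulAut.conj g).toMonoidHom ⊓ Subgroup.centralizer ({z} : Set G)).subgroupOf (Subgroup.centralizer ({z} : Set G))).map (QuotientGroup.mk' Q)) : Cfsg.IsElementaryAbelian 2 ((Q.map (Subgroup.centralizer ({z} : Set G)).subtype) ⊓ ((Q.map (Subgroup.centralizer ({z} : Set G)).subtype)).map (MulAut.conj g).toMonoidHom) ∧ Nat.card ↥((Q.map (Subgroup.centralizer ({z}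 : Set G)).subtype) ⊓ ((Q.map (Subgroup.centralizer ({z} : Set G)).subtype)).map (MulAut.conj g).toMonoidHom) = 2 ^ 7 ∧ E ≤ X ∧ (∀ x ∈ X, ∀ y ∈ E, x * y * x⁻¹ ∈ E) ∧ Cfsg.IsElementaryAbelian 2 E ∧ Nat.card E = 32 ∧ ∃ _ : (E.subgroupOf X).Normal, Nonempty (↥X ⧸ E.subgroupOf X ≃* alternatingGroup (Fin 6)) := by
  open Cfsg.Agent.Lib.LargeFischer13 in
  obtain ⟨hsc, hsQ⟩ := hsQ
  have hgQ : g * z * g⁻¹ ∈ QG Q := ⟨⟨s, hsc⟩, hsQ, hg.symm⟩
  have hne : g * z * g⁻¹ ≠ z := by rw [hg]; exact hs1
  obtain ⟨B⟩ := exists_bridge z Q hF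
  obtain ⟨F⟩ := B.D.exists_nframe
  set y : Q := ⟨⟨s, hsc⟩, hsQ⟩ with hy
  have hB := B.big hF (g := g) (y := y) hg.symm hne
  obtain ⟨h2, hy0, -⟩ := B.sing_of_conj hF (g := g) (y := y) hg.symm hne
  obtain ⟨hc32, -⟩ := F.big_structure hB
  obtain ⟨hmul, -⟩ := card_Ecap_mul hF hgQ hne
  rw [hc32] at hmul
  have hE' : E = Ebar Q g := hE
  have hX' : X = MulAction.stabilizer _ (B.π y) := hX.trans (B.image_centralizer (y := y) h2 hy0)
  subst hE' hX'
  refine ⟨Ecap_elementary hF hgQ hne, ?_, hB.le, hB.conj,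
    ⟨⟨⟨fun a b => Subtype.ext (hB.comm a.2 b.2)⟩⟩, fun a ha => (pow_two a).trans (hB.sq a ha)⟩, hc32,
    F.big_quotient hB⟩
  show Nat.card (Ecap Q g) = 2 ^ 7
  omega

end Cfsg.Agent.S5442
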