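import Cfsg.Statements.S5443
import Cfsg.Agent.Lib.FischerLarge99.Conj

set_option autoImplicit false
open Cfsg

namespace Cfsg.Agent.S5443

/-- Let G be a finite group of large Fischer type at the involution z: the generalized Fitting subgroup Q of H = C_G(z) is extraspecial of order 2^13, H has normal subgroups Q ≤ H₁ ≤ H₂ with H₁/Q of order 3, H₂/H₁ the projective special unitary group of dimension 4 over the field with nine elements and H₂ of index 2 in H, and some conjugate of z other than z lies in Q. Let t be an involution of Q not conjugate to z in G, and S the set of elements of H conjugating t to t or to t z (the stabilizer of the image of t in Q modulo its centre). Then the image of S in H/Q is isomorphic to the full isometry group of the elliptic quadratic form in dimension 6 over the field with two elements. -/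
theorem result {G : Type*} [Group G] [Finite G] (z : G) (Q : Subgroup (Subgroup.centralizer ({z} : Set G))) [Q.Normal] (hF : Cfsg.IsOfLargeFischerTypeAt z Q) (t : Subgroup.centralizer ({z} : Set G)) (htQ : t ∈ Q) (ht2 : orderOf t = 2) (ht : ¬ IsConj z (t : G)) (S : Subgroup (Subgroup.centralizer ({z} : Set G))) (hS : ∀ h : Subgroup.centralizer ({z} : Set G), h ∈ S ↔ (h * t * h⁻¹ = t ∨ ((h * t * h⁻¹ : Subgroup.centralizer ({z} : Set G)) : G) = t * z)) : Nonempty (↥(S.map (QuotientGroup.mk' Q)) ≃* Cfsg.isometryGroup (ZMod 2) (Cfsg.quadFormMinus 2 (ZMod 2) 1 1)) := by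
  open Cfsg.Agent.Lib.LargeFischer13 Cfsg.Agent.Lib.FischerLarge99 in
  obtain ⟨B⟩ := exists_bridge z Q hF
  obtain ⟨F⟩ := B.D.exists_nframe
  obtain ⟨⟨hz, hgf, -, hQ, g, ⟨hsc, hsQ⟩, hsz⟩, -⟩ := hF
  have hQ' : Nat.card Q = 2 ^ 13 := hQ
  have hzC : z ∈ Cz z := Subgroup.mem_centralizer_singleton_iff.mpr rfl
  have hzQ : z ∈ Q.map (Cz z).subtype := by
    refine ⟨⟨z, hzC⟩, ?_, rfl⟩
    have h := Cfsg.Agent.Lib.Components.GenFitting.centralizer_le (G := Cz z)
    rw [hgf] at h
    exact h (Subgroup.mem_centralizer_iff.mpr fun x _ =>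
      Subtype.ext (Subgroup.mem_centralizer_singleton_iff.mp x.2))
  obtain ⟨c0, hc0, hR, hns⟩ := conj_isR B hz hzQ hQ' F ⟨_, hsQ⟩ g rfl hsz
  obtain ⟨e⟩ := nonempty_stab_equiv F hns
  have ht1 : (⟨t, htQ⟩ : Q) ≠ 1 := fun h => by
    have : t = 1 := congrArg Subtype.val h
    simp [this] at ht2
  have htt : (⟨t, htQ⟩ : Q) * ⟨t, htQ⟩ = 1 := Subtype.ext (by
    show t * t = 1
    rw [← sq, ← ht2, pow_orderOf_eq_one])
  have htz : (t : G) ≠ z := fun h => ht (isConj_iff.mpr ⟨1, by rw [h]; group⟩)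
  obtain ⟨h0, hq0⟩ := B.sing htt ht1 htz
  obtain ⟨c, hc, hU | hR'⟩ := F.exists_class h0 hq0
  swap
  · exfalso
    obtain ⟨w, hw⟩ := F.transR c0 c hR hR'
    have hw' : w • B.π ⟨_, hsQ⟩ = B.π ⟨t, htQ⟩ := hc0 ▸ hc ▸ hw
    obtain ⟨d, hd⟩ := B.conj_of_smul htt h0 hw'
    refine ht (isConj_iff.mpr ⟨(d : G) * g, ?_⟩)
    have hd' : (d : G) * (g * z * g⁻¹) * (d : G)⁻¹ = (t : G) := congrArg Subtype.val hd
    rw [← hd']; group
  obtain ⟨w, hw⟩ := F.transU c (toCoord v0) hU v0_U
  have hw' : w • B.π ⟨t, htQ⟩ = coordEquiv F.toFrame v0 := hc ▸ hw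
  have hS' : S.map (QuotientGroup.mk' Q) = MulAction.stabilizer _ (B.π ⟨t, htQ⟩) := by
    ext x
    constructor
    · rintro ⟨h, hh, rfl⟩
      rw [MulAction.mem_stabilizer_iff]
      rcases (hS h).mp hh with e | e
      · exact B.smul_of_conj (s := ⟨t, htQ⟩) (x := ⟨t, htQ⟩) e
      · have hy : h * t * h⁻¹ ∈ Q := Subgroup.Normal.conj_mem inferInstance t htQ h
        obtain ⟨zq, hzq, hzq'⟩ := hzQ
        have e' : (⟨h * t * h⁻¹, hy⟩ : Q) = ⟨t, htQ⟩ * ⟨zq, hzq⟩ := Subtype.ext (Subtype.ext (by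
          show ((h * t * h⁻¹ : Cz z) : G) = (t : G) * (zq : G)
          rw [show (zq : G) = z from hzq']; exact e))
        refine (B.smul_of_conj (s := ⟨t, htQ⟩) (x := ⟨h * t * h⁻¹, hy⟩) rfl).trans ?_
        rw [e', B.π_mul, (B.π_zero ⟨zq, hzq⟩).mpr (Or.inr hzq'), add_zero]
    · intro hx
      obtain ⟨h, rfl⟩ := QuotientGroup.mk'_surjective Q x
      have hy : h * t * h⁻¹ ∈ Q := Subgroup.Normal.conj_mem inferInstance t htQ h
      have e := B.smul_of_conj (s := ⟨t, htQ⟩) (x := ⟨h * t * h⁻¹, hy⟩) rfl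
      rw [MulAction.mem_stabilizer_iff] at hx
      refine ⟨h, (hS h).mpr ?_, rfl⟩
      rcases B.fibre (hx.symm.trans e) with e' | e'
      · exact Or.inl (congrArg Subtype.val e')
      · exact Or.inr e'
  exact ⟨((MulEquiv.subgroupCongr hS').trans (MulAction.stabilizerEquivStabilizer hw'.symm)).trans e⟩

end Cfsg.Agent.S5443
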