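import Cfsg.Statements.S5445
import Cfsg.Agent.Lib.FischerLarge99.Normaliser

set_option autoImplicit false
open Cfsg

namespace Cfsg.Agent.S5445

/-- Let G be a finite group of large Fischer type at the involution z: the generalized Fitting subgroup Q of H = C_G(z) is extraspecial of order 2^13, H has normal subgroups Q ≤ H₁ ≤ H₂ with H₁/Q of order 3, H₂/H₁ the projective special unitary group of dimension 4 over the field with nine elements and H₂ of index 2 in H, and some conjugate of z other than z lies in Q. Then G has an elementary abelian subgroup V of order 8 containing z whose normalizer L has the following structure: the largest normal 2-subgroup R of L is special of order 2^15 with centre V, and L/R is isomorphic to the direct product of SL(3, 2) and the alternating group of degree 6. -/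
theorem result {G : Type*} [Group G] [Finite G] (z : G) (Q : Subgroup (Subgroup.centralizer ({z} : Set G))) [Q.Normal] (hF : Cfsg.IsOfLargeFischerTypeAt z Q) : ∃ V : Subgroup G, Cfsg.IsElementaryAbelian 2 V ∧ Nat.card V = 8 ∧ z ∈ V ∧ ∃ R : Subgroup G, R = (Cfsg.pCore 2 ↥(Subgroup.normalizer (V : Set G))).map (Subgroup.normalizer (V : Set G)).subtype ∧ Cfsg.IsSpecial 2 ↥R ∧ Nat.card R = 2 ^ 15 ∧ (Subgroup.center ↥R).map R.subtype = V ∧ ∃ _ : (R.subgroupOf (Subgroup.normalizer (V : Set G))).Normal, Nonempty (↥(Subgroup.normalizer (V : Set G)) ⧸ R.subgroupOf (Subgroup.normalizer (V : Set G)) ≃* Matrix.SpecialLinearGroup (Fin 3) (ZMod 2) × ↥(alternatingGroup (Fin 6))) := by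
  open Cfsg.Agent.Lib.LargeFischer13 Cfsg.Agent.Lib.FischerLarge99 in
  obtain ⟨B⟩ := exists_bridge z Q hF
  obtain ⟨F⟩ := B.D.exists_nframe
  obtain ⟨⟨hz, hgf, -, hQ, g, ⟨hsc, hsQ⟩, hsz⟩, -⟩ := hF
  have hQ' : Nat.card Q = 2 ^ 13 := hQ
  have hzC : z ∈ Cz z := Subgroup.mem_centralizer_singleton_iff.mpr rfl
  have hzQ : z ∈ Q.map (Cz z).subtype := by
    refine ⟨⟨z, hzC⟩, ?_, rfl⟩
    have h := Cfsg.Agent.Lib.Components.GenFitting.centralizer_le (G := Cz z)
    rw [hgf] at h
    exact h (Subgroup.mem_centralizer_iff.mpr fun x _ =>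
      Subtype.ext (Subgroup.mem_centralizer_singleton_iff.mp x.2))
  let K : Ctx z Q := ⟨B, F, hz, hzQ, hQ'⟩
  let p : Pr K := ⟨⟨_, hsQ⟩, g, rfl, hsz⟩
  obtain ⟨hn, he⟩ := p.quotient_equiv
  exact ⟨p.Vs, ⟨⟨⟨fun a b => Subtype.ext (p.D0_comm (p.Vs_le a.2) (p.Vs_le b.2)).eq⟩⟩,
      fun a ha => by rw [sq]; exact p.Vs_sq ha⟩,
    p.card_Vs, p.z_Vs, p.R0, p.pCore_eq.symm, p.special, p.card_R0, p.center_eq, hn, he⟩

end Cfsg.Agent.S5445
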