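import Cfsg.Statements.S5449
import Cfsg.Agent.Lib.FischerLarge58.Main

set_option autoImplicit false
open Cfsg
open Cfsg.Agent.Lib.FischerLarge43
open Cfsg.Agent.Lib.FischerLarge58

namespace Cfsg.Agent.S5449

/-- Let G be a finite group of large Fischer type at the involution z: the generalized Fitting subgroup Q of H = C_G(z) is extraspecial of order 2^13, H has normal subgroups Q ≤ H₁ ≤ H₂ with H₁/Q of order 3, H₂/H₁ the projective special unitary group of dimension 4 over the field with nine elements and H₂ of index 2 in H, and some conjugate of z other than z lies in Q. Then Q contains a four-group E, not containing z and containing an involution not conjugate to z in G, whose centralizer in G is quasisimple with quotient by E isomorphic to the projective special unitary group of dimension 6 over the field with four elements. -/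
theorem result {G : Type*} [Group G] [Finite G] (z : G) (Q : Subgroup (Subgroup.centralizer ({z} : Set G))) [Q.Normal] (hF : Cfsg.IsOfLargeFischerTypeAt z Q) : ∃ E : Subgroup G, E ≤ (Q.map (Subgroup.centralizer ({z} : Set G)).subtype) ∧ Cfsg.IsElementaryAbelian 2 E ∧ Nat.card E = 4 ∧ z ∉ E ∧ (∃ t ∈ E, orderOf t = 2 ∧ ¬ IsConj z t) ∧ Cfsg.IsQuasisimple ↥(Subgroup.centralizer (E : Set G)) ∧ ∃ (_ : (E.subgroupOf (Subgroup.centralizer (E : Set G))).Normal) (K : Type) (_ : Field K) (_ : Fintype K), Fintype.card K = 4 ∧ Nonempty (↥(Subgroup.centralizer (E : Set G)) ⧸ E.subgroupOf (Subgroup.centralizer (E : Set G)) ≃* Cfsg.PSU 6 K 2) := by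
  obtain ⟨L⟩ := Lib.FischerLarge45.exists_local hF
  obtain ⟨K⟩ := exists_ctx L hF
  have hQ : ∀ e ∈ eL, K.P.el e ∈ Q := by
    intro e he
    have h6 : e &&& 63 < 64 := lt_of_le_of_lt Nat.and_le_right (by norm_num)
    simp only [eL, List.mem_cons, List.not_mem_nil, or_false] at he
    rcases he with rfl | rfl | rfl | rfl <;>
      simpa [Base.el, Base.eY, zb_zero] using L.data.hUQ (sU_mem L h6)
  have h4 : (4 : Nat) ∈ eL := by simp [eL]
  refine ⟨K.EG, ?_, ⟨?_, ?_⟩, K.card_EG, ?_, ⟨K.g 4, ⟨4, h4, rfl⟩, ?_, ?_⟩, K.quasisimple,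
    K.EC_normal, Lib.G24.K4, inferInstance, inferInstance, Lib.G24.K4.card_eq, K.iso_psu⟩
  · rintro _ ⟨e, he, rfl⟩
    exact ⟨_, hQ e he, rfl⟩
  · refine ⟨⟨fun ⟨a, e, he, ea⟩ ⟨b, f, hf, eb⟩ => Subtype.ext ?_⟩⟩
    subst ea eb
    exact (K.g_comm (eL_facts e he).1 (eL_facts f hf).1).eq
  · rintro a ⟨e, he, rfl⟩
    rw [pow_two]
    exact K.g_sq (eL_facts e he).1
  · rintro ⟨e, he, h⟩
    have := K.g_inj (eL_facts e he).1 (by norm_num) (h.trans K.g_z.symm)
    subst this
    simp [eL] at he
  · refine orderOf_eq_prime (by rw [pow_two]; exact K.g_sq (by norm_num)) fun h => ?_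
    exact absurd (K.g_inj (by norm_num) (by norm_num) (h.trans K.g_zero.symm)) (by norm_num : (4 : Nat) ≠ 0)
  · exact ((K.mem_tt (by norm_num)).1 e_states.1).2

end Cfsg.Agent.S5449
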