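import Cfsg.Statements.S5453
import Cfsg.Agent.Lib.FischerMTypes90.CoverLifts
-- import your own Cfsg.Agent.* helpers here

set_option autoImplicit false
open Cfsg

namespace Cfsg.Agent.S5453

/-- Let G be a finite group with an involution d whose centralizer C is quasisimple, such that C modulo the subgroup generated by d is of type M(22) with respect to some conjugacy class of 3-transpositions generating it and also has an involution whose own centralizer is quasisimple with quotient by it isomorphic to the projective special unitary group of dimension 6 over the field with four elements and which is not weakly closed in that centralizer; and suppose some conjugate of d other than d commutes with d. Then every involution of C modulo the subgroup generated by d is the image of an involution of C, and d is not a square in G. -/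
theorem result {G : Type*} [Group G] [Finite G] (d : G) (hd : orderOf d = 2) (hq : Cfsg.IsQuasisimple ↥(Subgroup.centralizer ({d} : Set G))) [hzn : ((Subgroup.zpowers d).subgroupOf (Subgroup.centralizer ({d} : Set G))).Normal] (htype : ∃ E : Set (↥(Subgroup.centralizer ({d} : Set G)) ⧸ (Subgroup.zpowers d).subgroupOf (Subgroup.centralizer ({d} : Set G))), Cfsg.IsThreeTranspositionClass E ∧ Cfsg.IsOfTypeM22 _ E) (hinvol : ∃ d' : ↥(Subgroup.centralizer ({d} : Set G)) ⧸ (Subgroup.zpowers d).subgroupOf (Subgroup.centralizer ({d} : Set G)), orderOf d' = 2 ∧ Cfsg.IsQuasisimple ↥(Subgroup.centralizer ({d'} : Set _)) ∧ (∃ (K : Type) (_ : Field K) (_ : Fintype K), Fintype.card K = 4 ∧ ∃ _ : ((Subgroup.zpowers d').subgroupOf (Subgroup.centralizer ({d'} : Set _))).Normal, Nonempty (↥(Subgroup.centralizer ({d'} : Set _)) ⧸ (Subgroup.zpowers d').subgroupOf (Subgroup.centralizer ({d'} : Set _)) ≃* Cfsg.PSU 6 K 2)) ∧ ∃ g, g * d' * g⁻¹ ∈ Subgroup.centralizer ({d'} : Set _) ∧ g * d' * g⁻¹ ≠ d')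 (hnwc : ∃ g : G, g * d * g⁻¹ ∈ Subgroup.centralizer ({d} : Set G) ∧ g * d * g⁻¹ ≠ d) : (∀ x : ↥(Subgroup.centralizer ({d} : Set G)) ⧸ (Subgroup.zpowers d).subgroupOf (Subgroup.centralizer ({d} : Set G)), orderOf x = 2 → ∃ y : ↥(Subgroup.centralizer ({d} : Set G)), orderOf y = 2 ∧ (QuotientGroup.mk y : ↥(Subgroup.centralizer ({d} : Set G)) ⧸ (Subgroup.zpowers d).subgroupOf (Subgroup.centralizer ({d} : Set G))) = x) ∧ ¬ ∃ g : G, g ^ 2 = d := by
  obtain ⟨E, ⟨hset, ⟨e₀, he₀, hE⟩, hgen⟩, h22⟩ := htype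
  have hD : Cfsg.IsThreeTranspositionGroup E := ⟨hset, fun g x hx => by
    rw [hE] at hx ⊢
    exact IsConj.trans hx (isConj_iff.mpr ⟨g, rfl⟩), hgen⟩
  obtain ⟨F, _, _, ⟨S⟩⟩ := Cfsg.Agent.Lib.FischerMTypes.TraceCounts.exists_sys hD
    (Cfsg.Agent.Lib.FischerMTypes.Connected.primitive_of_M22 hD h22) h22
  clear hinvol
  generalize hCdef : Subgroup.centralizer ({d} : Set G) = C at *
  have hdC : d ∈ C := by rw [← hCdef]; exact Subgroup.mem_centralizer_singleton_iff.mpr rfl
  have hd2 : d * d = 1 := by rw [← sq, ← hd, pow_orderOf_eq_one]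
  have hd1 : d ≠ 1 := fun h => by rw [h, orderOf_one] at hd; norm_num at hd
  have hz : ∀ (x : G), x ∈ Subgroup.zpowers d → x = 1 ∨ x = d := by
    intro x hx
    obtain ⟨i, rfl⟩ := hx
    show d ^ i = 1 ∨ d ^ i = d
    rw [← zpow_mod_orderOf, hd]
    rcases Int.emod_two_eq_zero_or_one i with h | h
    · exact Or.inl (by simp [h])
    · exact Or.inr (by simp [h])
  let π : ↥C →* ↥C ⧸ (Subgroup.zpowers d).subgroupOf C := QuotientGroup.mk' _
  have hker : ∀ x : ↥C, π x = 1 → x * x = 1 ∧ ∀ y, x * y = y * x := by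
    intro x hx
    have hx' : (x : G) ∈ Subgroup.zpowers d := by
      simpa [π, QuotientGroup.eq_one_iff, Subgroup.mem_subgroupOf] using hx
    refine ⟨?_, fun y => ?_⟩
    · rcases hz _ hx' with h | h <;> exact Subtype.ext (by simp [h, hd2])
    · have hy : (y : G) ∈ Subgroup.centralizer ({d} : Set G) := hCdef ▸ y.2
      rcases hz _ hx' with h | h
      · exact Subtype.ext (by simp [h])
      · exact Subtype.ext (by
          simp only [Subgroup.coe_mul, h]
          exact (Subgroup.mem_centralizer_singleton_iff.mp hy).symm)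
  have main : ∀ x : ↥C ⧸ (Subgroup.zpowers d).subgroupOf C, orderOf x = 2 →
      ∃ y : ↥C, orderOf y = 2 ∧ (QuotientGroup.mk y : ↥C ⧸ (Subgroup.zpowers d).subgroupOf C) = x := by
    intro x hx
    obtain ⟨y, hy1, hy2⟩ := Cfsg.Agent.Lib.FischerMTypes90.CoverLifts.exists_lift_sq_one S π
      (QuotientGroup.mk'_surjective _) hker x (by rw [← sq, ← hx, pow_orderOf_eq_one])
    refine ⟨y, orderOf_eq_prime (by rw [sq, hy1]) (fun h => ?_), hy2⟩
    rw [h, map_one] at hy2
    rw [← hy2, orderOf_one] at hx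
    norm_num at hx
  refine ⟨main, ?_⟩
  rintro ⟨g, hg⟩
  have hgC : g ∈ C := by
    rw [← hCdef, Subgroup.mem_centralizer_singleton_iff, ← hg]
    exact (Commute.self_pow g 2).eq
  have hgd : g ∉ Subgroup.zpowers d := by
    intro h
    rcases hz g h with h | h
    · rw [h, one_pow] at hg; exact hd1 hg.symm
    · rw [h, sq, hd2] at hg; exact hd1 hg.symm
  have hπg : orderOf (π ⟨g, hgC⟩) = 2 := by
    refine orderOf_eq_prime ?_ (fun h => hgd ?_)
    · rw [← map_pow]
      refine (QuotientGroup.eq_one_iff _).mpr ?_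
      show ((⟨g, hgC⟩ : ↥C) ^ 2 : ↥C).1 ∈ Subgroup.zpowers d
      simp [hg]
    · simpa [π, QuotientGroup.eq_one_iff, Subgroup.mem_subgroupOf] using h
  obtain ⟨y, hy, hy2⟩ := main _ hπg
  obtain ⟨hz1, hz2⟩ := hker ((⟨g, hgC⟩ : ↥C)⁻¹ * y) (by
    rw [map_mul, map_inv]
    show (π ⟨g, hgC⟩)⁻¹ * (QuotientGroup.mk y) = 1
    rw [hy2, inv_mul_cancel])
  generalize ha : (⟨g, hgC⟩ : ↥C)⁻¹ * y = a at hz1 hz2
  have hyy : y * y = 1 := by rw [← sq, ← hy, pow_orderOf_eq_one]
  obtain rfl : y = ⟨g, hgC⟩ * a := by rw [← ha]; group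
  rw [(show Commute a ⟨g, hgC⟩ from hz2 _).mul_mul_mul_comm, hz1, mul_one] at hyy
  exact hd1 (by rw [← hg, sq]; exact congrArg Subtype.val hyy)


end Cfsg.Agent.S5453
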