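import Cfsg.Statements.S5454
import Cfsg.Agent.Lib.U62J.Count
import Cfsg.Agent.Lib.U62J.Transport

set_option autoImplicit false
open Cfsg

namespace Cfsg.Agent.S5454

/-- Let G be a finite group with an involution d whose centralizer C is quasisimple with C modulo the subgroup generated by d isomorphic to the projective special unitary group of dimension 6 over the field with four elements, and suppose some conjugate of d other than d commutes with d. Let S be a Sylow 2-subgroup of C and A the Thompson subgroup of S (generated by the elementary abelian subgroups of S of largest order), regarded as a subgroup of G. Then A is elementary abelian of order 2^10, exactly 22 conjugates of d lie in A, and the normalizer of A permutes them transitively. -/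
theorem result {G : Type*} [Group G] [Finite G] (d : G) (hd : orderOf d = 2) (hq : Cfsg.IsQuasisimple ↥(Subgroup.centralizer ({d} : Set G))) [hzn : ((Subgroup.zpowers d).subgroupOf (Subgroup.centralizer ({d} : Set G))).Normal] (K : Type) [Field K] [Fintype K] (hK : Fintype.card K = 4) (e : ↥(Subgroup.centralizer ({d} : Set G)) ⧸ (Subgroup.zpowers d).subgroupOf (Subgroup.centralizer ({d} : Set G)) ≃* Cfsg.PSU 6 K 2) (hnwc : ∃ g : G, g * d * g⁻¹ ∈ Subgroup.centralizer ({d} : Set G) ∧ g * d * g⁻¹ ≠ d) (S : Sylow 2 ↥(Subgroup.centralizer ({d} : Set G))) (A : Subgroup G) (hA : A = (Cfsg.thompsonSubgroupOf 2 (S : Subgroup ↥(Subgroup.centralizer ({d} : Set G)))).map (Subgroup.centralizer ({d} : Set G)).subtype) : Cfsg.IsElementaryAbelian 2 A ∧ Nat.card A = 2 ^ 10 ∧ Set.ncard {x : G | x ∈ A ∧ IsConj d x} = 22 ∧ ∀ x ∈ A, ∀ y ∈ A, IsConj d x → IsConj d y → ∃ n ∈ Subgroup.normalizer (A : Set G), n * x * n⁻¹ = y := by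
  classical
  obtain ⟨ψ⟩ := Cfsg.Agent.Lib.U62J.exists_psuEquiv K hK
  let π : ↥(Subgroup.centralizer ({d} : Set G)) →* Cfsg.Agent.Lib.U62J.Q6 :=
    (e.trans ψ).toMonoidHom.comp (QuotientGroup.mk' _)
  have hz : ∀ x : G, x ∈ Subgroup.zpowers d → x = 1 ∨ x = d := by
    intro x hx
    obtain ⟨i, rfl⟩ := hx
    show d ^ i = 1 ∨ d ^ i = d
    rw [← zpow_mod_orderOf, hd]
    rcases Int.emod_two_eq_zero_or_one i with h | h
    · exact Or.inl (by simp [h])
    · exact Or.inr (by simp [h])
  have hdd : d * d = 1 := by rw [← sq, ← hd, pow_orderOf_eq_one]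
  have hd1 : d ≠ 1 := fun h => by rw [h, orderOf_one] at hd; norm_num at hd
  have hcov : Cfsg.Agent.Lib.U62J.Cov π (Cfsg.Agent.Lib.U62J.dC d) := by
    refine ⟨(e.trans ψ).surjective.comp (QuotientGroup.mk'_surjective _), fun x => ?_, Subtype.ext hdd,
      fun h => hd1 (congrArg Subtype.val h),
      fun y => Subtype.ext (Subgroup.mem_centralizer_singleton_iff.mp y.2).symm⟩
    show (e.trans ψ) (QuotientGroup.mk x) = 1 ↔ _
    rw [MulEquiv.map_eq_one_iff, QuotientGroup.eq_one_iff, Subgroup.mem_subgroupOf]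
    constructor
    · intro hx
      rcases hz _ hx with h | h
      · exact Or.inl (Subtype.ext h)
      · exact Or.inr (Subtype.ext h)
    · rintro (rfl | rfl)
      · exact one_mem _
      · exact Subgroup.mem_zpowers d
  obtain ⟨h1, h2, h3, h4⟩ :=
    Cfsg.Agent.Lib.U62J.radical_main hcov hq.1.commutator_eq_top hnwc
  obtain ⟨c, hc⟩ := MulAction.exists_smul_eq (↥(Subgroup.centralizer ({d} : Set G))) hcov.syl S
  have hS : (S : Subgroup ↥(Subgroup.centralizer ({d} : Set G))) =
      (Cfsg.Agent.Lib.U62J.TC π).map (MulAut.conj c).toMonoidHom := by rw [← hc]; rfl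
  set f : G →* G := (MulAut.conj (c : G)).toMonoidHom with hf
  have hfinj : Function.Injective f := (MulAut.conj (c : G)).injective
  have hA' : A = (Cfsg.Agent.Lib.U62J.AG π).map f := by
    rw [hA, hS, ← Cfsg.Agent.Lib.PGroups.map_thompsonSubgroupOf (MulAut.conj c).toMonoidHom (MulAut.conj c).injective, hcov.thompson,
      Cfsg.Agent.Lib.U62J.AG, Subgroup.map_map, Subgroup.map_map]
    rfl
  have hfd : f d = d := by
    show (c : G) * d * (c : G)⁻¹ = d
    rw [Subgroup.mem_centralizer_singleton_iff.mp c.2, mul_inv_cancel_right]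
  have hfc : ∀ x, IsConj d (f x) ↔ IsConj d x := fun x => by
    have : IsConj x (f x) := isConj_iff.mpr ⟨c, rfl⟩
    exact ⟨fun h => h.trans this.symm, fun h => h.trans this⟩
  subst hA'
  refine ⟨?_, ?_, ?_, ?_⟩
  · exact Cfsg.Agent.Lib.PGroups.elemAb_map f h1
  · rw [Subgroup.card_map_of_injective hfinj, h2]
  · have hset : {x : G | x ∈ (Cfsg.Agent.Lib.U62J.AG π).map f ∧ IsConj d x} =
        f '' {x : G | x ∈ Cfsg.Agent.Lib.U62J.AG π ∧ IsConj d x} := by
      ext x
      constructor
      · rintro ⟨⟨y, hy, rfl⟩, hx⟩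
        exact ⟨y, ⟨hy, (hfc y).mp hx⟩, rfl⟩
      · rintro ⟨y, ⟨hy, hyc⟩, rfl⟩
        exact ⟨⟨y, hy, rfl⟩, (hfc y).mpr hyc⟩
    rw [hset, Set.ncard_image_of_injective _ hfinj, h3]
  · rintro _ ⟨x, hx, rfl⟩ _ ⟨y, hy, rfl⟩ hdx hdy
    obtain ⟨n, hn, hny⟩ := h4 x hx y hy ((hfc x).mp hdx) ((hfc y).mp hdy)
    refine ⟨f n, ?_, by rw [← map_inv, ← map_mul, ← map_mul, hny]⟩
    rw [Subgroup.mem_normalizer_iff]
    intro z
    obtain ⟨z0, rfl⟩ := (MulAut.conj (c : G)).surjective z
    show f z0 ∈ Subgroup.map f _ ↔ f n * f z0 * (f n)⁻¹ ∈ Subgroup.map f _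
    rw [← map_inv, ← map_mul, ← map_mul, Subgroup.mem_map_iff_mem hfinj, Subgroup.mem_map_iff_mem hfinj]
    exact Subgroup.mem_normalizer_iff.mp hn z0

end Cfsg.Agent.S5454
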