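import Cfsg.Statements.S5455
import Cfsg.Agent.Lib.FischerMTypes90.Fusion22
-- import your own Cfsg.Agent.* helpers here

set_option autoImplicit false
open Cfsg

namespace Cfsg.Agent.S5455

/-- Let G be a finite group with an involution d whose centralizer C is quasisimple, such that C modulo the subgroup generated by d is of type M(22) with respect to some conjugacy class of 3-transpositions generating it and also has an involution whose own centralizer is quasisimple with quotient by it isomorphic to the projective special unitary group of dimension 6 over the field with four elements and which is not weakly closed in that centralizer; and suppose some conjugate of d other than d commutes with d. Let S be a Sylow 2-subgroup of C and A the Thompson subgroup of S, regarded as a subgroup of G. Then A is elementary abelian of order 2^11, exactly 23 conjugates of d lie in A, and the normalizer of A permutes them transitively. -/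
theorem result {G : Type*} [Group G] [Finite G] (d : G) (hd : orderOf d = 2) (hq : Cfsg.IsQuasisimple ↥(Subgroup.centralizer ({d} : Set G))) [hzn : ((Subgroup.zpowers d).subgroupOf (Subgroup.centralizer ({d} : Set G))).Normal] (htype : ∃ E : Set (↥(Subgroup.centralizer ({d} : Set G)) ⧸ (Subgroup.zpowers d).subgroupOf (Subgroup.centralizer ({d} : Set G))), Cfsg.IsThreeTranspositionClass E ∧ Cfsg.IsOfTypeM22 _ E) (hinvol : ∃ d' : ↥(Subgroup.centralizer ({d} : Set G)) ⧸ (Subgroup.zpowers d).subgroupOf (Subgroup.centralizer ({d} : Set G)), orderOf d' = 2 ∧ Cfsg.IsQuasisimple ↥(Subgroup.centralizer ({d'} : Set _)) ∧ (∃ (K : Type) (_ : Field K) (_ : Fintype K), Fintype.card K = 4 ∧ ∃ _ : ((Subgroup.zpowers d').subgroupOf (Subgroup.centralizer ({d'} : Set _))).Normal, Nonempty (↥(Subgroup.centralizer ({d'} : Set _)) ⧸ (Subgroup.zpowers d').subgroupOf (Subgroup.centralizer ({d'} : Set _)) ≃* Cfsg.PSU 6 K 2)) ∧ ∃ g, g * d' * g⁻¹ ∈ Subgroup.centralizer ({d'} : Set _) ∧ g * d' * g⁻¹ ≠ d') (hnwc : ∃ g : G,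 g * d * g⁻¹ ∈ Subgroup.centralizer ({d} : Set G) ∧ g * d * g⁻¹ ≠ d) (S : Sylow 2 ↥(Subgroup.centralizer ({d} : Set G))) (A : Subgroup G) (hA : A = (Cfsg.thompsonSubgroupOf 2 (S : Subgroup ↥(Subgroup.centralizer ({d} : Set G)))).map (Subgroup.centralizer ({d} : Set G)).subtype) : Cfsg.IsElementaryAbelian 2 A ∧ Nat.card A = 2 ^ 11 ∧ Set.ncard {x : G | x ∈ A ∧ IsConj d x} = 23 ∧ ∀ x ∈ A, ∀ y ∈ A, IsConj d x → IsConj d y → ∃ n ∈ Subgroup.normalizer (A : Set G), n * x * n⁻¹ = y := by
  obtain ⟨E, ⟨hset, ⟨e₀, he₀, hE⟩, hgen⟩, h22⟩ := htype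
  have hD : Cfsg.IsThreeTranspositionGroup E := ⟨hset, fun g x hx => by
    rw [hE] at hx ⊢
    exact IsConj.trans hx (isConj_iff.mpr ⟨g, rfl⟩), hgen⟩
  obtain ⟨F, _, _, ⟨Sy⟩⟩ := Cfsg.Agent.Lib.FischerMTypes.TraceCounts.exists_sys hD
    (Cfsg.Agent.Lib.FischerMTypes.Connected.primitive_of_M22 hD h22) h22
  clear hinvol
  generalize hCdef : Subgroup.centralizer ({d} : Set G) = C at *
  have hdC : d ∈ C := by rw [← hCdef]; exact Subgroup.mem_centralizer_singleton_iff.mpr rfl
  have hd2 : d * d = 1 := by rw [← sq, ← hd, pow_orderOf_eq_one]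
  have hd1 : d ≠ 1 := fun h => by rw [h, orderOf_one] at hd; norm_num at hd
  have hmem : ∀ g, g ∈ C ↔ Commute g d := fun g => by
    rw [← hCdef, Subgroup.mem_centralizer_singleton_iff]; exact Iff.rfl
  let π : ↥C →* ↥C ⧸ (Subgroup.zpowers d).subgroupOf C := QuotientGroup.mk' _
  have hker : ∀ x : ↥C, π x = 1 ↔ (x : G) ∈ Subgroup.zpowers d := fun x => by
    simp [π, QuotientGroup.eq_one_iff, Subgroup.mem_subgroupOf]
  have hC : Cfsg.Agent.Lib.FischerMTypes90.Cover π ⟨d, hdC⟩ := by
    refine ⟨QuotientGroup.mk'_surjective _, fun x hx => ?_, (hker _).mpr (Subgroup.mem_zpowers d),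
      Subtype.ext hd2, fun h => hd1 (congrArg Subtype.val h), fun y => Subtype.ext ((hmem y).mp y.2).eq.symm⟩
    obtain ⟨i, hi⟩ := (hker x).mp hx
    have hi' : d ^ i = (x : G) := hi
    rw [← zpow_mod_orderOf, hd] at hi'
    rcases Int.emod_two_eq_zero_or_one i with h | h
    · exact Or.inl (Subtype.ext (by simpa [h] using hi'.symm))
    · exact Or.inr (Subtype.ext (by simpa [h] using hi'.symm))
  exact Cfsg.Agent.Lib.FischerMTypes90.thompson_main (π := π) (z := ⟨d, hdC⟩) Sy hmem hC
    hq.1.commutator_eq_top hnwc S A hA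

end Cfsg.Agent.S5455
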