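import Cfsg.Statements.S5459


set_option autoImplicit false
set_option linter.style.haveILetI false
open Cfsg

namespace Cfsg.Agent.S5459
open scoped commutatorElement

/-- Let G be a finite group with a quasisimple normal subgroup L and an involution d such that G is generated by L and d, the centre of L has odd order, and d inverts every element of the centre of L. If the commuting graph on the conjugacy class of the image of d in G modulo the centre of L is connected, then the commuting graph on the conjugacy class of d is connected. -/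
theorem result {G : Type*} [Group G] [Finite G] (L : Subgroup G) [L.Normal] (hL : Cfsg.IsQuasisimple ↥L) (d : G) (hd : orderOf d = 2) (hgen : L ⊔ Subgroup.zpowers d = ⊤) (hodd : Odd (Nat.card ↥(Subgroup.center ↥L))) (hinv : ∀ c ∈ (Subgroup.center ↥L).map L.subtype, d * c * d⁻¹ = c⁻¹) [hn : ((Subgroup.center ↥L).map L.subtype).Normal] (hconn : (Cfsg.commutingGraph (conjugatesOf (QuotientGroup.mk d : G ⧸ (Subgroup.center ↥L).map L.subtype))).Connected) : (Cfsg.commutingGraph (conjugatesOf d)).Connected := by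
  generalize hZ : (Subgroup.center ↥L).map L.subtype = Z at hn hinv hconn
  have hdd : d * d = 1 := by rw [← sq, ← hd, pow_orderOf_eq_one]
  have hdinv : d⁻¹ = d := inv_eq_of_mul_eq_one_right hdd
  have hZodd : Odd (Nat.card ↥Z) := by
    rw [← hZ, Subgroup.card_subtype L (Subgroup.center ↥L)]; exact hodd
  have hZL : Z ≤ L := by rw [← hZ]; exact Subgroup.map_subtype_le _
  have hZc : ∀ c ∈ Z, ∀ l ∈ L, l * c = c * l := by
    intro c hc l hl
    rw [← hZ] at hc
    obtain ⟨c', hc', rfl⟩ := hc
    exact congrArg Subtype.val (Subgroup.mem_center_iff.mp hc' ⟨l, hl⟩)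
  -- square roots in Z
  have hsqrt : ∀ c ∈ Z, ∃ w ∈ Z, w * w = c := by
    intro c hc
    have ho : Odd (orderOf c) := Odd.of_dvd_nat hZodd (Subgroup.orderOf_dvd_natCard Z hc)
    obtain ⟨m, hm⟩ := ho
    refine ⟨c ^ (m + 1), Z.pow_mem hc _, ?_⟩
    rw [← pow_add, show m + 1 + (m + 1) = orderOf c + 1 by omega, pow_succ, pow_orderOf_eq_one, one_mul]
  -- every conjugate of d inverts Z
  have hcinv : ∀ x ∈ conjugatesOf d, x * x = 1 ∧ ∀ c ∈ Z, x * c * x⁻¹ = c⁻¹ := by
    intro x hx
    obtain ⟨g, rfl⟩ := isConj_iff.mp hx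
    refine ⟨by
      calc g * d * g⁻¹ * (g * d * g⁻¹) = g * (d * d) * g⁻¹ := by group
        _ = 1 := by rw [hdd]; group, fun c hc => ?_⟩
    have hc' : g⁻¹ * c * g ∈ Z := by simpa using hn.conj_mem c hc g⁻¹
    calc g * d * g⁻¹ * c * (g * d * g⁻¹)⁻¹ = g * (d * (g⁻¹ * c * g) * d⁻¹) * g⁻¹ := by group
      _ = g * (g⁻¹ * c * g)⁻¹ * g⁻¹ := by rw [hinv _ hc']
      _ = c⁻¹ := by group
  have hshift : ∀ x ∈ conjugatesOf d, ∀ c ∈ Z, x * c ∈ conjugatesOf d := by
    intro x hx c hc
    obtain ⟨w, hw, hwc⟩ := hsqrt c⁻¹ (Z.inv_mem hc)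
    refine hx.trans (isConj_iff.mpr ⟨w, ?_⟩)
    have h := (hcinv x hx).2 w hw
    have h2 : w * x = x * w⁻¹ := by
      rw [← h]
      calc w * x = (x * x) * w * x := by rw [(hcinv x hx).1, one_mul]
        _ = x * (x * w * x) := by group
        _ = x * (x * w * x⁻¹) := by rw [inv_eq_of_mul_eq_one_right (hcinv x hx).1]
    rw [h2, mul_assoc, ← mul_inv_rev, hwc, inv_inv]
  let x₀ : conjugatesOf d := ⟨d, IsConj.refl d⟩
  let π : G →* G ⧸ Z := QuotientGroup.mk' Z
  have hπ : ∀ x : conjugatesOf d, π x ∈ conjugatesOf (QuotientGroup.mk d : G ⧸ Z) := by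
    intro x
    obtain ⟨g, hg⟩ := isConj_iff.mp x.2
    exact isConj_iff.mpr ⟨π g, by rw [← hg]; simp [π]⟩
  let R : conjugatesOf d → Prop := fun x => (Cfsg.commutingGraph (conjugatesOf d)).Reachable x₀ x
  -- every class in the quotient contains a reachable element
  have hall : ∀ y : conjugatesOf (QuotientGroup.mk d : G ⧸ Z), ∃ x : conjugatesOf d, R x ∧ π x = y := by
    intro y
    have hr := hconn.preconnected ⟨π d, hπ x₀⟩ y
    obtain ⟨p⟩ := hr
    suffices H : ∀ {u v : conjugatesOf (QuotientGroup.mk d : G ⧸ Z)},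
        (Cfsg.commutingGraph (conjugatesOf (QuotientGroup.mk d : G ⧸ Z))).Walk u v →
        (∃ x : conjugatesOf d, R x ∧ π x = u) → ∃ x : conjugatesOf d, R x ∧ π x = v from
      H p ⟨x₀, SimpleGraph.Reachable.refl _, rfl⟩
    intro u v p
    induction p with
    | nil => exact id
    | @cons u w v h _ ih =>
      rintro ⟨x, hxR, hxu⟩
      apply ih
      obtain ⟨g, hg⟩ := isConj_iff.mp w.2
      obtain ⟨g, rfl⟩ := QuotientGroup.mk_surjective g
      let y : G := g * d * g⁻¹
      have hy : y ∈ conjugatesOf d := isConj_iff.mpr ⟨g, rfl⟩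
      have hyw : π y = w := by rw [← hg]; simp [π, y]
      obtain ⟨hne, hco⟩ : u ≠ w ∧ Commute (u : G ⧸ Z) (w : G ⧸ Z) := by
        have := h
        simp only [Cfsg.commutingGraph, SimpleGraph.fromRel_adj] at this
        exact ⟨this.1, this.2.elim id Commute.symm⟩
      obtain ⟨hxx, hxi⟩ := hcinv x x.2
      obtain ⟨hyy, hyi⟩ := hcinv y hy
      have hc : ((x : G) * y) * (x * y) ∈ Z := by
        rw [← QuotientGroup.eq_one_iff]
        show π (((x : G) * y) * (x * y)) = 1
        rw [map_mul, map_mul, hxu, hyw]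
        calc (u : G ⧸ Z) * w * (u * w) = (u : G ⧸ Z) * u * (w * w) := by
              rw [hco.symm.mul_mul_mul_comm]
          _ = π (((x : G) * x) * (y * y)) := by rw [map_mul, map_mul, map_mul, hxu, hyw]
          _ = 1 := by rw [hxx, hyy, one_mul, map_one]
      obtain ⟨w', hw', hww⟩ := hsqrt _ (Z.inv_mem hc)
      refine ⟨⟨y * w', hshift y hy w' hw'⟩, ?_, ?_⟩
      · refine SimpleGraph.Reachable.trans hxR (SimpleGraph.Adj.reachable ?_)
        simp only [Cfsg.commutingGraph, SimpleGraph.fromRel_adj]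
        refine ⟨fun he => hne (Subtype.ext ?_), Or.inl ?_⟩
        · rw [← hxu, ← hyw, congrArg Subtype.val he]
          show π (y * w') = π y
          rw [map_mul, show π w' = 1 from (QuotientGroup.eq_one_iff _).mpr hw', mul_one]
        · have hcw : (x : G) * y * w' = w' * (x * y) := by
            have h1 := hyi w' hw'
            have h2 := hxi w'⁻¹ (Z.inv_mem hw')
            rw [inv_inv] at h2
            calc (x : G) * y * w' = x * (y * w' * y⁻¹) * y := by group
              _ = (x : G) * w'⁻¹ * (x : G)⁻¹ * (x * y) := by rw [h1]; group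
              _ = w' * (x * y) := by rw [h2]
          have hsq : ((x : G) * y * w') * (x * y * w') = 1 := by
            calc ((x : G) * y * w') * (x * y * w') = ((x : G) * y) * (w' * (x * y)) * w' := by group
              _ = ((x : G) * y) * (x * y * w') * w' := by rw [hcw]
              _ = ((x : G) * y) * (x * y) * (w' * w') := by group
              _ = 1 := by rw [hww, mul_inv_cancel]
          have hy'' := (hcinv _ (hshift y hy w' hw')).1
          show (x : G) * (y * w') = y * w' * x
          calc (x : G) * (y * w') = ((x : G) * y * w')⁻¹ := by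
                rw [inv_eq_of_mul_eq_one_right hsq]; group
            _ = (y * w')⁻¹ * (x : G)⁻¹ := by rw [mul_assoc, mul_inv_rev]
            _ = _ := by rw [inv_eq_of_mul_eq_one_right hy'', inv_eq_of_mul_eq_one_right hxx]
      · show π (y * w') = w
        rw [map_mul, show π w' = 1 from (QuotientGroup.eq_one_iff _).mpr hw', mul_one, hyw]
  -- the elements preserving the component of d
  let cg : G → conjugatesOf d → conjugatesOf d := fun g x =>
    ⟨g * x * g⁻¹, x.2.trans (isConj_iff.mpr ⟨g, rfl⟩)⟩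
  have hcgR : ∀ g x y, (Cfsg.commutingGraph (conjugatesOf d)).Reachable x y →
      (Cfsg.commutingGraph (conjugatesOf d)).Reachable (cg g x) (cg g y) := by
    intro g x y ⟨p⟩
    induction p with
    | nil => exact SimpleGraph.Reachable.refl _
    | cons h _ ih =>
      refine SimpleGraph.Reachable.trans (SimpleGraph.Adj.reachable ?_) ih
      simp only [Cfsg.commutingGraph, SimpleGraph.fromRel_adj] at h ⊢
      exact ⟨fun he => h.1 (Subtype.ext (by simpa [cg] using congrArg Subtype.val he)),
        h.2.imp (fun c => c.map (MulAut.conj g).toMonoidHom) (fun c => c.map (MulAut.conj g).toMonoidHom)⟩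
  have cg_mul : ∀ g h x, cg (g * h) x = cg g (cg h x) := fun g h x => Subtype.ext (by simp [cg, mul_assoc])
  have cg_one : ∀ x, cg 1 x = x := fun x => Subtype.ext (by simp [cg])
  let K : Subgroup G :=
    { carrier := {g | R (cg g x₀)}
      one_mem' := by
        show R (cg 1 x₀)
        rw [cg_one]
      mul_mem' := fun {g h} hg hh => by
        show R (cg (g * h) x₀)
        rw [cg_mul]
        exact SimpleGraph.Reachable.trans hg (hcgR g _ _ hh)
      inv_mem' := fun {g} hg => by
        show R (cg g⁻¹ x₀)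
        have := hcgR g⁻¹ _ _ hg
        rw [← cg_mul, inv_mul_cancel, cg_one] at this
        exact this.symm }
  have hfac : ∀ g : G, ∃ c ∈ Z, g * c ∈ K := by
    intro g
    obtain ⟨x, hxR, hxg⟩ := hall ⟨π (g * d * g⁻¹), hπ ⟨g * d * g⁻¹, isConj_iff.mpr ⟨g, rfl⟩⟩⟩
    -- x = g (d e) g⁻¹
    have he : d⁻¹ * (g⁻¹ * (x : G) * g) ∈ Z := by
      rw [← QuotientGroup.eq_one_iff]
      show π (d⁻¹ * (g⁻¹ * (x : G) * g)) = 1
      simp only [map_mul, map_inv] at hxg ⊢
      rw [hxg]; group
    obtain ⟨w, hw, hwe⟩ := hsqrt _ (Z.inv_mem he)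
    refine ⟨w, hw, ?_⟩
    show R (cg (g * w) x₀)
    convert hxR using 1
    refine Subtype.ext ?_
    show g * w * d * (g * w)⁻¹ = x
    have h1 := hinv w hw
    have h2 : w * d = d * w⁻¹ := by
      calc w * d = (d * d) * w * d := by rw [hdd, one_mul]
        _ = d * (d * w * d) := by group
        _ = d * (d * w * d⁻¹) := by rw [hdinv]
        _ = _ := by rw [h1]
    calc g * w * d * (g * w)⁻¹ = g * (w * d) * w⁻¹ * g⁻¹ := by group
      _ = g * d * (w * w)⁻¹ * g⁻¹ := by rw [h2]; group
      _ = x := by rw [hwe]; group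
  have hdK : d ∈ K := by
    show R (cg d x₀)
    rw [show cg d x₀ = x₀ from Subtype.ext (by simp [cg, x₀])]
  have hLK : L ≤ K := by
    have hperf : ⁅L, L⁆ = L := Subgroup.isPerfect_iff.mp hL.1
    conv_lhs => rw [← hperf]
    rw [Subgroup.commutator_le]
    intro a ha b hb
    obtain ⟨c, hc, hac⟩ := hfac a
    obtain ⟨e, he, hbe⟩ := hfac b
    have : ⁅a, b⁆ = ⁅a * c, b * e⁆ := by
      have h1 : c * b = b * c := (hZc c hc b hb).symm
      have h2 : c * e = e * c := hZc e he c (hZL hc)
      have h3 : a * e = e * a := hZc e he a ha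
      simp only [commutatorElement_def, mul_inv_rev]
      calc a * b * a⁻¹ * b⁻¹ = a * b * (c * e) * (c⁻¹ * a⁻¹) * (e⁻¹ * b⁻¹) := by
            rw [h2]
            have h4 : e * a⁻¹ = a⁻¹ * e := (Commute.inv_right (show Commute e a from h3.symm)).eq
            calc a * b * a⁻¹ * b⁻¹ = a * b * (e * c * c⁻¹) * a⁻¹ * e⁻¹ * b⁻¹ := by
                  rw [mul_inv_cancel_right, mul_assoc (a * b) e, h4]; group
              _ = _ := by group
        _ = a * (b * c) * e * (c⁻¹ * a⁻¹) * (e⁻¹ * b⁻¹) := by group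
        _ = a * c * (b * e) * (c⁻¹ * a⁻¹) * (e⁻¹ * b⁻¹) := by rw [← h1]; group
    rw [this]
    simp only [commutatorElement_def]
    exact K.mul_mem (K.mul_mem (K.mul_mem hac hbe) (K.inv_mem hac)) (K.inv_mem hbe)
  have hK : K = ⊤ := top_le_iff.mp (hgen ▸ sup_le hLK ((Subgroup.zpowers_le).mpr hdK))
  haveI : Nonempty (conjugatesOf d) := ⟨x₀⟩
  refine ⟨fun a b => ?_⟩
  have hreach : ∀ a : conjugatesOf d, R a := by
    intro a
    obtain ⟨g, hg⟩ := isConj_iff.mp a.2
    have h : g ∈ K := hK ▸ Subgroup.mem_top g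
    have : R (cg g x₀) := h
    rwa [show cg g x₀ = a from Subtype.ext hg] at this
  exact (hreach a).symm.trans (hreach b)

end Cfsg.Agent.S5459
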