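import Cfsg.Statements.S5466
import Cfsg.Agent.Lib.FischerMTypes.TripleM24
import Cfsg.Agent.Lib.FischerMTypes.QuasiExtension
import Cfsg.Agent.Lib.FischerMTypes.ParityM24
import Cfsg.Agent.Lib.AutPSU.Card
-- import your own Cfsg.Agent.* helpers here

set_option autoImplicit false
open Cfsg

namespace Cfsg.Agent.S5466

/-- Let G be a finite group with trivial centre generated by a conjugation-invariant set D of 3-transpositions on which it acts primitively, such that for some d in D the subgroup generated by the members of D other than d commuting with d has central largest normal 2- and 3-subgroups, and suppose G with D is of type M(24), and let L be the commutator subgroup of G. Let d₁, d₂, d₃ be distinct pairwise commuting members of D, j their product, E the subgroup generated by d₁ d₂ and d₁ d₃ (a four-group lying in L), CL the centralizer of j in L and K its generalized Fitting subgroup. Then K is quasisimple with centre E, K is the centralizer of E in L,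 K modulo E is isomorphic to the projective special unitary group of dimension 6 over the field with four elements, CL/K is isomorphic to the symmetric group of degree 3, and CL modulo E is isomorphic to the full automorphism group of that unitary group. -/
theorem result {G : Type*} [Group G] [Finite G] {D : Set G} (hD : Cfsg.IsThreeTranspositionGroup D) (hprim : Cfsg.IsPrimitiveUnderConj D) (d₀ : G) (hd₀ : d₀ ∈ D) (h3 : Cfsg.pCore 3 ↥(Subgroup.closure {y : G | y ∈ D ∧ y ≠ d₀ ∧ Commute d₀ y}) ≤ Subgroup.center ↥(Subgroup.closure {y : G | y ∈ D ∧ y ≠ d₀ ∧ Commute d₀ y})) (h2 : Cfsg.pCore 2 ↥(Subgroup.closure {y : G | y ∈ D ∧ y ≠ d₀ ∧ Commute d₀ y}) ≤ Subgroup.center ↥(Subgroup.closure {y : G | y ∈ D ∧ y ≠ d₀ ∧ Commute d₀ y})) (h24 : Cfsg.IsOfTypeM24 G D) (L : Subgroup G) (hL : L = commutator G) (d₁ d₂ d₃ : G) (h₁ : d₁ ∈ D) (h₂ : d₂ ∈ D) (h₃ : d₃ ∈ D) (h12 : d₁ ≠ d₂) (h13 : d₁ ≠ d₃) (h23 : d₂ ≠ d₃) (c12 : Commute d₁ d₂) (c13 : Commute d₁ d₃) (c23 : Commute d₂ d₃)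 (E CL K : Subgroup G) (hE : E = Subgroup.closure ({d₁ * d₂, d₁ * d₃} : Set G)) (hCL : CL = L ⊓ Subgroup.centralizer ({d₁ * d₂ * d₃} : Set G)) (hK : K = (Cfsg.generalizedFittingSubgroup ↥CL).map CL.subtype) : Cfsg.IsQuasisimple ↥K ∧ (Subgroup.center ↥K).map K.subtype = E ∧ K = L ⊓ Subgroup.centralizer (E : Set G) ∧ (∃ (_ : (E.subgroupOf K).Normal) (F : Type) (_ : Field F) (_ : Fintype F), Fintype.card F = 4 ∧ Nonempty (↥K ⧸ E.subgroupOf K ≃* Cfsg.PSU 6 F 2)) ∧ ∃ _ : (K.subgroupOf CL).Normal, Nonempty (↥CL ⧸ K.subgroupOf CL ≃* Equiv.Perm (Fin 3)) ∧ E ≤ CL ∧ ∃ (_ : (E.subgroupOf CL).Normal) (F : Type) (_ : Field F) (_ : Fintype F), Fintype.card F = 4 ∧ Nonempty (↥CL ⧸ E.subgroupOf CL ≃* MulAut (Cfsg.PSU 6 F 2)) := by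
  classical
  obtain ⟨Q, iQ, iQ', E', Q₂, i₂, i₂', E₂, F, iF, iF', S22, S23, hM, ⟨S⟩⟩ :=
    Lib.FischerMTypes.M24Data.exists_step hD hprim h24
  have P := Lib.FischerMTypes.M24Data.pinned S22 S23 hM h24 S
  have hmem : ∀ {x y : G}, x ∈ D → y ∈ D → x * y ∈ L := fun {x y} hx hy => by
    rw [hL]; exact Lib.FischerMTypes.IndexTwoLayer.mul_mem_commutator hD hprim hx hy
  have hL₁ : d₁ ∉ L := by rw [hL]; exact Lib.FischerMTypes.ParityM24.parity S22 S23 S hM P h₁
  haveI : L.Normal := by rw [hL]; infer_instance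
  have hor : ∀ g, g ∈ L ∨ g * d₁ ∈ L :=
    Lib.FischerMTypes.IndexTwoLayer.mem_or hprim hD (fun x hx y hy => hmem hx hy) h₁
  obtain ⟨hq₀, hcen₀, F', iF', iF'', hF', ⟨e₀⟩⟩ :=
    Lib.FischerMTypes.TripleM24.structure_three S22 S23 S hM P L hor h₁ hL₁
      (d₂ := d₂) (d₃ := d₃) ⟨h₂, h12.symm, c12⟩ ⟨h₃, h13.symm, c13⟩ h23 c23 (hmem h₁ h₂) (hmem h₁ h₃)
  set K₀ := L ⊓ Subgroup.centralizer ({d₁, d₂, d₃} : Set G) with hK₀
  have hK₀CL : K₀ ≤ CL := fun g hg => by
    obtain ⟨a, b, c⟩ := Lib.FischerMTypes.TripleM24.mem_centralizer_three.mp hg.2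
    rw [hCL]
    exact ⟨hg.1, Subgroup.mem_centralizer_singleton_iff.mpr ((a.mul_left b).mul_left c).eq.symm⟩
  -- the action on the three transpositions
  let d : Fin 3 → G := ![d₁, d₂, d₃]
  have hdinj : Function.Injective d := by
    intro i j h
    fin_cases i <;> fin_cases j <;> simp [d, h12, h13, h23, h12.symm, h13.symm, h23.symm] at h ⊢
  have hT := Lib.FischerMTypes.SameFactors.triple_tuple h₁ h₂ h₃ h12 h13 h23 c12 c13 c23
  have hperm : ∀ (g : ↥CL) (i : Fin 3), ∃ j, (g : G) * d i * (g : G)⁻¹ = d j := by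
    intro g i
    have hg : (g : G) ∈ L ⊓ Subgroup.centralizer ({d₁ * d₂ * d₃} : Set G) := hCL.le g.2
    have hcg : Commute (g : G) [d₁, d₂, d₃].prod := by
      rw [show [d₁, d₂, d₃].prod = d₁ * d₂ * d₃ by simp [mul_assoc]]
      exact Subgroup.mem_centralizer_singleton_iff.mp hg.2
    have h := Lib.FischerMTypes.SameFactors.conj_mem S22 S23 S hM hT (m := 2) rfl le_rfl hcg (t := d i)
      (by fin_cases i <;> simp [d])
    simp only [List.mem_cons, List.not_mem_nil, or_false] at h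
    rcases h with h | h | h
    exacts [⟨0, h⟩, ⟨1, h⟩, ⟨2, h⟩]
  choose σ hσ using hperm
  have hσinj : ∀ g, Function.Injective (σ g) := fun g i j h => hdinj (by
    have hi := hσ g i
    rw [h, ← hσ g j] at hi
    simpa using hi)
  let π : ↥CL →* Equiv.Perm (Fin 3) :=
    { toFun := fun g => Equiv.ofBijective (σ g) (Finite.injective_iff_bijective.mp (hσinj g))
      map_one' := Equiv.ext fun i => hdinj (by
        show d (σ 1 i) = d i
        rw [← hσ 1 i]; simp)
      map_mul' := fun g h => Equiv.ext fun i => hdinj (by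
        show d (σ (g * h) i) = d (σ g (σ h i))
        rw [← hσ (g * h) i, ← hσ g, ← hσ h i, Subgroup.coe_mul]; group) }
  have hπker : π.ker = K₀.subgroupOf CL := by
    ext g
    rw [MonoidHom.mem_ker, Subgroup.mem_subgroupOf, hK₀, Subgroup.mem_inf,
      Lib.FischerMTypes.TripleM24.mem_centralizer_three]
    have key : ∀ i, π g i = i ↔ Commute (d i) (g : G) := fun i => by
      show σ g i = i ↔ d i * (g : G) = (g : G) * d i
      rw [← hdinj.eq_iff, ← hσ g i, mul_inv_eq_iff_eq_mul]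
      exact eq_comm
    constructor
    · intro h
      exact ⟨(hCL.le g.2).1, (key 0).mp (by rw [h]; rfl), (key 1).mp (by rw [h]; rfl),
        (key 2).mp (by rw [h]; rfl)⟩
    · rintro ⟨-, a, b, c⟩
      refine Equiv.ext fun i => (key i).mpr ?_
      fin_cases i
      exacts [a, b, c]
  have hπsurj : Function.Surjective π := by
    intro τ
    have hTτ : Lib.FischerMTypes.Step.Tuple D [d (τ 0), d (τ 1), d (τ 2)] := by
      have hD' : ∀ i, d i ∈ D := fun i => by fin_cases i <;> simp [d, h₁, h₂, h₃]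
      have hC' : ∀ i j, Commute (d i) (d j) := fun i j => by
        fin_cases i <;> fin_cases j <;> simp [d, c12, c12.symm, c13, c13.symm, c23, c23.symm]
      exact Lib.FischerMTypes.SameFactors.triple_tuple (hD' _) (hD' _) (hD' _)
        (fun h => absurd (τ.injective (hdinj h)) (by decide)) (fun h => absurd (τ.injective (hdinj h)) (by decide))
        (fun h => absurd (τ.injective (hdinj h)) (by decide)) (hC' _ _) (hC' _ _) (hC' _ _)
    obtain ⟨g, hg⟩ := Lib.FischerMTypes.InvolutionsM24.trans_M24 S22 S23 S (m := 2) (by norm_num) _ _ hT hTτ rfl rfl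
    simp only [List.map_cons, List.map_nil, List.cons.injEq, and_true] at hg
    have hgd : ∀ i, g * d i * g⁻¹ = d (τ i) := fun i => by fin_cases i; exacts [hg.1, hg.2.1, hg.2.2]
    have hgz : g ∈ Subgroup.centralizer ({d₁ * d₂ * d₃} : Set G) := by
      rw [Subgroup.mem_centralizer_singleton_iff, ← mul_inv_eq_iff_eq_mul]
      have hp : [d (τ 0), d (τ 1), d (τ 2)].Perm [d₁, d₂, d₃] := by
        have := (Equiv.Perm.map_finRange_perm τ).map d
        simpa [List.finRange_succ, d, List.map_map] using this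
      have he := hp.prod_eq' (List.pairwise_iff_forall_sublist.mpr fun hs =>
        hTτ.2.2 _ (hs.subset (by simp)) _ (hs.subset (by simp)))
      rw [show g * (d₁ * d₂ * d₃) * g⁻¹ = g * d₁ * g⁻¹ * (g * d₂ * g⁻¹) * (g * d₃ * g⁻¹) by group,
        hg.1, hg.2.1, hg.2.2]
      simpa [mul_assoc] using he
    have hd1z : d₁ ∈ Subgroup.centralizer ({d₁ * d₂ * d₃} : Set G) :=
      Subgroup.mem_centralizer_singleton_iff.mpr (((Commute.refl d₁).mul_right c12).mul_right c13).eq
    have fin : ∀ g' : G, g' ∈ L → g' ∈ Subgroup.centralizer ({d₁ * d₂ * d₃} : Set G) →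
        (∀ i, g' * d i * g'⁻¹ = d (τ i)) → ∃ x, π x = τ := fun g' hl hz hd' =>
      ⟨⟨g', hCL.ge ⟨hl, hz⟩⟩, Equiv.ext fun i => hdinj (by
        show d (σ _ i) = d (τ i)
        rw [← hσ, ← hd' i])⟩
    rcases hor g with h | h
    · exact fin g h hgz hgd
    · refine fin (g * d₁) h (mul_mem hgz hd1z) fun i => ?_
      have hc : Commute d₁ (d i) := by fin_cases i <;> simp [d, c12, c13]
      rw [show g * d₁ * d i * (g * d₁)⁻¹ = g * (d₁ * d i * d₁⁻¹) * g⁻¹ by group, hc.eq,
        mul_inv_cancel_right, hgd i]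
  haveI hK₁n : (K₀.subgroupOf CL).Normal := hπker ▸ inferInstance
  have hq₁ : Cfsg.IsQuasisimple ↥(K₀.subgroupOf CL) :=
    Lib.Components.Quasisimple.of_mulEquiv hq₀ (Subgroup.subgroupOfEquivOfLe hK₀CL).symm
  have hEK : ∀ {x : G}, x ∈ E → x ∈ K₀ := fun {x} hx => by
    rw [hE, ← hcen₀] at hx
    obtain ⟨y, -, rfl⟩ := hx
    exact y.2
  have hcE : ∀ g ∈ L, g ∈ Subgroup.centralizer (E : Set G) → g ∈ K₀ := by
    intro g hl hg
    refine ⟨hl, Lib.FischerMTypes.TripleM24.mem_centralizer_three.mpr ?_⟩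
    have hc : ∀ x ∈ ({d₁ * d₂, d₁ * d₃} : Set G), Commute x g := fun x hx =>
      Subgroup.mem_centralizer_iff.mp hg x (hE ▸ Subgroup.subset_closure hx)
    have pair : ∀ {b : G}, b ∈ D → d₁ ≠ b → Commute d₁ b → Commute (d₁ * b) g →
        (g * d₁ * g⁻¹ = d₁ ∨ g * d₁ * g⁻¹ = b) := fun {b} hb hne hcb hgb => by
      simpa using Lib.FischerMTypes.SameFactors.conj_mem S22 S23 S hM
        (Lib.FischerMTypes.SameFactors.pair_tuple h₁ hb hne hcb) (m := 1) rfl (by norm_num)
        (show Commute g [d₁, b].prod by simpa using hgb.symm) (t := d₁) (by simp)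
    have hfix : g * d₁ * g⁻¹ = d₁ := by
      rcases pair h₂ h12 c12 (hc _ (by simp)) with h | h
      · exact h
      · rcases pair h₃ h13 c13 (hc _ (by simp)) with h' | h'
        · exact h'
        · exact absurd (h.symm.trans h') h23
    have c1 : Commute d₁ g := (mul_inv_eq_iff_eq_mul.mp hfix).symm
    have cancel : ∀ {b : G}, Commute (d₁ * b) g → Commute b g := fun {b} hb => by
      have := c1.inv_left.mul_left hb
      rwa [inv_mul_cancel_left] at this
    exact ⟨c1, cancel (hc _ (by simp)), cancel (hc _ (by simp))⟩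
  have hcent : Subgroup.centralizer ((K₀.subgroupOf CL : Subgroup ↥CL) : Set ↥CL) ≤ K₀.subgroupOf CL := by
    intro g hg
    refine Subgroup.mem_subgroupOf.mpr (hcE g (hCL.le g.2).1 (Subgroup.mem_centralizer_iff.mpr fun x hx => ?_))
    exact congrArg Subtype.val (Subgroup.mem_centralizer_iff.mp hg ⟨x, hK₀CL (hEK hx)⟩
      (Subgroup.mem_subgroupOf.mpr (hEK hx)))
  have hKK : K = K₀ := by
    rw [hK, Lib.FischerMTypes.QuasiExtension.genFitting_eq hq₁ hcent, Subgroup.map_subgroupOf_eq_of_le hK₀CL]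
  subst hKK
  have hcenE : (Subgroup.center ↥K₀).map K₀.subtype = E := hcen₀.trans hE.symm
  have hEsub : E.subgroupOf K₀ = Subgroup.center ↥K₀ := by
    rw [← hcenE]
    exact Subgroup.comap_map_eq_self_of_injective Subtype.val_injective _
  have hKE : K₀ = L ⊓ Subgroup.centralizer (E : Set G) := by
    refine le_antisymm (fun g hg => ⟨hg.1, Subgroup.mem_centralizer_iff.mpr fun x hx => ?_⟩)
      fun g hg => hcE g hg.1 hg.2
    rw [← hcenE] at hx
    obtain ⟨y, hy, rfl⟩ := hx
    exact (congrArg Subtype.val (Subgroup.mem_center_iff.mp hy ⟨g, hg⟩)).symm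
  haveI hEKn : (E.subgroupOf K₀).Normal := hEsub ▸ inferInstance
  set eI := Subgroup.subgroupOfEquivOfLe hK₀CL
  have hN : E.subgroupOf CL = (Subgroup.center ↥(K₀.subgroupOf CL)).map (K₀.subgroupOf CL).subtype := by
    refine Subgroup.map_injective (f := CL.subtype) Subtype.val_injective ?_
    rw [Subgroup.map_subgroupOf_eq_of_le fun x hx => hK₀CL (hEK hx), Subgroup.map_map,
      ← hcenE, ← Lib.FischerMTypes.TripleM24.map_center_equiv eI, Subgroup.map_map]
    rfl
  haveI hENn : (E.subgroupOf CL).Normal := by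
    rw [hN, ← Lib.FischerMTypes.QuasiExtension.conjQuot_ker hq₁ hcent]
    infer_instance
  have e₁ : ↥(K₀.subgroupOf CL) ⧸ Subgroup.center ↥(K₀.subgroupOf CL) ≃* Cfsg.PSU 6 F' 2 :=
    (QuotientGroup.congr _ _ eI (Lib.FischerMTypes.TripleM24.map_center_equiv eI)).trans e₀
  have hπe : ↥CL ⧸ K₀.subgroupOf CL ≃* Equiv.Perm (Fin 3) :=
    (QuotientGroup.quotientMulEquivOfEq hπker.symm).trans (QuotientGroup.quotientKerEquivOfSurjective π hπsurj)
  have hcard : Nat.card ↥CL =
      Nat.card (MulAut (Cfsg.PSU 6 F' 2)) * Nat.card (Subgroup.center ↥(K₀.subgroupOf CL)) := by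
    rw [Subgroup.card_eq_card_quotient_mul_card_subgroup (K₀.subgroupOf CL), Nat.card_congr hπe.toEquiv,
      Nat.card_eq_fintype_card, Fintype.card_perm, Fintype.card_fin,
      Subgroup.card_eq_card_quotient_mul_card_subgroup (Subgroup.center ↥(K₀.subgroupOf CL)),
      Nat.card_congr e₁.toEquiv,
      Lib.AutPSU.card_mulAut_PSU (p := 2) (f := 1) (n := 6) (q := 2) (by rw [hF']; norm_num) (by norm_num)
        (by norm_num) (by norm_num), ← mul_assoc]
    norm_num
  exact ⟨hq₀, hcenE, hKE, ⟨hEKn, F', iF', iF'', hF', ⟨(QuotientGroup.quotientMulEquivOfEq hEsub).trans e₀⟩⟩,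
    hK₁n, ⟨hπe⟩, fun x hx => hK₀CL (hEK hx), hENn, F', iF', iF'', hF',
    Lib.FischerMTypes.QuasiExtension.aut_iso hq₁ hcent e₁ hcard _ hN⟩

end Cfsg.Agent.S5466
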