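import Cfsg.Statements.S5471
import Cfsg.Agent.Lib.FischerMTypes.Neighbour
import Cfsg.Agent.Lib.FischerMTypes.Simple

set_option autoImplicit false
set_option linter.style.haveILetI false
open Cfsg

namespace Cfsg.Agent.S5471

/-- Let G be a finite group with trivial centre generated by a conjugation-invariant set D of 3-transpositions on which it acts primitively, such that for some d in D the subgroup generated by the members of D other than d commuting with d has central largest normal 2- and 3-subgroups, and suppose G with D is of type M(23). Let d₁, d₂, d₃ be distinct pairwise commuting members of D and j their product. Then the joint centralizer of d₁, d₂, d₃ is normal in the centralizer of j with quotient isomorphic to the symmetric group of degree 3. -/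
theorem result {G : Type*} [Group G] [Finite G] {D : Set G} (hD : Cfsg.IsThreeTranspositionGroup D) (hprim : Cfsg.IsPrimitiveUnderConj D) (d₀ : G) (hd₀ : d₀ ∈ D) (h3 : Cfsg.pCore 3 ↥(Subgroup.closure {y : G | y ∈ D ∧ y ≠ d₀ ∧ Commute d₀ y}) ≤ Subgroup.center ↥(Subgroup.closure {y : G | y ∈ D ∧ y ≠ d₀ ∧ Commute d₀ y})) (h2 : Cfsg.pCore 2 ↥(Subgroup.closure {y : G | y ∈ D ∧ y ≠ d₀ ∧ Commute d₀ y}) ≤ Subgroup.center ↥(Subgroup.closure {y : G | y ∈ D ∧ y ≠ d₀ ∧ Commute d₀ y})) (h23 : Cfsg.IsOfTypeM23 G D) (d₁ d₂ d₃ : G) (h₁ : d₁ ∈ D) (h₂ : d₂ ∈ D) (h₃ : d₃ ∈ D) (h12 : d₁ ≠ d₂) (h13 : d₁ ≠ d₃) (h23 : d₂ ≠ d₃) (c12 : Commute d₁ d₂) (c13 : Commute d₁ d₃) (c23 : Commute d₂ d₃) (K C : Subgroup G) (hK : K = Subgroup.centralizer ({d₁, d₂, d₃} : Set G)) (hC : C = Subgroup.centralizer ({d₁ * d₂ * d₃} : Set G)) : K ≤ C ∧ ∃ _ : (K.subgroupOf C).Normal, Nonempty (↥C ⧸ K.subgroupOf C ≃* Equiv.Perm (Fin 3)) := by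
  open Cfsg.Agent.Lib.FischerMTypes in
  have hlev := Unique.levels Simple.simple_psu hD hprim (Or.inl ‹Cfsg.IsOfTypeM23 G D›)
  obtain ⟨hZ, hT₂⟩ := hlev
  have hT := Unique.noTwins_all hD hprim hZ hd₀ h2
  obtain ⟨-, d, hd, -, -, -, hH, -⟩ := ‹Cfsg.IsOfTypeM23 G D›
  obtain ⟨hcl, hgen⟩ := Types.image_erase_closed (Primitive.perp_closed hD d) (Subgroup.closure (Primitive.perp D d)) rfl
  have htr : Neighbour.QuotTransitive D d := (Types.solid_of_M22 Simple.simple_psu hcl hgen hH).transitive
  let e : Fin 3 → G := ![d₁, d₂, d₃]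
  have heD : ∀ i, e i ∈ D := by intro i; fin_cases i <;> assumption
  have hinj : Function.Injective e := by
    intro i j hij
    fin_cases i <;> fin_cases j <;> first
      | rfl
      | (exfalso; exact h12 hij) | (exfalso; exact h13 hij) | (exfalso; exact h23 hij)
      | (exfalso; exact h12 hij.symm) | (exfalso; exact h13 hij.symm) | (exfalso; exact h23 hij.symm)
  have hcom : ∀ i j, Commute (e i) (e j) := by
    intro i j
    fin_cases i <;> fin_cases j <;> first
      | exact Commute.refl _ | exact c12 | exact c13 | exact c23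
      | exact c12.symm | exact c13.symm | exact c23.symm
  have hCK : ∀ g : G, g ∈ K → g ∈ C := by
    intro g hg
    rw [hK, Subgroup.mem_centralizer_iff] at hg
    rw [hC, Subgroup.mem_centralizer_singleton_iff]
    have k : ∀ i, Commute g (e i) := by
      intro i
      fin_cases i <;> exact (hg _ (by simp [e])).symm
    exact ((k 0).mul_right (k 1)).mul_right (k 2)
  have hperm : ∀ g ∈ C, ∀ i, ∃ j, g * e i * g⁻¹ = e j := by
    intro g hg i
    rw [hC, Subgroup.mem_centralizer_singleton_iff] at hg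
    have hmem : ∀ u ∈ [g * e 0 * g⁻¹, g * e 1 * g⁻¹, g * e 2 * g⁻¹], ∃ k, u = g * e k * g⁻¹ := by
      intro u hu
      simp only [List.mem_cons, List.not_mem_nil, or_false] at hu
      rcases hu with rfl | rfl | rfl <;> exact ⟨_, rfl⟩
    have hmem' : ∀ u ∈ [e 0, e 1, e 2], ∃ k, u = e k := by
      intro u hu
      simp only [List.mem_cons, List.not_mem_nil, or_false] at hu
      rcases hu with h | h | h <;> exact ⟨_, h⟩
    have h := Primitive.triple_unique hD hprim hZ hT hT₂ (a := g * e 0 * g⁻¹) (b := g * e 1 * g⁻¹)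
      (c := g * e 2 * g⁻¹) (e := e 0) (f := e 1) (h := e 2)
      (fun u hu => by obtain ⟨k, rfl⟩ := hmem u hu; exact hD.2.1 g _ (heD k))
      (fun u hu => by obtain ⟨k, rfl⟩ := hmem' u hu; exact heD k)
      (fun u hu v hv => by
        obtain ⟨k, rfl⟩ := hmem u hu
        obtain ⟨k', rfl⟩ := hmem v hv
        exact (hcom k k').map (MulAut.conj g).toMonoidHom)
      (fun u hu v hv => by
        obtain ⟨k, rfl⟩ := hmem' u hu
        obtain ⟨k', rfl⟩ := hmem' v hv
        exact hcom k k')
      (by simp [hinj.eq_iff])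
      (by simp [hinj.eq_iff])
      (by
        calc g * e 0 * g⁻¹ * (g * e 1 * g⁻¹) * (g * e 2 * g⁻¹) = g * (e 0 * e 1 * e 2) * g⁻¹ := by group
          _ = e 0 * e 1 * e 2 := mul_inv_eq_iff_eq_mul.mpr hg)
      (g * e i * g⁻¹) (by fin_cases i <;> simp)
    simp only [List.mem_cons, List.not_mem_nil, or_false] at h
    rcases h with h | h | h <;> exact ⟨_, h⟩
  choose σ hσ using fun (g : ↥C) (i : Fin 3) => hperm g g.2 i
  have hmul : ∀ g k : ↥C, ∀ i, σ (g * k) i = σ g (σ k i) := by
    intro g k i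
    refine hinj ?_
    rw [← hσ, ← hσ, ← hσ, Subgroup.coe_mul]
    group
  have hone : ∀ i, σ 1 i = i := fun i => hinj (by rw [← hσ, OneMemClass.coe_one]; group)
  let φ : ↥C →* Equiv.Perm (Fin 3) :=
    { toFun := fun g => ⟨σ g, σ g⁻¹, fun i => by rw [← hmul, inv_mul_cancel, hone],
        fun i => by rw [← hmul, mul_inv_cancel, hone]⟩
      map_one' := Equiv.ext hone
      map_mul' := fun g k => Equiv.ext (hmul g k) }
  have hker : φ.ker = K.subgroupOf C := by
    ext g
    rw [MonoidHom.mem_ker, Subgroup.mem_subgroupOf, hK, Subgroup.mem_centralizer_iff]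
    constructor
    · intro hg u hu
      have k : ∀ i, (g : G) * e i * (g : G)⁻¹ = e i := fun i => by
        rw [hσ, show σ g i = i from Equiv.congr_fun hg i]
      simp only [Set.mem_insert_iff, Set.mem_singleton_iff] at hu
      rcases hu with rfl | rfl | rfl
      · exact (mul_inv_eq_iff_eq_mul.mp (k 0)).symm
      · exact (mul_inv_eq_iff_eq_mul.mp (k 1)).symm
      · exact (mul_inv_eq_iff_eq_mul.mp (k 2)).symm
    · intro hg
      refine Equiv.ext fun i => hinj ?_
      show e (σ g i) = e i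
      rw [← hσ, mul_inv_eq_iff_eq_mul]
      fin_cases i <;> exact (hg _ (by simp [e])).symm
  have hswap : ∀ i j k : Fin 3, i ≠ j → i ≠ k → j ≠ k → Equiv.swap i j ∈ φ.range := by
    intro i j k hij hik hjk
    obtain ⟨g, g1, g2, g3⟩ := Neighbour.exists_swap hD hprim hZ hd htr (heD k) (a := e i) (b := e j)
      ⟨heD i, fun h => hik (hinj h), hcom k i⟩ ⟨heD j, fun h => hjk (hinj h), hcom k j⟩
      (fun h => hij (hinj h)) (hcom i j)
    have hall : ∀ l, g * e l * g⁻¹ = e (Equiv.swap i j l) := by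
      intro l
      have : l = i ∨ l = j ∨ l = k := by omega
      rcases this with rfl | rfl | rfl
      · rw [Equiv.swap_apply_left]; exact g1
      · rw [Equiv.swap_apply_right]; exact g2
      · rw [Equiv.swap_apply_of_ne_of_ne (Ne.symm hik) (Ne.symm hjk)]; exact g3
    have hgC : g ∈ C := by
      rw [hC, Subgroup.mem_centralizer_singleton_iff, ← mul_inv_eq_iff_eq_mul]
      calc g * (d₁ * d₂ * d₃) * g⁻¹ = g * e 0 * g⁻¹ * (g * e 1 * g⁻¹) * (g * e 2 * g⁻¹) := by
            show g * (e 0 * e 1 * e 2) * g⁻¹ = _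
            group
        _ = e (Equiv.swap i j 0) * e (Equiv.swap i j 1) * e (Equiv.swap i j 2) := by rw [hall, hall, hall]
        _ = d₁ * d₂ * d₃ := by
            have s01 : ∀ x y z : Fin 3, e x * e y * e z = e y * e x * e z := fun x y z => by rw [(hcom x y).eq]
            have s12 : ∀ x y z : Fin 3, e x * e y * e z = e x * e z * e y := fun x y z => by
              rw [mul_assoc, mul_assoc, (hcom y z).eq]
            have hsw : ∀ i j : Fin 3, i ≠ j → (Equiv.swap i j 0, Equiv.swap i j 1, Equiv.swap i j 2) = ((1 : Fin 3), (0 : Fin 3), (2 : Fin 3)) ∨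
                (Equiv.swap i j 0, Equiv.swap i j 1, Equiv.swap i j 2) = ((2 : Fin 3), (1 : Fin 3), (0 : Fin 3)) ∨
                (Equiv.swap i j 0, Equiv.swap i j 1, Equiv.swap i j 2) = ((0 : Fin 3), (2 : Fin 3), (1 : Fin 3)) := by
              decide
            show _ = e 0 * e 1 * e 2
            rcases hsw i j hij with h | h | h <;> simp only [Prod.mk.injEq] at h <;> rw [h.1, h.2.1, h.2.2]
            · exact s01 1 0 2
            · rw [s01 2 1 0, s12 1 2 0]; exact s01 1 0 2
            · exact s12 0 2 1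
    exact ⟨⟨g, hgC⟩, Equiv.ext fun l => hinj ((hσ ⟨g, hgC⟩ l).symm.trans (hall l))⟩
  have hsurj : Function.Surjective φ := by
    rw [← MonoidHom.range_eq_top, eq_top_iff, ← Equiv.Perm.closure_isSwap, Subgroup.closure_le]
    rintro _ ⟨i, j, hij, rfl⟩
    obtain ⟨k, hik, hjk⟩ : ∃ k : Fin 3, i ≠ k ∧ j ≠ k := by revert hij; revert i j; decide
    exact hswap i j k hij hik hjk
  refine ⟨fun g hg => hCK g hg, hker ▸ φ.normal_ker, ?_⟩
  haveI : (K.subgroupOf C).Normal := hker ▸ φ.normal_ker
  exact ⟨(QuotientGroup.quotientMulEquivOfEq hker.symm).trans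
    (QuotientGroup.quotientKerEquivOfSurjective φ hsurj)⟩

end Cfsg.Agent.S5471
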