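import Cfsg.Statements.S5514
import Cfsg.Agent.Lib.O7Three.Main

set_option autoImplicit false
open Cfsg

namespace Cfsg.Agent.S5514

/-- The commutator subgroup of the isometry group of a non-degenerate 7-dimensional quadratic form over the field with three elements, modulo its (trivial) centre — the simple group Ω(7, 3) — has exactly seven conjugacy classes of subgroups of order 3. -/
theorem result : ∃ Y : Fin 7 → Subgroup (Cfsg.POmega (ZMod 3) (Cfsg.quadFormOdd 3 (ZMod 3))), (∀ i, Nat.card (Y i) = 3) ∧ (∀ i j, (∃ g : Cfsg.POmega (ZMod 3) (Cfsg.quadFormOdd 3 (ZMod 3)), (Y i).map (MulAut.conj g).toMonoidHom = Y j) → i = j) ∧ (∀ X : Subgroup (Cfsg.POmega (ZMod 3) (Cfsg.quadFormOdd 3 (ZMod 3))), Nat.card X = 3 → ∃ i, ∃ g : Cfsg.POmega (ZMod 3) (Cfsg.quadFormOdd 3 (ZMod 3)), X.map (MulAut.conj g).toMonoidHom = Y i) := by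
  obtain ⟨e⟩ := Cfsg.Agent.Lib.CosetEnum.O7Rep.nonempty_iso
  obtain ⟨Y, hY, hdis, hall⟩ := Cfsg.Agent.Lib.O7Three.Main.exists_reps
  have hcard : ∀ X : Subgroup (PresentedGroup Cfsg.Agent.Lib.CosetEnum.Fi22Sub.pres),
      Nat.card (X.map e.toMonoidHom) = Nat.card X := fun X =>
    Subgroup.card_map_of_injective e.injective
  have hmap : ∀ g (X : Subgroup (PresentedGroup Cfsg.Agent.Lib.CosetEnum.Fi22Sub.pres)),
      (X.map (MulAut.conj g).toMonoidHom).map e.toMonoidHom =
        (X.map e.toMonoidHom).map (MulAut.conj (e g)).toMonoidHom := by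
    intro g X
    rw [Subgroup.map_map, Subgroup.map_map]
    congr 1
    ext x
    simp
  refine ⟨fun i => (Y i).map e.toMonoidHom, fun i => by rw [hcard, hY], ?_, ?_⟩
  · rintro i j ⟨g, hg⟩
    obtain ⟨g, rfl⟩ := e.surjective g
    rw [← hmap] at hg
    exact hdis i j ⟨g, Subgroup.map_injective e.injective hg⟩
  · intro X hX
    have hXe : (X.comap e.toMonoidHom).map e.toMonoidHom = X :=
      Subgroup.map_comap_eq_self_of_surjective e.surjective X
    obtain ⟨i, g, hg⟩ := hall (X.comap e.toMonoidHom) (by rw [← hcard, hXe]; exact hX)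
    refine ⟨i, e g, ?_⟩
    show _ = (Y i).map e.toMonoidHom
    rw [← hg, hmap, hXe]

end Cfsg.Agent.S5514
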