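import Cfsg.Statements.S5518
import Cfsg.Agent.Lib.FischerMTypes83.Triality.Thirteen
-- import your own Cfsg.Agent.* helpers here

set_option autoImplicit false
open Cfsg

namespace Cfsg.Agent.S5518

open Cfsg.Agent.Lib.FischerMTypes83.Triality

/-- Let G be a finite group with trivial centre generated by a conjugation-invariant set D of 3-transpositions on which it acts primitively, such that for some d in D the subgroup generated by the members of D other than d commuting with d has central largest normal 2- and 3-subgroups, and suppose G with D is of type M(24). Then any two subgroups of order 13 are conjugate; and there are members a, b, c, d of D generating the direct product T of two symmetric groups of degree 3 (a, d non-commuting; b, c non-commuting; b and c commuting with a and d) whose centralizer K is isomorphic to the Chevalley group G₂(3), such that for every subgroup B of K of order 13: the normalizer of B lies in the normalizer of K, the normalizer F of B in K is a Frobenius group of order 78 with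 kernel B (order 78, centralizer of B in it equal to B), and the subgroup generated by F and T has index 2 in the normalizer of B. -/
theorem result {G : Type*} [Group G] [Finite G] {D : Set G} (hD : Cfsg.IsThreeTranspositionGroup D) (hprim : Cfsg.IsPrimitiveUnderConj D) (d₀ : G) (hd₀ : d₀ ∈ D) (h3 : Cfsg.pCore 3 ↥(Subgroup.closure {y : G | y ∈ D ∧ y ≠ d₀ ∧ Commute d₀ y}) ≤ Subgroup.center ↥(Subgroup.closure {y : G | y ∈ D ∧ y ≠ d₀ ∧ Commute d₀ y})) (h2 : Cfsg.pCore 2 ↥(Subgroup.closure {y : G | y ∈ D ∧ y ≠ d₀ ∧ Commute d₀ y}) ≤ Subgroup.center ↥(Subgroup.closure {y : G | y ∈ D ∧ y ≠ d₀ ∧ Commute d₀ y})) (h24 : Cfsg.IsOfTypeM24 G D) : (∀ X Y : Subgroup G, Nat.card X = 13 → Nat.card Y = 13 → ∃ g : G, X.map (MulAut.conj g).toMonoidHom = Y) ∧ ∃ (a b c d : G) (T K : Subgroup G), (∀ x ∈ [a, b, c, d], x ∈ D) ∧ ¬ Commute a d ∧ ¬ Commute b c ∧ Commute a b ∧ Commute a c ∧ Commute d b ∧ Commute d c ∧ T = Subgroup.closure ({a, b, c, d} : Set G) ∧ K = Subgroup.centralizer (T : Set G) ∧ Nonempty (↥K ≃* ↥(Cfsg.Lie.chevG2.group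 (ZMod 3))) ∧ ∀ B : Subgroup G, B ≤ K → Nat.card B = 13 → Subgroup.normalizer ((B : Subgroup G) : Set G) ≤ Subgroup.normalizer ((K : Subgroup G) : Set G) ∧ Nat.card ↥(K ⊓ Subgroup.normalizer ((B : Subgroup G) : Set G)) = 78 ∧ K ⊓ Subgroup.centralizer ((B : Subgroup G) : Set G) = B ∧ (((K ⊓ Subgroup.normalizer ((B : Subgroup G) : Set G)) ⊔ T).subgroupOf (Subgroup.normalizer ((B : Subgroup G) : Set G))).index = 2 := by
  obtain ⟨hG, ⟨a, ha, d, hd, hnc⟩, hnear⟩ := thirteen_data hD hprim h24
  have hact : ∀ e ∈ D, ∀ f ∈ D, ¬ Commute e f → Nonempty (Act D e f) :=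
    fun e he f hf h => exists_act hD hprim d₀ hd₀ h3 h2 h24 he hf h
  obtain ⟨A⟩ := hact a ha d hd hnc
  obtain ⟨b, hb, hlb⟩ := A.exists_el hD (s := Equiv.swap 0 1) (by decide) (by decide)
  obtain ⟨c, hc, hlc⟩ := A.exists_el hD (s := Equiv.swap 1 2) (by decide) (by decide)
  have hbc : ¬ Commute b c := fun h => by
    have h1 : Commute (A.el hb) (A.el hc) := Subtype.ext h.eq
    have h2 := h1.map A.lab
    rw [hlb, hlc] at h2
    exact absurd h2.eq (by decide)
  have hne : A.lab (A.el hb) ≠ A.lab (A.el hc) := by rw [hlb, hlc]; decide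
  have : Fact (Nat.Prime 13) := ⟨by norm_num⟩
  refine ⟨fun X Y hX hY => Lib.FischerMTypes.PrimeOnce.exists_conj hG hX hY, a, b, c, d,
    Subgroup.closure {a, b, c, d}, Subgroup.centralizer (Subgroup.closure ({a, b, c, d} : Set G) : Set G), ?_,
    hnc, hbc, hb.1.2.2, hc.1.2.2, hb.2.2.2, hc.2.2.2, rfl, rfl, ?_, fun B hBK hB => ?_⟩
  · intro x hx
    simp only [List.mem_cons, List.not_mem_nil, or_false] at hx
    rcases hx with rfl | rfl | rfl | rfl
    exacts [ha, hb.1.1, hc.1.1, hd]
  · obtain ⟨e⟩ := A.cross_iso hD hb hc hne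
    rw [Subgroup.centralizer_closure, show ({a, b, c, d} : Set G) = {a, d, b, c} by
      ext u; simp only [Set.mem_insert_iff, Set.mem_singleton_iff]; tauto]
    exact ⟨e⟩
  · have H : Quad D a d b c := ⟨ha, hd, hnc, hb, hc, hbc⟩
    have hBK' : B ≤ Subgroup.centralizer ({a, b, c, d} : Set G) := by rwa [← Subgroup.centralizer_closure]
    have hKB : Subgroup.centralizer (Subgroup.closure ({a, b, c, d} : Set G) : Set G) ⊓
        Subgroup.centralizer (B : Set G) = B := by
      refine le_antisymm (fun z hz => ?_) (le_inf hBK (Lib.FischerMTypes.PrimeOnce.le_centralizer_self hB))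
      obtain ⟨y, hy, rfl⟩ := Lib.FischerMTypes.PrimeOnce.exists_gen hB
      obtain ⟨hz1, hz2⟩ := Subgroup.mem_inf.mp hz
      rw [Subgroup.centralizer_closure] at hz1
      have hy' := hBK' (Subgroup.mem_zpowers y)
      have cm : ∀ {u : G}, u ∈ Subgroup.centralizer ({a, b, c, d} : Set G) → ∀ w ∈ ({a, b, c, d} : Set G),
          Commute w u := fun hu w hw => Subgroup.mem_centralizer_iff.mp hu w hw
      have had : ({a, d} : Set G) ⊆ {a, b, c, d} := by rintro u (rfl | rfl) <;> simp
      have hyz : Commute y z := Subgroup.mem_centralizer_iff.mp hz2 y (Subgroup.mem_zpowers y)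
      rcases A.thirteen b hb y (Subgroup.centralizer_le had hy') z (Subgroup.centralizer_le had hz1)
        (cm hy' b (by simp)) (cm hz1 b (by simp)) hy hyz with h | h
      · exact h
      · exfalso
        obtain ⟨k, hk⟩ := Subgroup.mem_zpowers_iff.mp h
        have h1 : Commute c (z * b) := hk ▸ (cm hy' c (by simp)).zpow_right k
        have h2 : Commute c (z⁻¹ * (z * b)) := (cm hz1 c (by simp)).inv_right.mul_right h1
        rw [inv_mul_cancel_left] at h2
        exact hbc h2.symm
    obtain ⟨h1, h78, hidx⟩ := H.normalizer_facts hD hB hBK' (hnear B hB) hact hG hprim rfl rfl hKB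
    exact ⟨h1, h78, hKB, hidx⟩

end Cfsg.Agent.S5518
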