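import Cfsg.Statements.S5519
import Cfsg.Agent.Lib.FischerMTypes.PairSocleM22
import Cfsg.Agent.Lib.OrthSixMinus.Aut
-- import your own Cfsg.Agent.* helpers here

set_option autoImplicit false
open Cfsg

namespace Cfsg.Agent.S5519

/-- Let G be a finite group with trivial centre generated by a conjugation-invariant set D of 3-transpositions on which it acts primitively, such that for some d in D the subgroup generated by the members of D other than d commuting with d has central largest normal 2- and 3-subgroups, and suppose G with D is of type M(22). Let d₁, d₂ be distinct commuting members of D and C the centralizer of their product. Then the generalized Fitting subgroup of C is the direct product of a group of order 2 and an extraspecial 2-group of order 2^9, and C modulo it is isomorphic to the full isometry group of the elliptic quadratic form in dimension 6 over the field with two elements. -/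
theorem result {G : Type*} [Group G] [Finite G] {D : Set G} (hD : Cfsg.IsThreeTranspositionGroup D) (hprim : Cfsg.IsPrimitiveUnderConj D) (d₀ : G) (hd₀ : d₀ ∈ D) (h3 : Cfsg.pCore 3 ↥(Subgroup.closure {y : G | y ∈ D ∧ y ≠ d₀ ∧ Commute d₀ y}) ≤ Subgroup.center ↥(Subgroup.closure {y : G | y ∈ D ∧ y ≠ d₀ ∧ Commute d₀ y})) (h2 : Cfsg.pCore 2 ↥(Subgroup.closure {y : G | y ∈ D ∧ y ≠ d₀ ∧ Commute d₀ y}) ≤ Subgroup.center ↥(Subgroup.closure {y : G | y ∈ D ∧ y ≠ d₀ ∧ Commute d₀ y})) (h22 : Cfsg.IsOfTypeM22 G D) (d₁ d₂ : G) (h₁ : d₁ ∈ D) (h₂ : d₂ ∈ D) (hne : d₁ ≠ d₂) (hc : Commute d₁ d₂) (C : Subgroup G) (hC : C = Subgroup.centralizer ({d₁ * d₂} : Set G)) [hn : (Cfsg.generalizedFittingSubgroup ↥C).Normal] : (∃ (E : Type) (_ : Group E) (_ : Finite E), Cfsg.IsExtraspecial 2 E ∧ Nat.card E = 2 ^ 9 ∧ Nonempty (↥(Cfsg.generalizedFittingSubgroup ↥C) ≃* Multiplicative (ZMod 2) × E)) ∧ Nonempty (↥C ⧸ Cfsg.generalizedFittingSubgroup ↥C ≃* Cfsg.isometryGroup (ZMod 2) (Cfsg.quadFormMinus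 2 (ZMod 2) 1 1)) := by
  obtain ⟨F, iF, iF', ⟨S⟩⟩ := Lib.FischerMTypes.TraceCounts.exists_sys hD hprim h22
  obtain ⟨M⟩ := Lib.FischerMTypes.PairModelM22.exists_model S h₁ (b := d₂) ⟨h₂, Ne.symm hne, hc⟩
  subst hC
  have hF4 : Fintype.card F = 4 := by rw [M.hF]; norm_num
  have hFit := M.genFitting_eq
  obtain ⟨E, iE, iE', hE, hEc, ⟨eE⟩⟩ := M.core_iso
  haveI := M.core_normal_prod
  obtain ⟨eC⟩ := M.quotient_equiv
  haveI : Fact (Nat.Prime 2) := ⟨Nat.prime_two⟩
  have hAut : Nat.card (MulAut (Cfsg.PSU 4 F 2)) = 51840 := by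
    rw [← Nat.card_congr (MulAut.congr (Lib.FischerMTypes.PairModelM22.psuEquiv M.hF)).toEquiv,
      Lib.FischerMTypes.PairModelM22.card_aut_SU_four M.hF]
  obtain ⟨eO⟩ := Lib.OrthSixMinus.iso_aut hF4 hAut
  exact ⟨⟨E, iE, iE', hE, hEc,
      ⟨((MulEquiv.subgroupCongr hFit).trans (Subgroup.subgroupOfEquivOfLe M.core_le_cenProd)).trans eE⟩⟩,
    ⟨((QuotientGroup.quotientMulEquivOfEq hFit).trans eC).trans eO.symm⟩⟩

end Cfsg.Agent.S5519
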