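import Cfsg.Statements.S5520
import Cfsg.Agent.Lib.U43InU62.Final

set_option autoImplicit false
open Cfsg

namespace Cfsg.Agent.S5520

open Cfsg.Agent.Lib.U43InU62

variable {G : Type*} [Group G]

/-- An isomorphism of a subgroup with its image respects centres and central quotients. -/
theorem center_data {G' : Type*} [Group G'] (φ : G ≃* G') (K : Subgroup G) :
    Nat.card (Subgroup.center (K.map φ.toMonoidHom)) = Nat.card (Subgroup.center K) ∧
      Nonempty ((↥(K.map φ.toMonoidHom) ⧸ Subgroup.center ↥(K.map φ.toMonoidHom)) ≃*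
        (↥K ⧸ Subgroup.center ↥K)) := by
  let E : K ≃* K.map φ.toMonoidHom := φ.subgroupMap K
  have hc : (Subgroup.center K).map E.toMonoidHom = Subgroup.center (K.map φ.toMonoidHom) := by
    ext x
    obtain ⟨y, rfl⟩ := E.surjective x
    simp only [Subgroup.mem_map, MulEquiv.coe_toMonoidHom, EmbeddingLike.apply_eq_iff_eq,
      exists_eq_right, Subgroup.mem_center_iff]
    constructor
    · intro h z
      obtain ⟨z, rfl⟩ := E.surjective z
      rw [← map_mul, ← map_mul, h]
    · intro h z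
      exact E.injective (by rw [map_mul, map_mul]; exact h _)
  exact ⟨by rw [← hc, Subgroup.card_map_of_injective (f := E.toMonoidHom) E.injective],
    ⟨(QuotientGroup.congr _ _ E hc).symm⟩⟩

theorem map_conj {G' : Type*} [Group G'] (φ : G ≃* G') (K : Subgroup G) (g : G) :
    (K.map (MulAut.conj g).toMonoidHom).map φ.toMonoidHom =
      (K.map φ.toMonoidHom).map (MulAut.conj (φ g)).toMonoidHom := by
  rw [Subgroup.map_map, Subgroup.map_map]
  congr 1
  ext x
  simp [MulAut.conj_apply]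

/-- In the special unitary group of dimension 6 over the field with four elements (determinant-one matrices preserving the standard Hermitian form), the subgroups K whose centre has order 3 with K modulo its centre isomorphic to the projective special unitary group of dimension 4 over the field with nine elements fall into exactly three conjugacy classes. -/
theorem result (F : Type) [Field F] [Fintype F] (hF : Fintype.card F = 4) (F9 : Type) [Field F9] [Fintype F9] (hF9 : Fintype.card F9 = 9) : ∃ K₁ K₂ K₃ : Subgroup ↥(Cfsg.SU 6 F 2), (∀ K ∈ [K₁, K₂, K₃], Nat.card ↥(Subgroup.center ↥K) = 3 ∧ Nonempty (↥K ⧸ Subgroup.center ↥K ≃* Cfsg.PSU 4 F9 3)) ∧ (¬ ∃ g : ↥(Cfsg.SU 6 F 2), K₁.map (MulAut.conj g).toMonoidHom = K₂) ∧ (¬ ∃ g : ↥(Cfsg.SU 6 F 2), K₁.map (MulAut.conj g).toMonoidHom = K₃) ∧ (¬ ∃ g : ↥(Cfsg.SU 6 F 2), K₂.map (MulAut.conj g).toMonoidHom = K₃) ∧ ∀ K : Subgroup ↥(Cfsg.SU 6 F 2), Nat.card ↥(Subgroup.center ↥K) = 3 → Nonempty (↥K ⧸ Subgroup.center ↥K ≃* Cfsg.PSU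 4 F9 3) → ∃ g : ↥(Cfsg.SU 6 F 2), K.map (MulAut.conj g).toMonoidHom = K₁ ∨ K.map (MulAut.conj g).toMonoidHom = K₂ ∨ K.map (MulAut.conj g).toMonoidHom = K₃ := by
  obtain ⟨φ⟩ := Lib.LatticeUnitary.exists_su_congr
    (FiniteField.ringEquivOfCardEq (K := K4) (K' := F) (card_k4.trans (hF.trans (by norm_num)).symm))
    6 2
  obtain ⟨ψ⟩ := Lib.LatticeUnitary.exists_psu_congr
    (FiniteField.ringEquivOfCardEq (K := Lib.U33.K9) (K' := F9)
      (Lib.U33.card_k9.trans (hF9.trans (by norm_num)).symm)) 4 3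
  let L : Fin 3 → Subgroup ↥(Cfsg.SU 6 F 2) := fun e => (Ke e).map φ.toMonoidHom
  have hdata : ∀ e, Nat.card ↥(Subgroup.center ↥(L e)) = 3 ∧
      Nonempty (↥(L e) ⧸ Subgroup.center ↥(L e) ≃* Cfsg.PSU 4 F9 3) := by
    intro e
    obtain ⟨h1, ⟨q1⟩⟩ := center_data φ (Ke e)
    obtain ⟨h2, ⟨q2⟩⟩ := center_quot_Ke e
    exact ⟨h1.trans h2, ⟨(q1.trans q2).trans ψ⟩⟩
  have hne : ∀ e f : Fin 3, e < f →
      ¬ ∃ g, (L e).map (MulAut.conj g).toMonoidHom = L f := by
    rintro e f hef ⟨g, hg⟩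
    obtain ⟨g, rfl⟩ := φ.surjective g
    refine Ke_not_conj hef ⟨g, Subgroup.map_injective (f := φ.toMonoidHom) φ.injective ?_⟩
    rw [map_conj]
    exact hg
  refine ⟨L 0, L 1, L 2, ?_, hne 0 1 (by decide), hne 0 2 (by decide), hne 1 2 (by decide), ?_⟩
  · intro K hK
    simp only [List.mem_cons, List.not_mem_nil, or_false] at hK
    rcases hK with rfl | rfl | rfl <;> exact hdata _
  intro K hcard ⟨e⟩
  let K' : Subgroup G6 := K.map φ.symm.toMonoidHom
  obtain ⟨h1, ⟨q1⟩⟩ := center_data φ.symm K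
  obtain ⟨q⟩ := quot_K1
  let θ : ↥K' ⧸ Subgroup.center ↥K' ≃* Q1 := ((q1.trans e).trans ψ.symm).trans q.symm
  let C : Cover K' :=
    { pr := θ.toMonoidHom.comp (QuotientGroup.mk' _)
      surj := θ.surjective.comp (QuotientGroup.mk'_surjective _)
      ker_eq := by
        ext x
        simp [MonoidHom.mem_ker, QuotientGroup.eq_one_iff]
      card_center := h1.trans hcard }
  obtain ⟨g, i, hg⟩ := exists_conj_Ke C
  refine ⟨φ g, ?_⟩
  have hK : K.map (MulAut.conj (φ g)).toMonoidHom = L i := by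
    have h := congrArg (Subgroup.map φ.toMonoidHom) hg
    have e1 : φ.toMonoidHom.comp φ.symm.toMonoidHom = MonoidHom.id _ := by ext x; simp
    have e2 : K'.map φ.toMonoidHom = K := by
      show (K.map φ.symm.toMonoidHom).map φ.toMonoidHom = K
      rw [Subgroup.map_map, e1, Subgroup.map_id]
    rw [map_conj, e2] at h
    exact h
  fin_cases i
  · exact Or.inl hK
  · exact Or.inr (Or.inl hK)
  · exact Or.inr (Or.inr hK)

end Cfsg.Agent.S5520
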