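import Cfsg.Statements.S5521
import Cfsg.Agent.Lib.Golay.M24
-- import your own Cfsg.Agent.* helpers here

set_option autoImplicit false
open Cfsg

namespace Cfsg.Agent.S5521

/-- The Mathieu group M₂₄ in its natural action on the 24 coordinate positions of the binary Golay code has minimal base size exactly 7: every set of at most 6 positions is fixed pointwise by some non-identity element of M₂₄, while some set of 7 positions is fixed pointwise only by the identity. -/
theorem result :
    (∀ B : Finset Cfsg.GolayPt, B.card ≤ 6 → ∃ g ∈ Cfsg.M24, g ≠ 1 ∧ ∀ b ∈ B, g b = b) ∧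
    (∃ B : Finset Cfsg.GolayPt, B.card = 7 ∧ ∀ g ∈ Cfsg.M24, (∀ b ∈ B, g b = b) → g = 1) := by
  constructor
  · intro B hB
    have hlt : Fintype.card ({x // x ∈ B} → GolayPt) < Nat.card M24 := by
      rw [Lib.Golay.card_M24, Fintype.card_fun, Fintype.card_coe, Lib.Golay.card_golayPt]
      calc 24 ^ B.card ≤ 24 ^ 6 := Nat.pow_le_pow_right (by norm_num) hB
        _ < 244823040 := by norm_num
    have : Fintype M24 := Fintype.ofFinite _
    rw [Nat.card_eq_fintype_card] at hlt
    obtain ⟨a, b, hab, h⟩ := Fintype.exists_ne_map_eq_of_card_lt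
      (fun g : M24 => fun x : {x // x ∈ B} => g.1 x.1) hlt
    refine ⟨a.1⁻¹ * b.1, M24.mul_mem (M24.inv_mem a.2) b.2, fun h1 => hab ?_, fun x hx => ?_⟩
    · exact Subtype.ext (inv_mul_eq_one.mp h1)
    · have h2 : a.1 x = b.1 x := congrFun h ⟨x, hx⟩
      rw [Equiv.Perm.mul_apply, ← h2, Equiv.Perm.inv_def, Equiv.symm_apply_apply]
  · refine ⟨insert Lib.Golay.basePt6 (insert Lib.Golay.basePt7
      (Finset.univ.map Lib.Golay.baseFive)), by decide +kernel, fun g hg h => ?_⟩
    exact Lib.Golay.eq_one_of_base hg (fun i => h _ (by simp)) (h _ (by simp)) (h _ (by simp))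

end Cfsg.Agent.S5521
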