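import Cfsg.Statements.S5522
import Cfsg.Agent.Lib.Golay.M24

set_option autoImplicit false
open Cfsg
open scoped Pointwise symmDiff

namespace Cfsg.Agent.S5522

open Cfsg.Agent.Lib.Golay

/-! ### counting invariant five-element subsets of a twelve-element set -/

/-- The five-element subsets invariant under a permutation of twelve points. -/
def inv5 (π : Equiv.Perm (Fin 12)) : Finset (Finset (Fin 12)) :=
  ((Finset.univ : Finset (Fin 12)).powersetCard 5).filter fun T => T.map π.toEmbedding = T

/-- The fixed points. -/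
def fixd (π : Equiv.Perm (Fin 12)) : Finset (Fin 12) := Finset.univ.filter fun i => π i = i

theorem conj_counts (c π : Equiv.Perm (Fin 12)) :
    (inv5 (c * π * c⁻¹)).card = (inv5 π).card ∧ (fixd (c * π * c⁻¹)).card = (fixd π).card := by
  have hc : (c * π * c⁻¹).toEmbedding =
      (c.symm.toEmbedding.trans π.toEmbedding).trans c.toEmbedding := by
    ext i; simp [Equiv.Perm.mul_apply, Equiv.Perm.inv_def]
  constructor
  · refine (Finset.card_equiv (Equiv.finsetCongr c) fun T => ?_).symm
    simp only [inv5, Finset.mem_filter, Finset.mem_powersetCard, Finset.subset_univ, true_and,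
      Equiv.finsetCongr_apply, Finset.card_map]
    refine and_congr_right fun _ => ?_
    have h : (T.map c.toEmbedding).map c.symm.toEmbedding = T := by
      rw [Finset.map_map]
      ext i; simp
    rw [hc, ← Finset.map_map, ← Finset.map_map, h, Finset.map_inj]
  · refine (Finset.card_equiv c fun i => ?_).symm
    rw [fixd, fixd, Finset.mem_filter, Finset.mem_filter]
    simp [Equiv.Perm.mul_apply, Equiv.Perm.inv_def]

theorem cycleType_of_pow {n p : ℕ} [hp : Fact p.Prime] {σ : Equiv.Perm (Fin n)} (h : σ ^ p = 1) :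
    ∃ k, σ.cycleType = Multiset.replicate k p ∧ σ.support.card = k * p := by
  refine ⟨Multiset.card σ.cycleType, ?_, ?_⟩ <;>
  · have h1 : σ.cycleType = Multiset.replicate (Multiset.card σ.cycleType) p := by
      refine Multiset.eq_replicate_card.mpr fun m hm => ?_
      rcases (Nat.dvd_prime hp.out).mp
        ((Equiv.Perm.dvd_of_mem_cycleType hm).trans (orderOf_dvd_of_pow_eq_one h)) with h2 | h2
      · have := Equiv.Perm.two_le_of_mem_cycleType hm; omega
      · exact h2
    first
    | exact h1
    | (conv_lhs => rw [← Equiv.Perm.sum_cycleType, h1, Multiset.sum_replicate, smul_eq_mul])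

/-- A product of `k` disjoint transpositions. -/
def std2Fun (k : Fin 6) (i : Fin 12) : Fin 12 :=
  if i.val < 2 * k.val then Fin.ofNat 12 (2 * (i.val / 2) + (i.val + 1) % 2) else i

/-- A product of `k` disjoint three-cycles. -/
def std3Fun (k : Fin 4) (i : Fin 12) : Fin 12 :=
  if i.val < 3 * k.val then Fin.ofNat 12 (3 * (i.val / 3) + (i.val + 1) % 3) else i

/-- The standard involution with `k` transpositions. -/
def std2 (k : Fin 6) : Equiv.Perm (Fin 12) :=
  ⟨std2Fun k, std2Fun k, by intro i; revert i k; decide +kernel,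
    by intro i; revert i k; decide +kernel⟩

/-- The standard element of order three with `k` cycles. -/
def std3 (k : Fin 4) : Equiv.Perm (Fin 12) :=
  ⟨std3Fun k, fun i => std3Fun k (std3Fun k i), by intro i; revert i k; decide +kernel,
    by intro i; revert i k; decide +kernel⟩

theorem std2_spec : ∀ k : Fin 6, std2 k ^ 2 = 1 ∧ (std2 k).support.card = 2 * k.val := by
  decide +kernel

theorem std2_count : ∀ k : Fin 6, 6 * (fixd (std2 k)).card < (inv5 (std2 k)).card := by
  decide +kernel

theorem std3_spec : ∀ k : Fin 4, std3 k ^ 3 = 1 ∧ (std3 k).support.card = 3 * k.val := by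
  decide +kernel

theorem std3_count : ∀ k : Fin 4, 0 < (inv5 (std3 k)).card := by decide +kernel

theorem isConj_std {p : ℕ} [Fact p.Prime] {π τ : Equiv.Perm (Fin 12)} (hπ : π ^ p = 1)
    (hτ : τ ^ p = 1) (h : π.support.card = τ.support.card) : IsConj τ π := by
  rw [Equiv.Perm.isConj_iff_cycleType_eq]
  obtain ⟨k, hk, hk'⟩ := cycleType_of_pow hπ
  obtain ⟨l, hl, hl'⟩ := cycleType_of_pow hτ
  rw [hk', hl', Nat.mul_left_inj (Fact.out : p.Prime).ne_zero] at h
  rw [hk, hl, h]

theorem support_lt {π : Equiv.Perm (Fin 12)} {i : Fin 12} (hi : π i = i) :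
    π.support.card < 12 := by
  simpa using Finset.card_lt_card (show π.support ⊂ Finset.univ from
    Finset.ssubset_univ_iff.mpr fun h => by
      have := h ▸ Finset.mem_univ i
      exact Equiv.Perm.mem_support.mp this hi)

theorem count_two {π : Equiv.Perm (Fin 12)} (hπ : π ^ 2 = 1) {i : Fin 12} (hi : π i = i) :
    6 * (fixd π).card < (inv5 π).card := by
  obtain ⟨k, -, hk⟩ := cycleType_of_pow hπ
  have hlt : k < 6 := by have := support_lt hi; omega
  obtain ⟨c, hc⟩ := isConj_iff.mp (isConj_std hπ (std2_spec ⟨k, hlt⟩).1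
    (by rw [hk, (std2_spec ⟨k, hlt⟩).2, mul_comm]))
  rw [← hc, (conj_counts _ _).1, (conj_counts _ _).2]
  exact std2_count _

theorem count_three {π : Equiv.Perm (Fin 12)} (hπ : π ^ 3 = 1) {i : Fin 12} (hi : π i = i) :
    0 < (inv5 π).card := by
  obtain ⟨k, -, hk⟩ := cycleType_of_pow hπ
  have hlt : k < 4 := by have := support_lt hi; omega
  obtain ⟨c, hc⟩ := isConj_iff.mp (isConj_std hπ (std3_spec ⟨k, hlt⟩).1
    (by rw [hk, (std3_spec ⟨k, hlt⟩).2, mul_comm]))
  rw [← hc, (conj_counts _ _).1]
  exact std3_count _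

/-! ### hexads and pairs -/

local notation "D" => Cfsg.Spor.squareDodecad

theorem D_spec : D ∈ supports (golayCode : Set (GolayPt → ZMod 2)) ∧ Finset.card D = 12 := by
  have h : D = setOfMask (qrMask 0) := by
    rw [Spor.squareDodecad, qrWord_eq, support₂_wordOfMask]
    rfl
  exact ⟨h ▸ setOfMask_mem_supports (by decide +kernel), by rw [h, card_setOfMask]; decide +kernel⟩

theorem inter_spec {o T : Finset GolayPt} (ho : o ∈ octads) (hT : T ⊆ o) (hTD : T ⊆ D)
    (hc : T.card = 5) : (o ∩ D).card = 6 ∧ (o \ D).card = 2 := by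
  have h5 := Finset.card_le_card (Finset.subset_inter hT hTD)
  have h8 : (o ∩ D).card ≤ o.card := Finset.card_le_card Finset.inter_subset_left
  have h := card_of_mem_supports (supports_symmDiff ho.1 D_spec.1)
  rw [symmDiff_def, Finset.sup_eq_union,
    Finset.card_union_of_disjoint disjoint_sdiff_sdiff] at h
  have h1 := Finset.card_sdiff_add_card_inter o D
  have h2 := Finset.card_sdiff_add_card_inter D o
  rw [Finset.inter_comm D o] at h2
  have := ho.2
  have := D_spec.2
  omega

theorem octad_of_pair {o o' : Finset GolayPt} (ho : o ∈ octads) (ho' : o' ∈ octads)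
    (hP : o \ D = o' \ D) {a : GolayPt}
    (ha : a ∈ o ∩ D) (ha' : a ∈ o' ∩ D) : o = o' := by
  by_contra hne
  have hS := supports_symmDiff ho.1 ho'.1
  have hsub : symmDiff o o' ⊆ D := by
    intro x hx
    by_contra hxD
    have hiff : x ∈ o ↔ x ∈ o' := by
      have := congrArg (fun s => x ∈ s) hP
      simpa [hxD] using this
    rcases Finset.mem_symmDiff.mp hx with ⟨h1, h2⟩ | ⟨h1, h2⟩
    exacts [h2 (hiff.mp h1), h2 (hiff.mpr h1)]
  have hne' : (symmDiff o o').Nonempty := by
    rw [Finset.nonempty_iff_ne_empty]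
    exact fun h => hne (symmDiff_eq_bot.mp h)
  have h1 := eight_le_card hS hne'
  have h3 := Finset.card_le_card hsub
  have hDS := card_of_mem_supports (supports_symmDiff D_spec.1 hS)
  rw [symmDiff_def D, Finset.sup_eq_union, Finset.sdiff_eq_empty_iff_subset.mpr hsub,
    Finset.union_empty, Finset.card_sdiff_of_subset hsub] at hDS
  have haS : a ∉ symmDiff o o' := by
    rw [Finset.mem_symmDiff]
    simp [Finset.mem_of_mem_inter_left ha, Finset.mem_of_mem_inter_left ha']
  have h4 : symmDiff o o' ⊂ D :=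
    (Finset.ssubset_iff_of_subset hsub).mpr ⟨a, Finset.mem_of_mem_inter_right ha, haS⟩
  have := Finset.card_lt_card h4
  have := D_spec.2
  omega

/-- The Mathieu group M₁₁, realised as the stabiliser of one point of the dodecad of squares inside the stabiliser M₁₂ of that dodecad in M₂₄, acts on the twelve coordinate positions outside the dodecad of squares (its 3-transitive action of degree 12); in this action every element of prime order fixes a point, i.e. the action is elusive. -/
theorem result (g : Equiv.Perm Cfsg.GolayPt) (hg : g ∈ Cfsg.Spor.M11) (hord : (orderOf g).Prime) :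
    ∃ x : Cfsg.GolayPt, x ∉ Cfsg.Spor.squareDodecad ∧ g x = x := by
  by_contra hcon
  push Not at hcon
  obtain ⟨⟨hgM, hgD⟩, hg0⟩ := hg
  replace hg0 : g (some 0) = some 0 := hg0
  replace hgD : g • D = D := hgD
  have hD : ∀ x, g x ∈ D ↔ x ∈ D := fun x => by
    conv_lhs => rw [← hgD, ← Equiv.Perm.smul_def, Finset.smul_mem_smul_finset_iff]
  have : Fact (orderOf g).Prime := ⟨hord⟩
  -- the order divides twelve
  let ε : Equiv.Perm {x // x ∉ D} := g.subtypePerm fun x => not_congr (hD x)
  have hεp : ε ^ (orderOf g) ^ 1 = 1 := by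
    ext x
    simp [ε, Equiv.Perm.subtypePerm_pow, pow_orderOf_eq_one]
  have hdvd : orderOf g ∣ 12 := by
    have h := Equiv.Perm.card_compl_support_modEq hεp
    have h0 : ε.supportᶜ = ∅ := by
      ext x
      simp only [Finset.mem_compl, Equiv.Perm.mem_support, Finset.notMem_empty, iff_false,
        not_not]
      exact fun hx => hcon x.1 x.2 (congrArg Subtype.val hx)
    have h12 : Fintype.card {x // x ∉ D} = 12 := by
      rw [Fintype.card_subtype_compl, Fintype.card_coe, card_golayPt, D_spec.2]
    rw [h0, Finset.card_empty, h12] at h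
    exact Nat.modEq_zero_iff_dvd.mp h.symm
  have hp23 : orderOf g = 2 ∨ orderOf g = 3 := by
    have key : ∀ n < 13, n.Prime → n ∣ 12 → n = 2 ∨ n = 3 := by decide
    exact key _ (Nat.lt_succ_of_le (Nat.le_of_dvd (by norm_num) hdvd)) hord hdvd
  -- transport to twelve points
  let e : Fin 12 ≃ {x // x ∈ D} := (Finset.equivFinOfCardEq D_spec.2).symm
  let π : Equiv.Perm (Fin 12) := (e.trans (g.subtypePerm hD)).trans e.symm
  let emb : Fin 12 ↪ GolayPt := e.toEmbedding.trans (Function.Embedding.subtype _)
  have hemb : ∀ i, g (emb i) = emb (π i) := fun i => by simp [emb, π]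
  have hembD : ∀ i, emb i ∈ D := fun i => (e i).2
  have hπp : π ^ orderOf g = 1 := by
    have key : ∀ (n : ℕ) (i : Fin 12), emb ((π ^ n) i) = (g ^ n) (emb i) := by
      intro n
      induction n with
      | zero => intro i; rfl
      | succ n ih =>
        intro i
        rw [pow_succ', pow_succ', Equiv.Perm.mul_apply, Equiv.Perm.mul_apply, ← hemb, ih]
    ext i
    exact congrArg Fin.val (emb.injective (by rw [key, pow_orderOf_eq_one]; rfl))
  have h0D : (some 0 : GolayPt) ∈ D := by decide +kernel
  have hπfix : π (e.symm ⟨some 0, h0D⟩) = e.symm ⟨some 0, h0D⟩ := by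
    apply emb.injective
    rw [← hemb]
    simp [emb, hg0]
  -- an invariant five-set gives an invariant pair
  have hoct : ∀ T ∈ inv5 π, ∃ o ∈ octads, T.map emb ⊆ o ∧ g • o = o ∧ (o ∩ D).card = 6 ∧
      (o \ D).card = 2 := by
    intro T hT
    obtain ⟨h5, hinv⟩ := Finset.mem_filter.mp hT
    have h5' : (T.map emb).card = 5 := by
      rw [Finset.card_map]; exact (Finset.mem_powersetCard.mp h5).2
    obtain ⟨o, ⟨ho, hTo⟩, -⟩ := octads_steiner.2 (T.map emb) h5'
    have hsub : T.map emb ⊆ D := by
      intro x hx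
      obtain ⟨i, -, rfl⟩ := Finset.mem_map.mp hx
      exact hembD i
    refine ⟨o, ho, hTo, ?_, inter_spec ho hTo hsub h5'⟩
    refine octad_unique (smul_mem_octads hgM ho) ho h5'.ge ?_ hTo
    intro x hx
    obtain ⟨i, hi, rfl⟩ := Finset.mem_map.mp hx
    obtain ⟨j, hj, rfl⟩ := Finset.mem_map.mp (hinv.symm ▸ hi : i ∈ T.map π.toEmbedding)
    exact Finset.mem_smul_finset.mpr ⟨emb j, hTo (Finset.mem_map_of_mem _ hj), hemb j⟩
  have hpair : ∀ o : Finset GolayPt, g • o = o → (o \ D).card = 2 → ∀ x ∈ o \ D,
      g x ∈ o \ D ∧ o \ D = {x, g x} := by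
    intro o hgo hc x hx
    have hgx : g x ∈ o \ D := by
      obtain ⟨hxo, hxD⟩ := Finset.mem_sdiff.mp hx
      refine Finset.mem_sdiff.mpr ⟨?_, fun h => hxD ((hD x).mp h)⟩
      rw [← hgo]
      exact Finset.mem_smul_finset.mpr ⟨x, hxo, rfl⟩
    refine ⟨hgx, (Finset.eq_of_subset_of_card_le ?_ ?_).symm⟩
    · simp [Finset.insert_subset_iff, hx, hgx]
    · rw [hc, Finset.card_pair (Ne.symm (hcon x (Finset.mem_sdiff.mp hx).2))]
  rcases hp23 with hp | hp
  · -- involutions: too many invariant five-sets
    rw [hp] at hπp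
    have hcount := count_two hπp hπfix
    choose! oct ho hTo hgo hc6 hc2 using hoct
    have hex : ∀ T ∈ inv5 π, ∃ a, (oct T ∩ D) \ T.map emb = {a} := by
      intro T hT
      refine Finset.card_eq_one.mp ?_
      have hsub : T.map emb ⊆ oct T ∩ D := Finset.subset_inter (hTo T hT) fun x hx => by
        obtain ⟨i, -, rfl⟩ := Finset.mem_map.mp hx
        exact hembD i
      rw [Finset.card_sdiff_of_subset hsub, hc6 T hT, Finset.card_map,
        (Finset.mem_powersetCard.mp (Finset.mem_filter.mp hT).1).2]
    choose! pa hpa using hex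
    have key : ((inv5 π).sigma (fun T => oct T \ D)).card ≤
        (((fixd π).map emb) ×ˢ (Finset.univ \ D)).card := by
      refine Finset.card_le_card_of_injOn (fun q => (pa q.1, q.2)) ?_ ?_
      · rintro ⟨T, x⟩ hq
        obtain ⟨hT, hx⟩ := Finset.mem_sigma.mp hq
        refine Finset.mem_product.mpr ⟨?_, Finset.mem_sdiff.mpr
          ⟨Finset.mem_univ _, (Finset.mem_sdiff.mp hx).2⟩⟩
        have ha : pa T ∈ (oct T ∩ D) \ T.map emb := by rw [hpa T hT]; simp
        obtain ⟨⟨hao, haD⟩, haT⟩ := by simpa only [Finset.mem_sdiff, Finset.mem_inter] using ha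
        obtain ⟨i, hi⟩ : ∃ i, emb i = pa T := ⟨e.symm ⟨pa T, haD⟩, by simp [emb]⟩
        refine Finset.mem_map.mpr ⟨i, Finset.mem_filter.mpr ⟨Finset.mem_univ _, ?_⟩, hi⟩
        have hga : g (pa T) ∈ (oct T ∩ D) \ T.map emb := by
          refine Finset.mem_sdiff.mpr ⟨Finset.mem_inter.mpr ⟨?_, (hD _).mpr haD⟩, ?_⟩
          · rw [← hgo T hT]
            exact Finset.mem_smul_finset.mpr ⟨_, hao, rfl⟩
          · intro hmem
            obtain ⟨j, hj, hj'⟩ := Finset.mem_map.mp hmem
            obtain ⟨l, hl, rfl⟩ := Finset.mem_map.mp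
              ((Finset.mem_filter.mp hT).2.symm ▸ hj : j ∈ T.map π.toEmbedding)
            exact haT (Finset.mem_map.mpr ⟨l, hl, g.injective ((hemb l).trans hj')⟩)
        rw [hpa T hT, Finset.mem_singleton] at hga
        exact emb.injective (by rw [← hemb, hi, hga])
      · rintro ⟨T, x⟩ hq ⟨T', x'⟩ hq' heq
        obtain ⟨hT, hx⟩ := Finset.mem_sigma.mp hq
        obtain ⟨hT', hx'⟩ := Finset.mem_sigma.mp hq'
        obtain ⟨hpeq, rfl⟩ := Prod.mk.injEq _ _ _ _ ▸ heq
        have hP : oct T \ D = oct T' \ D := by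
          rw [(hpair _ (hgo T hT) (hc2 T hT) x hx).2, (hpair _ (hgo T' hT') (hc2 T' hT') x hx').2]
        have ha : pa T ∈ oct T ∩ D := (Finset.mem_sdiff.mp
          (by rw [hpa T hT]; simp : pa T ∈ (oct T ∩ D) \ T.map emb)).1
        have ha' : pa T ∈ oct T' ∩ D := (Finset.mem_sdiff.mp
          (by rw [hpa T' hT', hpeq]; simp : pa T ∈ (oct T' ∩ D) \ T'.map emb)).1
        have hoo := octad_of_pair (ho T hT) (ho T' hT') hP ha ha'
        have hTT : T.map emb = T'.map emb := by
          have h1 := hpa T hT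
          have h2 := hpa T' hT'
          rw [← hoo, ← hpeq, ← h1] at h2
          have s1 : T.map emb ⊆ oct T ∩ D := Finset.subset_inter (hTo T hT) fun y hy => by
            obtain ⟨i, -, rfl⟩ := Finset.mem_map.mp hy
            exact hembD i
          have s2 : T'.map emb ⊆ oct T ∩ D := Finset.subset_inter (hoo ▸ hTo T' hT') fun y hy => by
            obtain ⟨i, -, rfl⟩ := Finset.mem_map.mp hy
            exact hembD i
          rw [← Finset.sdiff_sdiff_eq_self s1, ← h2, Finset.sdiff_sdiff_eq_self s2]
        rw [Finset.map_inj] at hTT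
        subst hTT
        rfl
    rw [Finset.card_sigma, Finset.sum_congr rfl (fun T hT => hc2 T hT), Finset.sum_const,
      smul_eq_mul, Finset.card_product, Finset.card_map,
      Finset.card_sdiff_of_subset (Finset.subset_univ _), Finset.card_univ, card_golayPt,
      D_spec.2] at key
    omega
  · -- order three: an invariant pair would be fixed
    rw [hp] at hπp
    obtain ⟨T, hT⟩ := Finset.card_pos.mp (count_three hπp hπfix)
    obtain ⟨o, -, -, hgo, -, hc2⟩ := hoct T hT
    obtain ⟨x, hx⟩ := Finset.card_pos.mp (by rw [hc2]; norm_num : 0 < (o \ D).card)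
    obtain ⟨hgx, hP⟩ := hpair o hgo hc2 x hx
    have hggx := (hpair o hgo hc2 _ hgx).1
    rw [hP, Finset.mem_insert, Finset.mem_singleton] at hggx
    have hxD := (Finset.mem_sdiff.mp hx).2
    have hgxD := (Finset.mem_sdiff.mp hgx).2
    rcases hggx with h | h
    · have h3 : (g ^ 3) x = x := by
        have := pow_orderOf_eq_one g
        rw [hp] at this
        rw [this]; rfl
      refine hcon x hxD ?_
      calc g x = g (g (g x)) := by rw [h]
        _ = (g ^ 3) x := by simp [pow_succ, Equiv.Perm.mul_apply]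
        _ = x := h3
    · exact hcon _ hgxD h

end Cfsg.Agent.S5522
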