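import Cfsg.Statements.S5541


set_option autoImplicit false
open Cfsg

namespace Cfsg.Agent.S5541


/-- Let ρ be a representation of a group H on a finite-dimensional real vector space U whose only ρ-invariant subspaces are the zero subspace and U, and suppose U carries a non-zero ρ-invariant symmetric bilinear form. Then the following are equivalent: (1) there is a non-zero ρ-equivariant commutative bilinear product on U of which every ρ-equivariant bilinear product is a scalar multiple; (2) there is a non-zero ρ-invariant trilinear form on U that is symmetric under all permutations of its arguments and of which every ρ-invariant trilinear form is a scalar multiple. -/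
theorem result {H : Type*} [Group H] {U : Type*} [AddCommGroup U] [Module ℝ U] [FiniteDimensional ℝ U] (ρ : Representation ℝ H U) (hirr : ∀ W : Submodule ℝ U, (∀ g : H, W.map (ρ g) ≤ W) → W = ⊥ ∨ W = ⊤) (B : LinearMap.BilinForm ℝ U) (hB0 : B ≠ 0) (hBs : ∀ u v, B u v = B v u) (hBi : ∀ (g : H) (u v : U), B (ρ g u) (ρ g v) = B u v) : (∃ m : U →ₗ[ℝ] U →ₗ[ℝ] U, m ≠ 0 ∧ (∀ u v, m u v = m v u) ∧ (∀ (g : H) (u v : U), m (ρ g u) (ρ g v) = ρ g (m u v)) ∧ ∀ m' : U →ₗ[ℝ] U →ₗ[ℝ] U, (∀ (g : H) (u v : U), m' (ρ g u) (ρ g v) = ρ g (m' u v)) → ∃ c : ℝ, m' = c • m) ↔ (∃ t : U →ₗ[ℝ] U →ₗ[ℝ] U →ₗ[ℝ] ℝ, t ≠ 0 ∧ (∀ u v w, t u v w = t v u w ∧ t u v w = t u w v) ∧ (∀ (g : H) (u v w : U), t (ρ g u) (ρ g v) (ρ g w) = t u v w) ∧ ∀ t' : U →ₗ[ℝ] U →ₗ[ℝ] U →ₗ[ℝ] ℝ, (∀ (g : H) (u v w : U), t' (ρ g u) (ρ g v) (ρ g w) = t' u v w) → ∃ c : ℝ, t' = c • t) := by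
  have hker : LinearMap.ker B = ⊥ := by
    refine (hirr (LinearMap.ker B) fun g => ?_).resolve_right fun h => hB0 (LinearMap.ker_eq_top.1 h)
    rintro x ⟨y, hy, rfl⟩
    rw [SetLike.mem_coe, LinearMap.mem_ker] at hy
    rw [LinearMap.mem_ker]
    refine LinearMap.ext fun w => ?_
    have := hBi g y (ρ g⁻¹ w)
    rw [ρ.self_inv_apply, hy] at this
    exact this
  have hinj : Function.Injective B := LinearMap.ker_eq_bot.1 hker
  have hdim : Module.finrank ℝ U = Module.finrank ℝ (Module.Dual ℝ U) := Subspace.dual_finrank_eq.symm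
  let e : U ≃ₗ[ℝ] Module.Dual ℝ U := LinearEquiv.ofBijective (show U →ₗ[ℝ] Module.Dual ℝ U from B)
    ⟨hinj, (LinearMap.injective_iff_surjective_of_finrank_eq_finrank hdim).1 hinj⟩
  have he : ∀ f w, B (e.symm f) w = f w := fun f w => LinearMap.congr_fun (e.apply_symm_apply f) w
  let T : (U →ₗ[ℝ] U →ₗ[ℝ] U) → U →ₗ[ℝ] U →ₗ[ℝ] U →ₗ[ℝ] ℝ := fun m => m.compr₂ B
  let M : (U →ₗ[ℝ] U →ₗ[ℝ] U →ₗ[ℝ] ℝ) → U →ₗ[ℝ] U →ₗ[ℝ] U :=
    fun t => LinearMap.compr₂ t (e.symm : Module.Dual ℝ U →ₗ[ℝ] U)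
  have hT : ∀ m u v w, T m u v w = B (m u v) w := fun _ _ _ _ => rfl
  have hM : ∀ t u v w, B (M t u v) w = t u v w := fun t u v w => he (t u v) w
  have hTi : ∀ m, (∀ (g : H) (u v : U), m (ρ g u) (ρ g v) = ρ g (m u v)) →
      ∀ (g : H) (u v w : U), T m (ρ g u) (ρ g v) (ρ g w) = T m u v w := by
    intro m hm g u v w
    rw [hT, hT, hm, hBi]
  have hMi : ∀ t, (∀ (g : H) (u v w : U), t (ρ g u) (ρ g v) (ρ g w) = t u v w) →
      ∀ (g : H) (u v : U), M t (ρ g u) (ρ g v) = ρ g (M t u v) := by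
    intro t ht g u v
    apply hinj
    refine LinearMap.ext fun w => ?_
    have h := ht g u v (ρ g⁻¹ w)
    rw [ρ.self_inv_apply] at h
    have h' := hBi g (M t u v) (ρ g⁻¹ w)
    rw [ρ.self_inv_apply] at h'
    rw [hM, h, h', hM]
  constructor
  · rintro ⟨m, hm0, hms, hmi, huniq⟩
    let T' : U →ₗ[ℝ] U →ₗ[ℝ] U →ₗ[ℝ] ℝ := LinearMap.mk₂ ℝ (fun u v => LinearMap.flip (T m u) v)
      (fun a b v => by ext; simp [T]) (fun r a v => by ext; simp [T])
      (fun a v v' => by ext; simp [T]) (fun r a v => by ext; simp [T])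
    have hT' : ∀ u v w, T' u v w = T m u w v := fun _ _ _ => rfl
    obtain ⟨c, hc⟩ := huniq (M T')
      (hMi T' fun g u v w => by rw [hT', hT']; exact hTi m hmi g u w v)
    have hsw : ∀ u v w, T m u w v = c * T m u v w := by
      intro u v w
      have := congrArg (fun f => B (f u v) w) hc
      simpa [hM, hT, hT'] using this
    have hcs : ∀ u v w, T m u v w = T m v u w := fun u v w => by rw [hT, hT, hms]
    have hne : ∃ u v w, T m u v w ≠ 0 := by
      by_contra hno
      push Not at hno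
      exact hm0 (LinearMap.ext fun u => LinearMap.ext fun v => hinj (LinearMap.ext fun w => by
        simpa [hT] using hno u v w))
    obtain ⟨u, v, w, huvw⟩ := hne
    have c2 : (c * c - 1) * T m u v w = 0 := by
      have e1 := hsw u v w
      have e2 := hsw u w v
      rw [e1] at e2
      linarith
    have c6 : (c ^ 3 - 1) * T m u v w = 0 := by
      have e1 := hsw u v w
      have e2 := hsw w u v
      have e3 := hsw v w u
      rw [hcs w u v, e1, hcs w v u] at e2
      rw [hcs v u w, e2] at e3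
      linarith
    have hc2 : c * c = 1 := by linarith [(mul_eq_zero.1 c2).resolve_right huvw]
    have hc6 : c ^ 3 = 1 := by linarith [(mul_eq_zero.1 c6).resolve_right huvw]
    have hc1 : c = 1 := by
      have : c ^ 3 = c * c * c := by ring
      rw [this, hc2, one_mul] at hc6
      exact hc6
    subst hc1
    refine ⟨T m, fun h => huvw (by rw [h]; rfl), fun u v w => ⟨hcs u v w, by rw [hsw u v w, one_mul]⟩,
      hTi m hmi, fun t' ht' => ?_⟩
    obtain ⟨d, hd⟩ := huniq (M t') (hMi t' ht')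
    refine ⟨d, LinearMap.ext fun u => LinearMap.ext fun v => LinearMap.ext fun w => ?_⟩
    have := congrArg (fun f => B (f u v) w) hd
    simpa [hM, hT] using this
  · rintro ⟨t, ht0, hts, hti, huniq⟩
    refine ⟨M t, fun h => ht0 (LinearMap.ext fun u => LinearMap.ext fun v => LinearMap.ext fun w => by
        rw [← hM, h]; simp), fun u v => hinj (LinearMap.ext fun w => by rw [hM, hM, (hts u v w).1]),
      hMi t hti, fun m' hm' => ?_⟩
    obtain ⟨d, hd⟩ := huniq (T m') (hTi m' hm')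
    refine ⟨d, LinearMap.ext fun u => LinearMap.ext fun v => hinj (LinearMap.ext fun w => ?_)⟩
    have := congrArg (fun f => f u v w) hd
    simpa [hM, hT] using this

end Cfsg.Agent.S5541
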