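import Cfsg.Statements.S5543
import Cfsg.Agent.Lib.Majorana.Basic

set_option autoImplicit false
open Cfsg

namespace Cfsg.Agent.S5543

open Cfsg.Agent.Lib.Majorana.Basic

/-- Let V be a finite-dimensional real vector space with a commutative bilinear product and a positive-definite symmetric bilinear form that associates with the product and satisfies the Norton inequality (the Majorana setting of the definitions). Let X be a group of linear automorphisms of V in which every element squares to the identity, and suppose every non-identity element x of X is a Majorana involution with an axial vector a(x) of squared length 1, such that for any two distinct non-identity x, y the product a(x) ∘ a(y) equals (1/8)(a(x) + a(y) − a(xy)) (the dihedral subalgebra of type 2A whose third axis belongs to the involution xy). Then X has order at most 4. -/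
theorem result {V : Type*} [AddCommGroup V] [Module ℝ V] [FiniteDimensional ℝ V] (mul : V →ₗ[ℝ] V →ₗ[ℝ] V) (B : LinearMap.BilinForm ℝ V) (hV : Cfsg.Axial.IsMajoranaAmbient mul B) (X : Subgroup (V ≃ₗ[ℝ] V)) (hX : ∀ x ∈ X, x * x = 1) (ax : (V ≃ₗ[ℝ] V) → V) (hax : ∀ x ∈ X, x ≠ 1 → Cfsg.Axial.IsMajoranaPair mul B x (ax x)) (h1 : ∀ x ∈ X, x ≠ 1 → B (ax x) (ax x) = 1) (h2A : ∀ x ∈ X, ∀ y ∈ X, x ≠ 1 → y ≠ 1 → x ≠ y → mul (ax x) (ax y) = (1 / 8 : ℝ) • (ax x + ax y - ax (x * y))) : Nat.card ↥X ≤ 4 := by
  by_contra hcard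
  push Not at hcard
  have : Finite ↥X := (Nat.card_pos_iff.1 (by omega)).2
  have hcomm : ∀ x ∈ X, ∀ y ∈ X, x * y = y * x := by
    intro x hx y hy
    have e := hX (x * y) (mul_mem hx hy)
    calc x * y = x * ((x * y) * (x * y)) * y := by rw [e, mul_one]
      _ = (x * x) * (y * x) * (y * y) := by group
      _ = y * x := by rw [hX x hx, hX y hy, one_mul, mul_one]
  have pick : ∀ s : Finset (V ≃ₗ[ℝ] V), s.card ≤ 4 → ∃ z ∈ X, z ∉ s := by
    intro s hs
    by_contra hno
    push Not at hno
    have h : Nat.card ↥X ≤ Nat.card ↥(s : Set (V ≃ₗ[ℝ] V)) :=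
      Nat.card_mono s.finite_toSet hno
    rw [Nat.card_coe_set_eq, Set.ncard_coe_finset] at h
    omega
  classical
  obtain ⟨x, hx, hx'⟩ := pick {1} (by simp)
  obtain ⟨y, hy, hy'⟩ := pick {1, x} (Finset.card_le_two.trans (by norm_num))
  obtain ⟨z, hz, hz'⟩ := pick {1, x, y, x * y} Finset.card_le_four
  simp only [Finset.mem_insert, Finset.mem_singleton, not_or] at hx' hy' hz'
  obtain ⟨hy1, hyx⟩ := hy'
  obtain ⟨hz1, hzx, hzy, hzxy⟩ := hz'
  have sq : ∀ g ∈ X, g * g = 1 := hX
  have canc : ∀ g ∈ X, ∀ h, g * (g * h) = h := fun g hg h => by rw [← mul_assoc, sq g hg, one_mul]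
  have hxy := mul_mem hx hy
  have hxz := mul_mem hx hz
  have hyz := mul_mem hy hz
  have hxyz := mul_mem hx hyz
  have xy1 : x * y ≠ 1 := fun e => hyx (by simpa [e] using (canc x hx y).symm)
  have xz1 : x * z ≠ 1 := fun e => hzx (by simpa [e] using (canc x hx z).symm)
  have yz1 : y * z ≠ 1 := fun e => hzy (by simpa [e] using (canc y hy z).symm)
  have xyz1 : x * (y * z) ≠ 1 := fun e => hzxy (by
    have e2 : y * z = x := by simpa [e] using (canc x hx (y * z)).symm
    rw [hcomm x hx y hy, ← e2, canc y hy])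
  have yxy : y ≠ x * y := fun e => hx' (by simpa using e)
  have zxz : z ≠ x * z := fun e => hx' (by simpa using e)
  have yxz : y ≠ x * z := fun e => hzxy (by rw [e, canc x hx])
  have xyxz : x * y ≠ x * z := fun e => hzy (mul_left_cancel e).symm
  have xxy : x ≠ x * y := fun e => hy1 (by simpa using e)
  have xxz : x ≠ x * z := fun e => hz1 (by simpa using e)
  have hp := hax x hx hx'
  have q : ∀ w ∈ X, w ≠ 1 → x * w ≠ 1 → x ≠ w → x ≠ x * w →
      mul (ax x) (ax w - ax (x * w)) = (1 / 4 : ℝ) • (ax w - ax (x * w)) := by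
    intro w hw w1 xw1 h h'
    rw [map_sub, h2A x hx w hw hx' w1 h, h2A x hx (x * w) (mul_mem hx hw) hx' xw1 h', canc x hx]
    module
  have hu := q y hy hy1 xy1 (Ne.symm hyx) xxy
  have hv := q z hz hz1 xz1 (Ne.symm hzx) xxz
  have hw := q (y * z) hyz yz1 xyz1 (fun e => hzxy (by rw [e, hcomm y hy z hz, mul_assoc, sq y hy, mul_one]))
    (fun e => yz1 (by simpa using e))
  have e1 : x * y * z = x * (y * z) := mul_assoc _ _ _
  have e2 : y * (x * z) = x * (y * z) := by
    rw [← mul_assoc, hcomm y hy x hx, mul_assoc]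
  have e3 : x * y * (x * z) = y * z := by
    rw [hcomm x hx y hy, mul_assoc, canc x hx]
  have hm : mul (ax y - ax (x * y)) (ax z - ax (x * z))
      = (-(1 / 4) : ℝ) • (ax (y * z) - ax (x * (y * z))) := by
    simp only [map_sub, LinearMap.sub_apply]
    rw [h2A y hy z hz hy1 hz1 (Ne.symm hzy), h2A y hy (x * z) hxz hy1 xz1 yxz,
      h2A (x * y) hxy z hz xy1 hz1 (Ne.symm hzxy), h2A (x * y) hxy (x * z) hxz xy1 xz1 xyxz, e1, e2, e3]
    module
  have hf := fusion_qq hp hu hv
  rw [hm] at hf
  have hz0 : ax (y * z) = ax (x * (y * z)) := by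
    have h0 := eq_zero_of_quarter (by rw [map_smul, hw, smul_comm]) hf
    exact sub_eq_zero.1 ((smul_eq_zero.1 h0).resolve_left (by norm_num))
  have h := h2A (y * z) hyz (x * (y * z)) hxyz yz1 xyz1 (fun e => hx' (by simpa using e))
  have e4 : y * z * (x * (y * z)) = x := by
    rw [hcomm x hx _ hyz, ← mul_assoc, sq _ hyz, one_mul]
  rw [e4, ← hz0, idem (hax _ hyz yz1)] at h
  have h6 : ax x = (-6 : ℝ) • ax (y * z) := by linear_combination (norm := module) (8 : ℝ) • h
  have hn := h1 x hx hx'
  rw [h6] at hn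
  simp [h1 _ hyz yz1] at hn
  norm_num at hn

end Cfsg.Agent.S5543
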