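import Cfsg.Statements.S5544
import Cfsg.Agent.Lib.Majorana.NortonSakuma

set_option autoImplicit false
open Cfsg

namespace Cfsg.Agent.S5544

open Cfsg.Agent.Lib.Majorana.Basic Cfsg.Agent.Lib.Majorana.Dihedral

/-- Let V be a finite-dimensional real vector space with a commutative bilinear product and a positive-definite symmetric bilinear form that associates with the product and satisfies the Norton inequality (the Majorana setting of the definitions). Let μ₀ and μ₁ be Majorana involutions with axial vectors a₀ and a₁ of squared length 1, each involution having no other axial vector. Then the product μ₀μ₁ has order at most 6: some power (μ₀μ₁)^n with 1 ≤ n ≤ 6 is the identity (so the two involutions generate a dihedral group of order at most 12). This is the 6-transposition property of Majorana involutions. -/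
theorem result {V : Type*} [AddCommGroup V] [Module ℝ V] [FiniteDimensional ℝ V] (mul : V →ₗ[ℝ] V →ₗ[ℝ] V) (B : LinearMap.BilinForm ℝ V) (hV : Cfsg.Axial.IsMajoranaAmbient mul B) (μ₀ μ₁ : V ≃ₗ[ℝ] V) (a₀ a₁ : V) (h₀ : Cfsg.Axial.IsMajoranaPair mul B μ₀ a₀) (h₁ : Cfsg.Axial.IsMajoranaPair mul B μ₁ a₁) (hu₀ : ∀ a : V, Cfsg.Axial.IsMajoranaPair mul B μ₀ a → a = a₀) (hu₁ : ∀ a : V, Cfsg.Axial.IsMajoranaPair mul B μ₁ a → a = a₁) (hn₀ : B a₀ a₀ = 1) (hn₁ : B a₁ a₁ = 1) : ∃ n : ℕ, 1 ≤ n ∧ n ≤ 6 ∧ (μ₀ * μ₁) ^ n = 1 := by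
  have act : ∀ {μ : V ≃ₗ[ℝ] V} {a : V}, Cfsg.Axial.IsMajoranaPair mul B μ a → B a a = 1 → ∀ x,
      ∃ u v w, x = (B a x) • a + u + v + w ∧ μ x = (B a x) • a + u + v - w ∧
        mul a u = 0 ∧ mul a v = (1 / 4 : ℝ) • v ∧ mul a w = (1 / 32 : ℝ) • w :=
    fun h hn x => decomp hV h hn x
  have det : ∀ {μ ν : V ≃ₗ[ℝ] V} {a : V}, Cfsg.Axial.IsMajoranaPair mul B μ a →
      Cfsg.Axial.IsMajoranaPair mul B ν a → B a a = 1 → μ = ν := by
    intro μ ν a hμ hν hn
    apply LinearEquiv.ext; intro x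
    obtain ⟨u, v, w, hx, hy, hu, hv, hw⟩ := act hμ hn x
    obtain ⟨hfix, hneg⟩ := hν.2.2.2
    have h1 : (B a x) • a + u + v ∈ Cfsg.Axial.eigenSum mul a {1, 0, 1 / 4} := by
      simp only [eigenSum_insert, eigenSum_single]
      exact add_assoc ((B a x) • a) u v ▸ Submodule.add_mem_sup
        (mem_eigen.2 (by rw [map_smul, idem hν, one_smul]))
        (Submodule.add_mem_sup (mem_eigen.2 (by simpa using hu)) (mem_eigen.2 hv))
    have f1 : ν ((B a x) • a + u + v) = (B a x) • a + u + v := hfix _ h1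
    have f2 : ν w = -w := hneg w (mem_eigen.2 hw)
    conv_rhs => rw [hx]
    rw [hy, map_add, f1, f2, sub_eq_add_neg]
  have sq : ∀ {μ : V ≃ₗ[ℝ] V} {a : V}, Cfsg.Axial.IsMajoranaPair mul B μ a → B a a = 1 → μ * μ = 1 := by
    intro μ a h hn
    apply LinearEquiv.ext; intro x
    obtain ⟨u, v, w, hx, hy, hu, hv, hw⟩ := act h hn x
    obtain ⟨hfix, hneg⟩ := h.2.2.2
    have h1 : (B a x) • a + u + v ∈ Cfsg.Axial.eigenSum mul a {1, 0, 1 / 4} := by
      simp only [eigenSum_insert, eigenSum_single]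
      exact add_assoc ((B a x) • a) u v ▸ Submodule.add_mem_sup
        (mem_eigen.2 (by rw [map_smul, idem h, one_smul]))
        (Submodule.add_mem_sup (mem_eigen.2 (by simpa using hu)) (mem_eigen.2 hv))
    have f1 : μ ((B a x) • a + u + v) = (B a x) • a + u + v := hfix _ h1
    have f2 : μ w = -w := hneg w (mem_eigen.2 hw)
    show μ (μ x) = x
    rw [hy, map_sub, f1, f2, sub_neg_eq_add, ← hx]
  -- the algebra automorphisms preserving the form
  let G : Subgroup (V ≃ₗ[ℝ] V) :=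
    { carrier := {φ | (∀ u v, φ (mul u v) = mul (φ u) (φ v)) ∧ ∀ u v, B (φ u) (φ v) = B u v}
      one_mem' := ⟨fun _ _ => rfl, fun _ _ => rfl⟩
      mul_mem' := fun {φ ψ} hφ hψ => ⟨fun u v => by simp [hψ.1, hφ.1], fun u v => by simp [hψ.2, hφ.2]⟩
      inv_mem' := fun {φ} hφ => ⟨fun u v => φ.injective (by
        show φ (φ.symm (mul u v)) = φ (mul (φ.symm u) (φ.symm v))
        rw [hφ.1, φ.apply_symm_apply, φ.apply_symm_apply, φ.apply_symm_apply]), fun u v => by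
        show B (φ.symm u) (φ.symm v) = B u v
        rw [← hφ.2, φ.apply_symm_apply, φ.apply_symm_apply]⟩ }
  let Good : (V ≃ₗ[ℝ] V) → V → Prop := fun μ a => Cfsg.Axial.IsMajoranaPair mul B μ a ∧ B a a = 1 ∧
    ∀ b, Cfsg.Axial.IsMajoranaPair mul B μ b → b = a
  have good_conj : ∀ φ ∈ G, ∀ μ a, Good μ a → Good (φ * μ * φ⁻¹) (φ a) := by
    intro φ hφ μ a ⟨hp, hn, hu⟩
    refine ⟨pair_map hφ.1 hφ.2 (fun x => by simp) hp, by rw [hφ.2]; exact hn, fun b hb => ?_⟩
    have hi := inv_mem hφ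
    have := hu (φ⁻¹ b) (pair_map hi.1 hi.2 (fun x => by simp) hb)
    rw [← this]; simp
  have g0 : μ₀ ∈ G := ⟨h₀.1, h₀.2.1⟩
  have g1 : μ₁ ∈ G := ⟨h₁.1, h₁.2.1⟩
  set t := μ₁ * μ₀ with ht
  have tG : t ∈ G := mul_mem g1 g0
  have s0 : μ₀ * μ₀ = 1 := sq h₀ hn₀
  have s1 : μ₁ * μ₁ = 1 := sq h₁ hn₁
  have i0 : μ₀⁻¹ = μ₀ := inv_eq_of_mul_eq_one_right s0
  have i1 : μ₁⁻¹ = μ₁ := inv_eq_of_mul_eq_one_right s1
  have flip : ∀ n : ℤ, μ₀ * t ^ n = t ^ (-n) * μ₀ := by
    have : SemiconjBy μ₀ t t⁻¹ := by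
      show μ₀ * t = t⁻¹ * μ₀
      rw [ht, mul_inv_rev, i0, i1]; group
    intro n
    rw [zpow_neg, ← inv_zpow]
    exact (this.zpow_right n).eq
  let ν : ℤ → (V ≃ₗ[ℝ] V) := fun i => t ^ i * μ₀
  have hex : ∀ i : ℤ, ∃ a, Good (ν i) a := by
    intro i
    rcases Int.even_or_odd' i with ⟨k, rfl | rfl⟩
    · refine ⟨(t ^ k) a₀, ?_⟩
      have e : ν (2 * k) = t ^ k * μ₀ * (t ^ k)⁻¹ := by
        rw [← zpow_neg, mul_assoc, flip, neg_neg, ← mul_assoc, ← zpow_add, ← two_mul]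
      rw [e]; exact good_conj _ (zpow_mem tG k) _ _ ⟨h₀, hn₀, hu₀⟩
    · refine ⟨(t ^ k) a₁, ?_⟩
      have e : ν (2 * k + 1) = t ^ k * μ₁ * (t ^ k)⁻¹ := by
        have : μ₁ = t * μ₀ := by rw [ht, mul_assoc, s0, mul_one]
        rw [← zpow_neg, this, mul_assoc, mul_assoc t, flip, neg_neg, ← mul_assoc, ← mul_assoc,
          ← zpow_add_one, ← zpow_add, show k + 1 + k = 2 * k + 1 by ring]
      rw [e]; exact good_conj _ (zpow_mem tG k) _ _ ⟨h₁, hn₁, hu₁⟩
  choose A hA using hex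
  have hG : ∀ i, ν i ∈ G := fun i => mul_mem (zpow_mem tG i) g0
  let S : AxisSeq mul B :=
    { ax := A
      mu := ν
      ambient := hV
      pair := fun i => (hA i).1
      norm := fun i => (hA i).2.1
      move := fun i j => by
        have h := good_conj _ (hG i) _ _ (hA j)
        have e : ν i * ν j * (ν i)⁻¹ = ν (2 * i - j) := by
          show t ^ i * μ₀ * (t ^ j * μ₀) * (t ^ i * μ₀)⁻¹ = t ^ (2 * i - j) * μ₀
          rw [mul_inv_rev, i0, ← zpow_neg, mul_assoc (t ^ i) μ₀, ← mul_assoc μ₀ (t ^ j), flip,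
            mul_assoc (t ^ (-j)), s0, mul_one, mul_assoc, ← mul_assoc (t ^ (-j)),
            mul_assoc (t ^ (-j)) μ₀, flip, neg_neg, ← mul_assoc, ← mul_assoc, ← zpow_add, ← zpow_add]
          congr 2; ring
        rw [e] at h
        exact (hA (2 * i - j)).2.2 _ h.1 }
  obtain ⟨n, hn1, hn6, hn⟩ := Cfsg.Agent.Lib.Majorana.NortonSakuma.exists_return S
  refine ⟨n, hn1, hn6, ?_⟩
  have hne : ν n = ν 0 := det (hA n).1 (show Cfsg.Axial.IsMajoranaPair mul B (ν 0) (A n) by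
    rw [show A n = A 0 from hn]; exact (hA 0).1) (hA n).2.1
  have htn : t ^ n = 1 := by
    have := mul_right_cancel hne
    simpa using this
  have : μ₀ * μ₁ = t⁻¹ := by rw [ht, mul_inv_rev, i0, i1]
  rw [this, inv_pow, htn, inv_one]

end Cfsg.Agent.S5544
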