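import Cfsg.Statements.S5545
import Cfsg.Agent.Lib.Majorana.Basic

set_option autoImplicit false
open Cfsg

namespace Cfsg.Agent.S5545

open Cfsg.Axial Cfsg.Agent.Lib.Majorana.Basic

theorem expand {V : Type*} [AddCommGroup V] [Module ℝ V] {mul : V →ₗ[ℝ] V →ₗ[ℝ] V}
    {B : LinearMap.BilinForm ℝ V} (hV : IsMajoranaAmbient mul B) {μ : V ≃ₗ[ℝ] V} {a b : V}
    (h : IsMajoranaPair mul B μ a) (hn : B a a = 1) (hb : μ b = b) (hbb : mul b b = b) :
    mul a (mul a b) = (3 * B a b / 4) • a + (1 / 4 : ℝ) • mul a b ∧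
      ∃ u v, u = b + (3 * B a b) • a - (4 : ℝ) • mul a b ∧ v = (4 : ℝ) • (mul a b - B a b • a) ∧
        mul a (mul u u) = 0 ∧ mul u v = ((2 - B a b) / 4) • v := by
  obtain ⟨u, v, hx, hu, hv⟩ := decomp_of_fixed hV h hn hb
  generalize B a b = c at hx ⊢
  have hid := idem h
  have hp : mul a b = c • a + (1 / 4 : ℝ) • v := by
    rw [hx]; simp [hu, hv, hid]
  have hu' : u = b + (3 * c) • a - (4 : ℝ) • mul a b := by
    rw [hp, hx]; module
  have hv' : v = (4 : ℝ) • (mul a b - c • a) := by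
    rw [hp]; module
  refine ⟨?_, u, v, hu', hv', fusion_00 h hu hu, ?_⟩
  · rw [hp, map_add, map_smul, map_smul, hid, hv]; module
  have huv := fusion_0q h hu hv
  have hvv := fusion_qq h hv hv
  have huu : mul u u ∈ eigenSum mul a {1, 0} := by
    rw [eigenSum_insert, eigenSum_single]
    exact Submodule.mem_sup_right (mem_eigen.2 (by simpa using fusion_00 h hu hu))
  have ha1 : a ∈ eigenSum mul a {1, 0} := by
    rw [eigenSum_insert]; exact Submodule.mem_sup_left (mem_eigen.2 (by simpa using hid))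
  have hu1 : u ∈ eigenSum mul a {1, 0} := by
    rw [eigenSum_insert, eigenSum_single]
    exact Submodule.mem_sup_right (mem_eigen.2 (by simpa using hu))
  have hc : ∀ s t, mul s t = mul t s := hV.1
  have key : (1 - c / 2) • v - (2 : ℝ) • mul u v
      = (c * c) • a + mul u u + mul v v - c • a - u := by
    have e := hbb
    rw [hx] at e
    simp only [map_add, map_smul, LinearMap.add_apply, LinearMap.smul_apply, hid, hu, hv,
      hc u a, hc v a, hc v u, smul_zero] at e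
    linear_combination (norm := module) -e
  have h0 : (1 - c / 2) • v - (2 : ℝ) • mul u v = 0 := by
    refine eq_zero_of_quarter (mul := mul) (a := a) ?_ ?_
    · rw [map_sub, map_smul, map_smul, hv, huv]; module
    · rw [key]
      exact sub_mem (sub_mem (add_mem (add_mem (Submodule.smul_mem _ _ ha1) huu) hvv)
        (Submodule.smul_mem _ _ ha1)) hu1
  linear_combination (norm := module) (-1 / 2 : ℝ) • h0


/-- Let V be a finite-dimensional real vector space with a commutative bilinear product and a positive-definite symmetric bilinear form that associates with the product and satisfies the Norton inequality (the Majorana setting of the definitions). Let μ₀, μ₁ be commuting Majorana involutions with distinct axial vectors a₀ ≠ a₁ of squared length 1, each involution having no other axial vector. Then either a₀ and a₁ are orthogonal with a₀ ∘ a₁ = 0 (type 2B), or their inner product is 1/8 and, with a₂ = a₀ + a₁ − 8 a₀ ∘ a₁,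 the vector a₂ is an idempotent and a₀ ∘ a₂ = (1/8)(a₀ + a₂ − a₁), a₁ ∘ a₂ = (1/8)(a₁ + a₂ − a₀) (type 2A: the three idempotents span a subalgebra with aᵢ ∘ aⱼ = (1/8)(aᵢ + aⱼ − aₖ)). -/
theorem result {V : Type*} [AddCommGroup V] [Module ℝ V] [FiniteDimensional ℝ V] (mul : V →ₗ[ℝ] V →ₗ[ℝ] V) (B : LinearMap.BilinForm ℝ V) (hV : Cfsg.Axial.IsMajoranaAmbient mul B) (μ₀ μ₁ : V ≃ₗ[ℝ] V) (a₀ a₁ : V) (h₀ : Cfsg.Axial.IsMajoranaPair mul B μ₀ a₀) (h₁ : Cfsg.Axial.IsMajoranaPair mul B μ₁ a₁) (hu₀ : ∀ a : V, Cfsg.Axial.IsMajoranaPair mul B μ₀ a → a = a₀) (hu₁ : ∀ a : V, Cfsg.Axial.IsMajoranaPair mul B μ₁ a → a = a₁) (hn₀ : B a₀ a₀ = 1) (hn₁ : B a₁ a₁ = 1) (hc : μ₀ * μ₁ = μ₁ * μ₀) (hne : a₀ ≠ a₁) : (B a₀ a₁ = 0 ∧ mul a₀ a₁ = 0) ∨ (B a₀ a₁ = 1 / 8 ∧ mul (a₀ + a₁ - (8 : ℝ) • mul a₀ a₁) (a₀ + a₁ - (8 : ℝ) • mul a₀ a₁) = a₀ + a₁ - (8 : ℝ) • mul a₀ a₁ ∧ mul a₀ (a₀ + a₁ - (8 : ℝ) • mul a₀ a₁) = (1 / 8 : ℝ) • (a₀ + (a₀ + a₁ - (8 : ℝ) • mul a₀ a₁)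 - a₁) ∧ mul a₁ (a₀ + a₁ - (8 : ℝ) • mul a₀ a₁) = (1 / 8 : ℝ) • (a₁ + (a₀ + a₁ - (8 : ℝ) • mul a₀ a₁) - a₀)) := by
  have hcm : ∀ s t, mul s t = mul t s := hV.1
  have hc' : ∀ x, μ₀ (μ₁ x) = μ₁ (μ₀ x) := fun x => LinearEquiv.congr_fun hc x
  have f1 : μ₀ a₁ = a₁ := hu₁ _ (pair_map h₀.1 h₀.2.1 (fun x => (hc' x).symm) h₁)
  have f0 : μ₁ a₀ = a₀ := hu₀ _ (pair_map h₁.1 h₁.2.1 hc' h₀)
  obtain ⟨P0, u, v, hu, hv, U0, UV0⟩ := expand hV h₀ hn₀ f1 (idem h₁)
  obtain ⟨P1, u', v', hu', hv', -, UV1⟩ := expand hV h₁ hn₁ f0 (idem h₀)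
  subst hu; subst hv; subst hu'; subst hv'
  rw [hV.2.1 a₁ a₀, hcm a₁ a₀] at P1 UV1
  generalize hcdef : B a₀ a₁ = c at P0 P1 U0 UV0 UV1 ⊢
  generalize hpdef : mul a₀ a₁ = p at P0 P1 U0 UV0 UV1 ⊢
  have hpp : mul a₁ a₀ = p := by rw [hcm, hpdef]
  have i0 := idem h₀
  have i1 := idem h₁
  simp only [map_add, map_sub, map_smul, LinearMap.add_apply, LinearMap.sub_apply,
    LinearMap.smul_apply, i0, i1, hcm p a₀, hcm p a₁, hpp, hpdef, P0, P1] at U0 UV0 UV1
  generalize hqdef : mul p p = q at U0 UV0 UV1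
  have key0 : (16 : ℝ) • q = (3 * c) • a₁ + (8 * c * c + 2 * c) • a₀ + (4 * c - 1) • p := by
    linear_combination (norm := module) (-1 : ℝ) • UV0
  have key1 : (16 : ℝ) • q = (3 * c) • a₀ + (8 * c * c + 2 * c) • a₁ + (4 * c - 1) • p := by
    linear_combination (norm := module) (-1 : ℝ) • UV1
  have hdiff : (8 * c * c - c) • (a₀ - a₁) = 0 := by
    linear_combination (norm := module) key1 - key0
  have hcc : c * (8 * c - 1) = 0 := by
    linarith [(smul_eq_zero.1 hdiff).resolve_right (sub_ne_zero.2 hne)]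
  rcases mul_eq_zero.1 hcc with hc0 | hc8
  · left
    subst hc0
    refine ⟨rfl, ?_⟩
    have hq : mul a₀ q = (-1 / 64 : ℝ) • p := by
      have := congrArg (mul a₀) key0
      simp only [map_add, map_smul, hpdef, P0, i0] at this
      linear_combination (norm := module) (1 / 16 : ℝ) • this
    rw [hq] at U0
    linear_combination (norm := module) (4 : ℝ) • U0
  · right
    obtain rfl : c = 1 / 8 := by linarith
    refine ⟨rfl, ?_, ?_, ?_⟩
    · simp only [map_add, map_sub, map_smul, LinearMap.add_apply, LinearMap.sub_apply,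
        LinearMap.smul_apply, i0, i1, hcm p a₀, hcm p a₁, hpp, hpdef, P0, P1, hqdef]
      linear_combination (norm := module) (4 : ℝ) • key0
    · simp only [map_add, map_sub, map_smul, i0, hpdef, P0]
      module
    · simp only [map_add, map_sub, map_smul, i1, hpp, P1]
      module

end Cfsg.Agent.S5545
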