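import Cfsg.Statements.S5546
-- import your own Cfsg.Agent.* helpers here

set_option autoImplicit false
open Cfsg

namespace Cfsg.Agent.S5546

open Cfsg.Spor

instance fact13 : Fact (Nat.Prime 13) := ⟨by norm_num⟩

/-- reduction mod 13 -/
def red : ↥leechLattice →+ (GolayPt → ZMod 13) where
  toFun v := fun i => (((v : GolayPt → ℤ) i : ℤ) : ZMod 13)
  map_zero' := by ext i; simp
  map_add' a b := by ext i; simp

def pm (i j : GolayPt) (s : ℤ) : GolayPt → ℤ :=
  fun p => (if p = i then 4 else 0) + (if p = j then 4 * s else 0)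

theorem pm_mem (i j : GolayPt) (s : ℤ) (hs : s = 1 ∨ s = -1) :
    pm i j s ∈ leechSet := by
  refine mem_leechSet_of_const_mod_four _ 0 0 (by decide) (fun p => ?_) ?_
  · rcases hs with rfl | rfl <;> unfold pm <;> split_ifs <;> decide
  · have : ∑ p, pm i j s p = 4 + 4 * s := by
      unfold pm; rw [Finset.sum_add_distrib]; simp
    rw [this]; rcases hs with rfl | rfl <;> decide

def pmL (i j : GolayPt) (s : ℤ) (hs : s = 1 ∨ s = -1) : ↥leechLattice :=
  ⟨pm i j s, AddSubgroup.subset_closure (pm_mem i j s hs)⟩

def other (i : GolayPt) : GolayPt := if i = none then some 0 else none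

theorem other_ne (i : GolayPt) : other i ≠ i := by
  unfold other; split_ifs with h
  · subst h; simp
  · exact fun e => h e.symm

def eight (i : GolayPt) : ↥leechLattice :=
  pmL i (other i) 1 (Or.inl rfl) + pmL i (other i) (-1) (Or.inr rfl)

theorem eight_apply (i p : GolayPt) : ((eight i : GolayPt → ℤ)) p = if p = i then 8 else 0 := by
  show pm i (other i) 1 p + pm i (other i) (-1) p = _
  unfold pm; split_ifs <;> simp_all

theorem sum_eight (v : ↥leechLattice) : ∑ i, (v : GolayPt → ℤ) i • eight i = (8 : ℤ) • v := by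
  ext p
  simp only [AddSubgroup.val_finsetSum, AddSubgroup.coe_zsmul, Finset.sum_apply, Pi.smul_apply, eight_apply,
    smul_eq_mul, mul_ite, mul_zero]
  simp [mul_comm]

/-- the additive map of a lattice automorphism -/
def lin (g : ↥Co2) : ↥leechLattice →+ ↥leechLattice :=
  AddMonoidHom.mk' (g : Equiv.Perm ↥leechLattice) g.2.1.1

theorem lin_u (g : ↥Co2) : lin g leechU = leechU := g.2.2

theorem lin_norm (g : ↥Co2) (v : ↥leechLattice) :
    sqNorm ((lin g v : ↥leechLattice) : GolayPt → ℤ) = sqNorm (v : GolayPt → ℤ) := g.2.1.2 v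

def T (g : ↥Co2) : (GolayPt → ZMod 13) →ₗ[ZMod 13] (GolayPt → ZMod 13) where
  toFun x := ∑ i, x i • ((5 : ZMod 13) • red (lin g (eight i)))
  map_add' x y := by simp [add_smul, Finset.sum_add_distrib]
  map_smul' c x := by simp [Finset.smul_sum, mul_smul]

theorem red_zsmul (n : ℤ) (v : ↥leechLattice) : red (n • v) = (n : ZMod 13) • red v := by
  rw [map_zsmul, Int.cast_smul_eq_zsmul]

theorem T_red (g : ↥Co2) (v : ↥leechLattice) : T g (red v) = red (lin g v) := by
  show ∑ i, red v i • ((5 : ZMod 13) • red (lin g (eight i))) = _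
  have h : ∀ i, red v i • ((5 : ZMod 13) • red (lin g (eight i)))
      = (5 : ZMod 13) • red (lin g ((v : GolayPt → ℤ) i • eight i)) := by
    intro i
    rw [map_zsmul (lin g), red_zsmul, smul_smul, smul_smul, mul_comm]
    rfl
  simp only [h, ← Finset.smul_sum, ← map_sum, sum_eight]
  rw [map_zsmul (lin g), red_zsmul, smul_smul]
  have : (5 : ZMod 13) * ((8 : ℤ) : ZMod 13) = 1 := by decide
  rw [this, one_smul]

theorem red_surjective (x : GolayPt → ZMod 13) : ∃ v : ↥leechLattice, red v = x := by
  refine ⟨∑ i, ((x i).val * 5 : ℤ) • eight i, ?_⟩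
  ext p
  simp only [map_sum, red_zsmul, Finset.sum_apply, Pi.smul_apply, smul_eq_mul]
  rw [Finset.sum_eq_single p]
  · show _ * (((eight p : GolayPt → ℤ) p : ℤ) : ZMod 13) = _
    rw [eight_apply, if_pos rfl]
    push_cast
    rw [ZMod.natCast_zmod_val, mul_assoc, show (5 : ZMod 13) * 8 = 1 by decide, mul_one]
  · intro b _ hb
    show _ * (((eight b : GolayPt → ℤ) p : ℤ) : ZMod 13) = _
    rw [eight_apply, if_neg (Ne.symm hb)]; simp
  · simp

theorem T_one : T 1 = LinearMap.id := by
  apply LinearMap.ext; intro x; obtain ⟨v, rfl⟩ := red_surjective x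
  rw [T_red]; rfl

theorem T_mul (g h : ↥Co2) : T (g * h) = (T g).comp (T h) := by
  apply LinearMap.ext; intro x; obtain ⟨v, rfl⟩ := red_surjective x
  rw [LinearMap.comp_apply, T_red, T_red, T_red]; rfl

def U : Submodule (ZMod 13) (GolayPt → ZMod 13) := Submodule.span (ZMod 13) {red leechU}

theorem U_le (g : ↥Co2) : U ≤ U.comap (T g) := by
  refine Submodule.span_le.2 ?_
  rintro x rfl
  show T g (red leechU) ∈ U
  rw [T_red, lin_u]; exact Submodule.subset_span rfl

noncomputable def bar : ↥Co2 →* Module.End (ZMod 13) ((GolayPt → ZMod 13) ⧸ U) where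
  toFun g := U.mapQ U (T g) (U_le g)
  map_one' := by
    apply Submodule.linearMap_qext; apply LinearMap.ext; intro x
    simp [T_one]
  map_mul' g h := by
    apply Submodule.linearMap_qext; apply LinearMap.ext; intro x
    simp [T_mul]

theorem bar_injective : Function.Injective bar := by
  intro a b hab
  suffices key : ∀ g : ↥Co2, bar g = 1 → g = 1 by
    have h1 : bar (b⁻¹ * a) = 1 := by rw [map_mul, hab, ← map_mul, inv_mul_cancel, map_one]
    have := key _ h1
    exact (inv_mul_eq_one.1 this).symm
  intro g hg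
  have short : ∀ (i j : GolayPt) (hij : i ≠ j) (s : ℤ) (hs : s = 1 ∨ s = -1),
      lin g (pmL i j s hs) = pmL i j s hs := by
    intro i j hij s hs
    generalize hv : pmL i j s hs = v
    have hnv : sqNorm (v : GolayPt → ℤ) = 32 := by
      subst hv
      show ∑ p, pm i j s p ^ 2 = 32
      rw [Fintype.sum_eq_add i j hij (fun b hb => by simp [pm, hb.1, hb.2])]
      rcases hs with rfl | rfl <;> simp [pm, hij, hij.symm]
    have hq : Submodule.Quotient.mk (p := U) (T g (red v)) = Submodule.Quotient.mk (red v) := by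
      have := LinearMap.congr_fun hg (Submodule.Quotient.mk (red v))
      exact this
    rw [Submodule.Quotient.eq, T_red] at hq
    obtain ⟨k, hk⟩ := Submodule.mem_span_singleton.1 hq
    have hdot : dotInt ((lin g v : ↥leechLattice) : GolayPt → ℤ) vecU = dotInt (v : GolayPt → ℤ) vecU := by
      have h1 := lin_norm g (v + leechU)
      have h2 := lin_norm g v
      rw [map_add, lin_u] at h1
      simp only [sqNorm, AddSubgroup.coe_add, Pi.add_apply, add_sq, Finset.sum_add_distrib] at h1 h2
      simp only [mul_assoc, ← Finset.mul_sum] at h1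
      show ∑ p, _ * leechU.val p = ∑ p, _ * leechU.val p
      linarith
    have hk0 : k = 0 := by
      have h3 : k * ∑ p, red leechU p * red leechU p = ((dotInt ((lin g v : ↥leechLattice) : GolayPt → ℤ) vecU - dotInt (v : GolayPt → ℤ) vecU : ℤ) : ZMod 13) := by
        simp only [dotInt, Int.cast_sub, Int.cast_sum, Int.cast_mul, ← Finset.sum_sub_distrib, Finset.mul_sum]
        refine Finset.sum_congr rfl fun p _ => ?_
        have hp : k * red leechU p = red (lin g v) p - red v p := congrFun hk p
        show _ = red (lin g v) p * red leechU p - red v p * red leechU p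
        rw [← sub_mul, ← hp, mul_assoc]
      rw [hdot, sub_self] at h3
      have h4 : (∑ p, red leechU p * red leechU p) = (6 : ZMod 13) := by decide
      rw [h4, Int.cast_zero] at h3
      exact (mul_eq_zero.1 h3).resolve_right (by decide)
    subst hk0
    apply Subtype.ext; funext p
    have hp : (0 : ZMod 13) = red (lin g v) p - red v p := by
      have := congrFun hk p; simpa using this
    have hdvd : (13 : ℤ) ∣ ((lin g v : ↥leechLattice) : GolayPt → ℤ) p - (v : GolayPt → ℤ) p := by
      apply (ZMod.intCast_zmod_eq_zero_iff_dvd _ 13).1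
      push_cast; exact hp.symm
    have b1 : (((lin g v : ↥leechLattice) : GolayPt → ℤ) p) ^ 2 ≤ 32 := by
      rw [← hnv, ← lin_norm g v]
      exact Finset.single_le_sum (f := fun q => (((lin g v : ↥leechLattice) : GolayPt → ℤ) q) ^ 2) (fun _ _ => sq_nonneg _) (Finset.mem_univ p)
    have b2 : ((v : GolayPt → ℤ) p) ^ 2 ≤ 32 := by
      rw [← hnv]
      exact Finset.single_le_sum (f := fun q => ((v : GolayPt → ℤ) q) ^ 2) (fun _ _ => sq_nonneg _) (Finset.mem_univ p)
    obtain ⟨c, hc⟩ := hdvd
    have e1 : ∀ x : ℤ, x ^ 2 ≤ 32 → -5 ≤ x ∧ x ≤ 5 := fun x hx => ⟨by nlinarith, by nlinarith⟩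
    obtain ⟨e2, e3⟩ := e1 _ b1
    obtain ⟨e4, e5⟩ := e1 _ b2
    have hc0 : c = 0 := by omega
    subst hc0; linarith
  have h8 : ∀ i, lin g (eight i) = eight i := fun i => by
    rw [eight, map_add, short i _ (other_ne i).symm, short i _ (other_ne i).symm]
  apply Subtype.ext; apply Equiv.ext; intro v
  show lin g v = v
  have h := sum_eight (lin g v)
  have h' : lin g ((8 : ℤ) • v) = (8 : ℤ) • v := by
    rw [← sum_eight, map_sum]; simp only [map_zsmul, h8]
  rw [map_zsmul] at h'
  apply Subtype.ext; funext p
  have := congrFun (congrArg Subtype.val h') p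
  simp only [AddSubgroup.coe_zsmul, Pi.smul_apply, smul_eq_mul] at this
  omega

theorem finrank_eq : Module.finrank (ZMod 13) ((GolayPt → ZMod 13) ⧸ U) = 23 := by
  have h := Submodule.finrank_quotient_add_finrank U
  have h1 : Module.finrank (ZMod 13) ↥U = 1 := by
    apply finrank_span_singleton
    intro h0
    exact absurd (congrFun h0 none) (by decide)
  rw [h1, Module.finrank_pi] at h
  simp at h; omega

/-- The second Conway group (the stabilizer in the Leech lattice automorphism group of the short vector fixed in the definitions) is isomorphic to a subgroup of the general linear group of degree 23 over the field with 13 elements: there is an injective homomorphism into it. -/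
theorem result : ∃ f : ↥Cfsg.Spor.Co2 →* GL (Fin 23) (ZMod 13), Function.Injective f := by
  let b := Module.finBasisOfFinrankEq (ZMod 13) _ finrank_eq
  refine ⟨((LinearMap.toMatrixAlgEquiv b).toRingEquiv.toMonoidHom.comp bar).toHomUnits, ?_⟩
  intro a c h
  apply bar_injective
  exact (LinearMap.toMatrixAlgEquiv b).injective (congrArg Units.val h)

end Cfsg.Agent.S5546
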