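import Cfsg.Statements.S5548
import Cfsg.Agent.Lib.GolayPerm.Cyclic

set_option autoImplicit false
open Cfsg

namespace Cfsg.Agent.S5548

open Cfsg.Agent.Lib.Golay Cfsg.Agent.Lib.GolayPerm Cfsg.Agent.Lib.GolayPerm.Cyclic

/-- For the automorphism group of the length-24 binary Golay code of the definitions (the Mathieu group of degree 24) acting on binary words of length 24 by permuting coordinates, the only invariant subspaces of the space of all words are: zero, the span of the all-ones word, the code itself, the even-weight words, and the whole space. (So the permutation module has a unique composition series.) -/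
theorem result (W : Submodule (ZMod 2) (Cfsg.GolayPt → ZMod 2)) (hW : ∀ σ ∈ Cfsg.M24, ∀ w ∈ W, (fun p => w (σ.symm p)) ∈ W) : W = ⊥ ∨ W = Submodule.span (ZMod 2) {fun _ => (1 : ZMod 2)} ∨ W = Cfsg.golayCode ∨ (W : Set (Cfsg.GolayPt → ZMod 2)) = {w | ∑ p, w p = 0} ∨ W = ⊤ := by
  classical
  have hshift : ∀ V : Submodule (ZMod 2) (Cfsg.GolayPt → ZMod 2),
      (∀ σ ∈ Cfsg.M24, ∀ w ∈ V, (fun p => w (σ.symm p)) ∈ V) →
      ∀ k m, m < 2 ^ 24 → wordOfMask m ∈ V → wordOfMask (circ k m) ∈ V :=
    fun V hV k m hm h => circ_mem (hV _ shift_mem) k hm h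
  have move : ∀ {σ : Equiv.Perm Cfsg.GolayPt} {tbl : List ℕ}, σ ∈ Cfsg.M24 → IsTable σ tbl →
      ∀ {m : ℕ}, m < 2 ^ 24 → wordOfMask m ∈ W → wordOfMask (act tbl m) ∈ W := by
    intro σ tbl hσ ht m hm h
    rw [wordOfMask_act ht hm]; exact hW σ hσ _ h
  have hc := hshift W hW
  have allA : ∀ {m : ℕ}, m < 2 ^ 24 → wordOfMask m ∈ W → circ eA m ≠ 0 → wordOfMask eA ∈ W := by
    intro m hm h h0
    obtain ⟨k, hk⟩ := (gen_A hm).2 h0
    rw [← hk]
    exact hc _ _ (circ_lt _ hm) (hc _ _ hm h)
  have allB : ∀ {m : ℕ}, m < 2 ^ 24 → wordOfMask m ∈ W → circ eB m ≠ 0 → wordOfMask eB ∈ W := by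
    intro m hm h h0
    obtain ⟨k, hk⟩ := (gen_B hm).2 h0
    rw [← hk]
    exact hc _ _ (circ_lt _ hm) (hc _ _ hm h)
  have one_eq : wordOfMask allMask = (1 : Cfsg.GolayPt → ZMod 2) := one_eq_wordOfMask.symm
  have Aone : wordOfMask eA ∈ W → wordOfMask allMask ∈ W := by
    intro h
    have := hc uMask _ (act_lt isTable_inv _) (move inv_mem isTable_inv eA_lt h)
    rwa [show circ uMask (act tblInv eA) = allMask by decide +kernel] at this
  have BtoA : wordOfMask eB ∈ W → wordOfMask eA ∈ W := by
    intro h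
    have hl : circ 2 eB < 2 ^ 24 := circ_lt _ eB_lt
    exact allA (act_lt isTable_twist _) (move twist_mem isTable_twist hl (hc 2 _ eB_lt h)) (by decide +kernel)
  have split : ∀ {m : ℕ}, m < 2 ^ 24 → ∀ V : Submodule (ZMod 2) (Cfsg.GolayPt → ZMod 2),
      wordOfMask m = wordOfMask (circ eA m) + wordOfMask (circ eB m) + wordOfMask (circ uMask m) := by
    intro m hm _
    rw [← wordOfMask_xor, ← wordOfMask_xor, decompose hm]
  have inA : ∀ V : Submodule (ZMod 2) (Cfsg.GolayPt → ZMod 2),
      (∀ σ ∈ Cfsg.M24, ∀ w ∈ V, (fun p => w (σ.symm p)) ∈ V) → wordOfMask eA ∈ V →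
      ∀ {m : ℕ}, m < 2 ^ 24 → wordOfMask (circ eA m) ∈ V := by
    intro V hV h m hm
    obtain ⟨j, hj⟩ := (gen_A hm).1
    rw [hj]; exact hshift V hV j _ eA_lt h
  have inB : ∀ V : Submodule (ZMod 2) (Cfsg.GolayPt → ZMod 2),
      (∀ σ ∈ Cfsg.M24, ∀ w ∈ V, (fun p => w (σ.symm p)) ∈ V) → wordOfMask eB ∈ V →
      ∀ {m : ℕ}, m < 2 ^ 24 → wordOfMask (circ eB m) ∈ V := by
    intro V hV h m hm
    obtain ⟨j, hj⟩ := (gen_B hm).1
    rw [hj]; exact hshift V hV j _ eB_lt h
  let odd : (Cfsg.GolayPt → ZMod 2) →ₗ[ZMod 2] ZMod 2 :=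
    { toFun := fun w => ∑ p, w p
      map_add' := fun a b => by simp [Finset.sum_add_distrib]
      map_smul' := fun c a => by simp only [Pi.smul_apply, smul_eq_mul, RingHom.id_apply, Finset.mul_sum] }
  have evenInv : ∀ σ ∈ Cfsg.M24, ∀ w ∈ LinearMap.ker odd, (fun p => w (σ.symm p)) ∈ LinearMap.ker odd := by
    intro σ _ w hw
    show ∑ p, w (σ.symm p) = 0
    rw [Equiv.sum_comp σ.symm w]; exact hw
  have eA_even : wordOfMask eA ∈ LinearMap.ker odd :=
    (show ∑ p, wordOfMask eA p = 0 by decide +kernel)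
  have eB_even : wordOfMask eB ∈ LinearMap.ker odd :=
    (show ∑ p, wordOfMask eB p = 0 by decide +kernel)
  have one_even : wordOfMask allMask ∈ LinearMap.ker odd :=
    (show ∑ p, wordOfMask allMask p = 0 by decide +kernel)
  -- a vector of odd trivial part forces everything
  have big : ∀ {m : ℕ}, m < 2 ^ 24 → wordOfMask m ∈ W → (circ uMask m = uMask ∨ circ uMask m = infMask) →
      W = ⊤ := by
    intro m hm h hu
    have h1 := hc uMask _ hm h
    have hB : wordOfMask eB ∈ W := by
      rcases hu with e | e <;> rw [e] at h1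
      · exact allB (act_lt isTable_inv _) (move inv_mem isTable_inv (by decide) h1) (by decide +kernel)
      · exact allB (act_lt isTable_inv _) (move inv_mem isTable_inv (by decide) h1) (by decide +kernel)
    have hA := BtoA hB
    have ho := Aone hA
    have hpair : wordOfMask uMask ∈ W ∧ wordOfMask infMask ∈ W := by
      rcases hu with e | e <;> rw [e] at h1
      · refine ⟨h1, ?_⟩
        rw [show infMask = uMask ^^^ allMask by decide, wordOfMask_xor]; exact W.add_mem h1 ho
      · refine ⟨?_, h1⟩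
        rw [show uMask = infMask ^^^ allMask by decide, wordOfMask_xor]; exact W.add_mem h1 ho
    rw [Submodule.eq_top_iff']
    intro x
    obtain ⟨k, hk, rfl⟩ := exists_mask x
    rw [split hk W]
    refine W.add_mem (W.add_mem (inA W hW hA hk) (inB W hW hB hk)) ?_
    rcases trivial_part hk with e | e | e | e <;> rw [e]
    · rw [wordOfMask_zero]; exact W.zero_mem
    · exact hpair.1
    · exact hpair.2
    · exact ho
  by_cases htop : W = ⊤
  · exact Or.inr (Or.inr (Or.inr (Or.inr htop)))
  have triv : ∀ {m : ℕ}, m < 2 ^ 24 → wordOfMask m ∈ W → circ uMask m = 0 ∨ circ uMask m = allMask := by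
    intro m hm h
    rcases trivial_part hm with e | e | e | e
    · exact Or.inl e
    · exact absurd (big hm h (Or.inl e)) htop
    · exact absurd (big hm h (Or.inr e)) htop
    · exact Or.inr e
  by_cases hB : wordOfMask eB ∈ W
  · refine Or.inr (Or.inr (Or.inr (Or.inl ?_)))
    have hA := BtoA hB
    have ho := Aone hA
    ext x
    simp only [SetLike.mem_coe, Set.mem_setOf_eq]
    obtain ⟨k, hk, rfl⟩ := exists_mask x
    constructor
    · intro h
      show wordOfMask k ∈ LinearMap.ker odd
      rw [split hk W]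
      refine Submodule.add_mem _ (Submodule.add_mem _ (inA _ evenInv eA_even hk) (inB _ evenInv eB_even hk)) ?_
      rcases triv hk h with e | e <;> rw [e]
      · rw [wordOfMask_zero]; exact Submodule.zero_mem _
      · exact one_even
    · intro h
      have h' : wordOfMask k ∈ LinearMap.ker odd := h
      rw [split hk W] at h' ⊢
      refine W.add_mem (W.add_mem (inA W hW hA hk) (inB W hW hB hk)) ?_
      rw [Submodule.add_mem_iff_right _ (Submodule.add_mem _ (inA _ evenInv eA_even hk)
        (inB _ evenInv eB_even hk))] at h'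
      rcases trivial_part hk with e | e | e | e <;> rw [e] at h' ⊢
      · rw [wordOfMask_zero]; exact W.zero_mem
      · exact absurd (show ∑ p, wordOfMask uMask p = 0 from h') (by decide +kernel)
      · exact absurd (show ∑ p, wordOfMask infMask p = 0 from h') (by decide +kernel)
      · exact ho
  have noB : ∀ {m : ℕ}, m < 2 ^ 24 → wordOfMask m ∈ W → circ eB m = 0 := by
    intro m hm h
    by_contra h0
    exact hB (allB hm h h0)
  by_cases hA : wordOfMask eA ∈ W
  · refine Or.inr (Or.inr (Or.inl ?_))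
    have ho := Aone hA
    have hcode : ∀ σ ∈ Cfsg.M24, ∀ w ∈ Cfsg.golayCode, (fun p => w (σ.symm p)) ∈ Cfsg.golayCode := by
      intro σ hσ w hw
      have hs : Cfsg.Agent.Lib.Leech.IsCode (Cfsg.support₂ w) := ⟨w, hw, rfl⟩
      have := Cfsg.Agent.Lib.Leech.isCode_iff.1 (hs.map hσ)
      convert this using 1
      funext p
      rw [← Cfsg.Agent.Lib.Leech.ind_support₂ w]
      simp [Cfsg.Agent.Lib.Leech.ind, Cfsg.Agent.Lib.Leech.support₂_ind]
    apply le_antisymm
    · intro x hx
      obtain ⟨k, hk, rfl⟩ := exists_mask x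
      rw [split hk W, noB hk hx, wordOfMask_zero, add_zero]
      refine Submodule.add_mem _ (inA _ hcode (wordOfMask_mem (by decide +kernel)) hk) ?_
      rcases triv hk hx with e | e <;> rw [e]
      · rw [wordOfMask_zero]; exact Submodule.zero_mem _
      · exact wordOfMask_mem (by decide +kernel)
    · rw [golayCode_eq_span_rows, Submodule.span_le]
      rintro x ⟨r, hr, rfl⟩
      show wordOfMask r ∈ W
      have hspec : r < 2 ^ 24 ∧ circ eB r = 0 ∧ (circ uMask r = 0 ∨ circ uMask r = allMask) := by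
        revert r; decide +kernel
      rw [split hspec.1 W, hspec.2.1, wordOfMask_zero, add_zero]
      refine W.add_mem (inA W hW hA hspec.1) ?_
      rcases hspec.2.2 with e | e <;> rw [e]
      · rw [wordOfMask_zero]; exact W.zero_mem
      · exact ho
  have noA : ∀ {m : ℕ}, m < 2 ^ 24 → wordOfMask m ∈ W → circ eA m = 0 := by
    intro m hm h
    by_contra h0
    exact hA (allA hm h h0)
  by_cases hbot : W = ⊥
  · exact Or.inl hbot
  refine Or.inr (Or.inl ?_)
  have one' : (fun _ => (1 : ZMod 2)) = wordOfMask allMask := one_eq.symm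
  have sub : ∀ x ∈ W, x = 0 ∨ x = wordOfMask allMask := by
    intro x hx
    obtain ⟨k, hk, rfl⟩ := exists_mask x
    rw [split hk W, noA hk hx, noB hk hx, wordOfMask_zero, add_zero, zero_add]
    rcases triv hk hx with e | e <;> rw [e]
    · exact Or.inl wordOfMask_zero
    · exact Or.inr rfl
  rw [one']
  apply le_antisymm
  · intro x hx
    rcases sub x hx with rfl | rfl
    · exact Submodule.zero_mem _
    · exact Submodule.subset_span rfl
  · obtain ⟨x, hx, hx0⟩ := Submodule.exists_mem_ne_zero_of_ne_bot hbot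
    rw [Submodule.span_le, Set.singleton_subset_iff]
    exact (sub x hx).resolve_left hx0 ▸ hx

end Cfsg.Agent.S5548
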