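import Cfsg.Statements.S5549
import Cfsg.Agent.Lib.Golay.Octads
-- import your own Cfsg.Agent.* helpers here

set_option autoImplicit false
open Cfsg

open scoped symmDiff

namespace Cfsg.Agent.S5549

open Cfsg.Agent.Lib.Golay

local notation "Word" => (GolayPt → ZMod 2)

/-- The sum of the coordinates in a set of positions. -/
def phi (T : Finset GolayPt) (c : Word) : ZMod 2 := ∑ p ∈ T, c p

theorem phi_symmDiff (S T : Finset GolayPt) (c : Word) : phi (S ∆ T) c = phi S c + phi T c := by
  have h1 := Finset.sum_union (f := c) (disjoint_sdiff_sdiff : Disjoint (S \ T) (T \ S))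
  have h2 := Finset.sum_sdiff (f := c) (Finset.inter_subset_left : S ∩ T ⊆ S)
  have h3 := Finset.sum_sdiff (f := c) (Finset.inter_subset_left : T ∩ S ⊆ T)
  rw [Finset.sdiff_inter_self_left] at h2 h3
  rw [phi, phi, phi, symmDiff_def, Finset.sup_eq_union, h1, ← h2, ← h3, Finset.inter_comm T S]
  generalize ∑ p ∈ S \ T, c p = a
  generalize ∑ p ∈ T \ S, c p = b
  generalize ∑ p ∈ S ∩ T, c p = d
  revert a b d
  decide

theorem phi_pair {i j : GolayPt} (h : i ≠ j) (c : Word) : phi {i, j} c = c i + c j :=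
  Finset.sum_pair h

/-- A set of fewer than eight positions is determined by its functional on the code. -/
theorem phi_injective {S T : Finset GolayPt} (hc : S.card + T.card < 8)
    (h : ∀ c ∈ golayCode, phi S c = phi T c) : S = T := by
  set w : Word := fun p => if p ∈ S ∆ T then 1 else 0 with hw
  have hsupp : support₂ w = S ∆ T := by
    ext p
    simp [support₂, hw]
  have hmem : w ∈ golayCode := by
    refine mem_of_orth fun v hv => ?_
    have : ∑ i, w i * v i = phi (S ∆ T) v := by
      simp [hw, phi, Finset.sum_ite_mem]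
    rw [this, phi_symmDiff, h v hv]
    exact CharTwo.add_self_eq_zero _
  by_contra hne
  have h8 := eight_le_card ⟨w, hmem, hsupp⟩ (by
    rw [Finset.nonempty_iff_ne_empty]
    exact fun h => hne (symmDiff_eq_bot.mp h))
  have hle : (S ∆ T).card ≤ (S ∪ T).card := Finset.card_le_card symmDiff_le_sup
  have := Finset.card_union_le S T
  omega

/-- The real character of the two-element field. -/
def chi (a : ZMod 2) : ℤ := if a = 0 then 1 else -1

theorem chi_add (a b : ZMod 2) : chi (a + b) = chi a * chi b := by revert a b; decide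

theorem sum_chi_eq_zero {C : Type*} [AddCommGroup C] [Fintype C] (L : C → ZMod 2)
    (hL : ∀ a b, L (a + b) = L a + L b) {c0 : C} (h0 : L c0 ≠ 0) : ∑ c, chi (L c) = 0 := by
  have h := Equiv.sum_comp (Equiv.addRight c0) fun c => chi (L c)
  simp only [Equiv.coe_addRight, hL, chi_add] at h
  rw [← Finset.sum_mul, show chi (L c0) = -1 from if_neg h0] at h
  linarith

/-- Let X be a group of linear automorphisms of the length-24 binary Golay code of the definitions that fix the all-ones word, containing the coordinate-permutation action of every element of the code's automorphism group (the Mathieu group of degree 24), and such that every element of X sends each codeword into its orbit under that Mathieu group up to adding the all-ones word (X has the same orbits as the Mathieu group on the code modulo the all-ones word). Then every element of X agrees, modulo the all-ones word, with the action of a single element of the Mathieu group: X induces exactly the Mathieu group on the code modulo the all-ones word.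 -/
theorem result (X : Subgroup (↥Cfsg.golayCode ≃ₗ[ZMod 2] ↥Cfsg.golayCode)) (h1 : ∀ x ∈ X, ∀ e : ↥Cfsg.golayCode, (e : (Cfsg.GolayPt → ZMod 2)) = (fun _ => (1 : ZMod 2)) → x e = e) (hM : ∀ σ ∈ Cfsg.M24, ∃ x ∈ X, ∀ c : ↥Cfsg.golayCode, ((x c : ↥Cfsg.golayCode) : (Cfsg.GolayPt → ZMod 2)) = fun p => (c : (Cfsg.GolayPt → ZMod 2)) (σ.symm p)) (horb : ∀ x ∈ X, ∀ c : ↥Cfsg.golayCode, ∃ σ ∈ Cfsg.M24, ((x c : ↥Cfsg.golayCode) : (Cfsg.GolayPt → ZMod 2)) = (fun p => (c : (Cfsg.GolayPt → ZMod 2)) (σ.symm p)) ∨ ((x c : ↥Cfsg.golayCode) : (Cfsg.GolayPt → ZMod 2)) = (fun p => (c : (Cfsg.GolayPt → ZMod 2)) (σ.symm p)) + fun _ => (1 : ZMod 2)) (x : ↥Cfsg.golayCode ≃ₗ[ZMod 2] ↥Cfsg.golayCode) (hx : x ∈ X) : ∃ σ ∈ Cfsg.M24, ∀ c : ↥Cfsg.golayCode, ((x c : ↥Cfsg.golayCode) : (Cfsg.GolayPt → ZMod 2)) = (fun p => (c : (Cfsg.GolayPt → ZMod 2)) (σ.symm p)) ∨ ((x c : ↥Cfsg.golayCode) : (Cfsg.GolayPt → ZMod 2)) = (fun p => (c : (Cfsg.GolayPt → ZMod 2)) (σ.symm p)) + fun _ => (1 : ZMod 2) := by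
  classical
  have hS : ∀ c : ↥Cfsg.golayCode,
      (∑ p, chi ((x c).1 p)) ^ 2 = (∑ p, chi (c.1 p)) ^ 2 := by
    intro c
    obtain ⟨σ, -, h | h⟩ := horb x hx c
    · rw [h, Equiv.sum_comp σ.symm (fun p => chi (c.1 p))]
    · rw [h]
      simp only [Pi.add_apply, chi_add, ← Finset.sum_mul]
      rw [Equiv.sum_comp σ.symm (fun p => chi (c.1 p)), mul_pow,
        show chi 1 ^ 2 = 1 from rfl, mul_one]
  have hφadd : ∀ (T : Finset Cfsg.GolayPt) (v w : Word), phi T (v + w) = phi T v + phi T w :=
    fun T v w => Finset.sum_add_distrib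
  -- every pair goes to a pair
  have hpair : ∀ i j : Cfsg.GolayPt, i ≠ j → ∃ P : Finset Cfsg.GolayPt, P.card = 2 ∧
      ∀ c : ↥Cfsg.golayCode, phi {i, j} (x c).1 = phi P c.1 := by
    intro i j hij
    by_contra hno
    push Not at hno
    set L : ↥Cfsg.golayCode → ZMod 2 := fun c => phi {i, j} (x c).1 with hLdef
    have hadd : ∀ k l : Cfsg.GolayPt, ∀ a b : ↥Cfsg.golayCode,
        L (a + b) + ((a + b).1 k + (a + b).1 l) =
          L a + (a.1 k + a.1 l) + (L b + (b.1 k + b.1 l)) := by
      intro k l a b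
      simp only [hLdef, map_add, Submodule.coe_add, hφadd, Pi.add_apply]
      abel
    have hzero : ∀ k l : Cfsg.GolayPt, ∑ c, chi (L c + (c.1 k + c.1 l)) = 0 := by
      intro k l
      suffices h : ∃ c0 : ↥Cfsg.golayCode, L c0 + (c0.1 k + c0.1 l) ≠ 0 by
        obtain ⟨c0, h0⟩ := h
        exact sum_chi_eq_zero (fun c : ↥Cfsg.golayCode => L c + (c.1 k + c.1 l)) (hadd k l) h0
      by_cases hkl : k = l
      · subst hkl
        by_contra h
        push Not at h
        have h0 : ({i, j} : Finset Cfsg.GolayPt) = ∅ := by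
          refine phi_injective (by simp [hij]) fun c hc => ?_
          have := h (x.symm ⟨c, hc⟩)
          rw [CharTwo.add_self_eq_zero, add_zero] at this
          simpa [hLdef, phi] using this
        simp at h0
      · obtain ⟨c0, h0⟩ := hno {k, l} (Finset.card_pair hkl)
        refine ⟨c0, fun h => h0 ?_⟩
        rw [phi_pair hkl]
        rw [CharTwo.add_eq_zero] at h
        exact h
    have key : ∑ c, chi (L c) * (∑ p, chi (c.1 p)) ^ 2 = 0 := by
      simp only [pow_two, Finset.sum_mul, Finset.mul_sum, ← chi_add]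
      rw [Finset.sum_comm]
      refine Finset.sum_eq_zero fun k _ => ?_
      rw [Finset.sum_comm]
      exact Finset.sum_eq_zero fun l _ => hzero _ _
    have hpos : (0 : ℤ) < ∑ c, chi (L c) * (∑ p, chi (c.1 p)) ^ 2 := by
      have e : ∀ c : ↥Cfsg.golayCode, chi (L c) * (∑ p, chi (c.1 p)) ^ 2 =
          chi ((x c).1 i + (x c).1 j) * (∑ p, chi ((x c).1 p)) ^ 2 := fun c => by
        rw [hS c]
        simp only [hLdef, phi_pair hij]
      rw [Finset.sum_congr rfl fun c _ => e c]
      refine lt_of_lt_of_eq ?_ (Equiv.sum_comp x.toEquiv (fun c : ↥Cfsg.golayCode =>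
          chi (c.1 i + c.1 j) * (∑ p, chi (c.1 p)) ^ 2)).symm
      simp only [pow_two, Finset.sum_mul, Finset.mul_sum, ← chi_add]
      rw [Finset.sum_comm]
      refine Finset.sum_pos' (fun k _ => ?_) ⟨i, Finset.mem_univ _, ?_⟩
      all_goals rw [Finset.sum_comm]
      · refine Finset.sum_nonneg fun l _ => ?_
        by_cases h : ∀ c : ↥Cfsg.golayCode, c.1 i + c.1 j + (c.1 l + c.1 k) = 0
        · exact Finset.sum_nonneg fun c _ => by simp [h c, chi]
        · push Not at h
          obtain ⟨c0, h0⟩ := h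
          rw [sum_chi_eq_zero (fun c : ↥Cfsg.golayCode => c.1 i + c.1 j + (c.1 l + c.1 k))
            (fun a b => by simp only [Submodule.coe_add, Pi.add_apply]; abel) h0]
      · refine Finset.sum_pos' (fun l _ => ?_) ⟨j, Finset.mem_univ _, ?_⟩
        · by_cases h : ∀ c : ↥Cfsg.golayCode, c.1 i + c.1 j + (c.1 l + c.1 i) = 0
          · exact Finset.sum_nonneg fun c _ => by simp [h c, chi]
          · push Not at h
            obtain ⟨c0, h0⟩ := h
            rw [sum_chi_eq_zero (fun c : ↥Cfsg.golayCode => c.1 i + c.1 j + (c.1 l + c.1 i))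
              (fun a b => by simp only [Submodule.coe_add, Pi.add_apply]; abel) h0]
        · have h : ∀ c : ↥Cfsg.golayCode, c.1 i + c.1 j + (c.1 j + c.1 i) = 0 := fun c => by
            rw [add_comm (c.1 j) (c.1 i)]; exact CharTwo.add_self_eq_zero _
          simp only [h, chi, if_true, Finset.sum_const, Finset.card_univ, nsmul_eq_mul, mul_one,
            Nat.cast_pos]
          exact Fintype.card_pos
    omega
  choose! e he2 heφ using hpair
  -- images of pairs respect sums and are injective
  have etri : ∀ i j k : Cfsg.GolayPt, i ≠ j → i ≠ k → j ≠ k → e j k = e i j ∆ e i k := by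
    intro i j k hij hik hjk
    refine phi_injective ?_ fun c hc => ?_
    · have h1 : (e i j ∆ e i k).card ≤ (e i j ∪ e i k).card := Finset.card_le_card symmDiff_le_sup
      have := Finset.card_union_le (e i j) (e i k)
      have := he2 i j hij
      have := he2 i k hik
      have := he2 j k hjk
      omega
    · rw [phi_symmDiff, ← heφ i j hij ⟨c, hc⟩, ← heφ i k hik ⟨c, hc⟩, ← heφ j k hjk ⟨c, hc⟩,
        phi_pair hij, phi_pair hik, phi_pair hjk]
      generalize (x ⟨c, hc⟩).1 i = a
      generalize (x ⟨c, hc⟩).1 j = b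
      generalize (x ⟨c, hc⟩).1 k = d
      revert a b d
      decide
  have einj : ∀ i j k l : Cfsg.GolayPt, i ≠ j → k ≠ l → e i j = e k l →
      ({i, j} : Finset Cfsg.GolayPt) = {k, l} := by
    intro i j k l hij hkl h
    refine phi_injective (by rw [Finset.card_pair hij, Finset.card_pair hkl]; norm_num)
      fun c hc => ?_
    have h1 := heφ i j hij (x.symm ⟨c, hc⟩)
    have h2 := heφ k l hkl (x.symm ⟨c, hc⟩)
    rw [LinearEquiv.apply_symm_apply] at h1 h2
    exact h1.trans ((congrArg (fun T => phi T _) h).trans h2.symm)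
  have hmeet : ∀ i j k : Cfsg.GolayPt, i ≠ j → i ≠ k → j ≠ k → (e i j ∩ e i k).card = 1 := by
    intro i j k hij hik hjk
    have h := congrArg Finset.card (etri i j k hij hik hjk)
    rw [he2 j k hjk, symmDiff_def, Finset.sup_eq_union,
      Finset.card_union_of_disjoint disjoint_sdiff_sdiff] at h
    have h1 := Finset.card_sdiff_add_card_inter (e i j) (e i k)
    have h2 := Finset.card_sdiff_add_card_inter (e i k) (e i j)
    rw [Finset.inter_comm (e i k) (e i j)] at h2
    have := he2 i j hij
    have := he2 i k hik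
    omega
  have htwo : ∀ i : Cfsg.GolayPt, ∃ a b : Cfsg.GolayPt, i ≠ a ∧ i ≠ b ∧ a ≠ b := by
    decide +kernel
  have hstar : ∀ i : Cfsg.GolayPt, ∃ p, ∀ j, i ≠ j → p ∈ e i j := by
    intro i
    obtain ⟨a, b, hia, hib, hab⟩ := htwo i
    obtain ⟨p, hp⟩ := Finset.card_eq_one.mp (hmeet i a b hia hib hab)
    obtain ⟨hpa, hpb⟩ := Finset.mem_inter.mp (hp ▸ Finset.mem_singleton_self p)
    refine ⟨p, fun j hij => ?_⟩
    by_cases hja : j = a
    · exact hja ▸ hpa
    by_cases hjb : j = b
    · exact hjb ▸ hpb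
    by_contra hpj
    obtain ⟨q, hq⟩ := Finset.card_eq_one.mp (hmeet i j a hij hia hja)
    obtain ⟨r, hr⟩ := Finset.card_eq_one.mp (hmeet i j b hij hib hjb)
    obtain ⟨hqj, hqa⟩ := Finset.mem_inter.mp (hq ▸ Finset.mem_singleton_self q)
    obtain ⟨hrj, hrb⟩ := Finset.mem_inter.mp (hr ▸ Finset.mem_singleton_self r)
    have hqb : q ∉ e i b := fun h => hpj (by
      have : q ∈ e i a ∩ e i b := Finset.mem_inter.mpr ⟨hqa, h⟩
      rw [hp, Finset.mem_singleton] at this
      exact this ▸ hqj)
    have hra : r ∉ e i a := fun h => hpj (by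
      have : r ∈ e i a ∩ e i b := Finset.mem_inter.mpr ⟨h, hrb⟩
      rw [hp, Finset.mem_singleton] at this
      exact this ▸ hrj)
    have hqr : q ≠ r := fun h => hra (h ▸ hqa)
    have heq : e i j = e a b := by
      have h1 : ({q, r} : Finset Cfsg.GolayPt) = e i j := Finset.eq_of_subset_of_card_le
        (by simp [Finset.insert_subset_iff, hqj, hrj])
        (by rw [he2 i j hij, Finset.card_pair hqr])
      rw [← h1, etri i a b hia hib hab]
      refine Finset.eq_of_subset_of_card_le ?_ ?_
      · simp [Finset.insert_subset_iff, Finset.mem_symmDiff, hqa, hqb, hra, hrb]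
      · rw [← etri i a b hia hib hab, he2 a b hab, Finset.card_pair hqr]
    have h2 := einj i j a b hij hab heq
    have : i ∈ ({a, b} : Finset Cfsg.GolayPt) := h2 ▸ Finset.mem_insert_self i {j}
    simp [hia, hib] at this
  choose f hf using hstar
  have hsymm : ∀ i j : Cfsg.GolayPt, i ≠ j → e i j = e j i := by
    intro i j hij
    refine phi_injective (by rw [he2 i j hij, he2 j i hij.symm]; norm_num) fun c hc => ?_
    rw [← heφ i j hij ⟨c, hc⟩, ← heφ j i hij.symm ⟨c, hc⟩, Finset.pair_comm]
  have finj : Function.Injective f := by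
    intro i j h
    by_contra hij
    obtain ⟨k, l, hik, hil, hkl⟩ := htwo i
    obtain ⟨m, hjm, him⟩ : ∃ m, j ≠ m ∧ i ≠ m := by
      by_cases hjk : j = k
      · exact ⟨l, hjk ▸ hkl, hil⟩
      · exact ⟨k, hjk, hik⟩
    have h1 : f i ∈ e m i := hsymm i m him ▸ hf i m him
    have h2 : f i ∈ e m j := hsymm j m hjm ▸ h ▸ hf j m hjm
    have h3 : f i ∈ e m i ∆ e m j := etri m i j him.symm hjm.symm hij ▸ hf i j hij
    rcases Finset.mem_symmDiff.mp h3 with h | h
    exacts [h.2 h2, h.2 h1]
  let F : Equiv.Perm Cfsg.GolayPt := Equiv.ofBijective f ((Finite.injective_iff_bijective).mp finj)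
  have hval : ∀ c : ↥Cfsg.golayCode, ∀ i j, (x c).1 i + (x c).1 j = c.1 (f i) + c.1 (f j) := by
    intro c i j
    by_cases hij : i = j
    · subst hij; rw [CharTwo.add_self_eq_zero, CharTwo.add_self_eq_zero]
    rw [← phi_pair hij, heφ i j hij c, ← phi_pair (finj.ne hij)]
    congr 1
    refine (Finset.eq_of_subset_of_card_le ?_ ?_).symm
    · simp only [Finset.insert_subset_iff, Finset.singleton_subset_iff]
      exact ⟨hf i j hij, hsymm j i (Ne.symm hij) ▸ hf j i (Ne.symm hij)⟩
    · rw [he2 i j hij, Finset.card_pair (finj.ne hij)]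
  have hres : ∀ c : ↥Cfsg.golayCode, (x c).1 = (fun p => c.1 (f p)) ∨
      (x c).1 = (fun p => c.1 (f p)) + fun _ => (1 : ZMod 2) := by
    intro c
    have hd : ∀ p, (x c).1 p + c.1 (f p) = (x c).1 none + c.1 (f none) := by
      intro p
      have h := hval c p none
      revert h
      generalize (x c).1 p = a; generalize (x c).1 none = b
      generalize c.1 (f p) = d; generalize c.1 (f none) = d'
      revert a b d d'; decide
    by_cases h0 : (x c).1 none + c.1 (f none) = 0
    · left; funext p; exact CharTwo.add_eq_zero.mp ((hd p).trans h0)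
    · right; funext p
      have h1 := hd p
      revert h0 h1
      simp only [Pi.add_apply]
      generalize (x c).1 p = a; generalize (x c).1 none + c.1 (f none) = b
      generalize c.1 (f p) = d
      revert a b d; decide
  refine ⟨F.symm, ?_, fun c => by simpa [F] using hres c⟩
  -- the permutation preserves the code
  have hmaps : ∀ c ∈ Cfsg.golayCode, (fun p => c (f p)) ∈ Cfsg.golayCode := by
    intro c hc
    rcases hres ⟨c, hc⟩ with h | h
    · exact h ▸ (x ⟨c, hc⟩).2
    · have h1 := Cfsg.golayCode.add_mem (x ⟨c, hc⟩).2 (one_mem : (1 : Word) ∈ golayCode)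
      convert h1 using 1
      rw [h]
      funext p
      simp [add_assoc, CharTwo.add_self_eq_zero]
  refine mem_M24_of_rows fun r hr => ?_
  obtain ⟨w, hw, hwr⟩ := (row_mem_octads hr).1
  refine ⟨fun p => w (f p), hmaps w hw, ?_⟩
  rw [← hwr, ← support₂_comp_symm]
  congr 1

end Cfsg.Agent.S5549
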