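import Cfsg.Statements.S5550
import Cfsg.Agent.Lib.SporStruct.OctadOrbits
import Cfsg.Agent.Lib.Golay.Octads
import Cfsg.Agent.Lib.SporStruct.DodecadOrbits
-- import your own Cfsg.Agent.* helpers here

set_option autoImplicit false
open Cfsg

open scoped Pointwise symmDiff

namespace Cfsg.Agent.S5550

open Cfsg.Agent.Lib Cfsg.Agent.Lib.Golay

local notation "Code" => supports (golayCode : Set (GolayPt → ZMod 2))

theorem setOfMask_xor (a b : ℕ) : setOfMask (a ^^^ b) = setOfMask a ∆ setOfMask b := by
  ext p
  simp only [mem_setOfMask, Finset.mem_symmDiff, Nat.testBit_xor]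
  cases a.testBit (idx p) <;> cases b.testBit (idx p) <;> decide

theorem support₂_sub (v w : GolayPt → ZMod 2) : support₂ (v - w) = support₂ v ∆ support₂ w := by
  ext p
  simp only [support₂, Finset.mem_filter, Finset.mem_univ, true_and, Finset.mem_symmDiff,
    Pi.sub_apply]
  generalize v p = x
  generalize w p = y
  revert x y
  decide +kernel

theorem mem_of_support {w : GolayPt → ZMod 2} (h : support₂ w ∈ Code) : w ∈ golayCode := by
  obtain ⟨v, hv, he⟩ := h
  rw [← support₂_injective he]
  exact hv

/-- Every non-zero class of words modulo the code is moved by one of the listed elements. -/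
def movesAll (gens : List ℕ) : Bool :=
  (List.range 4096).all fun u => Nat.beq u 0 ||
    gens.any fun c => !(inCode (SporStruct.PermCodes.imgMask c (u * 4096) ^^^ (u * 4096)))

theorem movesAll_octad : movesAll SporStruct.OctadData.stabGens = true := by decide +kernel

theorem movesAll_dodecad : movesAll SporStruct.DodecadData.stabGens = true := by decide +kernel

theorem mem_code_of_movesAll (gens : List ℕ) (S : Finset GolayPt) (hall : movesAll gens = true)
    (hgens : ∀ c ∈ gens, SporStruct.PermCodes.isM24Code c = true ∧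
      SporStruct.PermCodes.imgMask c (maskOfSet S) = maskOfSet S) {W : Finset GolayPt}
    (h : ∀ σ ∈ M24, σ • S = S → (σ • W) ∆ W ∈ Code) : W ∈ Code := by
  by_contra hW
  set m := maskOfSet W with hm
  have hm24 : m < 2 ^ 24 := SporStruct.Masks.maskOfSet_lt W
  have hk : m % 4096 < 4096 := Nat.mod_lt _ (by norm_num)
  set e := enc (m % 4096) with he
  set m' := m ^^^ e with hm'
  have hm'24 : m' < 2 ^ 24 := Nat.xor_lt_two_pow hm24 (enc_lt hk)
  have hlow : m' % 4096 = 0 := by
    rw [hm', show (4096 : ℕ) = 2 ^ 12 from rfl, Nat.xor_mod_two_pow]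
    rw [show (2 : ℕ) ^ 12 = 4096 from rfl, he, enc_mod hk, Nat.xor_self]
  have hu : m' / 4096 * 4096 = m' := Nat.div_mul_cancel (Nat.dvd_of_mod_eq_zero hlow)
  have hE : setOfMask e ∈ Code := setOfMask_mem_supports (inCode_enc hk)
  have hW' : setOfMask m' = W ∆ setOfMask e := by
    rw [hm', setOfMask_xor, hm, SporStruct.Masks.setOfMask_maskOfSet]
  have h0 : m' / 4096 ≠ 0 := by
    intro h0
    have : m' = 0 := by rw [← hu, h0, zero_mul]
    rw [this, SporStruct.Masks.setOfMask_zero] at hW'
    have := symmDiff_eq_bot.mp (hW'.symm : W ∆ setOfMask e = ⊥)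
    exact hW (this ▸ hE)
  have hall' := List.all_eq_true.mp hall (m' / 4096) (List.mem_range.mpr (by omega))
  simp only [Bool.or_eq_true, Nat.beq_eq, h0, false_or, List.any_eq_true, hu,
    Bool.not_eq_eq_eq_not, Bool.not_true] at hall'
  obtain ⟨c, hc, hmove⟩ := hall'
  obtain ⟨hc24, hcS⟩ := hgens c hc
  have hok := SporStruct.PermCodes.okCode_of_isM24Code hc24
  have hσM := SporStruct.PermCodes.perm_mem hc24
  have hσS : SporStruct.PermCodes.perm c • S = S :=
    SporStruct.Masks.maskOfSet_injective (by rw [SporStruct.PermCodes.maskOfSet_smul hok, hcS])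
  have h1 : (SporStruct.PermCodes.perm c • setOfMask m') ∆ setOfMask m' ∈ Code := by
    rw [hW', Finset.smul_finset_symmDiff, symmDiff_symmDiff_symmDiff_comm]
    exact supports_symmDiff (h _ hσM hσS)
      (supports_symmDiff (SporStruct.PermCodes.smul_supports hσM hE) hE)
  rw [SporStruct.Masks.maskOfSet_mem_iff] at h1
  rw [← Bool.not_eq_true] at hmove
  apply hmove
  convert h1 using 2
  rw [← SporStruct.Masks.setOfMask_maskOfSet (SporStruct.PermCodes.perm c • setOfMask m'), SporStruct.PermCodes.maskOfSet_smul hok,
    SporStruct.Masks.maskOfSet_setOfMask hm'24, ← setOfMask_xor, SporStruct.Masks.maskOfSet_setOfMask]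
  exact Nat.xor_lt_two_pow (by
    rw [← SporStruct.Masks.maskOfSet_setOfMask hm'24, ← SporStruct.PermCodes.maskOfSet_smul hok]
    exact SporStruct.Masks.maskOfSet_lt _) hm'24

/-- Let u be a word of the length-24 binary Golay code of the definitions (possibly zero or all-ones) and w any binary word of length 24 outside the code. Then some automorphism of the code (a coordinate permutation preserving it) fixes u but moves w to a word not congruent to w modulo the code: the stabilizer of a codeword fixes no non-zero element of the quotient of the space of all words by the code. -/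
theorem result (u : (Cfsg.GolayPt → ZMod 2)) (hu : u ∈ Cfsg.golayCode) (w : (Cfsg.GolayPt → ZMod 2)) (hw : w ∉ Cfsg.golayCode) : ∃ σ ∈ Cfsg.M24, (fun p => u (σ.symm p)) = u ∧ (fun p => w (σ.symm p)) - w ∉ Cfsg.golayCode := by
  by_contra hcon
  push Not at hcon
  apply hw
  apply mem_of_support
  set W := support₂ w
  have hS : support₂ u ∈ Code := ⟨u, hu, rfl⟩
  have H : ∀ σ ∈ M24, σ • support₂ u = support₂ u → (σ • W) ∆ W ∈ Code := by
    intro σ hσ hfix
    have h1 := hcon σ hσ (support₂_injective (by rw [SporStruct.PermCodes.support₂_perm, hfix]))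
    refine ⟨_, h1, ?_⟩
    rw [support₂_sub, SporStruct.PermCodes.support₂_perm]
  have hoct : ∀ c ∈ SporStruct.OctadData.stabGens, SporStruct.PermCodes.isM24Code c = true ∧
      SporStruct.PermCodes.imgMask c (maskOfSet SporStruct.OctadOrbits.std) =
        maskOfSet SporStruct.OctadOrbits.std := by
    intro c hc
    have h := SporStruct.OctadOrbits.cert_classes
    simp only [Bool.and_eq_true, List.all_eq_true, Nat.beq_eq] at h
    rw [SporStruct.OctadOrbits.maskOfSet_std]
    exact ⟨h.1.2 c hc, h.2 c hc⟩
  have hdod : ∀ c ∈ SporStruct.DodecadData.stabGens, SporStruct.PermCodes.isM24Code c = true ∧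
      SporStruct.PermCodes.imgMask c (maskOfSet SporStruct.DodecadOrbits.std) =
        maskOfSet SporStruct.DodecadOrbits.std := by
    intro c hc
    have h := SporStruct.DodecadOrbits.cert_classes
    simp only [Bool.and_eq_true, List.all_eq_true, Nat.beq_eq] at h
    rw [SporStruct.DodecadOrbits.maskOfSet_std]
    exact ⟨h.1.2 c hc, h.2 c hc⟩
  -- transport a standard set to `S`
  have transport : ∀ (gens : List ℕ) (S : Finset GolayPt) (g : ↥M24),
      movesAll gens = true → (∀ c ∈ gens, SporStruct.PermCodes.isM24Code c = true ∧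
        SporStruct.PermCodes.imgMask c (maskOfSet S) = maskOfSet S) →
      (∀ σ ∈ M24, σ • (g.1 • S) = g.1 • S → σ • support₂ u = support₂ u) → W ∈ Code := by
    intro gens S g hall hgens hstab
    have h2 : g.1⁻¹ • W ∈ Code := by
      refine mem_code_of_movesAll gens S hall hgens fun τ hτ hτS => ?_
      have hc : g.1 * τ * g.1⁻¹ ∈ M24 := M24.mul_mem (M24.mul_mem g.2 hτ) (M24.inv_mem g.2)
      have h3 := H _ hc (hstab _ hc (by rw [smul_smul, inv_mul_cancel_right, mul_smul, hτS]))
      have h4 := SporStruct.PermCodes.smul_supports (M24.inv_mem g.2) h3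
      rw [Finset.smul_finset_symmDiff, smul_smul] at h4
      convert h4 using 2
      rw [smul_smul]
      group
    have h5 := SporStruct.PermCodes.smul_supports g.2 h2
    rwa [smul_inv_smul] at h5
  rcases card_of_mem_supports hS with h | h | h | h | h
  · refine transport _ _ 1 movesAll_octad hoct fun σ _ _ => ?_
    simp [Finset.card_eq_zero.mp h]
  · obtain ⟨g, hg⟩ := SporStruct.OctadOrbits.exists_smul_std (s := support₂ u) ⟨hS, h⟩
    exact transport _ _ g movesAll_octad hoct fun σ _ hσ => hg ▸ hσ
  · obtain ⟨g, hg⟩ := SporStruct.DodecadOrbits.exists_smul_std (s := support₂ u) ⟨hS, h⟩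
    exact transport _ _ g movesAll_dodecad hdod fun σ _ hσ => hg ▸ hσ
  · have ho : (support₂ u)ᶜ ∈ octads :=
      ⟨SporStruct.Masks.compl_mem_supports hS, by rw [Finset.card_compl, card_golayPt, h]⟩
    obtain ⟨g, hg⟩ := SporStruct.OctadOrbits.exists_smul_std ho
    refine transport _ _ g movesAll_octad hoct fun σ _ hσ => ?_
    rw [show g.1 • SporStruct.OctadOrbits.std = (support₂ u)ᶜ from hg] at hσ
    rw [Finset.compl_eq_univ_sdiff, Finset.smul_finset_sdiff, Finset.smul_finset_univ] at hσ
    simpa using congrArg (fun s => Finset.univ \ s) hσ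
  · refine transport _ _ 1 movesAll_octad hoct fun σ _ _ => ?_
    rw [(Finset.card_eq_iff_eq_univ _).mp (h.trans card_golayPt.symm), Finset.smul_finset_univ]

end Cfsg.Agent.S5550
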