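import Cfsg.Statements.S5551
import Cfsg.Agent.Lib.LeechMod2.MinNorm

set_option autoImplicit false
open Cfsg

namespace Cfsg.Agent.S5551

open Cfsg.Agent.Lib.LeechMod2

/-- In the Leech lattice of the definitions (integer coordinates, minimal squared length 32), let v and w be non-zero lattice vectors of squared length at most 64 that are congruent modulo twice the lattice. Then they have the same squared length, and if that length is less than 64 then w = v or w = −v. (So a class that contains a non-zero vector of squared length at most 64 has a well-defined type 2, 3 or 4, and a class of type 2 or 3 contains no such vector other than v and −v.) -/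
theorem result (v w : Cfsg.GolayPt → ℤ) (hv : v ∈ Cfsg.leechLattice) (hw : w ∈ Cfsg.leechLattice) (hv0 : v ≠ 0) (hw0 : w ≠ 0) (hvn : Cfsg.sqNorm v ≤ 64) (hwn : Cfsg.sqNorm w ≤ 64) (hc : ∃ z ∈ Cfsg.leechLattice, v - w = 2 • z) : Cfsg.sqNorm v = Cfsg.sqNorm w ∧ (Cfsg.sqNorm v < 64 → w = v ∨ w = -v) := by
  obtain ⟨z, hz, hzvw⟩ := hc
  by_cases h1 : z = 0
  · subst h1
    rw [smul_zero, sub_eq_zero] at hzvw
    subst hzvw
    exact ⟨rfl, fun _ => Or.inl rfl⟩
  by_cases h2 : v - z = 0
  · have e : w = -v := by
      rw [sub_eq_zero] at h2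
      subst h2
      rw [two_nsmul, sub_eq_iff_eq_add] at hzvw
      linear_combination -hzvw
    subst e
    exact ⟨(Cfsg.Agent.Lib.Leech.sqNorm_neg v).symm, fun _ => Or.inr rfl⟩
  have n1 := min_norm hz h1
  have n2 := min_norm (leechLattice.sub_mem hv hz) h2
  have key : 4 * sqNorm z + 4 * sqNorm (v - z) = 2 * (sqNorm v + sqNorm w) := by
    simp only [sqNorm, Finset.mul_sum, ← Finset.sum_add_distrib]
    refine Finset.sum_congr rfl fun i _ => ?_
    have hi := congrFun hzvw i
    simp only [Pi.sub_apply, Pi.smul_apply, nsmul_eq_mul, Nat.cast_ofNat] at hi ⊢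
    have : w i = v i - 2 * z i := by linarith
    rw [this]; ring
  exact ⟨by omega, fun h => absurd h (by omega)⟩

end Cfsg.Agent.S5551
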