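import Cfsg.Statements.S5555
import Cfsg.Agent.Lib.Cores.Basic
import Cfsg.Agent.Lib.SU32.Derived

set_option autoImplicit false
open Cfsg

namespace Cfsg.Agent.S5555

/-- Two involutions with product of order at most three generate at most six elements. -/
theorem dihedral_le {G : Type*} [Group G] [Finite G] (u v : G) (hu : u * u = 1) (hv : v * v = 1)
    (h : (u * v) ^ 2 = 1 ∨ (u * v) ^ 3 = 1) : Nat.card (Subgroup.closure {u, v}) ≤ 6 := by
  set w := u * v with hw
  obtain ⟨m, hm, hm0, hwm⟩ : ∃ m, m ≤ 3 ∧ 0 < m ∧ w ^ m = 1 :=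
    h.elim (fun h => ⟨2, by norm_num, by norm_num, h⟩) (fun h => ⟨3, le_rfl, by norm_num, h⟩)
  have hv' : v = u * w := by rw [hw, ← mul_assoc, hu, one_mul]
  have iu : u⁻¹ = u := inv_eq_of_mul_eq_one_right hu
  have iv : v⁻¹ = v := inv_eq_of_mul_eq_one_right hv
  have suw : SemiconjBy u w w⁻¹ := by
    show u * w = w⁻¹ * u
    rw [← hv', hw, mul_inv_rev, iu, iv, mul_assoc, hu, mul_one]
  have wm : w⁻¹ = w ^ (m - 1) := inv_eq_of_mul_eq_one_right (by rw [← pow_succ', Nat.sub_add_cancel hm0, hwm])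
  let f : Fin 3 × Fin 2 → G := fun p => w ^ p.1.val * u ^ p.2.val
  have memf : ∀ i j : ℕ, w ^ i * u ^ j ∈ Set.range f := fun i j =>
    ⟨(⟨i % m, (Nat.mod_lt _ hm0).trans_le hm⟩, ⟨j % 2, Nat.mod_lt _ (by norm_num)⟩), by
      simp only [f]
      rw [← pow_eq_pow_mod i hwm, ← pow_eq_pow_mod j (by rw [pow_two, hu])]⟩
  have Lu : ∀ g ∈ Set.range f, u * g ∈ Set.range f := by
    rintro _ ⟨⟨i, j⟩, rfl⟩
    have : u * f (i, j) = w ^ ((m - 1) * (i : ℕ)) * u ^ ((j : ℕ) + 1) := by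
      simp only [f]
      rw [pow_mul, ← wm, pow_succ' u, ← mul_assoc, ← mul_assoc, (suw.pow_right i).eq]
    rw [this]; exact memf _ _
  have Lw : ∀ g ∈ Set.range f, w * g ∈ Set.range f := by
    rintro _ ⟨⟨i, j⟩, rfl⟩
    have : w * f (i, j) = w ^ ((i : ℕ) + 1) * u ^ (j : ℕ) := by
      simp only [f]; rw [← mul_assoc, ← pow_succ']
    rw [this]; exact memf _ _
  have L : ∀ g ∈ Subgroup.closure {u, v}, g ∈ Set.range f := by
    intro g hg
    induction hg using Subgroup.closure_induction_left with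
    | one => exact ⟨(0, 0), by simp [f]⟩
    | mul_left s hs t _ ih =>
      rcases hs with rfl | rfl
      · exact Lu _ ih
      · rw [hv', mul_assoc]; exact Lu _ (Lw _ ih)
    | inv_mul_cancel s hs t _ ih =>
      rcases hs with rfl | rfl
      · rw [iu]; exact Lu _ ih
      · rw [iv, hv', mul_assoc]; exact Lu _ (Lw _ ih)
  calc Nat.card (Subgroup.closure {u, v}) ≤ Nat.card (Set.range f) :=
        Nat.card_le_card_of_injective (fun g => (⟨g.1, L g.1 g.2⟩ : Set.range f))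
          (fun p q h => Subtype.ext (Subtype.mk.inj h))
    _ ≤ Nat.card (Fin 3 × Fin 2) := Finite.card_range_le f
    _ = 6 := by simp

/-- Three involutions with the pairwise products and `a * (b c b)` of order dividing three generate at most 54 elements. -/
theorem card_closure_le {G : Type*} [Group G] [Finite G] (a b c : G) (ha : a * a = 1) (hb : b * b = 1) (hc : c * c = 1)
    (hab : (a * b) ^ 3 = 1) (hac : (a * c) ^ 3 = 1) (hbc : (b * c) ^ 3 = 1)
    (habcb : (a * (b * c * b)) ^ 3 = 1) : Nat.card (Subgroup.closure {a, b, c}) ≤ 54 := by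
  have ia : a⁻¹ = a := inv_eq_of_mul_eq_one_right ha
  have ib : b⁻¹ = b := inv_eq_of_mul_eq_one_right hb
  have ic : c⁻¹ = c := inv_eq_of_mul_eq_one_right hc
  set x := a * b with hxdef
  set y := a * c with hydef
  have hb' : b = a * x := by rw [hxdef, ← mul_assoc, ha, one_mul]
  have hc' : c = a * y := by rw [hydef, ← mul_assoc, ha, one_mul]
  have ax : a * x * a = x⁻¹ := by rw [← hb', hxdef, mul_inv_rev, ib, ia]
  have ay : a * y * a = y⁻¹ := by rw [← hc', hydef, mul_inv_rev, ic, ia]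
  have x3 : x ^ 3 = 1 := hab
  have y3 : y ^ 3 = 1 := hac
  have d3 : (x⁻¹ * y) ^ 3 = 1 := by
    have : x⁻¹ * y = b * c := by rw [hxdef, hydef, mul_inv_rev, ib, ia, mul_assoc, ← mul_assoc a a, ha, one_mul]
    rw [this]; exact hbc
  have xx : x * x = x⁻¹ := eq_inv_of_mul_eq_one_left (by rw [← pow_two, ← pow_succ, x3])
  have yy : y * y = y⁻¹ := eq_inv_of_mul_eq_one_left (by rw [← pow_two, ← pow_succ, y3])
  have s3 : (x * y) ^ 3 = 1 := by
    have h1 : a * (b * c * b) = x * (y⁻¹ * x⁻¹) * x⁻¹ := by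
      rw [mul_assoc x, mul_assoc y⁻¹, ← mul_inv_rev x x, xx, inv_inv, hxdef, hydef, mul_inv_rev, ic, ia]
      simp only [mul_assoc]
      rw [← mul_assoc a a, ha, one_mul]
    rw [h1, conj_pow] at habcb
    have h2 : (y⁻¹ * x⁻¹) ^ 3 = 1 := by
      rwa [mul_inv_eq_one, mul_eq_left] at habcb
    rwa [← mul_inv_rev, inv_pow, inv_eq_one] at h2
  have R1 : x * y * x = y⁻¹ * x⁻¹ * y⁻¹ := by
    calc x * y * x = (x * y) ^ 3 * (y⁻¹ * x⁻¹ * y⁻¹) := by simp [pow_succ, mul_assoc]
      _ = _ := by rw [s3, one_mul]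
  have R1' : x⁻¹ * y⁻¹ * x⁻¹ = y * x * y := by
    have := congrArg (·⁻¹) R1
    simpa [mul_assoc] using this
  have R2 : x⁻¹ * y * x⁻¹ = y⁻¹ * x * y⁻¹ := by
    calc x⁻¹ * y * x⁻¹ = (x⁻¹ * y) ^ 3 * (y⁻¹ * x * y⁻¹) := by simp [pow_succ, mul_assoc]
      _ = _ := by rw [d3, one_mul]
  have xx' : x⁻¹ * x⁻¹ = x := by rw [← mul_inv_rev, xx, inv_inv]
  have yy' : y⁻¹ * y⁻¹ = y := by rw [← mul_inv_rev, yy, inv_inv]
  set z := x * y * x⁻¹ * y⁻¹ with hz
  have hzy : z = y⁻¹ * z * y := by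
    calc z = (x * y * x) * x * y⁻¹ := by rw [mul_assoc (x * y) x x, xx]
      _ = y⁻¹ * x⁻¹ * (y⁻¹ * x * y⁻¹) := by rw [R1]; simp only [mul_assoc]
      _ = y⁻¹ * (x⁻¹ * x⁻¹) * (y * x⁻¹) := by rw [← R2]; simp only [mul_assoc]
      _ = y⁻¹ * z * y := by rw [xx', hz]; simp [mul_assoc]
  have zy : Commute z y := by
    calc z * y = y * (y⁻¹ * z * y) := by group
      _ = y * z := by rw [← hzy]
  have hzx : x * z * x⁻¹ = z := by
    calc x * z * x⁻¹ = (x * x) * y * x⁻¹ * y⁻¹ * x⁻¹ := by rw [hz]; simp only [mul_assoc]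
      _ = (x⁻¹ * y * x⁻¹) * y⁻¹ * x⁻¹ := by rw [xx]
      _ = y⁻¹ * x * (y⁻¹ * y⁻¹) * x⁻¹ := by rw [R2]; simp only [mul_assoc]
      _ = y⁻¹ * z * y := by rw [yy', hz]; simp [mul_assoc]
      _ = z := hzy.symm
  have zx : Commute z x := by
    calc z * x = x * z * x⁻¹ * x := by rw [hzx]
      _ = x * z := by group
  have hz' : x⁻¹ * y⁻¹ * x * y = z := by
    calc x⁻¹ * y⁻¹ * x * y = x⁻¹ * (y * y) * x * y := by rw [yy]
      _ = x⁻¹ * y * (x⁻¹ * y⁻¹ * x⁻¹) := by rw [R1']; simp only [mul_assoc]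
      _ = (x * x) * y * x⁻¹ * y⁻¹ * x⁻¹ := by rw [xx]; simp only [mul_assoc]
      _ = x * z * x⁻¹ := by rw [hz]; simp only [mul_assoc]
      _ = z := hzx
  have za : Commute z a := by
    have e : a * z * a = z := by
      calc a * z * a = (a * x * a) * (a * y * a) * (a * x * a)⁻¹ * (a * y * a)⁻¹ := by
            rw [hz]; simp only [mul_inv_rev, ia, mul_assoc]
            simp only [← mul_assoc a a, ha, one_mul]
        _ = x⁻¹ * y⁻¹ * x * y := by rw [ax, ay, inv_inv, inv_inv]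
        _ = z := hz'
    calc z * a = a * z * a * a := by rw [e]
      _ = a * z := by rw [mul_assoc, ha, mul_one]
  have xyz : SemiconjBy x y (z * y) := by
    show x * y = z * y * x
    rw [hz]; simp [mul_assoc]
  have z3 : z ^ 3 = 1 := by
    have h := xyz.pow_right 3
    rw [y3, zy.mul_pow, y3, mul_one] at h
    have h' : x * 1 = z ^ 3 * x := h
    rw [mul_one] at h'
    exact mul_eq_right.1 h'.symm
  have sax : SemiconjBy a x x⁻¹ := by
    show a * x = x⁻¹ * a
    rw [← ax, mul_assoc (a * x), ha, mul_one]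
  have say : SemiconjBy a y y⁻¹ := by
    show a * y = y⁻¹ * a
    rw [← ay, mul_assoc (a * y), ha, mul_one]
  let f : Fin 3 × Fin 3 × Fin 3 × Fin 2 → G :=
    fun p => z ^ p.1.val * y ^ p.2.1.val * x ^ p.2.2.1.val * a ^ p.2.2.2.val
  have a2 : a ^ 2 = 1 := by rw [pow_two, ha]
  have memf : ∀ i j k l : ℕ, z ^ i * y ^ j * x ^ k * a ^ l ∈ Set.range f := fun i j k l =>
    ⟨(⟨i % 3, Nat.mod_lt _ (by norm_num)⟩, ⟨j % 3, Nat.mod_lt _ (by norm_num)⟩,
      ⟨k % 3, Nat.mod_lt _ (by norm_num)⟩, ⟨l % 2, Nat.mod_lt _ (by norm_num)⟩), by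
        simp only [f]
        rw [← pow_eq_pow_mod i z3, ← pow_eq_pow_mod j y3, ← pow_eq_pow_mod k x3, ← pow_eq_pow_mod l a2]⟩
  have La : ∀ g ∈ Set.range f, a * g ∈ Set.range f := by
    rintro _ ⟨⟨i, j, k, l⟩, rfl⟩
    have : a * f (i, j, k, l) = z ^ (i : ℕ) * y ^ (2 * (j : ℕ)) * x ^ (2 * (k : ℕ)) * a ^ ((l : ℕ) + 1) := by
      simp only [f]
      rw [pow_mul y, pow_mul x, pow_two y, yy, pow_two x, xx, pow_succ' a]
      simp only [← mul_assoc]
      rw [← (za.pow_left i).eq, mul_assoc (z ^ (i : ℕ)) a, (say.pow_right j).eq, ← mul_assoc,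
        mul_assoc (z ^ (i : ℕ) * (y⁻¹) ^ (j : ℕ)) a, (sax.pow_right k).eq, ← mul_assoc]
    rw [this]; exact memf _ _ _ _
  have Ly : ∀ g ∈ Set.range f, y * g ∈ Set.range f := by
    rintro _ ⟨⟨i, j, k, l⟩, rfl⟩
    have : y * f (i, j, k, l) = z ^ (i : ℕ) * y ^ ((j : ℕ) + 1) * x ^ (k : ℕ) * a ^ (l : ℕ) := by
      simp only [f]
      rw [pow_succ' y]
      simp only [← mul_assoc]
      rw [← (zy.pow_left i).eq]
    rw [this]; exact memf _ _ _ _
  have Lx : ∀ g ∈ Set.range f, x * g ∈ Set.range f := by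
    rintro _ ⟨⟨i, j, k, l⟩, rfl⟩
    have : x * f (i, j, k, l) = z ^ ((i : ℕ) + (j : ℕ)) * y ^ (j : ℕ) * x ^ ((k : ℕ) + 1) * a ^ (l : ℕ) := by
      simp only [f]
      rw [pow_succ' x, pow_add z]
      simp only [← mul_assoc]
      rw [← (zx.pow_left i).eq, mul_assoc (z ^ (i : ℕ)) x, (xyz.pow_right j).eq, zy.mul_pow]
      simp only [← mul_assoc]
    rw [this]; exact memf _ _ _ _
  have L : ∀ g ∈ Subgroup.closure {a, b, c}, g ∈ Set.range f := by
    intro g hg
    induction hg using Subgroup.closure_induction_left with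
    | one => exact ⟨(0, 0, 0, 0), by simp [f]⟩
    | mul_left s hs w _ ih =>
      rcases hs with rfl | rfl | rfl
      · exact La _ ih
      · rw [hb', mul_assoc]; exact La _ (Lx _ ih)
      · rw [hc', mul_assoc]; exact La _ (Ly _ ih)
    | inv_mul_cancel s hs w _ ih =>
      rcases hs with rfl | rfl | rfl
      · rw [ia]; exact La _ ih
      · rw [ib, hb', mul_assoc]; exact La _ (Lx _ ih)
      · rw [ic, hc', mul_assoc]; exact La _ (Ly _ ih)
  calc Nat.card (Subgroup.closure {a, b, c}) ≤ Nat.card (Set.range f) :=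
        Nat.card_le_card_of_injective (fun g => (⟨g.1, L g.1 g.2⟩ : Set.range f))
          (fun p q h => Subtype.ext (Subtype.mk.inj h))
    _ ≤ Nat.card (Fin 3 × Fin 3 × Fin 3 × Fin 2) := Finite.card_range_le f
    _ = 54 := by simp

/-- Let G be a finite group generated by a conjugacy class D of 3-transpositions, with trivial centre and with generalized Fitting subgroup F*(G) = O₂(G) (so the Fitting subgroup is O₂(G) too). If G/O₂(G) is isomorphic to the derived group of SU₃(2) (the group of order 54 generated by nine 3-transpositions), then O₂(G) has a complement in G. -/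
theorem result {G : Type*} [Group G] [Finite G] {D : Set G} (hD : Cfsg.IsThreeTranspositionClass D)
    (hZ : Subgroup.center G = ⊥) (hF : Cfsg.generalizedFittingSubgroup G = Cfsg.pCore 2 G)
    (hq : ∃ (F : Type) (_ : Field F) (_ : Fintype F), Fintype.card F = 4 ∧ Nonempty (G ⧸ Cfsg.pCore 2 G ≃* ↥(commutator ↥(Cfsg.SU 3 F 2)))) :
    ∃ K : Subgroup G, (Cfsg.pCore 2 G).IsComplement' K := by
  obtain ⟨F, iF, iF', hF, ⟨e⟩⟩ := hq
  obtain ⟨hcard, A₀, B₀, C₀, hA, hB, hC, hgen⟩ := Cfsg.Agent.Lib.SU32.Derived.derived F hF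
  obtain ⟨⟨hord, hprod⟩, ⟨d, hd, hD'⟩, hDgen⟩ := hD
  set Q := Cfsg.pCore 2 G with hQdef
  have hcl : ∀ g, ∀ u ∈ D, g * u * g⁻¹ ∈ D := by
    intro g u hu
    rw [hD'] at hu ⊢
    exact IsConj.trans hu (isConj_iff.2 ⟨g, rfl⟩)
  have conjd : ∀ w ∈ D, ∃ k, k * d * k⁻¹ = w := fun w hw => isConj_iff.1 (by rw [hD'] at hw; exact hw)
  have sq : ∀ w ∈ D, w * w = 1 := fun w hw => by
    have := pow_orderOf_eq_one w
    rwa [hord w hw, pow_two] at this
  have hQcard : Nat.card (G ⧸ Q) = 54 := (Nat.card_congr e.toEquiv).trans hcard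
  let π := QuotientGroup.mk' Q
  have hdQ : π d ≠ 1 := by
    intro h
    have hle : ∀ g, π g = 1 := by
      intro g
      have hg : g ∈ Subgroup.closure D := by rw [hDgen]; trivial
      apply (Subgroup.closure_le π.ker).2 _ hg
      intro u hu
      obtain ⟨k, rfl⟩ := conjd u hu
      simp [MonoidHom.mem_ker, h]
    have : Subsingleton (G ⧸ Q) := ⟨fun p q => by
      obtain ⟨p, rfl⟩ := QuotientGroup.mk'_surjective Q p
      obtain ⟨q, rfl⟩ := QuotientGroup.mk'_surjective Q q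
      rw [hle p, hle q]⟩
    have := Nat.card_of_subsingleton (1 : G ⧸ Q)
    omega
  have hd2 : orderOf (π d) = 2 := orderOf_eq_prime (by
    rw [pow_two, ← map_mul, sq d hd, map_one]) hdQ
  have hπ : ∀ w ∈ D, π w ≠ 1 := by
    intro w hw h
    obtain ⟨k, rfl⟩ := conjd w hw
    simp at h
    exact hdQ h
  haveI : Fact (Nat.Prime 2) := ⟨Nat.prime_two⟩
  haveI : Finite (G ⧸ Q) := inferInstance
  -- involutions of the quotient are images of transpositions
  have lift : ∀ t : G ⧸ Q, orderOf t = 2 → ∃ u ∈ D, π u = t := by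
    intro t ht
    have hs : ∀ s : G ⧸ Q, orderOf s = 2 → ∃ P : Sylow 2 (G ⧸ Q), (P : Subgroup (G ⧸ Q)) = Subgroup.zpowers s := by
      intro s h2
      have hp : IsPGroup 2 (Subgroup.zpowers s) := IsPGroup.of_card (n := 1) (by rw [Nat.card_zpowers, h2, pow_one])
      obtain ⟨P, hP⟩ := hp.exists_le_sylow
      refine ⟨P, (Subgroup.eq_of_le_of_card_ge hP ?_).symm⟩
      rw [Nat.card_zpowers, h2, P.card_eq_multiplicity, hQcard]
      have : (Nat.factorization 54) 2 = 1 := by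
        rw [show (54 : ℕ) = 2 * 3 ^ 3 by norm_num, Nat.factorization_mul (by norm_num) (by norm_num),
          Nat.prime_two.factorization, Nat.Prime.factorization_pow (by norm_num : Nat.Prime 3)]
        simp
      rw [this]; norm_num
    obtain ⟨P, hP⟩ := hs _ hd2
    obtain ⟨P', hP'⟩ := hs _ ht
    obtain ⟨g, hg⟩ := MulAction.exists_smul_eq (G ⧸ Q) P P'
    have hmem : g * π d * g⁻¹ ∈ (P' : Subgroup (G ⧸ Q)) := by
      rw [← hg, Sylow.coe_subgroup_smul]
      exact Subgroup.smul_mem_pointwise_smul _ (MulAut.conj g) _ (by rw [hP]; exact Subgroup.mem_zpowers _)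
    rw [hP', Subgroup.mem_zpowers_iff] at hmem
    obtain ⟨n, hn⟩ := hmem
    obtain ⟨g', rfl⟩ := QuotientGroup.mk'_surjective Q g
    refine ⟨g' * d * g'⁻¹, hcl g' d hd, ?_⟩
    rw [map_mul, map_mul, map_inv, ← hn]
    have t2 : t * t = 1 := by
      have := pow_orderOf_eq_one t
      rwa [ht, pow_two] at this
    rcases Int.even_or_odd n with ⟨k, rfl⟩ | ⟨k, rfl⟩
    · exfalso
      rw [zpow_add, ← (Commute.refl t).mul_zpow, t2, one_zpow] at hn
      exact hdQ (conj_eq_one_iff.1 hn.symm)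
    · have : t ^ (2 : ℤ) = 1 := by rw [zpow_ofNat, pow_two, t2]
      rw [zpow_add_one, zpow_mul, this, one_zpow, one_mul]
  have nocomm : ∀ u ∈ D, ∀ v ∈ D, π u ≠ π v → (u * v) ^ 3 = 1 := by
    intro u hu v hv hne
    refine (hprod u hu v hv).resolve_left fun h2 => ?_
    have u2 := sq u hu
    have v2 := sq v hv
    have hc : π u * π v = π v * π u := by
      rw [pow_two] at h2
      rw [← map_mul, ← map_mul]
      congr 1
      calc u * v = (u * v) * ((u * v) * (u * v))⁻¹ := by rw [h2, inv_one, mul_one]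
        _ = v⁻¹ * u⁻¹ := by group
        _ = v * u := by rw [inv_eq_of_mul_eq_one_right u2, inv_eq_of_mul_eq_one_right v2]
    have p2 : π u * π u = 1 := by rw [← map_mul, u2, map_one]
    have q2 : π v * π v = 1 := by rw [← map_mul, v2, map_one]
    let T : Subgroup (G ⧸ Q) :=
      { carrier := {1, π u, π v, π u * π v}
        one_mem' := by simp
        mul_mem' := by
          intro p q hp hq
          have e1 : ∀ w, π u * (π u * w) = w := fun w => by rw [← mul_assoc, p2, one_mul]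
          have e2 : ∀ w, π v * (π v * w) = w := fun w => by rw [← mul_assoc, q2, one_mul]
          have e3 : π v * π u = π u * π v := hc.symm
          have e4 : π v * (π u * π v) = π u := by rw [← mul_assoc, e3, mul_assoc, q2, mul_one]
          rcases hp with rfl | rfl | rfl | rfl <;> rcases hq with rfl | rfl | rfl | rfl <;>
            simp [mul_assoc, p2, q2, e1, e2, e3, e4]
        inv_mem' := by
          intro p hp
          have i1 : (π u)⁻¹ = π u := inv_eq_of_mul_eq_one_right p2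
          have i2 : (π v)⁻¹ = π v := inv_eq_of_mul_eq_one_right q2
          rcases hp with rfl | rfl | rfl | rfl <;> simp [i1, i2, hc] }
    have h4 : Nat.card T = 4 := by
      show Nat.card ↥({1, π u, π v, π u * π v} : Set (G ⧸ Q)) = 4
      rw [Nat.card_coe_set_eq]
      have a1 := hπ u hu
      have a2 := hπ v hv
      have a3 : π u * π v ≠ 1 := fun h => hne (by
        calc π u = π u * (π v * π v) := by rw [q2, mul_one]
          _ = π v := by rw [← mul_assoc, h, one_mul])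
      have a4 : π u ≠ π u * π v := fun h => a2 (mul_eq_left.1 h.symm)
      have a5 : π v ≠ π u * π v := fun h => a1 (mul_eq_right.1 h.symm)
      rw [Set.ncard_insert_of_notMem (by simp [a1.symm, a2.symm, a3.symm]),
        Set.ncard_insert_of_notMem (by simp [hne, a4]), Set.ncard_pair a5]
    have := Subgroup.card_subgroup_dvd_card T
    rw [h4, hQcard] at this
    norm_num at this
  have hA2 : ∀ X : ↥(Cfsg.SU 3 F 2), X ∈ commutator ↥(Cfsg.SU 3 F 2) → orderOf X = 2 →
      ∃ u ∈ D, ((e (π u)) : ↥(Cfsg.SU 3 F 2)) = X := by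
    intro X hX h2
    obtain ⟨u, hu, hu'⟩ := lift (e.symm ⟨X, hX⟩) (by rw [MulEquiv.orderOf_eq, ← Subgroup.orderOf_coe]; exact h2)
    exact ⟨u, hu, by rw [hu', e.apply_symm_apply]⟩
  have hsub : ∀ X ∈ ({A₀, B₀, C₀} : Set ↥(Cfsg.SU 3 F 2)), X ∈ commutator ↥(Cfsg.SU 3 F 2) := fun X hX =>
    hgen ▸ Subgroup.subset_closure hX
  obtain ⟨a, haD, ha⟩ := hA2 A₀ (hsub _ (by simp)) hA
  obtain ⟨b, hbD, hb⟩ := hA2 B₀ (hsub _ (by simp)) hB
  obtain ⟨c, hcD, hc⟩ := hA2 C₀ (hsub _ (by simp)) hC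
  set K := Subgroup.closure ({a, b, c} : Set G) with hK
  -- K maps onto the quotient
  let ψ : G →* ↥(Cfsg.SU 3 F 2) := (commutator ↥(Cfsg.SU 3 F 2)).subtype.comp (e.toMonoidHom.comp π)
  have hψ : K.map ψ = commutator ↥(Cfsg.SU 3 F 2) := by
    rw [hK, MonoidHom.map_closure, ← hgen]
    simp [ψ, Set.image_insert_eq, ha, hb, hc]
  have onto : ∀ g : G, ∃ k ∈ K, π k = π g := by
    intro g
    have : ψ g ∈ K.map ψ := by rw [hψ]; exact (e (π g)).2
    obtain ⟨k, hk, hk'⟩ := this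
    exact ⟨k, hk, e.injective (Subtype.ext hk')⟩
  have big : 54 ≤ Nat.card K := by
    rw [← hQcard]
    exact Nat.card_le_card_of_surjective (fun k : K => π k) (fun q => by
      obtain ⟨g, rfl⟩ := QuotientGroup.mk'_surjective Q q
      obtain ⟨k, hk, hk'⟩ := onto g
      exact ⟨⟨k, hk⟩, hk'⟩)
  have pair : ∀ u ∈ D, ∀ v ∈ D, A₀ ∈ Subgroup.closure {ψ u, ψ v} → B₀ ∈ Subgroup.closure {ψ u, ψ v} →
      C₀ ∈ Subgroup.closure {ψ u, ψ v} → False := by
    intro u hu v hv m1 m2 m3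
    have hle : commutator ↥(Cfsg.SU 3 F 2) ≤ (Subgroup.closure {u, v}).map ψ := by
      rw [← hgen, Subgroup.closure_le, MonoidHom.map_closure]
      simp only [Set.image_insert_eq, Set.image_singleton]
      rintro x (rfl | rfl | rfl)
      exacts [m1, m2, m3]
    have h1 := Subgroup.card_le_of_le hle
    have h2 : Nat.card ((Subgroup.closure {u, v}).map ψ) ≤ Nat.card (Subgroup.closure ({u, v} : Set G)) :=
      Nat.le_of_dvd Nat.card_pos (Subgroup.card_map_dvd _ _)
    have h3 := dihedral_le u v (sq u hu) (sq v hv) (hprod u hu v hv)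
    omega
  have pa : ψ a = A₀ := ha
  have pb : ψ b = B₀ := hb
  have pc : ψ c = C₀ := hc
  have mem1 : ∀ {x y : ↥(Cfsg.SU 3 F 2)}, x ∈ Subgroup.closure {x, y} := Subgroup.subset_closure (Or.inl rfl)
  have mem2 : ∀ {x y : ↥(Cfsg.SU 3 F 2)}, y ∈ Subgroup.closure {x, y} := Subgroup.subset_closure (Or.inr rfl)
  have cong : ∀ {u v}, π u = π v → ψ u = ψ v := fun h => by simp [ψ, h]
  have n1 : π a ≠ π b := fun h => pair a haD c hcD (pa ▸ mem1) (by rw [← pb, ← cong h]; exact mem1) (pc ▸ mem2)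
  have n2 : π a ≠ π c := fun h => pair a haD b hbD (pa ▸ mem1) (pb ▸ mem2) (by rw [← pc, ← cong h]; exact mem1)
  have n3 : π b ≠ π c := fun h => pair a haD b hbD (pa ▸ mem1) (pb ▸ mem2) (by rw [← pc, ← cong h]; exact mem2)
  have n4 : π a ≠ π (b * c * b) := fun h => pair b hbD c hcD
    (by rw [← pa, cong h, map_mul, map_mul]; exact mul_mem (mul_mem mem1 mem2) mem1) (pb ▸ mem1) (pc ▸ mem2)
  have hbcb : b * c * b ∈ D := by
    have := hcl b c hcD
    rwa [inv_eq_of_mul_eq_one_right (sq b hbD)] at this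
  have small : Nat.card K ≤ 54 := card_closure_le a b c (sq a haD) (sq b hbD) (sq c hcD)
    (nocomm a haD b hbD n1) (nocomm a haD c hcD n2) (nocomm b hbD c hcD n3) (nocomm a haD _ hbcb n4)
  refine ⟨K, ?_⟩
  have hidx : Nat.card Q * Nat.card K = Nat.card G := by
    rw [Subgroup.card_eq_card_quotient_mul_card_subgroup Q, hQcard, le_antisymm small big, mul_comm]
  refine Subgroup.isComplement'_of_card_mul_and_disjoint hidx ?_
  rw [disjoint_iff, eq_bot_iff]
  intro q hq
  have hbij : Function.Bijective (fun k : K => π k) := by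
    refine (Nat.bijective_iff_surjective_and_card _).2 ⟨fun p => ?_, by rw [hQcard]; omega⟩
    obtain ⟨g, rfl⟩ := QuotientGroup.mk'_surjective Q p
    obtain ⟨k, hk, hk'⟩ := onto g
    exact ⟨⟨k, hk⟩, hk'⟩
  have hπq : π q = 1 := (QuotientGroup.eq_one_iff q).2 hq.1
  have := hbij.1 (a₁ := ⟨q, hq.2⟩) (a₂ := 1) (by simp [hπq])
  exact Subgroup.mem_bot.2 (congrArg Subtype.val this)

end Cfsg.Agent.S5555
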