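import Cfsg.Statements.S5558
import Cfsg.Agent.Lib.ThreeTranspositions.UniqueClass
import Cfsg.Agent.Lib.Components.GenFitting
-- import your own Cfsg.Agent.* helpers here

set_option autoImplicit false
open Cfsg

namespace Cfsg.Agent.S5558

/-- Let G be a finite group generated by a conjugacy class D of 3-transpositions, with trivial centre and with generalized Fitting subgroup F*(G) = O₂(G) (so the Fitting subgroup is O₂(G) too). If moreover O₂(G) is elementary abelian, then D is the only conjugacy class of 3-transpositions generating G. -/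
theorem result {G : Type*} [Group G] [Finite G] {D : Set G} (hD : Cfsg.IsThreeTranspositionClass D)
    (hZ : Subgroup.center G = ⊥) (hF : Cfsg.generalizedFittingSubgroup G = Cfsg.pCore 2 G)
    (hV : Cfsg.IsElementaryAbelian 2 (Cfsg.pCore 2 G)) :
    ∀ E : Set G, Cfsg.IsThreeTranspositionClass E → E = D := by
  haveI : IsMulCommutative ↥(Cfsg.pCore 2 G) := hV.1
  haveI : (Cfsg.pCore 2 G).Normal := Subgroup.sSup_normal _ (fun _ h => h.1)
  have hB : Cfsg.Agent.Lib.ThreeTranspositions.UniqueOp.Base (Cfsg.pCore 2 G) :=
    { sq := fun v hv => by rw [← pow_two]; exact hV.2 v hv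
      cent := by rw [← hF]; exact Cfsg.Agent.Lib.Components.GenFitting.centralizer_le
      core := fun W hn hp => @Cfsg.Agent.Lib.Cores.le_pCore G _ 2 W hn hp
      trivialCenter := hZ }
  exact fun E hE => Cfsg.Agent.Lib.ThreeTranspositions.UniqueClass.classes_eq hB hD hE

end Cfsg.Agent.S5558
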