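import Cfsg.Statements.S5559
import Cfsg.Agent.S5555
import Cfsg.Agent.Lib.ThreeTranspositions.UniqueOp
import Cfsg.Agent.Lib.ThreeTranspositions.TwoThreeTwo
import Cfsg.Agent.Lib.Components.GenFitting
import Cfsg.Agent.Lib.PGroups.Frattini
import Cfsg.Agent.Lib.FStarTools.FrattiniQuotient
-- import your own Cfsg.Agent.* helpers here

set_option autoImplicit false
open Cfsg

namespace Cfsg.Agent.S5559

open Cfsg.Agent.Lib Cfsg.Agent.Lib.ThreeTranspositions
open Cfsg.Agent.Lib.ThreeTranspositions.TwoThreeTwo (Data nrm graph_iso)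
open Cfsg.Agent.Lib.ThreeTranspositions.UniqueOp
  (commGroupV Mo Op op nop elt elt_mem elt_inj exists_vec elt_op elt_nop elt_one_apply elt_zero)
open scoped commutatorElement

attribute [local instance] commGroupV

/-- A 2-group generated by the conjugates of one element is generated by it. -/
theorem two_group_cyclic {G : Type*} [Group G] [Finite G] (hG : IsPGroup 2 G) (d : G)
    (h : ∀ K : Subgroup G, (∀ g, g * d * g⁻¹ ∈ K) → K = ⊤) : Subgroup.zpowers d = ⊤ := by
  haveI : Fact (Nat.Prime 2) := ⟨Nat.prime_two⟩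
  rw [Subgroup.zpowers_eq_closure]
  refine PGroups.closure_eq_top_of_sup_frattini (h _ fun g => ?_)
  have hc := PGroups.commutatorElement_mem_frattini hG g d
  rw [show g * d * g⁻¹ = ⁅g, d⁆ * d by rw [commutatorElement_def]; group]
  exact Subgroup.mul_mem _ (Subgroup.mem_sup_right hc) (Subgroup.mem_sup_left (Subgroup.subset_closure rfl))

variable {H : Type*} [Group H] [Finite H]

/-- The operators of the quotient by the 2-core on its Frattini quotient. -/
theorem exists_data {E : Set H} (hE : Cfsg.IsThreeTranspositionClass E)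
    (hE2 : ∃ a ∈ E, ∃ b ∈ E, a ≠ b) (hF : Cfsg.generalizedFittingSubgroup H = Cfsg.pCore 2 H)
    (h232 : ∃ P : Sylow 3 (H ⧸ Cfsg.pCore 2 H), (P : Subgroup (H ⧸ Cfsg.pCore 2 H)).Normal ∧
      ∃ k : ℕ, (P : Subgroup (H ⧸ Cfsg.pCore 2 H)).index = 2 ^ k) :
    ∃ (V : Subgroup (H ⧸ (frattini ↥(pCore 2 H)).map (pCore 2 H).subtype)) (_ : V.Normal)
      (_ : IsMulCommutative V), Nonempty (Data (H ⧸ Cfsg.pCore 2 H) (Op V)) := by
  classical
  haveI : Fact (Nat.Prime 2) := ⟨Nat.prime_two⟩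
  haveI : Fact (Nat.Prime 3) := ⟨Nat.prime_three⟩
  set O := pCore 2 H with hO
  have hOp : IsPGroup 2 O := Cores.pCore_isPGroup 2
  set N := (frattini ↥O).map O.subtype with hN
  haveI : N.Normal := Cores.normal_map_subtype O (frattini ↥O)
  have hNO : N ≤ O := Subgroup.map_subtype_le _
  set ρ := QuotientGroup.mk' N with hρ
  have hρs : Function.Surjective ρ := QuotientGroup.mk'_surjective N
  set V := O.map ρ with hVdef
  haveI hVn : V.Normal := Subgroup.Normal.map inferInstance ρ hρs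
  have hin : ∀ x : ↥O, x ∈ frattini ↥O → ρ (x : H) = 1 := fun x hx =>
    (QuotientGroup.eq_one_iff _).2 ⟨x, hx, rfl⟩
  haveI hVc : IsMulCommutative V := ⟨⟨by
    rintro ⟨_, x, hx, rfl⟩ ⟨_, y, hy, rfl⟩
    apply Subtype.ext
    show ρ x * ρ y = ρ y * ρ x
    rw [← commutatorElement_eq_one_iff_mul_comm, ← map_commutatorElement]
    exact hin ⁅(⟨x, hx⟩ : O), ⟨y, hy⟩⁆ (PGroups.commutatorElement_mem_frattini hOp _ _)⟩⟩
  have hsq : ∀ v ∈ V, v * v = 1 := by
    rintro _ ⟨x, hx, rfl⟩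
    rw [← map_mul, ← pow_two]
    exact hin (⟨x, hx⟩ ^ 2 : O) (PGroups.pow_mem_frattini hOp _)
  let τ : H →* Op V := (op (V := V)).comp ρ
  have hτ : ∀ h, τ h = 1 ↔ h ∈ O := by
    have hOle : O ≤ τ.ker := fun h hh => AddMonoidHom.ext fun m => elt_inj (by
      show ρ h * elt m * (ρ h)⁻¹ = elt m
      have hc : (⟨ρ h, Subgroup.mem_map_of_mem _ hh⟩ : ↥V) * Additive.toMul m = Additive.toMul m * ⟨ρ h, Subgroup.mem_map_of_mem _ hh⟩ :=
        mul_comm' _ _
      have hc' : ρ h * elt m = elt m * ρ h := congrArg Subtype.val hc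
      rw [hc', mul_inv_cancel_right])
    -- elements of odd order in the kernel centralise the core
    have hodd : ∀ u ∈ τ.ker, (orderOf u).Coprime 2 → u ∈ O := by
      intro u hu hu2
      have hy : ⁅O, Subgroup.zpowers u⁆ ≤ N := by
        rw [Subgroup.commutator_le]
        intro x hx g hg
        have hg1 : τ g = 1 := (Subgroup.zpowers_le.2 hu) hg
        obtain ⟨m, hm⟩ := exists_vec (V := V) (Subgroup.mem_map_of_mem ρ hx)
        have h1 := congrArg elt (DFunLike.congr_fun hg1 m)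
        rw [elt_one_apply] at h1
        change ρ g * elt m * (ρ g)⁻¹ = elt m at h1
        rw [hm, mul_inv_eq_iff_eq_mul] at h1
        rw [← QuotientGroup.ker_mk' N, MonoidHom.mem_ker, map_commutatorElement,
          commutatorElement_eq_one_iff_mul_comm]
        exact h1.symm
      haveI := FrattiniQuotient.isNilpotent_sup_zpowers (X := H) hOp.isNilpotent hy
      refine hF ▸ Components.GenFitting.centralizer_le (Subgroup.mem_centralizer_iff.2 fun x hx => ?_)
      rw [hF] at hx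
      obtain ⟨k, hk⟩ := IsPGroup.iff_orderOf.1 hOp ⟨x, hx⟩
      rw [Subgroup.orderOf_mk] at hk
      exact congrArg Subtype.val (Transfer.Frobenius.commute_of_coprime_of_isNilpotent
        (G := ↥(O ⊔ Subgroup.zpowers u)) (a := ⟨x, Subgroup.mem_sup_left hx⟩)
        (b := ⟨u, Subgroup.mem_sup_right (Subgroup.mem_zpowers u)⟩) (by
          rw [Subgroup.orderOf_mk, Subgroup.orderOf_mk, hk]
          exact hu2.symm.pow_left k))
    have hker : τ.ker ≤ O := by
      refine Cores.le_pCore ?_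
      intro g
      refine ⟨(orderOf (g : H)).factorization 2, ?_⟩
      apply Subtype.ext
      have hmem := hodd _ (τ.ker.pow_mem g.2 (2 ^ (orderOf (g : H)).factorization 2)) (by
        rw [orderOf_pow, Nat.gcd_eq_right (Nat.ordProj_dvd (orderOf (g : H)) 2)]
        exact (Nat.coprime_ordCompl Nat.prime_two (orderOf_pos _).ne').symm)
      obtain ⟨j, hj⟩ := hOp ⟨_, hmem⟩
      have h1 : ((g : H) ^ 2 ^ (orderOf (g : H)).factorization 2) ^ 2 ^ j = 1 := congrArg Subtype.val hj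
      show (g : H) ^ 2 ^ (orderOf (g : H)).factorization 2 = 1
      refine orderOf_eq_one_iff.1 (Nat.dvd_one.1 ?_)
      have hc : Nat.Coprime (orderOf ((g : H) ^ 2 ^ (orderOf (g : H)).factorization 2)) (2 ^ j) := by
        refine Nat.Coprime.pow_right j ?_
        rw [orderOf_pow, Nat.gcd_eq_right (Nat.ordProj_dvd (orderOf (g : H)) 2)]
        exact (Nat.coprime_ordCompl Nat.prime_two (orderOf_pos _).ne').symm
      exact hc.eq_one_of_dvd (orderOf_dvd_of_pow_eq_one h1) ▸ dvd_refl _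
    exact fun h => ⟨fun hh => hker hh, fun hh => hOle hh⟩
  -- the quotient
  set π := QuotientGroup.mk' O with hπ
  have hπs : Function.Surjective π := QuotientGroup.mk'_surjective O
  let σ : H ⧸ O →* Op V := QuotientGroup.lift O τ fun h hh => (hτ h).2 hh
  have hσ : ∀ h, σ (π h) = op (V := V) (ρ h) := fun h => rfl
  obtain ⟨⟨hord, hprod⟩, ⟨d₀, hd₀, hEeq⟩, hgen⟩ := id hE
  have dd₀ : d₀ * d₀ = 1 := mul_self hE.1 hd₀
  have hgenQ : ∀ K : Subgroup (H ⧸ O), (∀ g, g * π d₀ * g⁻¹ ∈ K) → K = ⊤ := by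
    intro K hK
    have : (⊤ : Subgroup H) ≤ K.comap π := by
      rw [← hgen, Subgroup.closure_le]
      intro u hu
      obtain ⟨g, rfl⟩ := class_exists_conj hE hd₀ hu
      show π (g * d₀ * g⁻¹) ∈ K
      rw [map_mul, map_mul, map_inv]; exact hK _
    refine eq_top_iff.2 fun q _ => ?_
    obtain ⟨h, rfl⟩ := hπs q
    exact this (Subgroup.mem_top h)
  have hd1 : π d₀ ≠ 1 := by
    intro h
    have hall : ∀ u ∈ E, u ∈ O := fun u hu => by
      obtain ⟨g, rfl⟩ := class_exists_conj hE hd₀ hu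
      exact Subgroup.Normal.conj_mem inferInstance d₀ ((QuotientGroup.eq_one_iff d₀).1 h) g
    obtain ⟨a, ha, b, hb, hab⟩ := hE2
    have hcenter : a ∈ Subgroup.center H := mem_center_of_commute_gen hgen fun u hu =>
      commute_of_mem_isPGroup hE.1 hOp ha hu (hall a ha) (hall u hu)
    obtain ⟨g, hg⟩ := class_exists_conj hE ha hb
    exact hab (by rw [← hg, Subgroup.mem_center_iff.1 hcenter g, mul_inv_cancel_right])
  obtain ⟨P, hPn, k, hk⟩ := h232
  set P' : Subgroup (H ⧸ O) := (P : Subgroup (H ⧸ O))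
  have hP3 : IsPGroup 3 P' := P.2
  have dd : π d₀ * π d₀ = 1 := by rw [← map_mul, dd₀, map_one]
  have coprime23 : ∀ x : H ⧸ O, x ∈ P' → x * x = 1 → x = 1 := by
    intro x hx h2
    obtain ⟨j, hj⟩ := hP3 ⟨x, hx⟩
    have hj' : x ^ 3 ^ j = 1 := congrArg Subtype.val hj
    obtain ⟨m, hm⟩ : Odd (3 ^ j) := Odd.pow (by decide)
    rwa [hm, pow_succ, pow_mul, pow_two x, h2, one_pow, one_mul] at hj'
  have hnm : π d₀ ∉ P' := fun h => hd1 (coprime23 _ h dd)
  have hor : ∀ g : H ⧸ O, g ∈ P' ∨ π d₀ * g ∈ P' := by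
    have h2 : IsPGroup 2 ((H ⧸ O) ⧸ P') := IsPGroup.of_card (n := k) (by rw [← hk]; rfl)
    have hz := two_group_cyclic h2 (QuotientGroup.mk' P' (π d₀)) fun K hK => by
      have hK' := hgenQ (K.comap (QuotientGroup.mk' P')) fun g => by
        show QuotientGroup.mk' P' (g * π d₀ * g⁻¹) ∈ K
        rw [map_mul, map_mul, map_inv]; exact hK _
      rw [eq_top_iff]; intro q _
      obtain ⟨x, rfl⟩ := QuotientGroup.mk'_surjective P' q
      exact (hK' ▸ Subgroup.mem_top x : x ∈ K.comap (QuotientGroup.mk' P'))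
    intro g
    obtain ⟨n, hn⟩ : QuotientGroup.mk' P' g ∈ Subgroup.zpowers (QuotientGroup.mk' P' (π d₀)) :=
      hz ▸ Subgroup.mem_top _
    dsimp only at hn
    have hd2 : π d₀ ^ (2 : ℤ) = 1 := by rw [zpow_ofNat, pow_two, dd]
    rcases Int.even_or_odd n with ⟨i, rfl⟩ | ⟨i, rfl⟩
    · left
      rw [← two_mul, ← map_zpow, zpow_mul, hd2, one_zpow, map_one] at hn
      exact (QuotientGroup.eq_one_iff g).1 hn.symm
    · right
      rw [← map_zpow, zpow_add_one, zpow_mul, hd2, one_zpow, one_mul] at hn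
      refine (QuotientGroup.eq_one_iff _).1 ?_
      show QuotientGroup.mk' P' (π d₀ * g) = 1
      rw [map_mul, ← hn, ← map_mul, dd, map_one]
  have hmul : ∀ g h : H ⧸ O, g ∉ P' → h ∉ P' → g * h ∈ P' := by
    intro g h hg hh
    have h1 := (hor g).resolve_left hg
    have h2 := (hor h).resolve_left hh
    have h3 := hPn.conj_mem _ h1 (π d₀)
    rw [← mul_assoc (π d₀), dd, one_mul, inv_eq_of_mul_eq_one_right dd] at h3
    have := P'.mul_mem h3 h2
    rwa [mul_assoc g, ← mul_assoc (π d₀) (π d₀), dd, one_mul] at this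
  have himg : ∀ u ∈ E, π u ∉ P' := by
    intro u hu h
    obtain ⟨g, rfl⟩ := class_exists_conj hE hd₀ hu
    rw [map_mul, map_mul, map_inv] at h
    have h' := hPn.conj_mem _ h (π g)⁻¹
    simp [mul_assoc] at h'
    exact hnm h'
  have nocomm : ∀ u ∈ E, ∀ v ∈ E, π u ≠ π v → (u * v) ^ 3 = 1 := by
    intro u hu v hv hne
    refine (hprod u hu v hv).resolve_left fun h => hne ?_
    have h1 := coprime23 _ (hmul _ _ (himg u hu) (himg v hv)) (by rw [← map_mul, ← map_mul, ← pow_two, h, map_one])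
    rw [eq_inv_of_mul_eq_one_left h1, ← map_inv, inv_eq hE.1 hv]
  have htwo : ∀ x : Op V, x + x = 0 := fun x => AddMonoidHom.ext fun m => elt_inj
    (show elt (x m) * elt (x m) = 1 from hsq _ (elt_mem (x m)))
  -- the norms
  have hkill : ∀ p : H ⧸ O, p ∈ P' → π d₀ * p * π d₀ = p⁻¹ → p ≠ 1 →
      (σ (π d₀) + 1) * nrm (σ p) = 0 := by
    intro p hp hinv hp1
    -- a member over `d * p`
    obtain ⟨g, hg⟩ : ∃ g : H ⧸ O, g * π d₀ * g⁻¹ = π d₀ * p := by
      obtain ⟨j, hj⟩ := hP3 ⟨p, hp⟩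
      have hj' : p ^ 3 ^ j = 1 := congrArg Subtype.val hj
      obtain ⟨m, hm⟩ : Odd (3 ^ j) := Odd.pow (by decide)
      have hs : SemiconjBy (π d₀) p p⁻¹ := by
        show π d₀ * p = p⁻¹ * π d₀
        rw [← hinv, mul_assoc (π d₀ * p), dd, mul_one]
      refine ⟨(p ^ (m + 1))⁻¹, ?_⟩
      rw [inv_inv, mul_assoc, (hs.pow_right (m + 1)).eq, ← mul_assoc, inv_pow, ← mul_inv_rev, ← pow_add,
        show m + 1 + (m + 1) = 3 ^ j + 1 by omega, pow_succ, hj', one_mul, hs.eq]
    obtain ⟨g, rfl⟩ := hπs g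
    set b := g * d₀ * g⁻¹ with hb
    have hbE : b ∈ E := class_conj_mem hE g hd₀
    have hπb : π b = π d₀ * p := by rw [hb, map_mul, map_mul, map_inv, hg]
    have hne : π d₀ ≠ π b := fun h => hp1 (mul_eq_left.1 (hπb ▸ h.symm))
    have hp' : p = π (d₀ * b) := by rw [map_mul, hπb, ← mul_assoc, dd, one_mul]
    have hs : SemiconjBy (π d₀) p p⁻¹ := by
      show π d₀ * p = p⁻¹ * π d₀
      rw [← hinv, mul_assoc (π d₀ * p), dd, mul_one]
    have key : nrm (σ p) * (σ (π d₀) + 1) = 0 := by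
      refine AddMonoidHom.ext fun m => elt_inj ?_
      rw [hp', hσ, hσ]
      set n : Mo V := nop (V := V) (ρ d₀) m with hn
      obtain ⟨v, hv, hvm⟩ := elt_mem m
      have hd' : v * d₀ * v⁻¹ ∈ E := class_conj_mem hE v hd₀
      have e1 : ρ (v * d₀ * v⁻¹) = ρ d₀ * elt n := by
        rw [map_mul, map_mul, map_inv, hvm, hn, elt_nop, inv_eq_of_mul_eq_one_right (hsq _ (elt_mem m))]
        have e : ρ d₀ * ρ d₀ = 1 := by rw [← map_mul, dd₀, map_one]
        rw [inv_eq_of_mul_eq_one_right e]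
        simp only [← mul_assoc]; rw [e, one_mul]
      have e2 : π (v * d₀ * v⁻¹) = π d₀ := by
        rw [map_mul, map_mul, map_inv, show π v = 1 from (QuotientGroup.eq_one_iff v).2 hv]; simp
      have c1 : (ρ d₀ * elt n * ρ b) ^ 3 = 1 := by
        rw [← e1, ← map_mul, ← map_pow, nocomm _ hd' b hbE (e2 ▸ hne), map_one]
      have c2 : (ρ d₀ * ρ b) ^ 3 = 1 := by
        rw [← map_mul, ← map_pow, nocomm d₀ hd₀ b hbE hne, map_one]
      have hfix : ρ d₀ * elt n * (ρ d₀)⁻¹ = elt n := by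
        have e : ρ d₀ * ρ d₀ = 1 := by rw [← map_mul, dd₀, map_one]
        have hm2 := elt_mem (V := V) m
        have hc : ∀ x y : H ⧸ N, x ∈ V → y ∈ V → x * y = y * x := fun x y hx hy =>
          congrArg Subtype.val (mul_comm' (⟨x, hx⟩ : ↥V) ⟨y, hy⟩)
        rw [hn, elt_nop, inv_eq_of_mul_eq_one_right e]
        calc ρ d₀ * (ρ d₀ * elt m * ρ d₀ * elt m) * ρ d₀
            = elt m * (ρ d₀ * elt m * ρ d₀) := by simp only [← mul_assoc, e, one_mul]
          _ = ρ d₀ * elt m * ρ d₀ * elt m := hc _ _ hm2 (by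
              have := hVn.conj_mem _ hm2 (ρ d₀)
              rwa [inv_eq_of_mul_eq_one_right e] at this)
      have c1' : (elt n * ρ (d₀ * b)) ^ 3 = 1 := by
        have : ρ d₀ * elt n * ρ b = elt n * ρ (d₀ * b) := by
          calc ρ d₀ * elt n * ρ b = (ρ d₀ * elt n * (ρ d₀)⁻¹) * (ρ d₀ * ρ b) := by group
            _ = elt n * ρ (d₀ * b) := by rw [hfix, ← map_mul]
        rwa [← this]
      rw [← map_mul] at c2
      show elt n * (ρ (d₀ * b) * elt n * (ρ (d₀ * b))⁻¹) *
        (ρ (d₀ * b) * (ρ (d₀ * b) * elt n * (ρ (d₀ * b))⁻¹) * (ρ (d₀ * b))⁻¹) = 1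
      calc _ = (elt n * ρ (d₀ * b)) ^ 3 * (ρ (d₀ * b) ^ 3)⁻¹ := by
            simp only [pow_succ, pow_zero, one_mul]; group
        _ = 1 := by rw [c1', c2, inv_one, mul_one]
    have hcomm : σ (π d₀) * nrm (σ p) = nrm (σ p) * σ (π d₀) := by
      have hpp : p * p = p⁻¹ := eq_inv_of_mul_eq_one_left (by
        have := nocomm d₀ hd₀ b hbE hne
        rw [hp', ← map_mul, ← map_mul, ← pow_two, ← pow_succ, this, map_one])
      have h1 : σ (π d₀) * σ p = σ p * σ p * σ (π d₀) := by rw [← map_mul, ← map_mul, ← map_mul, hs.eq, hpp]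
      have h2 : σ (π d₀) * (σ p * σ p) = σ p * σ (π d₀) := by
        rw [← map_mul, ← map_mul, ← map_mul, hpp, hs.inv_right.eq, inv_inv]
      simp only [nrm, mul_add, add_mul, mul_one, one_mul, h1, h2]
      abel
    rw [add_mul, one_mul, hcomm, ← mul_one (nrm (σ p))] at *
    rwa [mul_add, mul_one] at key
  refine ⟨V, hVn, hVc, ⟨{
    P := P', normal := hPn, isP := hP3, d := π d₀, dd := dd, not_mem := hnm, mem_or := hor
    cube := ?_, gen := hgenQ
    core := fun K hK hp => le_bot_iff.1 ((@Cores.le_pCore _ _ 2 K hK hp).trans (Cores.pCore_quotient_pCore (G := H) 2).le)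
    σ := σ, two := htwo
    d_ne := fun h => hd1 ((QuotientGroup.eq_one_iff d₀).2 ((hτ d₀).1 ?_))
    killed := hkill }⟩⟩
  · intro g h
    obtain ⟨g, rfl⟩ := hπs g
    obtain ⟨h, rfl⟩ := hπs h
    have hu := class_conj_mem hE g hd₀
    have hv := class_conj_mem hE h hd₀
    simp only [← map_inv, ← map_mul, ← map_pow]
    by_cases he : π (g * d₀ * g⁻¹) = π (h * d₀ * h⁻¹)
    · rw [map_pow, map_mul, he, ← map_mul, mul_self hE.1 hv, map_one, one_pow]
    · rw [nocomm _ hu _ hv he, map_one]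
  · have hh : τ d₀ + 1 = 0 := h
    exact UniqueRing.eq_of_add_eq_zero htwo hh


/-- Let H be a finite group generated by a conjugacy class E of 3-transpositions with at least two members, with F*(H) = O₂(H), and such that H/O₂(H) has a normal Sylow 3-subgroup of 2-power index (that is, H = O_{2,3,2}(H)). Then H/O₂(H) is isomorphic to the symmetric group of degree 3 or to the derived group of SU₃(2) (of order 54). -/
theorem result {H : Type*} [Group H] [Finite H] {E : Set H} (hE : Cfsg.IsThreeTranspositionClass E)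
    (hE2 : ∃ a ∈ E, ∃ b ∈ E, a ≠ b) (hF : Cfsg.generalizedFittingSubgroup H = Cfsg.pCore 2 H)
    (h232 : ∃ P : Sylow 3 (H ⧸ Cfsg.pCore 2 H), (P : Subgroup (H ⧸ Cfsg.pCore 2 H)).Normal ∧
      ∃ k : ℕ, (P : Subgroup (H ⧸ Cfsg.pCore 2 H)).index = 2 ^ k) :
    Nonempty (H ⧸ Cfsg.pCore 2 H ≃* Equiv.Perm (Fin 3)) ∨
      ∃ (F : Type) (_ : Field F) (_ : Fintype F), Fintype.card F = 4 ∧
        Nonempty (H ⧸ Cfsg.pCore 2 H ≃* ↥(commutator ↥(Cfsg.SU 3 F 2))) := by
  obtain ⟨V, iV, iV', ⟨S⟩⟩ := exists_data hE hE2 hF h232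
  have sq : ∀ g, g * S.d * g⁻¹ * (g * S.d * g⁻¹) = 1 := fun g => by
    rw [show g * S.d * g⁻¹ * (g * S.d * g⁻¹) = g * (S.d * S.d) * g⁻¹ by group, S.dd, mul_one, mul_inv_cancel]
  by_cases hline : ∃ a, S.Inv a ∧ a ≠ 1 ∧ ∀ p ∈ S.P, Commute a p
  · obtain ⟨a, ha, ha1, hc⟩ := hline
    obtain ⟨hcard, hgen⟩ := S.case_line ha ha1 hc
    refine Or.inl ?_
    obtain ⟨g, hg⟩ := S.exists_member ha
    let s : Equiv.Perm (Fin 3) := Equiv.swap 0 1
    let t : Equiv.Perm (Fin 3) := Equiv.swap 1 2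
    have hs2 : s * s = 1 := by decide
    have ht2 : t * t = 1 := by decide
    have hst : (s * t) ^ 3 = 1 := by decide
    refine graph_iso (Subgroup.closure {(S.d, s), (S.d * a, t)}) (fun x => ?_) (fun x => ?_)
      ((S5555.dihedral_le _ _ (Prod.ext S.dd hs2) (Prod.ext (hg ▸ sq g) ht2) (Or.inr ?_)).trans hcard.ge)
      (by rw [hcard, Nat.card_eq_fintype_card]; rfl)
    · have hx : x ∈ (Subgroup.closure {(S.d, s), (S.d * a, t)}).map (MonoidHom.fst _ _) := by
        rw [MonoidHom.map_closure, Set.image_insert_eq, Set.image_singleton]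
        exact hgen.ge (Subgroup.mem_top x)
      obtain ⟨⟨_, b⟩, hb, rfl⟩ := hx
      exact ⟨b, hb⟩
    · have hx : x ∈ (Subgroup.closure {(S.d, s), (S.d * a, t)}).map (MonoidHom.snd _ _) := by
        rw [MonoidHom.map_closure, Set.image_insert_eq, Set.image_singleton]
        show x ∈ Subgroup.closure {s, t}
        have : ∀ x : Equiv.Perm (Fin 3), x = 1 ∨ x = s ∨ x = t ∨ x = s * t ∨ x = t * s ∨ x = s * t * s := by decide
        have hs : s ∈ Subgroup.closure {s, t} := Subgroup.subset_closure (by simp)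
        have ht : t ∈ Subgroup.closure {s, t} := Subgroup.subset_closure (by simp)
        rcases this x with h | h | h | h | h | h <;> rw [h]
        exacts [one_mem _, hs, ht, mul_mem hs ht, mul_mem ht hs, mul_mem (mul_mem hs ht) hs]
      obtain ⟨⟨b, _⟩, hb, rfl⟩ := hx
      exact ⟨b, hb⟩
    · refine Prod.ext ?_ hst
      show (S.d * (S.d * a)) ^ 3 = 1
      rw [← mul_assoc, S.dd, one_mul, S.inv_cube ha]
  · push Not at hline
    obtain ⟨hlow, a, y, ha, hy, hgen⟩ := S.case_plane fun p hp hpc => by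
      by_contra h1
      obtain ⟨q, hq, hq'⟩ := hline p hp h1
      exact hq' (hpc q hq)
    obtain ⟨g, hg⟩ := S.exists_member ha
    obtain ⟨g', hg'⟩ := S.exists_member hy
    have q1 : (S.d * (S.d * a)) ^ 3 = 1 := by rw [← mul_assoc, S.dd, one_mul, S.inv_cube ha]
    have q2 : (S.d * (S.d * y)) ^ 3 = 1 := by rw [← mul_assoc, S.dd, one_mul, S.inv_cube hy]
    have q3 : (S.d * a * (S.d * y)) ^ 3 = 1 := by rw [← hg, ← hg']; exact S.cube g g'
    have q4 : (S.d * (S.d * a * (S.d * y) * (S.d * a))) ^ 3 = 1 := by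
      have := S.cube 1 (g * S.d * g⁻¹ * g')
      rw [one_mul, inv_one, mul_one, mul_inv_rev, ← hg, ← hg'] at *
      rw [inv_eq_of_mul_eq_one_right (sq g)] at this
      simpa only [mul_assoc] using this
    have d2 := hg ▸ sq g
    have d3 := hg' ▸ sq g'
    have hcard : Nat.card (H ⧸ Cfsg.pCore 2 H) = 54 := by
      have := S5555.card_closure_le _ _ _ S.dd d2 d3 q1 q2 q3 q4
      rw [hgen, Subgroup.card_top] at this
      omega
    refine Or.inr ⟨SU32.Derived.F4, inferInstance, inferInstance, rfl, ?_⟩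
    let u0 : ↥(commutator SU32.Derived.S) := ⟨SU32.Derived.t0, SU32.Derived.t0_mem⟩
    let u1 : ↥(commutator SU32.Derived.S) := ⟨SU32.Derived.t1, SU32.Derived.t1_mem⟩
    let u2 : ↥(commutator SU32.Derived.S) := ⟨SU32.Derived.t2, SU32.Derived.t2_mem⟩
    have r0 : u0 * u0 = 1 ∧ u1 * u1 = 1 ∧ u2 * u2 = 1 := by
      refine ⟨Subtype.ext ?_, Subtype.ext ?_, Subtype.ext ?_⟩
      · show SU32.Derived.t0 * SU32.Derived.t0 = 1; decide +kernel
      · show SU32.Derived.t1 * SU32.Derived.t1 = 1; decide +kernel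
      · show SU32.Derived.t2 * SU32.Derived.t2 = 1; decide +kernel
    have r3 : (u0 * u1) ^ 3 = 1 ∧ (u0 * u2) ^ 3 = 1 ∧ (u1 * u2) ^ 3 = 1 ∧ (u0 * (u1 * u2 * u1)) ^ 3 = 1 := by
      refine ⟨Subtype.ext ?_, Subtype.ext ?_, Subtype.ext ?_, Subtype.ext ?_⟩
      · show (SU32.Derived.t0 * SU32.Derived.t1) ^ 3 = 1; decide +kernel
      · show (SU32.Derived.t0 * SU32.Derived.t2) ^ 3 = 1; decide +kernel
      · show (SU32.Derived.t1 * SU32.Derived.t2) ^ 3 = 1; decide +kernel
      · show (SU32.Derived.t0 * (SU32.Derived.t1 * SU32.Derived.t2 * SU32.Derived.t1)) ^ 3 = 1; decide +kernel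
    refine graph_iso (Subgroup.closure {(S.d, u0), (S.d * a, u1), (S.d * y, u2)}) (fun x => ?_) (fun x => ?_)
      ((S5555.card_closure_le _ _ _ (Prod.ext S.dd r0.1) (Prod.ext d2 r0.2.1) (Prod.ext d3 r0.2.2)
        (Prod.ext q1 r3.1) (Prod.ext q2 r3.2.1) (Prod.ext q3 r3.2.2.1) (Prod.ext q4 r3.2.2.2)).trans hcard.ge)
      (hcard.trans SU32.Derived.derived4.1.symm)
    · have hx : x ∈ (Subgroup.closure {(S.d, u0), (S.d * a, u1), (S.d * y, u2)}).map (MonoidHom.fst _ _) := by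
        rw [MonoidHom.map_closure, Set.image_insert_eq, Set.image_insert_eq, Set.image_singleton]
        exact hgen.ge (Subgroup.mem_top x)
      obtain ⟨⟨_, b⟩, hb, rfl⟩ := hx
      exact ⟨b, hb⟩
    · have hx : x ∈ (Subgroup.closure {(S.d, u0), (S.d * a, u1), (S.d * y, u2)}).map (MonoidHom.snd _ _) := by
        rw [MonoidHom.map_closure, Set.image_insert_eq, Set.image_insert_eq, Set.image_singleton]
        show x ∈ Subgroup.closure {u0, u1, u2}
        rw [← Subgroup.mem_map_iff_mem (commutator SU32.Derived.S).subtype_injective, MonoidHom.map_closure,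
          Set.image_insert_eq, Set.image_insert_eq, Set.image_singleton]
        exact SU32.Derived.derived4.2.ge x.2
      obtain ⟨⟨b, _⟩, hb, rfl⟩ := hx
      exact ⟨b, hb⟩

end Cfsg.Agent.S5559
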