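import Cfsg.Statements.S5562

set_option autoImplicit false
open Cfsg

namespace Cfsg.Agent.S5562

theorem sq_one_of_orderOf_two {G : Type*} [Group G] {a : G} (h : orderOf a = 2) : a * a = 1 := by
  rw [← sq, ← h]; exact pow_orderOf_eq_one a

theorem sq_one_of_conj {G : Type*} [Group G] {d a : G} (hd : d * d = 1) (ha : a ∈ conjugatesOf d) :
    a * a = 1 := by
  obtain ⟨c, rfl⟩ := isConj_iff.mp ((ha : IsConj d a))
  calc (c * d * c⁻¹) * (c * d * c⁻¹) = c * (d * d) * c⁻¹ := by group
    _ = 1 := by rw [hd]; group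

/-- Let G be a finite group, d an involution of G whose conjugates pairwise have products of odd order, and x any involution of G. Then the conjugacy class of d is the disjoint union, over the conjugates a of d commuting with x, of the sets of conjugates of d commuting with ax: every conjugate of d commutes with ax for exactly one conjugate a of d that commutes with x. -/
theorem result {G : Type*} [Group G] [Finite G] (d : G) (hd : orderOf d = 2)
    (hodd : ∀ a ∈ conjugatesOf d, ∀ b ∈ conjugatesOf d, Odd (orderOf (a * b)))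
    (x : G) (hx : orderOf x = 2) :
    ∀ e ∈ conjugatesOf d,
      ∃! a : G, a ∈ conjugatesOf d ∧ Commute a x ∧ Commute e (a * x) := by
  intro e he
  have hd2 : d * d = 1 := sq_one_of_orderOf_two hd
  have hx2 : x * x = 1 := sq_one_of_orderOf_two hx
  have he2 : e * e = 1 := sq_one_of_conj hd2 he
  have hxi : x⁻¹ = x := inv_eq_of_mul_eq_one_right hx2
  have hei : e⁻¹ = e := inv_eq_of_mul_eq_one_right he2
  obtain ⟨f, hf⟩ : ∃ f, f = x * e * x := ⟨_, rfl⟩
  have hfd : f ∈ conjugatesOf d := by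
    change IsConj d e at he
    show IsConj d _
    refine he.trans (isConj_iff.mpr ⟨x, ?_⟩)
    rw [hf, hxi]
  have hf2 : f * f = 1 := sq_one_of_conj hd2 hfd
  have hfi : f⁻¹ = f := inv_eq_of_mul_eq_one_right hf2
  obtain ⟨r, hr⟩ : ∃ r, r = e * f := ⟨_, rfl⟩
  obtain ⟨j, hj⟩ : Odd (orderOf r) := hr ▸ hodd e he f hfd
  have hrm : r ^ (2 * j + 1) = 1 := hj ▸ pow_orderOf_eq_one r
  have hrinv : e * r * e⁻¹ = r⁻¹ := by
    rw [hr, mul_inv_rev, hfi, hei, ← mul_assoc e e f, he2, one_mul]
  have hswap : ∀ i : ℕ, e * r ^ i = (r ^ i)⁻¹ * e := by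
    intro i
    have h := congrArg (· * e) (conj_pow (a := e) (b := r) (i := i))
    simp only [hrinv, inv_pow] at h
    rw [h]; group
  have hswap' : ∀ i : ℕ, e * (r ^ i)⁻¹ = r ^ i * e := by
    intro i
    calc e * (r ^ i)⁻¹ = e * ((r ^ i)⁻¹ * e) * e⁻¹ := by group
      _ = e * (e * r ^ i) * e⁻¹ := by rw [hswap]
      _ = (e * e) * r ^ i * e⁻¹ := by group
      _ = r ^ i * e := by rw [he2, one_mul, hei]
  have hjj : (r ^ j)⁻¹ = r ^ (j + 1) := by
    apply inv_eq_of_mul_eq_one_right
    rw [← pow_add, ← hrm]; congr 1; omega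
  have h2j : r ^ (2 * j) = r⁻¹ := eq_inv_of_mul_eq_one_left (by rw [← pow_succ]; exact hrm)
  obtain ⟨a, ha⟩ : ∃ a, a = r ^ j * e := ⟨_, rfl⟩
  have hamem : a ∈ conjugatesOf d := by
    change IsConj d e at he
    show IsConj d _
    refine he.trans (isConj_iff.mpr ⟨r ^ (j * (j + 1)), ?_⟩)
    have hp : r ^ (j * (j + 1)) * r ^ (j * (j + 1)) = r ^ j := by
      rw [← pow_add, show j * (j + 1) + j * (j + 1) = (2 * j + 1) * j + j by ring, pow_add, pow_mul,
        hrm, one_pow, one_mul]
    rw [mul_assoc, hswap', ← mul_assoc, hp, ha]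
  have ha2 : a * a = 1 := sq_one_of_conj hd2 hamem
  have haea : a * e * a = f := by
    calc a * e * a = r ^ j * (e * e) * (r ^ j * e) := by rw [ha]; group
      _ = r ^ (2 * j) * e := by rw [he2, mul_one, ← mul_assoc, ← pow_add, two_mul]
      _ = f := by rw [h2j, hr, mul_inv_rev, hfi, hei, mul_assoc, he2, mul_one]
  have hfer : f = e * r := by rw [hr, ← mul_assoc, he2, one_mul]
  have hxrx : x * r * x⁻¹ = r⁻¹ := by
    rw [hr, mul_inv_rev, hfi, hei, hf, hxi]
    calc x * (e * (x * e * x)) * x = x * e * x * e * (x * x) := by group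
      _ = x * e * x * e := by rw [hx2, mul_one]
  have hax : Commute a x := by
    have h : x * a * x⁻¹ = a := by
      calc x * a * x⁻¹ = (x * r * x⁻¹) ^ j * (x * e * x⁻¹) := by rw [conj_pow, ha]; group
        _ = (r ^ j)⁻¹ * (e * r) := by rw [hxrx, inv_pow, hxi, ← hf, hfer]
        _ = (r ^ j)⁻¹ * e * r := by rw [mul_assoc]
        _ = e * r ^ j * r := by rw [hswap]
        _ = e * r ^ (j + 1) := by rw [mul_assoc, ← pow_succ]
        _ = e * (r ^ j)⁻¹ := by rw [hjj]
        _ = a := by rw [hswap', ha]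
    exact (mul_inv_eq_iff_eq_mul.mp h).symm
  refine ⟨a, ⟨hamem, hax, ?_⟩, ?_⟩
  · show e * (a * x) = a * x * e
    calc e * (a * x) = (a * a) * e * a * x := by rw [ha2]; group
      _ = a * (a * e * a) * x := by group
      _ = a * x * e * (x * x) := by rw [haea, hf]; group
      _ = a * x * e := by rw [hx2, mul_one]
  · rintro w ⟨hwd, hwx, hwe⟩
    have hw2 : w * w = 1 := sq_one_of_conj hd2 hwd
    have hwf : w * e * w = f := by
      have h1 : e * (w * x) = w * x * e := hwe
      calc w * e * w = w * (e * (w * x)) * x⁻¹ := by group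
        _ = (w * w) * x * e * x⁻¹ := by rw [h1]; group
        _ = f := by rw [hw2, one_mul, hxi, hf]
    obtain ⟨s, hs⟩ : ∃ s, s = w * e := ⟨_, rfl⟩
    have hwi : w⁻¹ = w := inv_eq_of_mul_eq_one_right hw2
    have hrs : r = s⁻¹ ^ 2 := by
      rw [hr, ← hwf, hs, mul_inv_rev, hei, hwi, sq]; group
    have hsdvd : orderOf s⁻¹ ∣ 2 * (2 * j + 1) := by
      apply orderOf_dvd_of_pow_eq_one
      rw [pow_mul, ← hrs, hrm]
    have hsodd : Odd (orderOf s⁻¹) := by
      rw [orderOf_inv, hs]; exact hodd w hwd e he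
    have hsm : s⁻¹ ^ (2 * j + 1) = 1 :=
      orderOf_dvd_iff_pow_eq_one.mp (Nat.Coprime.dvd_of_dvd_mul_left
        (Nat.coprime_two_right.mpr hsodd) hsdvd)
    have hrj : r ^ j = s := by
      rw [hrs, ← pow_mul]
      rw [pow_succ] at hsm
      simpa using eq_inv_of_mul_eq_one_left hsm
    rw [ha, hrj, hs, mul_assoc, he2, mul_one]

end Cfsg.Agent.S5562
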