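import Cfsg.Statements.S5578
import Cfsg.Agent.Lib.J4Pgl.Main
import Cfsg.Agent.S5567
import Cfsg.Agent.S5568
import Cfsg.Agent.S5569
import Cfsg.Agent.S5575
import Cfsg.Agent.S5577

set_option autoImplicit false
open Cfsg

namespace Cfsg.Agent.S5578

/-- Let G be a finite non-abelian simple group of Janko-four type (an involution z whose centralizer H has an extraspecial largest normal 2-subgroup E of order 2^13 containing its centralizer in H, a normal subgroup N ≥ E of H with N/E of order 3 and H/N the automorphism group of M₂₂, and a subgroup P ≤ N of order 3 with C_E(P) = ⟨z⟩, N_H(P) ≠ C_H(P) and P ≤ C_H(P)′). Then G has a subgroup isomorphic to PGL₂(23) (the general linear group of degree 2 over the integers modulo 23, modulo its centre). -/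
theorem result {G : Type*} [Group G] [Finite G] [IsSimpleGroup G] (hG : ¬ IsMulCommutative G) (hJ : Cfsg.IsOfJankoFourType G) :
    ∃ K : Subgroup G, Nonempty (↥K ≃* GL (Fin 2) (ZMod 23) ⧸ Subgroup.center (GL (Fin 2) (ZMod 23))) := by
  obtain ⟨z, hz⟩ := hJ
  exact Cfsg.Agent.Lib.J4Pgl.pgl_of_rows hG z hz (fun V hV hc => Cfsg.Agent.S5567.result hG ⟨z, hz⟩ V hV hc)
    (Cfsg.Agent.S5568.result hG z hz) (Cfsg.Agent.S5569.result hG z hz)
    (fun U => ⟨(Cfsg.Agent.S5575.result hG ⟨z, hz⟩ U).1, (Cfsg.Agent.S5575.result hG ⟨z, hz⟩ U).2.1,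
      (Cfsg.Agent.S5575.result hG ⟨z, hz⟩ U).2.2.2.1⟩)
    (Cfsg.Agent.S5577.result hG ⟨z, hz⟩).1

end Cfsg.Agent.S5578
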