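import Cfsg.Statements.S5592
import Cfsg.Agent.Lib.LeechMod2.MinNorm

set_option autoImplicit false
open Cfsg

namespace Cfsg.Agent.S5592

/-- In the Leech lattice (integer coordinates, sum of squares equal to 8 times the customary norm, so the shortest non-zero vectors have sum of squares 32): if two distinct vectors of sum of squares at most 64 are congruent modulo twice the lattice, then either they are negatives of each other, or both have sum of squares 64 and they are orthogonal. -/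
theorem result (x y : Cfsg.GolayPt → ℤ) (hx : x ∈ Cfsg.leechLattice) (hy : y ∈ Cfsg.leechLattice) (hxy : x ≠ y) (hxn : Cfsg.sqNorm x ≤ 64) (hyn : Cfsg.sqNorm y ≤ 64) (hc : (∃ z ∈ Cfsg.leechLattice, x - y = 2 • z)) :
    x = -y ∨ (Cfsg.sqNorm x = 64 ∧ Cfsg.sqNorm y = 64 ∧ Cfsg.dotInt x y = 0) := by
  obtain ⟨z, hz, hxz⟩ := hc
  by_cases hneg : x = -y
  · exact Or.inl hneg
  right
  have h2 : ∀ w : Cfsg.GolayPt → ℤ, Cfsg.sqNorm (2 • w) = 4 * Cfsg.sqNorm w := fun w => by
    simp only [Cfsg.sqNorm, Finset.mul_sum, Pi.smul_apply, nsmul_eq_mul]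
    exact Finset.sum_congr rfl fun i _ => by push_cast; ring
  have hsum : x + y = 2 • (z + y) := by
    rw [smul_add, ← hxz, two_nsmul]; abel
  have hz0 : z ≠ 0 := fun h => hxy (sub_eq_zero.mp (by rw [hxz, h, smul_zero]))
  have hw0 : z + y ≠ 0 := fun h => hneg (eq_neg_of_add_eq_zero_left (by rw [hsum, h, smul_zero]))
  have h1 := Cfsg.Agent.Lib.LeechMod2.min_norm hz hz0
  have h3 := Cfsg.Agent.Lib.LeechMod2.min_norm (Cfsg.leechLattice.add_mem hz hy) hw0
  have ea : Cfsg.sqNorm (x + y) = Cfsg.sqNorm x + Cfsg.sqNorm y + 2 * Cfsg.dotInt x y := by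
    simp only [Cfsg.sqNorm, Cfsg.dotInt, Pi.add_apply, Finset.mul_sum, ← Finset.sum_add_distrib]
    exact Finset.sum_congr rfl fun i _ => by ring
  have es : Cfsg.sqNorm (x - y) = Cfsg.sqNorm x + Cfsg.sqNorm y - 2 * Cfsg.dotInt x y := by
    simp only [Cfsg.sqNorm, Cfsg.dotInt, Pi.sub_apply, Finset.mul_sum, ← Finset.sum_add_distrib,
      ← Finset.sum_sub_distrib]
    exact Finset.sum_congr rfl fun i _ => by ring
  rw [hxz, h2] at es
  rw [hsum, h2] at ea
  omega

end Cfsg.Agent.S5592
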