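import Cfsg.Statements.S5594
import Cfsg.Agent.Lib.Leech.Basic

set_option autoImplicit false
open Cfsg

namespace Cfsg.Agent.S5594

open Cfsg.Agent.Lib.Leech

/-- `combo t` encodes the expression of the image of the `t`-th generator under `projInv`. -/
def combo : List Nat := [8388609, 1392, 738, 1469, 823, 8389121, 1594, 8388974, 1684, 33, 8389018, 8388613, 1992, 129, 8390253, 8388617, 1025, 8388625, 735, 8388673, 8388865, 8390087, 8388611]

theorem combo_spec : ∀ (t : ZMod 23) (p : GolayPt), qrWord t (projInv p) =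
    (∑ j : ZMod 23, (if (combo.getD t.val 0).testBit j.val then qrWord j p else 0)) +
      (if (combo.getD t.val 0).testBit 23 then 1 else 0) := by
  decide +kernel

theorem comp_projInv_mem {w : GolayPt → ZMod 2} (hw : w ∈ golayCode) :
    (fun p => w (projInv p)) ∈ golayCode := by
  have h : golayCode ≤ golayCode.comap (LinearMap.funLeft (ZMod 2) (ZMod 2) projInv) := by
    conv_lhs => rw [golayCode]
    rw [Submodule.span_le]
    rintro v (⟨t, rfl⟩ | rfl)
    · show (fun p => qrWord t (projInv p)) ∈ golayCode
      obtain ⟨c, hc⟩ : ∃ c : Nat, ∀ p : GolayPt, qrWord t (projInv p) =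
          (∑ j : ZMod 23, (if c.testBit j.val then qrWord j p else 0)) +
            (if c.testBit 23 then 1 else 0) := ⟨_, combo_spec t⟩
      have e : (fun p => qrWord t (projInv p)) =
          (∑ j : ZMod 23, (if c.testBit j.val then qrWord j else 0)) +
            (if c.testBit 23 then (1 : GolayPt → ZMod 2) else 0) := by
        funext p
        rw [hc, Pi.add_apply, Finset.sum_apply]
        refine congrArg₂ HAdd.hAdd ?_ ?_
        · refine Finset.sum_congr rfl fun j _ => ?_
          cases c.testBit j.val <;> simp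
        · cases c.testBit 23 <;> simp
      rw [e]
      refine golayCode.add_mem (golayCode.sum_mem fun j _ => ?_) ?_
      · split_ifs
        · exact Submodule.subset_span (Or.inl ⟨j, rfl⟩)
        · exact golayCode.zero_mem
      · split_ifs
        · exact Submodule.subset_span (Or.inr rfl)
        · exact golayCode.zero_mem
    · exact Submodule.subset_span (Or.inr rfl)
  exact h hw

theorem projInv_mem : projInv ∈ M24 := by
  refine mem_M24_of_isCode_map fun s hs => ?_
  rw [isCode_iff] at hs ⊢
  convert comp_projInv_mem hs using 1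
  funext p
  have h : p ∈ s.map projInv.toEmbedding ↔ projInv p ∈ s := Finset.mem_map_equiv
  simp only [ind, h]

/-- The support of the generating word. -/
def dod : Finset GolayPt := support₂ (qrWord 0)

theorem isCode_dod : IsCode dod := ⟨qrWord 0, Submodule.subset_span (Or.inl ⟨0, rfl⟩), rfl⟩

theorem dod_swap : ∀ i : GolayPt, projInv (projInv i) = i ∧ (projInv i ∈ dod ↔ i ∉ dod) := by
  unfold dod; decide +kernel

/-- A monomial map whose square is negation. -/
def f (x : GolayPt → ℤ) : GolayPt → ℤ :=
  fun i => if i ∈ dod then -x (projInv i) else x (projInv i)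

theorem f_f (x : GolayPt → ℤ) : f (f x) = -x := by
  funext i
  obtain ⟨h1, h2⟩ := dod_swap i
  by_cases h : i ∈ dod
  · simp [f, h, h1, show projInv i ∉ dod from fun h3 => h2.mp h3 h]
  · simp [f, h, h1, h2.mpr h]

theorem f_neg (x : GolayPt → ℤ) : f (-x) = -f x := by
  funext i; simp only [f, Pi.neg_apply]; split_ifs <;> ring

theorem f_mem {x : GolayPt → ℤ} (hx : x ∈ leechLattice) : f x ∈ leechLattice :=
  signs_mem isCode_dod (perm_mem projInv_mem hx)

/-- `f` on the lattice. -/
def fPerm : Equiv.Perm leechLattice where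
  toFun x := ⟨f x.1, f_mem x.2⟩
  invFun x := ⟨-f x.1, leechLattice.neg_mem (f_mem x.2)⟩
  left_inv x := Subtype.ext (by show -f (f x.1) = x.1; rw [f_f, neg_neg])
  right_inv x := Subtype.ext (by show f (-f x.1) = x.1; rw [f_neg, f_f, neg_neg])

theorem fPerm_mem : fPerm ∈ Co0 := by
  refine ⟨fun v w => Subtype.ext ?_, fun v => ?_⟩
  · funext i
    show (if i ∈ dod then -(v.1 + w.1) (projInv i) else (v.1 + w.1) (projInv i)) = f v.1 i + f w.1 i
    simp only [f, Pi.add_apply]; split_ifs <;> ring
  · show sqNorm (f v.1) = sqNorm v.1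
    unfold sqNorm
    rw [← Equiv.sum_comp projInv (fun i => v.1 i ^ 2)]
    refine Finset.sum_congr rfl fun i _ => ?_
    simp only [f]; split_ifs <;> ring

/-- The automorphism group of the Leech lattice contains the negation map, and the subgroup of order 2 it generates has no complement: the automorphism group is a non-split extension of its quotient by that subgroup (it is not the direct product of a group of order 2 with the first Conway group). -/
theorem result :
    ∃ n : ↥Cfsg.Co0, (∀ v : ↥Cfsg.leechLattice, ((n • v : ↥Cfsg.leechLattice) : Cfsg.GolayPt → ℤ) = -(v : Cfsg.GolayPt → ℤ)) ∧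
    ∀ K : Subgroup ↥Cfsg.Co0, ¬ (Subgroup.zpowers n).IsComplement' K := by
  let g : ↥Cfsg.Co0 := ⟨fPerm, fPerm_mem⟩
  have hgg : ∀ v : ↥Cfsg.leechLattice, (((g * g) • v : ↥Cfsg.leechLattice) : Cfsg.GolayPt → ℤ) = -v.1 :=
    fun v => f_f v.1
  refine ⟨g * g, hgg, fun K hK => ?_⟩
  have hne : g * g ≠ 1 := by
    intro h
    have h1 := hgg ⟨Pi.single none 8, single_eight_mem none⟩
    rw [h, one_smul] at h1
    have h2 := congrFun h1 none
    simp at h2
  have hn2 : (g * g) * (g * g) = 1 := by
    refine Subtype.ext (Equiv.ext fun v => Subtype.ext ?_)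
    show (((g * g) * (g * g)) • v : ↥Cfsg.leechLattice).1 = v.1
    rw [mul_smul, hgg, hgg, neg_neg]
  obtain ⟨⟨a, k⟩, hak⟩ := hK.surjective g
  obtain ⟨i, hi⟩ := a.2
  have hga : Commute g a.1 :=
    hi ▸ ((Commute.refl g).mul_right (Commute.refl g)).zpow_right i
  have ha2 : a.1 * a.1 = 1 := by
    rw [← hi]
    show (g * g) ^ i * (g * g) ^ i = 1
    rw [← (Commute.refl (g * g)).mul_zpow, hn2, one_zpow]
  have hk : (k : ↥Cfsg.Co0) = a.1⁻¹ * g := eq_inv_mul_iff_mul_eq.mpr hak
  have hmem : g * g ∈ K := by
    have e : (k : ↥Cfsg.Co0) * k = g * g := by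
      rw [hk, inv_eq_of_mul_eq_one_right ha2]
      calc a.1 * g * (a.1 * g) = a.1 * (g * a.1) * g := by group
        _ = a.1 * a.1 * g * g := by rw [hga.eq]; group
        _ = g * g := by rw [ha2, one_mul]
    exact e ▸ K.mul_mem k.2 k.2
  exact hne ((Subgroup.disjoint_def.mp hK.disjoint) (Subgroup.mem_zpowers _) hmem)

end Cfsg.Agent.S5594
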