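import Cfsg.Statements.S5595
import Cfsg.Agent.Lib.LargeExtraspecial.Basic

set_option autoImplicit false
open Cfsg

namespace Cfsg.Agent.S5595

open Cfsg.Agent.Lib.LargeExtraspecial.Basic

variable {G : Type*} [Group G] [Finite G]

/-- In an extraspecial group, an element commuting with the centraliser of the noncentral `x`
lies in `{1, z, x, x z}`. -/
theorem double_centralizer {A : Subgroup G} {z x c : G} (h : ES A z) (hxA : x ∈ A) (hx1 : x ≠ 1)
    (hxz : x ≠ z) (hc : c ∈ A) (hcomm : ∀ a ∈ A, Commute a x → Commute c a) :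
    c = 1 ∨ c = z ∨ c = x ∨ c = x * z := by
  obtain ⟨q₀, hq₀, hq₀x⟩ := h.exists_conj_ne hxA hx1 hxz
  have hnc : chi q₀ x = 1 := by
    unfold chi
    rw [if_neg]
    rw [hq₀x]
    simpa using h.ne
  have key : ∀ d ∈ A, (∀ a ∈ A, chi a x = 0 → chi d a = 0) → chi d q₀ = 0 → d = 1 ∨ d = z := by
    intro d hd h1 h2
    refine h.center d hd fun p hp => (chi_eq_zero.mp ?_).symm
    rcases (by decide : ∀ e : ZMod 2, e = 0 ∨ e = 1) (chi p x) with h0 | h0
    · exact h1 p hp h0
    · have hpq : chi (p * q₀) x = 0 := by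
        rw [h.chi_mul_left hp hq₀ hxA, h0, hnc]; decide
      have := h1 _ (A.mul_mem hp hq₀) hpq
      rwa [h.chi_mul_right hd hp hq₀, h2, add_zero] at this
  have hcz : ∀ a ∈ A, chi a x = 0 → chi c a = 0 :=
    fun a ha h0 => chi_eq_zero.mpr (hcomm a ha (chi_eq_zero.mp h0))
  rcases (by decide : ∀ e : ZMod 2, e = 0 ∨ e = 1) (chi c q₀) with h0 | h0
  · exact (key c hc hcz h0).elim Or.inl fun e => Or.inr (Or.inl e)
  · have hd := key (c * x) (A.mul_mem hc hxA) (fun a ha h1 => by
      rw [h.chi_mul_left hc hxA ha, hcz a ha h1, h.chi_comm (q := x) (v := a), h1, add_zero]) (by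
      rw [h.chi_mul_left hc hxA hq₀, h0, h.chi_comm (q := x) (v := q₀), hnc]; decide)
    have hx2 : x * x = 1 ∨ x * x = z := h.sq_cases hxA
    have hzx : x * z = z * x := (h.comm x hxA).eq
    rcases hd with e | e <;> rcases hx2 with e2 | e2
    · right; right; left
      calc c = (c * x) * x⁻¹ := by group
        _ = x := by rw [e, one_mul]; exact inv_eq_of_mul_eq_one_right e2
    · right; right; right
      calc c = (c * x) * x⁻¹ := by group
        _ = x * z := by
          rw [e, one_mul]; exact inv_eq_of_mul_eq_one_right (by rw [← mul_assoc, e2, h.sq])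
    · right; right; right
      calc c = (c * x) * x⁻¹ := by group
        _ = x * z := by rw [e, inv_eq_of_mul_eq_one_right e2, hzx]
    · right; right; left
      calc c = (c * x) * x⁻¹ := by group
        _ = x := by rw [e, ← e2]; group

theorem main {Q : G → Subgroup G} (hQ : IsQ Q) {z x : G} (h : ES (Q z) z) (hP : ES (Q x) x)
    (hCz : ∀ c, (∀ p ∈ Q z, Commute p c) → c ∈ Q z)
    (hCx : ∀ c, (∀ p ∈ Q x, Commute p c) → c ∈ Q x)
    (hconj : ∃ g, g * z * g⁻¹ = x) (hxQ : x ∈ Q z) : z ∈ Q x := by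
  by_contra hzP
  have hxz : x ≠ z := fun e => hzP (by rw [e]; exact h.mem)
  have hzx : Commute z x := (h.comm x hxQ).symm
  have hxi : x⁻¹ = x := hP.zinv
  have hdc := fun {c : G} hc hcomm => double_centralizer (c := c) h hxQ hP.ne hxz hc hcomm
  have hnormP : ∀ a, Commute a x → ∀ p ∈ Q x, a * p * a⁻¹ ∈ Q x := fun a ha p hp => hQ.normal ha hp
  -- commutators of A with C_P(z)
  have hB : ∀ a ∈ Q z, Commute a x → ∀ b ∈ Q x, Commute b z →
      a * b * a⁻¹ * b⁻¹ = 1 ∨ a * b * a⁻¹ * b⁻¹ = x := by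
    intro a ha hax b hb hbz
    have hcP : a * b * a⁻¹ * b⁻¹ ∈ Q x := (Q x).mul_mem (hnormP a hax b hb) ((Q x).inv_mem hb)
    have hcQ : a * b * a⁻¹ * b⁻¹ ∈ Q z := by
      rw [show a * b * a⁻¹ * b⁻¹ = a * (b * a⁻¹ * b⁻¹) by group]
      exact (Q z).mul_mem ha (hQ.normal hbz ((Q z).inv_mem ha))
    rcases hdc hcQ (fun a' ha' ha'x => by
      rcases h.conj a' ha' _ hcQ with e | e
      · exact (mul_inv_eq_iff_eq_mul.mp e).symm
      · exfalso; apply hzP
        have hm := (Q x).mul_mem ((Q x).inv_mem hcP) (hnormP a' ha'x _ hcP)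
        rwa [e, inv_mul_cancel_left] at hm) with e | e | e | e
    · exact Or.inl e
    · exact absurd (e ▸ hcP) hzP
    · exact Or.inr e
    · rw [e] at hcP
      exact absurd (((Q x).mul_mem_cancel_left hP.mem).mp hcP) hzP
  -- no element of P moves z to z * x
  have step1 : ∀ y ∈ Q x, y * z * y⁻¹ ≠ z * x := by
    intro y hy e
    have hcy : y * x * y⁻¹ = x := mul_inv_eq_iff_eq_mul.mpr (hQ.commute hy).eq
    have e2 : y * (z * x) * y⁻¹ = z := by
      calc y * (z * x) * y⁻¹ = (y * z * y⁻¹) * (y * x * y⁻¹) := by group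
        _ = z := by rw [e, hcy, mul_assoc, hP.sq, mul_one]
    have h1 : z ∈ Q (z * x) := by
      have := hQ.mem_conj y ((Q z).mul_mem h.mem hxQ)
      rwa [e, e2] at this
    obtain ⟨q, hq, hqx⟩ := h.exists_conj_ne hxQ hP.ne hxz
    have hqz : q * z * q⁻¹ = z := mul_inv_eq_iff_eq_mul.mpr (h.comm q hq).eq
    apply hzP
    rw [← hQ.mem_conj_iff q, hqz, hqx]
    rwa [← hzx.eq]
  -- w = y⁻¹ z y z
  have hw : ∀ y ∈ Q x, y⁻¹ * (z * y * z) ∈ Q x ∧ Commute (y⁻¹ * (z * y * z)) z := by
    intro y hy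
    obtain ⟨w, hwdef⟩ : ∃ w, w = y⁻¹ * (z * y * z) := ⟨_, rfl⟩
    rw [← hwdef]
    have hwP : w ∈ Q x := by
      rw [hwdef]
      refine (Q x).mul_mem ((Q x).inv_mem hy) ?_
      have := hnormP z hzx y hy
      rwa [h.zinv] at this
    have hzw : z * w * z = w⁻¹ := by
      calc z * w * z = z * y⁻¹ * z * y * (z * z) := by rw [hwdef]; group
        _ = w⁻¹ := by rw [h.sq, hwdef, mul_inv_rev, mul_inv_rev, mul_inv_rev, h.zinv]; group
    refine ⟨hwP, ?_⟩
    rcases hP.sq_cases hwP with e | e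
    · rw [inv_eq_of_mul_eq_one_right e] at hzw
      show w * z = z * w
      calc w * z = z * w * z * z := by rw [hzw]
        _ = z * w := by rw [mul_assoc, h.sq, mul_one]
    · exfalso
      apply step1 w⁻¹ ((Q x).inv_mem hwP)
      have hwx : w⁻¹ = w * x := inv_eq_of_mul_eq_one_right (by rw [← mul_assoc, e, hP.sq])
      calc w⁻¹ * z * w⁻¹⁻¹ = w⁻¹ * (z * w * z) * z⁻¹ := by group
        _ = w⁻¹ * (w * x) * z⁻¹ := by rw [hzw, hwx]
        _ = x * z⁻¹ := by group
        _ = z * x := by rw [h.zinv, hzx.eq]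
  -- C_P(B) centralises z
  have hCB : ∀ t ∈ Q x, (∀ b ∈ Q x, Commute b z → chi t b = 0) → Commute t z := by
    intro t ht htB
    have hzz : ∀ a : G, z * a * z⁻¹ = a * (a⁻¹ * (z * a * z)) := by
      intro a; rw [h.zinv]; group
    obtain ⟨w, hwdef⟩ : ∃ w, w = t⁻¹ * (z * t * z) := ⟨_, rfl⟩
    obtain ⟨hwP, hwz⟩ := hw t ht
    rw [← hwdef] at hwP hwz
    have hw0 : ∀ y ∈ Q x, chi w y = 0 := by
      intro y hy
      obtain ⟨v, hvdef⟩ : ∃ v, v = y⁻¹ * (z * y * z) := ⟨_, rfl⟩
      obtain ⟨hvP, hvz⟩ := hw y hy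
      rw [← hvdef] at hvP hvz
      have h1 : chi (t * w) (y * v) = chi t y := by
        rw [hwdef, hvdef, ← hzz, ← hzz, chi_conj]
      have h2 : chi w (y * v) = chi w y := by
        have hwfix : z * w * z⁻¹ = w := mul_inv_eq_iff_eq_mul.mpr hwz.eq.symm
        have hh := chi_conj z w y
        rwa [hwfix, hzz, ← hvdef] at hh
      rw [hP.chi_mul_right hwP hy hvP] at h2
      rw [hP.chi_mul_left ht hwP ((Q x).mul_mem hy hvP), hP.chi_mul_right ht hy hvP,
        hP.chi_mul_right hwP hy hvP, htB v hvP hvz, h2] at h1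
      simpa using h1
    rcases hP.center w hwP (fun p hp => (chi_eq_zero.mp (hw0 p hp)).symm) with e | e
    · rw [e] at hwdef
      show t * z = z * t
      calc t * z = t * (t⁻¹ * (z * t * z)) * z := by rw [← hwdef, mul_one]
        _ = z * t * (z * z) := by group
        _ = z * t := by rw [h.sq, mul_one]
    · exfalso
      apply step1 t⁻¹ ((Q x).inv_mem ht)
      rw [e] at hwdef
      calc t⁻¹ * z * t⁻¹⁻¹ = t⁻¹ * (z * t * z) * z⁻¹ := by group
        _ = z * x := by rw [← hwdef, h.zinv, hzx.eq]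
  -- [P, A] ≤ C_P(z)
  have step3 : ∀ a ∈ Q z, Commute a x → ∀ y ∈ Q x,
      y⁻¹ * (a * y * a⁻¹) ∈ Q x ∧ Commute (y⁻¹ * (a * y * a⁻¹)) z := by
    intro a ha hax y hy
    have hc : y⁻¹ * (a * y * a⁻¹) ∈ Q x := (Q x).mul_mem ((Q x).inv_mem hy) (hnormP a hax y hy)
    refine ⟨hc, hCB _ hc fun b hb hbz => ?_⟩
    have h1 : chi (y * (y⁻¹ * (a * y * a⁻¹))) b = chi y b := by
      rw [mul_inv_cancel_left]
      have hab : a * b * a⁻¹ ∈ Q x := hnormP a hax b hb
      have hfix : chi (a * y * a⁻¹) (a * b * a⁻¹) = chi y b := chi_conj a y b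
      have he : a * b * a⁻¹ = (a * b * a⁻¹ * b⁻¹) * b := by group
      rcases hB a ha hax b hb hbz with e | e
      · rw [e, one_mul] at he; rwa [he] at hfix
      · rw [e] at he
        rw [he, hP.chi_mul_right (hnormP a hax y hy) hP.mem hb,
          hP.chi_center_right (hnormP a hax y hy), zero_add] at hfix
        exact hfix
    rw [hP.chi_mul_left hy hc hb] at h1
    simpa using h1
  by_cases hab : ∀ a ∈ Q z, ∀ b ∈ Q z, Commute a x → Commute b x → Commute a b
  · -- A abelian: C(z) is a 2-group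
    have hA : ∀ a ∈ Q z, Commute a x → a = 1 ∨ a = z ∨ a = x ∨ a = x * z :=
      fun a ha hax => hdc ha fun b hb hbx => hab a ha b hb hax hbx
    have hxzc : x * z = z * x := hzx.eq.symm
    obtain ⟨r, hr, hrx, hr2⟩ : ∃ r ∈ Q z, r * x * r⁻¹ = x * z ∧ r * r = z := by
      obtain ⟨q, hq, hqx⟩ := h.exists_conj_ne hxQ hP.ne hxz
      rcases h.sq_cases hq with e | e
      · refine ⟨x * q, (Q z).mul_mem hxQ hq, ?_, ?_⟩
        · calc (x * q) * x * (x * q)⁻¹ = x * (q * x * q⁻¹) * x⁻¹ := by group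
            _ = x * z := by rw [hqx, hxi, hxzc, ← mul_assoc, ← hxzc, mul_assoc (x * z), hP.sq, mul_one]
        · calc x * q * (x * q) = x * (q * x * q⁻¹) * (q * q) := by group
            _ = z := by rw [hqx, e, mul_one, ← mul_assoc, hP.sq, one_mul]
      · exact ⟨q, hq, hqx, e⟩
    have hshape : ∀ q ∈ Q z, ∃ a, (a = 1 ∨ a = z ∨ a = x ∨ a = x * z) ∧ (q = a ∨ q = r * a) := by
      intro q hq
      by_cases hqx : Commute q x
      · exact ⟨q, hA q hq hqx, Or.inl rfl⟩
      · refine ⟨r⁻¹ * q, hA _ ((Q z).mul_mem ((Q z).inv_mem hr) hq) ?_, Or.inr (by group)⟩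
        have e := (h.conj q hq x hxQ).resolve_left fun e => hqx (mul_inv_eq_iff_eq_mul.mp e)
        apply mul_inv_eq_iff_eq_mul.mp
        calc r⁻¹ * q * x * (r⁻¹ * q)⁻¹ = r⁻¹ * (q * x * q⁻¹) * r := by group
          _ = r⁻¹ * (r * x * r⁻¹) * r := by rw [e, hrx]
          _ = x := by group
    have hrz : z * r = r * z := (h.comm r hr).eq.symm
    have hord : ∀ k, Commute k z → k ^ 32 = 1 := by
      intro k hk
      have hkz : k * z * k⁻¹ = z := mul_inv_eq_iff_eq_mul.mpr hk.eq
      have hk1 : k * r * k⁻¹ = r ∨ k * r * k⁻¹ = r * z := by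
        have hsq : (k * r * k⁻¹) * (k * r * k⁻¹) = z := by
          calc (k * r * k⁻¹) * (k * r * k⁻¹) = k * (r * r) * k⁻¹ := by group
            _ = z := by rw [hr2, hkz]
        obtain ⟨a, ha, hq | hq⟩ := hshape _ (hQ.normal hk hr)
        · exfalso
          rw [hq] at hsq
          rcases ha with e0 | e0 | e0 | e0 <;> rw [e0] at hsq
          · exact h.ne (by simpa using hsq.symm)
          · exact h.ne (hsq.symm.trans h.sq)
          · exact h.ne (hsq.symm.trans hP.sq)
          · refine h.ne (hsq.symm.trans ?_)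
            calc x * z * (x * z) = x * (z * x) * z := by group
              _ = 1 := by rw [← hxzc, ← mul_assoc, hP.sq, one_mul, h.sq]
        · rw [hq] at hsq ⊢
          rcases ha with e0 | e0 | e0 | e0 <;> rw [e0] at hsq ⊢
          · left; rw [mul_one]
          · right; rfl
          · exfalso; apply h.ne
            calc z = r * x * (r * x) := hsq.symm
              _ = (r * x * r⁻¹) * (r * r) * x := by group
              _ = x * (z * z) * x := by rw [hrx, hr2]; group
              _ = 1 := by simp only [h.sq, mul_one, hP.sq]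
          · exfalso; apply h.ne
            calc z = r * (x * z) * (r * (x * z)) := hsq.symm
              _ = r * x * (z * r) * (x * z) := by group
              _ = (r * x * r⁻¹) * (r * r) * (z * x) * z := by rw [hrz]; group
              _ = (r * x * r⁻¹) * (r * r) * (x * z) * z := by rw [hxzc]
              _ = x * (z * z) * x * (z * z) := by rw [hrx, hr2]; group
              _ = 1 := by simp only [h.sq, mul_one, hP.sq]
      have hk2 : k ^ 2 * r * (k ^ 2)⁻¹ = r := by
        have e : k ^ 2 * r * (k ^ 2)⁻¹ = k * (k * r * k⁻¹) * k⁻¹ := by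
          simp only [pow_two, mul_inv_rev, mul_assoc]
        rcases hk1 with e1 | e1
        · rw [e, e1, e1]
        · calc k ^ 2 * r * (k ^ 2)⁻¹ = k * (r * z) * k⁻¹ := by rw [e, e1]
            _ = (k * r * k⁻¹) * (k * z * k⁻¹) := by group
            _ = r := by rw [e1, hkz, mul_assoc, h.sq, mul_one]
      obtain ⟨l, hl⟩ : ∃ l, l = k ^ 2 := ⟨_, rfl⟩
      rw [← hl] at hk2
      have hlz : Commute l z := hl ▸ hk.pow_left 2
      have hlz' : l * z * l⁻¹ = z := mul_inv_eq_iff_eq_mul.mpr hlz.eq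
      have hl4 : l ^ 4 * x * (l ^ 4)⁻¹ = x := by
        have e4 : ∀ a : G, l ^ 4 * a * (l ^ 4)⁻¹ = l ^ 2 * (l ^ 2 * a * (l ^ 2)⁻¹) * (l ^ 2)⁻¹ :=
          fun a => by group
        have e2 : ∀ a : G, l ^ 2 * a * (l ^ 2)⁻¹ = l * (l * a * l⁻¹) * l⁻¹ := fun a => by
          simp only [pow_two, mul_inv_rev, mul_assoc]
        have hm : ∀ a b : G, l * (a * b) * l⁻¹ = (l * a * l⁻¹) * (l * b * l⁻¹) := fun a b => by group
        have hsq : (l * x * l⁻¹) * (l * x * l⁻¹) = 1 := by
          calc (l * x * l⁻¹) * (l * x * l⁻¹) = l * (x * x) * l⁻¹ := by group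
            _ = 1 := by rw [hP.sq]; group
        have hne : ∀ e : G, e = 1 ∨ e = z → l * x * l⁻¹ ≠ e := by
          intro e he h1
          have : x = e := by
            calc x = l⁻¹ * (l * x * l⁻¹) * l := by group
              _ = e := by
                rw [h1]
                rcases he with rfl | rfl
                · group
                · rw [mul_assoc, ← hlz.eq]; group
          exact he.elim (fun h2 => hP.ne (this.trans h2)) (fun h2 => hxz (this.trans h2))
        obtain ⟨a, ha, hq | hq⟩ := hshape _ (hQ.normal hlz hxQ)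
        · rcases ha with e0 | e0 | e0 | e0 <;> rw [e0] at hq
          · exact absurd hq (hne 1 (Or.inl rfl))
          · exact absurd hq (hne z (Or.inr rfl))
          · have : l ^ 2 * x * (l ^ 2)⁻¹ = x := by rw [e2, hq, hq]
            rw [e4, this, this]
          · have : l ^ 2 * x * (l ^ 2)⁻¹ = x := by
              rw [e2, hq, hm, hq, hlz', mul_assoc, h.sq, mul_one]
            rw [e4, this, this]
        · rcases ha with e0 | e0 | e0 | e0 <;> rw [e0] at hq
          · rw [hq, mul_one, hr2] at hsq; exact absurd hsq h.ne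
          · rw [hq] at hsq; exact absurd (show z = 1 by
              calc z = r * r * (z * z) := by rw [hr2, h.sq, mul_one]
                _ = r * (r * z) * z := by group
                _ = r * (z * r) * z := by rw [hrz]
                _ = r * z * (r * z) := by group
                _ = 1 := hsq) h.ne
          · have : l ^ 2 * x * (l ^ 2)⁻¹ = z * x := by
              rw [e2, hq, hm, hq, hk2, ← mul_assoc, hr2]
            have hz2 : l ^ 2 * z * (l ^ 2)⁻¹ = z := by rw [e2, hlz', hlz']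
            calc l ^ 4 * x * (l ^ 4)⁻¹ = l ^ 2 * (z * x) * (l ^ 2)⁻¹ := by rw [e4, this]
              _ = (l ^ 2 * z * (l ^ 2)⁻¹) * (l ^ 2 * x * (l ^ 2)⁻¹) := by group
              _ = x := by rw [hz2, this, ← mul_assoc, h.sq, one_mul]
          · have : l ^ 2 * x * (l ^ 2)⁻¹ = z * x := by
              rw [e2, hq, hm, hm, hq, hk2, hlz']
              calc r * (r * (x * z) * z) = (r * r) * x * (z * z) := by group
                _ = z * x := by rw [hr2, h.sq, mul_one]
            have hz2 : l ^ 2 * z * (l ^ 2)⁻¹ = z := by rw [e2, hlz', hlz']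
            calc l ^ 4 * x * (l ^ 4)⁻¹ = l ^ 2 * (z * x) * (l ^ 2)⁻¹ := by rw [e4, this]
              _ = (l ^ 2 * z * (l ^ 2)⁻¹) * (l ^ 2 * x * (l ^ 2)⁻¹) := by group
              _ = x := by rw [hz2, this, ← mul_assoc, h.sq, one_mul]
      have hcx : Commute (l ^ 4) x := mul_inv_eq_iff_eq_mul.mp hl4
      have hcr : Commute (l ^ 4) r := (show Commute l r from mul_inv_eq_iff_eq_mul.mp hk2).pow_left 4
      have hcz : Commute (l ^ 4) z := hlz.pow_left 4
      have hmem : l ^ 4 ∈ Q z := hCz _ fun p hp => by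
        obtain ⟨a, ha, hq⟩ := hshape p hp
        have ha' : Commute (l ^ 4) a := by
          rcases ha with e0 | e0 | e0 | e0 <;> rw [e0]
          · exact Commute.one_right _
          · exact hcz
          · exact hcx
          · exact hcx.mul_right hcz
        rcases hq with e0 | e0 <;> rw [e0]
        · exact ha'.symm
        · exact (hcr.mul_right ha').symm
      calc k ^ 32 = (l ^ 4 * l ^ 4) * (l ^ 4 * l ^ 4) := by rw [hl]; group
        _ = 1 := by rcases h.sq_cases hmem with e | e <;> simp [e, h.sq]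
    obtain ⟨g, hg⟩ := hconj
    have hp : IsPGroup 2 ↥(Subgroup.centralizer ({z} : Set G)) := fun k =>
      ⟨5, Subtype.ext (hord k.1 (mem_centralizer_single.mp k.2))⟩
    apply hzP
    have hgz : Commute (g⁻¹ * z * g) z := by
      have := hzx.map (MulAut.conj g⁻¹)
      rw [← hg] at this
      simpa [mul_assoc] using this
    have h2 := hQ.mem_conj g (hQ.eq_centralizer hp hgz)
    rw [hg] at h2
    simpa [mul_assoc] using h2
  · -- A nonabelian: z is a commutator
    push Not at hab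
    obtain ⟨a, ha, b, hb, hax, hbx, hnab⟩ := hab
    have hz_eq : a * b = z * (b * a) := by
      have e := (h.conj a ha b hb).resolve_left fun e => hnab (mul_inv_eq_iff_eq_mul.mp e)
      rw [mul_inv_eq_iff_eq_mul.mp e, (h.comm b hb).eq, mul_assoc]
    apply hzP
    refine hCx z fun Y hY => ?_
    obtain ⟨y, hy, hyY⟩ : ∃ y ∈ Q x, (b * a) * y * (b * a)⁻¹ = Y := by
      refine ⟨(b * a)⁻¹ * Y * (b * a), ?_, by group⟩
      have hcx : Commute (b * a)⁻¹ x := (hbx.mul_left hax).inv_left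
      simpa using hnormP _ hcx Y hY
    obtain ⟨hca, hcaz⟩ := step3 a ha hax y hy
    obtain ⟨hcb, hcbz⟩ := step3 b hb hbx y hy
    obtain ⟨ca, hcad⟩ : ∃ c, c = y⁻¹ * (a * y * a⁻¹) := ⟨_, rfl⟩
    obtain ⟨cb, hcbd⟩ : ∃ c, c = y⁻¹ * (b * y * b⁻¹) := ⟨_, rfl⟩
    rw [← hcad] at hca hcaz
    rw [← hcbd] at hcb hcbz
    -- conjugating a product modulo x
    have hmod : ∀ p, p = 1 ∨ p = x → ∀ q, q = 1 ∨ q = x → p * q = 1 ∨ p * q = x := by
      rintro p (rfl | rfl) q (rfl | rfl) <;> simp [hP.sq]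
    have hcen : ∀ p, p = 1 ∨ p = x → ∀ q ∈ Q x, p * q = q * p := by
      rintro p (rfl | rfl) q hq
      · simp
      · exact (hQ.commute hq).eq.symm
    obtain ⟨p₁, hp₁, hab1⟩ : ∃ p, (p = 1 ∨ p = x) ∧ a * b * y * (a * b)⁻¹ = y * ca * cb * p := by
      refine ⟨_, hB a ha hax cb hcb hcbz, ?_⟩
      have hyc := hcen _ (hB a ha hax cb hcb hcbz) cb hcb
      calc a * b * y * (a * b)⁻¹ = (a * y * a⁻¹) * ((a * cb * a⁻¹ * cb⁻¹) * cb) := by
            rw [hcbd]; group
        _ = y * ca * (cb * (a * cb * a⁻¹ * cb⁻¹)) := by rw [hyc, hcad]; group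
        _ = y * ca * cb * (a * cb * a⁻¹ * cb⁻¹) := by group
    obtain ⟨p₂, hp₂, hba1⟩ : ∃ p, (p = 1 ∨ p = x) ∧ b * a * y * (b * a)⁻¹ = y * cb * ca * p := by
      refine ⟨_, hB b hb hbx ca hca hcaz, ?_⟩
      have hyc := hcen _ (hB b hb hbx ca hca hcaz) ca hca
      calc b * a * y * (b * a)⁻¹ = (b * y * b⁻¹) * ((b * ca * b⁻¹ * ca⁻¹) * ca) := by
            rw [hcad]; group
        _ = y * cb * (ca * (b * ca * b⁻¹ * ca⁻¹)) := by rw [hyc, hcbd]; group
        _ = y * cb * ca * (b * ca * b⁻¹ * ca⁻¹) := by group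
    obtain ⟨p₃, hp₃, hswap⟩ : ∃ p, (p = 1 ∨ p = x) ∧ ca * cb = cb * ca * p := by
      rcases hP.conj ca hca cb hcb with e | e
      · exact ⟨1, Or.inl rfl, by rw [mul_one, mul_inv_eq_iff_eq_mul.mp e]⟩
      · refine ⟨x, Or.inr rfl, ?_⟩
        rw [mul_inv_eq_iff_eq_mul.mp e, mul_assoc, hcen x (Or.inr rfl) ca hca, ← mul_assoc]
    have hzY : ∃ p, (p = 1 ∨ p = x) ∧ z * Y * z = Y * p := by
      refine ⟨p₂ * (p₃ * p₁), hmod _ hp₂ _ (hmod _ hp₃ _ hp₁), ?_⟩
      have hp22 : p₂ * p₂ = 1 := by rcases hp₂ with e | e <;> simp [e, hP.sq]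
      have e : z * Y * z⁻¹ = a * b * y * (a * b)⁻¹ := by rw [← hyY, hz_eq]; group
      rw [h.zinv] at e
      calc z * Y * z = y * ca * cb * p₁ := e.trans hab1
        _ = y * (ca * cb) * p₁ := by group
        _ = y * (cb * ca * p₃) * p₁ := by rw [hswap]
        _ = y * cb * ca * ((p₂ * p₂) * (p₃ * p₁)) := by rw [hp22, one_mul]; group
        _ = (y * cb * ca * p₂) * (p₂ * (p₃ * p₁)) := by group
        _ = Y * (p₂ * (p₃ * p₁)) := by rw [← hba1, hyY]
    obtain ⟨p, hp, e⟩ := hzY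
    rcases hp with rfl | rfl
    · show Y * z = z * Y
      calc Y * z = z * Y * z * z := by rw [e, mul_one]
        _ = z * Y := by rw [mul_assoc, h.sq, mul_one]
    · exfalso
      apply step1 Y⁻¹ ((Q p).inv_mem hY)
      calc Y⁻¹ * z * Y⁻¹⁻¹ = Y⁻¹ * (z * Y * z) * z⁻¹ := by group
        _ = z * p := by rw [e, inv_mul_cancel_left, h.zinv, hzx.eq]

/-- z an involution with Q_z = O₂(C_G(z)) extraspecial and C_G(Q_z) ≤ Q_z, Q_x = O₂(C_G(x)): if a conjugate x of z lies in Q_z then z lies in Q_x. -/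
theorem result {G : Type*} [Group G] [Finite G]
    (Q : G → Subgroup G)
    (hQ : ∀ x : G, Q x = (Cfsg.pCore 2 ↥(Subgroup.centralizer ({x} : Set G))).map (Subgroup.centralizer ({x} : Set G)).subtype)
    (z : G) (hz : orderOf z = 2) (hE : Cfsg.IsExtraspecial 2 ↥(Q z))
    (hC : Subgroup.centralizer ((Q z : Subgroup G) : Set G) ≤ Q z)
    (g : G) (hx : g * z * g⁻¹ ∈ Q z) : z ∈ Q (g * z * g⁻¹) := by
  have hQ' : IsQ Q := hQ
  have hES := es_base hQ' hz hE
  exact main hQ' hES (es_conj hQ' hES g)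
    (fun c hc => hC (Subgroup.mem_centralizer_iff.mpr fun p hp => (hc p hp).eq))
    (fun c hc => selfCentralizing_conj hQ' hC g hc) ⟨g, rfl⟩ hx

end Cfsg.Agent.S5595
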