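import Cfsg.Statements.S5596
import Cfsg.Agent.Lib.LargeExtraspecial.Singular

set_option autoImplicit false
open Cfsg

namespace Cfsg.Agent.S5596

open Cfsg.Agent.Lib.LargeExtraspecial.Basic Cfsg.Agent.Lib.LargeExtraspecial.Singular

theorem exists_separating {G : Type*} [Group G] [Finite G] {U : Subgroup G}
    (hU2 : ∀ u ∈ U, u * u = 1) (W : Subgroup ↥U) {v : ↥U} (hv : v ∉ W) :
    ∃ f : G → ZMod 2, IsHomOn U f ∧ (∀ w ∈ W, f w.1 = 0) ∧ f v.1 = 1 := by
  classical
  letI instCG : CommGroup ↥U :=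
    { (inferInstance : Group ↥U) with mul_comm := fun a b => Subtype.ext (commute_of_sq hU2 a.2 b.2).eq }
  letI instMod : Module (ZMod 2) (Additive ↥U) := AddCommGroup.zmodModule fun a => by
    rw [two_nsmul]
    exact congrArg Additive.ofMul (Subtype.ext (hU2 _ (Additive.toMul a).2) : Additive.toMul a * Additive.toMul a = 1)
  let Ws : Submodule (ZMod 2) (Additive ↥U) := AddSubgroup.toZModSubmodule 2 (Subgroup.toAddSubgroup W)
  obtain ⟨g, hg, hgW⟩ :=
    Submodule.exists_dual_map_eq_bot_of_notMem (p := Ws) (x := Additive.ofMul v) hv inferInstance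
  refine ⟨fun a => if h : a ∈ U then g (Additive.ofMul ⟨a, h⟩) else 0, ?_, ?_, ?_⟩
  · intro a ha b hb
    simp only [dif_pos ha, dif_pos hb, dif_pos (U.mul_mem ha hb)]
    exact map_add g (Additive.ofMul ⟨a, ha⟩) (Additive.ofMul ⟨b, hb⟩)
  · intro w hw
    simp only [dif_pos w.2]
    exact (Submodule.eq_bot_iff _).mp hgW _ ⟨Additive.ofMul w, hw, rfl⟩
  · simp only [dif_pos v.2]
    have : ∀ e : ZMod 2, e ≠ 0 → e = 1 := by decide
    exact this _ hg

/-- Setting: `z` is an involution of the finite group `G`; for each element `x`, `Q x` is the largest normal 2-subgroup of the centralizer of `x`; `Q z` is extraspecial and contains its own centralizer in `G`. A subgroup `U` is singular when it is elementary abelian, every non-identity element of `U` is conjugate to `z`, and any two non-identity elements `u`, `v` of `U` are orthogonal (`v ∈ Q u`). Write `QU` for the intersection of the `Q u` and `LU` for the join of the `Q u` over the non-identity `u` in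 `U`. If `U` is singular of order `2 ^ n` with `n ≥ 2`, then `U ≤ QU ≤ LU`, `LU` normalizes `U`, and `LU` induces on `U` its full automorphism group (the general linear group of dimension `n` over the field with two elements): every automorphism of `U` is conjugation by some element of `LU`. -/
theorem result {G : Type*} [Group G] [Finite G]
    (Q : G → Subgroup G)
    (hQ : ∀ x : G, Q x = (Cfsg.pCore 2 ↥(Subgroup.centralizer ({x} : Set G))).map (Subgroup.centralizer ({x} : Set G)).subtype)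
    (z : G) (hz : orderOf z = 2) (hE : Cfsg.IsExtraspecial 2 ↥(Q z))
    (hC : Subgroup.centralizer ((Q z : Subgroup G) : Set G) ≤ Q z)
    (U : Subgroup G) (hU2 : ∀ u ∈ U, u * u = 1)
    (hS : ∀ u ∈ U, u ≠ 1 → ∃ g : G, g * z * g⁻¹ = u)
    (hO : ∀ u ∈ U, ∀ v ∈ U, u ≠ 1 → v ≠ 1 → v ∈ Q u)
    (QU LU : Subgroup G) (hQU : QU = ⨅ u ∈ ((U : Set G) \ {1}), Q u) (hLU : LU = ⨆ u ∈ ((U : Set G) \ {1}), Q u)
    (n : ℕ) (hn : 2 ≤ n) (hcard : Nat.card ↥U = 2 ^ n) :
    U ≤ QU ∧ QU ≤ LU ∧ LU ≤ Subgroup.normalizer (U : Set G) ∧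
      ∀ φ : ↥U ≃* ↥U, ∃ g ∈ LU, ∀ u : ↥U, g * (u : G) * g⁻¹ = ((φ u : ↥U) : G) := by
  have hs : Sing Q U := sing_of hQ hz hE hU2 hS hO
  have hUQ : U ≤ QU := hQU ▸ hs.mem_inf
  have hLN : LU ≤ Subgroup.normalizer (U : Set G) := hLU ▸ hs.gen_le_normalizer
  have hne : ∃ u ∈ U, u ≠ 1 := by
    by_contra h
    push Not at h
    have : U = ⊥ := (Subgroup.eq_bot_iff_forall U).mpr h
    rw [this, Subgroup.card_bot] at hcard
    have : 1 < 2 ^ n := Nat.one_lt_two_pow (by omega)
    omega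
  refine ⟨hUQ, ?_, hLN, ?_⟩
  · obtain ⟨u, hu, h1⟩ := hne
    have hu' : u ∈ ((U : Set G) \ {1}) := ⟨hu, h1⟩
    rw [hQU, hLU]
    exact (iInf₂_le u hu').trans (le_iSup₂ (f := fun u (_ : u ∈ ((U : Set G) \ {1})) => Q u) u hu')
  intro φ
  induction hm : Nat.card {u : ↥U // φ u ≠ u} using Nat.strong_induction_on generalizing φ with
  | _ m ih =>
  by_cases hfix : ∀ u, φ u = u
  · exact ⟨1, LU.one_mem, fun u => by rw [hfix]; simp⟩
  push Not at hfix
  obtain ⟨v, hv⟩ := hfix
  let d : ↥U := v * φ v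
  have hd1 : (d : G) ≠ 1 := fun h => hv (by
    have h2 : (v : G) * (φ v : G) = 1 := h
    exact Subtype.ext (mul_left_cancel (h2.trans (hU2 v v.2).symm)))
  have hcomm : ∀ a b : ↥U, a * b = b * a := fun a b => Subtype.ext (hs.commute a.2 b.2).eq
  have hsq : ∀ a : ↥U, a * a = 1 := fun a => Subtype.ext (hU2 a a.2)
  let W : Subgroup ↥U :=
    { carrier := {a | φ a = a ∨ φ (a * d) = a * d}
      mul_mem' := by
        rintro a b (ha | ha) (hb | hb)
        · exact Or.inl (by rw [map_mul, ha, hb])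
        · exact Or.inr (by rw [mul_assoc, map_mul, ha, hb])
        · exact Or.inr (by rw [mul_assoc, hcomm b d, ← mul_assoc, map_mul, ha, hb])
        · refine Or.inl ?_
          have e : a * d * (b * d) = a * b := by
            rw [hcomm b d, mul_assoc, ← mul_assoc d d b, hsq, one_mul]
          rw [← e, map_mul, ha, hb]
      one_mem' := Or.inl (map_one φ)
      inv_mem' := by
        intro a ha
        rw [inv_eq_of_mul_eq_one_right (hsq a)]; exact ha }
  have hvW : v ∉ W := by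
    rintro (h | h)
    · exact hv h
    · have e : v * d = φ v := by
        show v * (v * φ v) = φ v
        rw [← mul_assoc, hsq, one_mul]
      rw [e] at h
      exact hv (φ.injective h)
  obtain ⟨f, hf, hfW, hfv⟩ := exists_separating hU2 W hvW
  have hfd : f (d : G) = 0 := hfW d (Or.inr (by rw [hsq, map_one]))
  obtain ⟨q, hq, hqf⟩ := exists_chi (hs.es d d.2 hd1) U (fun a ha => hs.orth d d.2 a ha hd1) hU2 f hf hfd
  have hqL : q ∈ LU := by
    rw [hLU]
    exact le_iSup₂ (f := fun u (_ : u ∈ ((U : Set G) \ {1})) => Q u) (d : G) ⟨d.2, hd1⟩ hq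
  have hact0 : ∀ a : ↥U, f a.1 = 0 → q * a.1 * q⁻¹ = a.1 := fun a h =>
    mul_inv_eq_iff_eq_mul.mpr (chi_eq_zero.mp ((hqf a a.2).trans h)).eq
  have hact1 : ∀ a : ↥U, f a.1 = 1 → q * a.1 * q⁻¹ = a.1 * d.1 := by
    intro a h
    refine ((hs.es d d.2 hd1).conj q hq a (hs.orth d d.2 a a.2 hd1)).resolve_left fun e => ?_
    have := hqf a a.2
    rw [h, chi_eq_zero.mpr (mul_inv_eq_iff_eq_mul.mp e)] at this
    exact zero_ne_one this
  have hnorm : ∀ {a : G}, a ∈ U ↔ q * a * q⁻¹ ∈ U := fun {a} =>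
    Subgroup.mem_normalizer_iff.mp (hLN hqL) a
  let t : ↥U ≃* ↥U :=
    { toFun := fun a => ⟨q * a.1 * q⁻¹, hnorm.mp a.2⟩
      invFun := fun a => ⟨q⁻¹ * a.1 * q, hnorm.mpr (by simpa [mul_assoc] using a.2)⟩
      left_inv := fun a => Subtype.ext (by simp [mul_assoc])
      right_inv := fun a => Subtype.ext (by simp [mul_assoc])
      map_mul' := fun a b => Subtype.ext (by simp [mul_assoc]) }
  have hfixed : ∀ u, φ u = u → t (φ u) = u := fun u hu =>
    Subtype.ext (by rw [hu]; exact hact0 u (hfW u (Or.inl hu)))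
  have hvfix : t (φ v) = v := by
    have e : φ v = v * d := by
      show φ v = v * (v * φ v)
      rw [← mul_assoc, hsq, one_mul]
    refine Subtype.ext ?_
    show q * (φ v).1 * q⁻¹ = v.1
    have hfw : f (φ v).1 = 1 := by
      rw [e, Subgroup.coe_mul, hf _ v.2 _ d.2, hfv, hfd, add_zero]
    rw [hact1 _ hfw, e, Subgroup.coe_mul, mul_assoc, hU2 d d.2, mul_one]
  have hlt : Nat.card {u : ↥U // (φ.trans t) u ≠ u} < m := by
    rw [← hm]
    refine lt_of_eq_of_lt (Nat.card_coe_set_eq {u : ↥U | (φ.trans t) u ≠ u})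
      (lt_of_lt_of_eq ?_ (Nat.card_coe_set_eq {u : ↥U | φ u ≠ u}).symm)
    refine Set.ncard_lt_ncard ⟨fun u hu h => hu (hfixed u h), fun hsub => ?_⟩
    exact hsub (show v ∈ {u : ↥U | φ u ≠ u} from hv) hvfix
  obtain ⟨g, hgL, hg⟩ := ih _ hlt (φ.trans t) rfl
  refine ⟨q⁻¹ * g, LU.mul_mem (LU.inv_mem hqL) hgL, fun u => ?_⟩
  calc q⁻¹ * g * u.1 * (q⁻¹ * g)⁻¹ = q⁻¹ * (g * u.1 * g⁻¹) * q := by group
    _ = q⁻¹ * (q * (φ u).1 * q⁻¹) * q := by rw [hg u]; rfl
    _ = (φ u).1 := by group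

end Cfsg.Agent.S5596
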