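import Cfsg.Statements.S5597
import Cfsg.Agent.Lib.LargeExtraspecial.Singular

set_option autoImplicit false
open Cfsg

namespace Cfsg.Agent.S5597

open Cfsg.Agent.Lib.LargeExtraspecial.Basic Cfsg.Agent.Lib.LargeExtraspecial.Singular

/-- Setting: `z` is an involution of the finite group `G`; for each element `x`, `Q x` is the largest normal 2-subgroup of the centralizer of `x`; `Q z` is extraspecial and contains its own centralizer in `G`. A subgroup `U` is singular when it is elementary abelian, every non-identity element of `U` is conjugate to `z`, and any two non-identity elements `u`, `v` of `U` are orthogonal (`v ∈ Q u`). Write `QU` for the intersection of the `Q u` and `LU` for the join of the `Q u` over the non-identity `u` in `U`. If `U` is a non-trivial singular subgroup, then `LU` acts trivially on `QU / U` (every commutator of an element of `LU` with an element of `QU` lies in `U`), and for every `x` in `QU` outside `U` the centralizer of `U` in `LU`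 permutes the coset `x U` transitively: each `x u` with `u ∈ U` is a conjugate of `x` by an element of `LU` centralizing `U`. -/
theorem result {G : Type*} [Group G] [Finite G]
    (Q : G → Subgroup G)
    (hQ : ∀ x : G, Q x = (Cfsg.pCore 2 ↥(Subgroup.centralizer ({x} : Set G))).map (Subgroup.centralizer ({x} : Set G)).subtype)
    (z : G) (hz : orderOf z = 2) (hE : Cfsg.IsExtraspecial 2 ↥(Q z))
    (hC : Subgroup.centralizer ((Q z : Subgroup G) : Set G) ≤ Q z)
    (U : Subgroup G) (hU2 : ∀ u ∈ U, u * u = 1)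
    (hS : ∀ u ∈ U, u ≠ 1 → ∃ g : G, g * z * g⁻¹ = u)
    (hO : ∀ u ∈ U, ∀ v ∈ U, u ≠ 1 → v ≠ 1 → v ∈ Q u)
    (QU LU : Subgroup G) (hQU : QU = ⨅ u ∈ ((U : Set G) \ {1}), Q u) (hLU : LU = ⨆ u ∈ ((U : Set G) \ {1}), Q u)
    (hU : U ≠ ⊥) :
    (∀ g ∈ LU, ∀ x ∈ QU, g * x * g⁻¹ * x⁻¹ ∈ U) ∧
      ∀ x ∈ QU, x ∉ U → ∀ u ∈ U, ∃ g ∈ LU ⊓ Subgroup.centralizer (U : Set G), g * x * g⁻¹ = x * u := by
  have hs : Sing Q U := sing_of hQ hz hE hU2 hS hO
  have hLN : LU ≤ Subgroup.normalizer (U : Set G) := hLU ▸ hs.gen_le_normalizer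
  obtain ⟨u₀, hu₀, hu₀1⟩ : ∃ u ∈ U, u ≠ 1 := by
    by_contra h; push Not at h; exact hU ((Subgroup.eq_bot_iff_forall U).mpr h)
  have hQle : ∀ u ∈ U, u ≠ 1 → QU ≤ Q u := fun u hu h1 => by
    rw [hQU]; exact iInf₂_le u ⟨hu, h1⟩
  have hQL : ∀ u ∈ U, u ≠ 1 → Q u ≤ LU := fun u hu h1 => by
    rw [hLU]; exact le_iSup₂ (f := fun u (_ : u ∈ ((U : Set G) \ {1})) => Q u) u ⟨hu, h1⟩
  have hn : ∀ {g a : G}, g ∈ Subgroup.normalizer (U : Set G) → a ∈ U → g * a * g⁻¹ ∈ U :=
    fun hg ha => (Subgroup.mem_normalizer_iff.mp hg _).mp ha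
  refine ⟨?_, ?_⟩
  · let K : Subgroup G :=
      { carrier := {g | g ∈ Subgroup.normalizer (U : Set G) ∧ ∀ x ∈ QU, g * x * g⁻¹ * x⁻¹ ∈ U}
        one_mem' := ⟨one_mem _, fun x _ => by simp⟩
        mul_mem' := by
          rintro g h ⟨hg, hg'⟩ ⟨hh, hh'⟩
          refine ⟨mul_mem hg hh, fun x hx => ?_⟩
          have := U.mul_mem (hn hg (hh' x hx)) (hg' x hx)
          rw [show g * h * x * (g * h)⁻¹ * x⁻¹ =
            g * (h * x * h⁻¹ * x⁻¹) * g⁻¹ * (g * x * g⁻¹ * x⁻¹) by group]
          exact this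
        inv_mem' := by
          rintro g ⟨hg, hg'⟩
          refine ⟨inv_mem hg, fun x hx => ?_⟩
          have := U.inv_mem (hn (inv_mem hg) (hg' x hx))
          rw [show g⁻¹ * x * g⁻¹⁻¹ * x⁻¹ = (g⁻¹ * (g * x * g⁻¹ * x⁻¹) * g⁻¹⁻¹)⁻¹ by group]
          exact this }
    have hle : LU ≤ K := by
      rw [hLU]
      exact iSup₂_le fun u hu q hq =>
        ⟨hLN (hQL u hu.1 hu.2 hq), fun x hx => hs.comm_gen hu.1 hu.2 hq (hQle u hu.1 hu.2 hx)⟩
    exact fun g hg => (hle hg).2
  · intro x hx hxU u hu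
    by_cases h1 : u = 1
    · exact ⟨1, one_mem _, by simp [h1]⟩
    have h := hs.es u hu h1
    have hxu : x ∈ Q u := hQle u hu h1 hx
    let V : Subgroup (G × Multiplicative (ZMod 2)) := U.prod ⊤
    have hV2 : ∀ a ∈ V, a * a = 1 := fun a ha => Prod.ext (hU2 a.1 ha.1) (by
      show a.2 * a.2 = 1
      exact (by decide : ∀ e : ZMod 2, Multiplicative.ofAdd e * Multiplicative.ofAdd e = 1) (Multiplicative.toAdd a.2))
    obtain ⟨⟨q, hq⟩, hqf⟩ := exists_functional V hV2 (ι := ↥(Q u))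
      (fun q a => chi q.1 a.1 + Multiplicative.toAdd a.2 * chi q.1 x)
      (fun q a ha b hb => by
        show chi q.1 (a.1 * b.1) + (Multiplicative.toAdd a.2 + Multiplicative.toAdd b.2) * chi q.1 x = _
        rw [h.chi_mul_right q.2 (hs.orth u hu a.1 ha.1 h1) (hs.orth u hu b.1 hb.1 h1)]; ring)
      ⟨1, fun a _ => by
        simp [chi_eq_zero.mpr (Commute.one_left a.1), chi_eq_zero.mpr (Commute.one_left x)]⟩
      (fun q r => ⟨q * r, fun a ha => by
        show chi (q.1 * r.1) a.1 + _ * chi (q.1 * r.1) x = _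
        rw [h.chi_mul_left q.2 r.2 (hs.orth u hu a.1 ha.1 h1), h.chi_mul_left q.2 r.2 hxu]; ring⟩)
      (fun a => Multiplicative.toAdd a.2) (fun a _ b _ => rfl)
      (fun a ha hker => by
        rcases (by decide : ∀ e : ZMod 2, e = 0 ∨ e = 1) (Multiplicative.toAdd a.2) with e | e
        · exact e
        · exfalso
          have hax : a.1 * x ∈ Q u := (Q u).mul_mem (hs.orth u hu a.1 ha.1 h1) hxu
          have hall : ∀ p ∈ Q u, Commute p (a.1 * x) := fun p hp => chi_eq_zero.mp (by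
            have := hker ⟨p, hp⟩
            rw [e, one_mul] at this
            rw [h.chi_mul_right hp (hs.orth u hu a.1 ha.1 h1) hxu]; exact this)
          apply hxU
          rcases h.center _ hax hall with e2 | e2
          · rw [eq_inv_of_mul_eq_one_right e2]; exact U.inv_mem ha.1
          · rw [show x = a.1⁻¹ * u from eq_inv_mul_iff_mul_eq.mpr e2]
            exact U.mul_mem (U.inv_mem ha.1) hu)
    have hqU : ∀ a ∈ U, chi q a = 0 := fun a ha => by
      simpa using hqf (a, 1) ⟨ha, trivial⟩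
    have hqx : chi q x = 1 := by
      have := hqf (1, Multiplicative.ofAdd 1) ⟨one_mem _, trivial⟩
      simpa [chi_eq_zero.mpr (Commute.one_right q)] using this
    refine ⟨q, Subgroup.mem_inf.mpr ⟨hQL u hu h1 hq,
      Subgroup.mem_centralizer_iff.mpr fun a ha => (chi_eq_zero.mp (hqU a ha)).symm.eq⟩, ?_⟩
    refine (h.conj q hq x hxu).resolve_left fun e => ?_
    rw [chi_eq_zero.mpr (mul_inv_eq_iff_eq_mul.mp e)] at hqx
    exact zero_ne_one hqx

end Cfsg.Agent.S5597
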