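import Cfsg.Statements.S5598
import Cfsg.Agent.Lib.LargeExtraspecial.Singular

set_option autoImplicit false
open Cfsg

namespace Cfsg.Agent.S5598

open Cfsg.Agent.Lib.LargeExtraspecial.Basic Cfsg.Agent.Lib.LargeExtraspecial.Singular

/-- Setting: `z` is an involution of the finite group `G`; for each element `x`, `Q x` is the largest normal 2-subgroup of the centralizer of `x`; `Q z` is extraspecial and contains its own centralizer in `G`. A subgroup `U` is singular when it is elementary abelian, every non-identity element of `U` is conjugate to `z`, and any two non-identity elements `u`, `v` of `U` are orthogonal (`v ∈ Q u`). Write `QU` for the intersection of the `Q u` and `LU` for the join of the `Q u` over the non-identity `u` in `U`. If the singular subgroup `U` is generated by a set `T` of non-identity elements, then `QU` is already the intersection of the `Q t` over `t ∈ T`. -/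
theorem result {G : Type*} [Group G] [Finite G]
    (Q : G → Subgroup G)
    (hQ : ∀ x : G, Q x = (Cfsg.pCore 2 ↥(Subgroup.centralizer ({x} : Set G))).map (Subgroup.centralizer ({x} : Set G)).subtype)
    (z : G) (hz : orderOf z = 2) (hE : Cfsg.IsExtraspecial 2 ↥(Q z))
    (hC : Subgroup.centralizer ((Q z : Subgroup G) : Set G) ≤ Q z)
    (U : Subgroup G) (hU2 : ∀ u ∈ U, u * u = 1)
    (hS : ∀ u ∈ U, u ≠ 1 → ∃ g : G, g * z * g⁻¹ = u)
    (hO : ∀ u ∈ U, ∀ v ∈ U, u ≠ 1 → v ≠ 1 → v ∈ Q u)
    (QU LU : Subgroup G) (hQU : QU = ⨅ u ∈ ((U : Set G) \ {1}), Q u) (hLU : LU = ⨆ u ∈ ((U : Set G) \ {1}), Q u)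
    (T : Set G) (hT : Subgroup.closure T = U) (hT1 : (1 : G) ∉ T) :
    QU = ⨅ t ∈ T, Q t := by
  have hs : Sing Q U := sing_of hQ hz hE hU2 hS hO
  have hTU : T ⊆ U := fun t ht => hT ▸ Subgroup.subset_closure ht
  subst hQU
  refine le_antisymm (le_iInf₂ fun t ht => iInf₂_le t ⟨hTU ht, fun h => hT1 (h ▸ ht)⟩) ?_
  refine le_iInf₂ fun u hu => ?_
  obtain ⟨hu, hu1⟩ := hu
  have main : ∀ u ∈ Subgroup.closure T, u ∈ U ∧ (u ≠ 1 → (⨅ t ∈ T, Q t) ≤ Q u) := by
    intro u hu
    induction hu using Subgroup.closure_induction with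
    | mem t ht => exact ⟨hTU ht, fun _ => iInf₂_le t ht⟩
    | one => exact ⟨one_mem _, fun h => absurd rfl h⟩
    | mul a b _ _ ha hb =>
      refine ⟨U.mul_mem ha.1 hb.1, fun hab => ?_⟩
      by_cases a1 : a = 1
      · subst a1; rw [one_mul] at hab ⊢; exact hb.2 hab
      by_cases b1 : b = 1
      · subst b1; rw [mul_one] at hab ⊢; exact ha.2 hab
      exact fun x hx => hs.inf_le_mul hb.1 ha.1 b1 a1 (hb.2 b1 hx) (ha.2 a1 hx) hab
    | inv a _ ha => rw [inv_eq_of_mul_eq_one_right (hU2 a ha.1)]; exact ha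
  exact (main u (hT.symm ▸ hu)).2 hu1

end Cfsg.Agent.S5598
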