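import Cfsg.Statements.S5599
import Cfsg.Agent.Lib.Golay.Stabilizers
import Cfsg.Agent.Lib.M24Classes.Classes
-- import your own Cfsg.Agent.* helpers here

set_option autoImplicit false
open scoped Pointwise
open Cfsg

namespace Cfsg.Agent.S5599

open Cfsg.Agent.Lib.Golay Cfsg.Agent.Lib.Computation Cfsg.Agent.Lib.M24Classes
open Cfsg.Agent.Lib.M24Classes.Classes (P)

theorem points : pt 23 = (none : Cfsg.GolayPt) ∧ pt 0 = some 0 := by decide +kernel

theorem swap_codes : ((List.range 24).all fun i => Nat.beq i 23 || Nat.beq i 0 ||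
    Nat.beq (getW 5 Classes.swapCode i) i) = true ∧ getW 5 Classes.swapCode 23 = 0 ∧
    getW 5 Classes.swapCode 0 = 23 := by decide +kernel

/-- The transposition is not in the group. -/
theorem swap_not_mem {c : P} (h1 : c none = some 0) (h2 : c (some 0) = none)
    (hfix : ∀ p : Cfsg.GolayPt, p ≠ none → p ≠ some 0 → c p = p) : c ∉ Cfsg.M24 := by
  have hk := Classes.smallOk_true
  simp only [Classes.smallOk, Bool.and_eq_true, List.any_eq_true, Bool.not_eq_true'] at hk
  obtain ⟨hsw, r, hr, hn⟩ := hk.1.1.1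
  have e : c = gperm Classes.swapCode := by
    have hs := swap_codes
    simp only [List.all_eq_true, List.mem_range, Bool.or_eq_true, Nat.beq_eq] at hs
    refine Equiv.ext fun p => idx_injective ?_
    rw [idx_gperm hsw]
    rcases hs.1 (idx p) (idx_lt p) with (h | h) | h
    · have hp : p = none := by rw [← pt_idx p, h, points.1]
      rw [h, hs.2.1, hp, h1, ← points.2, idx_pt (by norm_num : 0 < 24)]
    · have hp : p = some 0 := by rw [← pt_idx p, h, points.2]
      rw [h, hs.2.2, hp, h2, ← points.1, idx_pt (by norm_num : 23 < 24)]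
    · by_cases hp1 : p = none
      · subst hp1
        rw [← points.1, idx_pt (by norm_num : 23 < 24)] at h ⊢
        rw [hs.2.1] at h; omega
      by_cases hp2 : p = some 0
      · subst hp2
        rw [← points.2, idx_pt (by norm_num : 0 < 24)] at h ⊢
        rw [hs.2.2] at h; omega
      rw [hfix p hp1 hp2, h]
  exact e ▸ Classes.not_mem_of_row hsw hr hn

theorem mem_M22 {x : P} : x ∈ Cfsg.Spor.M22 ↔ x ∈ Cfsg.M24 ∧ x none = none ∧ x (some 0) = some 0 :=
  ⟨fun h => ⟨h.1.1, h.1.2, h.2⟩, fun h => ⟨⟨h.1, h.2.1⟩, h.2.2⟩⟩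

theorem mem_pair {x : P} (hx : x • ({none, some 0} : Finset Cfsg.GolayPt) = {none, some 0}) :
    (x none = none ∧ x (some 0) = some 0) ∨ (x none = some 0 ∧ x (some 0) = none) := by
  have h1 : x none ∈ ({none, some 0} : Finset Cfsg.GolayPt) := by
    rw [← hx]; exact Finset.smul_mem_smul_finset (by simp)
  have h2 : x (some 0) ∈ ({none, some 0} : Finset Cfsg.GolayPt) := by
    rw [← hx]; exact Finset.smul_mem_smul_finset (by simp)
  have hne : x none ≠ x (some 0) := fun h => absurd (x.injective h) (by simp)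
  simp only [Finset.mem_insert, Finset.mem_singleton] at h1 h2
  rcases h1 with h1 | h1 <;> rcases h2 with h2 | h2
  · exact absurd (h1.trans h2.symm) hne
  · exact Or.inl ⟨h1, h2⟩
  · exact Or.inr ⟨h1, h2⟩
  · exact absurd (h1.trans h2.symm) hne

/-- In the automorphism group of the length-24 code, the two-point Mathieu group (permutations of the code's group fixing the extra point and the residue 0) has index 2 in the setwise stabiliser of that pair of points, and an element of the code's group interchanging the two points normalises the two-point group and induces on it, by conjugation, an automorphism that is not inner. -/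
theorem result (g : Equiv.Perm Cfsg.GolayPt) (hg : g ∈ Cfsg.M24) (h₁ : g none = some 0) (h₂ : g (some 0) = none) : Cfsg.Spor.M22.relIndex (Cfsg.M24 ⊓ MulAction.stabilizer (Equiv.Perm Cfsg.GolayPt) ({none, some 0} : Finset Cfsg.GolayPt)) = 2 ∧ (∀ x ∈ Cfsg.Spor.M22, g * x * g⁻¹ ∈ Cfsg.Spor.M22) ∧ ¬ ∃ h ∈ Cfsg.Spor.M22, ∀ x ∈ Cfsg.Spor.M22, g * x * g⁻¹ = h * x * h⁻¹ := by
  have hgi1 : g⁻¹ none = some 0 := Equiv.Perm.inv_eq_iff_eq.mpr h₂.symm
  have hgi2 : g⁻¹ (some 0) = none := Equiv.Perm.inv_eq_iff_eq.mpr h₁.symm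
  have hgpair : g • ({none, some 0} : Finset Cfsg.GolayPt) = {none, some 0} := by
    rw [Finset.smul_finset_insert, Finset.smul_finset_singleton, Equiv.Perm.smul_def, Equiv.Perm.smul_def, h₁, h₂,
      Finset.pair_comm]
  refine ⟨?_, ?_, ?_⟩
  · rw [Subgroup.relIndex, Subgroup.index_eq_two_iff]
    refine ⟨⟨g, hg, hgpair⟩, fun b => ?_⟩
    simp only [Subgroup.mem_subgroupOf, Subgroup.coe_mul, mem_M22, Equiv.Perm.mul_apply, h₁, h₂]
    rcases mem_pair (x := b.1) b.2.2 with ⟨a1, a2⟩ | ⟨a1, a2⟩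
    · refine Or.inr ⟨⟨b.2.1, a1, a2⟩, fun h => ?_⟩
      rw [a2] at h
      exact absurd h.2.1 (by simp)
    · refine Or.inl ⟨⟨Cfsg.M24.mul_mem b.2.1 hg, a2, a1⟩, fun h => ?_⟩
      rw [a1] at h
      exact absurd h.2.1 (by simp)
  · intro x hx
    obtain ⟨hxm, x1, x2⟩ := mem_M22.1 hx
    refine mem_M22.2 ⟨Cfsg.M24.mul_mem (Cfsg.M24.mul_mem hg hxm) (Cfsg.M24.inv_mem hg), ?_, ?_⟩
    · rw [Equiv.Perm.mul_apply, Equiv.Perm.mul_apply, hgi1, x2, h₂]
    · rw [Equiv.Perm.mul_apply, Equiv.Perm.mul_apply, hgi2, x1, h₁]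
  · rintro ⟨h, hh, hconj⟩
    obtain ⟨hhm, hh1, hh2⟩ := mem_M22.1 hh
    obtain ⟨c, hcdef⟩ : ∃ c, c = h⁻¹ * g := ⟨_, rfl⟩
    have hcm : c ∈ Cfsg.M24 := hcdef ▸ Cfsg.M24.mul_mem (Cfsg.M24.inv_mem hhm) hg
    have hc1 : c none = some 0 := by
      rw [hcdef, Equiv.Perm.mul_apply, h₁]; exact Equiv.Perm.inv_eq_iff_eq.mpr hh2.symm
    have hc2 : c (some 0) = none := by
      rw [hcdef, Equiv.Perm.mul_apply, h₂]; exact Equiv.Perm.inv_eq_iff_eq.mpr hh1.symm
    have hcomm : ∀ x ∈ Cfsg.Spor.M22, c * x = x * c := fun x hx => by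
      calc c * x = h⁻¹ * (g * x * g⁻¹) * g := by rw [hcdef]; group
        _ = x * c := by rw [hconj x hx, hcdef]; group
    refine swap_not_mem hc1 hc2 (fun p hp1 hp2 => ?_) hcm
    by_contra hne
    have hq1 : c p ≠ none := fun e => hp2 (c.injective (e.trans hc2.symm))
    have hq2 : c p ≠ some 0 := fun e => hp1 (c.injective (e.trans hc1.symm))
    obtain ⟨r, hr⟩ := Classes.exists_new [none, some 0, p, c p] (by norm_num)
    simp only [List.mem_cons, List.not_mem_nil, or_false, not_or] at hr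
    obtain ⟨m, hm, hmx⟩ := exists_map_tuple (n := 4) (by norm_num)
      ⟨![none, some 0, p, c p], injective_quad (by simp) (Ne.symm hp1) (Ne.symm hq1) (Ne.symm hp2) (Ne.symm hq2) (Ne.symm hne)⟩
      ⟨![none, some 0, p, r], injective_quad (by simp) (Ne.symm hp1) (Ne.symm hr.1) (Ne.symm hp2) (Ne.symm hr.2.1) (Ne.symm hr.2.2.1)⟩
    have m1 : m none = none := hmx 0
    have m2 : m (some 0) = some 0 := hmx 1
    have m3 : m p = p := hmx 2
    have m4 : m (c p) = r := hmx 3
    have hh := Equiv.congr_fun (hcomm m (mem_M22.2 ⟨hm, m1, m2⟩)) p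
    rw [Equiv.Perm.mul_apply, Equiv.Perm.mul_apply, m3, m4] at hh
    exact hr.2.2.2 hh.symm

end Cfsg.Agent.S5599
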