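import Cfsg.Statements.S5600
import Cfsg.Agent.Lib.Golay.M24
import Cfsg.Agent.Lib.M24Classes.OctadPairs
-- import your own Cfsg.Agent.* helpers here

set_option autoImplicit false
open scoped Pointwise
open Cfsg

namespace Cfsg.Agent.S5600

open Cfsg.Agent.Lib.Golay Cfsg.Agent.Lib.M24Classes

abbrev P : Type := Equiv.Perm Cfsg.GolayPt

/-- The first five of six labelled points. -/
def five (e : Fin 6 ↪ Cfsg.GolayPt) : Fin 5 ↪ Cfsg.GolayPt :=
  Fin.castSuccEmb.trans e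

theorem five_apply (e : Fin 6 ↪ Cfsg.GolayPt) (i : Fin 5) : five e i = e i.castSucc := rfl

theorem cases_six {p : Fin 6 → Prop} (h5 : ∀ i : Fin 5, p i.castSucc) (h6 : p (Fin.last 5)) : ∀ j, p j :=
  fun j => Fin.lastCases h6 h5 j

theorem five_ne_last (e : Fin 6 ↪ Cfsg.GolayPt) (i : Fin 5) : five e i ≠ e (Fin.last 5) := fun h =>
  absurd (e.injective h) (Fin.castSucc_lt_last i).ne

theorem agree_of_frame {g h : P} (hg : g ∈ Cfsg.M24) (hh : h ∈ Cfsg.M24)
    {x : Fin 5 ↪ Cfsg.GolayPt} {y z : Cfsg.GolayPt} {a : P} (ha : a ∈ Cfsg.M24)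
    (ax : ∀ i, a (baseFive i) = x i) (ay : a basePt6 = y) (az : a basePt7 = z)
    (h5 : ∀ i, g (x i) = h (x i)) (h6 : g y = h y) (h7 : g z = h z) : g = h := by
  have := eq_of_base (Cfsg.M24.mul_mem hg ha) (Cfsg.M24.mul_mem hh ha)
    (fun i => by rw [Equiv.Perm.mul_apply, Equiv.Perm.mul_apply, ax, h5])
    (by rw [Equiv.Perm.mul_apply, Equiv.Perm.mul_apply, ay, h6])
    (by rw [Equiv.Perm.mul_apply, Equiv.Perm.mul_apply, az, h7])
  exact mul_right_cancel this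

theorem smul_octad {g : P} (hg : g ∈ Cfsg.M24) {o : Finset Cfsg.GolayPt} (ho : o ∈ Cfsg.octads)
    {x : Fin 5 ↪ Cfsg.GolayPt} (hx : ∀ i, x i ∈ o) (hfix : ∀ i, g (x i) = x i) : g • o = o := by
  refine smul_octad_eq hg ho (s := Finset.univ.map x) (by simp) ?_ ?_ <;> intro p hp <;>
    obtain ⟨i, -, rfl⟩ := Finset.mem_map.1 hp
  exacts [hx i, hfix i]

/-- Six points in an octad. -/
theorem inside (e : Fin 6 ↪ Cfsg.GolayPt) {o : Finset Cfsg.GolayPt} (ho : o ∈ Cfsg.octads) (he : ∀ j, e j ∈ o) :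
    Nat.card {g : P // g ∈ Cfsg.M24 ∧ ∀ j, g (e j) = e j} = 16 ∧
    ∀ (e' : Fin 6 ↪ Cfsg.GolayPt), (∀ j, e' j ∈ o) → ∃ g ∈ Cfsg.M24, ∀ j, g (e j) = e' j := by
  obtain ⟨z₀, hz₀⟩ : ∃ z, z ∉ o := by
    by_contra hc
    push Not at hc
    have h := Finset.card_le_card (fun p _ => hc p : (Finset.univ : Finset Cfsg.GolayPt) ⊆ o)
    rw [Finset.card_univ, Cfsg.Agent.Lib.Golay.card_golayPt, ho.2] at h
    omega
  obtain ⟨a, ha, ax, ay, az⟩ := exists_mem_of_images (five e) ho (fun i => he _) (he (Fin.last 5))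
    (fun i => five_ne_last e i) hz₀
  refine ⟨?_, fun e' he' => ?_⟩
  · have hmap : ∀ g : {g : P // g ∈ Cfsg.M24 ∧ ∀ j, g (e j) = e j}, g.1 z₀ ∈ oᶜ := fun g => by
      rw [Finset.mem_compl]
      intro h
      have hgo := smul_octad g.2.1 ho (x := five e) (fun i => he _) (fun i => g.2.2 _)
      rw [← hgo, ← Equiv.Perm.smul_def, Finset.smul_mem_smul_finset_iff] at h
      exact hz₀ h
    have hb : Function.Bijective (fun g => (⟨_, hmap g⟩ : ↥oᶜ)) := by
      refine ⟨fun g h hgh => Subtype.ext (agree_of_frame g.2.1 h.2.1 ha ax ay az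
        (fun i => by rw [five_apply, g.2.2, h.2.2]) (by rw [g.2.2, h.2.2]) (congrArg Subtype.val hgh)), ?_⟩
      rintro ⟨z, hz⟩
      obtain ⟨b, hb, bx, bY, bz⟩ := exists_mem_of_images (five e) ho (fun i => he _) (he (Fin.last 5))
        (fun i => five_ne_last e i) (Finset.mem_compl.1 hz)
      refine ⟨⟨b * a⁻¹, Cfsg.M24.mul_mem hb (Cfsg.M24.inv_mem ha), cases_six (fun i => ?_) ?_⟩, Subtype.ext ?_⟩
      · rw [← five_apply]; conv_lhs => rw [← ax i]
        rw [Equiv.Perm.mul_apply, Equiv.Perm.inv_def, Equiv.symm_apply_apply, bx]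
      · conv_lhs => rw [← ay]
        rw [Equiv.Perm.mul_apply, Equiv.Perm.inv_def, Equiv.symm_apply_apply, bY]
      · show (b * a⁻¹) z₀ = z
        rw [← az, Equiv.Perm.mul_apply, Equiv.Perm.inv_def, Equiv.symm_apply_apply, bz]
    rw [Nat.card_eq_of_bijective _ hb, Nat.card_eq_fintype_card, Fintype.card_coe, Finset.card_compl,
      Cfsg.Agent.Lib.Golay.card_golayPt, ho.2]
  · obtain ⟨b, hb, bx, bY, -⟩ := exists_mem_of_images (five e') ho (fun i => he' _) (he' (Fin.last 5))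
      (fun i => five_ne_last e' i) hz₀
    refine ⟨b * a⁻¹, Cfsg.M24.mul_mem hb (Cfsg.M24.inv_mem ha), cases_six (fun i => ?_) ?_⟩
    · rw [← five_apply e, ← ax i, Equiv.Perm.mul_apply, Equiv.Perm.inv_def, Equiv.symm_apply_apply, bx]; rfl
    · rw [← ay, Equiv.Perm.mul_apply, Equiv.Perm.inv_def, Equiv.symm_apply_apply, bY]

theorem outside_data (e : Fin 6 ↪ Cfsg.GolayPt) (hno : ¬ ∃ o ∈ Cfsg.octads, ∀ j, e j ∈ o) :
    ∃ o ∈ Cfsg.octads, (∀ i, five e i ∈ o) ∧ e (Fin.last 5) ∉ o ∧ (o \ Finset.univ.map (five e)).card = 3 := by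
  refine ⟨octadOf (five e), (octadOf_spec _).1, (octadOf_spec _).2, fun h => hno ⟨_, (octadOf_spec _).1,
    cases_six (octadOf_spec (five e)).2 h⟩, ?_⟩
  rw [Finset.card_sdiff_of_subset, (octadOf_spec _).1.2, Finset.card_map, Finset.card_univ, Fintype.card_fin]
  intro p hp
  obtain ⟨i, -, rfl⟩ := Finset.mem_map.1 hp
  exact (octadOf_spec (five e)).2 i

/-- Six points in no octad. -/
theorem outside (e : Fin 6 ↪ Cfsg.GolayPt) (hno : ¬ ∃ o ∈ Cfsg.octads, ∀ j, e j ∈ o) :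
    Nat.card {g : P // g ∈ Cfsg.M24 ∧ ∀ j, g (e j) = e j} = 3 ∧
    ∀ (e' : Fin 6 ↪ Cfsg.GolayPt), (¬ ∃ o ∈ Cfsg.octads, ∀ j, e' j ∈ o) → ∃ g ∈ Cfsg.M24, ∀ j, g (e j) = e' j := by
  obtain ⟨o, ho, hx, hw, h3⟩ := outside_data e hno
  obtain ⟨y₀, hy₀⟩ : (o \ Finset.univ.map (five e)).Nonempty := Finset.card_pos.1 (by omega)
  have hy' : ∀ (f : Fin 5 ↪ Cfsg.GolayPt) (s : Finset Cfsg.GolayPt) (y : Cfsg.GolayPt),
      y ∈ s \ Finset.univ.map f → y ∈ s ∧ ∀ i, f i ≠ y := fun f s y hy => by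
    rw [Finset.mem_sdiff, Finset.mem_map] at hy
    exact ⟨hy.1, fun i e => hy.2 ⟨i, Finset.mem_univ i, e⟩⟩
  obtain ⟨a, ha, ax, ay, az⟩ := exists_mem_of_images (five e) ho hx (hy' _ _ _ hy₀).1 (hy' _ _ _ hy₀).2 hw
  refine ⟨?_, fun e' he' => ?_⟩
  · have hmap : ∀ g : {g : P // g ∈ Cfsg.M24 ∧ ∀ j, g (e j) = e j}, g.1 y₀ ∈ o \ Finset.univ.map (five e) := fun g => by
      obtain ⟨h1, h2⟩ := hy' _ _ _ hy₀
      rw [Finset.mem_sdiff, Finset.mem_map]
      refine ⟨?_, fun ⟨i, _, hi⟩ => h2 i (g.1.injective ((g.2.2 _).trans hi))⟩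
      have hgo := smul_octad g.2.1 ho (x := five e) hx (fun i => g.2.2 _)
      rw [← hgo]
      exact Finset.smul_mem_smul_finset h1
    have hb : Function.Bijective (fun g => (⟨_, hmap g⟩ : ↥(o \ Finset.univ.map (five e)))) := by
      refine ⟨fun g h hgh => Subtype.ext (agree_of_frame g.2.1 h.2.1 ha ax ay az
        (fun i => by rw [five_apply, g.2.2, h.2.2]) (congrArg Subtype.val hgh) (by rw [g.2.2, h.2.2])), ?_⟩
      rintro ⟨y, hy⟩
      obtain ⟨b, hb, bx, bY, bz⟩ := exists_mem_of_images (five e) ho hx (hy' _ _ _ hy).1 (hy' _ _ _ hy).2 hw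
      refine ⟨⟨b * a⁻¹, Cfsg.M24.mul_mem hb (Cfsg.M24.inv_mem ha), cases_six (fun i => ?_) ?_⟩, Subtype.ext ?_⟩
      · rw [← five_apply]; conv_lhs => rw [← ax i]
        rw [Equiv.Perm.mul_apply, Equiv.Perm.inv_def, Equiv.symm_apply_apply, bx]
      · conv_lhs => rw [← az]
        rw [Equiv.Perm.mul_apply, Equiv.Perm.inv_def, Equiv.symm_apply_apply, bz]
      · show (b * a⁻¹) y₀ = y
        rw [← ay, Equiv.Perm.mul_apply, Equiv.Perm.inv_def, Equiv.symm_apply_apply, bY]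
    rw [Nat.card_eq_of_bijective _ hb, Nat.card_eq_fintype_card, Fintype.card_coe, h3]
  · obtain ⟨o', ho', hx', hw', h3'⟩ := outside_data e' he'
    obtain ⟨y₁, hy₁⟩ : (o' \ Finset.univ.map (five e')).Nonempty := Finset.card_pos.1 (by omega)
    obtain ⟨b, hb, bx, -, bz⟩ := exists_mem_of_images (five e') ho' hx' (hy' _ _ _ hy₁).1 (hy' _ _ _ hy₁).2 hw'
    refine ⟨b * a⁻¹, Cfsg.M24.mul_mem hb (Cfsg.M24.inv_mem ha), cases_six (fun i => ?_) ?_⟩
    · rw [← five_apply e, ← ax i, Equiv.Perm.mul_apply, Equiv.Perm.inv_def, Equiv.symm_apply_apply, bx]; rfl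
    · rw [← az, Equiv.Perm.mul_apply, Equiv.Perm.inv_def, Equiv.symm_apply_apply, bz]

/-- Although the group of the length-24 code is only 5-transitive on the 24 points, it induces the full symmetric group on every 6-element subset: every permutation of a 6-set E is the restriction of an element of the group mapping E to itself. The pointwise stabiliser of E has order 16 when E lies in an octad and order 3 otherwise; in the latter case the setwise stabiliser of E has order 2160. -/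
theorem result (E : Finset Cfsg.GolayPt) (hE : E.card = 6) : (∀ σ : Equiv.Perm ↥E, ∃ g ∈ Cfsg.M24, ∀ p : ↥E, g p = σ p) ∧ ((∃ o ∈ Cfsg.octads, E ⊆ o) → Nat.card {g : Equiv.Perm Cfsg.GolayPt // g ∈ Cfsg.M24 ∧ ∀ p ∈ E, g p = p} = 16) ∧ ((¬ ∃ o ∈ Cfsg.octads, E ⊆ o) → Nat.card {g : Equiv.Perm Cfsg.GolayPt // g ∈ Cfsg.M24 ∧ ∀ p ∈ E, g p = p} = 3 ∧ Nat.card ↥(MulAction.stabilizer Cfsg.M24 E) = 2160) := by
  let q : Fin 6 ≃ ↥E := (E.equivFinOfCardEq hE).symm
  let e : Fin 6 ↪ Cfsg.GolayPt := q.toEmbedding.trans (Function.Embedding.subtype _)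
  have hcongr : Nat.card {g : P // g ∈ Cfsg.M24 ∧ ∀ p ∈ E, g p = p} =
      Nat.card {g : P // g ∈ Cfsg.M24 ∧ ∀ j, g (e j) = e j} := by
    refine Nat.card_congr (Equiv.subtypeEquivRight fun g => and_congr_right fun _ =>
      ⟨fun h j => h _ (q j).2, fun h p hp => ?_⟩)
    have := h (q.symm ⟨p, hp⟩)
    simpa [e] using this
  have hin : (∃ o ∈ Cfsg.octads, E ⊆ o) ↔ ∃ o ∈ Cfsg.octads, ∀ j, e j ∈ o := by
    refine exists_congr fun o => and_congr_right fun _ => ⟨fun h j => h (q j).2, fun h p hp => ?_⟩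
    have := h (q.symm ⟨p, hp⟩)
    simpa [e] using this
  have hsigma : ∀ σ : Equiv.Perm ↥E, ∃ g ∈ Cfsg.M24, ∀ p : ↥E, g p = σ p := by
    intro σ
    let e' : Fin 6 ↪ Cfsg.GolayPt := (q.trans σ).toEmbedding.trans (Function.Embedding.subtype _)
    have hfin : ∀ g : P, (∀ j, g (e j) = e' j) → ∀ p : ↥E, g p = σ p := fun g h p => by
      have := h (q.symm p)
      simpa [e, e'] using this
    by_cases h : ∃ o ∈ Cfsg.octads, ∀ j, e j ∈ o
    · obtain ⟨o, ho, hoe⟩ := h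
      obtain ⟨g, hg, hge⟩ := (inside e ho hoe).2 e' (fun j => by
        have := hoe (q.symm (σ (q j)))
        simpa [e, e'] using this)
      exact ⟨g, hg, hfin g hge⟩
    · obtain ⟨g, hg, hge⟩ := (outside e h).2 e' (fun ⟨o, ho, hoe⟩ => h ⟨o, ho, fun j => by
        have := hoe (q.symm (σ.symm (q j)))
        simpa [e, e'] using this⟩)
      exact ⟨g, hg, hfin g hge⟩
  refine ⟨hsigma, fun h => ?_, fun h => ?_⟩
  · obtain ⟨o, ho, hoe⟩ := hin.1 h
    rw [hcongr, (inside e ho hoe).1]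
  · have h3 : Nat.card {g : P // g ∈ Cfsg.M24 ∧ ∀ p ∈ E, g p = p} = 3 := by
      rw [hcongr, (outside e (fun h' => h (hin.2 h'))).1]
    refine ⟨h3, ?_⟩
    have hC : ∀ g ∈ MulAction.stabilizer Cfsg.M24 E, g • E = E := fun g hg => MulAction.mem_stabilizer_iff.1 hg
    let φ := OctadPairs.restrict (MulAction.stabilizer Cfsg.M24 E) E hC
    have hsurj : Function.Surjective φ := by
      intro σ
      obtain ⟨g, hg, hgp⟩ := hsigma σ
      have hst : g • E = E := by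
        refine Finset.eq_of_subset_of_card_le ?_ (by rw [Finset.card_smul_finset])
        intro p hp
        obtain ⟨r, hr, rfl⟩ := Finset.mem_smul_finset.1 hp
        show g r ∈ E
        rw [hgp ⟨r, hr⟩]
        exact (σ ⟨r, hr⟩).2
      exact ⟨⟨⟨g, hg⟩, hst⟩, Equiv.ext fun p => Subtype.ext (hgp p)⟩
    have hker : Nat.card ↥φ.ker = 3 := by
      rw [← h3]
      exact Nat.card_congr
        { toFun := fun g => ⟨g.1.1.1, g.1.1.2, fun p hp => congrArg Subtype.val (Equiv.congr_fun g.2 ⟨p, hp⟩)⟩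
          invFun := fun g => ⟨⟨⟨g.1, g.2.1⟩, show g.1 • E = E from by
              refine Finset.eq_of_subset_of_card_le ?_ (by rw [Finset.card_smul_finset])
              intro p hp
              obtain ⟨r, hr, rfl⟩ := Finset.mem_smul_finset.1 hp
              show g.1 r ∈ E
              rw [g.2.2 r hr]; exact hr⟩,
            Equiv.ext fun p => Subtype.ext (g.2.2 p.1 p.2)⟩
          left_inv := fun _ => rfl
          right_inv := fun _ => rfl }
    have hrange : Nat.card ↥φ.range = 720 := by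
      rw [MonoidHom.range_eq_top.2 hsurj, Subgroup.card_top, Nat.card_perm, Nat.card_eq_fintype_card,
        Fintype.card_coe, hE]
      rfl
    rw [← Subgroup.card_mul_index φ.ker, hker, Subgroup.index_ker, hrange]

end Cfsg.Agent.S5600
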