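import Cfsg.Statements.S5601
import Cfsg.Agent.Lib.M24Classes.Classes

set_option autoImplicit false
open scoped Pointwise
open Cfsg

namespace Cfsg.Agent.S5601

open Cfsg.Agent.Lib.Golay Cfsg.Agent.Lib.M24Classes Cfsg.Agent.Lib.M24Classes.Classes
open scoped Pointwise

theorem cube_of_order {g : P} (h : orderOf g = 3) : g ≠ 1 ∧ g * g * g = 1 :=
  ⟨fun e => by simp [e] at h, by rw [← pow_three', ← h]; exact pow_orderOf_eq_one g⟩

theorem mem_reps : inM24 Data.r6 = true ∧ inM24 Data.r0 = true := by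
  have h := class3_ok
  simp only [Bool.and_eq_true] at h
  exact ⟨h.1.1.2, h.1.2⟩

theorem cube_reps : Classes.cubeOne Data.r6 = true ∧ Classes.cubeOne Data.r0 = true := by decide +kernel

theorem order_rep {c : ℕ} (hc : okCode c = true) (h3 : Classes.cubeOne c = true)
    (hn : fixCnt (gperm c) ≠ 24) : orderOf (gperm c) = 3 := by
  haveI : Fact (Nat.Prime 3) := ⟨Nat.prime_three⟩
  simp only [Classes.cubeOne, List.all_eq_true, List.mem_range, Nat.beq_eq] at h3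
  refine orderOf_eq_prime ?_ ?_
  · refine Equiv.ext fun p => idx_injective ?_
    rw [pow_three, Equiv.Perm.mul_apply, Equiv.Perm.mul_apply, idx_gperm hc, idx_gperm hc, idx_gperm hc]
    exact h3 _ (idx_lt p)
  · intro e
    apply hn
    rw [e, fixCnt]
    simp

theorem exists_generator {X : Subgroup ↥Cfsg.M24} (hX : Nat.card X = 3) :
    ∃ x : ↥Cfsg.M24, orderOf x.1 = 3 ∧ X = Subgroup.zpowers x ∧
      {p : Cfsg.GolayPt | ∀ y ∈ X, ((y : ↥Cfsg.M24) : Equiv.Perm Cfsg.GolayPt) p = p}.ncard = fixCnt x.1 := by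
  haveI : Fact (Nat.Prime 3) := ⟨Nat.prime_three⟩
  obtain ⟨⟨x, hx⟩, hne⟩ : ∃ x : ↥X, x ≠ 1 := by
    by_contra hc
    push Not at hc
    haveI : Subsingleton ↥X := ⟨fun a b => (hc a).trans (hc b).symm⟩
    have h := Nat.card_unique (α := ↥X)
    omega
  have hne' : x ≠ 1 := fun e => hne (Subtype.ext e)
  have hle : Subgroup.zpowers x ≤ X := Subgroup.zpowers_le.mpr hx
  have hord : orderOf x = 3 := by
    have h1 : orderOf x ∣ 3 := by rw [← Nat.card_zpowers, ← hX]; exact Subgroup.card_dvd_of_le hle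
    rcases (Nat.dvd_prime Nat.prime_three).mp h1 with h | h
    · exact absurd (orderOf_eq_one_iff.mp h) hne'
    · exact h
  have heq : X = Subgroup.zpowers x :=
    (Subgroup.eq_of_le_of_card_ge hle (by rw [hX, Nat.card_zpowers, hord])).symm
  refine ⟨x, (Subgroup.orderOf_coe x).trans hord, heq, ?_⟩
  rw [fixCnt, ← Set.ncard_coe_finset]
  congr 1
  ext p
  simp only [Finset.coe_filter, Finset.mem_univ, true_and, Set.mem_ofPred_eq]
  refine ⟨fun h => h x hx, fun h y hy => ?_⟩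
  rw [heq] at hy
  obtain ⟨n, rfl⟩ := hy
  rw [Subgroup.coe_zpow]
  exact Equiv.Perm.zpow_apply_eq_self_of_apply_eq_self h n

/-- The group of the length-24 code has exactly two conjugacy classes of subgroups of order 3: a subgroup of order 3 fixes either exactly 6 of the 24 points or none of them, both cases occur, and two subgroups of order 3 with the same number of fixed points are conjugate. -/
theorem result : (∀ X : Subgroup ↥Cfsg.M24, Nat.card X = 3 → {p : Cfsg.GolayPt | ∀ x ∈ X, ((x : ↥Cfsg.M24) : Equiv.Perm Cfsg.GolayPt) p = p}.ncard = 6 ∨ {p : Cfsg.GolayPt | ∀ x ∈ X, ((x : ↥Cfsg.M24) : Equiv.Perm Cfsg.GolayPt) p = p}.ncard = 0) ∧ (∃ X : Subgroup ↥Cfsg.M24, Nat.card X = 3 ∧ {p : Cfsg.GolayPt | ∀ x ∈ X, ((x : ↥Cfsg.M24) : Equiv.Perm Cfsg.GolayPt) p = p}.ncard = 6) ∧ (∃ X : Subgroup ↥Cfsg.M24, Nat.card X = 3 ∧ {p : Cfsg.GolayPt | ∀ x ∈ X, ((x : ↥Cfsg.M24) : Equiv.Perm Cfsg.GolayPt) p = p}.ncard = 0) ∧ ∀ X Y :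 Subgroup ↥Cfsg.M24, Nat.card X = 3 → Nat.card Y = 3 → {p : Cfsg.GolayPt | ∀ x ∈ X, ((x : ↥Cfsg.M24) : Equiv.Perm Cfsg.GolayPt) p = p}.ncard = {p : Cfsg.GolayPt | ∀ x ∈ Y, ((x : ↥Cfsg.M24) : Equiv.Perm Cfsg.GolayPt) p = p}.ncard → ∃ k : ↥Cfsg.M24, MulAut.conj k • X = Y := by
  refine ⟨?_, ?_, ?_, ?_⟩
  · intro X hX
    obtain ⟨x, hx, -, hfix⟩ := exists_generator hX
    rw [hfix]
    obtain ⟨h1, h3⟩ := cube_of_order hx
    obtain ⟨m, -, e | e⟩ := three_conj x.2 h1 h3 <;> rw [e, fixCnt_conj]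
    · exact Or.inl fixCnt_r6
    · exact Or.inr fixCnt_r0
  · let x : ↥Cfsg.M24 := ⟨gperm Data.r6, gperm_mem_M24 mem_reps.1⟩
    have hord : orderOf x.1 = 3 :=
      order_rep (okCode_of_inM24 mem_reps.1) cube_reps.1 (by rw [fixCnt_r6]; omega)
    have hX : Nat.card (Subgroup.zpowers x) = 3 := by rw [Nat.card_zpowers, ← Subgroup.orderOf_coe]; exact hord
    refine ⟨_, hX, ?_⟩
    obtain ⟨y, hy, -, hfix⟩ := exists_generator hX
    rw [hfix]
    obtain ⟨h1, h3⟩ := cube_of_order hy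
    obtain ⟨m, -, e | e⟩ := three_conj y.2 h1 h3
    · rw [e, fixCnt_conj, fixCnt_r6]
    · exfalso
      have h6 := fixCnt_r6
      have h0 := fixCnt_r0
      have hpos : 0 < fixCnt x.1 := by show 0 < fixCnt (gperm Data.r6); omega
      rw [fixCnt, Finset.card_pos] at hpos
      obtain ⟨p, hp⟩ := hpos
      rw [Finset.mem_filter] at hp
      have hmem : p ∈ {p : Cfsg.GolayPt | ∀ z ∈ Subgroup.zpowers x, (z : Equiv.Perm Cfsg.GolayPt) p = p} := by
        rintro z ⟨n, rfl⟩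
        rw [Subgroup.coe_zpow]
        exact Equiv.Perm.zpow_apply_eq_self_of_apply_eq_self hp.2 n
      have := (Set.ncard_pos (Set.toFinite _)).mpr ⟨p, hmem⟩
      rw [hfix, e, fixCnt_conj, h0] at this
      omega
  · let x : ↥Cfsg.M24 := ⟨gperm Data.r0, gperm_mem_M24 mem_reps.2⟩
    have hord : orderOf x.1 = 3 :=
      order_rep (okCode_of_inM24 mem_reps.2) cube_reps.2 (by rw [fixCnt_r0]; omega)
    refine ⟨Subgroup.zpowers x, by rw [Nat.card_zpowers, ← Subgroup.orderOf_coe]; exact hord, ?_⟩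
    rw [Set.ncard_eq_zero (Set.toFinite _), Set.eq_empty_iff_forall_notMem]
    intro p hp
    have h := hp x (Subgroup.mem_zpowers x)
    have h0 := fixCnt_r0
    rw [fixCnt, Finset.card_eq_zero] at h0
    have : p ∈ Finset.univ.filter fun p => gperm Data.r0 p = p := Finset.mem_filter.mpr ⟨Finset.mem_univ _, h⟩
    rw [h0] at this
    simp at this
  · intro X Y hX hY hXY
    obtain ⟨x, hx, eX, fX⟩ := exists_generator hX
    obtain ⟨y, hy, eY, fY⟩ := exists_generator hY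
    rw [fX, fY] at hXY
    obtain ⟨h1, h3⟩ := cube_of_order hx
    obtain ⟨h1', h3'⟩ := cube_of_order hy
    obtain ⟨l, hl, m, hm, r, ex, ey⟩ : ∃ l ∈ Cfsg.M24, ∃ m ∈ Cfsg.M24, ∃ r, x.1 = l * r * l⁻¹ ∧ y.1 = m * r * m⁻¹ := by
      have h6 := fixCnt_r6
      have h0 := fixCnt_r0
      obtain ⟨l, hl, el | el⟩ := three_conj x.2 h1 h3 <;> obtain ⟨m, hm, em | em⟩ := three_conj y.2 h1' h3'
      · exact ⟨l, hl, m, hm, _, el, em⟩
      · rw [el, em, fixCnt_conj, fixCnt_conj, h6, h0] at hXY; omega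
      · rw [el, em, fixCnt_conj, fixCnt_conj, h6, h0] at hXY; omega
      · exact ⟨l, hl, m, hm, _, el, em⟩
    let k : ↥Cfsg.M24 := ⟨m, hm⟩ * ⟨l, hl⟩⁻¹
    refine ⟨k, ?_⟩
    have hk : MulAut.conj k x = y := by
      refine Subtype.ext ?_
      show (m * l⁻¹) * x.1 * (m * l⁻¹)⁻¹ = y.1
      rw [ex, ey]; group
    rw [eX, eY, ← hk]
    exact MonoidHom.map_zpowers (MulAut.conj k).toMonoidHom x

end Cfsg.Agent.S5601
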