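import Cfsg.Statements.S5602
import Cfsg.Agent.Lib.M24Classes.Invariant
-- import your own Cfsg.Agent.* helpers here

set_option autoImplicit false
open scoped Pointwise
open Cfsg

namespace Cfsg.Agent.S5602

open Cfsg.Agent.Lib.Golay Cfsg.Agent.Lib.SporStruct Cfsg.Agent.Lib.M24Classes
open Cfsg.Agent.Lib.M24Classes.Classes Cfsg.Agent.Lib.M24Classes.Invariant

theorem counts : (inM24 Data.r6 && Nat.beq (maskFix Data.r6 OctadOrbits.univMasks) 21 && Nat.beq (famFix 3 Data.r6 TrioOrbits.univCodes) 15 && Nat.beq (famFix 6 Data.r6 SextetOrbits.univCodes) 16 && Nat.beq (maskFix Data.r6 DodecadOrbits.univMasks) 20) = true := by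
  decide +kernel

/-- An element of order 3 of the group of the length-24 code having exactly 6 fixed points maps to themselves exactly 21 octads, exactly 15 trios, exactly 16 sextets and exactly 20 dodecads. -/
theorem result (g : Equiv.Perm Cfsg.GolayPt) (hg : g ∈ Cfsg.M24) (h₃ : orderOf g = 3) (h₆ : (Finset.univ.filter fun p => g p = p).card = 6) : {o : Finset Cfsg.GolayPt | o ∈ Cfsg.octads ∧ g • o = o}.ncard = 21 ∧ {T : Finset (Finset Cfsg.GolayPt) | T ∈ Cfsg.trios ∧ g • T = T}.ncard = 15 ∧ {S : Finset (Finset Cfsg.GolayPt) | S ∈ Cfsg.sextets ∧ g • S = S}.ncard = 16 ∧ {d : Finset Cfsg.GolayPt | d ∈ Cfsg.dodecads ∧ g • d = d}.ncard = 20 := by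
  have h1 : g ≠ 1 := fun e => by simp [e] at h₃
  have hp : g * g * g = 1 := by rw [← pow_three', ← h₃]; exact pow_orderOf_eq_one g
  have hf := h₆
  obtain ⟨m, hm, e⟩ := three_of_six hg h1 hp hf
  have hk := counts
  simp only [Bool.and_eq_true, Nat.beq_eq] at hk
  refine ⟨?_, ?_, ?_, ?_⟩
  · rw [octads_count hm hk.1.1.1.1 e]; exact hk.1.1.1.2
  · rw [trios_count hm hk.1.1.1.1 e]; exact hk.1.1.2
  · rw [sextets_count hm hk.1.1.1.1 e]; exact hk.1.2
  · rw [dodecads_count hm hk.1.1.1.1 e]; exact hk.2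

end Cfsg.Agent.S5602
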