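import Cfsg.Statements.S5603
import Cfsg.Agent.Lib.M24Classes.Invariant
-- import your own Cfsg.Agent.* helpers here

set_option autoImplicit false
open scoped Pointwise
open Cfsg

namespace Cfsg.Agent.S5603

open Cfsg.Agent.Lib.Golay Cfsg.Agent.Lib.SporStruct Cfsg.Agent.Lib.M24Classes
open Cfsg.Agent.Lib.M24Classes.Classes Cfsg.Agent.Lib.M24Classes.Invariant

theorem counts : (inM24 Data.r0 && Nat.beq (famFix 6 Data.r0 SextetOrbits.univCodes) 7 && Nat.beq (famFix 3 Data.r0 TrioOrbits.univCodes) 15) = true := by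
  decide +kernel

/-- A fixed-point-free element of order 3 of the group of the length-24 code maps to themselves exactly 7 sextets and exactly 15 trios. -/
theorem result (g : Equiv.Perm Cfsg.GolayPt) (hg : g ∈ Cfsg.M24) (h₃ : orderOf g = 3) (h₀ : ∀ p, g p ≠ p) : {S : Finset (Finset Cfsg.GolayPt) | S ∈ Cfsg.sextets ∧ g • S = S}.ncard = 7 ∧ {T : Finset (Finset Cfsg.GolayPt) | T ∈ Cfsg.trios ∧ g • T = T}.ncard = 15 := by
  have h1 : g ≠ 1 := fun e => by simp [e] at h₃
  have hp : g * g * g = 1 := by rw [← pow_three', ← h₃]; exact pow_orderOf_eq_one g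
  have hf : fixCnt g = 0 := by
    rw [fixCnt, Finset.card_eq_zero, Finset.filter_eq_empty_iff]
    exact fun p _ => h₀ p
  obtain ⟨m, hm, e⟩ := three_of_zero hg h1 hp hf
  have hk := counts
  simp only [Bool.and_eq_true, Nat.beq_eq] at hk
  refine ⟨?_, ?_⟩
  · rw [sextets_count hm hk.1.1 e]; exact hk.1.2
  · rw [trios_count hm hk.1.1 e]; exact hk.2

end Cfsg.Agent.S5603
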