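import Cfsg.Statements.S5607
import Cfsg.Agent.Lib.M24Classes.Centralizers
import Cfsg.Agent.Lib.M24Classes.Invariant
-- import your own Cfsg.Agent.* helpers here

set_option autoImplicit false
open scoped Pointwise
open Cfsg

namespace Cfsg.Agent.S5607

open Cfsg.Agent.Lib.Golay Cfsg.Agent.Lib.Computation Cfsg.Agent.Lib.SporStruct Cfsg.Agent.Lib.M24Classes
open Cfsg.Agent.Lib.M24Classes.Classes Cfsg.Agent.Lib.M24Classes.Centralizers

/-- The code of the sextet of the centraliser. -/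
def root : ℕ := FamilyCode.pack [155664, 266246, 1049280, 2655232, 4259880, 8390913]

theorem checks : (SextetOrbits.memTest root &&
    Data.orbB.all (fun c => inM24 c && Nat.beq (FamilyCode.act 6 c root) root) &&
    Data.stabB.all (fun c => inM24 c && Nat.beq (FamilyCode.act 6 c root) root) &&
    (inM24 Data.rB && Nat.beq (FamilyCode.act 6 Data.rB root) root) &&
    (List.range 24).all (fun q => Data.orbB.any fun c => Enum.commTest Data.rB c && Nat.beq (getW 5 c 23) q)) = true := by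
  decide +kernel

theorem fixes_of_act {c : ℕ} (hc : inM24 c = true) (h : FamilyCode.act 6 c root = root) :
    gperm c • FamilyCode.family 6 root = FamilyCode.family 6 root := by
  have hk := checks
  simp only [Bool.and_eq_true] at hk
  obtain ⟨hS, hcode⟩ := SextetOrbits.of_memTest hk.1.1.1.1
  refine SextetOrbits.code_injOn_set (SextetOrbits.smul_mem ⟨_, gperm_mem_M24 hc⟩ hS) hS ?_
  show FamilyCode.code (gperm c • FamilyCode.family 6 root) = _
  rw [Invariant.gperm_eq_perm (okCode_of_inM24 hc), hcode, FamilyCode.code_smul (okCode_of_inM24 hc) _ hS.1, hcode, h]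

/-- The centraliser of the representative fixes the sextet. -/
theorem cent_fixes {g : P} (hg : g ∈ cent (gperm Data.rB)) :
    g • FamilyCode.family 6 root = FamilyCode.family 6 root := by
  obtain ⟨a, ha, b, hb, rfl⟩ := product2 okB hg
  have hk := checks
  simp only [Bool.and_eq_true, List.all_eq_true, Nat.beq_eq] at hk
  obtain ⟨h1, h2⟩ := hk.1.1.1.2 a ha
  obtain ⟨h3, h4⟩ := hk.1.1.2 b hb
  rw [mul_smul, fixes_of_act h3 h4, fixes_of_act h1 h2]

/-- The centraliser of the representative is transitive. -/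
theorem cent_reach (q : Cfsg.GolayPt) : ∃ c ∈ cent (gperm Data.rB), c (pt 23) = q := by
  have hk := checks
  simp only [Bool.and_eq_true, List.all_eq_true, List.any_eq_true, List.mem_range, Nat.beq_eq] at hk
  obtain ⟨c, hc, htst, hq⟩ := hk.2 (idx q) (idx_lt q)
  have hm := (hk.1.1.1.2 c hc).1
  refine ⟨gperm c, (Enum.commTest_iff hk.1.2.1 (okCode_of_inM24 hm)).mp htst, ?_⟩
  apply idx_injective
  rw [idx_gperm (okCode_of_inM24 hm), idx_pt (by norm_num : 23 < 24), hq]

/-- For a fixed-point-free involution t of the group of the length-24 code: its centraliser in that group has order 7680, is transitive on the 24 points, and is contained, together with t, in the stabiliser of some sextet. -/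
theorem result (t : Equiv.Perm Cfsg.GolayPt) (ht : t ∈ Cfsg.M24) (h₂ : orderOf t = 2) (h₀ : ∀ p, t p ≠ p) : Nat.card {c : Equiv.Perm Cfsg.GolayPt // c ∈ Cfsg.M24 ∧ c * t = t * c} = 7680 ∧ (∀ p q : Cfsg.GolayPt, ∃ c ∈ Cfsg.M24, c * t = t * c ∧ c p = q) ∧ ∃ S ∈ Cfsg.sextets, t • S = S ∧ ∀ c ∈ Cfsg.M24, c * t = t * c → c • S = S := by
  have h1 : t ≠ 1 := fun e => by simp [e] at h₂
  have hp : t * t = 1 := by rw [← sq, ← h₂]; exact pow_orderOf_eq_one t
  have hf : fixCnt t = 0 := by
    rw [fixCnt, Finset.card_eq_zero, Finset.filter_eq_empty_iff]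
    exact fun p _ => h₀ p
  obtain ⟨m, hm, e⟩ := invol_of_zero ht h1 hp hf
  subst e
  set R := gperm Data.rB with hR
  have hfwd : ∀ c ∈ cent R, m * c * m⁻¹ ∈ Cfsg.M24 ∧
      (m * c * m⁻¹) * (m * R * m⁻¹) = m * R * m⁻¹ * (m * c * m⁻¹) := by
    intro c hc
    obtain ⟨hc1, hc2⟩ := mem_cent.mp hc
    refine ⟨Cfsg.M24.mul_mem (Cfsg.M24.mul_mem hm hc1) (Cfsg.M24.inv_mem hm), ?_⟩
    calc (m * c * m⁻¹) * (m * R * m⁻¹) = m * (c * R) * m⁻¹ := by group
      _ = m * R * m⁻¹ * (m * c * m⁻¹) := by rw [hc2]; group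
  have hbwd : ∀ c ∈ Cfsg.M24, c * (m * R * m⁻¹) = m * R * m⁻¹ * c → m⁻¹ * c * m ∈ cent R := by
    intro c hc hcc
    refine mem_cent.mpr ⟨Cfsg.M24.mul_mem (Cfsg.M24.mul_mem (Cfsg.M24.inv_mem hm) hc) hm, ?_⟩
    calc m⁻¹ * c * m * R = m⁻¹ * (c * (m * R * m⁻¹)) * m := by group
      _ = R * (m⁻¹ * c * m) := by rw [hcc]; group
  refine ⟨?_, ?_, ?_⟩
  · rw [← card_centB]
    exact Nat.card_congr
      { toFun := fun c => ⟨m⁻¹ * c.1 * m, hbwd c.1 c.2.1 c.2.2⟩
        invFun := fun c => ⟨m * c.1 * m⁻¹, hfwd c.1 c.2⟩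
        left_inv := fun c => Subtype.ext (by group)
        right_inv := fun c => Subtype.ext (by group) }
  · intro p q
    obtain ⟨a, ha, hap⟩ := cent_reach (m⁻¹ p)
    obtain ⟨b, hb, hbq⟩ := cent_reach (m⁻¹ q)
    obtain ⟨h1, h2⟩ := hfwd _ ((cent R).mul_mem hb ((cent R).inv_mem ha))
    refine ⟨_, h1, h2, ?_⟩
    simp only [Equiv.Perm.mul_apply]
    rw [← hap, Equiv.Perm.inv_def, Equiv.symm_apply_apply, hbq]
    exact Equiv.apply_symm_apply m q
  · have hk := checks
    simp only [Bool.and_eq_true, Nat.beq_eq] at hk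
    refine ⟨m • FamilyCode.family 6 root, SextetOrbits.smul_mem ⟨m, hm⟩ (SextetOrbits.of_memTest hk.1.1.1.1).1, ?_, ?_⟩
    · rw [← mul_smul, show m * R * m⁻¹ * m = m * R by group, mul_smul, hR, fixes_of_act hk.1.2.1 hk.1.2.2]
    · intro c hc hcc
      conv_rhs => rw [← cent_fixes (hbwd c hc hcc)]
      simp only [← mul_smul]
      group

end Cfsg.Agent.S5607
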