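import Cfsg.Statements.S5608
import Cfsg.Agent.Lib.M24Classes.Centralizers

set_option autoImplicit false
open scoped Pointwise
open Cfsg

namespace Cfsg.Agent.S5608

open Cfsg.Agent.Lib.Golay Cfsg.Agent.Lib.Computation Cfsg.Agent.Lib.M24Classes
open Cfsg.Agent.Lib.M24Classes.Classes Cfsg.Agent.Lib.M24Classes.Centralizers

/-- Involutions among the products have `n` fixed points. -/
def prodOk (orb stab : List ℕ) (n : ℕ) : Bool :=
  orb.all fun a => inM24 a && stab.all fun b => inM24 b &&
    forceNat (mulP 24 5 a b) fun c =>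
      !Classes.sqOne c || Nat.beq (Coset.fixNum c) n || Nat.beq (Coset.fixNum c) 24

theorem prod6 : prodOk Data.orb6 Data.stab6 8 = true := by decide +kernel

theorem prod0 : prodOk Data.orb0 Data.stab0 0 = true := by decide +kernel

theorem of_prodOk {orb stab : List ℕ} {n : ℕ} (h : prodOk orb stab n = true) {g : P}
    (hg : ∃ a ∈ orb, ∃ b ∈ stab, g = gperm a * gperm b) (h1 : g ≠ 1) (h2 : g * g = 1) :
    fixCnt g = n := by
  simp only [prodOk, List.all_eq_true, Bool.and_eq_true, forceNat_eq, Bool.or_eq_true,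
    Bool.not_eq_true', Nat.beq_eq] at h
  obtain ⟨a, ha, b, hb, rfl⟩ := hg
  obtain ⟨hma, hall⟩ := h a ha
  obtain ⟨hmb, hcase⟩ := hall b hb
  have oab := okCode_mulP (okCode_of_inM24 hma) (okCode_of_inM24 hmb)
  rw [← gperm_mul (okCode_of_inM24 hma) (okCode_of_inM24 hmb)] at h1 h2 ⊢
  have hsq : Classes.sqOne (mulP 24 5 a b) = true := by
    simp only [Classes.sqOne, List.all_eq_true, List.mem_range, Nat.beq_eq]
    intro i hi
    have h := congrArg idx (Equiv.congr_fun h2 (pt i))
    rwa [Equiv.Perm.mul_apply, idx_gperm oab, idx_gperm oab, Equiv.Perm.one_apply, idx_pt hi] at h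
  rcases hcase with (h | h) | h
  · rw [hsq] at h; exact absurd h (by simp)
  · rw [fixCnt, Coset.card_fixed oab, h]
  · exfalso
    apply h1
    rw [← Coset.card_fixed oab, ← Cfsg.Agent.Lib.Golay.card_golayPt, Finset.card_eq_iff_eq_univ,
      Finset.filter_eq_self] at h
    exact Equiv.ext fun p => h p (Finset.mem_univ p)

/-- If an element of order 3 and an involution of the group of the length-24 code commute, then either the element of order 3 has exactly 6 fixed points and the involution exactly 8, or both are fixed-point-free. -/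
theorem result (x s : Equiv.Perm Cfsg.GolayPt) (hx : x ∈ Cfsg.M24) (hs : s ∈ Cfsg.M24) (h₃ : orderOf x = 3) (h₂ : orderOf s = 2) (hc : Commute x s) : ((Finset.univ.filter fun p => x p = p).card = 6 ∧ (Finset.univ.filter fun p => s p = p).card = 8) ∨ ((Finset.univ.filter fun p => x p = p).card = 0 ∧ (Finset.univ.filter fun p => s p = p).card = 0) := by
  have hx1 : x ≠ 1 := fun e => by simp [e] at h₃
  have hx3 : x * x * x = 1 := by rw [← pow_three', ← h₃]; exact pow_orderOf_eq_one x
  have hs1 : s ≠ 1 := fun e => by simp [e] at h₂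
  have hs2 : s * s = 1 := by rw [← sq, ← h₂]; exact pow_orderOf_eq_one s
  obtain ⟨m, hm, e⟩ := three_conj hx hx1 hx3
  obtain ⟨s', hs'⟩ : ∃ s', s' = m⁻¹ * s * m := ⟨_, rfl⟩
  have hfix : fixCnt s' = fixCnt s := by
    rw [hs']; simpa using fixCnt_conj m⁻¹ s
  have h1' : s' ≠ 1 := fun h => hs1 (by
    calc s = m * s' * m⁻¹ := by rw [hs']; group
      _ = 1 := by rw [h]; group)
  have h2' : s' * s' = 1 := hs' ▸ conj_sq hs2
  have hcent : ∀ r : P, x = m * r * m⁻¹ → s' ∈ cent r := fun r hr => mem_cent.mpr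
    ⟨hs' ▸ Cfsg.M24.mul_mem (Cfsg.M24.mul_mem (Cfsg.M24.inv_mem hm) hs) hm, by
      have hh : s * (m * r * m⁻¹) = m * r * m⁻¹ * s := by rw [← hr]; exact hc.eq.symm
      calc s' * r = m⁻¹ * (s * (m * r * m⁻¹)) * m := by rw [hs']; group
        _ = r * s' := by rw [hh, hs']; group⟩
  rcases e with e | e
  · left
    refine ⟨show fixCnt x = 6 by rw [e, fixCnt_conj]; exact fixCnt_r6, ?_⟩
    show fixCnt s = 8
    rw [← hfix]
    exact of_prodOk prod6 (product3 ok6 (hcent _ e)) h1' h2'
  · right
    refine ⟨show fixCnt x = 0 by rw [e, fixCnt_conj]; exact fixCnt_r0, ?_⟩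
    show fixCnt s = 0
    rw [← hfix]
    exact of_prodOk prod0 (product3 ok0 (hcent _ e)) h1' h2'

end Cfsg.Agent.S5608
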