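import Cfsg.Statements.S5609
import Cfsg.Agent.Lib.SporStruct.OctadOrbits
-- import your own Cfsg.Agent.* helpers here

set_option autoImplicit false
open scoped Pointwise
open Cfsg

namespace Cfsg.Agent.S5609

open Cfsg.Agent.Lib.Golay Cfsg.Agent.Lib.SporStruct
open Masks PermCodes OctadOrbits

/-- The octads disjoint from the standard one. -/
noncomputable def disj : List ℕ := univMasks.filter fun c => Nat.beq (OctadData.root &&& c) 0

theorem checks : ((univMasks.all fun m => Cfsg.Agent.Lib.Computation.forceNat (pc24 (OctadData.root &&& m)) fun i =>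
    (Nat.beq i 8 && Nat.beq m OctadData.root) || Nat.beq i 0 ||
      (Nat.beq i 4 && disj.any fun c => Nat.beq (c &&& m) 0) ||
      (Nat.beq i 2 && (disj.all fun c => !Nat.beq (c &&& m) 0) && disj.any fun c => Nat.beq (pc24 (c &&& m)) 4))) = true := by
  decide +kernel

theorem inter_zero_iff (a b : Finset Cfsg.GolayPt) : maskOfSet a &&& maskOfSet b = 0 ↔ (a ∩ b).card = 0 := by
  rw [← maskOfSet_inter, Finset.card_eq_zero]
  constructor
  · intro h
    rw [← setOfMask_maskOfSet (a ∩ b), h]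
    ext p
    simp [mem_setOfMask]
  · intro h
    rw [h]
    rfl

/-- The facts about a pair of octads, first for the standard first octad. -/
theorem facts_std {b : Finset Cfsg.GolayPt} (hb : b ∈ Cfsg.octads) (hne : std ≠ b) :
    ((std ∩ b).card = 0) ∨
    ((std ∩ b).card = 4 ∧ ∃ c ∈ Cfsg.octads, (std ∩ c).card = 0 ∧ (c ∩ b).card = 0) ∨
    ((std ∩ b).card = 2 ∧ (∀ c ∈ Cfsg.octads, (std ∩ c).card = 0 → (c ∩ b).card ≠ 0) ∧
      ∃ c ∈ Cfsg.octads, (std ∩ c).card = 0 ∧ (c ∩ b).card = 4) := by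
  have h := List.all_eq_true.mp checks _ ((mem_univMasks _).2 ⟨b, hb, rfl⟩)
  simp only [Cfsg.Agent.Lib.Computation.forceNat_eq, Bool.or_eq_true, Bool.and_eq_true, List.any_eq_true, List.all_eq_true,
    Nat.beq_eq, Bool.not_eq_true', Bool.eq_false_iff, ne_eq, disj, List.mem_filter, mem_univMasks] at h
  rw [← card_inter_std] at h
  rcases h with ((⟨-, h⟩ | h) | ⟨h, c, ⟨⟨c, hc, rfl⟩, h1⟩, h2⟩) | ⟨⟨h, hall⟩, c, ⟨⟨c, hc, rfl⟩, h1⟩, h2⟩
  · exact absurd (maskOfSet_injective (maskOfSet_std.trans h.symm)) hne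
  · exact Or.inl h
  · rw [← maskOfSet_std] at h1
    exact Or.inr (Or.inl ⟨h, c, hc, (inter_zero_iff _ _).1 h1, (inter_zero_iff _ _).1 h2⟩)
  · refine Or.inr (Or.inr ⟨h, fun e he h3 h4 => ?_, c, hc, ?_, ?_⟩)
    · refine hall (maskOfSet e) ⟨⟨e, he, rfl⟩, ?_⟩ ((inter_zero_iff _ _).2 h4)
      rw [← maskOfSet_std]; exact (inter_zero_iff _ _).2 h3
    · rw [← maskOfSet_std] at h1; exact (inter_zero_iff _ _).1 h1
    · rw [card_inter_eq]; exact h2

theorem facts {a b : Finset Cfsg.GolayPt} (ha : a ∈ Cfsg.octads) (hb : b ∈ Cfsg.octads) (hne : a ≠ b) :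
    ((a ∩ b).card = 0) ∨
    ((a ∩ b).card = 4 ∧ ∃ c ∈ Cfsg.octads, (a ∩ c).card = 0 ∧ (c ∩ b).card = 0) ∨
    ((a ∩ b).card = 2 ∧ (∀ c ∈ Cfsg.octads, (a ∩ c).card = 0 → (c ∩ b).card ≠ 0) ∧
      ∃ c ∈ Cfsg.octads, (a ∩ c).card = 0 ∧ (c ∩ b).card = 4) := by
  obtain ⟨g, rfl⟩ := exists_smul_std ha
  obtain ⟨b', rfl⟩ : ∃ b', g • b' = b := ⟨g⁻¹ • b, smul_inv_smul g b⟩
  have hb' : b' ∈ Cfsg.octads := by
    have := OctadOrbits.smul_mem g⁻¹ hb
    rwa [inv_smul_smul] at this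
  have key : ∀ c x : Finset Cfsg.GolayPt, (g • x ∩ g • c).card = (x ∩ c).card := fun c x => card_inter_smul g x c
  rcases facts_std hb' (fun e => hne (by rw [e])) with h | ⟨h, c, hc, h1, h2⟩ | ⟨h, hall, c, hc, h1, h2⟩
  · exact Or.inl (by rw [key, h])
  · exact Or.inr (Or.inl ⟨by rw [key, h], g • c, OctadOrbits.smul_mem g hc, by rw [key, h1], by rw [key, h2]⟩)
  · refine Or.inr (Or.inr ⟨by rw [key, h], fun e he h3 h4 => ?_, g • c, OctadOrbits.smul_mem g hc, by rw [key, h1], by rw [key, h2]⟩)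
    have he' := OctadOrbits.smul_mem g⁻¹ he
    refine hall (g⁻¹ • e) he' ?_ ?_
    · rw [← key (g⁻¹ • e) std, smul_inv_smul, h3]
    · rw [← key b' (g⁻¹ • e), smul_inv_smul, h4]

local notation "Γ" => Cfsg.blockGraph Cfsg.octads

theorem adj_iff (a b : ↥Cfsg.octads) : (Γ).Adj a b ↔ (a.1 ∩ b.1).card = 0 := by
  simp only [Cfsg.blockGraph, SimpleGraph.fromRel_adj, Finset.card_eq_zero, ← Finset.disjoint_iff_inter_eq_empty]
  refine ⟨fun h => h.2.elim id (fun h' => h'.symm), fun h => ⟨fun e => ?_, Or.inl h⟩⟩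
  subst e
  have h2 := a.2.2
  rw [disjoint_self.mp h] at h2
  simp at h2

theorem walk_exists (a b : ↥Cfsg.octads) (hne : a ≠ b) :
    ((a.1 ∩ b.1).card = 0 ∧ (Γ).Adj a b) ∨
    ((a.1 ∩ b.1).card = 4 ∧ ∃ w : (Γ).Walk a b, w.length = 2) ∨
    ((a.1 ∩ b.1).card = 2 ∧ (∀ c, ¬ ((Γ).Adj a c ∧ (Γ).Adj c b)) ∧ ∃ w : (Γ).Walk a b, w.length = 3) := by
  rcases facts a.2 b.2 (fun e => hne (Subtype.ext e)) with h | ⟨h, c, hc, h1, h2⟩ | ⟨h, hall, c, hc, h1, h2⟩
  · exact Or.inl ⟨h, (adj_iff a b).2 h⟩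
  · exact Or.inr (Or.inl ⟨h, ((adj_iff a ⟨c, hc⟩).2 h1).toWalk.append ((adj_iff ⟨c, hc⟩ b).2 h2).toWalk, rfl⟩)
  · refine Or.inr (Or.inr ⟨h, fun e he => hall e.1 e.2 ((adj_iff _ _).1 he.1) ((adj_iff _ _).1 he.2), ?_⟩)
    have hcb : c ≠ b.1 := fun e => by rw [e, Finset.inter_self, b.2.2] at h2; omega
    rcases facts hc b.2 hcb with h' | ⟨-, e, he, h3, h4⟩ | ⟨h', -⟩
    · omega
    · exact ⟨((adj_iff a ⟨c, hc⟩).2 h1).toWalk.append (((adj_iff ⟨c, hc⟩ ⟨e, he⟩).2 h3).toWalk.append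
        ((adj_iff ⟨e, he⟩ b).2 h4).toWalk), rfl⟩
    · omega

/-- In the graph on the 759 octads of the length-24 code in which two octads are adjacent when they are disjoint, the graph is connected (of diameter 3) and two distinct octads are at distance 1, 2 or 3 exactly when they meet in 0, 4 or 2 points respectively. -/
theorem result (o o' : Finset Cfsg.GolayPt) (ho : o ∈ Cfsg.octads) (ho' : o' ∈ Cfsg.octads) (hne : o ≠ o') : (Cfsg.blockGraph Cfsg.octads).Connected ∧ ((Cfsg.blockGraph Cfsg.octads).dist ⟨o, ho⟩ ⟨o', ho'⟩ = 1 ↔ (o ∩ o').card = 0) ∧ ((Cfsg.blockGraph Cfsg.octads).dist ⟨o, ho⟩ ⟨o', ho'⟩ = 2 ↔ (o ∩ o').card = 4) ∧ ((Cfsg.blockGraph Cfsg.octads).dist ⟨o, ho⟩ ⟨o', ho'⟩ = 3 ↔ (o ∩ o').card = 2) := by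
  have hconn : (Cfsg.blockGraph Cfsg.octads).Connected := by
    haveI : Nonempty ↥Cfsg.octads := ⟨⟨o, ho⟩⟩
    refine SimpleGraph.Connected.mk fun a b => ?_
    by_cases hab : a = b
    · subst hab; exact SimpleGraph.Reachable.refl _
    rcases walk_exists a b hab with ⟨-, h⟩ | ⟨-, w, -⟩ | ⟨-, -, w, -⟩
    · exact h.reachable
    · exact w.reachable
    · exact w.reachable
  refine ⟨hconn, ?_⟩
  let a : ↥Cfsg.octads := ⟨o, ho⟩
  let b : ↥Cfsg.octads := ⟨o', ho'⟩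
  have hab : a ≠ b := fun e => hne (congrArg Subtype.val e)
  change ((Cfsg.blockGraph Cfsg.octads).dist a b = 1 ↔ (a.1 ∩ b.1).card = 0) ∧
    ((Cfsg.blockGraph Cfsg.octads).dist a b = 2 ↔ (a.1 ∩ b.1).card = 4) ∧
    ((Cfsg.blockGraph Cfsg.octads).dist a b = 3 ↔ (a.1 ∩ b.1).card = 2)
  have hpos : 0 < (Cfsg.blockGraph Cfsg.octads).dist a b := hconn.pos_dist_of_ne hab
  have h1 : (Cfsg.blockGraph Cfsg.octads).dist a b = 1 ↔ (a.1 ∩ b.1).card = 0 :=
    SimpleGraph.dist_eq_one_iff_adj.trans (adj_iff a b)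
  rcases walk_exists a b hab with ⟨h, -⟩ | ⟨h, w, hw⟩ | ⟨h, hno, w, hw⟩
  · have := h1.2 h
    omega
  · have hle := SimpleGraph.dist_le w
    omega
  · have hle := SimpleGraph.dist_le w
    have h2 : (Cfsg.blockGraph Cfsg.octads).dist a b ≠ 2 := by
      intro h2
      obtain ⟨v, hv⟩ := hconn.exists_walk_length_eq_dist a b
      rw [h2] at hv
      refine hno (v.getVert 1) ⟨?_, ?_⟩
      · have h := v.adj_getVert_succ (i := 0) (by omega)
        rwa [v.getVert_zero] at h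
      · have h := v.adj_getVert_succ (i := 1) (by omega)
        rwa [show 1 + 1 = v.length by omega, v.getVert_length] at h
    omega

end Cfsg.Agent.S5609
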