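import Cfsg.Statements.S5610
import Cfsg.Agent.Lib.M24Classes.Cross.Basic
import Cfsg.Agent.Lib.M24Classes.Cross.OctTrioData
import Cfsg.Agent.Lib.M24Classes.Cross.OctSextData
-- import your own Cfsg.Agent.* helpers here

set_option autoImplicit false
open scoped Pointwise
open Cfsg

namespace Cfsg.Agent.S5610

open Cfsg.Agent.Lib.Golay Cfsg.Agent.Lib.SporStruct Cfsg.Agent.Lib.M24Classes Cfsg.Agent.Lib.M24Classes.Cross
open Masks PermCodes OrbitTree CodedOrbit FamilyCode

theorem gens_ok : gensOk imgMask OctadData.stabGens OctadData.root = true := by decide +kernel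

theorem ok_trios : classesOk (act 3) OctadData.stabGens TrioOrbits.univCodes (kfFam 3 [OctadData.root]) Cross.OctTrioData.octTrio = true := by
  decide +kernel

theorem sizes_trios : eqList (Cross.OctTrioData.octTrio.map fun e => e.2.2.keys.length) [15, 420, 3360] = true := by decide +kernel

theorem ok_sextets : classesOk (act 6) OctadData.stabGens SextetOrbits.univCodes (kfFam 6 [OctadData.root]) Cross.OctSextData.octSext = true := by
  decide +kernel

theorem sizes_sextets : eqList (Cross.OctSextData.octSext.map fun e => e.2.2.keys.length) [35, 840, 896] = true := by decide +kernel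

/-- The stabiliser of an octad in the group of the length-24 code has exactly three orbits on the 3795 trios, of sizes 15, 420 and 3360, and exactly three orbits on the 1771 sextets, of sizes 35, 840 and 896. -/
theorem result (o : Finset Cfsg.GolayPt) (ho : o ∈ Cfsg.octads) : (∃ X₁ ∈ Cfsg.trios, ∃ X₂ ∈ Cfsg.trios, ∃ X₃ ∈ Cfsg.trios, (MulAction.orbit ↥(MulAction.stabilizer Cfsg.M24 o) X₁).ncard = 15 ∧ (MulAction.orbit ↥(MulAction.stabilizer Cfsg.M24 o) X₂).ncard = 420 ∧ (MulAction.orbit ↥(MulAction.stabilizer Cfsg.M24 o) X₃).ncard = 3360 ∧ Cfsg.trios = MulAction.orbit ↥(MulAction.stabilizer Cfsg.M24 o) X₁ ∪ MulAction.orbit ↥(MulAction.stabilizer Cfsg.M24 o) X₂ ∪ MulAction.orbit ↥(MulAction.stabilizer Cfsg.M24 o) X₃) ∧ (∃ Y₁ ∈ Cfsg.sextets, ∃ Y₂ ∈ Cfsg.sextets, ∃ Y₃ ∈ Cfsg.sextets, (MulAction.orbit ↥(MulAction.stabilizer Cfsg.M24 o) Y₁).ncard = 35 ∧ (MulAction.orbit ↥(MulAction.stabilizer Cfsg.M24 o) Y₂).ncard = 840 ∧ (MulAction.orbit ↥(MulAction.stabilizer Cfsg.M24 o) Y₃).ncard =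 896 ∧ Cfsg.sextets = MulAction.orbit ↥(MulAction.stabilizer Cfsg.M24 o) Y₁ ∪ MulAction.orbit ↥(MulAction.stabilizer Cfsg.M24 o) Y₂ ∪ MulAction.orbit ↥(MulAction.stabilizer Cfsg.M24 o) Y₃) := by
  obtain ⟨a, hax⟩ := OctadOrbits.exists_smul_std ho
  refine ⟨?_, ?_⟩
  · exact exists_three hax (cert_trios (fam := (fun o => ({o} : Finset (Finset Cfsg.GolayPt)))) (fun g z => (Finset.smul_finset_singleton ..).symm) (by rw [← OctadOrbits.maskOfSet_std]; exact perm_singleton _) (octad_fix gens_ok) ok_trios)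
      (eqList_eq sizes_trios) (by norm_num) (by norm_num) (by norm_num)
  · exact exists_three hax (cert_sextets (fam := (fun o => ({o} : Finset (Finset Cfsg.GolayPt)))) (fun g z => (Finset.smul_finset_singleton ..).symm) (by rw [← OctadOrbits.maskOfSet_std]; exact perm_singleton _) (octad_fix gens_ok) ok_sextets)
      (eqList_eq sizes_sextets) (by norm_num) (by norm_num) (by norm_num)

end Cfsg.Agent.S5610
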