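import Cfsg.Statements.S5611
import Cfsg.Agent.Lib.M24Classes.Cross.Basic
import Cfsg.Agent.Lib.M24Classes.Cross.SextOctData
import Cfsg.Agent.Lib.M24Classes.Cross.SextTrioData
-- import your own Cfsg.Agent.* helpers here

set_option autoImplicit false
open scoped Pointwise
open Cfsg

namespace Cfsg.Agent.S5611

open Cfsg.Agent.Lib.Golay Cfsg.Agent.Lib.SporStruct Cfsg.Agent.Lib.M24Classes Cfsg.Agent.Lib.M24Classes.Cross
open Masks PermCodes OrbitTree CodedOrbit FamilyCode

theorem gens_ok : gensOk (act 6) SextetData.stabGens SextetData.root = true := by decide +kernel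

theorem ok_octads : classesOk imgMask SextetData.stabGens OctadOrbits.univMasks (kfOct (unpack 6 SextetData.root)) Cross.SextOctData.sextOct = true := by
  decide +kernel

theorem sizes_octads : eqList (Cross.SextOctData.sextOct.map fun e => e.2.2.keys.length) [15, 360, 384] = true := by decide +kernel

theorem ok_trios : classesOk (act 3) SextetData.stabGens TrioOrbits.univCodes (kfFam 3 (unpack 6 SextetData.root)) Cross.SextTrioData.sextTrio = true := by
  decide +kernel

theorem sizes_trios : eqList (Cross.SextTrioData.sextTrio.map fun e => e.2.2.keys.length) [15, 180, 720, 2880] = true := by decide +kernel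

/-- The stabiliser of a sextet in the group of the length-24 code has exactly three orbits on the 759 octads, of sizes 15, 360 and 384, and exactly four orbits on the 3795 trios, of sizes 15, 180, 720 and 2880. -/
theorem result (S : Finset (Finset Cfsg.GolayPt)) (hS : S ∈ Cfsg.sextets) : (∃ X₁ ∈ Cfsg.octads, ∃ X₂ ∈ Cfsg.octads, ∃ X₃ ∈ Cfsg.octads, (MulAction.orbit ↥(MulAction.stabilizer Cfsg.M24 S) X₁).ncard = 15 ∧ (MulAction.orbit ↥(MulAction.stabilizer Cfsg.M24 S) X₂).ncard = 360 ∧ (MulAction.orbit ↥(MulAction.stabilizer Cfsg.M24 S) X₃).ncard = 384 ∧ Cfsg.octads = MulAction.orbit ↥(MulAction.stabilizer Cfsg.M24 S) X₁ ∪ MulAction.orbit ↥(MulAction.stabilizer Cfsg.M24 S) X₂ ∪ MulAction.orbit ↥(MulAction.stabilizer Cfsg.M24 S) X₃) ∧ (∃ Y₁ ∈ Cfsg.trios, ∃ Y₂ ∈ Cfsg.trios, ∃ Y₃ ∈ Cfsg.trios, ∃ Y₄ ∈ Cfsg.trios, (MulAction.orbit ↥(MulAction.stabilizer Cfsg.M24 S) Y₁).ncard = 15 ∧ (MulAction.orbit ↥(MulAction.stabilizer Cfsg.M24 S) Y₂).ncard = 180 ∧ (MulAction.orbit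 ↥(MulAction.stabilizer Cfsg.M24 S) Y₃).ncard = 720 ∧ (MulAction.orbit ↥(MulAction.stabilizer Cfsg.M24 S) Y₄).ncard = 2880 ∧ Cfsg.trios = MulAction.orbit ↥(MulAction.stabilizer Cfsg.M24 S) Y₁ ∪ MulAction.orbit ↥(MulAction.stabilizer Cfsg.M24 S) Y₂ ∪ MulAction.orbit ↥(MulAction.stabilizer Cfsg.M24 S) Y₃ ∪ MulAction.orbit ↥(MulAction.stabilizer Cfsg.M24 S) Y₄) := by
  obtain ⟨a, hax⟩ := SextetOrbits.exists_smul_std hS
  refine ⟨?_, ?_⟩
  · exact exists_three hax (cert_octads (fam := id) (fun _ _ => rfl) perm_std_sextet (sextet_fix gens_ok) ok_octads)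
      (eqList_eq sizes_octads) (by norm_num) (by norm_num) (by norm_num)
  · exact exists_four hax (cert_trios (fam := id) (fun _ _ => rfl) perm_std_sextet (sextet_fix gens_ok) ok_trios)
      (eqList_eq sizes_trios) (by norm_num) (by norm_num) (by norm_num) (by norm_num)

end Cfsg.Agent.S5611
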