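import Cfsg.Statements.S5612
import Cfsg.Agent.Lib.M24Classes.Cross.Basic
import Cfsg.Agent.Lib.M24Classes.Cross.TrioOctData
import Cfsg.Agent.Lib.M24Classes.Cross.TrioSextData
-- import your own Cfsg.Agent.* helpers here

set_option autoImplicit false
open scoped Pointwise
open Cfsg

namespace Cfsg.Agent.S5612

open Cfsg.Agent.Lib.Golay Cfsg.Agent.Lib.SporStruct Cfsg.Agent.Lib.M24Classes Cfsg.Agent.Lib.M24Classes.Cross
open Masks PermCodes OrbitTree CodedOrbit FamilyCode

theorem gens_ok : gensOk (act 3) TrioData.stabGens TrioData.root = true := by decide +kernel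

theorem ok_octads : classesOk imgMask TrioData.stabGens OctadOrbits.univMasks (kfOct (unpack 3 TrioData.root)) Cross.TrioOctData.trioOct = true := by
  decide +kernel

theorem sizes_octads : eqList (Cross.TrioOctData.trioOct.map fun e => e.2.2.keys.length) [3, 84, 672] = true := by decide +kernel

theorem ok_sextets : classesOk (act 6) TrioData.stabGens SextetOrbits.univCodes (kfFam 6 (unpack 3 TrioData.root)) Cross.TrioSextData.trioSext = true := by
  decide +kernel

theorem sizes_sextets : eqList (Cross.TrioSextData.trioSext.map fun e => e.2.2.keys.length) [7, 84, 336, 1344] = true := by decide +kernel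

/-- The stabiliser of a trio in the group of the length-24 code has exactly three orbits on the 759 octads, of sizes 3, 84 and 672, and exactly four orbits on the 1771 sextets, of sizes 7, 84, 336 and 1344. -/
theorem result (T : Finset (Finset Cfsg.GolayPt)) (hT : T ∈ Cfsg.trios) : (∃ X₁ ∈ Cfsg.octads, ∃ X₂ ∈ Cfsg.octads, ∃ X₃ ∈ Cfsg.octads, (MulAction.orbit ↥(MulAction.stabilizer Cfsg.M24 T) X₁).ncard = 3 ∧ (MulAction.orbit ↥(MulAction.stabilizer Cfsg.M24 T) X₂).ncard = 84 ∧ (MulAction.orbit ↥(MulAction.stabilizer Cfsg.M24 T) X₃).ncard = 672 ∧ Cfsg.octads = MulAction.orbit ↥(MulAction.stabilizer Cfsg.M24 T) X₁ ∪ MulAction.orbit ↥(MulAction.stabilizer Cfsg.M24 T) X₂ ∪ MulAction.orbit ↥(MulAction.stabilizer Cfsg.M24 T) X₃) ∧ (∃ Y₁ ∈ Cfsg.sextets, ∃ Y₂ ∈ Cfsg.sextets, ∃ Y₃ ∈ Cfsg.sextets, ∃ Y₄ ∈ Cfsg.sextets, (MulAction.orbit ↥(MulAction.stabilizer Cfsg.M24 T) Y₁).ncard = 7 ∧ (MulAction.orbit ↥(MulAction.stabilizer Cfsg.M24 T) Y₂).ncard = 84 ∧ (MulAction.orbit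 ↥(MulAction.stabilizer Cfsg.M24 T) Y₃).ncard = 336 ∧ (MulAction.orbit ↥(MulAction.stabilizer Cfsg.M24 T) Y₄).ncard = 1344 ∧ Cfsg.sextets = MulAction.orbit ↥(MulAction.stabilizer Cfsg.M24 T) Y₁ ∪ MulAction.orbit ↥(MulAction.stabilizer Cfsg.M24 T) Y₂ ∪ MulAction.orbit ↥(MulAction.stabilizer Cfsg.M24 T) Y₃ ∪ MulAction.orbit ↥(MulAction.stabilizer Cfsg.M24 T) Y₄) := by
  obtain ⟨a, hax⟩ := TrioOrbits.exists_smul_std hT
  refine ⟨?_, ?_⟩
  · exact exists_three hax (cert_octads (fam := id) (fun _ _ => rfl) perm_std_trio (trio_fix gens_ok) ok_octads)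
      (eqList_eq sizes_octads) (by norm_num) (by norm_num) (by norm_num)
  · exact exists_four hax (cert_sextets (fam := id) (fun _ _ => rfl) perm_std_trio (trio_fix gens_ok) ok_sextets)
      (eqList_eq sizes_sextets) (by norm_num) (by norm_num) (by norm_num) (by norm_num)

end Cfsg.Agent.S5612
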