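import Cfsg.Statements.S5614
import Cfsg.Agent.Lib.M24Classes.OctadPairs
import Cfsg.Agent.Lib.M24Classes.Coset
-- import your own Cfsg.Agent.* helpers here

set_option autoImplicit false
open scoped Pointwise
open Cfsg

namespace Cfsg.Agent.S5614

open Cfsg.Agent.Lib.Golay Cfsg.Agent.Lib.Computation Cfsg.Agent.Lib.SporStruct
open Cfsg.Agent.Lib.M24Classes Cfsg.Agent.Lib.M24Classes.OctadPairs

/-- The first octad of the standard pair. -/
def mA : ℕ := 8536111

/-- The second octad of the standard pair. -/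
def mB : ℕ := 42232

theorem checks : (Masks.isWord 8 mA && Masks.isWord 8 mB && Nat.beq (pc24 (mA &&& mB)) 2 &&
    Coset.base4.all (fun i => mA.testBit i && !mB.testBit i) &&
    Coset.tails.all (fun c => !Nat.beq (permMask c mB) mB ||
      !((List.range 24).all fun i => !(mA.testBit i && !mB.testBit i) || Nat.beq (getW 5 c i) i) ||
      ((List.range 24).all fun i => Nat.beq (getW 5 c i) i))) = true := by
  decide +kernel

theorem faithful_std {g : Equiv.Perm Cfsg.GolayPt} (hg : g ∈ Cfsg.M24) (hB : g • setOfMask mB = setOfMask mB)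
    (hfix : ∀ p ∈ setOfMask mA \ setOfMask mB, g p = p) : g = 1 := by
  have hk := checks
  simp only [Bool.and_eq_true, List.all_eq_true, Bool.or_eq_true, Bool.not_eq_true', Nat.beq_eq,
    List.mem_range] at hk
  obtain ⟨c, hc, hok, rfl⟩ := Coset.exists_tail hg fun i hi => hfix _ (by
    obtain ⟨h1, h2⟩ := hk.1.2 i hi
    have hi24 : i < 24 := by revert i; decide
    rw [Finset.mem_sdiff, mem_setOfMask, mem_setOfMask, idx_pt hi24, h1, h2]
    simp)
  refine Equiv.ext fun p => idx_injective ?_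
  rw [idx_gperm hok, Equiv.Perm.one_apply]
  have hlt : mB < 2 ^ 24 := by norm_num [mB]
  rcases hk.2 c hc with (h | h) | h
  · exfalso
    rw [Bool.eq_false_iff, ne_eq, Nat.beq_eq] at h
    rw [smul_setOfMask hok] at hB
    exact h (setOfMask_injOn (permMask_lt hok mB) hlt hB)
  · exfalso
    rw [List.all_eq_false] at h
    obtain ⟨i, hi, hh⟩ := h
    rw [List.mem_range] at hi
    simp only [Bool.or_eq_true, Bool.and_eq_true, Bool.not_eq_true', Nat.beq_eq, Bool.and_eq_false_iff,
      Bool.not_eq_false'] at hh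
    apply hh
    by_cases hA : mA.testBit i = true
    · by_cases hBi : mB.testBit i = true
      · exact Or.inl (Or.inr hBi)
      · right
        have := congrArg idx (hfix (pt i) (by
          rw [Finset.mem_sdiff, mem_setOfMask, mem_setOfMask, idx_pt hi]; exact ⟨hA, hBi⟩))
        rwa [idx_gperm hok, idx_pt hi] at this
    · exact Or.inl (Or.inl (Bool.eq_false_iff.mpr hA))
  · exact h _ (idx_lt p)

/-- In the group of the length-24 code, the joint stabiliser of two octads meeting in exactly two points is isomorphic to the symmetric group of degree 6. -/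
theorem result (o o' : Finset Cfsg.GolayPt) (ho : o ∈ Cfsg.octads) (ho' : o' ∈ Cfsg.octads) (h₂ : (o ∩ o').card = 2) : Nonempty (↥(MulAction.stabilizer Cfsg.M24 o ⊓ MulAction.stabilizer Cfsg.M24 o') ≃* Equiv.Perm (Fin 6)) := by
  have hA : setOfMask mA ∈ Cfsg.octads ∧ setOfMask mB ∈ Cfsg.octads ∧ (setOfMask mA ∩ setOfMask mB).card = 2 := by
    have hk := checks
    simp only [Bool.and_eq_true, Nat.beq_eq] at hk
    refine ⟨?_, ?_, ?_⟩
    · rw [Masks.mem_octads_mask, Masks.maskOfSet_setOfMask (OctadOrbits.isWord_lt hk.1.1.1.1)]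
      exact hk.1.1.1.1
    · rw [Masks.mem_octads_mask, Masks.maskOfSet_setOfMask (OctadOrbits.isWord_lt hk.1.1.1.2)]
      exact hk.1.1.1.2
    · rw [Masks.card_inter_eq, Masks.maskOfSet_setOfMask (OctadOrbits.isWord_lt hk.1.1.1.1),
        Masks.maskOfSet_setOfMask (OctadOrbits.isWord_lt hk.1.1.1.2), hk.1.1.2]
  obtain ⟨a, ha⟩ := OctadOrbits.exists_smul_std hA.1
  obtain ⟨b, hb⟩ := OctadOrbits.exists_smul_std ho
  obtain ⟨k, hk, hky⟩ := OctadOrbits.classes_trans ho (OctadOrbits.smul_mem (b * a⁻¹) hA.2.1) ho' (by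
    rw [h₂, ← hA.2.2, ← OctadOrbits.card_inter_smul (b * a⁻¹) (setOfMask mA), mul_smul _ _ (setOfMask mA), ← ha,
      inv_smul_smul, hb])
  obtain ⟨m, hm⟩ : ∃ m : ↥Cfsg.M24, m • setOfMask mA = o ∧ m • setOfMask mB = o' := by
    refine ⟨k * (b * a⁻¹), ?_, ?_⟩
    · rw [mul_smul, mul_smul, ← ha, inv_smul_smul, hb, hk]
    · rw [mul_smul, hky]
  have hC : ∀ g ∈ MulAction.stabilizer Cfsg.M24 o ⊓ MulAction.stabilizer Cfsg.M24 o', g • (o \ o') = o \ o' := by
    intro g hg
    rw [Finset.smul_finset_sdiff, MulAction.mem_stabilizer_iff.mp hg.1, MulAction.mem_stabilizer_iff.mp hg.2]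
  refine nonempty_equiv_perm_six _ (o \ o') hC ?_ ?_ (Or.inr ((card_pair ho ho').2.2 h₂))
  · have h1 := Finset.card_sdiff_add_card_inter o o'
    rw [h₂, ho.2] at h1
    omega
  · intro g hg hfix
    have h1 : (((m⁻¹ * g * m : ↥Cfsg.M24)) : Equiv.Perm Cfsg.GolayPt) = 1 := by
      refine faithful_std (m⁻¹ * g * m).2 ?_ ?_
      · show (m⁻¹ * g * m) • setOfMask mB = setOfMask mB
        rw [mul_smul, mul_smul, hm.2, MulAction.mem_stabilizer_iff.mp hg.2, ← hm.2, inv_smul_smul]
      · intro p hp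
        show (m⁻¹ * g * m) • p = p
        have hmp : m • p ∈ o \ o' := by
          rw [← hm.1, ← hm.2, ← Finset.smul_finset_sdiff]
          exact Finset.smul_mem_smul_finset hp
        rw [mul_smul, mul_smul, hfix _ hmp, inv_smul_smul]
    have h2 : m⁻¹ * g * m = 1 := Subtype.ext h1
    calc g = m * (m⁻¹ * g * m) * m⁻¹ := by group
      _ = 1 := by rw [h2]; group

end Cfsg.Agent.S5614
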