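import Cfsg.Statements.S5615
import Cfsg.Agent.Lib.M24Classes.Cross.Basic
import Cfsg.Agent.Lib.M24Classes.Cross.Trio15Data
-- import your own Cfsg.Agent.* helpers here

set_option autoImplicit false
open scoped Pointwise
open Cfsg

namespace Cfsg.Agent.S5615

open Cfsg.Agent.Lib.Golay Cfsg.Agent.Lib.SporStruct Cfsg.Agent.Lib.M24Classes
open Masks PermCodes OrbitTree CodedOrbit FamilyCode Cross

local notation "o₀" => OctadOrbits.std
local notation "rt" => OctadData.root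

/-- The trios through the standard octad. -/
def Ω : Set (Finset (Finset Cfsg.GolayPt)) := {T | T ∈ Cfsg.trios ∧ o₀ ∈ T}

theorem ok_thru : (eqList Trio15Data.thru
      (TrioOrbits.univCodes.filter fun x => (unpack 3 x).any fun m => Nat.beq m rt) &&
    Trio15Data.tree15.check (act 3) OctadData.stabGens Trio15Data.root &&
    eqList Trio15Data.tree15.keys Trio15Data.thru &&
    incList Trio15Data.thru && Nat.beq Trio15Data.thru.length 15 &&
    gensOk imgMask OctadData.stabGens rt &&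
    gensOk imgMask Trio15Data.gens14 rt && gensOk (act 3) Trio15Data.gens14 Trio15Data.root &&
    Trio15Data.tree14.check (act 3) Trio15Data.gens14 Trio15Data.root14 &&
    Trio15Data.thru.all (fun x => Nat.beq x Trio15Data.root || Trio15Data.tree14.keys.any fun k => Nat.beq k x) &&
    Trio15Data.thru.any (fun x => Nat.beq x Trio15Data.root) &&
    Trio15Data.thru.any (fun x => Nat.beq x Trio15Data.root14)) = true := by
  decide +kernel

theorem o₀_mem_iff {T : Finset (Finset Cfsg.GolayPt)} (hT : T ∈ Cfsg.trios) :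
    o₀ ∈ T ↔ ((unpack 3 (code T)).any fun m => Nat.beq m rt) = true := by
  simp only [List.any_eq_true, Nat.beq_eq, (perm_unpack T hT.1).mem_iff, List.mem_map, Finset.mem_toList]
  refine ⟨fun h => ⟨_, ⟨o₀, h, rfl⟩, OctadOrbits.maskOfSet_std⟩, ?_⟩
  rintro ⟨_, ⟨u, hu, rfl⟩, h⟩
  exact maskOfSet_injective (h.trans OctadOrbits.maskOfSet_std.symm) ▸ hu

theorem mem_thru (m : ℕ) : m ∈ Trio15Data.thru ↔ ∃ T ∈ Ω, code T = m := by
  have h := ok_thru
  simp only [Bool.and_eq_true] at h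
  rw [eqList_eq h.1.1.1.1.1.1.1.1.1.1.1, List.mem_filter, TrioOrbits.mem_univCodes]
  constructor
  · rintro ⟨⟨T, hT, rfl⟩, h2⟩; exact ⟨T, ⟨hT, (o₀_mem_iff hT).2 h2⟩, rfl⟩
  · rintro ⟨T, ⟨hT, ho⟩, rfl⟩; exact ⟨⟨T, hT, rfl⟩, (o₀_mem_iff hT).1 ho⟩

theorem ncard_Ω : Ω.ncard = 15 := by
  have h := ok_thru
  simp only [Bool.and_eq_true, Nat.beq_eq] at h
  have e : code '' Ω = (Trio15Data.thru.toFinset : Set ℕ) := by
    ext m; simp [mem_thru]
  rw [← (TrioOrbits.code_injOn_set.mono fun T hT => hT.1).ncard_image, e, Set.ncard_coe_finset,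
    List.toFinset_card_of_nodup (incList_nodup h.1.1.1.1.1.1.1.1.2), h.1.1.1.1.1.1.1.2]

theorem smul_Ω {g : ↥Cfsg.M24} (hg : g • o₀ = o₀) {T : Finset (Finset Cfsg.GolayPt)} (hT : T ∈ Ω) :
    g • T ∈ Ω :=
  ⟨TrioOrbits.smul_mem g hT.1, hg ▸ Finset.smul_mem_smul_finset hT.2⟩

theorem inj_Ω : Set.InjOn code Ω := TrioOrbits.code_injOn_set.mono fun _ hT => hT.1

/-- Transitivity on the fifteen. -/
theorem trans15 {T T' : Finset (Finset Cfsg.GolayPt)} (hT : T ∈ Ω) (hT' : T' ∈ Ω) :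
    ∃ g : ↥Cfsg.M24, g • o₀ = o₀ ∧ g • T = T' := by
  have h := ok_thru
  simp only [Bool.and_eq_true, List.any_eq_true, Nat.beq_eq] at h
  obtain ⟨x, hx, hxr⟩ := h.1.2
  subst hxr
  obtain ⟨T₀, hT₀, e₀⟩ := (mem_thru _).1 hx
  have key : ∀ S ∈ Ω, ∃ g ∈ MulAction.stabilizer ↥Cfsg.M24 o₀, g • T₀ = S := fun S hS =>
    reach _ (Ω := Ω) (E := code) (fun g hg x hx => smul_Ω (MulAction.mem_stabilizer_iff.1 hg) hx)
      (fun c hc => by
        obtain ⟨hcm, hf⟩ := octad_fix h.1.1.1.1.1.1.2 c hc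
        exact ⟨elt c hcm, MulAction.mem_stabilizer_iff.2 hf, fun x hx => TrioOrbits.code_elt hcm hx.1⟩)
      hT₀ (e₀ ▸ h.1.1.1.1.1.1.1.1.1.1.2) inj_Ω hS (by rw [eqList_eq h.1.1.1.1.1.1.1.1.1.2]; exact (mem_thru _).2 ⟨S, hS, rfl⟩)
  obtain ⟨a, ha, rfl⟩ := key T hT
  obtain ⟨b, hb, rfl⟩ := key T' hT'
  rw [MulAction.mem_stabilizer_iff] at ha hb
  exact ⟨b * a⁻¹, by rw [mul_smul, inv_smul_eq_iff.2 ha.symm, hb], by rw [mul_smul, inv_smul_smul]⟩

/-- Transitivity on ordered pairs. -/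
theorem trans2 {T₁ T₂ U₁ U₂ : Finset (Finset Cfsg.GolayPt)} (h1 : T₁ ∈ Ω) (h2 : T₂ ∈ Ω) (k1 : U₁ ∈ Ω)
    (k2 : U₂ ∈ Ω) (hne : T₁ ≠ T₂) (hne' : U₁ ≠ U₂) :
    ∃ g : ↥Cfsg.M24, g • o₀ = o₀ ∧ g • T₁ = U₁ ∧ g • T₂ = U₂ := by
  have h := ok_thru
  simp only [Bool.and_eq_true, List.all_eq_true, List.any_eq_true, Bool.or_eq_true, Nat.beq_eq] at h
  obtain ⟨x, hx, hxr⟩ := h.1.2
  subst hxr
  obtain ⟨T₀, hT₀, e₀⟩ := (mem_thru _).1 hx
  obtain ⟨y, hy, hyr⟩ := h.2
  subst hyr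
  obtain ⟨T₁', hT₁', e₁⟩ := (mem_thru _).1 hy
  let H := MulAction.stabilizer ↥Cfsg.M24 o₀ ⊓ MulAction.stabilizer ↥Cfsg.M24 T₀
  have key : ∀ S ∈ Ω, S ≠ T₀ → ∃ g ∈ H, g • T₁' = S := fun S hS hne => by
    refine reach H (Ω := Ω) (E := code) (fun g hg x hx => smul_Ω (MulAction.mem_stabilizer_iff.1 hg.1) hx)
      (fun c hc => ?_) hT₁' (e₁ ▸ h.1.1.1.2) inj_Ω hS ?_
    · obtain ⟨hcm, hf⟩ := octad_fix h.1.1.1.1.1.2 c hc
      have hr := h.1.1.1.1.2
      simp only [gensOk, List.all_eq_true, Bool.and_eq_true, Nat.beq_eq] at hr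
      refine ⟨elt c hcm, ⟨MulAction.mem_stabilizer_iff.2 hf, MulAction.mem_stabilizer_iff.2
        (inj_Ω (smul_Ω hf hT₀) hT₀ ?_)⟩, fun x hx => TrioOrbits.code_elt hcm hx.1⟩
      rw [TrioOrbits.code_elt hcm hT₀.1, e₀, (hr c hc).2]
    · rcases h.1.1.2 (code S) ((mem_thru _).2 ⟨S, hS, rfl⟩) with e | ⟨k, hk, e⟩
      · exact absurd (inj_Ω hS hT₀ (e.trans e₀.symm)) hne
      · exact e ▸ hk
  obtain ⟨a, ha, ha1⟩ := trans15 h1 hT₀
  obtain ⟨b, hb, hb1⟩ := trans15 k1 hT₀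
  obtain ⟨c, ⟨hc1, hc2⟩, hc⟩ := key _ (smul_Ω ha h2) (fun e => hne (MulAction.injective a (ha1.trans e.symm)))
  obtain ⟨d, ⟨hd1, hd2⟩, hd⟩ := key _ (smul_Ω hb k2) (fun e => hne' (MulAction.injective b (hb1.trans e.symm)))
  simp only [SetLike.mem_coe, MulAction.mem_stabilizer_iff] at hc1 hc2 hd1 hd2
  refine ⟨b⁻¹ * (d * c⁻¹) * a, ?_, ?_, ?_⟩
  · simp only [mul_smul]; rw [ha, inv_smul_eq_iff.2 hc1.symm, hd1, inv_smul_eq_iff.2 hb.symm]
  · simp only [mul_smul]; rw [ha1, inv_smul_eq_iff.2 hc2.symm, hd2, ← hb1, inv_smul_smul]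
  · simp only [mul_smul]; rw [inv_smul_eq_iff.2 hc.symm, hd, inv_smul_smul]

/-- A half of the octad and a trio are compatible. -/
def Comp (A : Finset Cfsg.GolayPt) (T : Finset (Finset Cfsg.GolayPt)) : Prop :=
  ∀ t ∈ T, t ≠ o₀ → ∃ u ∈ Cfsg.octads, u ∩ o₀ = A ∧ ((u ∩ t).card = 0 ∨ (u ∩ t).card = 4)

theorem comp_smul {g : ↥Cfsg.M24} (hg : g • o₀ = o₀) {A : Finset Cfsg.GolayPt}
    {T : Finset (Finset Cfsg.GolayPt)} (h : Comp A T) : Comp (g • A) (g • T) := by
  intro t ht hne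
  obtain ⟨t', ht', rfl⟩ := Finset.mem_smul_finset.1 ht
  obtain ⟨u, hu, hA, hc⟩ := h t' ht' (fun e => hne (by rw [e, hg]))
  refine ⟨g • u, OctadOrbits.smul_mem g hu, ?_, by rwa [OctadOrbits.card_inter_smul]⟩
  rw [← hA, Finset.smul_finset_inter, hg]

theorem comp_smul_iff {g : ↥Cfsg.M24} (hg : g • o₀ = o₀) (A : Finset Cfsg.GolayPt)
    (T : Finset (Finset Cfsg.GolayPt)) : Comp (g • A) (g • T) ↔ Comp A T := by
  refine ⟨fun h => ?_, comp_smul hg⟩
  have h2 := comp_smul (g := g⁻¹) (inv_smul_eq_iff.2 hg.symm) h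
  rwa [inv_smul_smul, inv_smul_smul] at h2

/-- The computed compatibility. -/
noncomputable def compT (A x : ℕ) : Bool :=
  (unpack 3 x).all fun t => Nat.beq t rt || OctadOrbits.univMasks.any fun u =>
    Nat.beq (u &&& rt) A && (Nat.beq (pc24 (u &&& t)) 0 || Nat.beq (pc24 (u &&& t)) 4)

theorem comp_iff {A : Finset Cfsg.GolayPt} {T : Finset (Finset Cfsg.GolayPt)} (hT : T ∈ Cfsg.trios) :
    Comp A T ↔ compT (maskOfSet A) (code T) = true := by
  simp only [compT, List.all_eq_true, (perm_unpack T hT.1).mem_iff, List.mem_map, Finset.mem_toList,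
    Bool.or_eq_true, Bool.and_eq_true, List.any_eq_true, Nat.beq_eq, forall_exists_index, and_imp,
    forall_apply_eq_imp_iff₂, OctadOrbits.mem_univMasks]
  constructor
  · intro h t ht
    by_cases e : t = o₀
    · exact Or.inl (by rw [e, OctadOrbits.maskOfSet_std])
    obtain ⟨u, hu, hA, hc⟩ := h t ht e
    refine Or.inr ⟨maskOfSet u, ⟨u, hu, rfl⟩, ?_, ?_⟩
    · rw [← hA, maskOfSet_inter, OctadOrbits.maskOfSet_std]
    · rw [← card_inter_eq]; exact hc
  · intro h t ht hne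
    rcases h t ht with e | ⟨_, ⟨u, hu, rfl⟩, hA, hc⟩
    · exact absurd (maskOfSet_injective (e.trans OctadOrbits.maskOfSet_std.symm)) hne
    · refine ⟨u, hu, maskOfSet_injective ?_, ?_⟩
      · rw [maskOfSet_inter, OctadOrbits.maskOfSet_std]; exact hA
      · rwa [card_inter_eq]

theorem table_ok : ((Trio15Data.table.all fun e => (List.range 15).all fun j =>
      Nat.testBit e.2 j == compT e.1 (Trio15Data.thru.getD j 0)) &&
    ((List.range (rt + 1)).all fun m => !Nat.beq (m &&& rt) m || !Nat.beq (pc24 m) 4 ||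
      Trio15Data.table.any fun e => Nat.beq e.1 m) &&
    (Trio15Data.table.all fun a => Trio15Data.table.all fun b =>
      Nat.beq a.1 b.1 || Nat.beq (a.1 ^^^ b.1) rt || (List.range 15).any fun j => Nat.testBit a.2 j != Nat.testBit b.2 j) &&
    ((List.range 15).all fun j => (List.range 15).all fun k => Nat.beq j k ||
      Trio15Data.table.any fun e => Nat.testBit e.2 j != Nat.testBit e.2 k) &&
    (Trio15Data.table.all fun e => Nat.beq (e.1 &&& rt) e.1 && Nat.beq (pc24 e.1) 4)) = true := by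
  decide +kernel

theorem exists_row {A : Finset Cfsg.GolayPt} (hA : A ⊆ o₀) (h4 : A.card = 4) :
    ∃ e ∈ Trio15Data.table, e.1 = maskOfSet A := by
  have h := table_ok
  simp only [Bool.and_eq_true, List.all_eq_true, List.mem_range, Bool.or_eq_true, Bool.not_eq_true',
    List.any_eq_true, Nat.beq_eq, Bool.eq_false_iff, ne_eq] at h
  have hand : maskOfSet A &&& rt = maskOfSet A := by
    rw [← OctadOrbits.maskOfSet_std, ← maskOfSet_inter, Finset.inter_eq_left.2 hA]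
  have hle : maskOfSet A ≤ rt := by
    conv_lhs => rw [← hand]
    exact Nat.and_le_right
  rcases h.1.1.1.2 (maskOfSet A) (by omega) with (h | h) | ⟨e, he, h⟩
  · exact absurd hand h
  · rw [← card_eq_pc24] at h; exact absurd h4 h
  · exact ⟨e, he, h⟩

theorem comp_row {A : Finset Cfsg.GolayPt} {e : ℕ × ℕ} (he : e ∈ Trio15Data.table) (hA : e.1 = maskOfSet A)
    {T : Finset (Finset Cfsg.GolayPt)} (hT : T ∈ Ω) {j : ℕ} (hj : j < 15)
    (hjT : Trio15Data.thru.getD j 0 = code T) : Comp A T ↔ Nat.testBit e.2 j = true := by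
  have h := table_ok
  simp only [Bool.and_eq_true, List.all_eq_true, List.mem_range, beq_iff_eq] at h
  rw [comp_iff hT.1, h.1.1.1.1 e he j hj, hA, hjT]

theorem exists_trio {j : ℕ} (hj : j < 15) : ∃ T ∈ Ω, code T = Trio15Data.thru.getD j 0 := by
  have h := ok_thru
  simp only [Bool.and_eq_true, Nat.beq_eq] at h
  refine (mem_thru _).1 ?_
  rw [List.getD_eq_getElem?_getD, List.getElem?_eq_getElem (by rw [h.1.1.1.1.1.1.1.2]; exact hj)]
  exact List.getElem_mem _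

theorem exists_index {T : Finset (Finset Cfsg.GolayPt)} (hT : T ∈ Ω) :
    ∃ j < 15, Trio15Data.thru.getD j 0 = code T := by
  have h := ok_thru
  simp only [Bool.and_eq_true, Nat.beq_eq] at h
  obtain ⟨j, hj, e⟩ := List.getElem_of_mem ((mem_thru _).2 ⟨T, hT, rfl⟩)
  refine ⟨j, by rw [h.1.1.1.1.1.1.1.2] at hj; exact hj, ?_⟩
  rw [List.getD_eq_getElem?_getD, List.getElem?_eq_getElem hj]
  exact e

theorem fixes_trios {g : ↥Cfsg.M24} (hg : g • o₀ = o₀) (hfix : ∀ p ∈ o₀, (g : Equiv.Perm Cfsg.GolayPt) p = p)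
    {T : Finset (Finset Cfsg.GolayPt)} (hT : T ∈ Ω) : g • T = T := by
  by_contra hne
  obtain ⟨j, hj, ej⟩ := exists_index hT
  obtain ⟨k, hk, ek⟩ := exists_index (smul_Ω hg hT)
  have h := table_ok
  simp only [Bool.and_eq_true, List.all_eq_true, List.mem_range, Bool.or_eq_true, List.any_eq_true,
    Nat.beq_eq, bne_iff_ne] at h
  rcases h.1.2 j hj k hk with e | ⟨e, he, hdiff⟩
  · exact hne (inj_Ω (smul_Ω hg hT) hT (by rw [← ej, ← ek, e]))
  · have hm := h.2 e he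
    have hlt : e.1 < 2 ^ 24 := by
      have h1 : e.1 ≤ rt := by
        conv_lhs => rw [← hm.1]
        exact Nat.and_le_right
      have h2 : rt < 2 ^ 24 := by rw [← OctadOrbits.maskOfSet_std]; exact maskOfSet_lt _
      omega
    have hsub : setOfMask e.1 ⊆ o₀ := by
      rw [← Finset.inter_eq_left]
      apply maskOfSet_injective
      rw [maskOfSet_inter, maskOfSet_setOfMask hlt, OctadOrbits.maskOfSet_std, hm.1]
    have hgA : g • setOfMask e.1 = setOfMask e.1 := by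
      refine Finset.eq_of_subset_of_card_le ?_ (by rw [Finset.card_smul_finset])
      intro p hp
      obtain ⟨q, hq, rfl⟩ := Finset.mem_smul_finset.1 hp
      show (g : Equiv.Perm Cfsg.GolayPt) q ∈ _
      rw [hfix q (hsub hq)]; exact hq
    have e1 := comp_row he (maskOfSet_setOfMask hlt).symm hT hj ej
    have e2 := comp_row he (maskOfSet_setOfMask hlt).symm (smul_Ω hg hT) hk ek
    have e3 := comp_smul_iff hg (setOfMask e.1) T
    rw [hgA] at e3
    exact hdiff (Bool.eq_iff_iff.2 (e1.symm.trans (e3.symm.trans e2)))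

theorem fixes_halves {g : ↥Cfsg.M24} (hg : g • o₀ = o₀) (hfix : ∀ T ∈ Ω, g • T = T)
    {A : Finset Cfsg.GolayPt} (hA : A ⊆ o₀) (h4 : A.card = 4) : g • A = A ∨ g • A = o₀ \ A := by
  obtain ⟨a, ha, hae⟩ := exists_row hA h4
  have hgA : g • A ⊆ o₀ := hg ▸ Finset.smul_finset_subset_smul_finset hA
  obtain ⟨b, hb, hbe⟩ := exists_row hgA (by rw [Finset.card_smul_finset, h4])
  have h := table_ok
  simp only [Bool.and_eq_true, List.all_eq_true, List.mem_range, Bool.or_eq_true, List.any_eq_true,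
    Nat.beq_eq, bne_iff_ne] at h
  rcases h.1.1.2 a ha b hb with (e | e) | ⟨j, hj, hdiff⟩
  · exact Or.inl (maskOfSet_injective (by rw [← hbe, ← hae, e]))
  · right
    apply maskOfSet_injective
    have hs : maskOfSet (o₀ \ A) = rt ^^^ maskOfSet A := by
      have hdisj : maskOfSet (o₀ \ A) &&& maskOfSet A = 0 := by
        rw [← maskOfSet_inter, Finset.sdiff_inter_self]; rfl
      have hu : maskOfSet (o₀ \ A) ||| maskOfSet A = rt := by
        rw [← maskOfSet_union, Finset.sdiff_union_of_subset hA, OctadOrbits.maskOfSet_std]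
      rw [← hu]
      refine Nat.eq_of_testBit_eq fun i => ?_
      have hd := congrArg (fun z => Nat.testBit z i) hdisj
      simp only [Nat.testBit_and, Nat.zero_testBit] at hd
      rw [Nat.testBit_xor, Nat.testBit_or]
      cases h1 : Nat.testBit (maskOfSet (o₀ \ A)) i <;> cases h2 : Nat.testBit (maskOfSet A) i <;>
        simp_all
    rw [hs, ← hbe, ← hae, ← e, Nat.xor_comm a.1 b.1, Nat.xor_assoc, Nat.xor_self, Nat.xor_zero]
  · exfalso
    obtain ⟨T, hT, hTe⟩ := exists_trio hj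
    have e1 := comp_row ha hae hT hj hTe.symm
    have e2 := comp_row hb hbe hT hj hTe.symm
    have e3 := comp_smul_iff hg A T
    rw [hfix T hT] at e3
    exact hdiff (Bool.eq_iff_iff.2 (e1.symm.trans (e3.symm.trans e2)))

theorem fixes_points {g : ↥Cfsg.M24} (hg : g • o₀ = o₀) (hfix : ∀ T ∈ Ω, g • T = T)
    {p : Cfsg.GolayPt} (hp : p ∈ o₀) : (g : Equiv.Perm Cfsg.GolayPt) p = p := by
  by_contra hne
  have hgo : ∀ x ∈ o₀, g • x ∈ o₀ := fun x hx => hg ▸ Finset.smul_mem_smul_finset hx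
  have h8 : (OctadOrbits.std : Finset Cfsg.GolayPt).card = 8 := OctadOrbits.std_mem.2
  obtain ⟨a, ha⟩ : ∃ a, a ∈ (o₀ \ {p, g • p}) := by
    refine Finset.card_pos.1 ?_
    have := Finset.le_card_sdiff ({p, g • p} : Finset Cfsg.GolayPt) o₀
    have := (Finset.card_insert_le p ({g • p} : Finset Cfsg.GolayPt))
    rw [Finset.card_singleton] at this
    omega
  simp only [Finset.mem_sdiff, Finset.mem_insert, Finset.mem_singleton, not_or] at ha
  have hga : g • a ≠ g • p := fun e => ha.2.1 (MulAction.injective g e)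
  obtain ⟨A, h1, h2, h4⟩ := Finset.exists_subsuperset_card_eq (s := ({p, a, g • a} : Finset Cfsg.GolayPt))
    (t := (OctadOrbits.std : Finset Cfsg.GolayPt).erase (g • p)) (n := 4) (by
      intro x hx
      simp only [Finset.mem_insert, Finset.mem_singleton] at hx
      refine Finset.mem_erase.2 ?_
      rcases hx with rfl | rfl | rfl
      · exact ⟨fun e => hne e.symm, hp⟩
      · exact ⟨ha.2.2, ha.1⟩
      · exact ⟨hga, hgo a ha.1⟩)
    (by
      have := Finset.card_le_three (a := p) (b := a) (c := g • a)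
      omega)
    (by rw [Finset.card_erase_of_mem (hgo p hp), h8]; norm_num)
  have hAo : A ⊆ o₀ := h2.trans (Finset.erase_subset _ _)
  have hpA : p ∈ A := h1 (by simp)
  have haA : a ∈ A := h1 (by simp)
  have hgaA : g • a ∈ A := h1 (by simp)
  have hnA : g • p ∉ A := fun h => (Finset.mem_erase.1 (h2 h)).1 rfl
  rcases fixes_halves hg hfix hAo h4 with e | e
  · exact hnA (e ▸ Finset.smul_mem_smul_finset hpA)
  · have := e ▸ (Finset.smul_mem_smul_finset (a := g) haA)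
    exact (Finset.mem_sdiff.1 this).2 hgaA

/-- An octad of the length-24 code lies in exactly 15 trios; the stabiliser of the octad in the code's group acts doubly transitively on these 15 trios, and the kernel of this action is the pointwise stabiliser of the octad. -/
theorem result (o : Finset Cfsg.GolayPt) (ho : o ∈ Cfsg.octads) : {T : Finset (Finset Cfsg.GolayPt) | T ∈ Cfsg.trios ∧ o ∈ T}.ncard = 15 ∧ (∀ T₁ T₂ T₁' T₂' : Finset (Finset Cfsg.GolayPt), T₁ ∈ Cfsg.trios → T₂ ∈ Cfsg.trios → T₁' ∈ Cfsg.trios → T₂' ∈ Cfsg.trios → o ∈ T₁ → o ∈ T₂ → o ∈ T₁' → o ∈ T₂' → T₁ ≠ T₂ → T₁' ≠ T₂' → ∃ g ∈ Cfsg.M24, g • o = o ∧ g • T₁ = T₁' ∧ g • T₂ = T₂') ∧ ∀ g ∈ Cfsg.M24, g • o = o → ((∀ T ∈ Cfsg.trios, o ∈ T → g • T = T) ↔ ∀ p ∈ o, g p = p) := by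
  obtain ⟨a, rfl⟩ := OctadOrbits.exists_smul_std ho
  have hmem : ∀ T : Finset (Finset Cfsg.GolayPt), T ∈ Cfsg.trios → a • OctadOrbits.std ∈ T → a⁻¹ • T ∈ Ω :=
    fun T hT h => ⟨TrioOrbits.smul_mem a⁻¹ hT, by
      have := Finset.smul_mem_smul_finset (a := a⁻¹) h
      rwa [inv_smul_smul] at this⟩
  refine ⟨?_, ?_, ?_⟩
  · rw [← ncard_Ω, ← Set.ncard_image_of_injective Ω (MulAction.injective a)]
    congr 1
    ext T
    constructor
    · rintro ⟨hT, h⟩
      exact ⟨a⁻¹ • T, hmem T hT h, smul_inv_smul a T⟩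
    · rintro ⟨S, hS, rfl⟩
      exact ⟨TrioOrbits.smul_mem a hS.1, Finset.smul_mem_smul_finset hS.2⟩
  · intro T₁ T₂ U₁ U₂ m1 m2 n1 n2 o1 o2 p1 p2 hne hne'
    obtain ⟨g, hg, h1, h2⟩ := trans2 (hmem _ m1 o1) (hmem _ m2 o2) (hmem _ n1 p1) (hmem _ n2 p2)
      (fun e => hne (MulAction.injective a⁻¹ e)) (fun e => hne' (MulAction.injective a⁻¹ e))
    refine ⟨((a * g * a⁻¹ : ↥Cfsg.M24) : Equiv.Perm Cfsg.GolayPt), SetLike.coe_mem _, ?_, ?_, ?_⟩
    · show (a * g * a⁻¹) • a • OctadOrbits.std = a • OctadOrbits.std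
      rw [mul_smul, mul_smul, inv_smul_smul, hg]
    · show (a * g * a⁻¹) • T₁ = U₁
      rw [mul_smul, mul_smul, h1, smul_inv_smul]
    · show (a * g * a⁻¹) • T₂ = U₂
      rw [mul_smul, mul_smul, h2, smul_inv_smul]
  · intro g hgM hgo
    let g' : ↥Cfsg.M24 := a⁻¹ * ⟨g, hgM⟩ * a
    have hgo' : (⟨g, hgM⟩ : ↥Cfsg.M24) • (a • OctadOrbits.std) = a • OctadOrbits.std := hgo
    have hg' : g' • OctadOrbits.std = OctadOrbits.std := by
      show (a⁻¹ * ⟨g, hgM⟩ * a) • OctadOrbits.std = _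
      rw [mul_smul, mul_smul, hgo', inv_smul_smul]
    constructor
    · intro hfix p hp
      obtain ⟨q, hq, rfl⟩ := Finset.mem_smul_finset.1 hp
      have hT : ∀ T ∈ Ω, g' • T = T := fun T hT => by
        have h : (⟨g, hgM⟩ : ↥Cfsg.M24) • a • T = a • T :=
          hfix (a • T) (TrioOrbits.smul_mem a hT.1) (Finset.smul_mem_smul_finset hT.2)
        show (a⁻¹ * ⟨g, hgM⟩ * a) • T = T
        rw [mul_smul, mul_smul, h, inv_smul_smul]
      have h : (a⁻¹ * ⟨g, hgM⟩ * a) • q = q := fixes_points hg' hT hq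
      rw [mul_smul, mul_smul, inv_smul_eq_iff] at h
      exact h
    · intro hfix T hT hoT
      have h : (a⁻¹ * ⟨g, hgM⟩ * a) • (a⁻¹ • T) = a⁻¹ • T := fixes_trios hg' (fun q hq => by
        show (a⁻¹ * ⟨g, hgM⟩ * a) • q = q
        rw [mul_smul, mul_smul]
        rw [show (⟨g, hgM⟩ : ↥Cfsg.M24) • (a • q) = a • q from hfix _ (Finset.smul_mem_smul_finset hq), inv_smul_smul]) (hmem T hT hoT)
      rw [mul_smul, mul_smul, smul_inv_smul] at h
      exact MulAction.injective a⁻¹ h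

end Cfsg.Agent.S5615
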