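import Cfsg.Statements.S5616
import Cfsg.Agent.Lib.M24Classes.Cross.Basic
import Cfsg.Agent.Lib.M24Classes.Cross.TripleSextData
import Cfsg.Agent.Lib.SporStruct.TripleOrbits
-- import your own Cfsg.Agent.* helpers here

set_option autoImplicit false
open scoped Pointwise
open Cfsg

namespace Cfsg.Agent.S5616

open Cfsg.Agent.Lib.Golay Cfsg.Agent.Lib.SporStruct Cfsg.Agent.Lib.M24Classes Cfsg.Agent.Lib.M24Classes.Cross
open Masks PermCodes OrbitTree CodedOrbit FamilyCode

/-- Number of tetrads meeting a set. -/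
def met (Y : Finset Cfsg.GolayPt) (S : Finset (Finset Cfsg.GolayPt)) : ℕ :=
  (S.filter fun t => (t ∩ Y).Nonempty).card

theorem met_smul (g : ↥Cfsg.M24) (Y : Finset Cfsg.GolayPt) (S : Finset (Finset Cfsg.GolayPt)) :
    met (g • Y) (g • S) = met Y S := by
  rw [met, met, Finset.smul_finset_def (s := S), Finset.filter_image,
    Finset.card_image_of_injective _ (MulAction.injective g)]
  congr 1
  refine Finset.filter_congr fun t _ => ?_
  rw [← Finset.smul_finset_inter, Finset.smul_finset_nonempty]

/-- The number computed from a code. -/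
def kfMet (x : ℕ) : ℕ := (unpack 6 x).countP fun a => !Nat.beq (pc24 (a &&& TripleData.root)) 0

theorem met_std {S : Finset (Finset Cfsg.GolayPt)} (hS : S ∈ Cfsg.sextets) :
    met TripleOrbits.std S = kfMet (code S) := by
  rw [kfMet, (perm_unpack S hS.1).countP_eq, List.countP_map, List.countP_eq_length_filter, met,
    ← List.toFinset_card_of_nodup ((Finset.nodup_toList S).filter _)]
  congr 1
  ext t
  simp only [Finset.mem_filter, List.mem_toFinset, List.mem_filter, Finset.mem_toList,
    Function.comp_apply, Bool.not_eq_true', Bool.eq_false_iff, ne_eq, Nat.beq_eq]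
  rw [← TripleOrbits.maskOfSet_std, ← card_inter_eq, Finset.card_eq_zero, Finset.nonempty_iff_ne_empty]

theorem gens_ok : gensOk imgMask TripleData.stabGens TripleData.root = true := by decide +kernel

theorem ok_sextets : classesOk (act 6) TripleData.stabGens SextetOrbits.univCodes kfMet
    TripleSextData.tripleSext = true := by
  decide +kernel

theorem sizes : eqList (TripleSextData.tripleSext.map fun e => e.1) [1, 2, 3] = true ∧
    eqList (TripleSextData.tripleSext.map fun e => e.2.2.keys.length) [21, 630, 1120] = true := by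
  decide +kernel

/-- The certificate. -/
theorem cert : Cert (MulAction.stabilizer ↥Cfsg.M24 TripleOrbits.std) Cfsg.sextets code (act 6)
    TripleData.stabGens SextetOrbits.univCodes kfMet TripleSextData.tripleSext where
  ok := ok_sextets
  smul_mem := fun g _ hx => SextetOrbits.smul_mem g hx
  gen := fun c hc => by
    have h := gens_ok
    simp only [gensOk, List.all_eq_true, Bool.and_eq_true, Nat.beq_eq] at h
    exact ⟨elt c (h c hc).1, MulAction.mem_stabilizer_iff.2 (maskOfSet_injective
      (by rw [TripleOrbits.code_elt, TripleOrbits.maskOfSet_std, (h c hc).2])),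
      fun x hx => SextetOrbits.code_elt _ hx⟩
  inj := SextetOrbits.code_injOn_set
  nodup := SextetOrbits.univ_nodup
  univ := SextetOrbits.mem_univCodes
  inv := fun g hg x hx => by
    rw [← met_std hx, ← met_std (SextetOrbits.smul_mem g hx), ← met_smul g TripleOrbits.std x,
      MulAction.mem_stabilizer_iff.1 hg]

theorem count_std {i n : ℕ} (h : ∃ e ∈ TripleSextData.tripleSext, e.1 = i ∧ e.2.2.keys.length = n) (h0 : n ≠ 0) :
    {S : Finset (Finset Cfsg.GolayPt) | S ∈ Cfsg.sextets ∧ met TripleOrbits.std S = i}.ncard = n := by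
  obtain ⟨e, he, rfl, hn⟩ := h
  obtain ⟨X, -, ho, hc⟩ := cert.orbit_class he hn h0
  rw [← hc, ho]
  congr 1
  ext S
  simp only [Set.mem_ofPred_eq]
  exact ⟨fun h => ⟨h.1, (met_std h.1).symm.trans h.2⟩, fun h => ⟨h.1, (met_std h.1).trans h.2⟩⟩

/-- Let Y be a set of 3 of the 24 points. The sextets of the length-24 code whose tetrads meeting Y number 1, 2 or 3 are respectively 21, 630 and 1120 in number, and two sextets with the same number of tetrads meeting Y are conjugate under the setwise stabiliser of Y in the code's group. -/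
theorem result (Y : Finset Cfsg.GolayPt) (hY : Y.card = 3) : {S : Finset (Finset Cfsg.GolayPt) | S ∈ Cfsg.sextets ∧ (S.filter fun t => (t ∩ Y).Nonempty).card = 1}.ncard = 21 ∧ {S : Finset (Finset Cfsg.GolayPt) | S ∈ Cfsg.sextets ∧ (S.filter fun t => (t ∩ Y).Nonempty).card = 2}.ncard = 630 ∧ {S : Finset (Finset Cfsg.GolayPt) | S ∈ Cfsg.sextets ∧ (S.filter fun t => (t ∩ Y).Nonempty).card = 3}.ncard = 1120 ∧ ∀ S S' : Finset (Finset Cfsg.GolayPt), S ∈ Cfsg.sextets → S' ∈ Cfsg.sextets → (S.filter fun t => (t ∩ Y).Nonempty).card = (S'.filter fun t => (t ∩ Y).Nonempty).card → ∃ g ∈ Cfsg.M24, g • Y = Y ∧ g • S = S' := by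
  obtain ⟨a, rfl⟩ := TripleOrbits.exists_smul_std (s := Y) hY
  have hcount : ∀ i n, (∃ e ∈ TripleSextData.tripleSext, e.1 = i ∧ e.2.2.keys.length = n) → n ≠ 0 →
      {S : Finset (Finset Cfsg.GolayPt) | S ∈ Cfsg.sextets ∧ met (a • TripleOrbits.std) S = i}.ncard = n := by
    intro i n h h0
    rw [← count_std h h0, ← Set.ncard_image_of_injective
      {S : Finset (Finset Cfsg.GolayPt) | S ∈ Cfsg.sextets ∧ met TripleOrbits.std S = i} (MulAction.injective a)]
    congr 1
    ext S
    constructor
    · rintro ⟨hS, hk⟩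
      refine ⟨a⁻¹ • S, ⟨SextetOrbits.smul_mem _ hS, ?_⟩, smul_inv_smul a S⟩
      rw [← met_smul a, smul_inv_smul, hk]
    · rintro ⟨w, ⟨hw, hk⟩, rfl⟩
      exact ⟨SextetOrbits.smul_mem a hw, (met_smul a _ _).trans hk⟩
  have hz := eqList_eq sizes.1
  have hn := eqList_eq sizes.2
  generalize hcs : TripleSextData.tripleSext = cs at hz hn hcount
  match cs, hz, hn, hcount with
  | [e₁, e₂, e₃], hz, hn, hcount =>
    simp only [List.map_cons, List.map_nil, List.cons.injEq, and_true] at hz hn
    refine ⟨hcount _ _ ⟨e₁, by simp, hz.1, hn.1⟩ (by norm_num), hcount _ _ ⟨e₂, by simp, hz.2.1, hn.2.1⟩ (by norm_num),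
      hcount _ _ ⟨e₃, by simp, hz.2.2, hn.2.2⟩ (by norm_num), ?_⟩
    intro S S' hS hS' h
    change met (a • TripleOrbits.std) S = met (a • TripleOrbits.std) S' at h
    have key : ∀ T ∈ Cfsg.sextets, met (a • TripleOrbits.std) T = kfMet (code (a⁻¹ • T)) := fun T hT => by
      rw [← met_std (SextetOrbits.smul_mem a⁻¹ hT)]
      exact (congrArg (met _) (smul_inv_smul a T)).symm.trans (met_smul a _ _)
    rw [key S hS, key S' hS'] at h
    obtain ⟨g, hg, hgS⟩ := class_trans (MulAction.stabilizer ↥Cfsg.M24 TripleOrbits.std) cert.ok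
      (fun g _ x hx => cert.smul_mem g x hx) cert.gen cert.inj cert.nodup cert.univ
      (SextetOrbits.smul_mem a⁻¹ hS) (SextetOrbits.smul_mem a⁻¹ hS') h
    rw [MulAction.mem_stabilizer_iff] at hg
    refine ⟨((a * g * a⁻¹ : ↥Cfsg.M24) : Equiv.Perm Cfsg.GolayPt), SetLike.coe_mem _, ?_, ?_⟩
    · show (a * g * a⁻¹) • (a • TripleOrbits.std) = a • TripleOrbits.std
      rw [mul_smul, mul_smul, inv_smul_smul, hg]
    · show (a * g * a⁻¹) • S = S'
      rw [mul_smul, mul_smul, hgS, smul_inv_smul]

end Cfsg.Agent.S5616
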