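import Cfsg.Statements.S5617
import Cfsg.Agent.Lib.M24Classes.Cross.Basic
import Cfsg.Agent.Lib.M24Classes.Cross.PairSextData
import Cfsg.Agent.Lib.SporStruct.DodecadOrbits
-- import your own Cfsg.Agent.* helpers here

set_option autoImplicit false
open scoped Pointwise
open Cfsg

namespace Cfsg.Agent.S5617

open Cfsg.Agent.Lib.Golay Cfsg.Agent.Lib.SporStruct Cfsg.Agent.Lib.M24Classes Cfsg.Agent.Lib.M24Classes.Cross
open Masks PermCodes OrbitTree CodedOrbit FamilyCode

/-- A set with its complement. -/
def pair (d : Finset Cfsg.GolayPt) : Finset (Finset Cfsg.GolayPt) := {d, Finset.univ \ d}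

theorem smul_pair (g : ↥Cfsg.M24) (d : Finset Cfsg.GolayPt) : g • pair d = pair (g • d) := by
  rw [pair, pair, Finset.smul_finset_insert, Finset.smul_finset_singleton, Finset.smul_finset_sdiff,
    Finset.smul_finset_univ]

theorem pair_compl (d : Finset Cfsg.GolayPt) : pair (Finset.univ \ d) = pair d := by
  rw [pair, pair, ← Finset.compl_eq_univ_sdiff, ← Finset.compl_eq_univ_sdiff, compl_compl, Finset.pair_comm]

theorem mask_compl : maskOfSet (Finset.univ \ DodecadOrbits.std) = DodecadData.root ^^^ 16777215 := by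
  rw [← Finset.compl_eq_univ_sdiff, maskOfSet_compl, DodecadOrbits.maskOfSet_std]

theorem perm_pair : [DodecadData.root, DodecadData.root ^^^ 16777215].Perm ((pair DodecadOrbits.std).toList.map maskOfSet) := by
  have hne : DodecadOrbits.std ∉ ({Finset.univ \ DodecadOrbits.std} : Finset (Finset Cfsg.GolayPt)) := by
    rw [Finset.mem_singleton]
    intro e
    have h := congrArg maskOfSet e
    rw [mask_compl, DodecadOrbits.maskOfSet_std] at h
    revert h
    decide +kernel
  refine List.Perm.trans ?_ ((Finset.toList_insert hne).map maskOfSet).symm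
  rw [Finset.toList_singleton, List.map_cons, List.map_cons, List.map_nil, mask_compl, DodecadOrbits.maskOfSet_std]

theorem gens_ok : (PairSextData.pairGens.all fun c => isM24Code c &&
    (Nat.beq (imgMask c DodecadData.root) DodecadData.root ||
      Nat.beq (imgMask c DodecadData.root) (DodecadData.root ^^^ 16777215))) = true := by
  decide +kernel

theorem pair_fix : ∀ c ∈ PairSextData.pairGens,
    ∃ h : isM24Code c = true, elt c h • pair DodecadOrbits.std = pair DodecadOrbits.std := by
  have h := gens_ok
  simp only [List.all_eq_true, Bool.and_eq_true, Bool.or_eq_true, Nat.beq_eq] at h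
  intro c hc
  refine ⟨(h c hc).1, ?_⟩
  rw [smul_pair]
  rcases (h c hc).2 with e | e
  · rw [maskOfSet_injective (by rw [DodecadOrbits.code_elt, DodecadOrbits.maskOfSet_std, e] :
      maskOfSet (elt c (h c hc).1 • DodecadOrbits.std) = maskOfSet DodecadOrbits.std)]
  · rw [maskOfSet_injective (by rw [DodecadOrbits.code_elt, mask_compl, DodecadOrbits.maskOfSet_std, e] :
      maskOfSet (elt c (h c hc).1 • DodecadOrbits.std) = maskOfSet (Finset.univ \ DodecadOrbits.std)), pair_compl]

theorem ok_sextets : classesOk (act 6) PairSextData.pairGens SextetOrbits.univCodes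
    (kfFam 6 [DodecadData.root, DodecadData.root ^^^ 16777215]) PairSextData.pairSext = true := by
  decide +kernel

theorem sizes : eqList (PairSextData.pairSext.map fun e => e.2.2.keys.length) [396, 495, 880] = true := by
  decide +kernel

/-- The setwise stabiliser, in the group of the length-24 code, of a complementary pair of dodecads has exactly three orbits on the 1771 sextets, of sizes 396, 495 and 880. -/
theorem result (d : Finset Cfsg.GolayPt) (hd : d ∈ Cfsg.dodecads) : ∃ X₁ ∈ Cfsg.sextets, ∃ X₂ ∈ Cfsg.sextets, ∃ X₃ ∈ Cfsg.sextets, (MulAction.orbit ↥(MulAction.stabilizer Cfsg.M24 ({d, Finset.univ \ d} : Finset (Finset Cfsg.GolayPt))) X₁).ncard = 396 ∧ (MulAction.orbit ↥(MulAction.stabilizer Cfsg.M24 ({d, Finset.univ \ d} : Finset (Finset Cfsg.GolayPt))) X₂).ncard = 495 ∧ (MulAction.orbit ↥(MulAction.stabilizer Cfsg.M24 ({d, Finset.univ \ d} : Finset (Finset Cfsg.GolayPt))) X₃).ncard = 880 ∧ Cfsg.sextets = MulAction.orbit ↥(MulAction.stabilizer Cfsg.M24 ({d, Finset.univ \ d} : Finset (Finset Cfsg.GolayPt))) X₁ ∪ MulAction.orbit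 ↥(MulAction.stabilizer Cfsg.M24 ({d, Finset.univ \ d} : Finset (Finset Cfsg.GolayPt))) X₂ ∪ MulAction.orbit ↥(MulAction.stabilizer Cfsg.M24 ({d, Finset.univ \ d} : Finset (Finset Cfsg.GolayPt))) X₃ := by
  obtain ⟨a, rfl⟩ := DodecadOrbits.exists_smul_std hd
  exact exists_three (x₀ := pair DodecadOrbits.std) (smul_pair a DodecadOrbits.std)
    (cert_sextets (fam := id) (fun _ _ => rfl) perm_pair pair_fix ok_sextets)
    (eqList_eq sizes) (by norm_num) (by norm_num) (by norm_num)

end Cfsg.Agent.S5617
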