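import Cfsg.Statements.S5618
import Cfsg.Agent.Lib.M24Classes.OctadPairs
import Cfsg.Agent.Lib.Golay.Stabilizers
-- import your own Cfsg.Agent.* helpers here

set_option autoImplicit false
open scoped Pointwise
open Cfsg

namespace Cfsg.Agent.S5618

open Cfsg.Agent.Lib.Golay Cfsg.Agent.Lib.M24Classes.OctadPairs

theorem five_inside {S : Finset Cfsg.GolayPt} (h : 5 ≤ S.card) :
    ∃ x : Fin 5 ↪ Cfsg.GolayPt, ∀ i, x i ∈ S := by
  obtain ⟨T, hT, hc⟩ := Finset.exists_subset_card_eq h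
  exact ⟨(T.equivFinOfCardEq hc).symm.toEmbedding.trans (Function.Embedding.subtype _),
    fun i => hT ((T.equivFinOfCardEq hc).symm i).2⟩

theorem eq_one_of_fix {d : Finset Cfsg.GolayPt} (hd : d ∈ Cfsg.dodecads) {g : ↥Cfsg.M24}
    (hg : g • d = d) {S : Finset Cfsg.GolayPt} (hS : S ⊆ d) (hcard : 5 ≤ S.card)
    (hfix : ∀ p ∈ S, (g : Equiv.Perm Cfsg.GolayPt) p = p) : g = 1 := by
  obtain ⟨x, hx⟩ := five_inside hcard
  exact Subtype.ext (eq_one_of_fixes_dodecad g.2 hd hg x (fun i => hS (hx i)) (fun i => hfix _ (hx i)))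

/-- For a dodecad d of the length-24 code and a hexad C on it (a 6-point intersection of d with an octad): the joint stabiliser of d and C in the code's group is isomorphic to the symmetric group of degree 6, and it acts faithfully both on the six points of C and on the six points of d outside C. -/
theorem result (d : Finset Cfsg.GolayPt) (hd : d ∈ Cfsg.dodecads) (C : Finset Cfsg.GolayPt) (hC : C ∈ Cfsg.hexadsOn d) : Nonempty (↥(MulAction.stabilizer Cfsg.M24 d ⊓ MulAction.stabilizer Cfsg.M24 C) ≃* Equiv.Perm (Fin 6)) ∧ (∀ g ∈ MulAction.stabilizer Cfsg.M24 d ⊓ MulAction.stabilizer Cfsg.M24 C, (∀ p ∈ C, ((g : ↥Cfsg.M24) : Equiv.Perm Cfsg.GolayPt) p = p) → g = 1) ∧ ∀ g ∈ MulAction.stabilizer Cfsg.M24 d ⊓ MulAction.stabilizer Cfsg.M24 C, (∀ p ∈ d \ C, ((g : ↥Cfsg.M24) : Equiv.Perm Cfsg.GolayPt) p = p) → g = 1 := by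
  obtain ⟨hC6, o, ho, hod⟩ := hC
  have hCd : C ⊆ d := hod ▸ Finset.inter_subset_right
  have hCo : C ⊆ o := hod ▸ Finset.inter_subset_left
  have hH : ∀ g ∈ MulAction.stabilizer Cfsg.M24 d ⊓ MulAction.stabilizer Cfsg.M24 C, g • C = C :=
    fun g hg => MulAction.mem_stabilizer_iff.mp hg.2
  have h1 : ∀ g ∈ MulAction.stabilizer Cfsg.M24 d ⊓ MulAction.stabilizer Cfsg.M24 C,
      (∀ p ∈ C, ((g : ↥Cfsg.M24) : Equiv.Perm Cfsg.GolayPt) p = p) → g = 1 :=
    fun g hg hfix => eq_one_of_fix hd (MulAction.mem_stabilizer_iff.mp hg.1) hCd (by omega) hfix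
  refine ⟨?_, h1, fun g hg hfix => eq_one_of_fix hd (MulAction.mem_stabilizer_iff.mp hg.1)
    Finset.sdiff_subset (by rw [Finset.card_sdiff_of_subset hCd, hd.2, hC6]; norm_num) hfix⟩
  refine nonempty_equiv_perm_six _ C hH hC6 h1 (Or.inl fun σ => ?_)
  obtain ⟨x, hx⟩ := five_inside (S := C) (by omega)
  let y : Fin 5 ↪ Cfsg.GolayPt := ⟨fun i => (σ ⟨x i, hx i⟩ : Cfsg.GolayPt), fun i j h =>
    x.injective (congrArg Subtype.val (σ.injective (Subtype.ext h)))⟩
  have hy : ∀ i, y i ∈ C := fun i => (σ ⟨x i, hx i⟩).2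
  obtain ⟨g, hg, hgx⟩ := dodecad_map_tuple hd (n := 5) le_rfl x y (fun i => hCd (hx i)) (fun i => hCd (hy i))
  obtain ⟨hgM, hgd⟩ := mem_dodecadStab.mp hg
  have hgo : g • o = o := octad_unique (smul_mem_octads hgM ho) ho (s := Finset.univ.map y)
    (by simp) (by
      intro p hp
      obtain ⟨i, -, rfl⟩ := Finset.mem_map.mp hp
      exact Finset.mem_smul_finset.mpr ⟨x i, hCo (hx i), hgx i⟩) (by
      intro p hp
      obtain ⟨i, -, rfl⟩ := Finset.mem_map.mp hp
      exact hCo (hy i))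
  have hgC : g • C = C := by rw [← hod, Finset.smul_finset_inter, hgo, hgd]
  let G' : ↥(MulAction.stabilizer Cfsg.M24 d ⊓ MulAction.stabilizer Cfsg.M24 C) := ⟨⟨g, hgM⟩, hgd, hgC⟩
  refine ⟨G', ?_⟩
  let τ := restrict _ C hH G'
  show τ = σ
  have hagree : ∀ p : ↥C, (∃ i, x i = p.1) → τ p = σ p := by
    rintro ⟨p, hp⟩ ⟨i, rfl⟩
    exact Subtype.ext (hgx i)
  refine Equiv.ext fun p => ?_
  by_cases hp : ∃ i, x i = p.1
  · exact hagree p hp
  have huniq : ∀ q : ↥C, (¬ ∃ i, x i = q.1) → q = p := by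
    intro q hq
    by_contra hne
    have hsub : Finset.univ.map x ⊆ (C.erase p.1).erase q.1 := by
      intro r hr
      obtain ⟨i, -, rfl⟩ := Finset.mem_map.mp hr
      exact Finset.mem_erase.mpr ⟨fun e => hq ⟨i, e⟩, Finset.mem_erase.mpr ⟨fun e => hp ⟨i, e⟩, hx i⟩⟩
    have hcc := Finset.card_le_card hsub
    rw [Finset.card_map, Finset.card_univ, Fintype.card_fin, Finset.card_erase_of_mem (Finset.mem_erase.mpr
      ⟨fun e => hne (Subtype.ext e), q.2⟩), Finset.card_erase_of_mem p.2, hC6] at hcc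
    omega
  have hq : τ.symm (σ p) = p := huniq _ fun hex => hp (by
    have h2 := hagree _ hex
    rw [Equiv.apply_symm_apply] at h2
    rwa [← σ.injective h2] at hex)
  conv_lhs => rw [← hq]
  exact Equiv.apply_symm_apply τ _

end Cfsg.Agent.S5618
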