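import Cfsg.Statements.S5619
import Cfsg.Agent.S1600
import Cfsg.Agent.Lib.M24Classes.Enum
-- import your own Cfsg.Agent.* helpers here

set_option autoImplicit false
open scoped Pointwise
open Cfsg

namespace Cfsg.Agent.S5619

open Cfsg.Agent.Lib.Golay Cfsg.Agent.Lib.Computation Cfsg.Agent.Lib.M24Config
open Cfsg.Agent.Lib.M24Config.DataD Cfsg.Agent.Lib.M24Config.Dodecad
open Cfsg.Agent.Lib.M24Classes

/-- A group of order 72 with a normal subgroup of order 9 of exponent 3 and a quaternion subgroup. -/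
theorem structure72 {G : Type*} [Group G] (hG : Nat.card G = 72) (N : Subgroup G) [N.Normal]
    (hN : Nat.card N = 9) (h3 : ∀ x ∈ N, x ^ 3 = 1) (f : QuaternionGroup 2 →* G)
    (hf : Function.Injective f) :
    (∀ Q : Sylow 3 G, (Q : Subgroup G).Normal ∧ Nat.card ↥Q = 9 ∧ ∀ x ∈ (Q : Subgroup G), x ^ 3 = 1) ∧
      ∀ P : Sylow 2 G, Nonempty (↥P ≃* QuaternionGroup 2) := by
  haveI : Finite G := Nat.finite_of_card_ne_zero (by omega)
  haveI : Fact (Nat.Prime 2) := ⟨Nat.prime_two⟩
  haveI : Fact (Nat.Prime 3) := ⟨Nat.prime_three⟩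
  have e2 : (72 : ℕ).factorization 2 = 3 := by
    rw [Nat.factorization_def _ Nat.prime_two, show (72 : ℕ) = 2 ^ 3 * 9 by norm_num,
      padicValNat.mul (by norm_num) (by norm_num), padicValNat.prime_pow, padicValNat.eq_zero_of_not_dvd (by norm_num)]
  have e3 : (72 : ℕ).factorization 3 = 2 := by
    rw [Nat.factorization_def _ Nat.prime_three, show (72 : ℕ) = 3 ^ 2 * 8 by norm_num,
      padicValNat.mul (by norm_num) (by norm_num), padicValNat.prime_pow, padicValNat.eq_zero_of_not_dvd (by norm_num)]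
  refine ⟨fun Q => ?_, fun P => ?_⟩
  · let N' : Sylow 3 G := Sylow.ofCard N (by rw [hN, hG, e3]; norm_num)
    haveI : Subsingleton (Sylow 3 G) := (Sylow.unique_of_normal N' (show N.Normal from inferInstance)).instSubsingleton
    obtain rfl : Q = N' := Subsingleton.elim _ _
    exact ⟨show N.Normal from inferInstance, hN, h3⟩
  · have hc : Nat.card f.range = 8 := by
      rw [← Nat.card_congr (MonoidHom.ofInjective hf).toEquiv, Nat.card_eq_fintype_card, QuaternionGroup.card]
    let R : Sylow 2 G := Sylow.ofCard f.range (by rw [hc, hG, e2]; norm_num)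
    exact ⟨(Sylow.equiv P R).trans (MonoidHom.ofInjective hf).symm⟩

/-- The normal subgroup of order 9. -/
def nineCodes : List ℕ := [265564586144762153820853248797542432, 270910417595426372206477461354023328, 275981975290880559127463383089121536, 434391522284956073246735478469789728, 435370377643557511159306391780428192, 443317003509782464989413823260756224, 979377607925408116589167291906754816, 980629891908486473247249425583147424, 984818244535754528103549039458486304]

/-- The quaternion group: four powers and their translates. -/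
def qA : List ℕ := [984818244535754528103549039458486304, 399420804942210025089611169568753792, 268195153026948482477577069584812064, 734003548015605117403463454985128064]

/-- See `qA`. -/
def qX : List ℕ := [227839465180131759888216108438751456, 566587316247773834357392612720216384, 481123492845632397568998573858719968, 353834859614669045418269870035929408]

/-- The code of a quaternion element. -/
def qCode : QuaternionGroup 2 → ℕ
  | .a i => qA.getD i.val 0
  | .xa i => qX.getD i.val 0

theorem checks : (gensOk nineCodes [2 ^ rD, 2 ^ qD, 2 ^ pD, dod0] &&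
    gensOk (qA ++ qX) [2 ^ rD, 2 ^ qD, 2 ^ pD, dod0] &&
    nineCodes.all (fun a => Nat.beq (packW 5 (fun i => getW 5 a i) 24) a &&
      (nineCodes.all fun b => nineCodes.any fun c => Nat.beq (mulP 24 5 a b) c) &&
      (nineCodes.any fun b => Nat.beq (mulP 24 5 b a) oneCode) &&
      Nat.beq (mulP 24 5 a (mulP 24 5 a a)) oneCode) &&
    nineCodes.any (fun a => Nat.beq a oneCode) &&
    fixThree_gens.all (fun c => inM24 c && nineCodes.all fun a => nineCodes.any fun b =>
      Nat.beq (mulP 24 5 c a) (mulP 24 5 b c))) = true := by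
  decide +kernel

theorem nine_nodup : nineCodes.Nodup := by decide +kernel

theorem qCode_mem : ∀ x, qCode x ∈ qA ++ qX ∧ packW 5 (fun i => getW 5 (qCode x) i) 24 = qCode x := by
  decide +kernel

theorem qCode_mul : ∀ x y, qCode (x * y) = mulP 24 5 (qCode x) (qCode y) := by decide +kernel

theorem qCode_inj : ∀ x y, qCode x = qCode y → x = y := by decide +kernel

/-- The base configuration. -/
abbrev K : Subgroup (Equiv.Perm Cfsg.GolayPt) := Fixes [2 ^ rD, 2 ^ qD, 2 ^ pD, dod0]

theorem gsub_eq : gsub fixThree_gens = K :=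
  gsub_eq_fixes (by decide +kernel) Cfsg.Agent.S1600.order72 card_le_three

theorem ok_of_mem {cs : List ℕ} (h : gensOk cs [2 ^ rD, 2 ^ qD, 2 ^ pD, dod0] = true) {c : ℕ} (hc : c ∈ cs) :
    okCode c = true := by
  simp only [gensOk, List.all_eq_true, Bool.and_eq_true] at h
  exact okCode_of_inM24 (h c hc).1

/-- The nine elements. -/
def nine : Subgroup ↥K where
  carrier := {g | ∃ a ∈ nineCodes, gperm a = g.1}
  one_mem' := by
    have h := checks
    simp only [Bool.and_eq_true, List.any_eq_true, Nat.beq_eq] at h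
    obtain ⟨a, ha, rfl⟩ := h.1.2
    exact ⟨_, ha, gperm_oneCode⟩
  mul_mem' := by
    rintro x y ⟨a, ha, hxa⟩ ⟨b, hb, hyb⟩
    have h := checks
    simp only [Bool.and_eq_true, List.all_eq_true, List.any_eq_true, Nat.beq_eq] at h
    obtain ⟨c, hc, rfl⟩ := (h.1.1.2 a ha).1.1.2 b hb
    exact ⟨_, hc, by rw [gperm_mul (ok_of_mem h.1.1.1.1 ha) (ok_of_mem h.1.1.1.1 hb), hxa, hyb, Subgroup.coe_mul]⟩
  inv_mem' := by
    rintro x ⟨a, ha, hxa⟩
    have h := checks
    simp only [Bool.and_eq_true, List.all_eq_true, List.any_eq_true, Nat.beq_eq] at h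
    obtain ⟨b, hb, hbe⟩ := (h.1.1.2 a ha).1.2
    refine ⟨b, hb, ?_⟩
    have e := congrArg gperm hbe
    rw [gperm_mul (ok_of_mem h.1.1.1.1 hb) (ok_of_mem h.1.1.1.1 ha), gperm_oneCode] at e
    rw [Subgroup.coe_inv, ← hxa, eq_inv_iff_mul_eq_one, e]

theorem card_nine : Nat.card nine = 9 := by
  have h := checks
  simp only [Bool.and_eq_true, List.all_eq_true, Nat.beq_eq] at h
  have hb : Function.Bijective (fun a : {a // a ∈ nineCodes} =>
      (⟨⟨gperm a.1, gperm_mem_fixes h.1.1.1.1 a.2⟩, a.1, a.2, rfl⟩ : nine)) := by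
    refine ⟨fun a b e => Subtype.ext ?_, ?_⟩
    · exact Enum.gperm_injOn (ok_of_mem h.1.1.1.1 a.2) (ok_of_mem h.1.1.1.1 b.2)
        (h.1.1.2 _ a.2).1.1.1 (h.1.1.2 _ b.2).1.1.1 (congrArg (fun z => z.1.1) e)
    · rintro ⟨g, a, ha, hga⟩
      exact ⟨⟨a, ha⟩, Subtype.ext (Subtype.ext hga)⟩
  rw [← Nat.card_eq_of_bijective _ hb, Nat.card_eq_fintype_card,
    Fintype.card_of_subtype nineCodes.toFinset (fun x => List.mem_toFinset),
    List.toFinset_card_of_nodup nine_nodup]
  rfl

theorem nine_cube : ∀ x ∈ nine, x ^ 3 = 1 := by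
  rintro x ⟨a, ha, hxa⟩
  have h := checks
  simp only [Bool.and_eq_true, List.all_eq_true, Nat.beq_eq] at h
  have oa := ok_of_mem h.1.1.1.1 ha
  refine Subtype.ext ?_
  rw [Subgroup.coe_pow, ← hxa, pow_three, ← gperm_mul oa oa, ← gperm_mul oa (okCode_mulP oa oa),
    (h.1.1.2 a ha).2, gperm_oneCode]
  rfl

theorem nine_normal : nine.Normal := by
  have h := checks
  simp only [Bool.and_eq_true, List.all_eq_true, List.any_eq_true, Nat.beq_eq] at h
  have hle : gsub fixThree_gens ≤ Subgroup.normalizer ((nine.map K.subtype : Subgroup _) : Set (Equiv.Perm Cfsg.GolayPt)) := by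
    rw [gsub, Subgroup.closure_le]
    rintro _ ⟨c, hc, rfl⟩
    haveI : Finite ↥(nine.map K.subtype) := inferInstance
    have hsub : (nine.map K.subtype).map (MulAut.conj (gperm c)).toMonoidHom ≤ nine.map K.subtype := by
      rintro _ ⟨_, ⟨x, ⟨a, ha, hxa⟩, rfl⟩, rfl⟩
      obtain ⟨hcm, hall⟩ := h.2 c hc
      obtain ⟨b, hb, he⟩ := hall a ha
      have oc := okCode_of_inM24 hcm
      refine ⟨⟨gperm b, gperm_mem_fixes h.1.1.1.1 hb⟩, ⟨b, hb, rfl⟩, ?_⟩
      show gperm b = gperm c * x.1 * (gperm c)⁻¹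
      rw [← hxa, ← gperm_mul oc (ok_of_mem h.1.1.1.1 ha), he, gperm_mul (ok_of_mem h.1.1.1.1 hb) oc, mul_inv_cancel_right]
    have heq := Subgroup.eq_of_le_of_card_ge hsub
      (le_of_eq (Subgroup.card_map_of_injective (MulAut.conj (gperm c)).injective).symm)
    rw [SetLike.mem_coe, Subgroup.mem_normalizer_iff]
    intro z
    constructor
    · intro hz
      rw [← heq]
      exact ⟨z, hz, rfl⟩
    · intro hz
      rw [← heq] at hz
      obtain ⟨w, hw, hwe⟩ := hz
      exact (MulAut.conj (gperm c)).injective hwe ▸ hw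
  rw [gsub_eq] at hle
  refine ⟨fun x hx g => ?_⟩
  obtain ⟨y, hy, hye⟩ := (Subgroup.mem_normalizer_iff.1 (hle g.2) x.1).1 ⟨x, hx, rfl⟩
  have : y = g * x * g⁻¹ := Subtype.ext hye
  exact this ▸ hy

/-- The quaternion subgroup. -/
noncomputable def qHom : QuaternionGroup 2 →* ↥K :=
  MonoidHom.mk' (fun x => ⟨gperm (qCode x), gperm_mem_fixes (by
    have h := checks; simp only [Bool.and_eq_true] at h; exact h.1.1.1.2) (qCode_mem x).1⟩) fun x y => by
    have h := checks
    simp only [Bool.and_eq_true] at h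
    refine Subtype.ext ?_
    show gperm (qCode (x * y)) = gperm (qCode x) * gperm (qCode y)
    rw [qCode_mul, gperm_mul (ok_of_mem h.1.1.1.2 (qCode_mem x).1) (ok_of_mem h.1.1.1.2 (qCode_mem y).1)]

theorem qHom_injective : Function.Injective qHom := fun x y e => by
  have h := checks
  simp only [Bool.and_eq_true] at h
  exact qCode_inj x y (Enum.gperm_injOn (ok_of_mem h.1.1.1.2 (qCode_mem x).1) (ok_of_mem h.1.1.1.2 (qCode_mem y).1)
    (qCode_mem x).2 (qCode_mem y).2 (congrArg Subtype.val e))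

/-- In the group of the length-24 code, the subgroup fixing a dodecad setwise and three of its points individually (a group of order 72) has a normal Sylow 3-subgroup that is elementary abelian of order 9, and its Sylow 2-subgroups are quaternion of order 8. -/
theorem result (d : Finset Cfsg.GolayPt) (hd : d ∈ Cfsg.dodecads) (p q r : Cfsg.GolayPt) (hp : p ∈ d) (hq : q ∈ d) (hr : r ∈ d) (hpq : p ≠ q) (hpr : p ≠ r) (hqr : q ≠ r) : (∀ Q : Sylow 3 ↥(MulAction.stabilizer Cfsg.M24 d ⊓ MulAction.stabilizer Cfsg.M24 p ⊓ MulAction.stabilizer Cfsg.M24 q ⊓ MulAction.stabilizer Cfsg.M24 r), (Q : Subgroup ↥(MulAction.stabilizer Cfsg.M24 d ⊓ MulAction.stabilizer Cfsg.M24 p ⊓ MulAction.stabilizer Cfsg.M24 q ⊓ MulAction.stabilizer Cfsg.M24 r)).Normal ∧ Nat.card ↥Q = 9 ∧ ∀ x ∈ (Q : Subgroup ↥(MulAction.stabilizer Cfsg.M24 d ⊓ MulAction.stabilizer Cfsg.M24 p ⊓ MulAction.stabilizer Cfsg.M24 q ⊓ MulAction.stabilizer Cfsg.M24 r)), x ^ 3 = 1) ∧ ∀ P : Sylow 2 ↥(MulAction.stabilizer Cfsg.M24 d ⊓ MulAction.stabilizer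 Cfsg.M24 p ⊓ MulAction.stabilizer Cfsg.M24 q ⊓ MulAction.stabilizer Cfsg.M24 r), Nonempty (↥P ≃* QuaternionGroup 2) := by
  obtain ⟨g, hg, hed, hgp, hgq, hgr⟩ := norm_three hd hp hq hr hpq hpr hqr
  obtain ⟨e, -⟩ := exists_equiv_fixes (H := MulAction.stabilizer Cfsg.M24 d ⊓
      MulAction.stabilizer Cfsg.M24 p ⊓ MulAction.stabilizer Cfsg.M24 q ⊓
      MulAction.stabilizer Cfsg.M24 r) hg (ms := [2 ^ rD, 2 ^ qD, 2 ^ pD, dod0]) (fun x => by
    simp only [List.forall_mem_cons, List.not_mem_nil, false_imp_iff, implies_true, and_true,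
      conj_fix_point_iff (show rD < 24 by decide) hgr, conj_fix_point_iff (show qD < 24 by decide) hgq,
      conj_fix_point_iff (show pD < 24 by decide) hgp, ← hed, conj_fix_iff, Subgroup.mem_inf,
      MulAction.mem_stabilizer_iff, Subgroup.smul_def, Equiv.Perm.smul_def]
    tauto)
  haveI := nine_normal
  haveI : (nine.map e.symm.toMonoidHom).Normal := Subgroup.Normal.map nine_normal _ e.symm.surjective
  refine structure72 ((Nat.card_congr e.toEquiv).trans Cfsg.Agent.S1600.card_fixes)
    (nine.map e.symm.toMonoidHom) (by rw [Subgroup.card_map_of_injective e.symm.injective, card_nine])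
    ?_ (e.symm.toMonoidHom.comp qHom) (e.symm.injective.comp qHom_injective)
  rintro _ ⟨x, hx, rfl⟩
  rw [← map_pow, nine_cube x hx, map_one]

end Cfsg.Agent.S5619
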