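import Cfsg.Statements.S5620
import Cfsg.Agent.Lib.Golay.Simple
-- import your own Cfsg.Agent.* helpers here

set_option autoImplicit false
open scoped Pointwise
open Cfsg

namespace Cfsg.Agent.S5620

open Cfsg.Agent.Lib.Golay

theorem memberships : (some 0 : Cfsg.GolayPt) ∈ Cfsg.Spor.squareDodecad ∧
    (none : Cfsg.GolayPt) ∉ Cfsg.Spor.squareDodecad := by
  rw [squareDodecad_eq, mem_setOfMask, mem_setOfMask]; decide +kernel

/-- An element exchanging the dodecad with its complement and the two points. -/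
theorem exists_swap : ∃ g ∈ Cfsg.M24, g • Cfsg.Spor.squareDodecad = Cfsg.Spor.squareDodecadᶜ ∧
    g (some 0) = none := by
  have hd := squareDodecad_mem
  obtain ⟨a, ha, had⟩ := transitive_dodecads hd (compl_mem_dodecads hd)
  obtain ⟨b, hb, hbp⟩ := dodecad_map_tuple (compl_mem_dodecads hd) (n := 1) (by norm_num)
    ⟨fun _ => a (some 0), Function.injective_of_subsingleton _⟩
    ⟨fun _ => none, Function.injective_of_subsingleton _⟩
    (fun _ => had ▸ Finset.mem_smul_finset.mpr ⟨some 0, memberships.1, rfl⟩)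
    (fun _ => Finset.mem_compl.mpr memberships.2)
  exact ⟨b * a, Cfsg.M24.mul_mem (mem_dodecadStab.mp hb).1 ha,
    by rw [mul_smul, had]; exact (mem_dodecadStab.mp hb).2, hbp 0⟩

/-- Inside the stabiliser of the dodecad of squares (a Mathieu group of degree 12), the stabiliser of the residue 0 (a point of the dodecad) and the stabiliser of the extra point (a point outside the dodecad) are isomorphic but not conjugate; conjugation by a suitable element of the code's group that maps the dodecad of squares onto its complement carries the first onto the second. -/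
theorem result : Nonempty (↥(Cfsg.Spor.M12 ⊓ MulAction.stabilizer (Equiv.Perm Cfsg.GolayPt) (none : Cfsg.GolayPt)) ≃* ↥Cfsg.Spor.M11) ∧ (¬ ∃ k ∈ Cfsg.Spor.M12, MulAut.conj k • Cfsg.Spor.M11 = Cfsg.Spor.M12 ⊓ MulAction.stabilizer (Equiv.Perm Cfsg.GolayPt) (none : Cfsg.GolayPt)) ∧ ∃ g ∈ Cfsg.M24, g • Cfsg.Spor.squareDodecad = Finset.univ \ Cfsg.Spor.squareDodecad ∧ MulAut.conj g • Cfsg.Spor.M11 = Cfsg.Spor.M12 ⊓ MulAction.stabilizer (Equiv.Perm Cfsg.GolayPt) (none : Cfsg.GolayPt) := by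
  obtain ⟨g, hg, hgd, hg0⟩ := exists_swap
  have hmap : Cfsg.Spor.M11.map (MulAut.conj g).toMonoidHom =
      Cfsg.Spor.M12 ⊓ MulAction.stabilizer (Equiv.Perm Cfsg.GolayPt) (none : Cfsg.GolayPt) := by
    have h := map_conj_inf (map_conj_inf (map_conj_M24 hg) Cfsg.Spor.squareDodecad) (some 0 : Cfsg.GolayPt)
    rw [hgd, show g • (some 0 : Cfsg.GolayPt) = none from hg0] at h
    refine Eq.trans h ?_
    show dodecadStab Cfsg.Spor.squareDodecadᶜ ⊓ _ = _
    rw [dodecadStab_compl]
    rfl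
  refine ⟨⟨((Subgroup.equivMapOfInjective _ (MulAut.conj g).toMonoidHom (MulAut.conj g).injective).trans
    (MulEquiv.subgroupCongr hmap)).symm⟩, ?_, g, hg, hgd.trans (Finset.compl_eq_univ_sdiff _), hmap⟩
  rintro ⟨k, hk, hkc⟩
  have hkd : k • Cfsg.Spor.squareDodecad = Cfsg.Spor.squareDodecad := hk.2
  have hp : k (some 0) ∈ Cfsg.Spor.squareDodecad :=
    hkd ▸ Finset.mem_smul_finset.mpr ⟨some 0, memberships.1, rfl⟩
  obtain ⟨q, hq, hqne⟩ := Finset.exists_mem_ne (s := Cfsg.Spor.squareDodecad)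
    (by rw [squareDodecad_mem.2]; norm_num) (k (some 0))
  have h3 : 3 ≤ (Cfsg.Spor.squareDodecadᶜ.erase none).card + 1 := by
    rw [Finset.card_erase_of_mem (Finset.mem_compl.mpr memberships.2), (compl_mem_dodecads squareDodecad_mem).2]
    norm_num
  obtain ⟨u, hu, v, hv, huv⟩ := Finset.one_lt_card.mp
    (show 1 < (Cfsg.Spor.squareDodecadᶜ.erase none).card by omega)
  simp only [Finset.mem_erase, Finset.mem_compl] at hu hv
  obtain ⟨m, hm, hmx, hmp⟩ := triple_transitive squareDodecad_mem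
    ⟨![none, u, v], injective_triple (Ne.symm hu.1) (Ne.symm hv.1) huv⟩
    (by intro i; fin_cases i <;> simp [memberships.2, hu.2, hv.2]) hp hq
  have hmem : m ∈ Cfsg.Spor.M12 ⊓ MulAction.stabilizer (Equiv.Perm Cfsg.GolayPt) (none : Cfsg.GolayPt) :=
    ⟨hm, hmx 0⟩
  rw [← hkc] at hmem
  obtain ⟨n, hn, rfl⟩ := hmem
  apply hqne
  rw [← hmp]
  show (k * n * k⁻¹) (k (some 0)) = k (some 0)
  rw [Equiv.Perm.mul_apply, Equiv.Perm.mul_apply, Equiv.Perm.inv_def, Equiv.symm_apply_apply,
    show n (some 0) = some 0 from hn.2]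

end Cfsg.Agent.S5620
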