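import Cfsg.Statements.S5622
import Cfsg.Agent.Lib.AbstractGolay.Basic

set_option autoImplicit false
open Cfsg

namespace Cfsg.Agent.S5622

/-- Let C be a self-dual binary code of length 24 with minimum weight at least 8 (a 12-dimensional subspace of the 24-dimensional space over the field with two elements, any two of whose words have dot product zero, with no non-zero word of weight below 8 — an abstract extended binary Golay code). Then the minimum weight of C is exactly 8, and the supports of the words of weight 8 (the octads) form a Steiner system S(5, 8, 24) on the 24 coordinates: every 5 coordinates lie in the support of exactly one word of weight 8. -/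
theorem result (C : Submodule (ZMod 2) (Fin 24 → ZMod 2)) (hdim : Module.finrank (ZMod 2) C = 12) (horth : ∀ v ∈ C, ∀ w ∈ C, ∑ i, v i * w i = 0) (hmin : ∀ w ∈ C, w ≠ 0 → 8 ≤ hammingNorm w) : (∃ w ∈ C, hammingNorm w = 8) ∧ Cfsg.IsSteinerSystem 5 8 (Cfsg.wordsOfWeight (C : Set (Fin 24 → ZMod 2)) 8) := by
  have h : Cfsg.Agent.Lib.AbstractGolay.Basic.IsGolay C := ⟨hdim, horth, hmin⟩
  have key : ∀ b : Finset (Fin 24), b ∈ Cfsg.wordsOfWeight (C : Set (Fin 24 → ZMod 2)) 8 ↔
      (Cfsg.Agent.Lib.AbstractGolay.Basic.ind b ∈ C ∧ b.card = 8) := by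
    intro b
    constructor
    · rintro ⟨⟨w, hw, rfl⟩, hc⟩
      refine ⟨?_, hc⟩
      rw [show Cfsg.support₂ w = Cfsg.Agent.Lib.AbstractGolay.Basic.supp w from rfl, Cfsg.Agent.Lib.AbstractGolay.Basic.ind_supp]
      exact hw
    · rintro ⟨hb, hc⟩
      exact ⟨⟨_, hb, Cfsg.Agent.Lib.AbstractGolay.Basic.supp_ind b⟩, hc⟩
  refine ⟨?_, fun b hb => hb.2, fun s hs => ?_⟩
  · obtain ⟨T, -, hT⟩ := Finset.exists_subset_card_eq
      (show 5 ≤ (Finset.univ : Finset (Fin 24)).card by simp)
    obtain ⟨b, ⟨⟨hb, hb8⟩, -⟩, -⟩ := h.five_points hT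
    exact ⟨_, hb, by rw [Cfsg.Agent.Lib.AbstractGolay.Basic.norm_eq, Cfsg.Agent.Lib.AbstractGolay.Basic.supp_ind, hb8]⟩
  · obtain ⟨b, ⟨hb, hsb⟩, hu⟩ := h.five_points hs
    exact ⟨b, ⟨(key b).mpr hb, hsb⟩, fun c hc => hu c ⟨(key c).mp hc.1, hc.2⟩⟩

end Cfsg.Agent.S5622
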