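import Cfsg.Statements.S5625
import Cfsg.Agent.Lib.AbstractGolay.Steiner

set_option autoImplicit false
open Cfsg

namespace Cfsg.Agent.S5625

/-- In any Steiner system S(5, 8, 24) and for any set Y of three points, the blocks meeting Y in exactly 3, 2, 1 and 0 points number 21, 168, 360 and 210 respectively (so there are 759 blocks in all). -/
theorem result (α : Type*) [Fintype α] [DecidableEq α] (hα : Fintype.card α = 24) (B : Set (Finset α)) (hB : Cfsg.IsSteinerSystem 5 8 B) (Y : Finset α) (hY : Y.card = 3) : {b : Finset α | b ∈ B ∧ (b ∩ Y).card = 3}.ncard = 21 ∧ {b : Finset α | b ∈ B ∧ (b ∩ Y).card = 2}.ncard = 168 ∧ {b : Finset α | b ∈ B ∧ (b ∩ Y).card = 1}.ncard = 360 ∧ {b : Finset α | b ∈ B ∧ (b ∩ Y).card = 0}.ncard = 210 := by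
  classical
  have hcount : ∀ S : Finset α, S.card ≤ 3 →
      (Finset.univ.filter fun b => b ∈ B ∧ S ⊆ b).card * (8 - S.card).choose (5 - S.card) =
        (24 - S.card).choose (5 - S.card) := by
    intro S hS
    have h := Cfsg.Agent.Lib.AbstractGolay.Steiner.blocks_through hB (S := S) (by omega)
    rw [hα] at h
    rw [← h, ← Set.ncard_coe_finset]
    simp
  have hset : ∀ i : ℕ, {b : Finset α | b ∈ B ∧ (b ∩ Y).card = i}.ncard =
      (Finset.univ.filter fun b => b ∈ B ∧ (b ∩ Y).card = i).card := by
    intro i; rw [← Set.ncard_coe_finset]; simp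
  rw [hset, hset, hset, hset]
  let BF : Finset (Finset α) := Finset.univ.filter fun b => b ∈ B
  let a : ℕ → ℕ := fun i => (Finset.univ.filter fun b => b ∈ B ∧ (b ∩ Y).card = i).card
  -- double counting sub-sets of size j of `Y` contained in blocks
  have key : ∀ j ≤ 3, (∑ S ∈ Y.powersetCard j, (Finset.univ.filter fun b => b ∈ B ∧ S ⊆ b).card) =
      a 0 * Nat.choose 0 j + a 1 * Nat.choose 1 j + a 2 * Nat.choose 2 j + a 3 * Nat.choose 3 j := by
    intro j _
    have h1 : (∑ S ∈ Y.powersetCard j, (Finset.univ.filter fun b => b ∈ B ∧ S ⊆ b).card) =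
        ∑ b ∈ BF, (b ∩ Y).card.choose j := by
      have h2 : ∀ S, (Finset.univ.filter fun b => b ∈ B ∧ S ⊆ b) = BF.filter (fun b => S ⊆ b) :=
        fun S => by rw [Finset.filter_filter]
      simp only [h2, Finset.card_filter]
      rw [Finset.sum_comm]
      refine Finset.sum_congr rfl fun b _ => ?_
      rw [← Finset.card_filter, ← Finset.card_powersetCard j]
      congr 1
      ext S
      simp only [Finset.mem_filter, Finset.mem_powersetCard, Finset.subset_inter_iff]
      tauto
    have hmaps : ∀ b ∈ BF, (b ∩ Y).card ∈ Finset.range 4 := fun b _ => by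
      have := Finset.card_le_card (Finset.inter_subset_right (s₁ := b) (s₂ := Y))
      simp; omega
    rw [h1, ← Finset.sum_fiberwise_of_maps_to hmaps]
    simp only [Finset.sum_range_succ, Finset.sum_range_zero, zero_add]
    have h3 : ∀ i, (∑ b ∈ BF with (b ∩ Y).card = i, (b ∩ Y).card.choose j) = a i * i.choose j := by
      intro i
      rw [Finset.sum_congr rfl (g := fun _ => i.choose j) fun b hb => by rw [(Finset.mem_filter.mp hb).2],
        Finset.sum_const, smul_eq_mul, Finset.filter_filter]
    rw [h3, h3, h3, h3]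
  have lam : ∀ (j n : ℕ), j ≤ 3 → (24 - j).choose (5 - j) = n * (8 - j).choose (5 - j) →
      0 < (8 - j).choose (5 - j) →
      (∑ S ∈ Y.powersetCard j, (Finset.univ.filter fun b => b ∈ B ∧ S ⊆ b).card) = Nat.choose 3 j * n := by
    intro j n hj hn hpos
    rw [Finset.sum_congr rfl (g := fun _ => n) fun S hS => by
      have hS' := (Finset.mem_powersetCard.mp hS).2
      have := hcount S (by omega)
      rw [hS', hn] at this
      exact Nat.eq_of_mul_eq_mul_right hpos this, Finset.sum_const, smul_eq_mul,
      Finset.card_powersetCard, hY]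
  have k0 := (key 0 (by omega)).symm.trans (lam 0 759 (by omega) (by decide) (by decide))
  have k1 := (key 1 (by omega)).symm.trans (lam 1 253 (by omega) (by decide) (by decide))
  have k2 := (key 2 (by omega)).symm.trans (lam 2 77 (by omega) (by decide) (by decide))
  have k3 := (key 3 (by omega)).symm.trans (lam 3 21 (by omega) (by decide) (by decide))
  simp [show Nat.choose 3 1 = 3 from rfl, show Nat.choose 3 2 = 3 from rfl, Nat.choose] at k0 k1 k2 k3
  show a 3 = 21 ∧ a 2 = 168 ∧ a 1 = 360 ∧ a 0 = 210
  omega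

end Cfsg.Agent.S5625
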