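import Cfsg.Statements.S5628
import Cfsg.Agent.Lib.Plane4.Coord

set_option autoImplicit false
open Cfsg

namespace Cfsg.Agent.S5628

open Cfsg.Agent.Lib.Plane4.Basic Cfsg.Agent.Lib.Plane4.Coord
open scoped Pointwise

/-- In a projective plane of order 4 (a Steiner system S(2, 5, 21)), every permutation of the six points of a hyperoval (a 6-set met by no line in more than two points) is the restriction of exactly one automorphism of the plane. In particular the stabiliser of a hyperoval in the automorphism group is isomorphic to the symmetric group of degree 6 acting faithfully on the hyperoval. -/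
theorem result {α : Type*} [Fintype α] [DecidableEq α] (hα : Fintype.card α = 21) (L : Set (Finset α)) (hL : Cfsg.IsSteinerSystem 2 5 L) (H : Finset α) (hH : (H.card = 6 ∧ ∀ l ∈ L, (l ∩ H).card ≤ 2)) (σ : Equiv.Perm ↥H) : ∃! g : Equiv.Perm α, g ∈ Cfsg.setSystemAut L ∧ ∀ p : ↥H, g p = σ p := by
  classical
  let LF : Finset (Finset α) := Finset.univ.filter fun b => b ∈ L
  have hmem : ∀ b, b ∈ LF ↔ b ∈ L := fun b => by simp [LF]
  have hp : IsPlane LF := ⟨hα, by simpa [LF] using hL⟩
  let e := (H.equivFinOfCardEq hH.1).symm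
  have himg : ∀ (f : Fin 6 ≃ ↥H), Finset.univ.image (fun i => (f i).1) = H := by
    intro f
    ext x
    simp only [Finset.mem_image, Finset.mem_univ, true_and]
    exact ⟨fun ⟨i, hi⟩ => hi ▸ (f i).2, fun hx => ⟨f.symm ⟨x, hx⟩, by simp⟩⟩
  have harc : IsArc LF H := fun l hl => hH.2 l ((hmem l).mp hl)
  let F : Frame LF := ⟨fun i => (e i).1, Subtype.val_injective.comp e.injective, (himg e).symm ▸ harc⟩
  let F' : Frame LF := ⟨fun i => (σ (e i)).1, Subtype.val_injective.comp (σ.injective.comp e.injective),
    (himg (e.trans σ)).symm ▸ harc⟩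
  obtain ⟨g, hg, hgL⟩ := exists_iso hp hp F F'
  have haut : ∀ f : Equiv.Perm α, f ∈ Cfsg.setSystemAut L ↔ ∀ l ∈ LF, l.image f ∈ LF := by
    intro f
    rw [MulAction.mem_stabilizer_iff]
    constructor
    · intro h l hl
      rw [hmem] at hl ⊢
      have := Set.smul_mem_smul_set (a := f) hl
      rw [h] at this
      convert this using 1
      ext x; simp [Finset.mem_smul_finset]
    · intro h
      refine Set.eq_of_subset_of_ncard_le ?_ (by rw [Set.ncard_smul_set]) (Set.toFinite _)
      rintro _ ⟨l, hl, rfl⟩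
      have := (hmem _).mp (h l ((hmem l).mpr hl))
      convert this using 1
      ext x; simp [Finset.mem_smul_finset]
  have hgfix : ∀ p : ↥H, g p = σ p := fun p => by
    have := hg (e.symm p)
    simpa [F, F'] using this
  have hgaut : ∀ l ∈ LF, l.image g ∈ LF := fun l hl =>
    hgL ▸ Finset.mem_image_of_mem (fun b => b.image g) hl
  refine ⟨g, ⟨(haut g).mpr hgaut, hgfix⟩, fun f hf => ?_⟩
  have hginv : g⁻¹ ∈ Cfsg.setSystemAut L := inv_mem ((haut g).mpr hgaut)
  have := F.fixes_all hp (g⁻¹ * f) ((haut _).mp (mul_mem hginv hf.1)) (fun i => by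
    show g⁻¹ (f (e i).1) = (e i).1
    rw [hf.2, ← hgfix]
    exact g.symm_apply_apply _)
  exact (inv_mul_eq_one.mp this).symm

end Cfsg.Agent.S5628
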