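import Cfsg.Statements.S5631
import Cfsg.Agent.Lib.Subspaces.Transvection

set_option autoImplicit false
open Cfsg

namespace Cfsg.Agent.S5631

open Matrix Cfsg.Agent.Lib.Subspaces.Transvection


/-- For a finite field F and n ≥ 13, the stabiliser in SL_n(F) of any proper non-zero subspace W of F^n is a maximal subgroup of SL_n(F). Here SL_n(F) is the kernel of the determinant inside GL_n(F) and the stabiliser is the set of elements of determinant one mapping W onto itself. -/
theorem result {F : Type*} [Field F] [Fintype F] (n : ℕ) (hn : 13 ≤ n) (W : Submodule F (Fin n → F)) (hW0 : W ≠ ⊥) (hW1 : W ≠ ⊤) : Cfsg.Geo.IsMaximalIn (Cfsg.Geo.specialLinear (Fin n) F) (Cfsg.Geo.subspaceStabilizer W ⊓ Cfsg.Geo.specialLinear (Fin n) F) := by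
  classical
  refine isMaximalIn_of inf_le_right ?_ ?_
  · obtain ⟨v, φ, -, h⟩ := exists_tv_not_mem_stabilizer hW0 hW1
    exact ⟨tv v φ, tv_mem_specialLinear v φ, fun h' => h h'.1⟩
  intro M hHM hMK g hgM hgH
  have hgW : g ∉ Geo.subspaceStabilizer W := fun h => hgH ⟨h, hMK hgM⟩
  rw [mem_subspaceStabilizer_iff] at hgW
  push Not at hgW
  obtain ⟨w, hw, hx⟩ := hgW
  have hC : ∀ u ∈ W, u ∈ fullCenters M := fun u hu φ _ =>
    hHM ⟨tv_mem_stabilizer_of_center hu, tv_mem_specialLinear u φ⟩
  set x := (g : Matrix (Fin n) (Fin n) F).mulVec w with hxdef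
  have hxC : x ∈ fullCenters M := fullCenter_conj (hC w hw) hgM
  refine specialLinear_le_of_fullCenter fun y => ?_
  by_cases hy : y ∈ W ⊔ Submodule.span F {x}
  · exact (sup_le (fun u hu => hC u hu) ((Submodule.span_singleton_le_iff_mem _ _).mpr hxC) :
      W ⊔ Submodule.span F {x} ≤ fullCenters M) hy
  have hxs : x ∉ W ⊔ Submodule.span F {y - x} := by
    intro hmem
    obtain ⟨u, hu, z, hz, hsum⟩ := Submodule.mem_sup.mp hmem
    obtain ⟨a, rfl⟩ := Submodule.mem_span_singleton.mp hz
    rcases eq_or_ne a 0 with rfl | ha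
    · rw [zero_smul, add_zero] at hsum
      exact hx (hsum ▸ hu)
    · apply hy
      have hya : y = -a⁻¹ • u + ((1 + a) * a⁻¹) • x := by
        have h2 : a • y = -u + (1 + a) • x := by
          rw [add_smul, one_smul]
          nth_rw 1 [← hsum]
          rw [smul_sub]; abel
        calc y = a⁻¹ • (a • y) := by rw [smul_smul, inv_mul_cancel₀ ha, one_smul]
          _ = _ := by rw [h2, smul_add, smul_neg, neg_smul, smul_smul, mul_comm]
      rw [hya]
      exact Submodule.add_mem_sup (W.smul_mem _ hu)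
        (Submodule.smul_mem _ _ (Submodule.mem_span_singleton_self x))
  obtain ⟨φ, hφ, hφx⟩ := exists_functional hxs
  have h0 : φ ⬝ᵥ (y - x) = 0 :=
    hφ _ (Submodule.mem_sup_right (Submodule.mem_span_singleton_self _))
  have ht : tv (y - x) φ ∈ M := hHM ⟨tv_mem_stabilizer_of_axis
    (fun u hu => hφ u (Submodule.mem_sup_left hu)), tv_mem_specialLinear _ φ⟩
  have hC' := fullCenter_conj hxC ht
  rwa [tv_mulVec h0, hφx, one_smul, add_sub_cancel] at hC'

end Cfsg.Agent.S5631
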