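import Cfsg.Statements.S5632
import Cfsg.Agent.Lib.Subspaces.Transvection

set_option autoImplicit false
open Cfsg

namespace Cfsg.Agent.S5632

open Matrix Cfsg.Agent.Lib.Subspaces.Transvection


/-- For a finite field F and subspaces 0 < W < U of F^n with dim W + dim U = n, the elements of SL_n(F) stabilising both W and U form a subgroup that is not maximal in SL_n(F): some subgroup lies strictly between it and SL_n(F). -/
theorem result {F : Type*} [Field F] [Fintype F] (n : ℕ) (W U : Submodule F (Fin n → F)) (hW0 : W ≠ ⊥) (hWU : W < U) (hdim : Module.finrank F W + Module.finrank F U = n) : ∃ K : Subgroup (Matrix.GeneralLinearGroup (Fin n) F), Cfsg.Geo.subspaceStabilizer W ⊓ Cfsg.Geo.subspaceStabilizer U ⊓ Cfsg.Geo.specialLinear (Fin n) F < K ∧ K < Cfsg.Geo.specialLinear (Fin n) F := by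
  classical
  have hU : W ≤ U := hWU.le
  have hU1 : U ≠ ⊤ := by
    rintro rfl
    rw [finrank_top, Module.finrank_fin_fun] at hdim
    exact hW0 (Submodule.finrank_eq_zero.mp (by omega))
  obtain ⟨v, -, hv⟩ := SetLike.exists_of_lt (lt_top_iff_ne_top.mpr hU1)
  obtain ⟨u, hu, huW⟩ := SetLike.exists_of_lt hWU
  refine exists_between_of (K := Geo.subspaceStabilizer W ⊓ Geo.specialLinear (Fin n) F)
    (fun g hg => ⟨hg.1.1, hg.2⟩) inf_le_right ?_ ?_
  · have hus : u ∉ W ⊔ Submodule.span F {v} := by
      intro hmem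
      obtain ⟨w, hw, z, hz, hsum⟩ := Submodule.mem_sup.mp hmem
      obtain ⟨a, rfl⟩ := Submodule.mem_span_singleton.mp hz
      rcases eq_or_ne a 0 with rfl | ha
      · exact huW (by simpa [← hsum] using hw)
      · apply hv
        have : a • v ∈ U := by
          have : a • v = u - w := by rw [← hsum]; abel
          rw [this]; exact U.sub_mem hu (hU hw)
        simpa [smul_smul, ha] using U.smul_mem a⁻¹ this
    obtain ⟨φ, hφ, hφu⟩ := exists_functional hus
    have h0 : φ ⬝ᵥ v = 0 := hφ v (Submodule.mem_sup_right (Submodule.mem_span_singleton_self v))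
    refine ⟨tv v φ, ⟨tv_mem_stabilizer_of_axis (fun w hw => hφ w (Submodule.mem_sup_left hw)),
      tv_mem_specialLinear v φ⟩, fun h => hv ?_⟩
    have := mem_subspaceStabilizer_iff.mp h.1.2 u hu
    rw [tv_mulVec h0, hφu, one_smul] at this
    simpa using U.sub_mem this hu
  · obtain ⟨x, φ, -, h⟩ := exists_tv_not_mem_stabilizer hW0 (fun e => hU1 (top_le_iff.mp (e ▸ hU)))
    exact ⟨tv x φ, tv_mem_specialLinear x φ, fun h' => h h'.1⟩

end Cfsg.Agent.S5632
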