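import Cfsg.Statements.S5633
import Cfsg.Agent.Lib.Subspaces.Transvection

set_option autoImplicit false
open Cfsg

namespace Cfsg.Agent.S5633

open Matrix Cfsg.Agent.Lib.Subspaces.Transvection


/-- For a finite field F and complementary non-zero subspaces W ⊕ U = F^n with dim W < dim U, the elements of SL_n(F) stabilising both W and U form a subgroup that is not maximal in SL_n(F): some subgroup lies strictly between it and SL_n(F). -/
theorem result {F : Type*} [Field F] [Fintype F] (n : ℕ) (W U : Submodule F (Fin n → F)) (hW0 : W ≠ ⊥) (hWU : W ⊓ U = ⊥) (hWU' : W ⊔ U = ⊤) (hdim : Module.finrank F W < Module.finrank F U) : ∃ K : Subgroup (Matrix.GeneralLinearGroup (Fin n) F), Cfsg.Geo.subspaceStabilizer W ⊓ Cfsg.Geo.subspaceStabilizer U ⊓ Cfsg.Geo.specialLinear (Fin n) F < K ∧ K < Cfsg.Geo.specialLinear (Fin n) F := by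
  classical
  have hU0 : U ≠ ⊥ := by
    rintro rfl
    rw [finrank_bot] at hdim
    exact absurd hdim (by omega)
  obtain ⟨v, hv, hv0⟩ := Submodule.exists_mem_ne_zero_of_ne_bot hW0
  obtain ⟨u, hu, hu0⟩ := Submodule.exists_mem_ne_zero_of_ne_bot hU0
  have huW : u ∉ W := fun h => hu0 (by
    have : u ∈ W ⊓ U := ⟨h, hu⟩
    rw [hWU] at this; simpa using this)
  have hvU : v ∉ U := fun h => hv0 (by
    have : v ∈ W ⊓ U := ⟨hv, h⟩
    rw [hWU] at this; simpa using this)
  refine exists_between_of (K := Geo.subspaceStabilizer W ⊓ Geo.specialLinear (Fin n) F)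
    (fun g hg => ⟨hg.1.1, hg.2⟩) inf_le_right ?_ ?_
  · obtain ⟨φ, hφ, hφu⟩ := exists_functional huW
    refine ⟨tv v φ, ⟨tv_mem_stabilizer_of_center hv, tv_mem_specialLinear v φ⟩, fun h => hvU ?_⟩
    have := mem_subspaceStabilizer_iff.mp h.1.2 u hu
    rw [tv_mulVec (hφ v hv), hφu, one_smul] at this
    simpa using U.sub_mem this hu
  · obtain ⟨x, φ, -, h⟩ := exists_tv_not_mem_stabilizer hW0 (fun e => by
      rw [e, top_inf_eq] at hWU; exact hU0 hWU)
    exact ⟨tv x φ, tv_mem_specialLinear x φ, fun h' => h h'.1⟩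

end Cfsg.Agent.S5633
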