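import Cfsg.Statements.S5635
import Cfsg.Agent.Lib.Subspaces.Decomposition
import Cfsg.Agent.Lib.Forms.FrameRefineTwo

set_option autoImplicit false
open Cfsg

namespace Cfsg.Agent.S5635

open Matrix Cfsg.Agent.Lib.Subspaces.Transvection Cfsg.Agent.Lib.Subspaces.Decomposition

variable {ι : Type} [Fintype ι] [DecidableEq ι] {F : Type*} [Field F]
  {t m : ℕ} {D : Fin t → Submodule F (ι → F)}

/-- The indicator of a non-zero vector. -/
noncomputable def ind (x : ι → F) : F :=
  @ite F (x = 0) (Classical.propDecidable _) 0 1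

theorem ind_zero : ind (0 : ι → F) = 0 := by unfold ind; exact if_pos rfl

theorem ind_ne {x : ι → F} (h : x ≠ 0) : ind x = 1 := by unfold ind; exact if_neg h

/-- The number of non-zero components, in `F`. -/
noncomputable def wt (hD : Cfsg.Geo.IsMDecomposition m D) (x : ι → F) : F :=
  ∑ i, ind (comp hD i x)

theorem wt_stab [Finite F] (hD : Cfsg.Geo.IsMDecomposition m D) {g : GL ι F}
    (hg : g ∈ Cfsg.Geo.decompositionStabilizer D) (x : ι → F) :
    wt hD ((g : Matrix ι ι F) *ᵥ x) = wt hD x := by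
  classical
  obtain ⟨σ, hσ⟩ := exists_image_of_mem hg
  have hc : ∀ i, comp hD (σ i) ((g : Matrix ι ι F) *ᵥ x) =
      (g : Matrix ι ι F) *ᵥ comp hD i x := by
    intro i
    have hx : (g : Matrix ι ι F) *ᵥ x = ∑ l, (g : Matrix ι ι F) *ᵥ comp hD (σ.symm l) x := by
      conv_lhs => rw [← sum_comp hD x, mulVec_sum]
      exact (Equiv.sum_comp σ.symm fun i => (g : Matrix ι ι F) *ᵥ comp hD i x).symm
    rw [hx, comp_of_sum hD (fun l => by
      have := hσ (σ.symm l) _ (comp_mem hD (σ.symm l) x)
      rwa [σ.apply_symm_apply] at this) (σ i), σ.symm_apply_apply]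
  unfold wt
  rw [← Equiv.sum_comp σ]
  refine Finset.sum_congr rfl fun i _ => ?_
  rw [hc i]
  by_cases h : comp hD i x = 0
  · rw [h, mulVec_zero]
  · rw [ind_ne h, ind_ne fun h' => h (gl_mulVec_injective g (by simpa using h'))]

theorem exists_mixer (hD : Cfsg.Geo.IsMDecomposition m D) (e : ∀ i, D i ≃ₗ[F] (Fin m → F))
    (P : (Fin m → F) → F) (hP0 : P 0 = 0) (hP1 : ∀ y, y ≠ 0 → P y = 1)
    (hid : ∀ y : Fin 4 → Fin m → F, ∑ l, P (y l + ∑ l, y l) = ∑ l, P (y l))
    (h5 : (5 : F) ≠ 0) (s : Fin 4 → Fin t) (hs : Function.Injective s) :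
    ∃ g : GL ι F, (∀ x, wt hD ((g : Matrix ι ι F) *ᵥ x) = wt hD x) ∧
      (g : Matrix ι ι F).det = (5 : F) ^ m ∧
      ∀ x, (g : Matrix ι ι F) *ᵥ x =
        x + ∑ l, ((e (s l)).symm (∑ l', e (s l') ⟨comp hD (s l') x, comp_mem hD _ x⟩) : ι → F) := by
  classical
  let c : Fin t → (ι → F) →ₗ[F] (Fin m → F) := fun i =>
    (e i).toLinearMap ∘ₗ (comp hD i).codRestrict (D i) (comp_mem hD i)
  let S : (ι → F) →ₗ[F] (Fin m → F) := ∑ l, c (s l)
  let U : (Fin m → F) →ₗ[F] (ι → F) := ∑ l, (D (s l)).subtype ∘ₗ (e (s l)).symm.toLinearMap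
  have hSx : ∀ x, S x = ∑ l, e (s l) ⟨comp hD (s l) x, comp_mem hD _ x⟩ := fun x => by
    simp [S, c, LinearMap.coe_sum]; rfl
  have hUy : ∀ y, U y = ∑ l, ((e (s l)).symm y : ι → F) := fun y => by simp [U, LinearMap.coe_sum]
  have hcU : ∀ (i : Fin t) y, c i (U y) = if i ∈ Finset.univ.image s then y else 0 := by
    intro i y
    rw [hUy, map_sum]
    have h1 : ∀ l, c i ((e (s l)).symm y : ι → F) = if s l = i then y else 0 := by
      intro l
      split_ifs with h
      · subst h
        simp only [c, LinearMap.comp_apply, LinearEquiv.coe_toLinearMap]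
        rw [show (comp hD (s l)).codRestrict (D (s l)) (comp_mem hD (s l))
          ((e (s l)).symm y : ι → F) = (e (s l)).symm y from
          Subtype.ext (comp_self hD (Subtype.prop _)), LinearEquiv.apply_symm_apply]
      · simp only [c, LinearMap.comp_apply, LinearEquiv.coe_toLinearMap]
        rw [show (comp hD i).codRestrict (D i) (comp_mem hD i)
          ((e (s l)).symm y : ι → F) = 0 from
          Subtype.ext (comp_other hD (Ne.symm h) (Subtype.prop _)), map_zero]
    rw [Finset.sum_congr rfl fun l _ => h1 l]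
    split_ifs with h
    · obtain ⟨l, -, rfl⟩ := Finset.mem_image.mp h
      rw [Finset.sum_eq_single l (fun l' _ hl => if_neg fun hh => hl (hs hh)) (by simp)]
      simp
    · exact Finset.sum_eq_zero fun l _ => if_neg fun hh => h (Finset.mem_image.mpr ⟨l, by simp, hh⟩)
  have hSU : S ∘ₗ U = (4 : F) • LinearMap.id := by
    refine LinearMap.ext fun y => ?_
    simp only [LinearMap.comp_apply, S, LinearMap.coe_sum, Finset.sum_apply, hcU,
      Finset.mem_image, Finset.mem_univ, true_and, exists_apply_eq_apply, if_true]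
    rw [Finset.sum_const, Finset.card_univ, Fintype.card_fin, LinearMap.smul_apply,
      LinearMap.id_apply, ← Nat.cast_smul_eq_nsmul F]
    norm_num
  let M : Matrix ι ι F := 1 + LinearMap.toMatrix' U * LinearMap.toMatrix' S
  have hdet : M.det = (5 : F) ^ m := by
    rw [Matrix.det_one_add_mul_comm, ← LinearMap.toMatrix'_comp, hSU, map_smul,
      LinearMap.toMatrix'_id, show (1 : Matrix (Fin m) (Fin m) F) + (4 : F) • 1 = (5 : F) • 1 by
        module, Matrix.det_smul, Matrix.det_one, mul_one, Fintype.card_fin]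
  have hMx : ∀ x, M *ᵥ x = x + U (S x) := fun x => by
    rw [Matrix.add_mulVec, Matrix.one_mulVec, ← Matrix.mulVec_mulVec, LinearMap.toMatrix'_mulVec,
      LinearMap.toMatrix'_mulVec]
  refine ⟨Matrix.GeneralLinearGroup.mkOfDetNeZero M (hdet ▸ pow_ne_zero _ h5), fun x => ?_, hdet,
    fun x => ?_⟩
  · show wt hD (M *ᵥ x) = wt hD x
    have hw : ∀ z, wt hD z = ∑ i, P (c i z) := fun z => by
      unfold wt
      refine Finset.sum_congr rfl fun i _ => ?_
      by_cases h : comp hD i z = 0
      · have : c i z = 0 := by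
          simp only [c, LinearMap.comp_apply, LinearEquiv.coe_toLinearMap]
          rw [show (comp hD i).codRestrict (D i) (comp_mem hD i) z = 0 from Subtype.ext h, map_zero]
        rw [this, hP0, h, ind_zero]
      · rw [ind_ne h, hP1]
        intro hc
        exact h (congrArg Subtype.val ((e i).injective (hc.trans (map_zero _).symm)))
    have hsum : ∀ z, ∑ i, P (c i z) =
        ∑ l, P (c (s l) z) + ∑ i ∈ (Finset.univ.image s)ᶜ, P (c i z) := fun z => by
      rw [← Finset.sum_image (f := fun i => P (c i z)) (hs.injOn), Finset.sum_add_sum_compl]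
    rw [hw, hw, hsum, hsum, hMx]
    refine congrArg₂ (· + ·) ?_ (Finset.sum_congr rfl fun i hi => ?_)
    · rw [Finset.sum_congr rfl fun l (_ : l ∈ Finset.univ) => show P (c (s l) (x + U (S x))) =
        P (c (s l) x + ∑ l, c (s l) x) by
          rw [map_add, hcU, if_pos (Finset.mem_image.mpr ⟨l, by simp, rfl⟩),
            show S x = ∑ l, c (s l) x by simp [S, LinearMap.coe_sum]]]
      exact hid fun l => c (s l) x
    · rw [map_add, hcU, if_neg (Finset.mem_compl.mp hi), add_zero]
  · show M *ᵥ x = _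
    rw [hMx, hUy, hSx]

/-- For a finite field F with q elements and n ≥ 13, let D be a decomposition of F^n into t ≥ 2 independent subspaces of equal dimension m spanning F^n, where m = 1 and q ≤ 4, or m = 2 and q = 2. Then the elements of SL_n(F) permuting the members of D form a subgroup that is not maximal: some subgroup lies strictly between it and SL_n(F). -/
theorem result {F : Type*} [Field F] [Fintype F] (n : ℕ) (hn : 13 ≤ n) {t : ℕ} (m : ℕ) (D : Fin t → Submodule F (Fin n → F)) (hD : Cfsg.Geo.IsMDecomposition m D) (h : (m = 1 ∧ Fintype.card F ≤ 4) ∨ (m = 2 ∧ Fintype.card F = 2)) : ∃ K : Subgroup (Matrix.GeneralLinearGroup (Fin n) F), Cfsg.Geo.decompositionStabilizer D ⊓ Cfsg.Geo.specialLinear (Fin n) F < K ∧ K < Cfsg.Geo.specialLinear (Fin n) F := by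
  classical
  have hn' := card_eq hD
  rw [Fintype.card_fin] at hn'
  have ht : 7 ≤ t := by rcases h with ⟨rfl, -⟩ | ⟨rfl, -⟩ <;> omega
  have h24 : (24 : F) = 0 := by
    have h1 := Fintype.one_lt_card (α := F)
    have h2 := FiniteField.cast_card_eq_zero F
    rcases (show Fintype.card F = 2 ∨ Fintype.card F = 3 ∨ Fintype.card F = 4 by
      rcases h with ⟨-, h⟩ | ⟨-, h⟩ <;> omega) with hc | hc | hc <;> rw [hc] at h2 <;> push_cast at h2
    · linear_combination (12 : F) * h2
    · linear_combination (8 : F) * h2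
    · linear_combination (6 : F) * h2
  have h5 : (5 : F) ≠ 0 := fun hh => one_ne_zero (by linear_combination (5 : F) * hh - h24 : (1 : F) = 0)
  obtain ⟨P, hP0, hP1, hid⟩ : ∃ P : (Fin m → F) → F, P 0 = 0 ∧ (∀ y, y ≠ 0 → P y = 1) ∧
      ∀ y : Fin 4 → Fin m → F, ∑ l, P (y l + ∑ l, y l) = ∑ l, P (y l) := by
    rcases h with ⟨rfl, hq⟩ | ⟨rfl, hq⟩
    · refine ⟨fun y => y 0 ^ (Fintype.card F - 1), ?_, fun y hy => ?_, fun y => ?_⟩
      · have := Fintype.one_lt_card (α := F)
        simp [zero_pow (show Fintype.card F - 1 ≠ 0 by omega)]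
      · exact FiniteField.pow_card_sub_one_eq_one _ fun h0 => hy (funext fun i => by
          rw [Subsingleton.elim i 0]; exact h0)
      · have h1 := Fintype.one_lt_card (α := F)
        have h2 := FiniteField.cast_card_eq_zero F
        simp only [Fin.sum_univ_four, Pi.add_apply]
        rcases (show Fintype.card F = 2 ∨ Fintype.card F = 3 ∨ Fintype.card F = 4 by omega) with
          hc | hc | hc <;> rw [hc] at h2 ⊢ <;> push_cast at h2
        · show (_ : F) ^ 1 + _ ^ 1 + _ ^ 1 + _ ^ 1 = _ ^ 1 + _ ^ 1 + _ ^ 1 + _ ^ 1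
          linear_combination (2 : F) * (y 0 0 + y 1 0 + y 2 0 + y 3 0) * h2
        · show (_ : F) ^ 2 + _ ^ 2 + _ ^ 2 + _ ^ 2 = _ ^ 2 + _ ^ 2 + _ ^ 2 + _ ^ 2
          linear_combination (2 : F) * (y 0 0 + y 1 0 + y 2 0 + y 3 0) ^ 2 * h2
        · have h20 : (2 : F) = 0 := by
            have h4 : (2 : F) * 2 = 0 := by linear_combination h2
            simpa using h4
          show (_ : F) ^ 3 + _ ^ 3 + _ ^ 3 + _ ^ 3 = _ ^ 3 + _ ^ 3 + _ ^ 3 + _ ^ 3
          linear_combination ((5 : F) * (y 0 0 + y 1 0 + y 2 0 + y 3 0) ^ 3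
              - (3 : F) * (y 0 0 * y 1 0 + y 0 0 * y 2 0 + y 0 0 * y 3 0 + y 1 0 * y 2 0 +
                y 1 0 * y 3 0 + y 2 0 * y 3 0) * (y 0 0 + y 1 0 + y 2 0 + y 3 0)) * h20
    · have h2 : (2 : F) = 0 := by
        have := FiniteField.cast_card_eq_zero F
        rw [hq] at this
        simpa using this
      have h01 : ∀ a : F, a = 0 ∨ a = 1 := fun a => (eq_or_ne a 0).imp_right fun ha => by
        have h' := FiniteField.pow_card_sub_one_eq_one a ha
        rw [hq] at h'
        simpa using h'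
      refine ⟨fun y => y 0 * y 0 + y 0 * y 1 + y 1 * y 1, by simp, fun y hy => ?_, fun y => ?_⟩
      · rcases h01 (y 0) with h0 | h0 <;> rcases h01 (y 1) with h1 | h1
        · exact absurd (funext fun i => by fin_cases i <;> assumption) hy
        · simp [h0, h1]
        · simp [h0, h1]
        · show y 0 * y 0 + y 0 * y 1 + y 1 * y 1 = (1 : F); rw [h0, h1]; linear_combination h2
      · simp only [Fin.sum_univ_four, Pi.add_apply]
        linear_combination (3 : F) * ((y 0 0 + y 1 0 + y 2 0 + y 3 0) ^ 2 +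
          (y 0 0 + y 1 0 + y 2 0 + y 3 0) * (y 0 1 + y 1 1 + y 2 1 + y 3 1) +
          (y 0 1 + y 1 1 + y 2 1 + y 3 1) ^ 2) * h2
  let e : ∀ i, D i ≃ₗ[F] (Fin m → F) := fun i =>
    (Module.finBasisOfFinrankEq F (D i) (hD.finrank_eq i)).equivFun
  let s : Fin 4 → Fin t := fun l => ⟨l.1, by omega⟩
  let s' : Fin 4 → Fin t := fun l => if l = 0 then ⟨0, by omega⟩ else ⟨l.1 + 3, by omega⟩
  have hs : Function.Injective s := fun a b hab => Fin.ext (by simpa [s] using hab)
  have hs' : Function.Injective s' := by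
    intro a b hab
    fin_cases a <;> fin_cases b <;> simp [s'] at hab ⊢
  obtain ⟨g, hg, hgd, hgx⟩ := exists_mixer hD e P hP0 hP1 hid h5 s hs
  obtain ⟨g', hg', hgd', hgx'⟩ := exists_mixer hD e P hP0 hP1 hid h5 s' hs'
  let W : Subgroup (GL (Fin n) F) :=
    { carrier := {g | ∀ x, wt hD ((g : Matrix (Fin n) (Fin n) F) *ᵥ x) = wt hD x}
      mul_mem' := fun {a b} ha hb x => by rw [gl_mul_mulVec, ha, hb]
      one_mem' := fun x => by simp
      inv_mem' := fun {a} ha x => by
        have := ha (((a⁻¹ : GL (Fin n) F) : Matrix (Fin n) (Fin n) F) *ᵥ x)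
        rw [gl_mulVec_inv] at this
        exact this.symm }
  have hw0 : (fun _ => 1 : Fin m → F) ≠ 0 := fun hh => one_ne_zero
    (congrFun hh ⟨0, hD.pos⟩ : (1 : F) = 0)
  let v : Fin t → (Fin n → F) := fun i => ((e i).symm fun _ => 1 : D i)
  have hvm : ∀ i, v i ∈ D i := fun i => Subtype.prop _
  have hv0 : ∀ i, v i ≠ 0 := fun i hh => hw0 ((e i).symm.injective
    (by rw [map_zero]; exact Subtype.ext hh))
  refine exists_between_of (K := W ⊓ Cfsg.Geo.specialLinear (Fin n) F) ?_ inf_le_right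
    ⟨g * g', ⟨W.mul_mem hg hg', ?_⟩, fun hmem => ?_⟩ ?_
  · rintro k ⟨hk, hk'⟩
    exact ⟨wt_stab hD hk, hk'⟩
  · show g * g' ∈ Cfsg.Geo.specialLinear (Fin n) F
    rw [mem_specialLinear_iff, Units.val_mul, Matrix.det_mul, hgd, hgd', ← mul_pow,
      show (5 : F) * 5 = 1 by linear_combination h24, one_pow]
  · set i1 : Fin t := ⟨1, by omega⟩
    have hcs : ∀ l, s' l ≠ i1 := fun l hh => by
      have := congrArg Fin.val hh
      fin_cases l <;> simp [s', i1] at this
    have g1 : (g' : Matrix (Fin n) (Fin n) F) *ᵥ v i1 = v i1 := by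
      rw [hgx']
      rw [show (∑ l', e (s' l') ⟨comp hD (s' l') (v i1), comp_mem hD _ _⟩) = 0 from
        Finset.sum_eq_zero fun l _ => by
          rw [show (⟨comp hD (s' l) (v i1), comp_mem hD _ _⟩ : D (s' l)) = 0 from
            Subtype.ext (comp_other hD (hcs l) (hvm i1)), map_zero]]
      simp
    have g2 : ((g * g' : GL (Fin n) F) : Matrix (Fin n) (Fin n) F) *ᵥ v i1 =
        v i1 + ∑ l, v (s l) := by
      rw [gl_mul_mulVec, g1, hgx]
      have : (∑ l', e (s l') ⟨comp hD (s l') (v i1), comp_mem hD _ _⟩) = fun _ => 1 := by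
        rw [Finset.sum_eq_single (1 : Fin 4)]
        · rw [show (⟨comp hD (s 1) (v i1), comp_mem hD _ _⟩ : D (s 1)) =
            (e (s 1)).symm fun _ => 1 from Subtype.ext (comp_self hD (hvm i1)),
            LinearEquiv.apply_symm_apply]
        · intro l _ hl
          rw [show (⟨comp hD (s l) (v i1), comp_mem hD _ _⟩ : D (s l)) = 0 from
            Subtype.ext (comp_other hD (fun hh => hl (hs hh)) (hvm i1)), map_zero]
        · simp
      rw [this]
    obtain ⟨σ, hσ⟩ := exists_image_of_mem hmem.1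
    have hin := hσ i1 (v i1) (hvm i1)
    rw [g2] at hin
    have hc : ∀ l : Fin 4, l ≠ 1 → comp hD (s l) (v i1 + ∑ l, v (s l)) = v (s l) := by
      intro l hl
      rw [map_add, map_sum, comp_other hD (fun hh => hl (hs hh)) (hvm i1), zero_add,
        Finset.sum_eq_single l, comp_self hD (hvm _)]
      · exact fun l' _ hl' => comp_other hD (fun hh => hl' (hs hh).symm) (hvm _)
      · simp
    have key : ∀ l : Fin 4, l ≠ 1 → s l = σ i1 := fun l hl => by
      by_contra hne
      exact hv0 _ ((hc l hl).symm.trans (comp_other hD hne hin))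
    exact absurd (hs ((key 2 (by decide)).trans (key 3 (by decide)).symm)) (by decide)
  · set i0 : Fin t := ⟨0, by omega⟩
    set i1 : Fin t := ⟨1, by omega⟩
    have h01 : i0 ≠ i1 := by simp [i0, i1, Fin.ext_iff]
    obtain ⟨φ, hφ, hφ0⟩ := exists_functional
      (W := Submodule.span F {v i1}) (v := v i0) fun hh => by
        obtain ⟨c, hc⟩ := Submodule.mem_span_singleton.mp hh
        have := congrArg (comp hD i0) hc
        rw [map_smul, comp_other hD h01 (hvm i1), smul_zero, comp_self hD (hvm i0)] at this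
        exact hv0 _ this.symm
    have hd : φ ⬝ᵥ v i1 = 0 := hφ _ (Submodule.mem_span_singleton_self _)
    refine ⟨tv (v i1) φ, tv_mem_specialLinear _ _, fun hmem => ?_⟩
    have hw := hmem.1 (v i0)
    rw [tv_mulVec hd, hφ0, one_smul] at hw
    have hwt1 : wt hD (v i0) = 1 := by
      unfold wt
      rw [Finset.sum_eq_single i0 (fun i _ hi => by rw [comp_other hD hi (hvm i0), ind_zero])
          (by simp), comp_self hD (hvm i0), ind_ne (hv0 _)]
    have hwt2 : wt hD (v i0 + v i1) = 2 := by
      unfold wt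
      rw [Finset.sum_eq_add i0 i1 h01 (fun i _ hi => by
          rw [map_add, comp_other hD hi.1 (hvm i0), comp_other hD hi.2 (hvm i1), add_zero, ind_zero])
          (by simp) (by simp),
        map_add, comp_self hD (hvm i0), comp_other hD h01 (hvm i1), add_zero, ind_ne (hv0 _),
        map_add, comp_self hD (hvm i1), comp_other hD h01.symm (hvm i0), zero_add, ind_ne (hv0 _)]
      norm_num
    rw [hwt1, hwt2] at hw
    exact one_ne_zero (by linear_combination hw : (1 : F) = 0)

end Cfsg.Agent.S5635
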