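import Cfsg.Statements.S5638
import Cfsg.Agent.Lib.Forms.TensorField

set_option autoImplicit false
open Cfsg

namespace Cfsg.Agent.S5638

open Matrix Cfsg.Agent.Lib.Forms.TensorFrame Cfsg.Agent.Lib.Forms.TensorField

/-- Over the field with 2 elements, for n = 2 n₂ ≥ 13, the stabiliser in SL_n of a tensor decomposition with factors of dimensions 2 and n₂ (the conjugate by any P of the Kronecker-product subgroup transported along any bijection Fin n ≃ Fin 2 × Fin n₂, intersected with SL_n) is not a maximal subgroup: some subgroup lies strictly between it and SL_n. -/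
theorem result {F : Type*} [Field F] [Fintype F] (n : ℕ) (hn : 13 ≤ n) (hq : Fintype.card F = 2) (n₂ : ℕ) (e : Fin n ≃ Fin 2 × Fin n₂) (P : Matrix.GeneralLinearGroup (Fin n) F) : ∃ K : Subgroup (Matrix.GeneralLinearGroup (Fin n) F), Cfsg.Geo.tensorProductSubgroup 2 n₂ e P ⊓ Cfsg.Geo.specialLinear (Fin n) F < K ∧ K < Cfsg.Geo.specialLinear (Fin n) F := by
  classical
  have hn2 : n = 2 * n₂ := by simpa using Fintype.card_congr e
  let j₀ : Fin n₂ := ⟨0, by omega⟩
  let j₁ : Fin n₂ := ⟨1, by omega⟩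
  have hj : j₀ ≠ j₁ := by simp [j₀, j₁, Fin.ext_iff]
  let p : Fin n₂ → F := Pi.single j₀ 1
  let φ : Fin 2 → Fin n → F := fun i =>
    ((P⁻¹ : GL (Fin n) F) : Matrix (Fin n) (Fin n) F) (e.symm (i, j₁))
  have hφ : ∀ i x y, φ i ⬝ᵥ pure e P x y = x i * y j₁ := fun i x y => by
    show (((P⁻¹ : GL (Fin n) F) : Matrix (Fin n) (Fin n) F) *ᵥ pure e P x y) (e.symm (i, j₁)) = _
    rw [Lib.Forms.TensorFrame.pure, Lib.Subspaces.Transvection.gl_inv_mulVec]
    simp
  have hp1 : p j₁ = 0 := by simp [p, Ne.symm hj]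
  have hd : ∀ i x, φ i ⬝ᵥ pure e P x p = 0 := fun i x => by rw [hφ, hp1, mul_zero]
  have hsl : ∀ g : GL (Fin n) F, g ∈ Cfsg.Geo.specialLinear (Fin n) F := fun g => by
    rw [Lib.Subspaces.Transvection.mem_specialLinear_iff]
    have h0 : (g : Matrix (Fin n) (Fin n) F).det ≠ 0 := by
      rw [← Matrix.GeneralLinearGroup.val_det_apply]; exact Units.ne_zero _
    have := FiniteField.pow_card_sub_one_eq_one _ h0
    rw [hq] at this
    simpa using this
  refine exists_between (N := fun y => y j₁ • p) (N' := fun _ => 0) (M := fun y => y j₁ • p)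
    (E := !![0, 1; 0, 0]) (y₀ := p) (y₁ := Pi.single j₁ 1) (z₀ := p) (z₁ := Pi.single j₁ 1)
    (g₁ := Lib.Subspaces.Transvection.tv (pure e P (om F *ᵥ Pi.single 0 1) p) (φ 0) *
      Lib.Subspaces.Transvection.tv (pure e P (om F *ᵥ Pi.single 1 1) p) (φ 1))
    (g₂ := Lib.Subspaces.Transvection.tv (pure e P (Pi.single 0 1) p) (φ 1))
    e P hq inf_le_right (fun g hg => hg.1) (hsl _) (fun x y => ?_) (by simp [p]) (by simp [hp1])
    rfl (by simp [p]) rfl (hsl _) ⟨Pi.single 0 1, ?_⟩ (fun x y => ?_) (by simp [p]) (by simp [hp1])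
    (by simp [p])
  · have hz : ∀ u, pure e P u (0 : Fin n₂ → F) = 0 := fun u => by
      rw [show (0 : Fin n₂ → F) = (0 : F) • 0 by simp, pure_smul_right, zero_smul]
    have hx : om F *ᵥ x = x 0 • (om F *ᵥ Pi.single 0 1) + x 1 • (om F *ᵥ Pi.single 1 1) := by
      rw [← mulVec_smul, ← mulVec_smul, ← mulVec_add]
      congr 1
      funext i
      fin_cases i <;> simp
    rw [Lib.Subspaces.Transvection.gl_mul_mulVec, Lib.Subspaces.Transvection.tv_mulVec (hd _ _),
      Lib.Subspaces.Transvection.tv_mulVec (hd _ _), hz, add_zero, hφ, dotProduct_add,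
      dotProduct_smul, hd, smul_zero, add_zero, hφ, hx, pure_smul_right, pure_add_left,
      pure_smul_left, pure_smul_left, smul_add, smul_smul, smul_smul]
    module
  · intro h
    have := congrFun h 0
    simp [om, mulVec, dotProduct, Fin.sum_univ_two] at this
  · have hx : (!![0, 1; 0, 0] : Matrix (Fin 2) (Fin 2) F) *ᵥ x = x 1 • Pi.single 0 1 := by
      funext i
      fin_cases i <;> simp [mulVec, dotProduct, Fin.sum_univ_two]
    rw [Lib.Subspaces.Transvection.tv_mulVec (hd _ _), hφ, hx, pure_smul_left, pure_smul_right,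
      smul_smul]

end Cfsg.Agent.S5638
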