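import Cfsg.Statements.S5644
import Cfsg.Agent.Lib.Subspaces.OrthForm

set_option autoImplicit false
open Cfsg

namespace Cfsg.Agent.S5644

open Matrix Cfsg.Agent.Lib.Subspaces.Transvection Cfsg.Agent.Lib.Subspaces.FormVec
  Cfsg.Agent.Lib.Subspaces.OrthForm

variable {ι : Type} [Fintype ι] [DecidableEq ι] {F : Type*} [Field F] [Finite F]
  {Q : (ι → F) → F}

local notation "B" => QuadraticMap.polar Q

theorem exists_adjoint (hQ : Cfsg.Geo.IsNondegenerateQuadraticForm Q) (g : GL ι F) :
    ∃ h : (ι → F) →ₗ[F] (ι → F), ∀ x u, B x u = B (g.1 *ᵥ x) (g.1 *ᵥ h u) := by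
  have hb := hQ.polar_bilinear
  have hex : ∀ u, ∃ k, ∀ x, B x u = B (g.1 *ᵥ x) (g.1 *ᵥ k) := by
    intro u
    obtain ⟨k, hk⟩ := formVec_surjective (bil hQ) hb.add_right hQ.nondegenerate
      (formVec B u ᵥ* ((g⁻¹ : GL ι F) : Matrix ι ι F))
    refine ⟨((g⁻¹ : GL ι F) : Matrix ι ι F) *ᵥ k, fun x => ?_⟩
    rw [gl_mulVec_inv, ← formVec_dot (bil hQ) k, hk, vecMul_dot, formVec_dot (bil hQ)]
  choose k hk using hex
  have huniq : ∀ a b, (∀ x, B (g.1 *ᵥ x) (g.1 *ᵥ a) = B (g.1 *ᵥ x) (g.1 *ᵥ b)) → a = b := by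
    intro a b hab
    apply gl_mulVec_injective g
    by_contra hne
    obtain ⟨⟨x, hx⟩, -⟩ := hQ.nondegenerate (g.1 *ᵥ a - g.1 *ᵥ b) (sub_ne_zero.mpr hne)
    apply hx
    rw [sub_right hQ, ← gl_mulVec_inv g x, hab, sub_self]
  exact ⟨{ toFun := k
           map_add' := fun a b => huniq _ _ fun x => by
             rw [← hk, mulVec_add, hb.add_right, hb.add_right, ← hk, ← hk]
           map_smul' := fun c a => huniq _ _ fun x => by
             rw [RingHom.id_apply, ← hk, mulVec_smul, hb.smul_right, hb.smul_right, ← hk] },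
    fun x u => hk u x⟩

theorem adjoint_symm (hQ : Cfsg.Geo.IsNondegenerateQuadraticForm Q) {g : GL ι F}
    {h : (ι → F) →ₗ[F] (ι → F)} (hh : ∀ x u, B x u = B (g.1 *ᵥ x) (g.1 *ᵥ h u)) (x y : ι → F) :
    B (h x) y = B x (h y) := by
  rw [hh (h x) y, B_comm, ← hh (h y) x, B_comm]

theorem sim_of_adjoint_scalar [Nonempty ι] (hQ : Cfsg.Geo.IsNondegenerateQuadraticForm Q)
    (h2 : (2 : F) ≠ 0) {g : GL ι F} {h : (ι → F) →ₗ[F] (ι → F)}
    (hh : ∀ x u, B x u = B (g.1 *ᵥ x) (g.1 *ᵥ h u)) {lam : F} (hlam : ∀ u, h u = lam • u) :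
    g ∈ Cfsg.Geo.quadSimilarityGroup Q := by
  have hb := hQ.polar_bilinear
  have key : ∀ x, B x x = lam * B (g.1 *ᵥ x) (g.1 *ᵥ x) := fun x => by
    conv_lhs => rw [hh x x, hlam, mulVec_smul, hb.smul_right]
  have hl : lam ≠ 0 := by
    intro e
    obtain ⟨z, hz⟩ := exists_ne (0 : ι → F)
    obtain ⟨⟨x, hx⟩, -⟩ := hQ.nondegenerate z hz
    exact hx (by rw [hh x z, hlam, e, zero_smul, mulVec_zero, zero_right hQ])
  refine ⟨(Units.mk0 lam hl)⁻¹, fun v => ?_⟩
  have := key v
  rw [B_self hQ, B_self hQ, mul_left_comm] at this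
  rw [Units.val_inv_eq_inv_val, Units.val_mk0, mul_left_cancel₀ h2 this, ← mul_assoc,
    inv_mul_cancel₀ hl, one_mul]

/-- Two singular orthogonal vectors witnessing that `g` is no similarity. -/
theorem exists_pair (hQ : Cfsg.Geo.IsNondegenerateQuadraticForm Q) (h2 : (2 : F) ≠ 0)
    (hn : 10 ≤ Fintype.card ι) {g : GL ι F} (hg : g ∉ Cfsg.Geo.quadSimilarityGroup Q)
    {h : (ι → F) →ₗ[F] (ι → F)} (hh : ∀ x u, B x u = B (g.1 *ᵥ x) (g.1 *ᵥ h u)) :
    ∃ u w : ι → F, u ≠ 0 ∧ Q u = 0 ∧ Q w = 0 ∧ B u w = 0 ∧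
      w ∉ Submodule.span F (Set.range ![u, h u, h w]) := by
  have : Nonempty ι := Fintype.card_pos_iff.mp (by omega)
  by_contra hc
  push Not at hc
  have hb := hQ.polar_bilinear
  obtain ⟨z0, hz0⟩ := exists_ne (0 : ι → F)
  obtain ⟨u, hu, -, huz⟩ := exists_singular hQ h2 (![] : Fin 0 → ι → F) (z := z0)
    (by simpa using hz0) (by omega)
  have hu0 : u ≠ 0 := fun e => one_ne_zero (by rw [← huz, e, form_zero_left (bil hQ)])
  set S := Submodule.span F (Set.range ![u, h u]) with hS
  have huS : u ∈ S := Submodule.subset_span ⟨0, rfl⟩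
  have hhuS : h u ∈ S := Submodule.subset_span ⟨1, rfl⟩
  let Good : (ι → F) → Prop := fun w => Q w = 0 ∧ B u w = 0 ∧ w ∉ S
  have hpt : ∀ w, Good w → ∃ c : F, h w - c • w ∈ S := by
    rintro w ⟨hw, huw, hwS⟩
    obtain ⟨c, hc'⟩ := (Submodule.mem_span_range_iff_exists_fun F).mp (hc u w hu0 hu hw huw)
    simp only [Fin.sum_univ_three, Matrix.cons_val_zero, Matrix.cons_val_one,
      Matrix.cons_val_two, Matrix.tail_cons, Matrix.head_cons] at hc'
    have hc2 : c 2 ≠ 0 := fun e => hwS (by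
      rw [← hc', e, zero_smul, add_zero]
      exact S.add_mem (S.smul_mem _ huS) (S.smul_mem _ hhuS))
    refine ⟨(c 2)⁻¹, ?_⟩
    have h1 : h w - (c 2)⁻¹ • w = -((c 2)⁻¹ * c 0) • u + -((c 2)⁻¹ * c 1) • h u := by
      conv_lhs => arg 2; rw [← hc']
      match_scalars <;> field_simp <;> ring
    rw [h1]
    exact S.add_mem (S.smul_mem _ huS) (S.smul_mem _ hhuS)
  choose! c hc' using hpt
  have horth : ∀ a b, Good a → Good b → B a b = 0 → b ∉ S ⊔ Submodule.span F {a} → c a = c b := by
    intro a b ha hb' hab hbS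
    have hne : ∀ t : F, t ≠ 0 → ∀ s : F, t • b + s • a ∉ S := by
      intro t ht s hm
      refine hbS (Submodule.mem_sup.mpr
        ⟨t⁻¹ • (t • b + s • a), S.smul_mem _ hm, (-(t⁻¹ * s)) • a,
          Submodule.smul_mem _ _ (Submodule.mem_span_singleton_self a), ?_⟩)
      match_scalars <;> field_simp <;> ring
    have hab' : Good (a + b) := ⟨by rw [Q_add (Q := Q), ha.1, hb'.1, hab]; ring,
      by rw [hb.add_right, ha.2.1, hb'.2.1, add_zero],
      fun hm => hne 1 one_ne_zero 1 (by rwa [one_smul, one_smul, add_comm])⟩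
    have h1 := S.sub_mem (S.sub_mem (hc' _ hab') (hc' _ ha)) (hc' _ hb')
    rw [map_add, show h a + h b - c (a + b) • (a + b) - (h a - c a • a) - (h b - c b • b) =
      (c b - c (a + b)) • b + (c a - c (a + b)) • a by module] at h1
    by_cases hb0 : c b - c (a + b) = 0
    · rw [hb0, zero_smul, zero_add] at h1
      by_cases ha0 : c a - c (a + b) = 0
      · linear_combination ha0 - hb0
      · refine absurd ?_ ha.2.2
        simpa [smul_smul, ha0] using S.smul_mem (c a - c (a + b))⁻¹ h1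
    · exact absurd h1 (hne _ hb0 _)
  have hconst : ∀ a b, Good a → Good b → c a = c b := by
    intro a b ha hb'
    obtain ⟨z, hzT, hz⟩ := exists_common_zero_not_mem
      (Submodule.span F (Set.range ![u, h u, a, b]))
      (fun i => formVec B (![u, h u, a, b] i))
      (by have := finrank_span_range_le ![u, h u, a, b]; omega)
    obtain ⟨w, hw, hws, hwz⟩ := exists_singular hQ h2 ![u, a, b] (z := z) (fun hm => hzT
      (Submodule.span_mono (by rintro _ ⟨i, rfl⟩; fin_cases i <;> simp) hm)) (by omega)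
    have hwT : w ∉ Submodule.span F (Set.range ![u, h u, a, b]) := by
      intro hm
      have : B z w = 0 := perp_span' hQ hz _ hm
      rw [B_comm, hwz] at this
      exact one_ne_zero this
    have hSle : ∀ x ∈ Set.range ![u, h u, a, b],
        x ∈ Submodule.span F (Set.range ![u, h u, a, b]) := fun x hx => Submodule.subset_span hx
    have hgood : Good w := ⟨hw, by rw [B_comm]; exact hws 0, fun hm => hwT
      (Submodule.span_mono (by rintro _ ⟨i, rfl⟩; fin_cases i <;> simp) hm)⟩
    have hside : ∀ p, p ∈ Set.range ![u, h u, a, b] → w ∉ S ⊔ Submodule.span F {p} := by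
      intro p hp hm
      refine hwT ((sup_le (Submodule.span_mono ?_) ((Submodule.span_singleton_le_iff_mem _ _).mpr
        (hSle p hp))) hm)
      rintro _ ⟨i, rfl⟩; fin_cases i <;> simp
    rw [horth a w ha hgood (by rw [B_comm]; exact hws 1) (hside a ⟨2, rfl⟩),
      horth b w hb' hgood (by rw [B_comm]; exact hws 2) (hside b ⟨3, rfl⟩)]
  -- a good vector exists
  obtain ⟨z1, hz1S, hz1⟩ := exists_common_zero_not_mem S (fun i => formVec B (![u, h u] i))
    (by have : Module.finrank F S ≤ 2 := finrank_span_range_le _; omega)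
  have hzperp : ∀ {z : ι → F}, (∀ i, formVec B (![u, h u] i) ⬝ᵥ z = 0) → ∀ x ∈ S, B z x = 0 :=
    fun hz => perp_span' hQ hz
  obtain ⟨w0, hw0, hw0s, hw0z⟩ := exists_singular hQ h2 ![u] (z := z1) (fun hm => hz1S
    (Submodule.span_mono (by rintro _ ⟨i, rfl⟩; fin_cases i; simp) hm)) (by omega)
  have hgw0 : Good w0 := ⟨hw0, by rw [B_comm]; exact hw0s 0, fun hm => one_ne_zero (by
    rw [← hw0z, B_comm]; exact hzperp hz1 _ hm)⟩
  set lam := c w0
  let D : (ι → F) →ₗ[F] (ι → F) := h - lam • LinearMap.id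
  have hD : ∀ x, D x = h x - lam • x := fun x => rfl
  have hDgood : ∀ w, Good w → D w ∈ S := fun w hw => by
    rw [hD, show lam = c w from hconst w0 w hgw0 hw]; exact hc' w hw
  have hDperp : ∀ x, B u x = 0 → x ∉ S → D x ∈ S := by
    intro x hux hxS
    by_cases hxQ : Q x = 0
    · exact hDgood x ⟨hxQ, hux, hxS⟩
    obtain ⟨z2, hz2T, hz2⟩ := exists_common_zero_not_mem
      (Submodule.span F (Set.range ![u, h u, x])) (fun i => formVec B (![u, h u, x] i))
      (by have := finrank_span_range_le ![u, h u, x]; omega)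
    obtain ⟨w, hw, hws, hwx⟩ := exists_singular hQ h2 ![u, x - z2] (z := x) (by
      intro hm
      obtain ⟨a, ha⟩ := (Submodule.mem_span_range_iff_exists_fun F).mp hm
      simp only [Fin.sum_univ_two, Matrix.cons_val_zero, Matrix.cons_val_one] at ha
      rcases eq_or_ne (a 1) 0 with e | e
      · rw [e, zero_smul, add_zero] at ha
        exact hxS (ha ▸ S.smul_mem _ huS)
      · refine hz2T ((Submodule.mem_span_range_iff_exists_fun F).mpr
          ⟨![a 0 / a 1, 0, (a 1 - 1) / a 1], ?_⟩)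
        simp only [Fin.sum_univ_three, Matrix.cons_val_zero, Matrix.cons_val_one,
          Matrix.cons_val_two, Matrix.tail_cons, Matrix.head_cons, zero_smul, add_zero]
        have h1 : a 1 • z2 = a 0 • u + a 1 • x - x := by linear_combination (norm := module) -ha
        calc (a 0 / a 1) • u + ((a 1 - 1) / a 1) • x
            = (a 1)⁻¹ • (a 0 • u + a 1 • x - x) := by match_scalars <;> field_simp <;> ring
          _ = z2 := by rw [← h1, smul_smul, inv_mul_cancel₀ e, one_smul]) (by omega)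
    have hwu : B u w = 0 := by rw [B_comm]; exact hws 0
    have hwz2 : B w z2 = 1 := by
      have := hws 1
      rw [Matrix.cons_val_one, Matrix.cons_val_fin_one, sub_right hQ, hwx, sub_eq_zero] at this
      exact this.symm
    have hz2S : ∀ y ∈ S, B z2 y = 0 := hzperp fun i => by
      fin_cases i
      · simpa using hz2 0
      · simpa using hz2 1
    have hz2x : B z2 x = 0 := by
      rw [← formVec_dot (bil hQ)]
      simpa using hz2 2
    have hxw : Q (x + (-Q x) • w) = 0 := by rw [Q_add_smul hQ, hw, B_comm, hwx]; ring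
    have hgw : Good w := ⟨hw, hwu, fun hm => one_ne_zero (by
      rw [← hwz2, B_comm]; exact hz2S w hm)⟩
    have hgx : Good (x + (-Q x) • w) := ⟨hxw, by rw [hb.add_right, hb.smul_right, hux, hwu]; ring,
      fun hm => hxQ (by
        have := hz2S _ hm
        rwa [hb.add_right, hb.smul_right, hz2x, B_comm z2, hwz2, zero_add, mul_one,
          neg_eq_zero] at this)⟩
    have := S.sub_mem (hDgood _ hgx) (S.smul_mem (-Q x) (hDgood w hgw))
    rwa [map_add, map_smul, add_sub_cancel_right] at this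
  have hDperp' : ∀ x, B u x = 0 → D x ∈ S := by
    intro x hux
    by_cases hxS : x ∈ S
    · have h1 := hDperp (x + w0) (by rw [hb.add_right, hux, hgw0.2.1, add_zero])
        (fun hm => hgw0.2.2 (by simpa using S.sub_mem hm hxS))
      rw [map_add] at h1
      simpa using S.sub_mem h1 (hDgood w0 hgw0)
    · exact hDperp x hux hxS
  set T := Submodule.span F (Set.range ![u, h u, D z0]) with hT
  have hDT : ∀ x, D x ∈ T := by
    intro x
    have huz' : B u z0 = 1 := huz
    have h1 := hDperp' (x - B u x • z0) (by rw [sub_right hQ, hb.smul_right, huz']; ring)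
    have h2' : D x = D (x - B u x • z0) + B u x • D z0 := by rw [map_sub, map_smul]; abel
    rw [h2']
    exact T.add_mem (Submodule.span_mono (by rintro _ ⟨i, rfl⟩; fin_cases i <;> simp) h1)
      (T.smul_mem _ (Submodule.subset_span ⟨2, rfl⟩))
  have hDsym : ∀ x y, B (D x) y = B x (D y) := fun x y => by
    rw [hD, hD, form_sub_left (bil hQ), sub_right hQ, hb.smul_left, hb.smul_right,
      adjoint_symm hQ hh]
  obtain ⟨y, hy⟩ : ∃ y, D y ≠ 0 := by
    by_contra hz
    push Not at hz
    exact hg (sim_of_adjoint_scalar hQ h2 hh fun x => sub_eq_zero.mp (hz x))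
  -- a kernel vector outside the image
  obtain ⟨z, hzT, hz⟩ := exists_common_zero_not_mem T (fun i => formVec B (![u, h u, D z0] i))
    (by have : Module.finrank F T ≤ 3 := finrank_span_range_le _; omega)
  obtain ⟨u', hu', hu's, hu'z⟩ := exists_singular hQ h2 ![u, h u, D z0] (z := z) hzT (by omega)
  have hperpT : ∀ {a : ι → F}, (∀ i, B a (![u, h u, D z0] i) = 0) → ∀ x ∈ T, B a x = 0 :=
    fun ha => perp_span hQ ha
  have hu'T : u' ∉ T := fun hm => one_ne_zero (by
    rw [← hu'z, B_comm]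
    exact hperpT (fun i => by rw [← formVec_dot (bil hQ)]; exact hz i) _ hm)
  have hDu' : D u' = 0 := by
    by_contra hne
    obtain ⟨⟨x, hx⟩, -⟩ := hQ.nondegenerate _ hne
    exact hx (by rw [← hDsym, B_comm]; exact hperpT hu's _ (hDT x))
  obtain ⟨z2, hz2T, hz2⟩ := exists_common_zero_not_mem
    (Submodule.span F (Set.range ![u, h u, D z0, u']))
    (fun i => formVec B (![u, h u, D z0, u'] i))
    (by have := finrank_span_range_le ![u, h u, D z0, u']; omega)
  have hTle : T ≤ Submodule.span F (Set.range ![u, h u, D z0, u']) :=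
    Submodule.span_mono (by rintro _ ⟨i, rfl⟩; fin_cases i <;> simp)
  have hu'mem : u' ∈ Submodule.span F (Set.range ![u, h u, D z0, u']) :=
    Submodule.subset_span ⟨3, rfl⟩
  obtain ⟨w, hw, hws, hwy⟩ := exists_singular hQ h2 ![u', D y - z2] (z := D y) (by
    intro hm
    obtain ⟨a, ha⟩ := (Submodule.mem_span_range_iff_exists_fun F).mp hm
    simp only [Fin.sum_univ_two, Matrix.cons_val_zero, Matrix.cons_val_one] at ha
    rcases eq_or_ne (a 1) 0 with e | e
    · rw [e, zero_smul, add_zero] at ha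
      have ha0 : a 0 ≠ 0 := fun e0 => hy (by rw [← ha, e0, zero_smul])
      refine hu'T ?_
      have := T.smul_mem (a 0)⁻¹ (hDT y)
      rwa [← ha, smul_smul, inv_mul_cancel₀ ha0, one_smul] at this
    · refine hz2T ?_
      have h1 : a 1 • z2 = a 0 • u' + (a 1 - 1) • D y := by linear_combination (norm := module) -ha
      have h3 := Submodule.smul_mem _ (a 1)⁻¹ (Submodule.add_mem _
        (Submodule.smul_mem _ (a 0) hu'mem) (Submodule.smul_mem _ (a 1 - 1) (hTle (hDT y))))
      rwa [← h1, smul_smul, inv_mul_cancel₀ e, one_smul] at h3) (by omega)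
  have hwu' : B w u' = 0 := hws 0
  have hwz2 : B w z2 = 1 := by
    have := hws 1
    rw [Matrix.cons_val_one, Matrix.cons_val_fin_one, sub_right hQ, hwy, sub_eq_zero] at this
    exact this.symm
  have hz2u' : B u' z2 = 0 := by
    rw [B_comm, ← formVec_dot (bil hQ)]
    simpa using hz2 3
  have hDwz2 : B (D w) z2 = 0 := by
    rw [B_comm]
    exact hperpT (fun i => by
      rw [← formVec_dot (bil hQ)]
      fin_cases i
      · simpa using hz2 0
      · simpa using hz2 1
      · simpa using hz2 2) _ (hDT w)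
  obtain ⟨a, ha⟩ := (Submodule.mem_span_range_iff_exists_fun F).mp
    (hc u' w (fun e => hu'T (e ▸ T.zero_mem)) hu' hw (by rw [B_comm, hwu']))
  simp only [Fin.sum_univ_three, Matrix.cons_val_zero, Matrix.cons_val_one,
    Matrix.cons_val_two, Matrix.tail_cons, Matrix.head_cons] at ha
  have hhu : h u' = lam • u' := sub_eq_zero.mp hDu'
  have hhw : h w = lam • w + D w := by rw [hD]; abel
  rw [hhu, hhw] at ha
  have h1 := congrArg (fun x => B x z2) ha
  simp only [hb.add_left, hb.smul_left, hz2u', hDwz2, hwz2, mul_zero, zero_add, add_zero,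
    mul_one] at h1
  have hcomb : a 2 • D w = -(a 0 + a 1 * lam) • u' := by
    have h3 : w = (a 0 + a 1 * lam) • u' + (a 2 * lam) • w + a 2 • D w := by
      conv_lhs => rw [← ha]
      module
    rw [h1, one_smul] at h3
    linear_combination (norm := module) -h3
  have ha2 : a 2 ≠ 0 := fun e => by rw [e, zero_mul] at h1; exact zero_ne_one h1
  have hcoef : a 0 + a 1 * lam = 0 := by
    by_contra e
    refine hu'T ?_
    have := T.smul_mem (-(a 0 + a 1 * lam))⁻¹ (T.smul_mem (a 2) (hDT w))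
    rwa [hcomb, smul_smul, inv_mul_cancel₀ (neg_ne_zero.mpr e), one_smul] at this
  rw [hcoef, neg_zero, zero_smul, smul_eq_zero] at hcomb
  have := hDsym w y
  rw [hcomb.resolve_left ha2, form_zero_left (bil hQ), hwy] at this
  exact zero_ne_one this

/-- A transvection in the overgroup. -/
theorem exists_tv (hQ : Cfsg.Geo.IsNondegenerateQuadraticForm Q) (h2 : (2 : F) ≠ 0)
    (hn : 10 ≤ Fintype.card ι) {M : Subgroup (GL ι F)}
    (hS : ∀ u w : ι → F, Q u = 0 → B w u = 0 → sieg Q u w ∈ M)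
    {g : GL ι F} (hgM : g ∈ M) (hg : g ∉ Cfsg.Geo.quadSimilarityGroup Q) :
    ∃ w y : ι → F, Q w = 0 ∧ w ≠ 0 ∧ y ≠ 0 ∧ B w y = 0 ∧ formVec B y ∈ axes M w := by
  have hb := hQ.polar_bilinear
  obtain ⟨h, hh⟩ := exists_adjoint hQ g
  obtain ⟨u', w', hu'ne, hu', hw', huw', hind⟩ := exists_pair hQ h2 hn hg hh
  set a0 := g.1 *ᵥ u' with ha0
  set b0 := g.1 *ᵥ w' with hb0
  set y := g.1 *ᵥ h u' with hy
  set y' := g.1 *ᵥ h w' with hy'
  obtain ⟨u, hu, hus, hub⟩ := exists_singular hQ h2 ![a0, y, y'] (z := b0) (by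
    intro hm
    obtain ⟨c, hc⟩ := (Submodule.mem_span_range_iff_exists_fun F).mp hm
    simp only [Fin.sum_univ_three, Matrix.cons_val_zero, Matrix.cons_val_one, Matrix.cons_val_two,
      Matrix.tail_cons, Matrix.head_cons, ha0, hb0, hy, hy', ← mulVec_smul, ← mulVec_add] at hc
    refine hind ((Submodule.mem_span_range_iff_exists_fun F).mpr ⟨![c 0, c 1, c 2], ?_⟩)
    simpa [Fin.sum_univ_three, add_assoc] using gl_mulVec_injective g hc) (by omega)
  obtain ⟨w, hw0, hw, hws⟩ := exists_singular_mem hQ h2 ![u, a0, b0, y, y'] (by omega)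
  have huw : B w u = 0 := hws 0
  have hwa : B a0 w = 0 := by rw [B_comm]; exact hws 1
  have hwb : B b0 w = 0 := by rw [B_comm]; exact hws 2
  have hwy : B w y = 0 := hws 3
  have hwy' : B w y' = 0 := hws 4
  have hau : B a0 u = 0 := by rw [B_comm]; exact hus 0
  have huy : B u y = 0 := hus 1
  have huy' : B u y' = 0 := hus 2
  have hbu : B b0 u = 1 := by rw [B_comm]; exact hub
  have huu : B u u = 0 := by rw [B_self hQ, hu, mul_zero]
  have hww : B w w = 0 := by rw [B_self hQ, hw, mul_zero]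
  have hay : B a0 y = 0 := by rw [ha0, hy, ← hh, B_self hQ, hu', mul_zero]
  have hby : B b0 y = 0 := by rw [hb0, hy, ← hh, B_comm, huw']
  refine ⟨w, y, hw, hw0, fun e => ?_, hwy, ?_, fun a => ?_⟩
  · have h0 : h u' = 0 := gl_mulVec_injective g (by
      show g.1 *ᵥ h u' = g.1 *ᵥ 0
      rw [mulVec_zero, ← hy, e])
    obtain ⟨⟨x, hx⟩, -⟩ := hQ.nondegenerate u' hu'ne
    exact hx (by rw [hh x u', h0, mulVec_zero, zero_right hQ])
  · rw [formVec_dot (bil hQ), hwy]
  have hau' : B (g.1 *ᵥ u') (a • u) = 0 := by rw [← ha0, hb.smul_right, hau, mul_zero]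
  have hXm : sieg Q (a • u) w ∈ M := hS _ _ (by rw [hQ.smul, hu, mul_zero])
    (by rw [hb.smul_right, huw, mul_zero])
  have hXv : ∀ x, (sieg Q (a • u) w : Matrix ι ι F) *ᵥ x =
      x + (a * B x u) • w + (-(a * B x w)) • u := by
    intro x
    rw [sieg_mulVec hQ (by rw [hQ.smul, hu, mul_zero]) (by rw [hb.smul_right, huw, mul_zero]),
      hb.smul_right, hw, zero_mul, sub_zero, smul_smul]
    module
  have hYv : ∀ x, ((g * sieg Q u' w' * g⁻¹ : GL ι F) : Matrix ι ι F) *ᵥ x =
      x + B x y • b0 + (-(B x y')) • a0 := by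
    intro x
    have key : ∀ v, B ((g⁻¹ : GL ι F).1 *ᵥ x) v = B x (g.1 *ᵥ h v) := fun v => by
      rw [hh _ v, gl_mulVec_inv]
    rw [gl_mul_mulVec, gl_mul_mulVec, sieg_mulVec hQ hu' (by rw [B_comm, huw']), hw', zero_mul,
      sub_zero, mulVec_add, mulVec_add, mulVec_smul, mulVec_smul, gl_mulVec_inv, key, key]
  generalize hXd : sieg Q (a • u) w = X at hXm hXv
  generalize hY : g * sieg Q u' w' * g⁻¹ = Y at hYv
  have hYm : Y ∈ M := hY ▸ M.mul_mem (M.mul_mem hgM (hS _ _ hu' (by rw [B_comm, huw']))) (M.inv_mem hgM)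
  have hd : (a • formVec B y) ⬝ᵥ w = 0 := by
    rw [smul_dotProduct, formVec_dot (bil hQ), hwy, smul_zero]
  have heq : X * Y = tv w (a • formVec B y) * (Y * X) := by
    refine gl_ext fun x => ?_
    rw [gl_mul_mulVec, gl_mul_mulVec, gl_mul_mulVec, hXv, hYv, hYv, hXv, tv_mulVec hd,
      smul_dotProduct, formVec_dot (bil hQ)]
    simp only [hb.add_left, hb.smul_left, hau, hbu, hwa, hwb, hwy, hwy', huy, huy', hay, hby]
    module
  rw [show tv w (a • formVec B y) = X * Y * (Y * X)⁻¹ by rw [heq, mul_inv_cancel_right]]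
  exact M.mul_mem (M.mul_mem hXm hYm) (M.inv_mem (M.mul_mem hYm hXm))

/-- From one transvection, every singular vector is the centre of the transvection along itself. -/
theorem self_axes (hQ : Cfsg.Geo.IsNondegenerateQuadraticForm Q) (h2 : (2 : F) ≠ 0)
    (hn : 6 ≤ Fintype.card ι) {M : Subgroup (GL ι F)}
    (hS : ∀ u w : ι → F, Q u = 0 → B w u = 0 → sieg Q u w ∈ M)
    {w y : ι → F} (hw : Q w = 0) (hw0 : w ≠ 0) (hy0 : y ≠ 0) (hwy : B w y = 0)
    (hy : formVec B y ∈ axes M w) :
    ∀ v, Q v = 0 → formVec B v ∈ axes M v := by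
  have hb := hQ.polar_bilinear
  have hconj : ∀ {x φ : ι → F} {p : GL ι F}, p ∈ M → φ ∈ axes M x →
      φ ᵥ* ((p⁻¹ : GL ι F) : Matrix ι ι F) ∈ axes M (p.1 *ᵥ x) := by
    intro x φ p hp hφ
    refine ⟨by rw [vecMul_dot, hφ.1], fun a => ?_⟩
    rw [← smul_vecMul, ← conj_tv p (by rw [smul_dotProduct, hφ.1, smul_zero])]
    exact M.mul_mem (M.mul_mem hp (hφ.2 a)) (M.inv_mem hp)
  have hext : ∀ φ ψ : ι → F, (∀ x, φ ⬝ᵥ x = ψ ⬝ᵥ x) → φ = ψ := fun φ ψ h =>
    funext fun i => by simpa using h (Pi.single i 1)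
  have hww : formVec B w ∈ axes M w := by
    by_cases hmem : y ∈ Submodule.span F {w}
    · obtain ⟨c, rfl⟩ := Submodule.mem_span_singleton.mp hmem
      have hc : c ≠ 0 := fun e => hy0 (by rw [e, zero_smul])
      have : formVec B w = c⁻¹ • formVec B (c • w) := hext _ _ fun x => by
        rw [smul_dotProduct, formVec_dot (bil hQ), formVec_dot (bil hQ), hb.smul_right,
          smul_eq_mul, ← mul_assoc, inv_mul_cancel₀ hc, one_mul]
      rw [this]
      exact (axes M w).smul_mem _ hy
    · obtain ⟨x, hx, hxy⟩ := dual hQ hmem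
      have hxw : B x w = 0 := hx w (Submodule.mem_span_singleton_self w)
      set p := sieg Q w x with hp
      have hpM : p ∈ M := hS w x hw hxw
      have hpw : ((p⁻¹ : GL ι F) : Matrix ι ι F) *ᵥ w = w := by
        have hpw1 : p.1 *ᵥ w = w := by
          rw [hp, sieg_mulVec hQ hw hxw, B_self hQ, hw, B_comm w x, hxw]
          simp
        conv_lhs => rw [← hpw1, gl_inv_mulVec]
      have h1 := hconj (M.inv_mem hpM) hy
      rw [hpw, inv_inv] at h1
      have h3 : formVec B w = formVec B y ᵥ* (p : Matrix ι ι F) - formVec B y := hext _ _ fun z => by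
        rw [sub_dotProduct, ← dotProduct_mulVec, formVec_dot (bil hQ), formVec_dot (bil hQ),
          formVec_dot (bil hQ), hp, sieg_mulVec hQ hw hxw, hb.add_left, hb.add_left, hb.smul_left,
          hb.smul_left, hwy, hxy]
        ring
      rw [h3]
      exact (axes M w).sub_mem h1 hy
  have hmove : ∀ a b, a ≠ 0 → Q a = 0 → Q b = 0 → b ∉ Submodule.span F {a} →
      formVec B a ∈ axes M a → formVec B b ∈ axes M b := by
    intro a b ha0 ha hb' hind h
    obtain ⟨u, hu, hus, hua⟩ := exists_singular hQ h2 ![b - a] (z := a) (by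
      intro hm
      rw [Matrix.range_cons, Matrix.range_empty, Set.union_empty,
        Submodule.mem_span_singleton] at hm
      obtain ⟨c, hc⟩ := hm
      have hc0 : c ≠ 0 := fun e => ha0 (by rw [← hc, e, zero_smul])
      refine hind (Submodule.mem_span_singleton.mpr ⟨1 + c⁻¹, ?_⟩)
      rw [add_smul, one_smul]
      conv_lhs => arg 2; rw [← hc, smul_smul, inv_mul_cancel₀ hc0, one_smul]
      abel) (by omega)
    have hxu : B (b - a) u = 0 := by rw [B_comm]; exact hus 0
    set p := sieg Q u (b - a) with hp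
    have hpa : p.1 *ᵥ a = b := by
      have h1 : B a (b - a) + Q (b - a) = 0 := by
        have := Q_add (Q := Q) a (b - a)
        rw [add_sub_cancel, ha, hb'] at this
        linear_combination -this
      rw [hp, sieg_mulVec hQ hu hxu, B_comm a u, hua, one_smul, mul_one,
        show -B a (b - a) - Q (b - a) = 0 by linear_combination -h1, zero_smul, add_zero,
        add_sub_cancel]
    have h1 := hconj (hS u _ hu hxu) h
    rw [← hp, hpa] at h1
    rwa [show formVec B b = formVec B a ᵥ* ((p⁻¹ : GL ι F) : Matrix ι ι F) from hext _ _ fun z => by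
      rw [← dotProduct_mulVec, formVec_dot (bil hQ), formVec_dot (bil hQ),
        ← B_map (fun x => sieg_isometry hQ hu hxu x) (((p⁻¹ : GL ι F) : Matrix ι ι F) *ᵥ z) a,
        ← hp, gl_mulVec_inv, hpa]]
  intro v hv
  by_cases hind : v ∈ Submodule.span F {w}
  · obtain ⟨c, rfl⟩ := Submodule.mem_span_singleton.mp hind
    rcases eq_or_ne c 0 with rfl | hc
    · rw [zero_smul]
      refine ⟨by rw [dotProduct_zero], fun a => ?_⟩
      rw [tv_zero_left]; exact M.one_mem
    obtain ⟨z, hz, hzw⟩ := exists_common_zero_not_mem (Submodule.span F {w}) ![formVec B w] (by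
      rw [finrank_span_singleton hw0]; omega)
    obtain ⟨u, hu, hus, huz⟩ := exists_singular hQ h2 ![w] (z := z)
      (by rwa [Matrix.range_cons, Matrix.range_empty, Set.union_empty]) (by omega)
    have huw : u ∉ Submodule.span F {w} := fun hm => by
      obtain ⟨d, rfl⟩ := Submodule.mem_span_singleton.mp hm
      have := hzw 0
      rw [Matrix.cons_val_fin_one, formVec_dot (bil hQ), B_comm] at this
      rw [hb.smul_left, this, mul_zero] at huz
      exact zero_ne_one huz
    have hu0 : u ≠ 0 := fun e => huw (e ▸ Submodule.zero_mem _)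
    refine hmove u (c • w) hu0 hu hv (fun hm => ?_) (hmove w u hw0 hw hu huw hww)
    obtain ⟨d, hd⟩ := Submodule.mem_span_singleton.mp hm
    have hd0 : d ≠ 0 := fun e => by
      rw [e, zero_smul, eq_comm, smul_eq_zero] at hd
      exact hd.elim hc hw0
    exact huw (Submodule.mem_span_singleton.mpr ⟨d⁻¹ * c, by
      rw [← smul_smul, ← hd, smul_smul, inv_mul_cancel₀ hd0, one_smul]⟩)
  · exact hmove w v hw0 hw hv hind hww

/-- From one transvection with singular centre, the overgroup is everything. -/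
theorem le_of_tv (hQ : Cfsg.Geo.IsNondegenerateQuadraticForm Q) (h2 : (2 : F) ≠ 0)
    (hn : 6 ≤ Fintype.card ι) {M : Subgroup (GL ι F)}
    (hS : ∀ u w : ι → F, Q u = 0 → B w u = 0 → sieg Q u w ∈ M)
    {w0 y0 : ι → F} (hw0 : Q w0 = 0) (hw00 : w0 ≠ 0) (hy0 : y0 ≠ 0) (hwy0 : B w0 y0 = 0)
    (hy0M : formVec B y0 ∈ axes M w0) :
    Cfsg.Geo.specialLinear ι F ≤ M := by
  have hb := hQ.polar_bilinear
  have hT := self_axes hQ h2 hn hS hw0 hw00 hy0 hwy0 hy0M
  have hfull : ∀ y, B w0 y = 0 → Q y ≠ 0 → formVec B y ∈ axes M w0 := by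
    intro y hwy hQy
    obtain ⟨v1, hv1, hv1s, hv1w⟩ := exists_singular hQ h2 ![y - Q y • w0] (z := w0) (by
      intro hm
      rw [Matrix.range_cons, Matrix.range_empty, Set.union_empty,
        Submodule.mem_span_singleton] at hm
      obtain ⟨c, hc⟩ := hm
      have hc0 : c ≠ 0 := fun e => hw00 (by rw [← hc, e, zero_smul])
      have hy : y = (Q y + c⁻¹) • w0 := by
        rw [add_smul]
        conv_rhs => arg 2; rw [← hc, smul_smul, inv_mul_cancel₀ hc0, one_smul]
        abel
      exact hQy (by rw [hy, hQ.smul, hw0, mul_zero])) (by omega)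
    have hv1y : B v1 y = Q y := by
      have := hv1s 0
      rw [Matrix.cons_val_fin_one, sub_right hQ, hb.smul_right, hv1w, mul_one, sub_eq_zero] at this
      exact this
    set v2 := v1 - y with hv2d
    have hv2 : Q v2 = 0 := by
      rw [hv2d, show v1 - y = v1 + (-1 : F) • y by module, Q_add_smul hQ, hv1, hv1y]; ring
    have hv12 : B v1 v2 = -Q y := by
      rw [hv2d, sub_right hQ, B_self hQ, hv1, hv1y]; ring
    have hne : B v1 v2 ≠ 0 := by rw [hv12]; exact neg_ne_zero.mpr hQy
    have hv22 : formVec B v2 ⬝ᵥ v2 = 0 := by rw [formVec_dot (bil hQ), B_self hQ, hv2, mul_zero]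
    set d := (B v1 v2)⁻¹ with hd
    have hd2 : (d • formVec B v2) ⬝ᵥ v2 = 0 := by rw [smul_dotProduct, hv22, smul_zero]
    have hp : tv v2 (d • formVec B v2) ∈ M := (hT v2 hv2).2 d
    have h11 : formVec B v1 ⬝ᵥ v1 = 0 := by rw [formVec_dot (bil hQ), B_self hQ, hv1, mul_zero]
    have hconj := M.mul_mem (M.mul_mem hp ((hT v1 hv1).2 1)) (M.inv_mem hp)
    rw [one_smul, conj_tv _ h11, tv_mulVec hd2, smul_dotProduct, formVec_dot (bil hQ),
      smul_eq_mul, hd, inv_mul_cancel₀ hne, one_smul, ← hd, tv_inv hd2,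
      vecMul_tv (by rw [neg_dotProduct, hd2, neg_zero]), formVec_dot (bil hQ), B_comm v2 v1,
      smul_neg, smul_smul, hd, mul_inv_cancel₀ hne, one_smul] at hconj
    have hax : formVec B v1 + -formVec B v2 = formVec B y := funext fun i => by
      simp only [Pi.add_apply, Pi.neg_apply, formVec, hv2d, sub_right hQ]
      ring
    rw [hax] at hconj
    have hz : formVec B y ⬝ᵥ (v1 + v2) = 0 := by
      rw [formVec_dot (bil hQ), hb.add_left, hv2d, form_sub_left (bil hQ), hv1y, B_self hQ]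
      ring
    have hyw : formVec B y ⬝ᵥ w0 = 0 := by rw [formVec_dot (bil hQ), hwy]
    have hww : formVec B w0 ⬝ᵥ w0 = 0 := by rw [formVec_dot (bil hQ), B_self hQ, hw0, mul_zero]
    have htwo : formVec B w0 ⬝ᵥ (v1 + v2) = 2 := by
      rw [formVec_dot (bil hQ), hb.add_left, hv2d, form_sub_left (bil hQ), hv1w, B_comm y, hwy]
      ring
    refine ⟨hyw, fun a => ?_⟩
    have h := tv_axis_shift_mem (x := w0) (φ := (a / 2) • formVec B w0) (u := v1 + v2)
      (by rw [smul_dotProduct, hww, smul_zero]) hz hyw ((hT w0 hw0).2 _) hconj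
    rwa [smul_dotProduct, htwo, smul_eq_mul, div_mul_cancel₀ a h2] at h
  have hF : FullCenter M w0 := by
    intro φ hφ
    obtain ⟨y, rfl⟩ := formVec_surjective (bil hQ) hb.add_right hQ.nondegenerate φ
    rw [formVec_dot (bil hQ)] at hφ
    refine tv_mem_of_mem_axes ?_
    by_cases hQy : Q y = 0
    · obtain ⟨a, ha, haQ⟩ := exists_anisotropic hQ ![w0, y] (by omega)
      have haw : B w0 a = 0 := by rw [B_comm]; exact ha 0
      have hay : B y a = 0 := by rw [B_comm]; exact ha 1
      have h1 := hfull (y + a) (by rw [hb.add_right, hφ, haw, add_zero])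
        (by rwa [Q_add (Q := Q), hQy, hay, zero_add, add_zero])
      have : formVec B y = formVec B (y + a) - formVec B a := funext fun i => by
        simp only [Pi.sub_apply, formVec, hb.add_right, add_sub_cancel_right]
      rw [this]
      exact (axes M w0).sub_mem h1 (hfull a haw haQ)
    · exact hfull y hφ hQy
  refine specialLinear_le_of_irreducible (fun W hW => ?_) hw00 hF
  by_cases hW0 : W = ⊥
  · exact Or.inl hW0
  obtain ⟨x, hx, hx0⟩ := Submodule.exists_mem_ne_zero_of_ne_bot hW0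
  have hmem : ∀ v, Q v = 0 → ∀ y ∈ W, B y v ≠ 0 → v ∈ W := by
    intro v hv y hy hyv
    have h0 : formVec B v ⬝ᵥ v = 0 := by rw [formVec_dot (bil hQ), B_self hQ, hv, mul_zero]
    have h1 := hW _ (tv_mem_of_mem_axes (hT v hv)) y hy
    rw [tv_mulVec h0, formVec_dot (bil hQ)] at h1
    have := W.smul_mem (B y v)⁻¹ (W.sub_mem h1 hy)
    rwa [add_sub_cancel_left, smul_smul, inv_mul_cancel₀ hyv, one_smul] at this
  obtain ⟨v, hv, -, hvx⟩ := exists_singular hQ h2 (![] : Fin 0 → ι → F) (z := x)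
    (by simpa using hx0) (by omega)
  have hxv : B x v = 1 := by rw [B_comm, hvx]
  have hvW : v ∈ W := hmem v hv x hx (by rw [hxv]; exact one_ne_zero)
  refine Or.inr (eq_top_iff.mpr ?_)
  rw [← span_singular hQ h2 (by omega), Submodule.span_le]
  intro v' (hv' : Q v' = 0)
  by_cases h1 : B x v' = 0
  · by_cases h2' : B v v' = 0
    · have h3 := hmem (v + v') (by rw [Q_add (Q := Q), hv, hv', h2', add_zero, add_zero]) x hx
        (by rw [hb.add_right, hxv, h1, add_zero]; exact one_ne_zero)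
      simpa using W.sub_mem h3 hvW
    · exact hmem v' hv' v hvW h2'
  · exact hmem v' hv' x hx h1

theorem le_of_not_sim (hQ : Cfsg.Geo.IsNondegenerateQuadraticForm Q) (h2 : (2 : F) ≠ 0)
    (hn : 10 ≤ Fintype.card ι) {M : Subgroup (GL ι F)}
    (hS : ∀ u w : ι → F, Q u = 0 → B w u = 0 → sieg Q u w ∈ M)
    {g : GL ι F} (hgM : g ∈ M) (hg : g ∉ Cfsg.Geo.quadSimilarityGroup Q) :
    Cfsg.Geo.specialLinear ι F ≤ M := by
  obtain ⟨w0, y0, hw0, hw00, hy0, hwy0, hy0M⟩ := exists_tv hQ h2 hn hS hgM hg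
  exact le_of_tv hQ h2 (by omega) hS hw0 hw00 hy0 hwy0 hy0M

/-- For a finite field F of odd order and n ≥ 13, let Q be a non-degenerate quadratic form on F^n (its polar form is non-degenerate). Then the elements of SL_n(F) that are similarities of Q (Q(gv) = c Q(v) for a non-zero scalar c depending on g) form a maximal subgroup of SL_n(F). -/
theorem result {F : Type*} [Field F] [Fintype F] (n : ℕ) (hn : 13 ≤ n) (hodd : Odd (Fintype.card F)) (Q : (Fin n → F) → F) (hQ : Cfsg.Geo.IsNondegenerateQuadraticForm Q) : Cfsg.Geo.IsMaximalIn (Cfsg.Geo.specialLinear (Fin n) F) (Cfsg.Geo.quadSimilarityGroup Q ⊓ Cfsg.Geo.specialLinear (Fin n) F) := by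
  have h2 := two_ne_zero_of_odd hodd
  have hc : 13 ≤ Fintype.card (Fin n) := by rw [Fintype.card_fin]; omega
  refine isMaximalIn_of inf_le_right ?_ fun M hHM hMK g hgM hgH => ?_
  · obtain ⟨z0, -, -⟩ := exists_common_zero_not_mem (⊥ : Submodule F (Fin n → F)) (k := 0) ![]
      (by simp only [finrank_bot]; omega)
    have : Nonempty (Fin n) := ⟨⟨0, by omega⟩⟩
    obtain ⟨z1, hz1⟩ := exists_ne (0 : Fin n → F)
    obtain ⟨w, hw, -, hwz⟩ := exists_singular hQ h2 (![] : Fin 0 → Fin n → F) (z := z1)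
      (by simpa using hz1) (by omega)
    have hw0 : w ≠ 0 := fun e => by
      rw [e, form_zero_left (bil hQ)] at hwz
      exact zero_ne_one hwz
    obtain ⟨z, hz, -, hzw⟩ := exists_singular hQ h2 (![] : Fin 0 → Fin n → F) (z := w)
      (by simpa using hw0) (by omega)
    refine ⟨_, tv_mem_specialLinear w (formVec (QuadraticMap.polar Q) w), fun hm => ?_⟩
    obtain ⟨c, hc'⟩ := hm.1
    have h0 : formVec (QuadraticMap.polar Q) w ⬝ᵥ w = 0 := by
      rw [formVec_dot (bil hQ), B_self hQ, hw, mul_zero]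
    have := hc' z
    rw [tv_mulVec h0, formVec_dot (bil hQ), hzw, one_smul, Q_add (Q := Q), hz, hw, hzw,
      mul_zero, add_zero, zero_add] at this
    exact one_ne_zero this
  exact le_of_not_sim hQ h2 (by omega) (fun u w hu hwu => hHM ⟨⟨1, fun v => by
      rw [sieg_isometry hQ hu hwu, Units.val_one, one_mul]⟩, sieg_mem_specialLinear u w⟩) hgM
    fun h => hgH ⟨h, hMK hgM⟩

end Cfsg.Agent.S5644
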