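import Cfsg.Statements.S5645
import Cfsg.Agent.Lib.Subspaces.SympSub

set_option autoImplicit false
open Cfsg

namespace Cfsg.Agent.S5645

open Matrix Cfsg.Agent.Lib.Subspaces.Transvection Cfsg.Agent.Lib.Subspaces.FormVec
  Cfsg.Agent.Lib.Subspaces.SympGen Cfsg.Agent.Lib.Subspaces.SympCenters
  Cfsg.Agent.Lib.Subspaces.SympSub

variable {ι : Type} [Fintype ι] [DecidableEq ι] {F : Type*} [Field F] [Finite F]
  {f : (ι → F) → (ι → F) → F}

/-- The isometry `x ↦ x + f(x,a) b + f(x,b) a`, for `f a b = 0`. -/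
noncomputable def eMap (f : (ι → F) → (ι → F) → F) (a b : ι → F) : GL ι F :=
  tv (a + b) ((1 : F) • formVec f (a + b)) * tv a ((-1 : F) • formVec f a) *
    tv b ((-1 : F) • formVec f b)

theorem eMap_mulVec (hf : Cfsg.Geo.IsSymplecticForm f) {a b : ι → F} (hab : f a b = 0)
    (x : ι → F) : (eMap f a b : Matrix ι ι F) *ᵥ x = x + f x a • b + f x b • a := by
  rw [eMap, gl_mul_mulVec, gl_mul_mulVec, stv_mulVec hf, stv_mulVec hf, stv_mulVec hf]
  simp only [hf.bilinear.add_left, hf.bilinear.add_right, hf.bilinear.smul_left, hab,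
    swap_eq_zero hf hab, hf.alternating]
  module

theorem eMap_isometry (hf : Cfsg.Geo.IsSymplecticForm f) (a b : ι → F) (x y : ι → F) :
    f ((eMap f a b : Matrix ι ι F) *ᵥ x) ((eMap f a b : Matrix ι ι F) *ᵥ y) = f x y := by
  rw [eMap, gl_mul_mulVec, gl_mul_mulVec, gl_mul_mulVec, gl_mul_mulVec, stv_isometry hf,
    stv_isometry hf, stv_isometry hf]

theorem eMap_mem_stabilizer (hf : Cfsg.Geo.IsSymplecticForm f) {W : Submodule F (ι → F)}
    (hW : ∀ u ∈ W, ∀ v ∈ W, f u v = 0) {a b : ι → F} (ha : a ∈ W) (hab : f a b = 0) :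
    eMap f a b ∈ Cfsg.Geo.subspaceStabilizer W := by
  rw [mem_subspaceStabilizer_iff]
  intro w hw
  rw [eMap_mulVec hf hab, hW w hw a ha, zero_smul, add_zero]
  exact W.add_mem hw (W.smul_mem _ ha)

theorem centers_all (hf : Cfsg.Geo.IsSymplecticForm f) {M : Subgroup (GL ι F)}
    (hMS : ∀ g ∈ M, ∀ x y, f ((g : Matrix ι ι F) *ᵥ x) ((g : Matrix ι ι F) *ᵥ y) = f x y)
    {W : Submodule F (ι → F)} (hW : ∀ u ∈ W, ∀ v ∈ W, f u v = 0)
    (hP : ∀ g : GL ι F, g ∈ Cfsg.Geo.subspaceStabilizer W →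
      (∀ x y, f ((g : Matrix ι ι F) *ᵥ x) ((g : Matrix ι ι F) *ᵥ y) = f x y) → g ∈ M)
    {g : GL ι F} (hgM : g ∈ M) (hg : g ∉ Cfsg.Geo.subspaceStabilizer W) :
    ∀ z : ι → F, SympCenter f M z := by
  have hperp : ∀ v ∈ orthTo hf W, SympCenter f M v := fun v hv a =>
    hP _ (stv_mem_stabilizer hf (Or.inr hv) a) (stv_isometry hf v a)
  have hWperp : W ≤ orthTo hf W := fun w hw u hu => hW w hw u hu
  -- a centre outside the orthogonal of `W`
  obtain ⟨v, hvC, hv⟩ : ∃ v, SympCenter f M v ∧ v ∉ orthTo hf W := by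
    by_contra hc
    push Not at hc
    apply hg
    have hg' : g ∈ Cfsg.Geo.subspaceStabilizer (orthTo hf W) :=
      mem_subspaceStabilizer_iff.mpr fun u hu =>
        hc _ (sympCenter_conj hf (hperp u hu) hgM (hMS g hgM))
    rw [mem_subspaceStabilizer_iff]
    intro w hw
    refine mem_of_orth_orthTo hf fun t ht => ?_
    have ht' := mem_subspaceStabilizer_iff.mp ((Cfsg.Geo.subspaceStabilizer _).inv_mem hg') t ht
    rw [← gl_mulVec_inv g t, hMS g hgM]
    exact ht' w hw
  -- the coset of `v`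
  have hcoset : ∀ x, SympCenter f M x → x ∉ orthTo hf W → ∀ u ∈ orthTo hf W,
      SympCenter f M (x + u) := by
    intro x hx hxW u hu
    obtain ⟨w, hw, hxw⟩ : ∃ w ∈ W, f x w ≠ 0 := by
      by_contra hc
      push Not at hc
      exact hxW hc
    by_cases hxu : f x u = 0
    · have h1 := sympCenter_add_smul hf (hperp (u + w) ((orthTo hf W).add_mem hu (hWperp hw))) hx
        (by rw [hf.bilinear.add_right, hxu, zero_add]; exact hxw) 1
      have h2 := sympCenter_add_smul hf (hperp w (hWperp hw)) h1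
        (by rw [one_smul, hf.bilinear.add_left, hf.bilinear.add_left, hf.alternating,
              hu w hw, add_zero, add_zero]
            exact hxw) (-1)
      rwa [one_smul, neg_one_smul, ← sub_eq_add_neg,
        show x + (u + w) - w = x + u by abel] at h2
    · have := sympCenter_add_smul hf (hperp u hu) hx hxu 1
      rwa [one_smul] at this
  intro z
  by_cases hz : z ∈ orthTo hf W
  · exact hperp z hz
  obtain ⟨a1, ha1, hva1⟩ : ∃ a ∈ W, f v a = 1 := by
    obtain ⟨a, ha, hva⟩ : ∃ a ∈ W, f v a ≠ 0 := by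
      by_contra hc
      push Not at hc
      exact hv hc
    exact ⟨(f v a)⁻¹ • a, W.smul_mem _ ha, by rw [hf.bilinear.smul_right, inv_mul_cancel₀ hva]⟩
  by_cases hdep : ∀ a ∈ W, f v a = 0 → f z a = 0
  · have hmem : z - f z a1 • v ∈ orthTo hf W := by
      intro w hw
      have := hdep (w - f v w • a1) (W.sub_mem hw (W.smul_mem _ ha1)) (by
        rw [sub_eq_add_neg, ← neg_smul, hf.bilinear.add_right, hf.bilinear.smul_right, hva1]
        ring)
      rw [sub_eq_add_neg, ← neg_smul, hf.bilinear.add_right, hf.bilinear.smul_right] at this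
      rw [sub_eq_add_neg, ← neg_smul, hf.bilinear.add_left, hf.bilinear.smul_left]
      linear_combination this
    have hza : f z a1 ≠ 0 := fun e => hz (by simpa [e] using hmem)
    have hnm : f z a1 • v ∉ orthTo hf W := fun h => hv (by
      simpa [smul_smul, hza] using (orthTo hf W).smul_mem (f z a1)⁻¹ h)
    have := hcoset _ (sympCenter_smul hf hvC _) hnm _ hmem
    rwa [add_sub_cancel] at this
  · push Not at hdep
    obtain ⟨a2, ha2, hva2, hza2⟩ := hdep
    set c := (1 - f z a1) / f z a2 with hc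
    set a := a1 + c • a2 with ha
    have haW : a ∈ W := W.add_mem ha1 (W.smul_mem _ ha2)
    have hva : f v a = 1 := by
      rw [ha, hf.bilinear.add_right, hf.bilinear.smul_right, hva1, hva2, mul_zero, add_zero]
    have hza : f z a = 1 := by
      rw [ha, hf.bilinear.add_right, hf.bilinear.smul_right, hc, div_mul_cancel₀ _ hza2,
        add_sub_cancel]
    have hab : f a (z - v) = 0 := by
      rw [hf.skew, form_sub_left (isLinearLeft_of_bilinear hf.bilinear), hva, hza, sub_self,
        neg_zero]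
    have hE : eMap f a (z - v) ∈ M := hP _ (eMap_mem_stabilizer hf hW haW hab) (eMap_isometry hf _ _)
    have h1 := sympCenter_conj hf hvC hE (eMap_isometry hf _ _)
    rw [eMap_mulVec hf hab, hva, one_smul, add_sub_cancel] at h1
    have hznm : z + f v (z - v) • a ∉ orthTo hf W := fun h => hz (by
      simpa using (orthTo hf W).sub_mem h ((orthTo hf W).smul_mem (f v (z - v)) (hWperp haW)))
    have := hcoset _ h1 hznm _ ((orthTo hf W).smul_mem (-f v (z - v)) (hWperp haW))
    rwa [neg_smul, add_neg_cancel_right] at this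


/-- Generalisation of the statement to small dimensions. -/
theorem maximal {F : Type*} [Field F] [Fintype F] (m : ℕ)  (W : Submodule F (Fin m ⊕ Fin m → F)) (hW0 : W ≠ ⊥) (hW : Cfsg.Geo.IsTotallySingularFor (Cfsg.sympForm m F) W) : Cfsg.Geo.IsMaximalIn (Cfsg.spGL m F) (Cfsg.Geo.subspaceStabilizer W ⊓ Cfsg.spGL m F) := by
  have hf := sympForm_isSymplectic (F := F) m
  refine isMaximalIn_of inf_le_right ?_ ?_
  · obtain ⟨w, hw, hw0⟩ := Submodule.exists_mem_ne_zero_of_ne_bot hW0
    obtain ⟨-, z, hz⟩ := hf.nondegenerate w hw0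
    refine ⟨_, stv_mem_spGL z 1, fun h => ?_⟩
    have h1 := mem_subspaceStabilizer_iff.mp h.1 w hw
    rw [stv_mulVec hf, one_mul] at h1
    have h2 : z ∈ W := by
      have := W.smul_mem (Cfsg.sympForm m F w z)⁻¹ (W.sub_mem h1 hw)
      rwa [add_sub_cancel_left, smul_smul, inv_mul_cancel₀ hz, one_smul] at this
    exact hz (hW w hw z h2)
  intro M hHM hMK g hgM hgH
  exact spGL_le (centers_all hf (fun h hh => mem_spGL_iff.mp (hMK hh)) hW
    (fun h h1 h2 => hHM ⟨h1, mem_spGL_iff.mpr h2⟩) hgM fun h => hgH ⟨h, hMK hgM⟩)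


/-- For a finite field F and m ≥ 7, in the symplectic group Sp_2m(F) of the standard alternating form on F^(2m) (as a subgroup of GL_2m(F)), the stabiliser of any non-zero subspace on which the form vanishes identically is a maximal subgroup. -/
theorem result {F : Type*} [Field F] [Fintype F] (m : ℕ) (hm : 7 ≤ m) (W : Submodule F (Fin m ⊕ Fin m → F)) (hW0 : W ≠ ⊥) (hW : Cfsg.Geo.IsTotallySingularFor (Cfsg.sympForm m F) W) : Cfsg.Geo.IsMaximalIn (Cfsg.spGL m F) (Cfsg.Geo.subspaceStabilizer W ⊓ Cfsg.spGL m F) :=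
  maximal m W hW0 hW

end Cfsg.Agent.S5645
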