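import Cfsg.Statements.S5646
import Cfsg.Agent.Lib.Subspaces.SympSub

set_option autoImplicit false
open Cfsg

namespace Cfsg.Agent.S5646

open Matrix Cfsg.Agent.Lib.Subspaces.Transvection Cfsg.Agent.Lib.Subspaces.FormVec
  Cfsg.Agent.Lib.Subspaces.SympGen Cfsg.Agent.Lib.Subspaces.SympCenters
  Cfsg.Agent.Lib.Subspaces.SympSub

variable {ι : Type} [Fintype ι] [DecidableEq ι] {F : Type*} [Field F] [Finite F]
  {f : (ι → F) → (ι → F) → F}

theorem centers_all (hf : Cfsg.Geo.IsSymplecticForm f) {M : Subgroup (GL ι F)}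
    (hMS : ∀ g ∈ M, ∀ x y, f ((g : Matrix ι ι F) *ᵥ x) ((g : Matrix ι ι F) *ᵥ y) = f x y)
    {W : Submodule F (ι → F)} (hW : Cfsg.Geo.IsNondegenerateOn f W)
    (hdim : 2 * Module.finrank F W < Fintype.card ι)
    (hP : ∀ g : GL ι F, g ∈ Cfsg.Geo.subspaceStabilizer W →
      (∀ x y, f ((g : Matrix ι ι F) *ᵥ x) ((g : Matrix ι ι F) *ᵥ y) = f x y) → g ∈ M)
    {g : GL ι F} (hgM : g ∈ M) (hg : g ∉ Cfsg.Geo.subspaceStabilizer W) :
    ∀ z : ι → F, SympCenter f M z := by
  have hUC : ∀ v, v ∈ W ∨ v ∈ orthTo hf W → SympCenter f M v := fun v hv a =>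
    hP _ (stv_mem_stabilizer hf hv a) (stv_isometry hf v a)
  have hbig : Module.finrank F W < Module.finrank F (orthTo hf W) := by
    have := finrank_orthTo_ge hf W
    omega
  obtain ⟨x, hxC, hxW, hxW'⟩ : ∃ x, SympCenter f M x ∧ x ∉ W ∧ x ∉ orthTo hf W := by
    by_contra hc
    push Not at hc
    apply hg
    have himg : ∀ v ∈ orthTo hf W, (g : Matrix ι ι F) *ᵥ v ∈ W ∨
        (g : Matrix ι ι F) *ᵥ v ∈ orthTo hf W := fun v hv => by
      by_cases h : (g : Matrix ι ι F) *ᵥ v ∈ W
      · exact Or.inl h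
      · exact Or.inr (hc _ (sympCenter_conj hf (hUC v (Or.inr hv)) hgM (hMS g hgM)) h)
    have hin : ∀ v ∈ orthTo hf W, (g : Matrix ι ι F) *ᵥ v ∈ orthTo hf W := by
      by_contra h
      push Not at h
      obtain ⟨v, hv, hgv⟩ := h
      have hgvW : (g : Matrix ι ι F) *ᵥ v ∈ W := (himg v hv).resolve_right hgv
      have hall : ∀ u ∈ orthTo hf W, (g : Matrix ι ι F) *ᵥ u ∈ W := by
        intro u hu
        by_contra hgu
        have hgu' := (himg u hu).resolve_left hgu
        rcases himg (v + u) ((orthTo hf W).add_mem hv hu) with h | h <;> rw [mulVec_add] at h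
        · exact hgu (by simpa using W.sub_mem h hgvW)
        · exact hgv (by simpa using (orthTo hf W).sub_mem h hgu')
      have hinj : Module.finrank F (orthTo hf W) ≤ Module.finrank F W :=
        LinearMap.finrank_le_finrank_of_injective
          (f := (Matrix.toLin' (g : Matrix ι ι F)).restrict (p := orthTo hf W) (q := W)
            (fun u hu => by simpa using hall u hu))
          (fun a b hab => Subtype.ext (gl_mulVec_injective g (by
            simpa using congrArg Subtype.val hab)))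
      omega
    have hg' : g ∈ Cfsg.Geo.subspaceStabilizer (orthTo hf W) := mem_subspaceStabilizer_iff.mpr hin
    rw [mem_subspaceStabilizer_iff]
    intro w hw
    refine mem_of_orth_orthTo hf fun t ht => ?_
    have ht' := mem_subspaceStabilizer_iff.mp ((Cfsg.Geo.subspaceStabilizer _).inv_mem hg') t ht
    rw [← gl_mulVec_inv g t, hMS g hgM]
    exact ht' w hw
  obtain ⟨w1, hw1, hr1⟩ := exists_split hf hW x
  have hw10 : w1 ≠ 0 := fun e => hxW' (by simpa [e] using hr1)
  have hr10 : x - w1 ≠ 0 := fun e => hxW (by rw [sub_eq_zero.mp e]; exact hw1)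
  have hW' : Cfsg.Geo.IsNondegenerateOn f (orthTo hf W) := by
    intro v hv hv0
    obtain ⟨-, z, hz⟩ := hf.nondegenerate v hv0
    obtain ⟨p, hp, hpz⟩ := exists_split hf hW z
    have : f v (z - p) = f v z := by
      have h1 := hf.bilinear.add_right v (z - p) p
      rw [sub_add_cancel, hv p hp, add_zero] at h1
      exact h1.symm
    refine ⟨⟨z - p, hpz, fun e => hz ?_⟩, ⟨z - p, hpz, fun e => hz ?_⟩⟩
    · rw [← this]; exact swap_eq_zero hf e
    · rw [← this]; exact e
  intro z
  obtain ⟨p, hp, hpz⟩ := exists_split hf hW z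
  rcases eq_or_ne p 0 with rfl | hp0
  · exact hUC z (Or.inr (by simpa using hpz))
  rcases eq_or_ne (z - p) 0 with hr0 | hr0
  · exact hUC z (Or.inl (by rw [sub_eq_zero.mp hr0]; exact hp))
  have h1 : SympCenter f M (p + (x - w1)) :=
    sympCenter_change hf hW (fun u hu => hUC u (Or.inl hu)) hw1 hw10 hr1
      (by rwa [add_sub_cancel]) hp hp0
  have hpperp : p ∈ orthTo hf (orthTo hf W) := fun t ht => swap_eq_zero hf (ht p hp)
  have h2 : SympCenter f M ((z - p) + p) :=
    sympCenter_change hf hW' (fun u hu => hUC u (Or.inr hu)) hr1 hr10 hpperp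
      (by rwa [add_comm]) hpz hr0
  rwa [sub_add_cancel] at h2


/-- Generalisation of the statement to small dimensions. -/
theorem maximal {F : Type*} [Field F] [Fintype F] (m : ℕ)  (W : Submodule F (Fin m ⊕ Fin m → F)) (hW0 : W ≠ ⊥) (hW : Cfsg.Geo.IsNondegenerateOn (Cfsg.sympForm m F) W) (hdim : Module.finrank F W < m) : Cfsg.Geo.IsMaximalIn (Cfsg.spGL m F) (Cfsg.Geo.subspaceStabilizer W ⊓ Cfsg.spGL m F) := by
  have hf := sympForm_isSymplectic (F := F) m
  have hcard : 2 * Module.finrank F W < Fintype.card (Fin m ⊕ Fin m) := by simp; omega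
  refine isMaximalIn_of inf_le_right ?_ ?_
  · obtain ⟨w, hw, hw0⟩ := Submodule.exists_mem_ne_zero_of_ne_bot hW0
    obtain ⟨-, z, hz, hwz⟩ := hW w hw hw0
    obtain ⟨r, hr, hr0⟩ : ∃ r ∈ orthTo hf W, r ≠ 0 := by
      refine Submodule.exists_mem_ne_zero_of_ne_bot fun e => ?_
      have := finrank_orthTo_ge hf W
      rw [e, finrank_bot] at this
      omega
    refine ⟨_, stv_mem_spGL (z + r) 1, fun h => ?_⟩
    have h1 := mem_subspaceStabilizer_iff.mp h.1 w hw
    rw [stv_mulVec hf, one_mul, hf.bilinear.add_right, Cfsg.Agent.Lib.Subspaces.SympGen.swap_eq_zero hf (hr w hw),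
      add_zero] at h1
    have h2 : z + r ∈ W := by
      have := W.smul_mem (Cfsg.sympForm m F w z)⁻¹ (W.sub_mem h1 hw)
      rwa [add_sub_cancel_left, smul_smul, inv_mul_cancel₀ hwz, one_smul] at this
    obtain ⟨-, y, hy, hry⟩ := hW r (by simpa using W.sub_mem h2 hz) hr0
    exact hry (hr y hy)
  intro M hHM hMK g hgM hgH
  exact spGL_le (centers_all hf (fun h hh => mem_spGL_iff.mp (hMK hh)) hW hcard
    (fun h h1 h2 => hHM ⟨h1, mem_spGL_iff.mpr h2⟩) hgM fun h => hgH ⟨h, hMK hgM⟩)


/-- For a finite field F and m ≥ 7, in the symplectic group Sp_2m(F) of the standard alternating form on F^(2m), the stabiliser of any non-zero subspace W on which the form is non-degenerate and with dim W < m is a maximal subgroup. -/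
theorem result {F : Type*} [Field F] [Fintype F] (m : ℕ) (hm : 7 ≤ m) (W : Submodule F (Fin m ⊕ Fin m → F)) (hW0 : W ≠ ⊥) (hW : Cfsg.Geo.IsNondegenerateOn (Cfsg.sympForm m F) W) (hdim : Module.finrank F W < m) : Cfsg.Geo.IsMaximalIn (Cfsg.spGL m F) (Cfsg.Geo.subspaceStabilizer W ⊓ Cfsg.spGL m F) :=
  maximal m W hW0 hW hdim

end Cfsg.Agent.S5646
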