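import Cfsg.Statements.S5647
import Cfsg.Agent.Lib.Subspaces.SympSub
import Cfsg.Agent.Lib.Subspaces.Decomposition
import Cfsg.Agent.Lib.Symplectic.Order

set_option autoImplicit false
open Cfsg

namespace Cfsg.Agent.S5647

open Matrix Cfsg.Agent.Lib.Subspaces.Transvection Cfsg.Agent.Lib.Subspaces.FormVec
  Cfsg.Agent.Lib.Subspaces.SympGen Cfsg.Agent.Lib.Subspaces.SympCenters
  Cfsg.Agent.Lib.Subspaces.SympSub Cfsg.Agent.Lib.Subspaces.Decomposition

variable {ι : Type} [Fintype ι] [DecidableEq ι] {F : Type*} [Field F]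
  {f : (ι → F) → (ι → F) → F} {t k : ℕ} {D : Fin t → Submodule F (ι → F)}

theorem comp_orth (hf : Cfsg.Geo.IsSymplecticForm f)
    (hD : Cfsg.Geo.IsNondegenerateMDecomposition f k D) (i : Fin t) (x : ι → F) :
    x - comp hD.decomp i x ∈ orthTo hf (D i) := by
  intro u hu
  rw [form_sub_left (isLinearLeft_of_bilinear hf.bilinear)]
  conv_lhs => arg 1; rw [← sum_comp hD.decomp x, ← sum_comp hD.decomp u,
    form_sum_sum hf.bilinear.add_left hf.bilinear.add_right hD.orthogonal
      (fun j => comp_mem hD.decomp j x) (fun j => comp_mem hD.decomp j u)]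
  rw [Finset.sum_eq_single i (fun j _ hj => by
    rw [comp_other hD.decomp hj hu, Cfsg.Agent.Lib.Subspaces.SympGen.zero_right hf]) (by simp), comp_self hD.decomp hu,
    sub_self]

theorem change_comp (hf : Cfsg.Geo.IsSymplecticForm f)
    (hD : Cfsg.Geo.IsNondegenerateMDecomposition f k D) {M : Subgroup (GL ι F)}
    (hSC : ∀ i, ∀ u ∈ D i, SympCenter f M u) {x : ι → F} (hx : SympCenter f M x) (i : Fin t)
    (hi : comp hD.decomp i x ≠ 0) {w : ι → F} (hw : w ∈ D i) (hw0 : w ≠ 0) :
    SympCenter f M (w + (x - comp hD.decomp i x)) :=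
  sympCenter_change hf (hD.nondegenerate i) (hSC i) (comp_mem hD.decomp i x) hi
    (comp_orth hf hD i x) (by rwa [add_sub_cancel]) hw hw0

theorem exists_perp_vector [Finite F] (hf : Cfsg.Geo.IsSymplecticForm f)
    (hD : Cfsg.Geo.IsNondegenerateMDecomposition f k D) (hex : ¬ (k = 2 ∧ Nat.card F = 2))
    (i : Fin t) {v : ι → F} (hv : v ∈ D i) (hv0 : v ≠ 0) :
    ∃ w ∈ D i, w ≠ 0 ∧ w ≠ v ∧ f w v = 0 := by
  by_cases hq : ∃ ν : F, ν ≠ 0 ∧ ν ≠ 1
  · obtain ⟨ν, hν0, hν1⟩ := hq
    refine ⟨ν • v, (D i).smul_mem _ hv, smul_ne_zero hν0 hv0, fun e => hν1 ?_,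
      by rw [hf.bilinear.smul_left, hf.alternating, mul_zero]⟩
    have h2 : (ν - 1) • v = 0 := by rw [sub_smul, one_smul, e, sub_self]
    exact sub_eq_zero.mp ((smul_eq_zero.mp h2).resolve_right hv0)
  push Not at hq
  have hcard : Nat.card F = 2 := by
    rw [Nat.card_eq_two_iff]
    exact ⟨0, 1, zero_ne_one, Set.eq_univ_of_forall fun x => (em (x = 0)).imp id (hq x)⟩
  have hl := isLinearLeft_of_bilinear hf.bilinear
  let L : D i →ₗ[F] F :=
    { toFun := fun w => f w v
      map_add' := fun a b => hf.bilinear.add_left a b v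
      map_smul' := fun c a => by simpa using hf.bilinear.smul_left c a v }
  have h1 := LinearMap.finrank_range_add_finrank_ker L
  rw [hD.decomp.finrank_eq i] at h1
  have hr : Module.finrank F (LinearMap.range L) ≤ 1 :=
    le_trans (Submodule.finrank_le _) (by rw [Module.finrank_self])
  have hk : 3 ≤ k := by
    by_contra hk
    have hk0 := hD.decomp.pos
    obtain rfl : k = 1 := by
      rcases (show k = 1 ∨ k = 2 by omega) with h | h
      · exact h
      · exact absurd ⟨h, hcard⟩ hex
    obtain ⟨-, z, hz, hvz⟩ := hD.nondegenerate i v hv hv0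
    obtain ⟨c, hc⟩ := (finrank_eq_one_iff_of_nonzero' (⟨v, hv⟩ : D i) (by simpa using hv0)).mp
      (hD.decomp.finrank_eq i) ⟨z, hz⟩
    apply hvz
    rw [show z = c • v from (congrArg Subtype.val hc).symm]
    rw [hf.bilinear.smul_right, hf.alternating, mul_zero]
  have hnle : ¬ (LinearMap.ker L) ≤ Submodule.span F {(⟨v, hv⟩ : D i)} := fun hle => by
    have h2 := Submodule.finrank_mono hle
    rw [finrank_span_singleton (by simpa using hv0)] at h2
    omega
  obtain ⟨⟨w, hw⟩, hwL, hwv⟩ := SetLike.not_le_iff_exists.mp hnle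
  refine ⟨w, hw, fun e => hwv ?_, fun e => hwv ?_, hwL⟩
  · subst e; exact Submodule.zero_mem _
  · subst e; exact Submodule.mem_span_singleton_self _

theorem exists_block_isometry [Finite F] (hf : Cfsg.Geo.IsSymplecticForm f)
    (hD : Cfsg.Geo.IsNondegenerateMDecomposition f k D) (i j : Fin t) :
    ∃ φ : (ι → F) →ₗ[F] (ι → F), (∀ x ∈ D i, φ x ∈ D j) ∧
      ∀ x ∈ D i, ∀ y ∈ D i, f (φ x) (φ y) = f x y := by
  have hsymp : ∀ l, Cfsg.Agent.Lib.Symplectic.IsSympForm
      (Cfsg.Agent.Lib.Symplectic.restr (toBilin hf) (D l)) := fun l =>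
    ⟨fun x => hf.alternating (x : ι → F), fun x hx => by
      by_contra hne
      obtain ⟨-, z, hz, hxz⟩ := hD.nondegenerate l x x.2 (fun e => hne (Subtype.ext e))
      exact hxz (hx ⟨z, hz⟩)⟩
  obtain ⟨e, he⟩ := Cfsg.Agent.Lib.Symplectic.exists_isometry (hsymp i) (hsymp j)
    (by rw [hD.decomp.finrank_eq i, hD.decomp.finrank_eq j])
  let φ : (ι → F) →ₗ[F] (ι → F) :=
    (D j).subtype ∘ₗ e.toLinearMap ∘ₗ (comp hD.decomp i).codRestrict (D i) (comp_mem hD.decomp i)
  have hφ : ∀ x (hx : x ∈ D i), φ x = (e ⟨x, hx⟩ : ι → F) := fun x hx => by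
    show ((e _ : D j) : ι → F) = _
    congr 2
    exact Subtype.ext (comp_self hD.decomp hx)
  refine ⟨φ, fun x hx => by rw [hφ x hx]; exact Submodule.coe_mem _, fun x hx y hy => ?_⟩
  rw [hφ x hx, hφ y hy]
  exact he ⟨x, hx⟩ ⟨y, hy⟩

theorem pair_centres [Finite F] (hf : Cfsg.Geo.IsSymplecticForm f)
    (hD : Cfsg.Geo.IsNondegenerateMDecomposition f k D) (hex : ¬ (k = 2 ∧ Nat.card F = 2))
    {M : Subgroup (GL ι F)}
    (hP : ∀ g : GL ι F, g ∈ Cfsg.Geo.decompositionStabilizer D →
      (∀ x y, f ((g : Matrix ι ι F) *ᵥ x) ((g : Matrix ι ι F) *ᵥ y) = f x y) → g ∈ M)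
    (hSC : ∀ i, ∀ u ∈ D i, SympCenter f M u)
    {x : ι → F} (hx : SympCenter f M x) {i j : Fin t} (hij : i ≠ j)
    (hi : comp hD.decomp i x ≠ 0) (hj : comp hD.decomp j x ≠ 0)
    {a b : Fin t} (hab : a ≠ b) {p q : ι → F} (hp : p ∈ D a) (hp0 : p ≠ 0)
    (hq : q ∈ D b) (hq0 : q ≠ 0) : SympCenter f M (p + q) := by
  classical
  set vi := comp hD.decomp i x with hvi
  set vj := comp hD.decomp j x with hvj
  have hvim : vi ∈ D i := comp_mem hD.decomp i x
  have hvjm : vj ∈ D j := comp_mem hD.decomp j x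
  obtain ⟨⟨wi, hwi, hwiv⟩, -⟩ := hD.nondegenerate i vi hvim hi
  obtain ⟨wj, hwj, hwj0, hwjne, hwjv⟩ := exists_perp_vector hf hD hex j hvjm hj
  have hl := isLinearLeft_of_bilinear hf.bilinear
  have hwi0 : wi ≠ 0 := fun e => hwiv (by rw [e, form_zero_left hl])
  have hwine : wi - vi ≠ 0 := fun e => hwiv (by rw [sub_eq_zero.mp e, hf.alternating])
  have h1 := change_comp hf hD hSC hx i hi hwi hwi0
  have hcj : comp hD.decomp j (wi + (x - vi)) = vj := by
    rw [map_add, map_sub, comp_other hD.decomp hij.symm hwi, comp_other hD.decomp hij.symm hvim,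
      sub_zero, zero_add]
  have h2 := change_comp hf hD hSC h1 j (by rwa [hcj]) hwj hwj0
  rw [hcj] at h2
  have hzero : ∀ (l l' : Fin t), l ≠ l' → ∀ u ∈ D l, ∀ w ∈ D l', f u w = 0 :=
    fun l l' h => hD.orthogonal l l' h
  have hfi : ∀ u ∈ D i, f u x = f u vi := fun u hu => by
    have h := comp_orth hf hD i x u hu
    rw [form_sub_left hl, sub_eq_zero] at h
    rw [hf.skew u x, hf.skew u vi, h]
  have hfj : ∀ u ∈ D j, f u x = f u vj := fun u hu => by
    have h := comp_orth hf hD j x u hu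
    rw [form_sub_left hl, sub_eq_zero] at h
    rw [hf.skew u x, hf.skew u vj, h]
  have hval : f (wj + (wi + (x - vi) - vj)) x = f wi vi := by
    rw [hf.bilinear.add_left, form_sub_left hl, hf.bilinear.add_left, form_sub_left hl,
      hf.alternating, hfi wi hwi, hfi vi hvim, hfj wj hwj, hfj vj hvjm, hwjv, hf.alternating,
      hf.alternating]
    ring
  have h3 := sympCenter_add_smul hf hx h2 (by rwa [hval]) (-1)
  rw [neg_one_smul, show wj + (wi + (x - vi) - vj) + -x = (wi - vi) + (wj - vj) by abel] at h3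
  -- move the blocks `i, j` to `a, b`
  set σ : Equiv.Perm (Fin t) := Equiv.swap (Equiv.swap i a j) b * Equiv.swap i a with hσ
  have hσi : σ i = a := by
    rw [hσ, Equiv.Perm.mul_apply, Equiv.swap_apply_left]
    refine Equiv.swap_apply_of_ne_of_ne (fun e => hij ?_) hab
    exact (Equiv.swap i a).injective (by rw [Equiv.swap_apply_left]; exact e)
  have hσj : σ j = b := by rw [hσ, Equiv.Perm.mul_apply, Equiv.swap_apply_left]
  choose φ hφ hφiso using fun l => exists_block_isometry hf hD l (σ l)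
  obtain ⟨T, hT, hTiso, hTD⟩ := exists_glue hf.bilinear.add_left hf.bilinear.add_right
    hf.nondegenerate hD σ φ hφ hφiso
  have h4 := sympCenter_conj hf h3 (hP T hTD hTiso) hTiso
  have hwai : wi - vi ∈ D i := (D i).sub_mem hwi hvim
  have hwbj : wj - vj ∈ D j := (D j).sub_mem hwj hvjm
  set p' := (T : Matrix ι ι F) *ᵥ (wi - vi) with hp'
  set q' := (T : Matrix ι ι F) *ᵥ (wj - vj) with hq'
  have hp'm : p' ∈ D a := by rw [hp', hT i _ hwai, ← hσi]; exact hφ i _ hwai
  have hq'm : q' ∈ D b := by rw [hq', hT j _ hwbj, ← hσj]; exact hφ j _ hwbj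
  have hp'0 : p' ≠ 0 := fun e => hwine (gl_mulVec_injective T (by simpa [hp'] using e))
  have hq'0 : q' ≠ 0 := fun e => hwjne (sub_eq_zero.mp (gl_mulVec_injective T (by
    simpa [hq'] using e)))
  rw [mulVec_add, ← hp', ← hq'] at h4
  have ha : comp hD.decomp a (p' + q') = p' := by
    rw [map_add, comp_self hD.decomp hp'm, comp_other hD.decomp hab hq'm, add_zero]
  have h5 := change_comp hf hD hSC h4 a (by rwa [ha]) hp hp0
  rw [ha, add_sub_cancel_left] at h5
  have hb : comp hD.decomp b (p + q') = q' := by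
    rw [map_add, comp_self hD.decomp hq'm, comp_other hD.decomp hab.symm hp, zero_add]
  have h6 := change_comp hf hD hSC h5 b (by rwa [hb]) hq hq0
  rwa [hb, add_sub_cancel_right, add_comm] at h6

theorem centers_all [Finite F] (hf : Cfsg.Geo.IsSymplecticForm f)
    (hD : Cfsg.Geo.IsNondegenerateMDecomposition f k D) (hex : ¬ (k = 2 ∧ Nat.card F = 2))
    {M : Subgroup (GL ι F)}
    (hMS : ∀ g ∈ M, ∀ x y, f ((g : Matrix ι ι F) *ᵥ x) ((g : Matrix ι ι F) *ᵥ y) = f x y)
    (hP : ∀ g : GL ι F, g ∈ Cfsg.Geo.decompositionStabilizer D →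
      (∀ x y, f ((g : Matrix ι ι F) *ᵥ x) ((g : Matrix ι ι F) *ᵥ y) = f x y) → g ∈ M)
    {g : GL ι F} (hgM : g ∈ M) (hg : g ∉ Cfsg.Geo.decompositionStabilizer D) :
    ∀ z : ι → F, SympCenter f M z := by
  classical
  have hSC : ∀ i, ∀ u ∈ D i, SympCenter f M u := fun i u hu a =>
    hP _ (mem_stabilizer_of_fix fun l => by
      by_cases h : l = i
      · subst h; exact stv_mem_stabilizer hf (Or.inl hu) a
      · exact stv_mem_stabilizer hf (Or.inr fun w hw => hD.orthogonal i l (Ne.symm h) u hu w hw) a)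
      (stv_isometry hf u a)
  obtain ⟨i, v, hv, a, b, hab, ha, hb⟩ := exists_two_comp hD.decomp hg
  have hx := sympCenter_conj hf (hSC i v hv) hgM (hMS g hgM)
  have hpair : ∀ {a' b' : Fin t}, a' ≠ b' → ∀ {p q : ι → F}, p ∈ D a' → p ≠ 0 → q ∈ D b' → q ≠ 0 →
      SympCenter f M (p + q) := @fun a' b' h p q hp hp0 hq hq0 =>
    pair_centres hf hD hex hP hSC hx hab ha hb h hp hp0 hq hq0
  suffices H : ∀ (S : Finset (Fin t)) (z : ι → F), (∀ l ∉ S, comp hD.decomp l z = 0) →
      SympCenter f M z from fun z => H Finset.univ z (fun l hl => absurd (Finset.mem_univ l) hl)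
  intro S
  induction S using Finset.strongInduction with
  | _ S ih =>
    intro z hz
    by_cases h2 : ∃ p ∈ S, ∃ q ∈ S, p ≠ q ∧ comp hD.decomp p z ≠ 0 ∧ comp hD.decomp q z ≠ 0
    · obtain ⟨p, hpS, q, hqS, hpq, hp, hq⟩ := h2
      set zp := comp hD.decomp p z with hzp
      set zq := comp hD.decomp q z with hzq
      have hzpm : zp ∈ D p := comp_mem hD.decomp p z
      have hzqm : zq ∈ D q := comp_mem hD.decomp q z
      obtain ⟨⟨u, hu, huz⟩, -⟩ := hD.nondegenerate p zp hzpm hp
      have hzu : zp - u ≠ 0 := fun e => huz (by rw [← sub_eq_zero.mp e, hf.alternating])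
      set z' := z - zp - zq + u with hz'
      have hz'C : SympCenter f M z' := ih (S.erase q) (Finset.erase_ssubset hqS) z' fun l hl => by
        rw [hz', map_add, map_sub, map_sub]
        by_cases hlq : l = q
        · subst hlq
          rw [comp_other hD.decomp hpq.symm hzpm, comp_self hD.decomp hzqm,
            comp_other hD.decomp hpq.symm hu]
          simp [hzq]
        · have hlS : l ∉ S := fun h => hl (Finset.mem_erase.mpr ⟨hlq, h⟩)
          have hlp : l ≠ p := fun e => hlS (e ▸ hpS)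
          rw [comp_other hD.decomp hlp hzpm, comp_other hD.decomp hlq hzqm,
            comp_other hD.decomp hlp hu, hz l hlS]
          simp
      have hfz : f z' (zp - u + zq) = f u zp := by
        have h1 : comp hD.decomp p z' = u := by
          rw [hz', map_add, map_sub, map_sub, comp_self hD.decomp hzpm,
            comp_other hD.decomp hpq hzqm, comp_self hD.decomp hu, ← hzp]
          simp
        have h2 : comp hD.decomp q z' = 0 := by
          rw [hz', map_add, map_sub, map_sub, comp_other hD.decomp hpq.symm hzpm,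
            comp_self hD.decomp hzqm, comp_other hD.decomp hpq.symm hu, ← hzq]
          simp
        have hl := isLinearLeft_of_bilinear hf.bilinear
        have e1 := comp_orth hf hD p z' (zp - u) ((D p).sub_mem hzpm hu)
        have e2 := comp_orth hf hD q z' zq hzqm
        rw [h1, form_sub_left hl, sub_eq_zero] at e1
        rw [h2, sub_zero] at e2
        rw [hf.bilinear.add_right, e1, e2, add_zero]
        have := hf.bilinear.add_right u (zp - u) u
        rw [sub_add_cancel, hf.alternating, add_zero] at this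
        exact this.symm
      have := sympCenter_add_smul hf (hpair hpq ((D p).sub_mem hzpm hu) hzu hzqm hq) hz'C
        (by rwa [hfz]) 1
      rwa [one_smul, show z' + (zp - u + zq) = z by rw [hz']; abel] at this
    · push Not at h2
      by_cases h1 : ∃ p, comp hD.decomp p z ≠ 0
      · obtain ⟨p, hp⟩ := h1
        refine hSC p z (mem_of_comp_eq_zero hD.decomp fun l hlp => ?_)
        by_cases hlS : l ∈ S
        · have hpS : p ∈ S := by
            by_contra h
            exact hp (hz p h)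
          exact h2 p hpS l hlS (Ne.symm hlp) hp
        · exact hz l hlS
      · push Not at h1
        have : z = 0 := by rw [← sum_comp hD.decomp z]; exact Finset.sum_eq_zero fun l _ => h1 l
        subst this
        exact sympCenter_zero M


/-- Generalisation of the statement to small dimensions. -/
theorem maximal {F : Type*} [Field F] [Fintype F] (m : ℕ)  {t : ℕ} (k : ℕ) (D : Fin t → Submodule F (Fin m ⊕ Fin m → F)) (hD : Cfsg.Geo.IsNondegenerateMDecomposition (Cfsg.sympForm m F) k D) (hex : ¬ (k = 2 ∧ Fintype.card F = 2)) : Cfsg.Geo.IsMaximalIn (Cfsg.spGL m F) (Cfsg.Geo.decompositionStabilizer D ⊓ Cfsg.spGL m F) := by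
  have hf := sympForm_isSymplectic (F := F) m
  refine isMaximalIn_of inf_le_right ?_ ?_
  · have ht := hD.decomp.two_le
    let i0 : Fin t := ⟨0, by omega⟩
    let i1 : Fin t := ⟨1, by omega⟩
    have hne : i1 ≠ i0 := fun e => by simp [i0, i1, Fin.ext_iff] at e
    obtain ⟨a, ha, ha0⟩ := Submodule.exists_mem_ne_zero_of_ne_bot (block_ne_bot hD.decomp i0)
    obtain ⟨b, hb, hb0⟩ := Submodule.exists_mem_ne_zero_of_ne_bot (block_ne_bot hD.decomp i1)
    obtain ⟨⟨w, hw, hwa⟩, -⟩ := hD.nondegenerate i0 a ha ha0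
    refine ⟨_, stv_mem_spGL (a + b) 1, fun h => ?_⟩
    obtain ⟨σ, hσ⟩ := exists_image_of_mem h.1
    have h1 := hσ i0 w hw
    rw [stv_mulVec hf, one_mul, hf.bilinear.add_right, hD.orthogonal i0 i1 hne.symm w hw b hb,
      add_zero] at h1
    have e1 : comp hD.decomp i1 (w + Cfsg.sympForm m F w a • (a + b)) =
        Cfsg.sympForm m F w a • b := by
      rw [map_add, map_smul, map_add, comp_other hD.decomp hne hw, comp_other hD.decomp hne ha,
        comp_self hD.decomp hb, zero_add, zero_add]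
    have e0 : comp hD.decomp i0 (w + Cfsg.sympForm m F w a • (a + b)) =
        w + Cfsg.sympForm m F w a • a := by
      rw [map_add, map_smul, map_add, comp_self hD.decomp hw, comp_self hD.decomp ha,
        comp_other hD.decomp hne.symm hb, add_zero]
    by_cases hσ0 : σ i0 = i1
    · rw [comp_other hD.decomp (fun e => hne ((hσ0 ▸ e.symm : i1 = i0))) h1] at e0
      have : Cfsg.sympForm m F (w + Cfsg.sympForm m F w a • a) a = 0 := by
        rw [← e0, form_zero_left (isLinearLeft_of_bilinear hf.bilinear)]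
      rw [hf.bilinear.add_left, hf.bilinear.smul_left, hf.alternating, mul_zero, add_zero] at this
      exact hwa this
    · rw [comp_other hD.decomp (Ne.symm hσ0) h1] at e1
      exact smul_ne_zero hwa hb0 e1.symm
  intro M hHM hMK g hgM hgH
  exact spGL_le (centers_all hf hD (fun h => hex ⟨h.1, by rw [← Nat.card_eq_fintype_card]; exact h.2⟩)
    (fun h hh => mem_spGL_iff.mp (hMK hh)) (fun h h1 h2 => hHM ⟨h1, mem_spGL_iff.mpr h2⟩) hgM
    fun h => hgH ⟨h, hMK hgM⟩)


/-- For a finite field F with q elements and m ≥ 7, let D be a decomposition of F^(2m) into t ≥ 2 pairwise orthogonal subspaces of equal dimension k on each of which the standard alternating form is non-degenerate, spanning F^(2m). Unless k = 2 and q = 2, the elements of Sp_2m(F) permuting the members of D form a maximal subgroup of Sp_2m(F). -/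
theorem result {F : Type*} [Field F] [Fintype F] (m : ℕ) (hm : 7 ≤ m) {t : ℕ} (k : ℕ) (D : Fin t → Submodule F (Fin m ⊕ Fin m → F)) (hD : Cfsg.Geo.IsNondegenerateMDecomposition (Cfsg.sympForm m F) k D) (hex : ¬ (k = 2 ∧ Fintype.card F = 2)) : Cfsg.Geo.IsMaximalIn (Cfsg.spGL m F) (Cfsg.Geo.decompositionStabilizer D ⊓ Cfsg.spGL m F) :=
  maximal m k D hD hex

end Cfsg.Agent.S5647
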