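import Cfsg.Statements.S5648
import Cfsg.Agent.Lib.Subspaces.SympGen
import Cfsg.Agent.Lib.Subspaces.Decomposition

set_option autoImplicit false
open Cfsg

namespace Cfsg.Agent.S5648

open Matrix Cfsg.Agent.Lib.Subspaces Cfsg.Agent.Lib.Subspaces.Transvection
  Cfsg.Agent.Lib.Subspaces.FormVec Cfsg.Agent.Lib.Subspaces.SympGen
  Cfsg.Agent.Lib.Subspaces.Decomposition

variable {ι : Type} [Fintype ι] [DecidableEq ι] {F : Type*} [Field F] [Fintype F] {t k : ℕ}
  {D : Fin t → Submodule F (ι → F)} {f : (ι → F) → (ι → F) → F}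

open Classical in
/-- The indicator of a non-zero vector. -/
noncomputable def delta (x : ι → F) : F := if x = 0 then 0 else 1

/-- The number of non-zero components, in `F`. -/
noncomputable def weight (hD : Cfsg.Geo.IsMDecomposition k D) (x : ι → F) : F :=
  ∑ i, delta (comp hD i x)

theorem two_eq_zero (hq : Fintype.card F = 2) : (2 : F) = 0 := by
  have := FiniteField.cast_card_eq_zero F
  rw [hq] at this
  exact_mod_cast this

theorem eq_one_of_ne_zero (hq : Fintype.card F = 2) {c : F} (hc : c ≠ 0) : c = 1 := by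
  have := FiniteField.pow_card_sub_one_eq_one c hc
  rwa [hq, show 2 - 1 = 1 from rfl, pow_one] at this

theorem delta_zero : delta (0 : ι → F) = 0 := by simp [delta]

theorem delta_ne {x : ι → F} (hx : x ≠ 0) : delta x = 1 := by simp [delta, hx]

theorem delta_add (hq : Fintype.card F = 2) (hf : Cfsg.Geo.IsSymplecticForm f)
    {W : Submodule F (ι → F)} (hW : Cfsg.Geo.IsNondegenerateOn f W)
    (hd : Module.finrank F W = 2) {a b : ι → F} (ha : a ∈ W) (hb : b ∈ W) :
    delta (a + b) = delta a + delta b + f a b := by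
  have h2 := two_eq_zero hq
  rcases eq_or_ne a 0 with rfl | ha0
  · rw [zero_add, delta_zero, form_zero_left (isLinearLeft_of_bilinear hf.bilinear)]; ring
  rcases eq_or_ne b 0 with rfl | hb0
  · rw [add_zero, delta_zero, zero_right hf]; ring
  have hneg : ∀ x : ι → F, -x = x := fun x => by
    have h : (2 : F) • x = 0 := by rw [h2, zero_smul]
    rw [two_smul] at h
    exact neg_eq_of_add_eq_zero_left h
  rcases eq_or_ne a b with rfl | hab
  · rw [← sub_neg_eq_add a a, hneg, sub_self, delta_zero, hf.alternating, delta_ne ha0, add_zero]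
    linear_combination -h2
  have hsum : a + b ≠ 0 := fun h => hab (by rw [eq_neg_of_add_eq_zero_left h, hneg])
  rw [delta_ne ha0, delta_ne hb0, delta_ne hsum]
  have hfab : f a b = 1 := by
    refine eq_one_of_ne_zero hq fun h0 => ?_
    have hspan : Submodule.span F {a, b} = W := by
      refine Submodule.eq_of_le_of_finrank_le (Submodule.span_le.mpr (by
        rintro z (rfl | rfl) <;> assumption)) ?_
      have hlt : Submodule.span F {a} < Submodule.span F {a, b} := by
        refine lt_of_le_of_ne (Submodule.span_mono (by simp)) fun h => ?_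
        obtain ⟨c, hc⟩ := Submodule.mem_span_singleton.mp
          (h.ge (Submodule.subset_span (by simp : b ∈ ({a, b} : Set (ι → F)))))
        rcases eq_or_ne c 0 with rfl | hc0
        · exact hb0 (by rw [← hc, zero_smul])
        · exact hab (by rw [← hc, eq_one_of_ne_zero hq hc0, one_smul])
      have := Submodule.finrank_lt_finrank_of_lt hlt
      rw [finrank_span_singleton ha0] at this
      omega
    obtain ⟨-, y, hy, hay⟩ := hW a ha ha0
    obtain ⟨c, d, rfl⟩ := Submodule.mem_span_pair.mp (hspan ▸ hy)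
    exact hay (by rw [hf.bilinear.add_right, hf.bilinear.smul_right, hf.bilinear.smul_right,
      hf.alternating, h0]; ring)
  rw [hfab]
  linear_combination -h2

theorem weight_add (hq : Fintype.card F = 2) (hf : Cfsg.Geo.IsSymplecticForm f)
    (hD : Cfsg.Geo.IsNondegenerateMDecomposition f 2 D) (x y : ι → F) :
    weight hD.decomp (x + y) = weight hD.decomp x + weight hD.decomp y + f x y := by
  conv_rhs => arg 2; rw [← sum_comp hD.decomp x, ← sum_comp hD.decomp y, form_sum_sum
    hf.bilinear.add_left hf.bilinear.add_right hD.orthogonal (fun i => comp_mem hD.decomp i x)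
    (fun i => comp_mem hD.decomp i y)]
  simp only [weight, map_add, ← Finset.sum_add_distrib]
  exact Finset.sum_congr rfl fun i _ => delta_add hq hf (hD.nondegenerate i)
    (hD.decomp.finrank_eq i) (comp_mem hD.decomp i x) (comp_mem hD.decomp i y)

theorem weight_map (hD : Cfsg.Geo.IsMDecomposition k D) {g : GL ι F}
    (hg : g ∈ Cfsg.Geo.decompositionStabilizer D) (x : ι → F) :
    weight hD ((g : Matrix ι ι F) *ᵥ x) = weight hD x := by
  obtain ⟨σ, hσ⟩ := exists_image_of_mem hg
  let c : Fin t → ι → F := fun j => (g : Matrix ι ι F) *ᵥ comp hD (σ.symm j) x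
  have hc : ∀ j, c j ∈ D j := fun j => by
    simpa [c] using hσ (σ.symm j) _ (comp_mem hD (σ.symm j) x)
  have hsum : (g : Matrix ι ι F) *ᵥ x = ∑ j, c j := by
    conv_lhs => rw [← sum_comp hD x, Matrix.mulVec_sum]
    exact Fintype.sum_equiv σ _ _ fun i => by simp [c]
  unfold weight
  rw [hsum]
  refine (Fintype.sum_equiv σ _ _ fun i => ?_).symm
  rw [comp_of_sum hD hc]
  simp only [c, Equiv.symm_apply_apply]
  rcases eq_or_ne (comp hD i x) 0 with h | h
  · rw [h, mulVec_zero]
  · rw [delta_ne h, delta_ne fun e => h (gl_mulVec_injective g (by simpa using e))]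

/-- The isometries of `f` preserving the weight. -/
def weightStab (hD : Cfsg.Geo.IsMDecomposition k D) : Subgroup (GL ι F) where
  carrier := {g | ∀ x, weight hD ((g : Matrix ι ι F) *ᵥ x) = weight hD x}
  mul_mem' {a b} ha hb x := by rw [gl_mul_mulVec, ha, hb]
  one_mem' x := by rw [Units.val_one, one_mulVec]
  inv_mem' {a} ha x := by rw [← ha, gl_mulVec_inv]

theorem weight_of_mem (hD : Cfsg.Geo.IsMDecomposition k D) {i : Fin t} {x : ι → F} (hx : x ∈ D i)
    (hx0 : x ≠ 0) : weight hD x = 1 := by
  rw [weight, Finset.sum_eq_single i (fun j _ hj => by rw [comp_other hD hj hx, delta_zero])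
    (by simp), comp_self hD hx, delta_ne hx0]


/-- Over the field with 2 elements and for m ≥ 7, let D be a decomposition of F^(2m) into t pairwise orthogonal non-degenerate 2-dimensional subspaces for the standard alternating form (t = m ≥ 2). Then the elements of Sp_2m(2) permuting the members of D form a subgroup that is not maximal: some subgroup lies strictly between it and Sp_2m(2). -/
theorem result {F : Type*} [Field F] [Fintype F] (m : ℕ) (hm : 7 ≤ m) (hq : Fintype.card F = 2) {t : ℕ} (D : Fin t → Submodule F (Fin m ⊕ Fin m → F)) (hD : Cfsg.Geo.IsNondegenerateMDecomposition (Cfsg.sympForm m F) 2 D) : ∃ K : Subgroup (Matrix.GeneralLinearGroup (Fin m ⊕ Fin m) F), Cfsg.Geo.decompositionStabilizer D ⊓ Cfsg.spGL m F < K ∧ K < Cfsg.spGL m F := by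
  have hf := sympForm_isSymplectic (F := F) m
  have hd := hD.decomp
  have hcard := card_eq hd
  simp only [Fintype.card_sum, Fintype.card_fin] at hcard
  have ht : 7 ≤ t := by omega
  let i0 : Fin t := ⟨0, by omega⟩
  let i1 : Fin t := ⟨1, by omega⟩
  let i2 : Fin t := ⟨2, by omega⟩
  have h01 : i0 ≠ i1 := by simp [i0, i1]
  have h02 : i0 ≠ i2 := by simp [i0, i2]
  have h12 : i1 ≠ i2 := by simp [i1, i2]
  obtain ⟨a0, ha0, ha00⟩ := Submodule.exists_mem_ne_zero_of_ne_bot (block_ne_bot hd i0)
  obtain ⟨a1, ha1, ha10⟩ := Submodule.exists_mem_ne_zero_of_ne_bot (block_ne_bot hd i1)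
  obtain ⟨a2, ha2, ha20⟩ := Submodule.exists_mem_ne_zero_of_ne_bot (block_ne_bot hd i2)
  obtain ⟨-, x, hx, hax⟩ := hD.nondegenerate i0 a0 ha0 ha00
  have hxa : Cfsg.sympForm m F x a0 = 1 := eq_one_of_ne_zero hq fun h => hax (swap_eq_zero hf h)
  have hxa1 : Cfsg.sympForm m F x a1 = 0 := hD.orthogonal i0 i1 h01 x hx a1 ha1
  have hxa2 : Cfsg.sympForm m F x a2 = 0 := hD.orthogonal i0 i2 h02 x hx a2 ha2
  have hw2 : weight hd (a0 + a1) = 0 := by
    rw [weight_add hq hf hD, weight_of_mem hd ha0 ha00, weight_of_mem hd ha1 ha10,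
      hD.orthogonal i0 i1 h01 a0 ha0 a1 ha1]
    linear_combination two_eq_zero hq
  have hw3 : weight hd (a0 + a1 + a2) = 1 := by
    rw [weight_add hq hf hD, hw2, weight_of_mem hd ha2 ha20, hf.bilinear.add_left,
      hD.orthogonal i0 i2 h02 a0 ha0 a2 ha2, hD.orthogonal i1 i2 h12 a1 ha1 a2 ha2]
    ring
  refine ⟨weightStab hd ⊓ Cfsg.spGL m F, lt_of_le_not_ge ?_ ?_, lt_of_le_not_ge inf_le_right ?_⟩
  · rintro g ⟨hg, hgs⟩
    exact ⟨weight_map hd hg, hgs⟩
  · intro hle
    set v := a0 + a1 + a2 with hv
    have hmem : tv v ((1 : F) • formVec (Cfsg.sympForm m F) v) ∈ weightStab hd ⊓ Cfsg.spGL m F := by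
      refine ⟨fun z => ?_, stv_mem_spGL v 1⟩
      rw [stv_mulVec hf, one_mul]
      rcases eq_or_ne (Cfsg.sympForm m F z v) 0 with h | h
      · rw [h, zero_smul, add_zero]
      · rw [eq_one_of_ne_zero hq h, one_smul, weight_add hq hf hD, hw3, eq_one_of_ne_zero hq h]
        linear_combination two_eq_zero hq
    obtain ⟨σ, hσ⟩ := exists_image_of_mem (hle hmem).1
    have himg := hσ i0 x hx
    have hxv : Cfsg.sympForm m F x v = 1 := by
      rw [hv, hf.bilinear.add_right, hf.bilinear.add_right, hxa, hxa1, hxa2, add_zero, add_zero]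
    rw [stv_mulVec hf, one_mul, hxv, one_smul] at himg
    have hcomp : ∀ j a, j ≠ i0 → a ∈ D j → a ≠ 0 → comp hd j (x + v) = a → σ i0 = j := by
      intro j a _ _ ha0' he
      by_contra hne
      exact ha0' (by rw [← he, comp_other hd (Ne.symm hne) himg])
    have e1 : σ i0 = i1 := hcomp i1 a1 h01.symm ha1 ha10 (by
      rw [hv, map_add, map_add, map_add, comp_other hd h01.symm hx, comp_other hd h01.symm ha0,
        comp_self hd ha1, comp_other hd h12 ha2, zero_add, zero_add, add_zero])
    have e2 : σ i0 = i2 := hcomp i2 a2 h02.symm ha2 ha20 (by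
      rw [hv, map_add, map_add, map_add, comp_other hd h02.symm hx, comp_other hd h02.symm ha0,
        comp_other hd h12.symm ha1, comp_self hd ha2, zero_add, zero_add, zero_add])
    exact h12 (e1.symm.trans e2)
  · intro hle
    have h := (hle (stv_mem_spGL (a0 + a1) 1)).1 x
    rw [stv_mulVec hf, one_mul, hf.bilinear.add_right, hxa, hxa1, add_zero, one_smul,
      weight_add hq hf hD, hw2, hf.bilinear.add_right, hxa, hxa1, add_zero, add_zero] at h
    exact one_ne_zero (add_left_cancel (h.trans (add_zero _).symm))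

end Cfsg.Agent.S5648
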