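import Cfsg.Statements.S5649
import Cfsg.Agent.Lib.Subspaces.SympSub
import Cfsg.Agent.Lib.Subspaces.SympEichler
import Cfsg.Agent.Lib.Subspaces.Decomposition

set_option autoImplicit false
open Cfsg

namespace Cfsg.Agent.S5649

open Matrix Cfsg.Agent.Lib.Subspaces.Transvection Cfsg.Agent.Lib.Subspaces.FormVec
  Cfsg.Agent.Lib.Subspaces.SympGen Cfsg.Agent.Lib.Subspaces.SympCenters
  Cfsg.Agent.Lib.Subspaces.SympSub Cfsg.Agent.Lib.Subspaces.SympEichler
  Cfsg.Agent.Lib.Subspaces.Decomposition

variable {ι : Type} [Fintype ι] [DecidableEq ι] {F : Type*} [Field F]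
  {f : (ι → F) → (ι → F) → F} {m : ℕ} {D : Fin 2 → Submodule F (ι → F)}

theorem comp_add (hD : Cfsg.Geo.IsMDecomposition m D) {i j : Fin 2} (hij : i ≠ j) (x : ι → F) :
    comp hD i x + comp hD j x = x := by
  have h := sum_comp hD x
  rw [Fin.sum_univ_two] at h
  fin_cases i <;> fin_cases j <;> first | exact absurd rfl hij | exact h | rwa [add_comm] at h

theorem form_comp (hf : Cfsg.Geo.IsSymplecticForm f) (hD : Cfsg.Geo.IsMDecomposition m D)
    (hts : ∀ i, ∀ u ∈ D i, ∀ v ∈ D i, f u v = 0) {i j : Fin 2} (hij : i ≠ j) {u : ι → F}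
    (hu : u ∈ D i) (x : ι → F) : f u x = f u (comp hD j x) := by
  conv_lhs => rw [← comp_add hD hij x, hf.bilinear.add_right, hts i u hu _ (comp_mem hD i x),
    zero_add]

/-- A vector of `D j` with prescribed products against `D i`. -/
theorem exists_dual [Finite F] (hf : Cfsg.Geo.IsSymplecticForm f)
    (hD : Cfsg.Geo.IsMDecomposition m D) (hts : ∀ i, ∀ u ∈ D i, ∀ v ∈ D i, f u v = 0)
    {i j : Fin 2} (hij : i ≠ j) (φ : ι → F) :
    ∃ t ∈ D j, ∀ u ∈ D i, f u t = φ ⬝ᵥ u := by
  obtain ⟨t, rfl⟩ := formVec_surjective (isLinearLeft_of_bilinear hf.bilinear)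
    hf.bilinear.add_right hf.nondegenerate φ
  exact ⟨comp hD j t, comp_mem hD j t, fun u hu => by
    rw [formVec_dot (isLinearLeft_of_bilinear hf.bilinear), ← form_comp hf hD hts hij hu]⟩

theorem exists_perp_in (hf : Cfsg.Geo.IsSymplecticForm f) (hD : Cfsg.Geo.IsMDecomposition m D)
    (i : Fin 2) (S : Submodule F (ι → F)) (c d : ι → F)
    (hdim : 2 + Module.finrank F S < m) :
    ∃ a ∈ D i, a ∉ S ∧ f a c = 0 ∧ f a d = 0 := by
  let L : D i →ₗ[F] F × F :=
    { toFun := fun a => (f a c, f a d)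
      map_add' := fun a b => Prod.ext (hf.bilinear.add_left a b c) (hf.bilinear.add_left a b d)
      map_smul' := fun t a => Prod.ext (hf.bilinear.smul_left t a c) (hf.bilinear.smul_left t a d) }
  have h1 := LinearMap.finrank_range_add_finrank_ker L
  rw [hD.finrank_eq i] at h1
  have h2 : Module.finrank F (LinearMap.range L) ≤ 2 :=
    le_trans (Submodule.finrank_le _) (by rw [Module.finrank_prod, Module.finrank_self])
  have h3 : ¬ (LinearMap.ker L).map (D i).subtype ≤ S := fun hle => by
    have := Submodule.finrank_mono hle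
    rw [Submodule.finrank_map_subtype_eq] at this
    omega
  obtain ⟨a, ⟨a', ha', rfl⟩, haS⟩ := SetLike.not_le_iff_exists.mp h3
  have := LinearMap.mem_ker.mp ha'
  exact ⟨a', a'.2, haS, congrArg Prod.fst this, congrArg Prod.snd this⟩

theorem exists_perp_one (hf : Cfsg.Geo.IsSymplecticForm f) (hD : Cfsg.Geo.IsMDecomposition m D)
    (i : Fin 2) (S : Submodule F (ι → F)) (c : ι → F) (hdim : 1 + Module.finrank F S < m) :
    ∃ a ∈ D i, a ∉ S ∧ f a c = 0 := by
  let L : D i →ₗ[F] F :=
    { toFun := fun a => f a c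
      map_add' := fun a b => hf.bilinear.add_left a b c
      map_smul' := fun t a => hf.bilinear.smul_left t a c }
  have h1 := LinearMap.finrank_range_add_finrank_ker L
  rw [hD.finrank_eq i] at h1
  have h2 : Module.finrank F (LinearMap.range L) ≤ 1 :=
    le_trans (Submodule.finrank_le _) (by rw [Module.finrank_self])
  have h3 : ¬ (LinearMap.ker L).map (D i).subtype ≤ S := fun hle => by
    have := Submodule.finrank_mono hle
    rw [Submodule.finrank_map_subtype_eq] at this
    omega
  obtain ⟨a, ⟨a', ha', rfl⟩, haS⟩ := SetLike.not_le_iff_exists.mp h3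
  exact ⟨a', a'.2, haS, LinearMap.mem_ker.mp ha'⟩

theorem eich_tail (hf : Cfsg.Geo.IsSymplecticForm f) {a w : ι → F} (haw : f a w = 0) (κ t : F) :
    eich f (κ • a) (w + t • a) = eich f (κ • a) w * tv a ((2 * κ * t) • formVec f a) := by
  refine gl_ext fun x => ?_
  have h1 : f (κ • a) w = 0 := by rw [hf.bilinear.smul_left, haw, mul_zero]
  have h2 : f (κ • a) (w + t • a) = 0 := by
    rw [hf.bilinear.add_right, h1, hf.bilinear.smul_left, hf.bilinear.smul_right, hf.alternating]; ring
  rw [gl_mul_mulVec, stv_mulVec hf, eich_mulVec hf h1, eich_mulVec hf h2]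
  simp only [hf.bilinear.add_left, hf.bilinear.add_right, hf.bilinear.smul_left, hf.bilinear.smul_right,
    haw, hf.alternating]
  module

theorem eich_shift (hf : Cfsg.Geo.IsSymplecticForm f) {a c d : ι → F} (hcd : f c d = 0)
    (hac : f a c = 0) (had : f a d = 0) (s t : F) :
    eich f (c + s • a) (d + t • a) = eich f a (t • c + s • d + (s * t) • a) * eich f c d := by
  have h1 : f (c + s • a) (d + t • a) = 0 := by
    simp only [hf.bilinear.add_left, hf.bilinear.add_right, hf.bilinear.smul_left,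
      hf.bilinear.smul_right, hcd, had, hf.alternating, Cfsg.Agent.Lib.Subspaces.SympGen.swap_eq_zero hf hac]
    ring
  have h2 : f a (t • c + s • d + (s * t) • a) = 0 := by
    simp only [hf.bilinear.add_right, hf.bilinear.smul_right, hac, had, hf.alternating]
    ring
  refine gl_ext fun x => ?_
  rw [gl_mul_mulVec, eich_mulVec hf hcd, eich_mulVec hf h1, eich_mulVec hf h2]
  simp only [hf.bilinear.add_left, hf.bilinear.add_right, hf.bilinear.smul_left, hf.bilinear.smul_right,
    hcd, hac, had, hf.alternating, Cfsg.Agent.Lib.Subspaces.SympGen.swap_eq_zero hf hac, Cfsg.Agent.Lib.Subspaces.SympGen.swap_eq_zero hf had,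
    Cfsg.Agent.Lib.Subspaces.SympGen.swap_eq_zero hf hcd]
  module

/-- The case where `a` is proportional to the component of `d`. -/
theorem centre_of_tail [Finite F] (hf : Cfsg.Geo.IsSymplecticForm f)
    (hD : Cfsg.Geo.IsMDecomposition m D) (hts : ∀ i, ∀ u ∈ D i, ∀ v ∈ D i, f u v = 0)
    (h2 : (2 : F) ≠ 0) {M : Subgroup (GL ι F)} {i j : Fin 2} (hij : i ≠ j)
    (hE : ∀ a ∈ D i, ∀ b ∈ D j, f a b = 0 → eich f a b ∈ M)
    {a c d : ι → F} (ha : a ∈ D i) (hcd : f c d = 0) (hcdM : eich f c d ∈ M)
    (hac : f a c = 0) (had : f a d = 0) {t : F} (ht : t ≠ 0) (hdt : comp hD i d = t • a)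
    (hc : comp hD i c ∉ Submodule.span F {a}) : SympCenter f M a := by
  obtain ⟨φ, hφ, hφc⟩ := exists_functional hc
  obtain ⟨b, hb, hbφ⟩ := exists_dual hf hD hts hij (-φ)
  have hji : j ≠ i := hij.symm
  have hab : f a b = 0 := by
    rw [hbφ a ha, neg_dotProduct, hφ a (Submodule.mem_span_singleton_self a), neg_zero]
  have hbc : f b c = 1 := by
    rw [form_comp hf hD hts hji hb, hf.skew, hbφ _ (comp_mem hD i c), neg_dotProduct,
      hφc, neg_neg]
  have hbd : f b d = 0 := by
    rw [form_comp hf hD hts hji hb, hdt, hf.bilinear.smul_right, Cfsg.Agent.Lib.Subspaces.SympGen.swap_eq_zero hf hab, mul_zero]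
  intro r
  set κ := r / (2 * t) with hκ
  have hcross := eich_cross hf (a := (-κ) • a) (by rw [hf.bilinear.smul_left, hab, mul_zero]) hcd
    (by rw [hf.bilinear.smul_left, hac, mul_zero]) (by rw [hf.bilinear.smul_left, had, mul_zero])
    hbd hbc (hE _ ((D i).smul_mem _ ha) b hb (by rw [hf.bilinear.smul_left, hab, mul_zero])) hcdM
  set w := comp hD j d
  have haw : f a w = 0 := by rw [← form_comp hf hD hts hij ha, had]
  have hd : d = w + t • a := by rw [← hdt, add_comm, comp_add hD hij]
  rw [neg_smul, neg_neg, hd, eich_tail hf haw κ t] at hcross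
  have h1 := hE (κ • a) ((D i).smul_mem _ ha) w (comp_mem hD j d)
    (by rw [hf.bilinear.smul_left, haw, mul_zero])
  have := M.mul_mem (M.inv_mem h1) hcross
  rwa [inv_mul_cancel_left, show 2 * κ * t = r by rw [hκ]; field_simp] at this

/-- A plane whose `D i`-components are independent gives a full centre in `D i`. -/
theorem centre_of_plane [Finite F] (hf : Cfsg.Geo.IsSymplecticForm f)
    (hD : Cfsg.Geo.IsMDecomposition m D) (hts : ∀ i, ∀ u ∈ D i, ∀ v ∈ D i, f u v = 0)
    (hm : 3 ≤ m) (h2 : (2 : F) ≠ 0) {M : Subgroup (GL ι F)} {i j : Fin 2} (hij : i ≠ j)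
    (hE : ∀ a ∈ D i, ∀ b ∈ D j, f a b = 0 → eich f a b ∈ M)
    {c d : ι → F} (hcd : f c d = 0) (hcdM : eich f c d ∈ M)
    (hc : comp hD i c ∉ Submodule.span F {comp hD i d}) (hd : comp hD i d ≠ 0) :
    ∃ a ∈ D i, a ≠ 0 ∧ SympCenter f M a := by
  classical
  set c0 := comp hD i c with hc0
  set d0 := comp hD i d with hd0
  obtain ⟨a, ha, haS, hac, had⟩ := exists_perp_in hf hD i (⊥ : Submodule F (ι → F)) c d
    (by rw [finrank_bot]; omega)
  have ha0 : a ≠ 0 := by simpa using haS
  refine ⟨a, ha, ha0, ?_⟩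
  have hc0' : c0 ≠ 0 := fun e => hc (by rw [e]; exact Submodule.zero_mem _)
  by_cases hA : a ∈ Submodule.span F {d0}
  · obtain ⟨s, hs⟩ := Submodule.mem_span_singleton.mp hA
    have hs0 : s ≠ 0 := fun e => ha0 (by rw [← hs, e, zero_smul])
    refine centre_of_tail hf hD hts h2 hij hE ha hcd hcdM hac had (inv_ne_zero hs0)
      (by rw [← hs, smul_smul, inv_mul_cancel₀ hs0, one_smul]) fun h => hc ?_
    exact (Submodule.span_singleton_le_iff_mem _ _).mpr hA h
  by_cases hB : a ∈ Submodule.span F {c0}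
  · obtain ⟨s, hs⟩ := Submodule.mem_span_singleton.mp hB
    have hs0 : s ≠ 0 := fun e => ha0 (by rw [← hs, e, zero_smul])
    refine centre_of_tail hf hD hts h2 hij hE ha (Cfsg.Agent.Lib.Subspaces.SympGen.swap_eq_zero hf hcd)
      (by rwa [← eich_symm hf hcd]) had hac (inv_ne_zero hs0)
      (by rw [← hs, smul_smul, inv_mul_cancel₀ hs0, one_smul]) fun h => ?_
    obtain ⟨u, hu⟩ := Submodule.mem_span_singleton.mp h
    have hu0 : u ≠ 0 := fun e => hd (show d0 = 0 by rw [hd0, ← hu, e, zero_smul])
    exact hA (Submodule.mem_span_singleton.mpr ⟨u⁻¹, by rw [hd0, ← hu, smul_smul, inv_mul_cancel₀ hu0, one_smul]⟩)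
  -- the values of a vector of `D j` on `c0` and `d0`
  obtain ⟨b, hb, hab, hw⟩ : ∃ b ∈ D j, f a b = 0 ∧
      f d0 b • c0 + f c0 b • d0 ∉ Submodule.span F {a} := by
    have hd0a : d0 ∉ Submodule.span F {a} := fun h => by
      obtain ⟨u, hu⟩ := Submodule.mem_span_singleton.mp h
      have hu0 : u ≠ 0 := fun e => hd (show d0 = 0 by rw [← hu, e, zero_smul])
      exact hA (Submodule.mem_span_singleton.mpr ⟨u⁻¹, by rw [← hu, smul_smul, inv_mul_cancel₀ hu0, one_smul]⟩)
    by_cases hC : c0 ∈ Submodule.span F {a, d0}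
    · obtain ⟨γ, δ, hγδ⟩ := Submodule.mem_span_pair.mp hC
      have hγ : γ ≠ 0 := fun e => hc (Submodule.mem_span_singleton.mpr ⟨δ, by rw [← hγδ, e, zero_smul, zero_add]⟩)
      have hδ : δ ≠ 0 := fun e => hB (Submodule.mem_span_singleton.mpr ⟨γ⁻¹, by
        rw [← hγδ, e, zero_smul, add_zero, smul_smul, inv_mul_cancel₀ hγ, one_smul]⟩)
      obtain ⟨φ, hφ, hφd⟩ := exists_functional hd0a
      obtain ⟨b, hb, hbφ⟩ := exists_dual hf hD hts hij φ
      have hab : f a b = 0 := by rw [hbφ a ha, hφ a (Submodule.mem_span_singleton_self a)]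
      have hdb : f d0 b = 1 := by rw [hbφ d0 (comp_mem hD i d), hφd]
      refine ⟨b, hb, hab, fun h => hd0a ?_⟩
      rw [← hγδ, hf.bilinear.add_left, hf.bilinear.smul_left, hf.bilinear.smul_left, hab, hdb,
        mul_zero, zero_add, mul_one, one_smul] at h
      have := Submodule.smul_mem _ (2 * δ)⁻¹
        (Submodule.sub_mem _ h (Submodule.smul_mem _ γ (Submodule.mem_span_singleton_self a)))
      rwa [show γ • a + δ • d0 + δ • d0 - γ • a = (2 * δ) • d0 by module, smul_smul,
        inv_mul_cancel₀ (mul_ne_zero h2 hδ), one_smul] at this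
    · obtain ⟨φ, hφ, hφc⟩ := exists_functional hC
      obtain ⟨b, hb, hbφ⟩ := exists_dual hf hD hts hij φ
      refine ⟨b, hb, by rw [hbφ a ha, hφ a (Submodule.subset_span (by simp))], ?_⟩
      rw [hbφ d0 (comp_mem hD i d), hφ d0 (Submodule.subset_span (by simp)),
        hbφ c0 (comp_mem hD i c), hφc, zero_smul, zero_add, one_smul]
      exact hd0a
  set s := f c b with hs
  set t := f d b with ht
  have hsc : f c0 b = s := by
    rw [hs, hf.skew c b, form_comp hf hD hts hij.symm hb, ← hf.skew, ← hc0]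
  have htd : f d0 b = t := by
    rw [ht, hf.skew d b, form_comp hf hD hts hij.symm hb, ← hf.skew, ← hd0]
  rw [hsc, htd] at hw
  have hT := hE a ha b hb hab
  have h1 : eich f (c + s • a) (d + t • a) ∈ M := by
    have hm := M.mul_mem (M.mul_mem hT hcdM) (M.inv_mem hT)
    rwa [conj_eich hf (eich_isometry hf a b), eich_mulVec hf hab, eich_mulVec hf hab,
      Cfsg.Agent.Lib.Subspaces.SympGen.swap_eq_zero hf hac,
      Cfsg.Agent.Lib.Subspaces.SympGen.swap_eq_zero hf had, zero_smul, add_zero, add_zero] at hm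
  rw [eich_shift hf hcd hac had] at h1
  set w := t • c + s • d + (s * t) • a with hwdef
  have haw : f a w = 0 := by
    rw [hwdef, hf.bilinear.add_right, hf.bilinear.add_right, hf.bilinear.smul_right,
      hf.bilinear.smul_right, hf.bilinear.smul_right, hac, had, hf.alternating]
    ring
  have hwM : eich f a w ∈ M := by simpa using M.mul_mem h1 (M.inv_mem hcdM)
  have hwi : comp hD i w ∉ Submodule.span F {a} := fun h => hw (by
    rw [hwdef, map_add, map_add, map_smul, map_smul, map_smul, comp_self hD ha, ← hc0, ← hd0] at h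
    simpa using Submodule.sub_mem _ h (Submodule.smul_mem _ (s * t) (Submodule.mem_span_singleton_self a)))
  obtain ⟨φ, hφ, hφw⟩ := exists_functional hwi
  obtain ⟨b', hb', hb'φ⟩ := exists_dual hf hD hts hij φ
  intro r
  have hab' : f a ((r / 2) • b') = 0 := by
    rw [hf.bilinear.smul_right, hb'φ a ha, hφ a (Submodule.mem_span_singleton_self a), mul_zero]
  have := tv_of_common_point hf hab' haw (hE a ha _ ((D j).smul_mem _ hb') hab') hwM
  have hwb : f w b' = 1 := by
    rw [hf.skew, form_comp hf hD hts hij.symm hb', ← hf.skew, hb'φ _ (comp_mem hD i w), hφw]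
  rwa [hf.bilinear.smul_right, hwb, mul_one, mul_div_cancel₀ r h2] at this

theorem centre_spread [Finite F] (hf : Cfsg.Geo.IsSymplecticForm f)
    (hD : Cfsg.Geo.IsMDecomposition m D) (hts : ∀ i, ∀ u ∈ D i, ∀ v ∈ D i, f u v = 0)
    {M : Subgroup (GL ι F)} {i j : Fin 2} (hij : i ≠ j)
    (hE : ∀ a ∈ D i, ∀ b ∈ D j, f a b = 0 → eich f a b ∈ M)
    {a : ι → F} (ha : a ∈ D i) (ha0 : a ≠ 0) (hC : SympCenter f M a) :
    ∀ u ∈ D i, SympCenter f M u := by
  intro u hu
  by_cases hmem : u ∈ Submodule.span F {a}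
  · obtain ⟨s, rfl⟩ := Submodule.mem_span_singleton.mp hmem
    exact sympCenter_smul hf hC s
  · have hnot : a ∉ Submodule.span F {u - a} := by
      intro h
      obtain ⟨s, hs⟩ := Submodule.mem_span_singleton.mp h
      have hs0 : s ≠ 0 := fun e => ha0 (by rw [← hs, e, zero_smul])
      refine hmem (Submodule.mem_span_singleton.mpr ⟨s⁻¹ + 1, ?_⟩)
      rw [add_smul, one_smul]
      nth_rw 1 [← hs]
      rw [smul_smul, inv_mul_cancel₀ hs0, one_smul, sub_add_cancel]
    obtain ⟨φ, hφ, hφa⟩ := exists_functional hnot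
    obtain ⟨b, hb, hbφ⟩ := exists_dual hf hD hts hij φ
    have hua : u - a ∈ D i := (D i).sub_mem hu ha
    have hab : f (u - a) b = 0 := by
      rw [hbφ _ hua, hφ _ (Submodule.mem_span_singleton_self _)]
    have h1 := sympCenter_conj hf hC (hE _ hua b hb hab) (eich_isometry hf _ _)
    rwa [eich_mulVec hf hab, hts i a ha _ hua, zero_smul, add_zero, hbφ a ha, hφa, one_smul,
      add_sub_cancel] at h1

/-- An isometry exchanging the two spaces. -/
theorem exists_swap [Finite F] (hf : Cfsg.Geo.IsSymplecticForm f)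
    (hD : Cfsg.Geo.IsMDecomposition m D) (hts : ∀ i, ∀ u ∈ D i, ∀ v ∈ D i, f u v = 0)
    {i j : Fin 2} (hij : i ≠ j) :
    ∃ T : GL ι F, (∀ x y, f ((T : Matrix ι ι F) *ᵥ x) ((T : Matrix ι ι F) *ᵥ y) = f x y) ∧
      (∀ x ∈ D i, (T : Matrix ι ι F) *ᵥ x ∈ D j) ∧ (∀ x ∈ D j, (T : Matrix ι ι F) *ᵥ x ∈ D i) := by
  have hl := isLinearLeft_of_bilinear hf.bilinear
  let b := Module.Basis.ofEquivFun (Module.finBasisOfFinrankEq F (D i) (hD.finrank_eq i)).equivFun
  have hδ : ∀ k, ∃ d ∈ D j, ∀ u : D i, f (u : ι → F) d = b.repr u k := by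
    intro k
    let L : (ι → F) →ₗ[F] F :=
      b.coord k ∘ₗ (comp hD i).codRestrict (D i) (comp_mem hD i)
    obtain ⟨d, hd, hdL⟩ := exists_dual hf hD hts hij ((dotProductEquiv F ι).symm L)
    refine ⟨d, hd, fun u => ?_⟩
    rw [hdL _ u.2, ← dotProductEquiv_apply_apply, LinearEquiv.apply_symm_apply]
    show b.repr ((comp hD i).codRestrict (D i) (comp_mem hD i) (u : ι → F)) k = b.repr u k
    congr 2
    exact Subtype.ext (comp_self hD u.2)
  choose d hd hdδ using hδ
  have hexp : ∀ x, x = ∑ k, (f x (d k) • (b k : ι → F) - f x (b k : ι → F) • d k) := by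
    intro x
    have hsum0 : comp hD i x = ∑ k, f x (d k) • (b k : ι → F) := by
      have h1 := congrArg (fun u : D i => (u : ι → F)) (b.sum_repr ⟨comp hD i x, comp_mem hD i x⟩)
      simp only [Submodule.coe_sum, Submodule.coe_smul] at h1
      rw [← h1]
      refine Finset.sum_congr rfl fun k _ => ?_
      rw [← hdδ k, hf.skew x (d k), form_comp hf hD hts hij.symm (hd k), ← hf.skew]
    have hsum1 : comp hD j x = -∑ k, f x (b k : ι → F) • d k := by
      rw [eq_neg_iff_add_eq_zero]
      set e := comp hD j x + ∑ k, f x (b k : ι → F) • d k with he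
      have heD : e ∈ D j := (D j).add_mem (comp_mem hD j x)
        ((D j).sum_mem fun k _ => (D j).smul_mem _ (hd k))
      have hbe : ∀ l, f (b l : ι → F) e = 0 := by
        intro l
        let R : (ι → F) →ₗ[F] F :=
          { toFun := fun y => f (b l : ι → F) y
            map_add' := hf.bilinear.add_right _
            map_smul' := fun c y => by simpa using hf.bilinear.smul_right c _ y }
        show R e = 0
        rw [he, map_add, map_sum, Finset.sum_eq_single l]
        · show f _ (comp hD j x) + R (f x (b l : ι → F) • d l) = 0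
          rw [map_smul]
          show _ + f x (b l : ι → F) • f (b l : ι → F) (d l) = 0
          rw [hdδ, b.repr_self, Finsupp.single_eq_same, smul_eq_mul, mul_one,
            ← form_comp hf hD hts hij (b l).2, hf.skew x, add_neg_cancel]
        · intro k _ hk
          rw [map_smul]
          show _ • f (b l : ι → F) (d k) = 0
          rw [hdδ, b.repr_self, Finsupp.single_eq_of_ne hk, smul_zero]
        · simp
      by_contra hne
      obtain ⟨⟨y, hy⟩, -⟩ := hf.nondegenerate e hne
      apply hy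
      rw [hf.skew, form_comp hf hD hts hij.symm heD, ← hf.skew]
      let L : (ι → F) →ₗ[F] F :=
        { toFun := fun z => f z e
          map_add' := fun z w => hf.bilinear.add_left z w e
          map_smul' := fun c z => by simpa using hf.bilinear.smul_left c z e }
      have h1 := congrArg (fun u : D i => L (u : ι → F))
        (b.sum_repr ⟨comp hD i y, comp_mem hD i y⟩)
      simp only [Submodule.coe_sum, Submodule.coe_smul, map_sum, map_smul] at h1
      show L (comp hD i y) = 0
      rw [← h1]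
      exact Finset.sum_eq_zero fun k _ => by
        show _ • f _ e = 0
        rw [hbe k, smul_zero]
    conv_lhs => rw [← comp_add hD hij x, hsum0, hsum1]
    rw [Finset.sum_sub_distrib]
    abel
  let G : (ι → F) →ₗ[F] (ι → F) :=
    { toFun := fun x => ∑ k, (f x (d k) • d k + f x (b k : ι → F) • (b k : ι → F))
      map_add' := fun x y => by
        simp only [hf.bilinear.add_left, add_smul]
        rw [← Finset.sum_add_distrib]
        exact Finset.sum_congr rfl fun k _ => by abel
      map_smul' := fun c x => by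
        simp only [hf.bilinear.smul_left, RingHom.id_apply, Finset.smul_sum, smul_add, smul_smul] }
  have hGd : ∀ x k, f (G x) (b k : ι → F) = - f x (d k) := by
    intro x k
    let L : (ι → F) →ₗ[F] F :=
      { toFun := fun y => f y (b k : ι → F)
        map_add' := fun y z => hf.bilinear.add_left y z _
        map_smul' := fun c y => by simpa using hf.bilinear.smul_left c y _ }
    show L (∑ l, (f x (d l) • d l + f x (b l : ι → F) • (b l : ι → F))) = _
    rw [map_sum, Finset.sum_eq_single k]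
    · rw [map_add, map_smul, map_smul]
      show _ • f (d k) _ + _ • f _ _ = _
      rw [hf.skew (d k), hdδ, b.repr_self, Finsupp.single_eq_same, hf.alternating, smul_zero,
        add_zero, smul_eq_mul, mul_neg, mul_one]
    · intro l _ hl'
      rw [map_add, map_smul, map_smul]
      show _ • f (d l) _ + _ • f _ _ = _
      rw [hf.skew (d l), hdδ, b.repr_self, Finsupp.single_eq_of_ne hl',
        hts i _ (b l).2 _ (b k).2, neg_zero, smul_zero, smul_zero, add_zero]
    · simp
  have hGb : ∀ x k, f (G x) (d k) = f x (b k : ι → F) := by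
    intro x k
    let L : (ι → F) →ₗ[F] F :=
      { toFun := fun y => f y (d k)
        map_add' := fun y z => hf.bilinear.add_left y z _
        map_smul' := fun c y => by simpa using hf.bilinear.smul_left c y _ }
    show L (∑ l, (f x (d l) • d l + f x (b l : ι → F) • (b l : ι → F))) = _
    rw [map_sum, Finset.sum_eq_single k]
    · rw [map_add, map_smul, map_smul]
      show _ • f (d k) _ + _ • f _ _ = _
      rw [hdδ, b.repr_self, Finsupp.single_eq_same, hf.alternating, smul_zero, zero_add,
        smul_eq_mul, mul_one]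
    · intro l _ hl'
      rw [map_add, map_smul, map_smul]
      show _ • f (d l) _ + _ • f _ _ = _
      rw [hts j _ (hd l) _ (hd k), hdδ, b.repr_self, Finsupp.single_eq_of_ne (Ne.symm hl'),
        smul_zero, smul_zero, add_zero]
    · simp
  have hiso : ∀ x y, f (G x) (G y) = f x y := by
    intro x y
    let R : ∀ z, (ι → F) →ₗ[F] F := fun z =>
      { toFun := f z
        map_add' := hf.bilinear.add_right z
        map_smul' := fun c w => by simpa using hf.bilinear.smul_right c z w }
    show R (G x) (∑ k, (f y (d k) • d k + f y (b k : ι → F) • (b k : ι → F))) = R x y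
    conv_rhs => rw [hexp y]
    rw [map_sum, map_sum]
    refine Finset.sum_congr rfl fun k _ => ?_
    rw [map_add, map_sub, map_smul, map_smul, map_smul, map_smul]
    show _ • f (G x) _ + _ • f (G x) _ = _ • f x _ - _ • f x _
    rw [hGb, hGd, smul_neg, sub_eq_add_neg]
  have hinj : Function.Injective G := by
    intro x y hxy
    by_contra hne
    obtain ⟨-, z, hz⟩ := hf.nondegenerate (x - y) (sub_ne_zero.mpr hne)
    exact hz (by rw [← hiso, map_sub, hxy, sub_self, form_zero_left hl])
  refine ⟨glOfEquiv (LinearEquiv.ofBijective G ⟨hinj, LinearMap.injective_iff_surjective.mp hinj⟩),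
    fun x y => by rw [glOfEquiv_mulVec, glOfEquiv_mulVec]; exact hiso x y,
    fun x hx => ?_, fun x hx => ?_⟩
  · rw [glOfEquiv_mulVec]
    show (∑ k, (f x (d k) • d k + f x (b k : ι → F) • (b k : ι → F))) ∈ D j
    refine (D j).sum_mem fun k _ => ?_
    rw [hts i x hx _ (b k).2, zero_smul, add_zero]
    exact (D j).smul_mem _ (hd k)
  · rw [glOfEquiv_mulVec]
    show (∑ k, (f x (d k) • d k + f x (b k : ι → F) • (b k : ι → F))) ∈ D i
    refine (D i).sum_mem fun k _ => ?_
    rw [hts j x hx _ (hd k), zero_smul, zero_add]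
    exact (D i).smul_mem _ (b k).2

theorem centers_all [Finite F] (hf : Cfsg.Geo.IsSymplecticForm f)
    (hD : Cfsg.Geo.IsMDecomposition m D) (hts : ∀ i, ∀ u ∈ D i, ∀ v ∈ D i, f u v = 0)
    (hm : 3 ≤ m) (h2 : (2 : F) ≠ 0) {M : Subgroup (GL ι F)}
    (hMS : ∀ g ∈ M, ∀ x y, f ((g : Matrix ι ι F) *ᵥ x) ((g : Matrix ι ι F) *ᵥ y) = f x y)
    (hP : ∀ g : GL ι F, g ∈ Cfsg.Geo.decompositionStabilizer D →
      (∀ x y, f ((g : Matrix ι ι F) *ᵥ x) ((g : Matrix ι ι F) *ᵥ y) = f x y) → g ∈ M)
    {g : GL ι F} (hgM : g ∈ M) (hg : g ∉ Cfsg.Geo.decompositionStabilizer D) :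
    ∀ z : ι → F, SympCenter f M z := by
  classical
  have hl := isLinearLeft_of_bilinear hf.bilinear
  have h01 : (0 : Fin 2) ≠ 1 := by decide
  have hother : ∀ i : Fin 2, ∃ j, i ≠ j := fun i => ⟨i + 1, by fin_cases i <;> decide⟩
  have hthird : ∀ {i j l : Fin 2}, i ≠ j → l ≠ i → l = j := by decide
  have hE : ∀ {i j : Fin 2}, i ≠ j → ∀ a ∈ D i, ∀ b ∈ D j, f a b = 0 → eich f a b ∈ M := by
    intro i j hij a ha b hb hab
    refine hP _ (mem_stabilizer_of_fix fun l => mem_subspaceStabilizer_iff.mpr fun x hx => ?_)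
      (eich_isometry hf a b)
    rw [eich_mulVec hf hab]
    by_cases hl : l = i
    · subst hl
      rw [hts l x hx a ha, zero_smul, add_zero]
      exact (D l).add_mem hx ((D l).smul_mem _ ha)
    · obtain rfl := hthird hij hl
      rw [hts l x hx b hb, zero_smul, add_zero]
      exact (D l).add_mem hx ((D l).smul_mem _ hb)
  -- a centre in one of the two spaces
  obtain ⟨i, a, ha, ha0, haC⟩ : ∃ i, ∃ a ∈ D i, a ≠ 0 ∧ SympCenter f M a := by
    by_contra hc
    apply hg
    have hgood : ∀ c d, f c d = 0 → eich f c d ∈ M → ∀ i,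
        comp hD i c ∈ Submodule.span F {comp hD i d} ∨ comp hD i d = 0 := by
      intro c d hcd hcdM i
      by_contra h
      push Not at h
      obtain ⟨j, hij⟩ := hother i
      obtain ⟨a, ha, ha0, haC⟩ := centre_of_plane hf hD hts hm h2 hij (hE hij) hcd hcdM h.1 h.2
      exact hc ⟨i, a, ha, ha0, haC⟩
    refine mem_stabilizer_of_mapsTo hD fun i => ?_
    obtain ⟨j, hij⟩ := hother i
    -- every vector of the block goes into one of the two blocks
    have hone : ∀ a ∈ D i, ∀ l, comp hD l ((g : Matrix ι ι F) *ᵥ a) ≠ 0 →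
        (g : Matrix ι ι F) *ᵥ a ∈ D l := by
      intro a ha l hl'
      refine mem_of_comp_eq_zero hD fun k hkl => ?_
      by_contra hk
      obtain ⟨b, hb, hb0, hab, -⟩ := exists_perp_in hf hD j (⊥ : Submodule F (ι → F)) a a
        (by rw [finrank_bot]; omega)
      obtain ⟨b', hb', hb'S, hab'⟩ := exists_perp_one hf hD j (Submodule.span F {b}) a
        (by rw [finrank_span_singleton (by simpa using hb0)]; omega)
      set x := (g : Matrix ι ι F) *ᵥ a with hx
      have key : ∀ p ∈ D j, f p a = 0 → ∀ r : Fin 2, ∃ s : F,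
          comp hD r ((g : Matrix ι ι F) *ᵥ p) = s • comp hD r x := by
        intro p hp hpa r
        have hM' : eich f ((g : Matrix ι ι F) *ᵥ p) x ∈ M := by
          rw [hx, ← conj_eich hf (hMS g hgM), eich_symm hf hpa]
          exact M.mul_mem (M.mul_mem hgM (hE hij a ha p hp (swap_eq_zero hf hpa))) (M.inv_mem hgM)
        have hx0 : comp hD r x ≠ 0 := by
          by_cases hr : r = l
          · rw [hr]; exact hl'
          · rwa [hthird (Ne.symm hkl) hr]
        rcases hgood _ x (by rw [hx, hMS g hgM]; exact hpa) hM' r with h | h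
        · obtain ⟨s, hs⟩ := Submodule.mem_span_singleton.mp h
          exact ⟨s, hs.symm⟩
        · exact absurd h hx0
      obtain ⟨s, hs⟩ := key b hb hab l
      obtain ⟨t, ht⟩ := key b hb hab k
      obtain ⟨s', hs'⟩ := key b' hb' hab' l
      obtain ⟨t', ht'⟩ := key b' hb' hab' k
      have hy : ∀ (p : ι → F) (s t : F), comp hD l ((g : Matrix ι ι F) *ᵥ p) = s • comp hD l x →
          comp hD k ((g : Matrix ι ι F) *ᵥ p) = t • comp hD k x →
          (g : Matrix ι ι F) *ᵥ p = s • comp hD l x + t • comp hD k x := by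
        intro p s t h1 h2
        rw [← h1, ← h2, comp_add hD (Ne.symm hkl)]
      have e1 := hy b s t hs ht
      have e2 := hy b' s' t' hs' ht'
      have hb0' : b ≠ 0 := by simpa using hb0
      have hst : s ≠ t := by
        intro e
        have hgb : (g : Matrix ι ι F) *ᵥ b = s • x := by
          rw [e1, e, ← smul_add, comp_add hD (Ne.symm hkl)]
        have hmem : b = s • a := gl_mulVec_injective g (by
          simp only [mulVec_smul]; rw [hgb, hx])
        apply hb0'
        rw [← comp_self hD hb, hmem, map_smul, comp_other hD hij.symm ha, smul_zero]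
      have hxm : (g : Matrix ι ι F) *ᵥ b' =
          (g : Matrix ι ι F) *ᵥ (((s' - t') / (s - t)) • b + ((t' * s - s' * t) / (s - t)) • a) := by
        have hd : s - t ≠ 0 := sub_ne_zero.mpr hst
        rw [mulVec_add, mulVec_smul, mulVec_smul, e2, e1, ← hx]
        conv_rhs => arg 2; rw [← comp_add hD (Ne.symm hkl) x]
        match_scalars <;> field_simp <;> ring
      have heq := congrArg (comp hD j) (gl_mulVec_injective g hxm)
      rw [map_add, map_smul, map_smul, comp_self hD hb', comp_self hD hb,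
        comp_other hD hij.symm ha, smul_zero, add_zero] at heq
      exact hb'S (Submodule.mem_span_singleton.mpr ⟨_, heq.symm⟩)
    obtain ⟨v, hv, hv0⟩ := Submodule.exists_mem_ne_zero_of_ne_bot (block_ne_bot hD i)
    obtain ⟨l, hlv⟩ : ∃ l, comp hD l ((g : Matrix ι ι F) *ᵥ v) ≠ 0 := by
      by_contra h
      push Not at h
      refine hv0 (gl_mulVec_injective g ?_)
      show (g : Matrix ι ι F) *ᵥ v = (g : Matrix ι ι F) *ᵥ 0
      rw [mulVec_zero, ← sum_comp hD ((g : Matrix ι ι F) *ᵥ v)]
      exact Finset.sum_eq_zero fun l _ => h l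
    refine ⟨l, fun x hx => ?_⟩
    by_contra hxl
    obtain ⟨k, hk, hkx⟩ : ∃ k, k ≠ l ∧ comp hD k ((g : Matrix ι ι F) *ᵥ x) ≠ 0 := by
      by_contra h
      push Not at h
      exact hxl (mem_of_comp_eq_zero hD h)
    have hvk := hone v hv l hlv
    have hxk := hone x hx k hkx
    have hsum : comp hD k ((g : Matrix ι ι F) *ᵥ (v + x)) ≠ 0 := by
      rw [mulVec_add, map_add, comp_other hD hk hvk, zero_add]; exact hkx
    have := hone (v + x) ((D i).add_mem hv hx) k hsum
    apply hlv
    have h3 : comp hD l ((g : Matrix ι ι F) *ᵥ (v + x)) = 0 := comp_other hD (Ne.symm hk) this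
    rwa [mulVec_add, map_add, comp_other hD (Ne.symm hk) hxk, add_zero] at h3
  obtain ⟨j, hij⟩ := hother i
  have hCi := centre_spread hf hD hts hij (hE hij) ha ha0 haC
  obtain ⟨T, hT, hTi, hTj⟩ := exists_swap hf hD hts hij
  have hTM : T ∈ M := hP T (mem_stabilizer_of_mapsTo hD fun l => by
    by_cases hl : l = i
    · exact ⟨j, hl ▸ hTi⟩
    · exact ⟨i, (hthird hij hl) ▸ hTj⟩) hT
  have hCj : ∀ u ∈ D j, SympCenter f M u := centre_spread hf hD hts hij.symm (hE hij.symm)
    (hTi a ha) (fun e => ha0 (gl_mulVec_injective T (by simpa using e)))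
    (sympCenter_conj hf haC hTM hT)
  intro z
  set z0 := comp hD i z with hz0
  set z1 := comp hD j z with hz1
  have hz0m : z0 ∈ D i := comp_mem hD i z
  have hz1m : z1 ∈ D j := comp_mem hD j z
  rw [← comp_add hD hij z, ← hz0, ← hz1]
  rcases eq_or_ne z0 0 with he | he
  · rw [he, zero_add]; exact hCj z1 hz1m
  by_cases hzz : f z0 z1 = 0
  · obtain ⟨⟨y, hy⟩, -⟩ := hf.nondegenerate z0 he
    have hy' : f z0 (comp hD j y) ≠ 0 := by
      rw [← form_comp hf hD hts hij hz0m]
      exact fun e => hy (Cfsg.Agent.Lib.Subspaces.SympGen.swap_eq_zero hf e)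
    set u := comp hD j y with hu
    have hum : u ∈ D j := comp_mem hD j y
    have h1 := sympCenter_add_smul hf (hCj u hum) (hCi z0 hz0m) hy' 1
    have h3 := sympCenter_add_smul hf (hCj (z1 - u) ((D j).sub_mem hz1m hum)) h1 (by
      rw [one_smul, hf.bilinear.add_left, hts j u hum _ ((D j).sub_mem hz1m hum), add_zero]
      have := hf.bilinear.add_right z0 (z1 - u) u
      rw [sub_add_cancel, hzz] at this
      intro e
      rw [e, zero_add] at this
      exact hy' this.symm) 1
    rwa [one_smul, one_smul, add_assoc, add_sub_cancel] at h3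
  · have := sympCenter_add_smul hf (hCj z1 hz1m) (hCi z0 hz0m) hzz 1
    rwa [one_smul] at this


/-- Generalisation of the statement to small dimensions. -/
theorem maximal {F : Type*} [Field F] [Fintype F] (m : ℕ) (hm : 3 ≤ m) (hodd : Odd (Fintype.card F)) (D : Fin 2 → Submodule F (Fin m ⊕ Fin m → F)) (hD : Cfsg.Geo.IsMDecomposition m D) (hts : ∀ i, Cfsg.Geo.IsTotallySingularFor (Cfsg.sympForm m F) (D i)) : Cfsg.Geo.IsMaximalIn (Cfsg.spGL m F) (Cfsg.Geo.decompositionStabilizer D ⊓ Cfsg.spGL m F) := by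
  have hf := sympForm_isSymplectic (F := F) m
  have h2 : (2 : F) ≠ 0 := Ring.two_ne_zero fun h => by
    have := FiniteField.even_card_iff_char_two.mp h
    exact Nat.not_even_iff_odd.mpr hodd (Nat.even_iff.mpr this)
  refine isMaximalIn_of inf_le_right ?_ ?_
  · obtain ⟨a, ha, ha0⟩ := Submodule.exists_mem_ne_zero_of_ne_bot (block_ne_bot hD 0)
    refine ⟨_, stv_mem_spGL a 1, fun h => ?_⟩
    obtain ⟨z, hz⟩ := (hf.nondegenerate a ha0).1
    obtain ⟨σ, hσ⟩ := exists_image_of_mem h.1
    set z1 := comp hD 1 z with hz1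
    have hzm : z1 ∈ D 1 := comp_mem hD 1 z
    have hz1a : Cfsg.sympForm m F z1 a ≠ 0 := fun e => hz (by
      rw [hf.skew, form_comp hf hD hts (show (0 : Fin 2) ≠ 1 by decide) ha, ← hz1, ← hf.skew]
      exact e)
    have h0 := hσ 0 a ha
    have h1 := hσ 1 z1 hzm
    rw [stv_mulVec hf, hf.alternating, mul_zero, zero_smul, add_zero] at h0
    rw [stv_mulVec hf, one_mul] at h1
    have hσ0 : σ 0 = 0 := by
      by_contra hne
      exact ha0 (by rw [← comp_self hD ha, comp_other hD (Ne.symm hne) h0])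
    have hσ1 : σ 1 = 1 := by
      by_contra hne
      have h10 : σ 1 = 0 := by omega
      exact absurd (σ.injective (hσ0.trans h10.symm)) (by decide)
    rw [hσ1] at h1
    have h3 := (D 1).smul_mem (Cfsg.sympForm m F z1 a)⁻¹ ((D 1).sub_mem h1 hzm)
    rw [add_sub_cancel_left, smul_smul, inv_mul_cancel₀ hz1a, one_smul] at h3
    exact ha0 (by rw [← comp_self hD ha, comp_other hD (show (0 : Fin 2) ≠ 1 by decide) h3])
  intro M hHM hMK g hgM hgH
  exact spGL_le (centers_all hf hD hts (by omega) h2 (fun h hh => mem_spGL_iff.mp (hMK hh))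
    (fun h h1 h2 => hHM ⟨h1, mem_spGL_iff.mpr h2⟩) hgM fun h => hgH ⟨h, hMK hgM⟩)


/-- For a finite field F of odd order and m ≥ 7, let D be a decomposition of F^(2m) into two complementary subspaces of dimension m on each of which the standard alternating form vanishes identically. Then the elements of Sp_2m(F) preserving or interchanging the two subspaces form a maximal subgroup of Sp_2m(F). -/
theorem result {F : Type*} [Field F] [Fintype F] (m : ℕ) (hm : 7 ≤ m) (hodd : Odd (Fintype.card F)) (D : Fin 2 → Submodule F (Fin m ⊕ Fin m → F)) (hD : Cfsg.Geo.IsMDecomposition m D) (hts : ∀ i, Cfsg.Geo.IsTotallySingularFor (Cfsg.sympForm m F) (D i)) : Cfsg.Geo.IsMaximalIn (Cfsg.spGL m F) (Cfsg.Geo.decompositionStabilizer D ⊓ Cfsg.spGL m F) :=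
  maximal m (by omega) hodd D hD hts

end Cfsg.Agent.S5649
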