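import Cfsg.Statements.S5650
import Cfsg.Agent.Lib.SubfieldMax.Symplectic
import Cfsg.Agent.Lib.SubfieldMax.Mem
-- import your own Cfsg.Agent.* helpers here

set_option autoImplicit false
open Cfsg

namespace Cfsg.Agent.S5650

open Matrix Cfsg.Agent.Lib.Subspaces.Transvection Cfsg.Agent.Lib.Subspaces.FormVec
  Cfsg.Agent.Lib.Subspaces.SympGen Cfsg.Agent.Lib.SubfieldMax.Linear
  Cfsg.Agent.Lib.SubfieldMax.RatLin Cfsg.Agent.Lib.SubfieldMax.Form Cfsg.Agent.Lib.SubfieldMax.Symplectic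

/-- Generalisation of the statement to small dimensions. -/
theorem maximal {F : Type*} [Field F] [Fintype F] (m : ℕ) (hm : 3 ≤ m) (F₀ : Subfield F) (r : ℕ) (hr : r.Prime) (hcard : Fintype.card F = Nat.card F₀ ^ r) (P : Matrix.GeneralLinearGroup (Fin m ⊕ Fin m) F) (ζ : F) (hζ : ζ ≠ 0) (hP : Cfsg.Geo.IsFormRationalStructure (Cfsg.sympForm m F) F₀ ζ P) : Cfsg.Geo.IsMaximalIn (Cfsg.spGL m F) (Cfsg.Geo.subfieldSubgroup F₀ P ⊓ Cfsg.spGL m F) := by
  classical
  set ι := Fin m ⊕ Fin m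
  set f := Cfsg.sympForm m F
  have hf : Cfsg.Geo.IsSymplecticForm f := sympForm_isSymplectic m
  let f' : (ι → F) → (ι → F) → F := fun u v =>
    ζ * f ((P : Matrix ι ι F) *ᵥ u) ((P : Matrix ι ι F) *ᵥ v)
  have hf' : Cfsg.Geo.IsSymplecticForm f' := by
    refine ⟨⟨fun x y v => ?_, fun c x v => ?_, fun v x y => ?_, fun c v x => ?_⟩, fun v w => ?_, fun v => ?_,
      fun v hv => ?_⟩
    · simp only [f', mulVec_add, hf.bilinear.add_left, mul_add]
    · simp only [f', mulVec_smul, hf.bilinear.smul_left]; ring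
    · simp only [f', mulVec_add, hf.bilinear.add_right, mul_add]
    · simp only [f', mulVec_smul, hf.bilinear.smul_right]; ring
    · simp only [f']; rw [hf.skew]; ring
    · simp only [f', hf.alternating, mul_zero]
    · have hv' : (P : Matrix ι ι F) *ᵥ v ≠ 0 := fun e => hv (gl_mulVec_injective P (by simpa using e))
      obtain ⟨⟨x, hx⟩, ⟨y, hy⟩⟩ := hf.nondegenerate _ hv'
      refine ⟨⟨((P⁻¹ : GL ι F) : Matrix ι ι F) *ᵥ x, ?_⟩, ⟨((P⁻¹ : GL ι F) : Matrix ι ι F) *ᵥ y, ?_⟩⟩
      · simp only [f', gl_mulVec_inv]; exact mul_ne_zero hζ hx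
      · simp only [f', gl_mulVec_inv]; exact mul_ne_zero hζ hy
  have hrat : ∀ u v, Rat F₀ u → Rat F₀ v → f' u v ∈ F₀ := fun u v hu hv => hP u v hu hv
  let c := (MulAut.conj P).toMonoidHom
  have hconj : ∀ (g : GL ι F) (u : ι → F), ((c g : GL ι F) : Matrix ι ι F) *ᵥ ((P : Matrix ι ι F) *ᵥ u) =
      (P : Matrix ι ι F) *ᵥ ((g : Matrix ι ι F) *ᵥ u) := by
    intro g u
    show ((P * g * P⁻¹ : GL ι F) : Matrix ι ι F) *ᵥ _ = _
    rw [gl_mul_mulVec, gl_mul_mulVec, gl_inv_mulVec]
  have hsp : ∀ g : GL ι F, c g ∈ Cfsg.spGL m F ↔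
      ∀ u v, f' ((g : Matrix ι ι F) *ᵥ u) ((g : Matrix ι ι F) *ᵥ v) = f' u v := by
    intro g
    rw [mem_spGL_iff]
    constructor
    · intro h u v
      simp only [f', ← hconj g]
      exact congrArg (ζ * ·) (h _ _)
    · intro h u v
      have := h (((P⁻¹ : GL ι F) : Matrix ι ι F) *ᵥ u) (((P⁻¹ : GL ι F) : Matrix ι ι F) *ᵥ v)
      simp only [f', ← hconj g, gl_mulVec_inv] at this
      exact mul_left_cancel₀ hζ this
  have hTsp : ∀ v a, c (tv v (a • formVec f' v)) ∈ Cfsg.spGL m F := fun v a =>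
    (hsp _).2 fun u w => stv_isometry hf' v a u w
  have hsub : ∀ g : GL ι F, c g ∈ Cfsg.Geo.subfieldSubgroup F₀ P ↔ RatUpTo F₀ g := by
    intro g
    rw [Cfsg.Agent.Lib.SubfieldMax.Mem.mem_sub_iff]
    rw [show P⁻¹ * c g * P = g by show P⁻¹ * (P * g * P⁻¹) * P = g; group]
  have hcard' : Nat.card F = Nat.card F₀ ^ r := by rw [Nat.card_eq_fintype_card, hcard]
  obtain ⟨l, hl⟩ : ∃ l : F, l ∉ F₀ := by
    by_contra hall
    push Not at hall
    have : Nat.card F₀ = Nat.card F := Nat.card_congr (Equiv.subtypeUnivEquiv hall)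
    rw [← this] at hcard'
    exact hr.ne_one (Nat.pow_right_injective (Finite.one_lt_card (α := F₀)) (hcard'.symm.trans (pow_one _).symm))
  have hl' : IsLinearLeft f' := isLinearLeft_of_bilinear hf'.bilinear
  refine isMaximalIn_of inf_le_right ?_ ?_
  · let i0 : ι := Sum.inl ⟨0, by omega⟩
    set e : ι → F := Pi.single i0 1
    have he : Rat F₀ e := Rat.single _ (one_mem _)
    have he0 : e ≠ 0 := by simp [e]
    obtain ⟨z, hz, hz1, -⟩ := exists_dot_both (fun i => hrat _ _ (Rat.single i (one_mem _)) he)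
      (fun i => hrat _ _ (Rat.single i (one_mem _)) he)
      (formVec_ne_zero hl' hf'.nondegenerate he0) (formVec_ne_zero hl' hf'.nondegenerate he0)
    replace hz1 : f' z e ≠ 0 := by rw [← formVec_dot hl']; exact hz1
    refine ⟨c (tv e (l • formVec f' e)), hTsp e l, fun hmem => ?_⟩
    obtain ⟨d, hd, hent⟩ := (hsub _).1 hmem.1
    have hvec : ∀ v, Rat F₀ v → Rat F₀ (d • (((tv e (l • formVec f' e) : GL ι F) : Matrix ι ι F) *ᵥ v)) :=
      fun v hv i => by
        rw [Pi.smul_apply, smul_eq_mul, mulVec, dotProduct, Finset.mul_sum]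
        exact sum_mem fun j _ => by rw [← mul_assoc]; exact mul_mem (hent i j) (hv j)
    have h1 := hvec e he i0
    have hdF : d ∈ F₀ := by
      simpa [stv_mulVec hf', hf'.alternating, e] using h1
    have h2 := sub_mem (hvec z hz i0) (mul_mem hdF (hz i0))
    simp [stv_mulVec hf', e, mul_add] at h2
    apply hl
    have h3 := mul_mem (mul_mem h2 (inv_mem (mul_mem hdF (hrat z e hz he)))) (one_mem F₀)
    convert h3 using 1
    have : f' z (Pi.single i0 1) ≠ 0 := hz1
    rw [mul_one, show f' z e = f' z (Pi.single i0 1) from rfl]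
    field_simp
  · intro M hHM hMK g hgM hgH
    have S : Setting F₀ f' (M.comap c) := by
      refine ⟨hf', hrat, fun x hx => (hsp x).1 (hMK hx), fun v hv a ha => hHM ⟨(hsub _).2 ⟨1, one_ne_zero,
        fun i j => ?_⟩, hTsp v a⟩, ?_⟩
      · rw [one_mul, coe_tv (stv_dot hf' v a), Matrix.add_apply, vecMulVec_apply]
        refine add_mem ?_ (mul_mem (hv i) (mul_mem ha (hrat _ _ (Rat.single j (one_mem _)) hv)))
        by_cases hij : i = j
        · subst hij; rw [Matrix.one_apply_eq]; exact one_mem _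
        · rw [Matrix.one_apply_ne hij]; exact zero_mem _
      · show 6 ≤ Fintype.card (Fin m ⊕ Fin m)
        simp; omega
    by_cases hG : GoodS F₀ f' (M.comap c)
    · have hall := S.all_of_good hr hcard' hG
      intro x hx
      obtain ⟨y, rfl⟩ : ∃ y, c y = x := (MulAut.conj P).surjective x
      exact Cfsg.Agent.Lib.Subspaces.SympGen.mem_of_isometry hf' (M := M.comap c) hall ((hsp y).1 hx)
    · obtain ⟨y, rfl⟩ : ∃ y, c y = g := (MulAut.conj P).surjective g
      exact absurd ⟨(hsub y).2 (S.rational_of_not_good hG hgM), hMK hgM⟩ hgH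


/-- For a finite field F, a subfield F₀ with |F| = |F₀| ^ r for a prime r, and m ≥ 7, let P be an invertible matrix and ζ a non-zero scalar such that ζ times the standard alternating form takes values in F₀ on the F₀-span of the columns of P. Then the elements of Sp_2m(F) lying in the subfield group of P (the conjugate by P of the product of GL_2m(F₀) with the scalars) form a maximal subgroup of Sp_2m(F). -/
theorem result {F : Type*} [Field F] [Fintype F] (m : ℕ) (hm : 7 ≤ m) (F₀ : Subfield F) (r : ℕ) (hr : r.Prime) (hcard : Fintype.card F = Nat.card F₀ ^ r) (P : Matrix.GeneralLinearGroup (Fin m ⊕ Fin m) F) (ζ : F) (hζ : ζ ≠ 0) (hP : Cfsg.Geo.IsFormRationalStructure (Cfsg.sympForm m F) F₀ ζ P) : Cfsg.Geo.IsMaximalIn (Cfsg.spGL m F) (Cfsg.Geo.subfieldSubgroup F₀ P ⊓ Cfsg.spGL m F) :=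
  maximal m (by omega) F₀ r hr hcard P ζ hζ hP

end Cfsg.Agent.S5650
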