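import Cfsg.Statements.S5652
import Cfsg.Agent.Lib.Subspaces.SympCenters

set_option autoImplicit false
open Cfsg

namespace Cfsg.Agent.S5652

open Matrix Cfsg.Agent.Lib.Subspaces.Transvection Cfsg.Agent.Lib.Subspaces.FormVec
  Cfsg.Agent.Lib.Subspaces.SympGen Cfsg.Agent.Lib.Subspaces.SympCenters

variable {ι : Type} [Fintype ι] [DecidableEq ι] {F : Type*} [Field F] [Finite F]
  {f : (ι → F) → (ι → F) → F} {Q : (ι → F) → F}

theorem qexp (hQ : ∀ (c : F) (v : ι → F), Q (c • v) = c ^ 2 * Q v)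
    (hpol : ∀ u v, QuadraticMap.polar Q u v = f u v) (hf : Cfsg.Geo.IsSymplecticForm f)
    (u v : ι → F) (c : F) : Q (u + c • v) = Q u + c * f u v + c ^ 2 * Q v := by
  have := hpol u (c • v)
  rw [QuadraticMap.polar, hf.bilinear.smul_right, hQ] at this
  linear_combination this

theorem two_eq_zero (h2 : ringChar F = 2) : (2 : F) = 0 := by
  have : CharP F 2 := ringChar.of_eq h2
  exact CharTwo.two_eq_zero

theorem exists_singular (hQ : ∀ (c : F) (v : ι → F), Q (c • v) = c ^ 2 * Q v)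
    (hpol : ∀ u v, QuadraticMap.polar Q u v = f u v) (hf : Cfsg.Geo.IsSymplecticForm f)
    (h2 : ringChar F = 2) (hn : 3 ≤ Fintype.card ι) : ∃ x, x ≠ 0 ∧ Q x = 0 := by
  obtain ⟨v, hv, -⟩ := exists_common_zero_not_mem (⊥ : Submodule F (ι → F)) (k := 0) ![]
    (by simp only [finrank_bot]; omega)
  have hv0 : v ≠ 0 := by simpa using hv
  by_cases hQv : Q v = 0
  · exact ⟨v, hv0, hQv⟩
  obtain ⟨w, hw, hfw⟩ := exists_common_zero_not_mem (Submodule.span F {v}) ![formVec f v]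
    (by rw [finrank_span_singleton hv0]; omega)
  have hwv : f w v = 0 := by
    simpa [formVec_dot (isLinearLeft_of_bilinear hf.bilinear)] using hfw 0
  obtain ⟨c, hc⟩ := FiniteField.isSquare_of_char_two h2 (Q w / Q v)
  refine ⟨w + c • v, fun e => hw ?_, ?_⟩
  · rw [add_eq_zero_iff_eq_neg.mp e]
    exact Submodule.neg_mem _ (Submodule.smul_mem _ _ (Submodule.mem_span_singleton_self v))
  · rw [qexp hQ hpol hf, hwv, pow_two, ← hc, div_mul_cancel₀ _ hQv]
    linear_combination Q w * two_eq_zero h2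

theorem not_orth_exists (hQ : ∀ (c : F) (v : ι → F), Q (c • v) = c ^ 2 * Q v)
    (hpol : ∀ u v, QuadraticMap.polar Q u v = f u v) (hf : Cfsg.Geo.IsSymplecticForm f)
    (h2 : ringChar F = 2) (hn : 3 ≤ Fintype.card ι) :
    ∃ (v : ι → F) (a : F), tv v (a • formVec f v) ∉ Cfsg.Geo.quadSimilarityGroup Q := by
  obtain ⟨x, hx0, hQx⟩ := exists_singular hQ hpol hf h2 hn
  refine ⟨x, 1, fun ⟨c, hc⟩ => ?_⟩
  obtain ⟨⟨z, hz⟩, -⟩ := hf.nondegenerate x hx0
  have hone := hc z
  rw [stv_mulVec hf, one_mul, qexp hQ hpol hf, hQx, mul_zero, add_zero] at hone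
  have htwo := hc ((f z x)⁻¹ • z + x)
  rw [stv_mulVec hf, one_mul, hf.bilinear.add_left, hf.bilinear.smul_left, hf.alternating,
    inv_mul_cancel₀ hz, add_zero, one_smul, show (f z x)⁻¹ • z + x + x = (f z x)⁻¹ • z + (1 + 1 : F) • x by module,
    qexp hQ hpol hf, hQx, mul_zero, add_zero,
    show (f z x)⁻¹ • z + x = (f z x)⁻¹ • z + (1 : F) • x by rw [one_smul],
    qexp hQ hpol hf, hQx, mul_zero, add_zero, hf.bilinear.smul_left, inv_mul_cancel₀ hz, hQ,
    mul_one] at htwo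
  field_simp at htwo
  have h' : ((c : F) - 1) * f z x ^ 2 = 0 := by linear_combination hone - htwo
  have hc1 : (c : F) = 1 := sub_eq_zero.mp ((mul_eq_zero.mp h').resolve_right (pow_ne_zero 2 hz))
  rw [hc1] at hone
  exact pow_ne_zero 2 hz (by linear_combination hone)

theorem refl_isometry (hQ : ∀ (c : F) (v : ι → F), Q (c • v) = c ^ 2 * Q v)
    (hpol : ∀ u v, QuadraticMap.polar Q u v = f u v) (hf : Cfsg.Geo.IsSymplecticForm f)
    (h2 : ringChar F = 2) {w : ι → F} (hw : Q w ≠ 0) (x : ι → F) :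
    Q ((tv w ((Q w)⁻¹ • formVec f w) : Matrix ι ι F) *ᵥ x) = Q x := by
  rw [stv_mulVec hf, qexp hQ hpol hf]
  field_simp
  linear_combination f x w ^ 2 * two_eq_zero h2

theorem le_of_not_orth (hQ : ∀ (c : F) (v : ι → F), Q (c • v) = c ^ 2 * Q v)
    (hpol : ∀ u v, QuadraticMap.polar Q u v = f u v) (hf : Cfsg.Geo.IsSymplecticForm f)
    (h2 : ringChar F = 2) (hn : 3 ≤ Fintype.card ι) {M : Subgroup (GL ι F)}
    (hMS : ∀ g ∈ M, ∀ x y, f ((g : Matrix ι ι F) *ᵥ x) ((g : Matrix ι ι F) *ᵥ y) = f x y)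
    (hM : ∀ w, Q w ≠ 0 → tv w ((Q w)⁻¹ • formVec f w) ∈ M)
    {g : GL ι F} (hgM : g ∈ M) (hg : ∃ w, Q ((g : Matrix ι ι F) *ᵥ w) ≠ Q w) :
    ∀ (v : ι → F) (a : F), tv v (a • formVec f v) ∈ M := by
  have e2 := two_eq_zero h2
  -- a transvection in `M` with singular centre
  have step1 : ∀ h ∈ M, ∀ w, Q w ≠ 0 → Q ((h : Matrix ι ι F) *ᵥ w) = 0 →
      ∃ (x : ι → F) (c : F), Q x = 0 ∧ x ≠ 0 ∧ c ≠ 0 ∧ tv x (c • formVec f x) ∈ M := by
    intro h hh w hw hs
    refine ⟨_, (Q w)⁻¹, hs, fun e => ?_, inv_ne_zero hw, ?_⟩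
    · have : w = 0 := gl_mulVec_injective h (by simpa using e)
      exact hw (by rw [this, ← zero_smul F (0 : ι → F), hQ]; ring)
    · rw [← conj_stv hf (hMS h hh)]
      exact M.mul_mem (M.mul_mem hh (hM w hw)) (M.inv_mem hh)
  have step2 : ∀ h ∈ M, (∃ z, Q z = 0 ∧ Q ((h : Matrix ι ι F) *ᵥ z) ≠ 0) →
      ∃ (x : ι → F) (c : F), Q x = 0 ∧ x ≠ 0 ∧ c ≠ 0 ∧ tv x (c • formVec f x) ∈ M := fun h hh ⟨z, hz, hz'⟩ =>
    step1 h⁻¹ (M.inv_mem hh) _ hz' (by rwa [gl_inv_mulVec])
  obtain ⟨x0, hx00, hx0⟩ := exists_singular hQ hpol hf h2 hn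
  -- a singular vector not orthogonal to a given non-zero vector
  have hnear : ∀ v, v ≠ 0 → ∃ x, Q x = 0 ∧ f v x ≠ 0 := by
    intro v hv
    by_cases h : f v x0 ≠ 0
    · exact ⟨x0, hx0, h⟩
    push Not at h
    obtain ⟨z, hzv, hzx⟩ := exists_nonorth_both hf hv hx00
    refine ⟨z + (Q z / f z x0) • x0, ?_, ?_⟩
    · rw [qexp hQ hpol hf, hx0, div_mul_cancel₀ _ hzx]
      linear_combination Q z * e2
    · rw [hf.bilinear.add_right, hf.bilinear.smul_right, h, mul_zero, add_zero]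
      exact fun e => hzv (swap_eq_zero hf e)
  have step3 : ∃ (x : ι → F) (c : F), Q x = 0 ∧ x ≠ 0 ∧ c ≠ 0 ∧ tv x (c • formVec f x) ∈ M := by
    obtain ⟨w, hw⟩ := hg
    by_cases hw0 : Q w = 0
    · exact step2 g hgM ⟨w, hw0, fun e => hw (by rw [e, hw0])⟩
    by_cases hgw : Q ((g : Matrix ι ι F) *ᵥ w) = 0
    · exact step1 g hgM w hw0 hgw
    set x := (g : Matrix ι ι F) *ᵥ w with hxdef
    have hx : x ≠ 0 := fun e => hgw (by rw [e, ← zero_smul F (0 : ι → F), hQ]; ring)
    set c := (Q w)⁻¹ + (Q x)⁻¹ with hcdef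
    have hcM : tv x (c • formVec f x) ∈ M := by
      rw [hcdef, add_smul, ← tv_mul_center (stv_dot hf x _) (stv_dot hf x _)]
      refine M.mul_mem ?_ (hM x hgw)
      rw [hxdef, ← conj_stv hf (hMS g hgM)]
      exact M.mul_mem (M.mul_mem hgM (hM w hw0)) (M.inv_mem hgM)
    have hc0 : c ≠ 0 := fun e => hw (by
      rw [hcdef] at e
      have he : (Q w)⁻¹ = (Q x)⁻¹ := by linear_combination e - (Q x)⁻¹ * e2
      exact (inv_inj.mp he).symm)
    obtain ⟨z, hz, hxz⟩ := hnear x hx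
    have hzx : f z x ≠ 0 := fun e => hxz (swap_eq_zero hf e)
    refine step2 _ hcM ⟨z, hz, ?_⟩
    rw [stv_mulVec hf, qexp hQ hpol hf, hz, zero_add]
    have : c * f z x * f z x + (c * f z x) ^ 2 * Q x = f z x ^ 2 * c * (1 + c * Q x) := by ring
    rw [this]
    refine mul_ne_zero (mul_ne_zero (pow_ne_zero 2 hzx) hc0) fun e => ?_
    rw [hcdef, add_mul, inv_mul_cancel₀ hgw] at e
    have : (Q w)⁻¹ * Q x = 0 := by linear_combination e - e2
    exact mul_ne_zero (inv_ne_zero hw0) hgw this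
  -- `O(Q)` moves any singular vector to any other
  have htrans : ∀ x y, Q x = 0 → Q y = 0 → x ≠ 0 → y ≠ 0 →
      ∃ h ∈ M, (h : Matrix ι ι F) *ᵥ x = y := by
    have hdirect : ∀ x y, Q x = 0 → Q y = 0 → f x y ≠ 0 →
        ∃ h ∈ M, (h : Matrix ι ι F) *ᵥ x = y := by
      intro x y hx hy hxy
      have hs : Q (x + y) = f x y := by
        have := qexp hQ hpol hf x y 1
        rw [one_smul, hx, hy] at this
        rw [this]; ring
      refine ⟨_, hM (x + y) (by rwa [hs]), ?_⟩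
      rw [stv_mulVec hf, hs, hf.bilinear.add_right, hf.alternating, zero_add,
        inv_mul_cancel₀ hxy, one_smul, ← add_assoc,
        show x + x + y = (1 + 1 : F) • x + y by module, one_add_one_eq_two, e2, zero_smul,
        zero_add]
    intro x y hx hy hx0' hy0'
    by_cases hxy : f x y = 0
    · obtain ⟨z, hzx, hzy⟩ := exists_nonorth_both hf hx0' hy0'
      set z' := z + (Q z / f z x) • x with hz'
      have hzs : Q z' = 0 := by
        rw [hz', qexp hQ hpol hf, hx, div_mul_cancel₀ _ hzx]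
        linear_combination Q z * e2
      obtain ⟨h1, h1M, h1x⟩ := hdirect x z' hx hzs (fun e => hzx (by
        rw [hz', hf.bilinear.add_right, hf.bilinear.smul_right, hf.alternating, mul_zero,
          add_zero] at e
        exact swap_eq_zero hf e))
      obtain ⟨h2', h2M, h2x⟩ := hdirect z' y hzs hy (by
        rw [hz', hf.bilinear.add_left, hf.bilinear.smul_left, hxy, mul_zero, add_zero]
        exact hzy)
      exact ⟨h2' * h1, M.mul_mem h2M h1M, by rw [gl_mul_mulVec, h1x, h2x]⟩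
    · exact hdirect x y hx hy hxy
  have hsing : ∀ y, Q y = 0 → SympCenter f M y := by
    intro y hy a
    rcases eq_or_ne y 0 with rfl | hy0
    · rw [tv_zero_left]; exact M.one_mem
    rcases eq_or_ne a 0 with rfl | ha
    · rw [zero_smul, tv_zero_right]; exact M.one_mem
    obtain ⟨x, c, hx, hx0', hc, hxc⟩ := step3
    obtain ⟨s, hs⟩ := FiniteField.isSquare_of_char_two h2 (a / c)
    have hs0 : s ≠ 0 := fun e => div_ne_zero ha hc (by rw [hs, e, mul_zero])
    obtain ⟨h, hh, hhx⟩ := htrans x (s • y) hx (by rw [hQ, hy, mul_zero]) hx0'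
      (smul_ne_zero hs0 hy0)
    have := M.mul_mem (M.mul_mem hh hxc) (M.inv_mem hh)
    rw [conj_stv hf (hMS h hh), hhx] at this
    have h0 : (c • formVec f (s • y)) ⬝ᵥ y = 0 := by
      rw [formVec_smul hf, smul_smul]; exact stv_dot hf y _
    rw [tv_smul h0, formVec_smul hf, smul_smul, smul_smul] at this
    convert this using 3
    have : a = c * (s * s) := by rw [← hs, mul_div_cancel₀ a hc]
    rw [this]; ring
  intro v
  by_cases hv : v = 0
  · subst hv; exact sympCenter_zero M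
  obtain ⟨x, hx, hvx⟩ := hnear v hv
  have hy : Q (v + (Q v / f v x) • x) = 0 := by
    rw [qexp hQ hpol hf, hx, div_mul_cancel₀ _ hvx]
    linear_combination Q v * e2
  have := sympCenter_add_smul hf (hsing x hx) (hsing _ hy)
    (by rw [hf.bilinear.add_left, hf.bilinear.smul_left, hf.alternating, mul_zero, add_zero]
        exact hvx) (-(Q v / f v x))
  rwa [neg_smul, add_neg_cancel_right] at this


/-- Generalisation of the statement to small dimensions. -/
theorem maximal {F : Type*} [Field F] [Fintype F] (m : ℕ) (hm : 2 ≤ m) (heven : ¬ Odd (Fintype.card F)) (Q : (Fin m ⊕ Fin m → F) → F) (hQ : Cfsg.Geo.IsNondegenerateQuadraticForm Q) (hpol : ∀ u v, QuadraticMap.polar Q u v = Cfsg.sympForm m F u v) : Cfsg.Geo.IsMaximalIn (Cfsg.spGL m F) (Cfsg.Geo.quadSimilarityGroup Q ⊓ Cfsg.spGL m F) := by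
  have h2 : ringChar F = 2 := by
    by_contra h
    exact heven (Nat.odd_iff.mpr (FiniteField.odd_card_of_char_ne_two h))
  have hf := sympForm_isSymplectic (F := F) m
  have hn : 3 ≤ Fintype.card (Fin m ⊕ Fin m) := by simp; omega
  refine isMaximalIn_of inf_le_right ?_ ?_
  · obtain ⟨v, a, hva⟩ := not_orth_exists hQ.smul hpol hf h2 hn
    exact ⟨_, stv_mem_spGL v a, fun h => hva h.1⟩
  intro M hHM hMK g hgM hgH
  refine spGL_le (le_of_not_orth hQ.smul hpol hf h2 hn (fun h hh => mem_spGL_iff.mp (hMK hh))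
    (fun w hw => hHM ⟨⟨1, fun x => by rw [refl_isometry hQ.smul hpol hf h2 hw, Units.val_one,
      one_mul]⟩, stv_mem_spGL w _⟩) hgM ?_)
  by_contra hc
  push Not at hc
  exact hgH ⟨⟨1, fun x => by rw [hc x, Units.val_one, one_mul]⟩, hMK hgM⟩


/-- For a finite field F of characteristic two and m ≥ 7, let Q be a non-degenerate quadratic form on F^(2m) whose polar form is the standard alternating form. Then the elements of Sp_2m(F) that are similarities of Q (they are exactly the isometries of Q) form a maximal subgroup of Sp_2m(F). -/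
theorem result {F : Type*} [Field F] [Fintype F] (m : ℕ) (hm : 7 ≤ m) (heven : ¬ Odd (Fintype.card F)) (Q : (Fin m ⊕ Fin m → F) → F) (hQ : Cfsg.Geo.IsNondegenerateQuadraticForm Q) (hpol : ∀ u v, QuadraticMap.polar Q u v = Cfsg.sympForm m F u v) : Cfsg.Geo.IsMaximalIn (Cfsg.spGL m F) (Cfsg.Geo.quadSimilarityGroup Q ⊓ Cfsg.spGL m F) :=
  maximal m (by omega) heven Q hQ hpol

end Cfsg.Agent.S5652
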