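import Cfsg.Statements.S5653
import Cfsg.Agent.Lib.Subspaces.UnitaryGen

set_option autoImplicit false
open Cfsg

namespace Cfsg.Agent.S5653

open Matrix Cfsg.Agent.Lib.Subspaces.Transvection Cfsg.Agent.Lib.Subspaces.FormVec
  Cfsg.Agent.Lib.Subspaces.UnitaryForm Cfsg.Agent.Lib.Subspaces.UnitaryGen

variable {ι : Type} [Fintype ι] [DecidableEq ι] {F : Type*} [Field F] [Finite F]
  {σ : F ≃+* F} {f : (ι → F) → (ι → F) → F}

theorem centers_all (hf : Cfsg.Geo.IsUnitaryForm σ f) (hn : 4 ≤ Fintype.card ι)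
    {M : Subgroup (GL ι F)}
    (hMS : ∀ g ∈ M, ∀ x y, f ((g : Matrix ι ι F) *ᵥ x) ((g : Matrix ι ι F) *ᵥ y) = f x y)
    {W : Submodule F (ι → F)} (hW : ∀ u ∈ W, ∀ v ∈ W, f u v = 0)
    (hP : ∀ g : GL ι F, g ∈ Cfsg.Geo.subspaceStabilizer W →
      (∀ x y, f ((g : Matrix ι ι F) *ᵥ x) ((g : Matrix ι ι F) *ᵥ y) = f x y) →
      g ∈ Cfsg.Geo.specialLinear ι F → g ∈ M)
    {g : GL ι F} (hgM : g ∈ M) (hg : g ∉ Cfsg.Geo.subspaceStabilizer W) :
    ∀ z : ι → F, f z z = 0 → UnitCenter σ f M z := by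
  obtain ⟨e, he0, he⟩ := exists_skew_scalar hf
  have hfix : ∀ u, f u u = 0 → (u ∈ W ∨ ∀ w ∈ W, f u w = 0) → ∀ a : F,
      tv u (a • formVec f u) ∈ Cfsg.Geo.subspaceStabilizer W := by
    intro u hu hor a
    rw [mem_subspaceStabilizer_iff]
    intro w hw
    rw [utv_mulVec hf hu]
    rcases hor with h | h
    · exact W.add_mem hw (W.smul_mem _ h)
    · rw [swap_eq_zero hf (h w hw), mul_zero, zero_smul, add_zero]; exact hw
  have hperp : ∀ u, f u u = 0 → (∀ w ∈ W, f u w = 0) → UnitCenter σ f M u := fun u hu h =>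
    ⟨hu, fun a ha => hP _ (hfix u hu (Or.inr h) a) (utv_isometry hf hu ha) (tv_mem_specialLinear _ _)⟩
  -- a centre that is not orthogonal to `W`
  obtain ⟨v, hvC, hv⟩ : ∃ v, UnitCenter σ f M v ∧ ∃ w ∈ W, f v w ≠ 0 := by
    by_contra hc
    push Not at hc
    apply hg
    let S : Submodule F (ι → F) := Submodule.span F {u | f u u = 0 ∧ ∀ w ∈ W, f u w = 0}
    have hSmap : g ∈ Cfsg.Geo.subspaceStabilizer S := mem_subspaceStabilizer_iff.mpr fun u hu => by
      induction hu using Submodule.span_induction with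
      | mem u h =>
        have := unitCenter_conj hf (hperp u h.1 h.2) hgM (hMS g hgM)
        exact Submodule.subset_span ⟨this.1, hc _ this⟩
      | zero => rw [mulVec_zero]; exact S.zero_mem
      | add a b _ _ ha hb => rw [mulVec_add]; exact S.add_mem ha hb
      | smul c a _ ha => rw [mulVec_smul]; exact S.smul_mem c ha
    have hSperp : ∀ x ∈ S, ∀ w ∈ W, f x w = 0 := by
      intro x hx w hw
      induction hx using Submodule.span_induction with
      | mem u h => exact h.2 w hw
      | zero => exact herm_zero_left hf w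
      | add a b _ _ ha hb => rw [hf.add_left, ha, hb, add_zero]
      | smul c a _ ha => rw [hf.smul_left, ha, mul_zero]
    rw [mem_subspaceStabilizer_iff]
    intro w hw
    set x := (g : Matrix ι ι F) *ᵥ w with hxdef
    have hxS : x ∈ S := mem_subspaceStabilizer_iff.mp hSmap w
      (Submodule.subset_span ⟨hW w hw w hw, fun u hu => hW w hw u hu⟩)
    have hxperp : ∀ y ∈ S, f y x = 0 := by
      intro y hy
      rw [hxdef, isometry_inv (hMS g hgM)]
      exact hSperp _ (mem_subspaceStabilizer_iff.mp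
        ((Cfsg.Geo.subspaceStabilizer S).inv_mem hSmap) y hy) w hw
    have hxx : f x x = 0 := hxperp x hxS
    by_contra hxW
    obtain ⟨t, ht, htx⟩ := dual_right hf hxW
    obtain ⟨a, -, ha⟩ := exists_isotropic_shift hf hxx (z := t)
      (by rw [hf.herm, htx, map_one]; exact one_ne_zero)
    have htS : t + a • x ∈ S := Submodule.subset_span
      ⟨ha, fun u hu => by rw [hf.add_left, hf.smul_left, ht u hu, hSperp x hxS u hu]; ring⟩
    have := hxperp _ htS
    rw [hf.add_left, hf.smul_left, htx, hxx, mul_zero, add_zero] at this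
    exact one_ne_zero this
  -- Siegel moves
  have hmove1 : ∀ a ∈ W, ∀ b, f b b = 0 → f b a = 0 → ∀ x, UnitCenter σ f M x → f x a = 1 →
      ∃ μ : F, UnitCenter σ f M (x + e • b + μ • a) := by
    intro a ha b hb hba x hx hxa
    have haa : f a a = 0 := hW a ha a ha
    have hab : f a b = 0 := swap_eq_zero hf hba
    have habiso : f (a + b) (a + b) = 0 := by
      rw [hf.add_left, add_right hf, add_right hf, haa, hab, hba, hb]; ring
    have he' : (-e) + σ (-e) = 0 := by rw [map_neg]; linear_combination -he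
    set E : GL ι F := tv (a + b) (e • formVec f (a + b)) * tv a ((-e) • formVec f a) *
      tv b ((-e) • formVec f b) with hE
    have hEx : ∀ y, (E : Matrix ι ι F) *ᵥ y = y + (e * f y a) • b + (e * f y b) • a := by
      intro y
      rw [hE, gl_mul_mulVec, gl_mul_mulVec, utv_mulVec hf hb, utv_mulVec hf haa,
        utv_mulVec hf habiso]
      simp only [hf.add_left, add_right hf, hf.smul_left, haa, hab, hba, hb]
      module
    have hEiso : ∀ y y', f ((E : Matrix ι ι F) *ᵥ y) ((E : Matrix ι ι F) *ᵥ y') = f y y' := by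
      intro y y'
      rw [hE, gl_mul_mulVec, gl_mul_mulVec, gl_mul_mulVec, gl_mul_mulVec, utv_isometry hf habiso he,
        utv_isometry hf haa he', utv_isometry hf hb he']
    have hEM : E ∈ M := by
      refine hP E (mem_subspaceStabilizer_iff.mpr fun w hw => ?_) hEiso ?_
      · rw [hEx, hW w hw a ha, mul_zero, zero_smul, add_zero]
        exact W.add_mem hw (W.smul_mem _ ha)
      · exact mul_mem (mul_mem (tv_mem_specialLinear _ _) (tv_mem_specialLinear _ _))
          (tv_mem_specialLinear _ _)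
    refine ⟨e * f x b, ?_⟩
    have := unitCenter_conj hf hx hEM hEiso
    rwa [hEx, hxa, mul_one] at this
  have hmove : ∀ a ∈ W, ∀ b, f b a = 0 → ∀ x, UnitCenter σ f M x → f x a = 1 →
      ∃ μ : F, UnitCenter σ f M (x + e • b + μ • a) := by
    intro a ha b hba x hx hxa
    by_cases hbW : b ∈ Submodule.span F {a}
    · obtain ⟨c, rfl⟩ := Submodule.mem_span_singleton.mp hbW
      exact hmove1 a ha _ (by rw [hf.smul_left, smul_right hf, hW a ha a ha, mul_zero, mul_zero])
        hba x hx hxa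
    · obtain ⟨u, huu, hus, hub⟩ := exists_isotropic hf ![a] (z := b)
        (by rwa [Matrix.range_cons, Matrix.range_empty, Set.union_empty]) (by omega)
      have hua : f u a = 0 := hus 0
      obtain ⟨l, -, hl⟩ := exists_isotropic_shift hf huu (z := b) (by rw [hub]; exact one_ne_zero)
      obtain ⟨μ1, h1⟩ := hmove1 a ha (b + l • u) hl
        (by rw [hf.add_left, hf.smul_left, hba, hua, mul_zero, add_zero]) x hx hxa
      have hxa' : f (x + e • (b + l • u) + μ1 • a) a = 1 := by
        simp [hf.add_left, hf.smul_left, hxa, hba, hua, hW a ha a ha]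
      obtain ⟨μ2, h2⟩ := hmove1 a ha ((-l) • u)
        (by rw [hf.smul_left, smul_right hf, huu, mul_zero, mul_zero])
        (by rw [hf.smul_left, hua, mul_zero]) _ h1 hxa'
      refine ⟨μ1 + μ2, ?_⟩
      rwa [show x + e • (b + l • u) + μ1 • a + e • ((-l) • u) + μ2 • a =
        x + e • b + (μ1 + μ2) • a by module] at h2
  intro z hz
  by_cases hzW : ∀ w ∈ W, f z w = 0
  · exact hperp z hz hzW
  push Not at hzW
  obtain ⟨x, hxC, a, ha, hxa, hza⟩ : ∃ x, UnitCenter σ f M x ∧
      ∃ a ∈ W, f x a = 1 ∧ f z a = 1 := by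
    obtain ⟨w, hw, hvw⟩ := hv
    obtain ⟨a1, ha1, hva1⟩ : ∃ a1 ∈ W, f v a1 = 1 :=
      ⟨(σ (f v w))⁻¹ • w, W.smul_mem _ hw,
        by rw [smul_right hf, map_inv₀, hf.involutive, inv_mul_cancel₀ hvw]⟩
    by_cases hdep : ∀ a ∈ W, f v a = 0 → f z a = 0
    · have hl : f z a1 ≠ 0 := by
        intro h0
        obtain ⟨w', hw', hzw'⟩ := hzW
        have := hdep (w' - σ (f v w') • a1) (W.sub_mem hw' (W.smul_mem _ ha1))
          (by rw [sub_right hf, smul_right hf, hf.involutive, hva1, mul_one, sub_self])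
        rw [sub_right hf, smul_right hf, h0, mul_zero, sub_zero] at this
        exact hzw' this
      refine ⟨f z a1 • v, unitCenter_smul hf hvC _, (σ (f z a1))⁻¹ • a1, W.smul_mem _ ha1, ?_, ?_⟩
      · rw [hf.smul_left, smul_right hf, map_inv₀, hf.involutive, hva1, mul_one, mul_inv_cancel₀ hl]
      · rw [smul_right hf, map_inv₀, hf.involutive, inv_mul_cancel₀ hl]
    · push Not at hdep
      obtain ⟨a2, ha2, hva2, hza2⟩ := hdep
      refine ⟨v, hvC, a1 + σ ((1 - f z a1) / f z a2) • a2, W.add_mem ha1 (W.smul_mem _ ha2), ?_, ?_⟩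
      · rw [add_right hf, smul_right hf, hva1, hva2, mul_zero, add_zero]
      · rw [add_right hf, smul_right hf, hf.involutive, div_mul_cancel₀ _ hza2, add_sub_cancel]
  obtain ⟨μ, hμ⟩ := hmove a ha (e⁻¹ • (z - x)) (by
    rw [hf.smul_left, form_sub_left (isLinearLeft_of_unitary hf), hza, hxa, sub_self, mul_zero])
    x hxC hxa
  rw [smul_smul, mul_inv_cancel₀ he0, one_smul, add_sub_cancel] at hμ
  have haz : f a z = 1 := by rw [hf.herm, hza, map_one]
  have hμ0 : μ + σ μ = 0 := by
    have := hμ.1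
    rw [expand_add_smul hf, hz, haz, mul_one, hW a ha a ha, mul_zero, add_zero, zero_add] at this
    exact this
  have haC : UnitCenter σ f M a := hperp a (hW a ha a ha) fun w hw => hW a ha w hw
  have := unitCenter_move hf haC hμ (a := -μ) (by rw [map_neg]; linear_combination -hμ0)
  rwa [hf.add_left, hf.smul_left, hza, hW a ha a ha, mul_zero, add_zero, mul_one, neg_smul,
    add_neg_cancel_right] at this


/-- The same for `n ≥ 4`. -/
theorem maximal_of_four {F : Type*} [Field F] [Fintype F] (n q : ℕ) (hF : Fintype.card F = q ^ 2) (hn : 4 ≤ n) (W : Submodule F (Fin n → F)) (hW0 : W ≠ ⊥) (hW : Cfsg.Geo.IsTotallySingularFor (Cfsg.hermForm n F q) W) : Cfsg.Geo.IsMaximalIn (Cfsg.GU n F q ⊓ Cfsg.Geo.specialLinear (Fin n) F) (Cfsg.Geo.subspaceStabilizer W ⊓ (Cfsg.GU n F q ⊓ Cfsg.Geo.specialLinear (Fin n) F)) := by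
  have hf := hermForm_isUnitary (n := n) hF
  have hcard : 4 ≤ Fintype.card (Fin n) := by rw [Fintype.card_fin]; omega
  refine isMaximalIn_of inf_le_right ?_ ?_
  · obtain ⟨w, hw, hw0⟩ := Submodule.exists_mem_ne_zero_of_ne_bot hW0
    obtain ⟨v, hv, hvw⟩ := exists_isotropic_one hf (by omega) hw0
    obtain ⟨e, he0, he⟩ := exists_skew_scalar hf
    refine ⟨_, utv_mem_SU hF hv he, fun h => ?_⟩
    have h1 := mem_subspaceStabilizer_iff.mp h.1 w hw
    have hwv : Cfsg.hermForm n F q w v = 1 := by rw [hf.herm, hvw, map_one]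
    rw [utv_mulVec hf hv, hwv, mul_one] at h1
    have h2 : v ∈ W := by
      simpa [smul_smul, he0] using W.smul_mem e⁻¹ (W.sub_mem h1 hw)
    exact one_ne_zero (hvw.symm.trans (hW v h2 w hw))
  intro M hHM hMK g hgM hgH
  refine su_le hF (by omega) (centers_all hf hcard (fun h hh => mem_GU_iff'.mp (hMK hh).1) hW
    (fun h h1 h2 h3 => hHM ⟨h1, mem_GU_iff'.mpr h2, h3⟩) hgM fun h => hgH ⟨h, hMK hgM⟩)

theorem maximal_of_ten {F : Type*} [Field F] [Fintype F] (n q : ℕ) (hF : Fintype.card F = q ^ 2) (hn : 10 ≤ n) (W : Submodule F (Fin n → F)) (hW0 : W ≠ ⊥) (hW : Cfsg.Geo.IsTotallySingularFor (Cfsg.hermForm n F q) W) : Cfsg.Geo.IsMaximalIn (Cfsg.GU n F q ⊓ Cfsg.Geo.specialLinear (Fin n) F) (Cfsg.Geo.subspaceStabilizer W ⊓ (Cfsg.GU n F q ⊓ Cfsg.Geo.specialLinear (Fin n) F)) :=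
  maximal_of_four n q hF (by omega) W hW0 hW

/-- Let F be the field with q² elements and n ≥ 13, and let SU_n(q) be the group of matrices of determinant one preserving the standard unitary form Σ u_i v_i^q on F^n (the intersection of the unitary group GU_n with the kernel of the determinant). The elements of SU_n(q) stabilising a non-zero subspace on which the form vanishes identically form a maximal subgroup of SU_n(q). -/
theorem result {F : Type*} [Field F] [Fintype F] (n q : ℕ) (hF : Fintype.card F = q ^ 2) (hn : 13 ≤ n) (W : Submodule F (Fin n → F)) (hW0 : W ≠ ⊥) (hW : Cfsg.Geo.IsTotallySingularFor (Cfsg.hermForm n F q) W) : Cfsg.Geo.IsMaximalIn (Cfsg.GU n F q ⊓ Cfsg.Geo.specialLinear (Fin n) F) (Cfsg.Geo.subspaceStabilizer W ⊓ (Cfsg.GU n F q ⊓ Cfsg.Geo.specialLinear (Fin n) F)) :=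
  maximal_of_ten n q hF (by omega) W hW0 hW

end Cfsg.Agent.S5653
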