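import Cfsg.Statements.S5654
import Cfsg.Agent.Lib.Subspaces.UnitarySplit

set_option autoImplicit false
open Cfsg

namespace Cfsg.Agent.S5654

open Matrix Cfsg.Agent.Lib.Subspaces.Transvection Cfsg.Agent.Lib.Subspaces.FormVec
  Cfsg.Agent.Lib.Subspaces.UnitaryForm Cfsg.Agent.Lib.Subspaces.UnitaryGen
  Cfsg.Agent.Lib.Subspaces.UnitarySplit Cfsg.Agent.Lib.Unitary

variable {F : Type*} [Field F] [Fintype F] {q n : ℕ}

local notation "𝕗" => Cfsg.hermForm n F q

theorem centers_all (hF : Fintype.card F = q ^ 2) {W : Submodule F (Fin n → F)}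
    (hW : Nondeg q W) (hdim : 2 * Module.finrank F W < n) (hn : 6 ≤ n)
    {M : Subgroup (GL (Fin n) F)} (hMS : M ≤ Cfsg.GU n F q)
    (hP : ∀ g : GL (Fin n) F, g ∈ Cfsg.Geo.subspaceStabilizer W → g ∈ Cfsg.GU n F q →
      g ∈ Cfsg.Geo.specialLinear (Fin n) F → g ∈ M)
    {g : GL (Fin n) F} (hgM : g ∈ M) (hg : g ∉ Cfsg.Geo.subspaceStabilizer W) :
    ∀ z, Cfsg.hermForm n F q z z = 0 → UnitCenter (powAut hF) (Cfsg.hermForm n F q) M z := by
  have hf := hermForm_isUnitary (n := n) hF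
  set U := perp q W with hUdef
  have hU : Nondeg q U := nondeg_perp hF hW
  have hUd : 4 ≤ Module.finrank F U := by
    have : Module.finrank F U + Module.finrank F W = n := finrank_perp hF W
    omega
  have hWU : ∀ w ∈ W, w ∈ perp q U := fun w hw => (perp_perp hF W).symm ▸ hw
  have hsplit : ∀ x, ∃ w ∈ W, ∃ u ∈ U, x = w + u := fun x => by
    obtain ⟨w, hw, u, hu, rfl⟩ :=
      Submodule.mem_sup.mp ((isCompl_perp hF hW).sup_eq_top ▸ Submodule.mem_top (x := x))
    exact ⟨w, hw, u, hu, rfl⟩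
  have horth : ∀ w ∈ W, ∀ u ∈ U, 𝕗 w u = 0 ∧ 𝕗 u w = 0 :=
    fun w hw u hu => ⟨swap_eq_zero hf (hu w hw), hu w hw⟩
  have hC0 : ∀ v, 𝕗 v v = 0 → (v ∈ W ∨ v ∈ U) → UnitCenter (powAut hF) 𝕗 M v := by
    intro v hv hor
    refine ⟨hv, fun a ha => hP _ (mem_subspaceStabilizer_iff.mpr fun w hw => ?_)
      (mem_GU_iff'.mpr (utv_isometry hf hv ha)) (tv_mem_specialLinear _ _)⟩
    rw [utv_mulVec hf hv]
    rcases hor with h | h
    · exact W.add_mem hw (W.smul_mem _ h)
    · rw [(horth w hw v h).1, mul_zero, zero_smul, add_zero]; exact hw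
  obtain ⟨e, he0, he⟩ := exists_skew_scalar hf
  -- a centre with two non-zero components
  obtain ⟨v, hvC, hvW, hvU⟩ : ∃ v, UnitCenter (powAut hF) 𝕗 M v ∧ v ∉ W ∧ v ∉ U := by
    by_contra hc
    push Not at hc
    apply hg
    obtain ⟨B, hBinj, hBr, hBf⟩ := exists_coord hF hU
    have hBU : ∀ z, B z ∈ U := fun z => hBr.le (LinearMap.mem_range_self B z)
    have himg : ∀ z, Cfsg.hermForm _ F q z z = 0 →
        g.1 *ᵥ B z ∈ W ∨ g.1 *ᵥ B z ∈ U := by
      intro z hz
      by_cases h : g.1 *ᵥ B z ∈ W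
      · exact Or.inl h
      · exact Or.inr (hc _ (unitCenter_conj hf (hC0 _ (by rw [hBf, hz]) (Or.inr (hBU z)))
          hgM (mem_GU_iff'.mp (hMS hgM))) h)
    have hspan : ∀ (S : Submodule F (Fin n → F)),
        (∀ z, Cfsg.hermForm _ F q z z = 0 → g.1 *ᵥ B z ∈ S) → ∀ u ∈ U, g.1 *ᵥ u ∈ S := by
      intro S hS u hu
      obtain ⟨x, rfl⟩ : ∃ x, B x = u := by rwa [← LinearMap.mem_range, hBr]
      have hle : Submodule.span F {v | Cfsg.hermForm _ F q v v = 0} ≤
          S.comap ((Matrix.mulVecLin g.1) ∘ₗ B) := Submodule.span_le.mpr hS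
      rw [span_isotropic (hermForm_isUnitary hF) (by rw [Fintype.card_fin]; omega)] at hle
      exact hle Submodule.mem_top
    by_cases hall : ∀ z, Cfsg.hermForm _ F q z z = 0 → g.1 *ᵥ B z ∈ U
    · have hgU : g ∈ Cfsg.Geo.subspaceStabilizer U :=
        mem_subspaceStabilizer_iff.mpr (hspan U hall)
      refine mem_subspaceStabilizer_iff.mpr fun w hw => ?_
      rw [← perp_perp hF W]
      intro u hu
      have hu' := mem_subspaceStabilizer_iff.mp
        ((Cfsg.Geo.subspaceStabilizer U).inv_mem hgU) u hu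
      rw [← gl_mulVec_inv g u, mem_GU_iff'.mp (hMS hgM)]
      exact (horth w hw _ hu').1
    · push Not at hall
      obtain ⟨z1, hz1, hz1U⟩ := hall
      have hz1W := (himg z1 hz1).resolve_right hz1U
      exfalso
      have hallW : ∀ z, Cfsg.hermForm _ F q z z = 0 → g.1 *ᵥ B z ∈ W := by
        intro z hz
        by_contra hzW
        have hzU := (himg z hz).resolve_left hzW
        have h0 : Cfsg.hermForm _ F q z1 z = 0 := by
          rw [← hBf, ← mem_GU_iff'.mp (hMS hgM)]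
          exact (horth _ hz1W _ hzU).1
        rcases himg (z1 + z) (by
          rw [(hermForm_isUnitary hF).add_left, add_right (hermForm_isUnitary hF),
            add_right (hermForm_isUnitary hF), hz1, hz, h0,
            swap_eq_zero (hermForm_isUnitary hF) h0]; simp) with h | h
        · rw [map_add, mulVec_add] at h
          exact hzW (by simpa using W.sub_mem h hz1W)
        · rw [map_add, mulVec_add] at h
          exact hz1U (by simpa using U.sub_mem h hzU)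
      have h1 : U.map (Matrix.mulVecLin g.1) ≤ W := by
        rintro _ ⟨u, hu, rfl⟩
        exact hspan W hallW u hu
      have := Submodule.finrank_mono h1
      rw [(Submodule.equivMapOfInjective _ (gl_mulVec_injective g) U).symm.finrank_eq] at this
      have : Module.finrank F U + Module.finrank F W = n := finrank_perp hF W
      omega
  obtain ⟨w, hw, u, hu, rfl⟩ := hsplit v
  have hw0 : w ≠ 0 := fun e => hvU (by rwa [e, zero_add])
  have hu0 : u ≠ 0 := fun e => hvW (by rwa [e, add_zero])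
  let P : (Fin n → F) → Prop := fun w => w ∈ W ∧ w ≠ 0 ∧
    ∃ u ∈ U, u ≠ 0 ∧ UnitCenter (powAut hF) 𝕗 M (w + u)
  have hnorm : ∀ w ∈ W, ∀ u ∈ U, 𝕗 (w + u) (w + u) = 𝕗 w w + 𝕗 u u := by
    intro w hw u hu
    rw [hf.add_left, add_right hf, add_right hf, (horth w hw u hu).1, (horth w hw u hu).2]
    ring
  have hspread : ∀ w, P w → ∀ w' ∈ W, w' ≠ 0 → 𝕗 w' w' = 𝕗 w w → ∀ u' ∈ U, u' ≠ 0 →
      𝕗 w' w' + 𝕗 u' u' = 0 → UnitCenter (powAut hF) 𝕗 M (w' + u') := by
    rintro w ⟨hw, hw0, u, hu, hu0, h⟩ w' hw' hw0' heq u' hu' hu0' hz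
    obtain ⟨T, hTG, hTS, hTW, hTw⟩ := exists_stab_move hF hW (by omega) hw hw' hw0 hw0' heq.symm
    have h2 := unitCenter_conj hf h (hP T hTW hTG hTS) (mem_GU_iff'.mp hTG)
    rw [mulVec_add, hTw] at h2
    have hTu : T.1 *ᵥ u ∈ U := by
      intro y hy
      have hy' := mem_subspaceStabilizer_iff.mp
        ((Cfsg.Geo.subspaceStabilizer W).inv_mem hTW) y hy
      rw [← gl_mulVec_inv T y, mem_GU_iff'.mp hTG]
      exact hu _ hy'
    refine centre_change hF hU hUd (fun x hx hx0 => hC0 x hx0 (Or.inr hx)) (hWU w' hw') hTu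
      (fun e => hu0 (gl_mulVec_injective T (by simpa using e))) hu' hu0' ?_ h2
    have h3 := h.1
    rw [hnorm w hw u hu, ← heq] at h3
    rw [mem_GU_iff'.mp hTG]
    linear_combination hz - h3
  have hexU : ∀ r : F, powAut hF r = r → ∃ u' ∈ U, u' ≠ 0 ∧ 𝕗 u' u' = r := by
    intro r hr
    obtain ⟨x, hx, hxs, -, hxx⟩ := exists_in_summand hF hU hUd hu hu0 0 (r := r)
      (by rwa [powAut_apply] at hr)
    exact ⟨x, hx, fun e => hxs (e ▸ Submodule.zero_mem _), hxx⟩
  have hPspread : ∀ w, P w → ∀ w' ∈ W, w' ≠ 0 → 𝕗 w' w' = 𝕗 w w → P w' := by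
    intro w h w' hw' hw0' heq
    obtain ⟨u', hu', hu0', hu''⟩ := hexU (-𝕗 w' w') (by rw [map_neg, self_fixed hf])
    exact ⟨hw', hw0', u', hu', hu0', hspread w h w' hw' hw0' heq u' hu' hu0' (by rw [hu'']; ring)⟩
  have hcomb : ∀ w w2, P w → P w2 → ∀ c : F, c ≠ 0 → w + c • w2 ≠ 0 → P (w + c • w2) := by
    intro w w2 hPw hPw2 c hc hne
    obtain ⟨hw, hw0, u, hu, hu0, h⟩ := hPw
    obtain ⟨u2, hu2, hu2s, hprod, hu2n⟩ := exists_in_summand hF hU hUd hu hu0 (c / e - 𝕗 w w2)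
      (r := - 𝕗 w2 w2) (by rw [← powAut_apply hF, map_neg, self_fixed hf])
    have h2 := hspread w2 hPw2 w2 hPw2.1 hPw2.2.1 rfl u2 hu2
      (fun e => hu2s (e ▸ Submodule.zero_mem _)) (by rw [hu2n]; ring)
    have hval : 𝕗 (w + u) (w2 + u2) = c / e := by
      rw [hf.add_left, add_right hf, add_right hf, (horth w hw u2 hu2).1,
        (horth w2 hPw2.1 u hu).2, hprod]
      ring
    have h3 := unitCenter_move hf h2 h he
    rw [hval, mul_div_cancel₀ c he0, show w + u + c • (w2 + u2) = (w + c • w2) + (u + c • u2) by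
      module] at h3
    refine ⟨W.add_mem hw (W.smul_mem c hPw2.1), hne, _, U.add_mem hu (U.smul_mem c hu2), ?_, h3⟩
    intro h0
    refine hu2s (Submodule.mem_span_singleton.mpr ⟨-c⁻¹, ?_⟩)
    have : c • u2 = -u := eq_neg_of_add_eq_zero_right h0
    rw [neg_smul, ← smul_neg, ← this, smul_smul, inv_mul_cancel₀ hc, one_smul]
  have hPw : P w := ⟨hw, hw0, u, hu, hu0, hvC⟩
  intro z hz
  obtain ⟨w', hw', u', hu', rfl⟩ := hsplit z
  rcases eq_or_ne w' 0 with h1 | h1
  · subst h1; exact hC0 _ hz (Or.inr (by rwa [zero_add]))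
  rcases eq_or_ne u' 0 with h2 | h2
  · subst h2; exact hC0 _ hz (Or.inl (by rwa [add_zero]))
  rw [hnorm w' hw' u' hu'] at hz
  suffices h : P w' from hspread w' h w' hw' h1 rfl u' hu' h2 hz
  set μ := 𝕗 w w with hμ
  set ν := 𝕗 w' w' with hν
  by_cases hsame : ν = μ
  · exact hPspread w hPw w' hw' h1 hsame
  have hWnd : ∀ x ∈ W, x ≠ 0 → ∃ y ∈ W, 𝕗 x y ≠ 0 := by
    intro x hx hx0
    by_contra hcon
    push Not at hcon
    exact hx0 (hW x hx hcon)
  by_cases hμ0 : μ = 0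
  · have hν0 : ν ≠ 0 := fun e => hsame (e.trans hμ0.symm)
    obtain ⟨x, hx, hwx⟩ := hWnd w hw hw0
    obtain ⟨a, -, ha⟩ := exists_isotropic_shift hf hμ0 hwx
    set w2 := x + a • w
    have hww2 : 𝕗 w w2 ≠ 0 := by rwa [add_right hf, smul_right hf, ← hμ, hμ0, mul_zero, add_zero]
    have hP2 : P w2 := hPspread w hPw w2 (W.add_mem hx (W.smul_mem a hw))
      (fun e => hww2 (by rw [e, zero_right hf])) (ha.trans hμ0.symm)
    obtain ⟨s, hs⟩ := exists_trace hf (self_fixed hf w')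
    have hs0 : s ≠ 0 := fun e => hν0 (by rw [hν, ← hs, e, map_zero, add_zero])
    have hw2w : 𝕗 w2 w ≠ 0 := fun e => hww2 (swap_eq_zero hf e)
    have hn' : 𝕗 (w + (s / 𝕗 w2 w) • w2) (w + (s / 𝕗 w2 w) • w2) = ν := by
      rw [expand_add_smul hf, ← hμ, hμ0, div_mul_cancel₀ s hw2w, hs, ha]; simp [hν]
    have hne : w + (s / 𝕗 w2 w) • w2 ≠ 0 := fun e => hν0 (by
      rw [← hn', e, zero_right hf])
    exact hPspread _ (hcomb w w2 hPw hP2 _ (div_ne_zero hs0 hw2w) hne) w' hw' h1 hn'.symm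
  by_cases hν0 : ν = 0
  · obtain ⟨x, hx, hwx⟩ := hWnd w' hw' h1
    obtain ⟨x', hx', hwx'⟩ : ∃ x' ∈ W, 𝕗 w' x' = e :=
      ⟨powAut hF (e / 𝕗 w' x) • x, W.smul_mem _ hx,
        by rw [smul_right hf, hf.involutive, div_mul_cancel₀ e hwx]⟩
    obtain ⟨s, hs⟩ := exists_trace hf (r := μ - 𝕗 x' x') (by
      rw [map_sub, hμ, self_fixed hf, self_fixed hf])
    set w1 := x' + (s / e) • w' with hw1
    have hw1n : 𝕗 w1 w1 = μ := by
      rw [hw1, expand_add_smul hf, hwx', div_mul_cancel₀ s he0, hs, ← hν, hν0]; ring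
    have hw'1 : 𝕗 w' w1 = e := by
      rw [hw1, add_right hf, smul_right hf, ← hν, hν0, hwx', mul_zero, add_zero]
    have hw2n : 𝕗 (w' - w1) (w' - w1) = μ := by
      rw [form_sub_left (isLinearLeft_of_unitary hf), sub_right hf, sub_right hf, ← hν, hν0, hw'1,
        hw1n, hf.herm w1 w', hw'1]
      linear_combination -he
    have hw1W : w1 ∈ W := W.add_mem hx' (W.smul_mem _ hw')
    have hnz : ∀ y, 𝕗 y y = μ → y ≠ 0 := fun y hy e => hμ0 (by rw [← hy, e, zero_right hf])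
    have h := hcomb w1 (w' - w1) (hPspread w hPw w1 hw1W (hnz _ hw1n) hw1n)
      (hPspread w hPw _ (W.sub_mem hw' hw1W) (hnz _ hw2n) hw2n) 1 one_ne_zero
      (by rwa [one_smul, add_sub_cancel])
    rwa [one_smul, add_sub_cancel] at h
  obtain ⟨d, hd⟩ := norm_surjective hF (ν / μ) (by
    rw [map_div₀, hμ, hν, self_fixed hf, self_fixed hf])
  have hd1 : d - 1 ≠ 0 := sub_ne_zero.mpr fun e => hsame (by
    rw [e, map_one, mul_one, eq_comm, div_eq_one_iff_eq hμ0] at hd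
    exact hd)
  have hdw : 𝕗 (d • w) (d • w) = ν := by
    rw [hf.smul_left, smul_right hf, ← mul_assoc, hd, ← hμ, div_mul_cancel₀ ν hμ0]
  have heq : w + (d - 1) • w = d • w := by rw [sub_smul, one_smul, add_sub_cancel]
  have hne : w + (d - 1) • w ≠ 0 := fun e => hν0 (by rw [← hdw, ← heq, e, zero_right hf])
  exact hPspread _ (hcomb w w hPw hPw (d - 1) hd1 hne) w' hw' h1 (by rw [heq, hdw])



/-- The same for `n ≥ 6`. -/
theorem maximal_of_six {F : Type*} [Field F] [Fintype F] (n q : ℕ) (hF : Fintype.card F = q ^ 2) (hn : 6 ≤ n) (W : Submodule F (Fin n → F)) (hW0 : W ≠ ⊥) (hW : Cfsg.Geo.IsNondegenerateOn (Cfsg.hermForm n F q) W) (hdim : 2 * Module.finrank F W < n) : Cfsg.Geo.IsMaximalIn (Cfsg.GU n F q ⊓ Cfsg.Geo.specialLinear (Fin n) F) (Cfsg.Geo.subspaceStabilizer W ⊓ (Cfsg.GU n F q ⊓ Cfsg.Geo.specialLinear (Fin n) F)) := by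
  have hf := hermForm_isUnitary (n := n) hF
  have hW' : Cfsg.Agent.Lib.Unitary.Nondeg q W := fun u hu h => by
    by_contra hu0
    obtain ⟨-, x, hx, hne⟩ := hW u hu hu0
    exact hne (h x hx)
  refine isMaximalIn_of inf_le_right ?_ ?_
  · obtain ⟨w, hw, hw1⟩ := exists_norm_one_of_nondeg hF hW' hW0
    have hUd : Module.finrank F (perp q W) + Module.finrank F W = n := finrank_perp hF W
    obtain ⟨u0, hu0, hu00⟩ := Submodule.exists_mem_ne_zero_of_ne_bot (p := perp q W)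
      (fun e => by rw [e, finrank_bot] at hUd; omega)
    obtain ⟨u, hu, -, -, huu⟩ := exists_in_summand hF (nondeg_perp hF hW') (by omega) hu0 hu00 0
      (r := (-1 : F)) (by rw [neg_pow_q hF, one_pow])
    obtain ⟨e, he0, he⟩ := exists_skew_scalar hf
    have hv : Cfsg.hermForm n F q (w + u) (w + u) = 0 := by
      rw [hf.add_left, add_right hf, add_right hf, hw1, huu, hu w hw, swap_eq_zero hf (hu w hw)]
      simp
    refine ⟨_, utv_mem_SU hF hv he, fun h => ?_⟩
    have h1 := mem_subspaceStabilizer_iff.mp h.1 w hw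
    rw [utv_mulVec hf hv, add_right hf, hw1, swap_eq_zero hf (hu w hw), add_zero, mul_one] at h1
    have h2 : u ∈ W := by
      have h3 : w + u ∈ W := by
        simpa [smul_smul, he0] using W.smul_mem e⁻¹ (W.sub_mem h1 hw)
      simpa using W.sub_mem h3 hw
    rw [hu u h2] at huu
    simp at huu
  intro M hHM hMK g hgM hgH
  exact su_le hF (by omega) (centers_all hF hW' hdim (by omega) (fun h hh => (hMK hh).1)
    (fun h h1 h2 h3 => hHM ⟨h1, h2, h3⟩) hgM fun h => hgH ⟨h, hMK hgM⟩)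

theorem maximal_of_ten {F : Type*} [Field F] [Fintype F] (n q : ℕ) (hF : Fintype.card F = q ^ 2) (hn : 10 ≤ n) (W : Submodule F (Fin n → F)) (hW0 : W ≠ ⊥) (hW : Cfsg.Geo.IsNondegenerateOn (Cfsg.hermForm n F q) W) (hdim : 2 * Module.finrank F W < n) : Cfsg.Geo.IsMaximalIn (Cfsg.GU n F q ⊓ Cfsg.Geo.specialLinear (Fin n) F) (Cfsg.Geo.subspaceStabilizer W ⊓ (Cfsg.GU n F q ⊓ Cfsg.Geo.specialLinear (Fin n) F)) :=
  maximal_of_six n q hF (by omega) W hW0 hW hdim

/-- Let F be the field with q² elements and n ≥ 13. In SU_n(q) (determinant-one isometries of the standard unitary form on F^n) the stabiliser of a non-zero subspace W on which the form is non-degenerate and with 2 dim W < n is a maximal subgroup. -/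
theorem result {F : Type*} [Field F] [Fintype F] (n q : ℕ) (hF : Fintype.card F = q ^ 2) (hn : 13 ≤ n) (W : Submodule F (Fin n → F)) (hW0 : W ≠ ⊥) (hW : Cfsg.Geo.IsNondegenerateOn (Cfsg.hermForm n F q) W) (hdim : 2 * Module.finrank F W < n) : Cfsg.Geo.IsMaximalIn (Cfsg.GU n F q ⊓ Cfsg.Geo.specialLinear (Fin n) F) (Cfsg.Geo.subspaceStabilizer W ⊓ (Cfsg.GU n F q ⊓ Cfsg.Geo.specialLinear (Fin n) F)) :=
  maximal_of_ten n q hF (by omega) W hW0 hW hdim

end Cfsg.Agent.S5654
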