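import Cfsg.Statements.S5656
import Cfsg.Agent.Lib.Subspaces.UnitaryGen
import Cfsg.Agent.Lib.Subspaces.Decomposition
import Cfsg.Agent.Lib.Forms.FrameRefineTwo
import Cfsg.Agent.Lib.Unitary.Basic

set_option autoImplicit false
open Cfsg

namespace Cfsg.Agent.S5656

open Matrix Cfsg.Agent.Lib.Subspaces.Transvection Cfsg.Agent.Lib.Subspaces.UnitaryForm
  Cfsg.Agent.Lib.Subspaces.UnitaryGen Cfsg.Agent.Lib.Subspaces.Decomposition

/-- Let F be the field with 4 elements (q = 2) and n ≥ 13. Let D be a decomposition of F^n into t pairwise orthogonal 2-dimensional subspaces, each non-degenerate for the standard unitary form Σ u_i v_i². Then the elements of SU_n(2) permuting the members of D form a subgroup that is not maximal: some subgroup lies strictly between it and SU_n(2). -/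
theorem result {F : Type*} [Field F] [Fintype F] (n : ℕ) (hF : Fintype.card F = 4) (hn : 13 ≤ n) {t : ℕ} (D : Fin t → Submodule F (Fin n → F)) (hD : Cfsg.Geo.IsNondegenerateMDecomposition (Cfsg.hermForm n F 2) 2 D) : ∃ K : Subgroup (Matrix.GeneralLinearGroup (Fin n) F), Cfsg.Geo.decompositionStabilizer D ⊓ (Cfsg.GU n F 2 ⊓ Cfsg.Geo.specialLinear (Fin n) F) < K ∧ K < (Cfsg.GU n F 2 ⊓ Cfsg.Geo.specialLinear (Fin n) F) := by
  classical
  have hF' : Fintype.card F = 2 ^ 2 := by rw [hF]; norm_num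
  have h20 : (2 : F) = 0 := by
    have := FiniteField.cast_card_eq_zero F
    rw [hF] at this
    have h4 : (2 : F) * 2 = 0 := by push_cast at this; linear_combination this
    simpa using h4
  have hu := hermForm_isUnitary (n := n) hF'
  have hd := hD.decomp
  have hn' := card_eq hd
  rw [Fintype.card_fin] at hn'
  have hW : ∀ i, Lib.Unitary.Nondeg 2 (D i) := fun i u hu0 h => by
    by_contra h0
    obtain ⟨-, x, hx, hne⟩ := hD.nondegenerate i u hu0 h0
    exact hne (h x hx)
  choose b hb hbm hbs using fun i =>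
    Lib.Unitary.exists_orthonormal_of_nondeg hF' 2 (D i) (hd.finrank_eq i) (hW i)
  let S : Set (Fin n → F) := {v | ∃ i, v ∈ D i ∧ Cfsg.hermForm n F 2 v v = 1}
  have hcross : ∀ {i j}, i ≠ j → ∀ {x y}, x ∈ D i → y ∈ D j → Cfsg.hermForm n F 2 x y = 0 :=
    fun h _ _ hx hy => hD.orthogonal _ _ h _ hx _ hy
  have hBb : ∀ i l j r, Cfsg.hermForm n F 2 (b i l) (b j r) = if i = j ∧ l = r then 1 else 0 := by
    intro i l j r
    by_cases h : i = j
    · subst h; rw [hb i l r]; simp
    · rw [hcross h (hbm i l) (hbm j r), if_neg fun hh => h hh.1]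
  have hmult : ∀ v ∈ S, ∃ i l, ∃ c : F, v = c • b i l := by
    rintro v ⟨i, hv, hv1⟩
    rw [← hbs i, Submodule.mem_span_range_iff_exists_fun] at hv
    obtain ⟨c, rfl⟩ := hv
    rw [Fin.sum_univ_two] at hv1 ⊢
    by_cases h0 : c 0 = 0
    · exact ⟨i, 1, c 1, by rw [h0, zero_smul, zero_add]⟩
    by_cases h1 : c 1 = 0
    · exact ⟨i, 0, c 0, by rw [h1, zero_smul, add_zero]⟩
    exfalso
    have h3 : ∀ a : F, a ≠ 0 → a * a ^ 2 = 1 := fun a ha => by
      have := FiniteField.pow_card_sub_one_eq_one a ha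
      rw [hF] at this
      linear_combination this
    rw [hu.add_left, hu.smul_left, hu.smul_left, add_right hu, add_right hu, smul_right hu,
      smul_right hu, smul_right hu, smul_right hu, powAut_apply, powAut_apply, hBb, hBb, hBb, hBb]
      at hv1
    simp at hv1
    rw [h3 _ h0, h3 _ h1] at hv1
    exact one_ne_zero (by linear_combination hv1 : (1 : F) = 0)
  let G := Cfsg.GU n F 2 ⊓ Cfsg.Geo.specialLinear (Fin n) F
  have ha : (1 : F) + powAut hF' 1 = 0 := by rw [map_one]; linear_combination h20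
  let p : Fin 4 → Fin t := Fin.castLE (by omega)
  have hpne : ∀ a c, a ≠ c → p a ≠ p c := fun a c h e => h (Fin.castLE_injective _ e)
  have hvv : ∀ {i j : Fin t}, i ≠ j →
      Cfsg.hermForm n F 2 (b i 0 + b j 0) (b i 0 + b j 0) = 0 := fun {i j} h => by
    rw [hu.add_left, add_right hu, add_right hu, hBb, hBb, hBb, hBb]
    simp [h, h.symm]; linear_combination h20
  refine exists_between_of (K := Cfsg.stabilizing (Cfsg.glToMat (Fin n) F) S ⊓ G) ?_ inf_le_right
    ?_ ?_
  · rintro g ⟨hg, hgG⟩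
    obtain ⟨σ, hσ⟩ := exists_image_of_mem hg
    refine ⟨Lib.Forms.FrameRefineTwo.mem_stabilizing_of_mapsTo ?_, hgG⟩
    rintro x ⟨i, hx, hx1⟩
    exact ⟨σ i, hσ i x hx, (mem_GU_iff'.mp hgG.1 x x).trans hx1⟩
  · have h01 := hpne 0 1 (by decide)
    have hv := hvv h01
    refine ⟨_, ⟨Lib.Forms.FrameRefineTwo.mem_stabilizing_of_mapsTo ?_,
      utv_mem_SU hF' hv ha⟩, fun hmem => ?_⟩
    · intro x hx
      obtain ⟨i, hxi, hx1⟩ := hx
      obtain ⟨i', l, c, rfl⟩ := hmult x ⟨i, hxi, hx1⟩
      have h1' : Cfsg.hermForm n F 2 _ _ = 1 :=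
        (utv_isometry hu hv ha (c • b i' l) (c • b i' l)).trans hx1
      suffices h : ∃ j, _ ∈ D j from h.imp fun j hj => ⟨hj, h1'⟩
      rw [utv_mulVec hu hv, hu.smul_left, add_right hu, hBb, hBb, one_mul]
      by_cases hl : l = 0
      · subst hl
        by_cases h0 : i' = p 0
        · subst h0
          refine ⟨p 1, ?_⟩
          simp [h01]
          rw [← add_assoc, ← add_smul, show c + c = 0 by linear_combination c * h20, zero_smul,
            zero_add]
          exact (D _).smul_mem _ (hbm _ _)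
        by_cases h1 : i' = p 1
        · subst h1
          refine ⟨p 0, ?_⟩
          simp [h01.symm]
          rw [add_comm (c • b (p 0) 0), ← add_assoc, ← add_smul,
            show c + c = 0 by linear_combination c * h20, zero_smul, zero_add]
          exact (D _).smul_mem _ (hbm _ _)
        refine ⟨i', ?_⟩
        simp [h0, h1]
        exact (D _).smul_mem _ (hbm _ _)
      · refine ⟨i', ?_⟩
        simp [hl]
        exact (D _).smul_mem _ (hbm _ _)
    · obtain ⟨σ, hσ⟩ := exists_image_of_mem hmem.1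
      have g0 := hσ (p 0) _ (hbm (p 0) 0)
      have g1 := hσ (p 0) _ (hbm (p 0) 1)
      rw [utv_mulVec hu hv, add_right hu, hBb, hBb, one_mul] at g0 g1
      simp [h01] at g0 g1
      rw [← add_assoc, ← two_smul F, h20, zero_smul, zero_add] at g0
      have hne : ∀ i l, b i l ≠ 0 := fun i l h => by
        have := hBb i l i l
        rw [h, Lib.Subspaces.UnitaryForm.herm_zero_left hu] at this
        simp at this
      exact h01 ((Lib.Forms.FrameRefine.eq_of_mem hd g1 (hbm _ _) (hne _ _)).symm.trans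
        (Lib.Forms.FrameRefine.eq_of_mem hd g0 (hbm _ _) (hne _ _)))
  · set v := (b (p 0) 0 + b (p 1) 0) + (b (p 2) 0 + b (p 3) 0) with hvdef
    have hv : Cfsg.hermForm n F 2 v v = 0 := by
      simp only [hvdef, hu.add_left, add_right hu, hBb]
      simp [hpne 0 1, hpne 0 2, hpne 0 3, hpne 1 0, hpne 1 2, hpne 1 3, hpne 2 0, hpne 2 1,
        hpne 2 3, hpne 3 0, hpne 3 1, hpne 3 2]
      linear_combination 2 * h20
    refine ⟨_, utv_mem_SU hF' hv ha, fun hmem => ?_⟩
    have hx := (hmem.1 (b (p 0) 0)).1 ⟨p 0, hbm _ _, by rw [hBb]; simp⟩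
    obtain ⟨j, hj, -⟩ := hx
    change (tv v ((1 : F) • Lib.Subspaces.FormVec.formVec (Cfsg.hermForm n F 2) v) :
      Matrix (Fin n) (Fin n) F) *ᵥ b (p 0) 0 ∈ D j at hj
    rw [utv_mulVec hu hv] at hj
    have hval : ∀ l, l ≠ 0 → Cfsg.hermForm n F 2
        (b (p 0) 0 + (1 * Cfsg.hermForm n F 2 (b (p 0) 0) v) • v) (b (p l) 0) = 1 := by
      intro l hl
      rw [hu.add_left, hu.smul_left, hvdef]
      simp only [hu.add_left, add_right hu, hBb]
      fin_cases l <;> simp at hl ⊢ <;>
        simp [hpne 0 1, hpne 0 2, hpne 0 3, hpne 1 0, hpne 1 2, hpne 1 3, hpne 2 0, hpne 2 1,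
          hpne 2 3, hpne 3 0, hpne 3 1, hpne 3 2]
    have key : ∀ l, l ≠ 0 → j = p l := fun l hl => by
      by_contra h
      exact one_ne_zero ((hval l hl).symm.trans (hcross h hj (hbm _ _)))
    exact hpne 1 2 (by decide) ((key 1 (by decide)).symm.trans (key 2 (by decide)))

end Cfsg.Agent.S5656
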