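import Cfsg.Statements.S5657
import Cfsg.Agent.Lib.Subspaces.UnitaryEichler
import Cfsg.Agent.Lib.Subspaces.Decomposition

set_option autoImplicit false
open Cfsg

namespace Cfsg.Agent.S5657

open Matrix Cfsg.Agent.Lib.Subspaces.Transvection Cfsg.Agent.Lib.Subspaces.FormVec
  Cfsg.Agent.Lib.Subspaces.UnitaryForm Cfsg.Agent.Lib.Subspaces.UnitaryGen
  Cfsg.Agent.Lib.Subspaces.UnitaryEichler Cfsg.Agent.Lib.Subspaces.Decomposition

variable {ι : Type} [Fintype ι] [DecidableEq ι] {F : Type*} [Field F]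
  {σ : F ≃+* F} {f : (ι → F) → (ι → F) → F} {m : ℕ} {D : Fin 2 → Submodule F (ι → F)}

theorem comp_add (hD : Cfsg.Geo.IsMDecomposition m D) {i j : Fin 2} (hij : i ≠ j) (x : ι → F) :
    comp hD i x + comp hD j x = x := by
  have h := sum_comp hD x
  rw [Fin.sum_univ_two] at h
  fin_cases i <;> fin_cases j <;> first | exact absurd rfl hij | exact h | rwa [add_comm] at h

theorem form_comp (hf : Cfsg.Geo.IsUnitaryForm σ f) (hD : Cfsg.Geo.IsMDecomposition m D)
    (hts : ∀ i, ∀ u ∈ D i, ∀ v ∈ D i, f u v = 0) {i j : Fin 2} (hij : i ≠ j) {u : ι → F}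
    (hu : u ∈ D i) (x : ι → F) : f u x = f u (comp hD j x) := by
  conv_lhs => rw [← comp_add hD hij x, add_right hf, hts i u hu _ (comp_mem hD i x), zero_add]

theorem form_comp' (hf : Cfsg.Geo.IsUnitaryForm σ f) (hD : Cfsg.Geo.IsMDecomposition m D)
    (hts : ∀ i, ∀ u ∈ D i, ∀ v ∈ D i, f u v = 0) {i j : Fin 2} (hij : i ≠ j) {u : ι → F}
    (hu : u ∈ D i) (x : ι → F) : f x u = f (comp hD j x) u := by
  rw [hf.herm x u, hf.herm _ u, form_comp hf hD hts hij hu]

/-- A vector of `D j` with prescribed products against `D i`. -/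
theorem exists_dual [Finite F] (hf : Cfsg.Geo.IsUnitaryForm σ f)
    (hD : Cfsg.Geo.IsMDecomposition m D) (hts : ∀ i, ∀ u ∈ D i, ∀ v ∈ D i, f u v = 0)
    {i j : Fin 2} (hij : i ≠ j) (φ : ι → F) :
    ∃ t ∈ D j, ∀ u ∈ D i, f u t = φ ⬝ᵥ u := by
  obtain ⟨t, rfl⟩ := formVec_surjective (isLinearLeft_of_unitary hf)
    (add_right hf) hf.nondegenerate φ
  exact ⟨comp hD j t, comp_mem hD j t, fun u hu => by
    rw [formVec_dot (isLinearLeft_of_unitary hf), ← form_comp hf hD hts hij hu]⟩

theorem exists_perp_in (hf : Cfsg.Geo.IsUnitaryForm σ f) (hD : Cfsg.Geo.IsMDecomposition m D)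
    (i : Fin 2) (S : Submodule F (ι → F)) (c d : ι → F)
    (hdim : 2 + Module.finrank F S < m) :
    ∃ a ∈ D i, a ∉ S ∧ f a c = 0 ∧ f a d = 0 := by
  let L : D i →ₗ[F] F × F :=
    { toFun := fun a => (f a c, f a d)
      map_add' := fun a b => Prod.ext (hf.add_left a b c) (hf.add_left a b d)
      map_smul' := fun t a => Prod.ext (hf.smul_left t a c) (hf.smul_left t a d) }
  have h1 := LinearMap.finrank_range_add_finrank_ker L
  rw [hD.finrank_eq i] at h1
  have h2 : Module.finrank F (LinearMap.range L) ≤ 2 :=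
    le_trans (Submodule.finrank_le _) (by rw [Module.finrank_prod, Module.finrank_self])
  have h3 : ¬ (LinearMap.ker L).map (D i).subtype ≤ S := fun hle => by
    have := Submodule.finrank_mono hle
    rw [Submodule.finrank_map_subtype_eq] at this
    omega
  obtain ⟨a, ⟨a', ha', rfl⟩, haS⟩ := SetLike.not_le_iff_exists.mp h3
  have := LinearMap.mem_ker.mp ha'
  exact ⟨a', a'.2, haS, congrArg Prod.fst this, congrArg Prod.snd this⟩

/-- A vector of a block orthogonal to one vector, outside a subspace. -/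
theorem exists_perp_one (hf : Cfsg.Geo.IsUnitaryForm σ f) (hD : Cfsg.Geo.IsMDecomposition m D)
    (i : Fin 2) (S : Submodule F (ι → F)) (c : ι → F) (hdim : 1 + Module.finrank F S < m) :
    ∃ a ∈ D i, a ∉ S ∧ f a c = 0 := by
  let L : D i →ₗ[F] F :=
    { toFun := fun a => f a c
      map_add' := fun a b => hf.add_left a b c
      map_smul' := fun t a => hf.smul_left t a c }
  have h1 := LinearMap.finrank_range_add_finrank_ker L
  rw [hD.finrank_eq i] at h1
  have h2 : Module.finrank F (LinearMap.range L) ≤ 1 :=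
    le_trans (Submodule.finrank_le _) (le_of_eq (Module.finrank_self F))
  have h3 : ¬ (LinearMap.ker L).map (D i).subtype ≤ S := fun hle => by
    have := Submodule.finrank_mono hle
    rw [Submodule.finrank_map_subtype_eq] at this
    omega
  obtain ⟨a, ⟨a', ha', rfl⟩, haS⟩ := SetLike.not_le_iff_exists.mp h3
  exact ⟨a', a'.2, haS, LinearMap.mem_ker.mp ha'⟩

/-- A plane whose `D i`-components are independent gives a full centre in `D i`. -/
theorem centre_of_plane [Finite F] (hf : Cfsg.Geo.IsUnitaryForm σ f)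
    (hD : Cfsg.Geo.IsMDecomposition m D) (hts : ∀ i, ∀ u ∈ D i, ∀ v ∈ D i, f u v = 0)
    (hm : 3 ≤ m) {e : F} (he0 : e ≠ 0) (he : e + σ e = 0) {M : Subgroup (GL ι F)} {i j : Fin 2}
    (hij : i ≠ j) (hE : ∀ a ∈ D i, ∀ b ∈ D j, f a b = 0 → ueich f e a b ∈ M)
    {c d : ι → F} (hcd : IsPlane f c d) (hcdM : ueich f e c d ∈ M)
    (hc : comp hD i c ∉ Submodule.span F {comp hD i d}) (hd : comp hD i d ≠ 0) :
    ∃ a ∈ D i, a ≠ 0 ∧ UnitCenter σ f M a := by
  classical
  have hl := isLinearLeft_of_unitary hf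
  set c0 := comp hD i c with hc0
  set d0 := comp hD i d with hd0
  obtain ⟨a, ha, haS, hac, had⟩ := exists_perp_in hf hD i (⊥ : Submodule F (ι → F)) c d
    (by rw [finrank_bot]; omega)
  have ha0 : a ≠ 0 := by simpa using haS
  have hji : j ≠ i := hij.symm
  have hor : c0 ∉ Submodule.span F {a} ∨ d0 ∉ Submodule.span F {a} := by
    by_contra h
    push Not at h
    obtain ⟨s, hs⟩ := Submodule.mem_span_singleton.mp h.1
    obtain ⟨t, ht⟩ := Submodule.mem_span_singleton.mp h.2
    have ht0 : t ≠ 0 := fun e => hd (by rw [← ht, e, zero_smul])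
    exact hc (Submodule.mem_span_singleton.mpr ⟨s * t⁻¹, by
      rw [← ht, ← hs, smul_smul, mul_assoc, inv_mul_cancel₀ ht0, mul_one]⟩)
  obtain ⟨b, hb, hab, hne⟩ : ∃ b ∈ D j, f a b = 0 ∧ (f c b ≠ 0 ∨ f d b ≠ 0) := by
    rcases hor with h | h <;> obtain ⟨φ, hφ, hφ1⟩ := exists_functional h <;>
      obtain ⟨b, hb, hbφ⟩ := exists_dual hf hD hts hij φ
    · exact ⟨b, hb, by rw [hbφ a ha, hφ a (Submodule.mem_span_singleton_self a)], Or.inl (by
        rw [form_comp' hf hD hts hji hb, ← hc0, hbφ c0 (comp_mem hD i c), hφ1]; exact one_ne_zero)⟩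
    · exact ⟨b, hb, by rw [hbφ a ha, hφ a (Submodule.mem_span_singleton_self a)], Or.inr (by
        rw [form_comp' hf hD hts hji hb, ← hd0, hbφ d0 (comp_mem hD i d), hφ1]; exact one_ne_zero)⟩
  set w := (e * f b c) • d + (e * f b d) • c with hw
  have haw : f a w = 0 := by
    rw [hw, add_right hf, smul_right hf, smul_right hf, hac, had, mul_zero, mul_zero, add_zero]
  -- the plane moved by `h`
  have hmove : ∀ t : F, IsPlane f a (t • (b + w)) ∧ ueich f e a (t • (b + w)) ∈ M := by
    intro t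
    have hpab : IsPlane f a (t • b) := ⟨hts i a ha a ha, hts j _ ((D j).smul_mem t hb) _
      ((D j).smul_mem t hb), by rw [smul_right hf, hab, mul_zero]⟩
    have hiso := ueich_isometry hf he hcd
    have e1 : (ueich f e c d : Matrix ι ι F) *ᵥ a = a := by
      rw [ueich_mulVec hf e hcd, hac, had]
      simp
    have e2 : (ueich f e c d : Matrix ι ι F) *ᵥ (t • b) = t • (b + w) := by
      rw [mulVec_smul, ueich_mulVec hf e hcd, hw]
      module
    have h1 := M.mul_mem (M.mul_mem hcdM (hE a ha _ ((D j).smul_mem t hb) hpab.orth)) (M.inv_mem hcdM)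
    rw [conj_ueich hf hiso e hpab, e1, e2] at h1
    have h2 := hpab.map hiso
    rw [e1, e2] at h2
    exact ⟨h2, h1⟩
  refine ⟨a, ha, ha0, hts i a ha a ha, fun r hr => ?_⟩
  obtain ⟨k, hk⟩ := exists_trace hf (r := r / e) (by
    rw [map_div₀, eq_neg_of_add_eq_zero_right hr, eq_neg_of_add_eq_zero_right he, neg_div_neg_eq])
  by_cases hwa : comp hD i w ∈ Submodule.span F {a}
  · obtain ⟨μ, hμ⟩ := Submodule.mem_span_singleton.mp hwa
    have hμ0 : μ ≠ 0 := by
      rintro rfl
      rw [zero_smul, hw, map_add, map_smul, map_smul, ← hc0, ← hd0] at hμ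
      have hbd : e * f b d = 0 := by
        by_contra hne'
        refine hc (Submodule.mem_span_singleton.mpr ⟨-((e * f b d)⁻¹ * (e * f b c)), ?_⟩)
        calc -((e * f b d)⁻¹ * (e * f b c)) • d0
            = (e * f b d)⁻¹ • ((e * f b d) • c0) - (e * f b d)⁻¹ •
              ((e * f b c) • d0 + (e * f b d) • c0) := by module
          _ = c0 := by rw [← hμ, smul_zero, sub_zero, inv_smul_smul₀ hne']
      rw [hbd, zero_smul, add_zero] at hμ
      have hbc : e * f b c = 0 := (smul_eq_zero.mp hμ.symm).resolve_right hd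
      rcases hne with h | h
      · exact h (swap_eq_zero hf ((mul_eq_zero.mp hbc).resolve_left he0))
      · exact h (swap_eq_zero hf ((mul_eq_zero.mp hbd).resolve_left he0))
    obtain ⟨hp, hpM⟩ := hmove (k / μ)
    set y := (k / μ) • (b + comp hD j w)
    have hyj : y ∈ D j := (D j).smul_mem _ ((D j).add_mem hb (comp_mem hD j w))
    have hay : f a y = 0 := by
      rw [smul_right hf, add_right hf, hab, ← form_comp hf hD hts hij ha, haw, add_zero, mul_zero]
    have hpy : IsPlane f a y := ⟨hts i a ha a ha, hts j y hyj y hyj, hay⟩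
    have heq : ueich f e a ((k / μ) • (b + w)) =
        ueich f e a y * tv a (r • formVec f a) := by
      have hsplit : (k / μ) • (b + w) = y + k • a := by
        conv_lhs => rw [← comp_add hD hij w, ← hμ]
        rw [show y = (k / μ) • (b + comp hD j w) from rfl]
        match_scalars <;> field_simp
      refine gl_ext fun x => ?_
      rw [gl_mul_mulVec, utv_mulVec hf (hts i a ha a ha), ueich_mulVec hf e hpy,
        ueich_mulVec hf e hp, hsplit]
      simp only [hf.add_left, add_right hf, hf.smul_left, smul_right hf, hts i a ha a ha, hay]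
      rw [show r = e * (k + σ k) by rw [hk, mul_div_cancel₀ r he0]]
      module
    rw [heq] at hpM
    simpa using M.mul_mem (M.inv_mem (hE a ha y hyj hay)) hpM
  · obtain ⟨ψ, hψ, hψw⟩ := exists_functional hwa
    obtain ⟨b', hb', hb'ψ⟩ := exists_dual hf hD hts hij ((k / e) • ψ)
    have hab' : f a b' = 0 := by
      rw [hb'ψ a ha, smul_dotProduct, hψ a (Submodule.mem_span_singleton_self a), smul_zero]
    have hp' : IsPlane f a b' := ⟨hts i a ha a ha, hts j b' hb' b' hb', hab'⟩
    obtain ⟨hp, hpM⟩ := hmove 1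
    have := tv_of_common_point hf he hp' hp (hE a ha b' hb' hab') hpM
    have hval : e * f ((1 : F) • (b + w)) b' = k := by
      rw [one_smul, hf.add_left, hts j b hb b' hb', zero_add, form_comp' hf hD hts hji hb',
        hb'ψ _ (comp_mem hD i w), smul_dotProduct, hψw, smul_eq_mul, mul_one, mul_div_cancel₀ k he0]
    rwa [hval, hk, mul_div_cancel₀ r he0] at this

theorem centre_spread [Finite F] (hf : Cfsg.Geo.IsUnitaryForm σ f)
    (hD : Cfsg.Geo.IsMDecomposition m D) (hts : ∀ i, ∀ u ∈ D i, ∀ v ∈ D i, f u v = 0)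
    {e : F} (he0 : e ≠ 0) (he : e + σ e = 0)
    {M : Subgroup (GL ι F)} {i j : Fin 2} (hij : i ≠ j)
    (hE : ∀ a ∈ D i, ∀ b ∈ D j, f a b = 0 → ueich f e a b ∈ M)
    {a : ι → F} (ha : a ∈ D i) (ha0 : a ≠ 0) (hC : UnitCenter σ f M a) :
    ∀ u ∈ D i, UnitCenter σ f M u := by
  intro u hu
  by_cases hmem : u ∈ Submodule.span F {a}
  · obtain ⟨s, rfl⟩ := Submodule.mem_span_singleton.mp hmem
    exact unitCenter_smul hf hC s
  · have hnot : a ∉ Submodule.span F {u - a} := by
      intro h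
      obtain ⟨s, hs⟩ := Submodule.mem_span_singleton.mp h
      have hs0 : s ≠ 0 := fun e => ha0 (by rw [← hs, e, zero_smul])
      refine hmem (Submodule.mem_span_singleton.mpr ⟨s⁻¹ + 1, ?_⟩)
      rw [add_smul, one_smul]
      nth_rw 1 [← hs]
      rw [smul_smul, inv_mul_cancel₀ hs0, one_smul, sub_add_cancel]
    obtain ⟨φ, hφ, hφa⟩ := exists_functional hnot
    obtain ⟨b, hb, hbφ⟩ := exists_dual hf hD hts hij (e⁻¹ • φ)
    have hua : u - a ∈ D i := (D i).sub_mem hu ha
    have hab : f (u - a) b = 0 := by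
      rw [hbφ _ hua, smul_dotProduct, hφ _ (Submodule.mem_span_singleton_self _), smul_zero]
    have hp : IsPlane f (u - a) b := ⟨hts i _ hua _ hua, hts j b hb b hb, hab⟩
    have h1 := unitCenter_conj hf hC (hE _ hua b hb hab) (ueich_isometry hf he hp)
    rwa [ueich_mulVec hf e hp, hts i a ha _ hua, mul_zero, zero_smul, add_zero, hbφ a ha,
      smul_dotProduct, hφa, smul_eq_mul, mul_one, mul_inv_cancel₀ he0, one_smul,
      add_sub_cancel] at h1

/-- An isometry of determinant one exchanging the two spaces. -/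
theorem exists_swap [Finite F] (hf : Cfsg.Geo.IsUnitaryForm σ f)
    (hD : Cfsg.Geo.IsMDecomposition m D) (hts : ∀ i, ∀ u ∈ D i, ∀ v ∈ D i, f u v = 0)
    {e : F} (he0 : e ≠ 0) (he : e + σ e = 0) {i j : Fin 2} (hij : i ≠ j) :
    ∃ T : GL ι F, (∀ x y, f ((T : Matrix ι ι F) *ᵥ x) ((T : Matrix ι ι F) *ᵥ y) = f x y) ∧
      T ∈ Cfsg.Geo.specialLinear ι F ∧
      (∀ x ∈ D i, (T : Matrix ι ι F) *ᵥ x ∈ D j) ∧ (∀ x ∈ D j, (T : Matrix ι ι F) *ᵥ x ∈ D i) := by
  classical
  let b := Module.finBasisOfFinrankEq F (D i) (hD.finrank_eq i)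
  have hδ : ∀ k, ∃ d ∈ D j, ∀ u : D i, f (u : ι → F) d = b.repr u k := by
    intro k
    let L : (ι → F) →ₗ[F] F :=
      b.coord k ∘ₗ (comp hD i).codRestrict (D i) (comp_mem hD i)
    obtain ⟨d, hd, hdL⟩ := exists_dual hf hD hts hij ((dotProductEquiv F ι).symm L)
    refine ⟨d, hd, fun u => ?_⟩
    rw [hdL _ u.2, ← dotProductEquiv_apply_apply, LinearEquiv.apply_symm_apply]
    show b.repr ((comp hD i).codRestrict (D i) (comp_mem hD i) (u : ι → F)) k = b.repr u k
    congr 2
    exact Subtype.ext (comp_self hD u.2)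
  choose d hd hdδ using hδ
  have hbd : ∀ k l, f (b k : ι → F) (d l) = if k = l then 1 else 0 := by
    intro k l
    rw [hdδ, b.repr_self, Finsupp.single_apply]
  have hdb : ∀ k l, f (d l) (b k : ι → F) = if k = l then 1 else 0 := by
    intro k l
    rw [hf.herm, hbd]
    split_ifs <;> simp
  have hindep : LinearIndependent F d := by
    rw [Fintype.linearIndependent_iff]
    intro g hg l
    let L : (ι → F) →ₗ[F] F :=
      { toFun := fun y => f y (b l : ι → F)
        map_add' := fun y z => hf.add_left y z _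
        map_smul' := fun c y => by simpa using hf.smul_left c y _ }
    have h1 := congrArg L hg
    rw [map_sum, map_zero, Finset.sum_eq_single l] at h1
    · rw [map_smul] at h1
      change g l • f (d l) _ = 0 at h1
      rwa [hdb, if_pos rfl, smul_eq_mul, mul_one] at h1
    · intro k _ hk
      rw [map_smul]
      show g k • f (d k) _ = 0
      rw [hdb, if_neg (Ne.symm hk), smul_zero]
    · simp
  have hspan : Submodule.span F (Set.range d) = D j := by
    refine Submodule.eq_of_le_of_finrank_le (Submodule.span_le.mpr ?_) ?_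
    · rintro _ ⟨k, rfl⟩; exact hd k
    · rw [finrank_span_eq_card hindep, hD.finrank_eq j, Fintype.card_fin]
  have he' : (-e⁻¹) + σ (-e⁻¹) = 0 := by
    rw [map_neg, map_inv₀, eq_neg_of_add_eq_zero_right he, inv_neg]; ring
  have hiso : ∀ k, f (b k : ι → F) (b k : ι → F) = 0 := fun k => hts i _ (b k).2 _ (b k).2
  have hiso' : ∀ k, f (d k) (d k) = 0 := fun k => hts j _ (hd k) _ (hd k)
  suffices H : ∀ S : Finset (Fin m), ∃ T : GL ι F,
      (∀ x y, f ((T : Matrix ι ι F) *ᵥ x) ((T : Matrix ι ι F) *ᵥ y) = f x y) ∧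
      T ∈ Cfsg.Geo.specialLinear ι F ∧
      ∀ k, (T : Matrix ι ι F) *ᵥ (b k : ι → F) =
          (if k ∈ S then (-e⁻¹) • d k else (b k : ι → F)) ∧
        (T : Matrix ι ι F) *ᵥ d k = (if k ∈ S then e • (b k : ι → F) else d k) by
    obtain ⟨T, hT, hTdet, hTk⟩ := H Finset.univ
    refine ⟨T, hT, hTdet, fun x hx => ?_, fun x hx => ?_⟩
    · have h1 := congrArg (fun u : D i => (u : ι → F)) (b.sum_repr ⟨x, hx⟩)
      simp only [Submodule.coe_sum, Submodule.coe_smul] at h1
      rw [← h1, mulVec_sum]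
      refine (D j).sum_mem fun k _ => ?_
      rw [mulVec_smul, (hTk k).1, if_pos (Finset.mem_univ k)]
      exact (D j).smul_mem _ ((D j).smul_mem _ (hd k))
    · rw [← hspan] at hx
      induction hx using Submodule.span_induction with
      | mem u hu =>
        obtain ⟨k, rfl⟩ := hu
        rw [(hTk k).2, if_pos (Finset.mem_univ k)]
        exact (D i).smul_mem _ (b k).2
      | zero => rw [mulVec_zero]; exact (D i).zero_mem
      | add u v _ _ hu hv => rw [mulVec_add]; exact (D i).add_mem hu hv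
      | smul c u _ hu => rw [mulVec_smul]; exact (D i).smul_mem c hu
  intro S
  induction S using Finset.induction_on with
  | empty => exact ⟨1, fun x y => by simp, one_mem _, fun k => by simp⟩
  | @insert l S hl ih =>
    obtain ⟨T, hT, hTdet, hTk⟩ := ih
    obtain ⟨w, hw⟩ : ∃ w : GL ι F, w = tv (b l : ι → F) (e • formVec f (b l : ι → F)) *
      tv (d l) ((-e⁻¹) • formVec f (d l)) * tv (b l : ι → F) (e • formVec f (b l : ι → F)) :=
      ⟨_, rfl⟩
    have hwiso : ∀ x y, f ((w : Matrix ι ι F) *ᵥ x) ((w : Matrix ι ι F) *ᵥ y) = f x y := by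
      intro x y
      rw [hw, gl_mul_mulVec, gl_mul_mulVec, gl_mul_mulVec, gl_mul_mulVec,
        utv_isometry hf (hiso l) he, utv_isometry hf (hiso' l) he', utv_isometry hf (hiso l) he]
    have hwfix : ∀ x, f x (b l : ι → F) = 0 → f x (d l) = 0 → (w : Matrix ι ι F) *ᵥ x = x := by
      intro x h1 h2
      simp only [hw, gl_mul_mulVec, utv_mulVec hf (hiso l), utv_mulVec hf (hiso' l), hf.add_left,
        hf.smul_left, h1, h2, mul_zero, zero_smul, add_zero]
    have hwd : (w : Matrix ι ι F) *ᵥ d l = e • (b l : ι → F) := by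
      simp only [hw, gl_mul_mulVec, utv_mulVec hf (hiso l), utv_mulVec hf (hiso' l), hf.add_left,
        hf.smul_left, hiso l, hiso' l, hdb l l, hbd l l, if_true, mul_one, mul_zero, zero_add,
        add_zero, neg_mul, mul_neg, inv_mul_cancel₀ he0, mul_inv_cancel₀ he0]
      module
    have hwb : (w : Matrix ι ι F) *ᵥ (b l : ι → F) = (-e⁻¹) • d l := by
      simp only [hw, gl_mul_mulVec, utv_mulVec hf (hiso l), utv_mulVec hf (hiso' l), hf.add_left,
        hf.smul_left, hiso l, hiso' l, hdb l l, hbd l l, if_true, mul_one, mul_zero, zero_smul,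
        zero_add, add_zero, neg_mul, mul_neg, inv_mul_cancel₀ he0, mul_inv_cancel₀ he0]
      module
    refine ⟨T * w, fun x y => by rw [gl_mul_mulVec, gl_mul_mulVec, hT, hwiso],
      mul_mem hTdet (hw ▸ mul_mem (mul_mem (tv_mem_specialLinear _ _) (tv_mem_specialLinear _ _))
        (tv_mem_specialLinear _ _)), fun k => ?_⟩
    rw [gl_mul_mulVec, gl_mul_mulVec]
    rcases eq_or_ne k l with rfl | hkl
    · rw [hwb, hwd, mulVec_smul, mulVec_smul, (hTk k).1, (hTk k).2, if_neg hl, if_neg hl,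
        if_pos (Finset.mem_insert_self k S), if_pos (Finset.mem_insert_self k S)]
      exact ⟨rfl, rfl⟩
    · rw [hwfix _ (hts i _ (b k).2 _ (b l).2) (by rw [hbd, if_neg hkl]),
        hwfix _ (by rw [hdb, if_neg (Ne.symm hkl)]) (hts j _ (hd k) _ (hd l))]
      simpa [Finset.mem_insert, hkl] using hTk k

theorem centers_all [Finite F] (hf : Cfsg.Geo.IsUnitaryForm σ f)
    (hD : Cfsg.Geo.IsMDecomposition m D) (hts : ∀ i, ∀ u ∈ D i, ∀ v ∈ D i, f u v = 0)
    (hm : 3 ≤ m) {M : Subgroup (GL ι F)}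
    (hMS : ∀ g ∈ M, ∀ x y, f ((g : Matrix ι ι F) *ᵥ x) ((g : Matrix ι ι F) *ᵥ y) = f x y)
    (hP : ∀ g : GL ι F, g ∈ Cfsg.Geo.decompositionStabilizer D →
      (∀ x y, f ((g : Matrix ι ι F) *ᵥ x) ((g : Matrix ι ι F) *ᵥ y) = f x y) →
      g ∈ Cfsg.Geo.specialLinear ι F → g ∈ M)
    {g : GL ι F} (hgM : g ∈ M) (hg : g ∉ Cfsg.Geo.decompositionStabilizer D) :
    ∀ z : ι → F, f z z = 0 → UnitCenter σ f M z := by
  classical
  obtain ⟨e, he0, he⟩ := exists_skew_scalar hf
  have hother : ∀ i : Fin 2, ∃ j, i ≠ j := fun i => ⟨i + 1, by fin_cases i <;> decide⟩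
  have hthird : ∀ {i j l : Fin 2}, i ≠ j → l ≠ i → l = j := by decide
  have hE : ∀ {i j : Fin 2}, i ≠ j → ∀ a ∈ D i, ∀ b ∈ D j, f a b = 0 → ueich f e a b ∈ M := by
    intro i j hij a ha b hb hab
    have hp : IsPlane f a b := ⟨hts i a ha a ha, hts j b hb b hb, hab⟩
    refine hP _ (mem_stabilizer_of_fix fun l => mem_subspaceStabilizer_iff.mpr fun x hx => ?_)
      (ueich_isometry hf he hp) (ueich_mem_specialLinear _ _ _)
    rw [ueich_mulVec hf e hp]
    by_cases hl : l = i
    · subst hl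
      rw [hts l x hx a ha, mul_zero, zero_smul, add_zero]
      exact (D l).add_mem hx ((D l).smul_mem _ ha)
    · obtain rfl := hthird hij hl
      rw [hts l x hx b hb, mul_zero, zero_smul, add_zero]
      exact (D l).add_mem hx ((D l).smul_mem _ hb)
  -- a centre in one of the two spaces
  obtain ⟨i, a, ha, ha0, haC⟩ : ∃ i, ∃ a ∈ D i, a ≠ 0 ∧ UnitCenter σ f M a := by
    by_contra hc
    apply hg
    have hgood : ∀ c d, IsPlane f c d → ueich f e c d ∈ M → ∀ i,
        comp hD i c ∈ Submodule.span F {comp hD i d} ∨ comp hD i d = 0 := by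
      intro c d hcd hcdM i
      by_contra h
      push Not at h
      obtain ⟨j, hij⟩ := hother i
      obtain ⟨a, ha, ha0, haC⟩ :=
        centre_of_plane hf hD hts hm he0 he hij (hE hij) hcd hcdM h.1 h.2
      exact hc ⟨i, a, ha, ha0, haC⟩
    refine mem_stabilizer_of_mapsTo hD fun i => ?_
    obtain ⟨j, hij⟩ := hother i
    have hone : ∀ a ∈ D i, ∀ l, comp hD l ((g : Matrix ι ι F) *ᵥ a) ≠ 0 →
        (g : Matrix ι ι F) *ᵥ a ∈ D l := by
      intro a ha l hl'
      refine mem_of_comp_eq_zero hD fun k hkl => ?_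
      by_contra hk
      obtain ⟨b, hb, hb0, hab⟩ := exists_perp_one hf hD j (⊥ : Submodule F (ι → F)) a
        (by rw [finrank_bot]; omega)
      obtain ⟨b', hb', hb'S, hab'⟩ := exists_perp_one hf hD j (Submodule.span F {b}) a
        (by rw [finrank_span_singleton (by simpa using hb0)]; omega)
      set x := (g : Matrix ι ι F) *ᵥ a with hx
      have key : ∀ p ∈ D j, f p a = 0 → ∀ r : Fin 2, ∃ s : F,
          comp hD r ((g : Matrix ι ι F) *ᵥ p) = s • comp hD r x := by
        intro p hp hpa r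
        have hpl : IsPlane f p a := ⟨hts j p hp p hp, hts i a ha a ha, hpa⟩
        have hM' : ueich f e ((g : Matrix ι ι F) *ᵥ p) x ∈ M := by
          rw [hx, ← conj_ueich hf (hMS g hgM) e hpl, ueich_symm hf e hpl]
          exact M.mul_mem (M.mul_mem hgM (hE hij a ha p hp (swap_eq_zero hf hpa))) (M.inv_mem hgM)
        have hx0 : comp hD r x ≠ 0 := by
          by_cases hr : r = l
          · rw [hr]; exact hl'
          · rwa [hthird (Ne.symm hkl) hr]
        rcases hgood _ x (hpl.map (hMS g hgM)) hM' r with h | h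
        · obtain ⟨s, hs⟩ := Submodule.mem_span_singleton.mp h
          exact ⟨s, hs.symm⟩
        · exact absurd h hx0
      obtain ⟨s, hs⟩ := key b hb hab l
      obtain ⟨t, ht⟩ := key b hb hab k
      obtain ⟨s', hs'⟩ := key b' hb' hab' l
      obtain ⟨t', ht'⟩ := key b' hb' hab' k
      have hy : ∀ (p : ι → F) (s t : F), comp hD l ((g : Matrix ι ι F) *ᵥ p) = s • comp hD l x →
          comp hD k ((g : Matrix ι ι F) *ᵥ p) = t • comp hD k x →
          (g : Matrix ι ι F) *ᵥ p = s • comp hD l x + t • comp hD k x := by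
        intro p s t h1 h2
        rw [← h1, ← h2, comp_add hD (Ne.symm hkl)]
      have e1 := hy b s t hs ht
      have e2 := hy b' s' t' hs' ht'
      have hb0' : b ≠ 0 := by simpa using hb0
      have hst : s ≠ t := by
        intro hst
        have hgb : (g : Matrix ι ι F) *ᵥ b = s • x := by
          rw [e1, hst, ← smul_add, comp_add hD (Ne.symm hkl)]
        have hmem : b = s • a := gl_mulVec_injective g (by
          simp only [mulVec_smul]; rw [hgb, hx])
        apply hb0'
        rw [← comp_self hD hb, hmem, map_smul, comp_other hD hij.symm ha, smul_zero]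
      have hxm : (g : Matrix ι ι F) *ᵥ b' =
          (g : Matrix ι ι F) *ᵥ (((s' - t') / (s - t)) • b + ((t' * s - s' * t) / (s - t)) • a) := by
        have hd : s - t ≠ 0 := sub_ne_zero.mpr hst
        rw [mulVec_add, mulVec_smul, mulVec_smul, e2, e1, ← hx]
        conv_rhs => arg 2; rw [← comp_add hD (Ne.symm hkl) x]
        match_scalars <;> field_simp <;> ring
      have heq := congrArg (comp hD j) (gl_mulVec_injective g hxm)
      rw [map_add, map_smul, map_smul, comp_self hD hb', comp_self hD hb,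
        comp_other hD hij.symm ha, smul_zero, add_zero] at heq
      exact hb'S (Submodule.mem_span_singleton.mpr ⟨_, heq.symm⟩)
    obtain ⟨v, hv, hv0⟩ := Submodule.exists_mem_ne_zero_of_ne_bot (block_ne_bot hD i)
    obtain ⟨l, hlv⟩ : ∃ l, comp hD l ((g : Matrix ι ι F) *ᵥ v) ≠ 0 := by
      by_contra h
      push Not at h
      refine hv0 (gl_mulVec_injective g ?_)
      show (g : Matrix ι ι F) *ᵥ v = (g : Matrix ι ι F) *ᵥ 0
      rw [mulVec_zero, ← sum_comp hD ((g : Matrix ι ι F) *ᵥ v)]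
      exact Finset.sum_eq_zero fun l _ => h l
    refine ⟨l, fun x hx => ?_⟩
    by_contra hxl
    obtain ⟨k, hk, hkx⟩ : ∃ k, k ≠ l ∧ comp hD k ((g : Matrix ι ι F) *ᵥ x) ≠ 0 := by
      by_contra h
      push Not at h
      exact hxl (mem_of_comp_eq_zero hD h)
    have hvk := hone v hv l hlv
    have hxk := hone x hx k hkx
    have hsum : comp hD k ((g : Matrix ι ι F) *ᵥ (v + x)) ≠ 0 := by
      rw [mulVec_add, map_add, comp_other hD hk hvk, zero_add]; exact hkx
    have := hone (v + x) ((D i).add_mem hv hx) k hsum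
    apply hlv
    have h3 : comp hD l ((g : Matrix ι ι F) *ᵥ (v + x)) = 0 := comp_other hD (Ne.symm hk) this
    rwa [mulVec_add, map_add, comp_other hD (Ne.symm hk) hxk, add_zero] at h3
  obtain ⟨j, hij⟩ := hother i
  have hCi := centre_spread hf hD hts he0 he hij (hE hij) ha ha0 haC
  obtain ⟨T, hT, hTdet, hTi, hTj⟩ := exists_swap hf hD hts he0 he hij
  have hTM : T ∈ M := hP T (mem_stabilizer_of_mapsTo hD fun l => by
    by_cases hl : l = i
    · exact ⟨j, hl ▸ hTi⟩
    · exact ⟨i, (hthird hij hl) ▸ hTj⟩) hT hTdet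
  have hCj : ∀ u ∈ D j, UnitCenter σ f M u := centre_spread hf hD hts he0 he hij.symm (hE hij.symm)
    (hTi a ha) (fun e => ha0 (gl_mulVec_injective T (by simpa using e)))
    (unitCenter_conj hf haC hTM hT)
  -- adding a vector of `D j` to a centre
  have hadd : ∀ v, UnitCenter σ f M v → ∀ w ∈ D j, f v w ≠ 0 → f v w + σ (f v w) = 0 →
      UnitCenter σ f M (v + w) := by
    intro v hv w hw hne htr
    have := unitCenter_move hf (hCj w hw) hv (a := (f v w)⁻¹)
      (by rw [map_inv₀, eq_neg_of_add_eq_zero_right htr, inv_neg, add_neg_cancel])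
    rwa [inv_mul_cancel₀ hne, one_smul] at this
  intro z hz
  set z0 := comp hD i z with hz0
  set z1 := comp hD j z with hz1
  have hz0m : z0 ∈ D i := comp_mem hD i z
  have hz1m : z1 ∈ D j := comp_mem hD j z
  rw [← comp_add hD hij z, ← hz0, ← hz1] at hz ⊢
  rcases eq_or_ne z0 0 with he1 | he1
  · rw [he1, zero_add]; exact hCj z1 hz1m
  have htr : f z0 z1 + σ (f z0 z1) = 0 := by
    rw [hf.add_left, add_right hf, add_right hf, hts i _ hz0m _ hz0m, hts j _ hz1m _ hz1m,
      hf.herm z1 z0] at hz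
    linear_combination hz
  by_cases hzz : f z0 z1 = 0
  · obtain ⟨⟨y, hy⟩, -⟩ := hf.nondegenerate z0 he1
    have hy' : f z0 (comp hD j y) ≠ 0 := by
      rw [← form_comp hf hD hts hij hz0m]
      exact fun h => hy (swap_eq_zero hf h)
    set u := σ (e / f z0 (comp hD j y)) • comp hD j y with hu
    have hum : u ∈ D j := (D j).smul_mem _ (comp_mem hD j y)
    have hzu : f z0 u = e := by
      rw [hu, smul_right hf, hf.involutive, div_mul_cancel₀ e hy']
    have h1 := hadd z0 (hCi z0 hz0m) u hum (by rwa [hzu]) (by rwa [hzu])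
    have hval : f (z0 + u) (z1 - u) = -e := by
      rw [hf.add_left, hts j u hum _ ((D j).sub_mem hz1m hum), add_zero, sub_right hf, hzz, hzu,
        zero_sub]
    have h3 := hadd _ h1 (z1 - u) ((D j).sub_mem hz1m hum)
      (by rw [hval]; exact neg_ne_zero.mpr he0)
      (by rw [hval, map_neg]; linear_combination -he)
    rwa [add_assoc, add_sub_cancel] at h3
  · exact hadd z0 (hCi z0 hz0m) z1 hz1m hzz htr


/-- The same for `n ≥ 6`. -/
theorem maximal_of_six {F : Type*} [Field F] [Fintype F] (n q : ℕ) (hF : Fintype.card F = q ^ 2) (hn : 6 ≤ n) (k : ℕ) (hk : 2 * k = n) (D : Fin 2 → Submodule F (Fin n → F)) (hD : Cfsg.Geo.IsMDecomposition k D) (hts : ∀ i, Cfsg.Geo.IsTotallySingularFor (Cfsg.hermForm n F q) (D i)) : Cfsg.Geo.IsMaximalIn (Cfsg.GU n F q ⊓ Cfsg.Geo.specialLinear (Fin n) F) (Cfsg.Geo.decompositionStabilizer D ⊓ (Cfsg.GU n F q ⊓ Cfsg.Geo.specialLinear (Fin n) F)) := by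
  have hf := hermForm_isUnitary (n := n) hF
  refine isMaximalIn_of inf_le_right ?_ ?_
  · obtain ⟨a, ha, ha0⟩ := Submodule.exists_mem_ne_zero_of_ne_bot (block_ne_bot hD 0)
    obtain ⟨e, he0, he⟩ := exists_skew_scalar hf
    refine ⟨_, utv_mem_SU hF (hts 0 a ha a ha) he, fun h => ?_⟩
    obtain ⟨z, hz⟩ := (hf.nondegenerate a ha0).1
    obtain ⟨σ', hσ⟩ := exists_image_of_mem h.1
    set z1 := comp hD 1 z with hz1
    have hzm : z1 ∈ D 1 := comp_mem hD 1 z
    have hz1a : e * Cfsg.hermForm n F q z1 a ≠ 0 := mul_ne_zero he0 fun e' => hz (by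
      rw [form_comp' hf hD hts (show (0 : Fin 2) ≠ 1 by decide) ha, ← hz1]
      exact e')
    have h0 := hσ 0 a ha
    have h1 := hσ 1 z1 hzm
    rw [utv_mulVec hf (hts 0 a ha a ha), hts 0 a ha a ha, mul_zero, zero_smul, add_zero] at h0
    rw [utv_mulVec hf (hts 0 a ha a ha)] at h1
    have hσ0 : σ' 0 = 0 := by
      by_contra hne
      exact ha0 (by rw [← comp_self hD ha, comp_other hD (Ne.symm hne) h0])
    have hσ1 : σ' 1 = 1 := by
      by_contra hne
      have h10 : σ' 1 = 0 := by omega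
      exact absurd (σ'.injective (hσ0.trans h10.symm)) (by decide)
    rw [hσ1] at h1
    have h3 := (D 1).smul_mem (e * Cfsg.hermForm n F q z1 a)⁻¹ ((D 1).sub_mem h1 hzm)
    rw [add_sub_cancel_left, smul_smul, inv_mul_cancel₀ hz1a, one_smul] at h3
    exact ha0 (by rw [← comp_self hD ha, comp_other hD (show (0 : Fin 2) ≠ 1 by decide) h3])
  intro M hHM hMK g hgM hgH
  exact su_le hF (by omega) (centers_all hf hD hts (by omega) (fun h hh => mem_GU_iff'.mp (hMK hh).1)
    (fun h h1 h2 h3 => hHM ⟨h1, mem_GU_iff'.mpr h2, h3⟩) hgM fun h => hgH ⟨h, hMK hgM⟩)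

/-- The same for `n ≥ 10`. -/
theorem maximal_of_ten {F : Type*} [Field F] [Fintype F] (n q : ℕ) (hF : Fintype.card F = q ^ 2) (hn : 10 ≤ n) (k : ℕ) (hk : 2 * k = n) (D : Fin 2 → Submodule F (Fin n → F)) (hD : Cfsg.Geo.IsMDecomposition k D) (hts : ∀ i, Cfsg.Geo.IsTotallySingularFor (Cfsg.hermForm n F q) (D i)) : Cfsg.Geo.IsMaximalIn (Cfsg.GU n F q ⊓ Cfsg.Geo.specialLinear (Fin n) F) (Cfsg.Geo.decompositionStabilizer D ⊓ (Cfsg.GU n F q ⊓ Cfsg.Geo.specialLinear (Fin n) F)) :=
  maximal_of_six n q hF (by omega) k hk D hD hts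

/-- Let F be the field with q² elements and n = 2k ≥ 13. Let D be a decomposition of F^n into two complementary subspaces of dimension k on each of which the standard unitary form vanishes identically. Then the elements of SU_n(q) preserving or interchanging the two subspaces form a maximal subgroup of SU_n(q). -/
theorem result {F : Type*} [Field F] [Fintype F] (n q : ℕ) (hF : Fintype.card F = q ^ 2) (hn : 13 ≤ n) (k : ℕ) (hk : 2 * k = n) (D : Fin 2 → Submodule F (Fin n → F)) (hD : Cfsg.Geo.IsMDecomposition k D) (hts : ∀ i, Cfsg.Geo.IsTotallySingularFor (Cfsg.hermForm n F q) (D i)) : Cfsg.Geo.IsMaximalIn (Cfsg.GU n F q ⊓ Cfsg.Geo.specialLinear (Fin n) F) (Cfsg.Geo.decompositionStabilizer D ⊓ (Cfsg.GU n F q ⊓ Cfsg.Geo.specialLinear (Fin n) F)) :=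
  maximal_of_ten n q hF (by omega) k hk D hD hts

end Cfsg.Agent.S5657
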