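import Cfsg.Statements.S5658
import Cfsg.Agent.Lib.SubfieldMax.SkewMax

set_option autoImplicit false
open Cfsg

namespace Cfsg.Agent.S5658

/-- The same from dimension 6 on. -/
theorem maximal_of_six {F : Type*} [Field F] [Fintype F] (n q : ℕ) (hF : Fintype.card F = q ^ 2) (hn : 6 ≤ n) (F₀ : Subfield F) (r : ℕ) (hr : r.Prime) (hro : Odd r) (hcard : Fintype.card F = Nat.card F₀ ^ r) (P : Matrix.GeneralLinearGroup (Fin n) F) (hP : Cfsg.Geo.IsFormRationalStructure (Cfsg.hermForm n F q) F₀ 1 P) : Cfsg.Geo.IsMaximalIn (Cfsg.GU n F q ⊓ Cfsg.Geo.specialLinear (Fin n) F) (Cfsg.Geo.subfieldSubgroup F₀ P ⊓ (Cfsg.GU n F q ⊓ Cfsg.Geo.specialLinear (Fin n) F)) := by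
  classical
  have hp : ∀ x : F, Cfsg.Agent.Lib.Subspaces.UnitaryGen.powAut hF x = x ^ q := fun x => rfl
  set σ := Cfsg.Agent.Lib.Subspaces.UnitaryGen.powAut hF with hσ
  have hinv : ∀ a, σ (σ a) = a := (Cfsg.Agent.Lib.Subspaces.UnitaryGen.hermForm_isUnitary (n := n) hF).involutive
  have hstable : ∀ a ∈ F₀, σ a ∈ F₀ := fun a ha => by rw [hp]; exact pow_mem ha q
  obtain ⟨b, hb, hbne⟩ : ∃ b ∈ F₀, σ b ≠ b := by
    by_contra hall
    push Not at hall
    let K : Subfield F := RingHom.eqLocusField (σ : F →+* F) (RingHom.id F)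
    have hle : F₀ ≤ K := fun a ha => hall a ha
    have hK : Nat.card K = q := by
      rw [← Cfsg.Agent.Lib.Unitary.card_fixed hF]
      exact Nat.card_congr (Equiv.subtypeEquivRight fun x => by
        show σ x = x ↔ x ^ q = x
        rw [hp])
    letI : Algebra F₀ K := (Subfield.inclusion hle).toAlgebra
    have h1 := Module.natCard_eq_pow_finrank (K := F₀) (V := K)
    rw [hK] at h1
    rw [hF, h1, ← pow_mul] at hcard
    have h2 := Nat.pow_right_injective (Finite.one_lt_card (α := F₀)) hcard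
    exact (Nat.not_even_iff_odd.2 hro) (by rw [← h2]; exact ⟨Module.finrank F₀ K, by ring⟩)
  refine Cfsg.Agent.Lib.SubfieldMax.SkewMax.maximal hF (by omega) F₀ hr hcard hstable
    (ζ := b - σ b) (sub_ne_zero.2 (Ne.symm hbne)) (by rw [← hσ, map_sub, hinv]; ring) P (fun u v hu hv => ?_)
    (fun _ hfix => absurd (hfix b hb) hbne)
  have := mul_mem (sub_mem hb (hstable b hb)) (hP u v hu hv)
  rwa [one_mul] at this

theorem maximal_of_ten {F : Type*} [Field F] [Fintype F] (n q : ℕ) (hF : Fintype.card F = q ^ 2) (hn : 10 ≤ n) (F₀ : Subfield F) (r : ℕ) (hr : r.Prime) (hro : Odd r) (hcard : Fintype.card F = Nat.card F₀ ^ r) (P : Matrix.GeneralLinearGroup (Fin n) F) (hP : Cfsg.Geo.IsFormRationalStructure (Cfsg.hermForm n F q) F₀ 1 P) : Cfsg.Geo.IsMaximalIn (Cfsg.GU n F q ⊓ Cfsg.Geo.specialLinear (Fin n) F) (Cfsg.Geo.subfieldSubgroup F₀ P ⊓ (Cfsg.GU n F q ⊓ Cfsg.Geo.specialLinear (Fin n) F)) :=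
  maximal_of_six n q hF (by omega) F₀ r hr hro hcard P hP

/-- Let F be the field with q² elements, n ≥ 13, and F₀ a subfield with |F| = |F₀| ^ r for an odd prime r. Let P be an invertible matrix such that the standard unitary form takes values in F₀ on the F₀-span of the columns of P. Then the elements of SU_n(q) lying in the subfield group of P (the conjugate by P of the product of GL_n(F₀) with the scalars) form a maximal subgroup of SU_n(q). -/
theorem result {F : Type*} [Field F] [Fintype F] (n q : ℕ) (hF : Fintype.card F = q ^ 2) (hn : 13 ≤ n) (F₀ : Subfield F) (r : ℕ) (hr : r.Prime) (hro : Odd r) (hcard : Fintype.card F = Nat.card F₀ ^ r) (P : Matrix.GeneralLinearGroup (Fin n) F) (hP : Cfsg.Geo.IsFormRationalStructure (Cfsg.hermForm n F q) F₀ 1 P) : Cfsg.Geo.IsMaximalIn (Cfsg.GU n F q ⊓ Cfsg.Geo.specialLinear (Fin n) F) (Cfsg.Geo.subfieldSubgroup F₀ P ⊓ (Cfsg.GU n F q ⊓ Cfsg.Geo.specialLinear (Fin n) F)) :=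
  maximal_of_ten n q hF (by omega) F₀ r hr hro hcard P hP

end Cfsg.Agent.S5658
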