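import Cfsg.Statements.S5664
import Cfsg.Agent.Lib.K41.ExtForm.OfMatrix

set_option autoImplicit false
open Cfsg Module Matrix Cfsg.Agent.Lib.K41.ExtForm Cfsg.Agent.Lib.ExtFieldMax
  Cfsg.Agent.Lib.Subspaces.Transvection Cfsg.Agent.Lib.Subspaces.SympGen Cfsg.Agent.Lib.Subspaces.FormVec

namespace Cfsg.Agent.S5664

/-- Generalisation of the statement to small dimensions. -/
theorem maximal {F : Type*} [Field F] [Fintype F] (m : ℕ) (hm : 2 ≤ m) (r : ℕ) (hbig : 4 ≤ m ∨ 3 ≤ r) (hr : r.Prime) (K : Subalgebra F (Matrix (Fin m ⊕ Fin m) (Fin m ⊕ Fin m) F)) (hK : Cfsg.Geo.IsFieldSubalgebra r K) (hsa : Cfsg.Geo.IsSelfAdjointFor (Cfsg.sympForm m F) K) (halt : ∀ k ∈ K, ∀ v : (Fin m ⊕ Fin m → F), Cfsg.sympForm m F (Matrix.mulVec k v) v = 0) : Cfsg.Geo.IsMaximalIn (Cfsg.spGL m F) (Cfsg.Geo.subalgebraNormalizer K ⊓ Cfsg.spGL m F) := by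
  classical
  haveI : Nonempty (Fin m ⊕ Fin m) := ⟨Sum.inl ⟨0, by omega⟩⟩
  letI : Field K := fieldOfSub hK
  letI hmod : Module K (Fin m ⊕ Fin m → F) := subModule K
  haveI : @IsScalarTower F K (Fin m ⊕ Fin m → F) Algebra.toSMul hmod.toSMul inferInstance :=
    ⟨fun a k x => smul_mulVec a (k : Matrix (Fin m ⊕ Fin m) (Fin m ⊕ Fin m) F) x⟩
  haveI : Finite K := Finite.of_injective
    (fun x : K => (x : Matrix (Fin m ⊕ Fin m) (Fin m ⊕ Fin m) F)) Subtype.val_injective
  haveI : Nontrivial (Fin m ⊕ Fin m → F) := inferInstance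
  have hs := sympForm_isSymplectic (F := F) m
  let f := toBilin hs
  have hfr : finrank F K = r := hK.finrank_eq
  have hcardn : finrank F (Fin m ⊕ Fin m → F) = m + m := by
    rw [Module.finrank_fintype_fun_eq_card]; simp
  have hn : 8 ≤ finrank F (Fin m ⊕ Fin m → F) ∨ 3 ≤ finrank F K := by
    rw [hfr, hcardn]; omega
  have hsa' : ∀ (c : K) x y, f (c • x) y = f x (c • y) := fun c x y => hsa _ c.2 x y
  have halt' : ∀ (c : K) x, f (c • x) x = 0 := fun c x => halt _ c.2 x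
  have hnd : ∀ x, (∀ y, f x y = 0) → x = 0 := (toBilin_isSymp hs).nondeg
  refine isMaximalIn_of inf_le_right ?_ ?_
  · -- a transvection of the form is not semilinear
    let v : Fin m ⊕ Fin m → F := Pi.single (Sum.inl ⟨0, by omega⟩) 1
    have hv : v ≠ 0 := by simp [v]
    refine ⟨_, stv_mem_spGL v 1, fun h => ?_⟩
    have ht : ∀ x, (tv v ((1 : F) • formVec (Cfsg.sympForm m F) v) :
        Matrix (Fin m ⊕ Fin m) (Fin m ⊕ Fin m) F) *ᵥ x = x + f x v • v := fun x => by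
      rw [stv_mulVec hs, one_mul]; rfl
    obtain ⟨w, hw⟩ : ∃ w, f w v = 1 := by
      obtain ⟨⟨y, hy⟩, -⟩ := hs.nondegenerate v hv
      refine ⟨(Cfsg.sympForm m F y v)⁻¹ • y, ?_⟩
      show Cfsg.sympForm m F _ v = 1
      rw [hs.bilinear.smul_left, inv_mul_cancel₀ hy]
    obtain ⟨c, hc⟩ : ∃ c : K, ∀ a : F, algebraMap F K a ≠ c := by
      by_contra hne
      push Not at hne
      have h1 : finrank F K ≤ 1 := by
        refine finrank_le_one (1 : K) fun c => ?_
        obtain ⟨a, ha⟩ := hne c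
        exact ⟨a, by rw [← ha, Algebra.algebraMap_eq_smul_one]⟩
      have := hr.two_le
      omega
    obtain ⟨d, hdK, hd⟩ := semi_of_mem_normalizer h.1 c.2
    -- `d = c`
    let φ : (Fin m ⊕ Fin m → F) →ₗ[F] (Fin 2 → F) :=
      LinearMap.pi ![f.flip v,
        (f.flip v) ∘ₗ Matrix.mulVecLin (c : Matrix (Fin m ⊕ Fin m) (Fin m ⊕ Fin m) F)]
    obtain ⟨x, hx, hx0⟩ : ∃ x ∈ LinearMap.ker φ, x ≠ 0 := by
      refine (Submodule.ne_bot_iff _).1 fun hk => ?_
      have h1 := LinearMap.finrank_le_finrank_of_injective (LinearMap.ker_eq_bot.1 hk)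
      rw [Module.finrank_fin_fun] at h1
      omega
    have hx1 : f x v = 0 := congrFun (LinearMap.mem_ker.1 hx) 0
    have hx2 : f (c • x) v = 0 := congrFun (LinearMap.mem_ker.1 hx) 1
    have hdc : (⟨d, hdK⟩ : K) = c := by
      refine smul_left_injective K hx0 ?_
      show d *ᵥ x = c • x
      have h1 := hd x
      rw [ht, ht, hx1, zero_smul, add_zero] at h1
      rw [← h1]
      show c • x + f (c • x) v • v = c • x
      rw [hx2, zero_smul, add_zero]
    have hdc' : d = (c : Matrix (Fin m ⊕ Fin m) (Fin m ⊕ Fin m) F) := congrArg Subtype.val hdc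
    have h2 := hd w
    rw [ht, ht, hw, one_smul, hdc'] at h2
    have h3 : c • w + f (c • w) v • v = c • (w + v) := h2
    rw [smul_add, add_right_inj, ← algebraMap_smul K (f (c • w) v) v] at h3
    exact hc _ (smul_left_injective K hv h3)
  · intro M hHM hMS g hg hgn
    let H : Subgroup ((Fin m ⊕ Fin m → F) ≃ₗ[F] (Fin m ⊕ Fin m → F)) :=
      M.map (glEquiv (F := F) (ι := Fin m ⊕ Fin m)).toMonoidHom
    have hiso : ∀ k ∈ H, ∀ x y, f (k x) (k y) = f x y := by
      intro k hk x y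
      obtain ⟨A, hA, rfl⟩ := Subgroup.mem_map.1 hk
      exact mem_spGL_iff.1 (hMS hA) x y
    have hsemi : ∀ k : (Fin m ⊕ Fin m → F) ≃ₗ[F] (Fin m ⊕ Fin m → F), IsSemi F K k →
        (∀ x y, f (k x) (k y) = f x y) → k ∈ H := by
      intro k hk hkf
      obtain ⟨A, rfl⟩ := (glEquiv (F := F) (ι := Fin m ⊕ Fin m)).surjective k
      refine Subgroup.mem_map.2 ⟨A, hHM ⟨?_, mem_spGL_iff.2 fun x y => hkf x y⟩, rfl⟩
      refine mem_normalizer_of_semi K A fun c hc => ?_
      obtain ⟨d, hd⟩ := hk ⟨c, hc⟩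
      exact ⟨d, d.2, hd⟩
    let S := Setting.ofForm f hsa' halt' hnd H hiso hsemi (hfr.symm ▸ hr) hn
    have hnot : ∃ k ∈ S.M, ¬ IsSemi F K k := by
      refine ⟨glEquiv g, Subgroup.mem_map.2 ⟨g, hg, rfl⟩, fun hk => hgn ⟨?_, hMS hg⟩⟩
      refine mem_normalizer_of_semi K g fun c hc => ?_
      obtain ⟨d, hd⟩ := hk ⟨c, hc⟩
      exact ⟨d, d.2, hd⟩
    refine spGL_le fun v a => ?_
    obtain ⟨k, hk, hkz⟩ := S.transvection_mem hnot v a
    obtain ⟨A, hA, rfl⟩ := Subgroup.mem_map.1 hk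
    have hAt : A = tv v (a • formVec (Cfsg.sympForm m F) v) := gl_ext fun x => by
      rw [stv_mulVec hs]
      have h1 := hkz x
      rw [show S.f x v = f x v from Setting.ofForm_f ..] at h1
      exact h1
    exact hAt ▸ hA


/-- For a finite field F and m ≥ 7, let K be a subfield of the algebra of 2m × 2m matrices over F containing the scalars, of prime degree r over F, whose elements k are self-adjoint for the standard alternating form f on F^(2m) (f(k u, v) = f(u, k v)) and satisfy f(k v, v) = 0 for all v. Then the elements of Sp_2m(F) normalising K form a maximal subgroup of Sp_2m(F). -/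
theorem result {F : Type*} [Field F] [Fintype F] (m : ℕ) (hm : 7 ≤ m) (r : ℕ) (hr : r.Prime) (K : Subalgebra F (Matrix (Fin m ⊕ Fin m) (Fin m ⊕ Fin m) F)) (hK : Cfsg.Geo.IsFieldSubalgebra r K) (hsa : Cfsg.Geo.IsSelfAdjointFor (Cfsg.sympForm m F) K) (halt : ∀ k ∈ K, ∀ v : (Fin m ⊕ Fin m → F), Cfsg.sympForm m F (Matrix.mulVec k v) v = 0) : Cfsg.Geo.IsMaximalIn (Cfsg.spGL m F) (Cfsg.Geo.subalgebraNormalizer K ⊓ Cfsg.spGL m F) :=
  maximal m (by omega) r (Or.inl (by omega)) hr K hK hsa halt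

end Cfsg.Agent.S5664
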