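import Cfsg.Statements.S5665
import Cfsg.Agent.Lib.K41.ExtForm.Herm2

set_option autoImplicit false
open Cfsg Module Matrix Cfsg.Agent.Lib.K41.ExtForm Cfsg.Agent.Lib.ExtFieldMax
  Cfsg.Agent.Lib.Subspaces.Transvection Cfsg.Agent.Lib.Subspaces.SympGen Cfsg.Agent.Lib.Subspaces.FormVec

namespace Cfsg.Agent.S5665

/-- Generalisation of the statement to small dimensions. -/
theorem maximal {F : Type*} [Field F] [Fintype F] (m : ℕ) (hm : 3 ≤ m) (hodd : Odd (Fintype.card F)) (K : Subalgebra F (Matrix (Fin m ⊕ Fin m) (Fin m ⊕ Fin m) F)) (hK : Cfsg.Geo.IsFieldSubalgebra 2 K) (hac : Cfsg.Geo.IsAdjointClosedFor (Cfsg.sympForm m F) K) (hnsa : ¬ Cfsg.Geo.IsSelfAdjointFor (Cfsg.sympForm m F) K) : Cfsg.Geo.IsMaximalIn (Cfsg.spGL m F) (Cfsg.Geo.subalgebraNormalizer K ⊓ Cfsg.spGL m F) := by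
  classical
  haveI : Nonempty (Fin m ⊕ Fin m) := ⟨Sum.inl ⟨0, by omega⟩⟩
  letI : Field K := fieldOfSub hK
  letI hmod : Module K (Fin m ⊕ Fin m → F) := subModule K
  haveI : @IsScalarTower F K (Fin m ⊕ Fin m → F) Algebra.toSMul hmod.toSMul inferInstance :=
    ⟨fun a k x => smul_mulVec a (k : Matrix (Fin m ⊕ Fin m) (Fin m ⊕ Fin m) F) x⟩
  haveI : Finite K := Finite.of_injective
    (fun x : K => (x : Matrix (Fin m ⊕ Fin m) (Fin m ⊕ Fin m) F)) Subtype.val_injective
  haveI : FiniteDimensional F K := Module.Finite.of_finite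
  have hs := sympForm_isSymplectic (F := F) m
  let f := toBilin hs
  have hfr : finrank F K = 2 := hK.finrank_eq
  have hn : 6 ≤ finrank F (Fin m ⊕ Fin m → F) := by
    rw [Module.finrank_fintype_fun_eq_card]; simp; omega
  have hnd : ∀ x, (∀ y, f x y = 0) → x = 0 := (toBilin_isSymp hs).nondeg
  have hfs : ∀ x y, f x y = -f y x := fun x y => hs.skew x y
  -- the adjoint on `K`
  have hadj : ∀ c : K, ∃ d : K, ∀ x y, f (c • x) y = f x (d • y) := fun c => by
    obtain ⟨d, hd, h⟩ := hac _ c.2
    exact ⟨⟨d, hd⟩, h⟩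
  choose t ht using hadj
  have huniq : ∀ c d : K, (∀ x y, f (c • x) y = f x (d • y)) → t c = d := fun c d h => by
    refine Subtype.ext (mat_ext' fun y => ?_)
    show t c • y = d • y
    rw [← sub_eq_zero]
    refine hnd _ fun x => ?_
    rw [map_sub, LinearMap.sub_apply, hfs (t c • y), hfs (d • y), ← ht c x y, h, sub_self]
  have htt : ∀ c, t (t c) = c := fun c => huniq _ _ fun x y => by
    rw [hfs, ← ht c, ← hfs]
  let T : K →ₐ[F] K :=
    { toFun := t
      map_one' := huniq _ _ fun x y => by rw [one_smul, one_smul]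
      map_mul' := fun a b => huniq _ _ fun x y => by rw [mul_smul, ht, ht, smul_smul, mul_comm]
      map_zero' := huniq _ _ fun x y => by rw [zero_smul, zero_smul, map_zero, map_zero, LinearMap.zero_apply]
      map_add' := fun a b => huniq _ _ fun x y => by
        erw [add_smul, map_add, LinearMap.add_apply, ht, ht, add_smul, map_add]
        rfl
      commutes' := fun a => huniq _ _ fun x y => by
        have h1 : ∀ z : Fin m ⊕ Fin m → F, (algebraMap F K a) • z = a • z := fun z => algebraMap_smul K a z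
        erw [h1, h1]
        rw [map_smul, LinearMap.smul_apply, map_smul] }
  let τ : K ≃ₐ[F] K := AlgEquiv.ofBijective T ⟨T.toRingHom.injective,
    Finite.injective_iff_surjective.1 T.toRingHom.injective⟩
  have hτ : ∀ c, τ c = t c := fun c => rfl
  have hτ1 : τ ≠ 1 := by
    intro h
    refine hnsa fun k hk u v => ?_
    have h1 := ht ⟨k, hk⟩ u v
    rw [← hτ, h] at h1
    exact h1
  have hr2 : (finrank F K).Prime := hfr.symm ▸ Nat.prime_two
  have htwo : (2 : F) ≠ 0 := by
    refine Ring.two_ne_zero ((FiniteField.even_card_iff_char_two (F := F)).not.2 ?_)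
    rw [Nat.odd_iff.1 hodd]; exact one_ne_zero
  obtain ⟨c1, hc1⟩ := exists_moved hr2 hτ1
  have hm7 : 3 ≤ finrank K (Fin m ⊕ Fin m → F) := by
    have h := Module.finrank_mul_finrank F K (Fin m ⊕ Fin m → F)
    rw [hfr] at h
    omega
  refine isMaximalIn_of inf_le_right ?_ ?_
  · -- a transvection of the form is not semilinear
    let v : Fin m ⊕ Fin m → F := Pi.single (Sum.inl ⟨0, by omega⟩) 1
    have hv : v ≠ 0 := by simp [v]
    refine ⟨_, stv_mem_spGL v 1, fun h => ?_⟩
    have ht : ∀ x, (tv v ((1 : F) • formVec (Cfsg.sympForm m F) v) :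
        Matrix (Fin m ⊕ Fin m) (Fin m ⊕ Fin m) F) *ᵥ x = x + f x v • v := fun x => by
      rw [stv_mulVec hs, one_mul]; rfl
    obtain ⟨w, hw⟩ : ∃ w, f w v = 1 := by
      obtain ⟨⟨y, hy⟩, -⟩ := hs.nondegenerate v hv
      refine ⟨(Cfsg.sympForm m F y v)⁻¹ • y, ?_⟩
      show Cfsg.sympForm m F _ v = 1
      rw [hs.bilinear.smul_left, inv_mul_cancel₀ hy]
    obtain ⟨c, hc⟩ : ∃ c : K, ∀ a : F, algebraMap F K a ≠ c := by
      by_contra hne
      push Not at hne
      have h1 : finrank F K ≤ 1 := by
        refine finrank_le_one (1 : K) fun c => ?_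
        obtain ⟨a, ha⟩ := hne c
        exact ⟨a, by rw [← ha, Algebra.algebraMap_eq_smul_one]⟩
      omega
    obtain ⟨d, hdK, hd⟩ := semi_of_mem_normalizer h.1 c.2
    -- `d = c`
    let φ : (Fin m ⊕ Fin m → F) →ₗ[F] (Fin 2 → F) :=
      LinearMap.pi ![f.flip v,
        (f.flip v) ∘ₗ Matrix.mulVecLin (c : Matrix (Fin m ⊕ Fin m) (Fin m ⊕ Fin m) F)]
    obtain ⟨x, hx, hx0⟩ : ∃ x ∈ LinearMap.ker φ, x ≠ 0 := by
      refine (Submodule.ne_bot_iff _).1 fun hk => ?_
      have h1 := LinearMap.finrank_le_finrank_of_injective (LinearMap.ker_eq_bot.1 hk)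
      rw [Module.finrank_fin_fun] at h1
      omega
    have hx1 : f x v = 0 := congrFun (LinearMap.mem_ker.1 hx) 0
    have hx2 : f (c • x) v = 0 := congrFun (LinearMap.mem_ker.1 hx) 1
    have hdc : (⟨d, hdK⟩ : K) = c := by
      refine smul_left_injective K hx0 ?_
      show d *ᵥ x = c • x
      have h1 := hd x
      rw [ht, ht, hx1, zero_smul, add_zero] at h1
      rw [← h1]
      show c • x + f (c • x) v • v = c • x
      rw [hx2, zero_smul, add_zero]
    have hdc' : d = (c : Matrix (Fin m ⊕ Fin m) (Fin m ⊕ Fin m) F) := congrArg Subtype.val hdc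
    have h2 := hd w
    rw [ht, ht, hw, one_smul, hdc'] at h2
    have h3 : c • w + f (c • w) v • v = c • (w + v) := h2
    rw [smul_add, add_right_inj, ← algebraMap_smul K (f (c • w) v) v] at h3
    exact hc _ (smul_left_injective K hv h3)
  · intro M hHM hMS g hg hgn
    let H : Subgroup ((Fin m ⊕ Fin m → F) ≃ₗ[F] (Fin m ⊕ Fin m → F)) :=
      M.map (glEquiv (F := F) (ι := Fin m ⊕ Fin m)).toMonoidHom
    let S : Herm2.Setting F K (Fin m ⊕ Fin m → F) :=
      { τ := τ
        ε := c1 - τ c1
        ω := liftForm f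
        tau_ε := by rw [map_sub, hτ (τ c1), hτ c1, htt, neg_sub]
        ε_ne := sub_ne_zero.2 (Ne.symm hc1)
        tau_tau := fun x => by rw [hτ, hτ, htt]
        fixed := fun x hx => mem_range_of_fixed hr2 hτ1 hx
        trace_eq := fun x => by
          rw [← piMap_apply, piMap_eq hr2 hτ1, hfr]
          simp [Finset.sum_range_succ]
        two_ne := htwo
        add_left := liftForm_add_left f
        smul_left := liftForm_smul_left f
        add_right := liftForm_add_right f
        smul_right := fun c x z => trace_ext (F := F) fun a => by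
          rw [← mul_assoc, trace_liftForm, trace_liftForm, mul_comm a, hτ c]
          erw [mul_smul]
          rw [ht (t c), htt]
          rfl
        skew := fun x y => trace_ext (F := F) fun a => by
          rw [trace_liftForm, mul_neg, map_neg, ← Algebra.trace_eq_of_algEquiv τ, map_mul,
            show τ (τ (liftForm f x y)) = liftForm f x y by rw [hτ, hτ, htt], trace_liftForm, hτ,
            hfs]
          refine congrArg Neg.neg ?_
          refine Eq.trans ?_ (ht (t a) x y).symm
          rw [htt]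
          rfl
        nondeg := fun x h => hnd x fun y => by rw [← trace_liftForm_one (K := K), h, map_zero]
        M := H
        iso := fun k hk x y => by
          obtain ⟨A, hA, rfl⟩ := Subgroup.mem_map.1 hk
          rw [trace_liftForm_one, trace_liftForm_one]
          exact mem_spGL_iff.1 (hMS hA) x y
        lin_mem := fun k hk hkf => by
          obtain ⟨A, rfl⟩ := (glEquiv (F := F) (ι := Fin m ⊕ Fin m)).surjective k
          refine Subgroup.mem_map.2 ⟨A, hHM ⟨?_, mem_spGL_iff.2 fun x y => ?_⟩, rfl⟩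
          · exact mem_normalizer_of_semi K A fun c hc => ⟨c, hc, fun x => hk ⟨c, hc⟩ x⟩
          · have h := congrArg (Algebra.trace F K) (hkf x y)
            rw [trace_liftForm_one, trace_liftForm_one] at h
            exact h
        dim := hm7 }
    have hnot : ∃ k ∈ S.M, ¬ IsSemi F K k := by
      refine ⟨glEquiv g, Subgroup.mem_map.2 ⟨g, hg, rfl⟩, fun hk => hgn ⟨?_, hMS hg⟩⟩
      refine mem_normalizer_of_semi K g fun c hc => ?_
      obtain ⟨d, hd⟩ := hk ⟨c, hc⟩
      exact ⟨d, d.2, hd⟩
    refine spGL_le fun v a => ?_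
    obtain ⟨k, hk, hkz⟩ := S.transvection_mem hnot v a
    obtain ⟨A, hA, rfl⟩ := Subgroup.mem_map.1 hk
    have hAt : A = tv v (a • formVec (Cfsg.sympForm m F) v) := gl_ext fun x => by
      rw [stv_mulVec hs]
      have h1 := hkz x
      rw [show S.f x v = f x v from trace_liftForm_one f x v] at h1
      exact h1
    exact hAt ▸ hA


/-- For a finite field F of odd order and m ≥ 7, let K be a subfield of the algebra of 2m × 2m matrices over F containing the scalars, of degree 2 over F, that is closed under adjoints for the standard alternating form on F^(2m) but whose elements are not all self-adjoint (so the adjoint map induces the automorphism of order two of K). Then the elements of Sp_2m(F) normalising K form a maximal subgroup of Sp_2m(F). -/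
theorem result {F : Type*} [Field F] [Fintype F] (m : ℕ) (hm : 7 ≤ m) (hodd : Odd (Fintype.card F)) (K : Subalgebra F (Matrix (Fin m ⊕ Fin m) (Fin m ⊕ Fin m) F)) (hK : Cfsg.Geo.IsFieldSubalgebra 2 K) (hac : Cfsg.Geo.IsAdjointClosedFor (Cfsg.sympForm m F) K) (hnsa : ¬ Cfsg.Geo.IsSelfAdjointFor (Cfsg.sympForm m F) K) : Cfsg.Geo.IsMaximalIn (Cfsg.spGL m F) (Cfsg.Geo.subalgebraNormalizer K ⊓ Cfsg.spGL m F) :=
  maximal m (by omega) hodd K hK hac hnsa

end Cfsg.Agent.S5665
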