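import Cfsg.Statements.S5666
import Cfsg.Agent.Lib.TensorOrthMax.Main
import Cfsg.Agent.Lib.TensorOrthMax.Swap
import Cfsg.Agent.Lib.TensorSympOrth.SympMain
import Cfsg.Agent.Lib.Subspaces.OrthForm
-- import your own Cfsg.Agent.* helpers here

set_option autoImplicit false
open Cfsg Matrix

namespace Cfsg.Agent.S5666

/-- For a finite field F of odd order q and m ≥ 7, suppose the standard alternating form on F^(2m) is similar, through a change of basis P and a bijection of index sets e, to the tensor product of a non-degenerate symplectic form f₁ on F^(n₁) and a non-degenerate symmetric bilinear form f₂ on F^(n₂) with n₂ ≥ 3. Unless q = 3 and n₂ = 3, the elements of Sp_2m(F) in the stabiliser of this tensor decomposition (the conjugate by P of the Kronecker-product subgroup transported along e) form a maximal subgroup of Sp_2m(F). -/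
theorem result {F : Type*} [Field F] [Fintype F] (m : ℕ) (hm : 7 ≤ m) (hodd : Odd (Fintype.card F)) (n₁ n₂ : ℕ) (hn₂ : 3 ≤ n₂) (hex : ¬ (Fintype.card F = 3 ∧ n₂ = 3)) (e : (Fin m ⊕ Fin m) ≃ Fin n₁ × Fin n₂) (P : Matrix.GeneralLinearGroup (Fin m ⊕ Fin m) F) (f₁ : (Fin n₁ → F) → (Fin n₁ → F) → F) (f₂ : (Fin n₂ → F) → (Fin n₂ → F) → F) (hf₁ : Cfsg.Geo.IsSymplecticForm f₁) (hf₂ : Cfsg.Geo.IsSymmetricForm f₂) (hT : Cfsg.Geo.IsTensorFormStructure id (Cfsg.sympForm m F) f₁ f₂ e P) : Cfsg.Geo.IsMaximalIn (Cfsg.spGL m F) (Cfsg.Geo.tensorProductSubgroup n₁ n₂ e P ⊓ Cfsg.spGL m F) := by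
  classical
  have h2 := Cfsg.Agent.Lib.Subspaces.OrthForm.two_ne_zero_of_odd hodd
  have hf := Cfsg.Agent.Lib.Subspaces.SympGen.sympForm_isSymplectic (F := F) m
  have hcard : n₁ * n₂ = m + m := by simpa using (Fintype.card_congr e).symm
  have hn₁ : 2 ≤ n₁ := by
    by_contra h
    interval_cases n₁
    · omega
    · obtain ⟨w, hw⟩ := (hf₁.nondegenerate 1 one_ne_zero).1
      have e1 : w = w 0 • (1 : Fin 1 → F) := funext fun i => by simp [Fin.eq_zero i]
      rw [e1, hf₁.bilinear.smul_left, hf₁.alternating, mul_zero] at hw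
      exact hw rfl
  by_cases hA : n₁ ≤ n₂ ∧ 5 ≤ n₂
  · refine Cfsg.Agent.Lib.TensorOrthMax.Main.maximal_of (ε := -1) (Or.inr rfl) h2 (Cfsg.sympForm m F) hf.bilinear
      (fun x y => by rw [hf.skew y x, neg_one_mul]) (Cfsg.spGL m F)
      (fun g hg => Cfsg.Agent.Lib.Subspaces.SympGen.mem_spGL_iff.1 hg) (fun g hg => ?_) (fun g p w hp hw hg => ?_)
      (fun M hM => ?_) n₁ n₂ hn₁ hA.2 hA.1 (Or.inr rfl) e P f₁ f₂ (Cfsg.Agent.Lib.TensorFormMax.SympSide.sform hf₁) hf₂
      (fun B M D hG A => Cfsg.Agent.Lib.TensorOrthMax.Full.allHas_symp D rfl hf₁ ?_ hG A) hT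
    · exact Subgroup.mul_mem _ (Cfsg.Agent.Lib.Subspaces.SympGen.mem_spGL_iff.2 hg)
        (Cfsg.Agent.Lib.Subspaces.SympGen.mem_spGL_iff.2 hg)
    · refine Cfsg.Agent.Lib.Subspaces.SympGen.mem_spGL_iff.2 fun x y => ?_
      have hpw : Cfsg.sympForm m F p w = 0 := by rw [hf.skew, hw, neg_zero]
      have hww := hf.alternating w
      rw [hg, hg]
      simp only [hww, zero_div, zero_mul, zero_smul, sub_zero, neg_one_mul, neg_smul, sub_neg_eq_add]
      simp only [hf.bilinear.add_left, hf.bilinear.add_right, hf.bilinear.smul_left, hf.bilinear.smul_right, hp, hw,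
        hpw, hww, hf.skew y p, hf.skew y w]
      ring
    · refine Cfsg.Agent.Lib.Subspaces.SympGen.spGL_le fun v a => ?_
      by_cases hv : v = 0
      · have : Cfsg.Agent.Lib.Subspaces.Transvection.tv v
            (a • Cfsg.Agent.Lib.Subspaces.FormVec.formVec (Cfsg.sympForm m F) v) = 1 := by
          refine Units.ext (Matrix.ext_of_mulVec_single fun i => ?_)
          rw [Cfsg.Agent.Lib.Subspaces.SympGen.stv_mulVec hf, hv]
          ext j
          simp [Matrix.one_apply, Pi.single_apply]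
        rw [this]; exact M.one_mem
      · obtain ⟨g, hg, hgz⟩ := (hM v hv (hf.alternating v)).2 a (by simp)
        have : g = Cfsg.Agent.Lib.Subspaces.Transvection.tv v
            (a • Cfsg.Agent.Lib.Subspaces.FormVec.formVec (Cfsg.sympForm m F) v) :=
          Units.ext (Matrix.ext_of_mulVec_single fun i => by
            rw [hgz, Cfsg.Agent.Lib.Subspaces.SympGen.stv_mulVec hf])
        rwa [← this]
    · exact Or.inr ⟨-1, neg_ne_zero.2 one_ne_zero, fun h => h2 (by linear_combination -h)⟩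
  · rw [Cfsg.Agent.Lib.TensorOrthMax.Swap.subgroup e P]
    have hdims : n₂ < n₁ ∨ n₂ = 4 ∧ n₁ = 4 := by
      by_contra hc
      push Not at hc
      have h5 : n₂ < 5 := by
        by_contra h5
        exact hA ⟨by omega, by omega⟩
      have := Nat.mul_le_mul (show n₁ ≤ n₂ by omega) (le_refl n₂)
      interval_cases n₂ <;> omega
    refine Cfsg.Agent.Lib.TensorSympOrth.SympMain.maximal_symp h2 (Cfsg.sympForm m F) hf (Cfsg.spGL m F)
      (fun g => Cfsg.Agent.Lib.Subspaces.SympGen.mem_spGL_iff) (fun M hM => ?_) n₂ n₁ hn₂ ?_ (by omega) hdims _ P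
      f₂ f₁ hf₂ hf₁ (Cfsg.Agent.Lib.TensorOrthMax.Swap.structure_swap hT)
    · refine Cfsg.Agent.Lib.Subspaces.SympGen.spGL_le fun v a => ?_
      obtain ⟨g, hg, hgz⟩ := hM v a
      have : g = Cfsg.Agent.Lib.Subspaces.Transvection.tv v
          (a • Cfsg.Agent.Lib.Subspaces.FormVec.formVec (Cfsg.sympForm m F) v) :=
        Units.ext (Matrix.ext_of_mulVec_single fun i => by
          rw [hgz, Cfsg.Agent.Lib.Subspaces.SympGen.stv_mulVec hf])
      rwa [← this]
    · by_cases h : 4 ≤ n₂
      · exact Or.inl h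
      · refine Or.inr ?_
        by_contra hc
        push Not at hc
        refine hex ⟨?_, by omega⟩
        have hu : (Finset.univ : Finset F) ⊆ {0, 1, -1} := fun x _ => by
          by_cases hx : x = 0
          · simp [hx]
          · rcases mul_self_eq_one_iff.1 (hc x hx) with rfl | rfl <;> simp
        have h1 := (Finset.card_le_card hu).trans Finset.card_le_three
        rw [Finset.card_univ] at h1
        obtain ⟨d, hd⟩ := hodd
        have := Fintype.one_lt_card (α := F)
        omega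

end Cfsg.Agent.S5666
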