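import Cfsg.Statements.S5667
import Cfsg.Agent.Lib.Forms.TensorFactor
import Cfsg.Agent.Lib.Subspaces.SympGen

set_option autoImplicit false
open Cfsg

namespace Cfsg.Agent.S5667

open Matrix Cfsg.Agent.Lib.Forms.TensorFrame

/-- Over the field with 3 elements and for m ≥ 7, suppose the standard alternating form on F^(2m) is similar, through P and e, to the tensor product of a non-degenerate symplectic form f₁ on F^(n₁) and a non-degenerate symmetric bilinear form f₂ on F^3. Then the elements of Sp_2m(3) in the stabiliser of this tensor decomposition form a subgroup that is not maximal: some subgroup lies strictly between it and Sp_2m(3). -/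
theorem result {F : Type*} [Field F] [Fintype F] (m : ℕ) (hm : 7 ≤ m) (hq : Fintype.card F = 3) (n₁ : ℕ) (e : (Fin m ⊕ Fin m) ≃ Fin n₁ × Fin 3) (P : Matrix.GeneralLinearGroup (Fin m ⊕ Fin m) F) (f₁ : (Fin n₁ → F) → (Fin n₁ → F) → F) (f₂ : (Fin 3 → F) → (Fin 3 → F) → F) (hf₁ : Cfsg.Geo.IsSymplecticForm f₁) (hf₂ : Cfsg.Geo.IsSymmetricForm f₂) (hT : Cfsg.Geo.IsTensorFormStructure id (Cfsg.sympForm m F) f₁ f₂ e P) : ∃ K : Subgroup (Matrix.GeneralLinearGroup (Fin m ⊕ Fin m) F), Cfsg.Geo.tensorProductSubgroup n₁ 3 e P ⊓ Cfsg.spGL m F < K ∧ K < Cfsg.spGL m F := by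
  classical
  have hs := Lib.Subspaces.SympGen.sympForm_isSymplectic (F := F) m
  obtain ⟨c, hc, hB⟩ := form_pure (f := Cfsg.sympForm m F) (σ := id) (fun _ _ => rfl)
    (eq_formOfGram (Lib.Subspaces.FormVec.isLinearLeft_of_bilinear hf₁.bilinear)
      hf₁.bilinear.add_right hf₁.bilinear.smul_right)
    (eq_formOfGram (Lib.Subspaces.FormVec.isLinearLeft_of_bilinear hf₂.bilinear)
      hf₂.bilinear.add_right hf₂.bilinear.smul_right) hT
  obtain ⟨u, hu0, huu, huo, hcl⟩ := Lib.Forms.TensorFactor.sym_three hq hf₂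
  have hcard : m + m = n₁ * 3 := by simpa using Fintype.card_congr e
  let p : Fin n₁ → F := Pi.single (⟨0, by omega⟩ : Fin n₁) 1
  have hp0 : p ≠ 0 := by simp [p]
  obtain ⟨⟨y, hy⟩, -⟩ := hf₁.nondegenerate p hp0
  have hpy : f₁ p y ≠ 0 := by rw [hf₁.skew]; exact neg_ne_zero.mpr hy
  have hB' : ∀ x y x' y', Cfsg.sympForm m F (pure e P y x) (pure e P y' x') =
      c * (f₂ x x' * f₁ y y') := fun x y x' y' => by rw [hB]; ring
  refine exists_between_transvection (T := fun x y => pure e P y x) (u := u) (isTensorMap_flip e P)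
    inf_le_right ?_ (Lib.Subspaces.FormVec.isLinearLeft_of_bilinear hs.bilinear)
    hs.bilinear.add_right (fun v _ => ?_) hc hB' (by norm_num) huu huo hu0 (hf₁.alternating p) hp0
    hy hpy
  · rintro g ⟨hg, hgG⟩
    obtain ⟨a, b, hab⟩ := exists_of_mem_tensor e P hg
    obtain ⟨lam, hlam, ha⟩ := similitude (T := fun x y => pure e P y x) (a := b) (b := a) hc hB'
      (Lib.Subspaces.SympGen.mem_spGL_iff.mp hgG) (fun x y => hab y x) hy (huu 0)
    exact ⟨b, a, fun x y => hab y x, hcl b lam hlam ha⟩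
  · simpa using Lib.Subspaces.SympGen.stv_mem_spGL v (1 : F)

end Cfsg.Agent.S5667
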