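import Cfsg.Statements.S5668
import Cfsg.Agent.Lib.TensorSympMax.Main
import Cfsg.Agent.Lib.Subspaces.OrthForm
-- import your own Cfsg.Agent.* helpers here

set_option autoImplicit false
open Cfsg

namespace Cfsg.Agent.S5668

/-- For a finite field F of odd order q and m ≥ 7, suppose the standard alternating form on F^(2m) is similar, through a change of basis P and a bijection of index sets e, to the t-fold tensor power of a non-degenerate symplectic form f₁ on F^k, with t odd, t ≥ 3 and (q, k) ≠ (3, 2). Then the elements of Sp_2m(F) in the stabiliser of this decomposition (the conjugate by P of the standard tensor-wreath subgroup transported along e) form a maximal subgroup of Sp_2m(F). -/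
theorem result {F : Type*} [Field F] [Fintype F] (m : ℕ) (hm : 7 ≤ m) (hodd : Odd (Fintype.card F)) (k t : ℕ) (ht : Odd t) (ht3 : 3 ≤ t) (hex : ¬ (Fintype.card F = 3 ∧ k = 2)) (e : (Fin m ⊕ Fin m) ≃ (Fin t → Fin k)) (P : Matrix.GeneralLinearGroup (Fin m ⊕ Fin m) F) (f₁ : (Fin k → F) → (Fin k → F) → F) (hf₁ : Cfsg.Geo.IsSymplecticForm f₁) (hT : Cfsg.Geo.IsTensorPowerFormStructure id (Cfsg.sympForm m F) f₁ e P) : Cfsg.Geo.IsMaximalIn (Cfsg.spGL m F) (Cfsg.Geo.tensorWreathSubgroup k t e P ⊓ Cfsg.spGL m F) := by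
  classical
  have h2 := Cfsg.Agent.Lib.Subspaces.OrthForm.two_ne_zero_of_odd hodd
  have hcard : k ^ t = m + m := by simpa using (Fintype.card_congr e).symm
  have hk : 2 ≤ k := by
    by_contra h
    interval_cases k
    · rw [zero_pow (by omega)] at hcard; omega
    · rw [one_pow] at hcard; omega
  have hk3 : k ≠ 3 := fun h => by
    obtain ⟨r, hr⟩ : Odd (k ^ t) := (show Odd k by rw [h]; decide).pow
    omega
  have hq : k = 2 → 5 ≤ Nat.card F := fun h => by
    rw [Nat.card_eq_fintype_card]
    have h1 : Fintype.card F ≠ 3 := fun h' => hex ⟨h', h⟩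
    have h3 := Fintype.one_lt_card (α := F)
    obtain ⟨r, hr⟩ := hodd
    omega
  refine Cfsg.Agent.Lib.TensorSympMax.Main.maximal h2 (Cfsg.sympForm m F) (Cfsg.spGL m F)
    (fun g => Cfsg.Agent.Lib.Subspaces.SympGen.mem_spGL_iff) k t ?_ ht ht3 e P f₁ hf₁ hT
  by_cases h : k = 2
  · exact Or.inr ⟨h, hq h⟩
  · exact Or.inl (by omega)

end Cfsg.Agent.S5668
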