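import Cfsg.Statements.S5671
import Cfsg.Agent.Lib.Forms.TensorFactor

set_option autoImplicit false
open Cfsg

namespace Cfsg.Agent.S5671

open Matrix Cfsg.Agent.Lib.Forms.TensorFrame

/-- Let F be the field with 4 elements (q = 2) and n = 2 n₂ ≥ 13. Suppose the standard unitary form Σ u_i v_i² on F^n is similar, through P and e, to the tensor product of non-degenerate unitary forms f₁ on F^2 and f₂ on F^(n₂). Then the elements of SU_n(2) in the stabiliser of this tensor decomposition form a subgroup that is not maximal: some subgroup lies strictly between it and SU_n(2). -/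
theorem result {F : Type*} [Field F] [Fintype F] (n : ℕ) (hF : Fintype.card F = 4) (hn : 13 ≤ n) (n₂ : ℕ) (e : Fin n ≃ Fin 2 × Fin n₂) (P : Matrix.GeneralLinearGroup (Fin n) F) (f₁ : (Fin 2 → F) → (Fin 2 → F) → F) (f₂ : (Fin n₂ → F) → (Fin n₂ → F) → F) (hf₁ : Cfsg.Geo.IsUnitaryFormPow 2 f₁) (hf₂ : Cfsg.Geo.IsUnitaryFormPow 2 f₂) (hT : Cfsg.Geo.IsTensorFormStructure (fun x : F => x ^ 2) (Cfsg.hermForm n F 2) f₁ f₂ e P) : ∃ K : Subgroup (Matrix.GeneralLinearGroup (Fin n) F), Cfsg.Geo.tensorProductSubgroup 2 n₂ e P ⊓ (Cfsg.GU n F 2 ⊓ Cfsg.Geo.specialLinear (Fin n) F) < K ∧ K < (Cfsg.GU n F 2 ⊓ Cfsg.Geo.specialLinear (Fin n) F) := by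
  classical
  have hF' : Fintype.card F = 2 ^ 2 := by rw [hF]; norm_num
  have h20 : (2 : F) = 0 := by
    have := FiniteField.cast_card_eq_zero F
    rw [hF] at this
    have h4 : (2 : F) * 2 = 0 := by push_cast at this; linear_combination this
    simpa using h4
  have hu := Lib.Subspaces.UnitaryGen.hermForm_isUnitary (n := n) hF'
  have hsq : ∀ a b : F, (fun x : F => x ^ 2) (a * b) = (fun x : F => x ^ 2) a * (fun x : F => x ^ 2) b :=
    fun a b => mul_pow a b 2
  have hr₁ : ∀ v x y, f₁ v (x + y) = f₁ v x + f₁ v y := fun v x y => by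
    rw [hf₁.herm, hf₁.add_left, hf₁.herm v x, hf₁.herm v y]
    linear_combination f₁ x v * f₁ y v * h20
  have hs₁ : ∀ (c : F) v x, f₁ v (c • x) = c ^ 2 * f₁ v x := fun c v x => by
    rw [hf₁.herm, hf₁.smul_left, hf₁.herm v x, mul_pow]
  have hr₂ : ∀ v x y, f₂ v (x + y) = f₂ v x + f₂ v y := fun v x y => by
    rw [hf₂.herm, hf₂.add_left, hf₂.herm v x, hf₂.herm v y]
    linear_combination f₂ x v * f₂ y v * h20
  have hs₂ : ∀ (c : F) v x, f₂ v (c • x) = c ^ 2 * f₂ v x := fun c v x => by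
    rw [hf₂.herm, hf₂.smul_left, hf₂.herm v x, mul_pow]
  obtain ⟨c, hc, hB⟩ := form_pure (f := Cfsg.hermForm n F 2) hsq
    (eq_formOfGram ⟨hf₁.add_left, hf₁.smul_left⟩ hr₁ hs₁)
    (eq_formOfGram ⟨hf₂.add_left, hf₂.smul_left⟩ hr₂ hs₂) hT
  obtain ⟨u, hu0, huu, huo, hcl⟩ := Lib.Forms.TensorFactor.herm_two hF' hf₁
  have hn2 : n = 2 * n₂ := by simpa using Fintype.card_congr e
  let σ := Lib.Subspaces.UnitaryGen.powAut hF'
  have hf₂' : Cfsg.Geo.IsUnitaryForm σ f₂ :=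
    ⟨hu.ne_refl, hu.involutive, hf₂.add_left, hf₂.smul_left,
      fun v w => by rw [Lib.Subspaces.UnitaryGen.powAut_apply]; exact hf₂.herm v w, hf₂.nondegenerate⟩
  obtain ⟨p, hp, hpz⟩ := Lib.Subspaces.UnitaryForm.exists_isotropic_one hf₂' (by simp; omega)
    (z := Pi.single (⟨0, by omega⟩ : Fin n₂) 1) (by simp)
  have hzp : f₂ (Pi.single (⟨0, by omega⟩ : Fin n₂) 1) p ≠ 0 := by
    rw [hf₂.herm, hpz]; simp
  have hp0 : p ≠ 0 := fun h => by
    rw [h, Lib.Subspaces.FormVec.form_zero_left ⟨hf₂.add_left, hf₂.smul_left⟩] at hpz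
    exact zero_ne_one hpz
  refine exists_between_transvection (T := pure e P) (u := u) (isTensorMap_pure e P) inf_le_right
    ?_ (Lib.Subspaces.FormVec.isLinearLeft_of_unitary hu) (Lib.Subspaces.UnitaryForm.add_right hu)
    (fun v hv => ?_) hc hB one_lt_two huu huo hu0 hp hp0 hzp (by rw [hpz]; exact one_ne_zero)
  · rintro g ⟨hg, hgG⟩
    obtain ⟨a, b, hab⟩ := exists_of_mem_tensor e P hg
    obtain ⟨lam, hlam, ha⟩ := similitude hc hB (Lib.Subspaces.UnitaryGen.mem_GU_iff'.mp hgG.1) hab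
      (y := p) (y' := Pi.single (⟨0, by omega⟩ : Fin n₂) 1) (by rw [hpz]; exact one_ne_zero)
      (huu 0)
    exact ⟨a, b, hab, hcl a lam hlam ha⟩
  · have ha : (1 : F) + Lib.Subspaces.UnitaryGen.powAut hF' 1 = 0 := by
      rw [map_one]; linear_combination h20
    simpa using Lib.Subspaces.UnitaryGen.utv_mem_SU hF' hv ha

end Cfsg.Agent.S5671
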