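import Cfsg.Statements.S5673
import Cfsg.Agent.Lib.AschbacherOrth.OddStd

set_option autoImplicit false
open Cfsg
open Cfsg.Geo Cfsg.Agent.Lib.AschbacherOrth

namespace Cfsg.Agent.S5673

/-- Subgroup structure of the odd-dimensional orthogonal groups. Let F be a finite field of odd order and m ≥ 3, let Q be the standard quadratic form x₀² + Σ x_i y_i on F^(2m+1), and let Ω be the commutator subgroup of its isometry group, viewed inside GL_(2m+1)(F). Let H be a subgroup of Ω whose product with the scalar matrices in Ω is not all of Ω. Then either H is contained in a member of one of the geometric classes of subgroups of the isometry group (with the conditions built into InOrthogonalOddClass), or H is in the residual class: modulo scalars it is almost simple, and the perfect preimage of its socle acts absolutely irreducibly, is realisable over no proper subfield, and fixes no non-degenerate unitary form. -/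
theorem result {F : Type*} [Field F] [Fintype F] (hodd : Odd (Fintype.card F)) (m : ℕ) (hm : 3 ≤ m) (H : Subgroup (Matrix.GeneralLinearGroup (Unit ⊕ (Fin m ⊕ Fin m)) F)) (hH : H ≤ Cfsg.Geo.omegaGL (Cfsg.quadFormOdd m F)) (hproper : H ⊔ (Cfsg.Geo.scalars (Unit ⊕ (Fin m ⊕ Fin m)) F ⊓ Cfsg.Geo.omegaGL (Cfsg.quadFormOdd m F)) ≠ Cfsg.Geo.omegaGL (Cfsg.quadFormOdd m F)) : (∃ M : Subgroup (Matrix.GeneralLinearGroup (Unit ⊕ (Fin m ⊕ Fin m)) F), Cfsg.Geo.InOrthogonalOddClass m F M ∧ H ≤ M) ∨ Cfsg.Geo.InOrthogonalResidualClass H := by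
  classical
  have hHI := hH.trans (omegaGL_le_isometryGroup (quadFormOdd m F))
  rcases odd_cases (quadFormOdd_nondeg hodd m) hodd ⟨m, by simp; omega⟩ (by simp; omega)
    (quadFormOdd_rational m) H hHI with hgeo | hres
  swap
  · exact Or.inr hres
  left
  rcases hgeo with ⟨W, h0, h1, h⟩ | ⟨W, h0, h1, h2, h⟩ | ⟨t, k, D, hk, hD, -, h⟩ |
    ⟨r, K, hr, hrn, -, hK, hs, h⟩ | ⟨n₁, n₂, e, P, f₁, f₂, h3, h12, -, h1, h2, hf, h⟩ |
    ⟨F₀, r, P, hr, hq, hP, h⟩ | ⟨k, t, e, P, f₁, hk, ht, -, hne, hs, hf, h⟩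
  · exact ⟨_, Or.inl ⟨W, h0, h1, rfl⟩, le_inf h hHI⟩
  · exact ⟨_, Or.inr (Or.inl ⟨W, h0, h1, h2, rfl⟩), le_inf h hHI⟩
  · rcases hk with hk | ⟨rfl, hp⟩
    · exact ⟨_, Or.inr (Or.inr (Or.inl ⟨t, k, D, hk, hD, rfl⟩)), le_inf h hHI⟩
    · exact ⟨_, Or.inr (Or.inr (Or.inr (Or.inl ⟨t, D, hp, hD, rfl⟩))), le_inf h hHI⟩
  · exact ⟨_, Or.inr (Or.inr (Or.inr (Or.inr (Or.inl
      ⟨r, K, hr, fun he => hrn (by rw [← he]; simp; omega), hK, hs, rfl⟩)))), le_inf h hHI⟩
  · exact ⟨_, Or.inr (Or.inr (Or.inr (Or.inr (Or.inr (Or.inl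
      ⟨n₁, n₂, e, P, f₁, f₂, h3, h12, h1, h2, hf, rfl⟩))))), le_inf h hHI⟩
  · exact ⟨_, Or.inr (Or.inr (Or.inr (Or.inr (Or.inr (Or.inr (Or.inl
      ⟨F₀, r, P, hr, hq, hP, rfl⟩)))))), le_inf h hHI⟩
  · exact ⟨_, Or.inr (Or.inr (Or.inr (Or.inr (Or.inr (Or.inr (Or.inr
      ⟨k, t, e, P, f₁, hk, ht, hne, hs, hf, rfl⟩)))))), le_inf h hHI⟩

end Cfsg.Agent.S5673
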