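import Cfsg.Statements.S5674
import Cfsg.Agent.Lib.Subspaces.OrthSingular
import Cfsg.Agent.Lib.OrthOmega.Simple

set_option autoImplicit false
open Cfsg

namespace Cfsg.Agent.S5674

open Matrix Cfsg.Agent.Lib.Subspaces.Transvection Cfsg.Agent.Lib.Subspaces.OrthSingular



/-- Let F be a finite field of odd order, m ≥ 6, Q the standard quadratic form x₀² + Σ x_i y_i on F^(2m+1) and Ω the commutator subgroup of its isometry group inside GL_(2m+1)(F). The elements of Ω stabilising a non-zero subspace on which Q vanishes form a maximal subgroup of Ω. -/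
theorem result {F : Type*} [Field F] [Fintype F] (hodd : Odd (Fintype.card F)) (m : ℕ) (hm : 6 ≤ m) (W : Submodule F (Unit ⊕ (Fin m ⊕ Fin m) → F)) (hW0 : W ≠ ⊥) (hW : Cfsg.Geo.IsTotallySingularQuad (Cfsg.quadFormOdd m F) W) : Cfsg.Geo.IsMaximalIn (Cfsg.Geo.omegaGL (Cfsg.quadFormOdd m F)) (Cfsg.Geo.subspaceStabilizer W ⊓ Cfsg.Geo.omegaGL (Cfsg.quadFormOdd m F)) := by
  have h2 : (2 : F) ≠ 0 := Cfsg.Agent.Lib.OrthOmega.two_ne_zero_of_odd hodd
  have hQ : Cfsg.Geo.IsNondegenerateQuadraticForm (Cfsg.quadFormOdd m F) :=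
    isNondegenerateQuadraticForm_of _ (Cfsg.Agent.Lib.OrthOmega.qOddC_nondeg m h2)
      (Cfsg.Agent.Lib.OrthStd.quadFormOdd_eq m)
  have hc : 12 < Fintype.card (Unit ⊕ (Fin m ⊕ Fin m)) := by
    simp only [Fintype.card_sum, Fintype.card_unit, Fintype.card_fin]; omega
  refine isMaximalIn_of inf_le_right ?_ fun M hHM hMK g hgM hgH => ?_
  · obtain ⟨g, hg, hg'⟩ := exists_omega_not_stab hQ hc hW0 hW
    exact ⟨g, hg, fun h => hg' h.1⟩
  refine omega_le_of_ts hQ hc hW0 hW ?_ hMK (fun h h1 h2 => hHM ⟨h1, h2⟩) hgM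
    fun h => hgH ⟨h, hMK hgM⟩
  simp only [Fintype.card_sum, Fintype.card_unit, Fintype.card_fin]
  by_cases h : 3 + 2 * Module.finrank F W ≤ 1 + (m + m)
  · exact Or.inl h
  refine Or.inr fun r hr hrp => ?_
  by_contra hrW
  obtain ⟨U, hU, hUd, hle⟩ := ext_bound hQ hW hr hrp hrW
  simp only [Fintype.card_sum, Fintype.card_unit, Fintype.card_fin] at hle
  omega

end Cfsg.Agent.S5674
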