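import Cfsg.Statements.S5677
import Cfsg.Agent.Lib.Subspaces.OrthDecompOdd
import Cfsg.Agent.Lib.OrthOmega.Simple

set_option autoImplicit false
open Cfsg

namespace Cfsg.Agent.S5677


/-- Let F be a finite field of odd order q, m ≥ 6, Q the standard quadratic form on F^(2m+1) and Ω the commutator subgroup of its isometry group. Let D be a decomposition of F^(2m+1) into t ≥ 2 pairwise orthogonal, pairwise Q-isometric subspaces of equal dimension k > 1 on which the polar form is non-degenerate. Unless q = 3 and k = 3, the elements of Ω permuting the members of D form a maximal subgroup of Ω. -/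
theorem result {F : Type*} [Field F] [Fintype F] (hodd : Odd (Fintype.card F)) (m : ℕ) (hm : 6 ≤ m) {t : ℕ} (k : ℕ) (hk : 1 < k) (D : Fin t → Submodule F (Unit ⊕ (Fin m ⊕ Fin m) → F)) (hD : Cfsg.Geo.IsOrthogonalMDecomposition (Cfsg.quadFormOdd m F) k D) (hex : ¬ (Fintype.card F = 3 ∧ k = 3)) : Cfsg.Geo.IsMaximalIn (Cfsg.Geo.omegaGL (Cfsg.quadFormOdd m F)) (Cfsg.Geo.decompositionStabilizer D ⊓ Cfsg.Geo.omegaGL (Cfsg.quadFormOdd m F)) := by
  have h2 : (2 : F) ≠ 0 := Cfsg.Agent.Lib.OrthOmega.two_ne_zero_of_odd hodd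
  have hQ : Cfsg.Geo.IsNondegenerateQuadraticForm (Cfsg.quadFormOdd m F) :=
    Cfsg.Agent.Lib.Subspaces.OrthSingular.isNondegenerateQuadraticForm_of _
      (Cfsg.Agent.Lib.OrthOmega.qOddC_nondeg m h2) (Cfsg.Agent.Lib.OrthStd.quadFormOdd_eq m)
  have hc : Fintype.card (Unit ⊕ (Fin m ⊕ Fin m)) = 2 * m + 1 := by simp; omega
  have hcard := Cfsg.Agent.Lib.Subspaces.Decomposition.card_eq hD.decomp.decomp
  have ht2 := hD.decomp.decomp.two_le
  rw [hc] at hcard
  have hodd2 : Odd t ∧ Odd k := Nat.odd_mul.mp ⟨m, hcard.symm⟩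
  obtain ⟨a, ha⟩ := hodd2.1
  obtain ⟨b, hb⟩ := hodd2.2
  refine Cfsg.Agent.Lib.Subspaces.OrthDecompOdd.maximal_of_three_le hQ h2 (by omega) hD (by omega)
    (fun h => hex ?_) (by omega)
  rwa [Nat.card_eq_fintype_card] at h

end Cfsg.Agent.S5677
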