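import Cfsg.Statements.S5680
import Cfsg.Agent.Lib.OrthExtOdd.Spread
import Cfsg.Agent.Lib.AschbacherOrth.OddStd

set_option autoImplicit false
open Cfsg

namespace Cfsg.Agent.S5680

/-- Let F be a finite field of odd order, m ≥ 6, Q the standard quadratic form on F^(2m+1) and Ω the commutator subgroup of its isometry group. Let K be a subfield of the algebra of (2m+1) × (2m+1) matrices over F containing the scalars, of prime degree r over F with r ≠ 2m + 1, whose elements are self-adjoint for the polar form of Q. Then the elements of Ω normalising K form a maximal subgroup of Ω. -/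
theorem result {F : Type*} [Field F] [Fintype F] (hodd : Odd (Fintype.card F)) (m : ℕ) (hm : 6 ≤ m) (r : ℕ) (hr : r.Prime) (hrn : 2 * m + 1 ≠ r) (K : Subalgebra F (Matrix (Unit ⊕ (Fin m ⊕ Fin m)) (Unit ⊕ (Fin m ⊕ Fin m)) F)) (hK : Cfsg.Geo.IsFieldSubalgebra r K) (hsa : Cfsg.Geo.IsSelfAdjointFor (QuadraticMap.polar (Cfsg.quadFormOdd m F)) K) : Cfsg.Geo.IsMaximalIn (Cfsg.Geo.omegaGL (Cfsg.quadFormOdd m F)) (Cfsg.Geo.subalgebraNormalizer K ⊓ Cfsg.Geo.omegaGL (Cfsg.quadFormOdd m F)) := by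
  have h2 : (2 : F) ≠ 0 := Cfsg.Agent.Lib.OrthOmega.two_ne_zero_of_odd hodd
  haveI : Nonempty (Unit ⊕ (Fin m ⊕ Fin m)) := ⟨Sum.inl ()⟩
  have hdvd : r ∣ 2 * m + 1 := by
    letI : Field K := Cfsg.Agent.Lib.K41.ExtForm.fieldOfSub hK
    letI hmod : Module K ((Unit ⊕ (Fin m ⊕ Fin m)) → F) := Cfsg.Agent.Lib.K41.ExtForm.subModule K
    haveI : @IsScalarTower F K ((Unit ⊕ (Fin m ⊕ Fin m)) → F) Algebra.toSMul hmod.toSMul inferInstance :=
      ⟨fun a k x => Matrix.smul_mulVec a (k : Matrix (Unit ⊕ (Fin m ⊕ Fin m)) (Unit ⊕ (Fin m ⊕ Fin m)) F) x⟩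
    have h1 := Module.finrank_mul_finrank F K ((Unit ⊕ (Fin m ⊕ Fin m)) → F)
    have h3 : Module.finrank F K = r := hK.finrank_eq
    rw [h3, Module.finrank_fintype_fun_eq_card] at h1
    refine ⟨Module.finrank K ((Unit ⊕ (Fin m ⊕ Fin m)) → F), ?_⟩
    simp only [Fintype.card_sum, Fintype.card_unit, Fintype.card_fin] at h1
    omega
  obtain ⟨k, hk⟩ := hdvd
  have hr2 : r ≠ 2 := fun h => by rw [h] at hk; omega
  have hk1 : k ≠ 1 := fun h => hrn (by rw [hk, h, mul_one])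
  have hk2 : k ≠ 2 := fun h => by rw [h] at hk; omega
  have hk0 : k ≠ 0 := fun h => by rw [h] at hk; omega
  refine Cfsg.Agent.Lib.OrthExtOdd.maximal (Cfsg.Agent.Lib.AschbacherOrth.quadFormOdd_nondeg hodd m) h2 hr hr2 ?_ K hK hsa
  simp only [Fintype.card_sum, Fintype.card_unit, Fintype.card_fin]
  have : r * 3 ≤ r * k := Nat.mul_le_mul le_rfl (by omega)
  omega

end Cfsg.Agent.S5680
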