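import Cfsg.Statements.S5682
import Cfsg.Agent.Lib.Forms.TensorFactor
import Cfsg.Agent.Lib.Subspaces.OrthSingular
import Cfsg.Agent.Lib.OrthOmega.Simple
import Cfsg.Agent.Lib.OrthStd.Models

set_option autoImplicit false
open Cfsg

namespace Cfsg.Agent.S5682

open Matrix Cfsg.Agent.Lib.Forms.TensorFrame

/-- Let F be the field with 3 elements, m ≥ 6, Q the standard quadratic form on F^(2m+1) and Ω the commutator subgroup of its isometry group. Suppose the polar form of Q is similar, through P and e, to the tensor product of non-degenerate symmetric bilinear forms f₁ on F^3 and f₂ on F^(n₂) with 3 < n₂. Then the elements of Ω in the stabiliser of this tensor decomposition form a subgroup that is not maximal: some subgroup lies strictly between it and Ω. -/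
theorem result {F : Type*} [Field F] [Fintype F] (hq : Fintype.card F = 3) (m : ℕ) (hm : 6 ≤ m) (n₂ : ℕ) (h2 : 3 < n₂) (e : (Unit ⊕ (Fin m ⊕ Fin m)) ≃ Fin 3 × Fin n₂) (P : Matrix.GeneralLinearGroup (Unit ⊕ (Fin m ⊕ Fin m)) F) (f₁ : (Fin 3 → F) → (Fin 3 → F) → F) (f₂ : (Fin n₂ → F) → (Fin n₂ → F) → F) (hf₁ : Cfsg.Geo.IsSymmetricForm f₁) (hf₂ : Cfsg.Geo.IsSymmetricForm f₂) (hT : Cfsg.Geo.IsTensorFormStructure id (QuadraticMap.polar (Cfsg.quadFormOdd m F)) f₁ f₂ e P) : ∃ K : Subgroup (Matrix.GeneralLinearGroup (Unit ⊕ (Fin m ⊕ Fin m)) F), Cfsg.Geo.tensorProductSubgroup 3 n₂ e P ⊓ Cfsg.Geo.omegaGL (Cfsg.quadFormOdd m F) < K ∧ K < Cfsg.Geo.omegaGL (Cfsg.quadFormOdd m F) := by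
  classical
  have h2 : (2 : F) ≠ 0 :=
    Cfsg.Agent.Lib.OrthOmega.two_ne_zero_of_odd (by rw [hq]; decide)
  have hQ : Cfsg.Geo.IsNondegenerateQuadraticForm (Cfsg.quadFormOdd m F) :=
    Cfsg.Agent.Lib.Subspaces.OrthSingular.isNondegenerateQuadraticForm_of _
      (Cfsg.Agent.Lib.OrthOmega.qOddC_nondeg m h2)
      (Cfsg.Agent.Lib.OrthStd.quadFormOdd_eq m)
  obtain ⟨c, hc, hB⟩ := form_pure (f := QuadraticMap.polar (Cfsg.quadFormOdd m F)) (σ := id)
    (fun _ _ => rfl)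
    (eq_formOfGram (Lib.Subspaces.FormVec.isLinearLeft_of_bilinear hf₁.bilinear)
      hf₁.bilinear.add_right hf₁.bilinear.smul_right)
    (eq_formOfGram (Lib.Subspaces.FormVec.isLinearLeft_of_bilinear hf₂.bilinear)
      hf₂.bilinear.add_right hf₂.bilinear.smul_right) hT
  have hcard : 1 + (m + m) = 3 * n₂ := by simpa using Fintype.card_congr e
  obtain ⟨u, hu0, huu, huo, hcl⟩ := Lib.Forms.TensorFactor.sym_three hq hf₁
  obtain ⟨p, r, y, hp, hp0, hrp, hr, hyp⟩ := Lib.Forms.TensorFactor.sym_data h2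
    (show 4 < n₂ by omega) hf₂
  refine exists_between_siegel (T := pure e P) (u := u) (isTensorMap_pure e P) hQ h2 (by simp; omega)
    inf_le_right ?_ hc hB (by norm_num) huu huo hu0 hp hp0 hrp (by rw [hf₂.symm]; exact hrp) hr hyp
    (by rw [hf₂.symm]; exact hyp)
  rintro g ⟨hg, hgG⟩
  obtain ⟨a, b, hab⟩ := exists_of_mem_tensor e P hg
  obtain ⟨lam, hlam, ha⟩ := similitude hc hB
    (Lib.Subspaces.OrthForm.B_map (Lib.Subspaces.OmegaGL.omega_isometry hQ hgG)) hab hyp (huu 0)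
  exact ⟨a, b, hab, hcl a lam hlam ha⟩

end Cfsg.Agent.S5682
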