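import Cfsg.Statements.S5686
import Cfsg.Agent.Lib.Forms.FamilyParity

set_option autoImplicit false
open Cfsg

namespace Cfsg.Agent.S5686

open Matrix Cfsg.Agent.Lib.Subspaces.Transvection Cfsg.Agent.Lib.Subspaces.FormVec
  Cfsg.Agent.Lib.Subspaces.OrthForm Cfsg.Agent.Lib.Subspaces.OrthSingular
  Cfsg.Agent.Lib.Subspaces.OmegaGL

/-- Let F be a finite field with q elements, n ≥ 13 even, Q a non-degenerate quadratic form on F^n of plus type (some subspace of dimension n/2 is totally singular), and Ω the commutator subgroup of the isometry group of Q, viewed inside GL_n(F). The elements of Ω stabilising a subspace of dimension n/2 − 1 on which Q vanishes form a subgroup that is not maximal: some subgroup lies strictly between it and Ω. -/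
theorem result {F : Type*} [Field F] [Fintype F] {n : ℕ} (hn : 13 ≤ n) (heven : Even n) (Q : (Fin n → F) → F) (hQ : Cfsg.Geo.IsNondegenerateQuadraticForm Q) (hplus : Cfsg.Geo.IsPlusTypeOn Q ⊤) (W : Submodule F (Fin n → F)) (hW : Cfsg.Geo.IsTotallySingularQuad Q W) (hdim : 2 * (Module.finrank F W + 1) = n) : ∃ K : Subgroup (Matrix.GeneralLinearGroup (Fin n) F), Cfsg.Geo.subspaceStabilizer W ⊓ Cfsg.Geo.omegaGL Q < K ∧ K < Cfsg.Geo.omegaGL Q := by
  classical
  obtain ⟨X, -, hXts, hXd⟩ := hplus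
  rw [finrank_top, Module.finrank_fin_fun] at hXd
  have hc : Fintype.card (Fin n) = 2 * (Module.finrank F W + 1) := by rw [Fintype.card_fin, hdim]
  have hV : Module.finrank F (Fin n → F) = 2 * (Module.finrank F W + 1) := by
    rw [Module.finrank_fin_fun, hdim]
  have hb := hQ.polar_bilinear
  obtain ⟨U, hU, hWU, -⟩ := Lib.Forms.MaxSingular.exists_through (qf_nondeg hQ) hV
    (X := X) ⟨by omega, fun w hw => hXts w hw⟩ (Y := W) (fun w hw => hW w hw)
  have hUq : ∀ w ∈ U, Q w = 0 := fun w hw => hU.2 w hw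
  have hU0 : U ≠ ⊥ := fun h => by
    have := hU.1; rw [h, finrank_bot] at this; omega
  refine ⟨Cfsg.Geo.subspaceStabilizer U ⊓ Cfsg.Geo.omegaGL Q, lt_of_le_of_ne ?_ ?_,
    lt_of_le_of_ne inf_le_right ?_⟩
  · rintro g ⟨hg, hgΩ⟩
    refine ⟨mem_subspaceStabilizer_iff.mpr fun u hu => ?_, hgΩ⟩
    have hWg : W ≤ Lib.Forms.FamilyParity.img g U := fun w hw => by
      have hw' : ((g⁻¹ : GL (Fin n) F) : Matrix (Fin n) (Fin n) F) *ᵥ w ∈ W := by
        have := (hg (((g⁻¹ : GL (Fin n) F) : Matrix (Fin n) (Fin n) F) *ᵥ w))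
        exact this.2 (by
          show (g : Matrix (Fin n) (Fin n) F) *ᵥ _ ∈ W
          rw [gl_mulVec_inv]; exact hw)
      exact ⟨_, hWU hw', by rw [Matrix.toLin'_apply, gl_mulVec_inv]⟩
    have heq : Lib.Forms.FamilyParity.img g U = U := by
      by_contra hne
      have hdg := Lib.Forms.FamilyParity.finrank_img g U
      have hlt : U ⊓ Lib.Forms.FamilyParity.img g U < U := lt_of_le_of_ne inf_le_left fun h =>
        hne (Submodule.eq_of_le_of_finrank_le (inf_eq_left.mp h) hdg.le).symm
      have h1 := Submodule.finrank_lt_finrank_of_lt hlt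
      have h2 := Submodule.finrank_mono (le_inf hWU hWg)
      obtain ⟨r, hr⟩ := Lib.Forms.FamilyParity.even_dist hQ hc hU hgΩ
      rw [hU.1] at h1
      omega
    rw [← heq]
    exact ⟨u, hu, Matrix.toLin'_apply _ _⟩
  · intro hEq
    obtain ⟨y, hy, hy0⟩ := Submodule.exists_mem_ne_zero_of_ne_bot
      (show W ≠ ⊥ from fun h => by rw [h, finrank_bot] at hdim; omega)
    obtain ⟨u, hu, huW⟩ : ∃ u ∈ U, u ∉ W := by
      by_contra hcon
      push Not at hcon
      have := Submodule.finrank_mono (show U ≤ W from hcon)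
      rw [hU.1] at this; omega
    have hyu : y ∉ Submodule.span F {u} := fun h => by
      obtain ⟨c, rfl⟩ := Submodule.mem_span_singleton.mp h
      have hc0 : c ≠ 0 := fun e => hy0 (by rw [e, zero_smul])
      exact huW (by simpa [smul_smul, hc0] using W.smul_mem c⁻¹ hy)
    obtain ⟨w, hw, hwy⟩ := dual hQ hyu
    have hwu : QuadraticMap.polar Q w u = 0 := hw u (Submodule.mem_span_singleton_self u)
    have hts : ∀ x ∈ U, QuadraticMap.polar Q x u = 0 := fun x hx => by
      rw [QuadraticMap.polar, hUq _ (U.add_mem hx hu), hUq x hx, hUq u hu]; ring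
    have hg : sieg Q u w ∈ Cfsg.Geo.subspaceStabilizer U ⊓ Cfsg.Geo.omegaGL Q := by
      refine ⟨mem_subspaceStabilizer_iff.mpr fun x hx => ?_,
        sieg_mem_omega hQ (by omega) (hUq u hu) hwu⟩
      rw [sieg_mulVec hQ (hUq u hu) hwu, hts x hx, zero_smul, add_zero]
      exact U.add_mem hx (U.smul_mem _ hu)
    rw [← hEq] at hg
    have h1 := mem_subspaceStabilizer_iff.mp hg.1 y hy
    rw [sieg_mulVec hQ (hUq u hu) hwu, hts y (hWU hy), B_comm y w, hwy, zero_smul, add_zero,
      mul_zero, sub_zero, neg_one_smul] at h1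
    exact huW (by simpa using W.sub_mem hy h1)
  · intro hEq
    obtain ⟨g, hg, hg'⟩ := exists_omega_not_stab hQ (by omega) hU0 hUq
    rw [← hEq] at hg
    exact hg' hg.1

end Cfsg.Agent.S5686
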