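import Cfsg.Statements.S5692
import Cfsg.Agent.Lib.Subspaces.OrthDecompMax

set_option autoImplicit false
open Cfsg

namespace Cfsg.Agent.S5692

open Cfsg.Agent.Lib.Subspaces.OrthDecompMax


/-- Let F be a finite field with q elements, n ≥ 13 even, Q a non-degenerate quadratic form on F^n of plus type (some subspace of dimension n/2 is totally singular), and Ω the commutator subgroup of the isometry group of Q, viewed inside GL_n(F). Let D be a decomposition of F^n into t ≥ 2 pairwise orthogonal, pairwise Q-isometric subspaces of equal dimension k ≥ 2 on which the polar form is non-degenerate, such that: if k is even, either every member is of plus type or t is even; if k is odd, q is odd and the discriminant of Q is a square. Exclude the cases k = 2 with q = 3, k = 2 with plus-type members and q ∈ {2, 4, 5}, k = 3 with q = 3, and k = 4 with plus-type members and q = 2. Then the elements of Ω permuting the members of D form a maximal subgroup of Ω. -/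
theorem result {F : Type*} [Field F] [Fintype F] {n : ℕ} (hn : 13 ≤ n) (heven : Even n) (Q : (Fin n → F) → F) (hQ : Cfsg.Geo.IsNondegenerateQuadraticForm Q) (hplus : Cfsg.Geo.IsPlusTypeOn Q ⊤) {t : ℕ} (k : ℕ) (hk : 2 ≤ k) (D : Fin t → Submodule F (Fin n → F)) (hD : Cfsg.Geo.IsOrthogonalMDecomposition Q k D) (hke : Even k → ((∀ i, Cfsg.Geo.IsPlusTypeOn Q (D i)) ∨ Even t)) (hko : Odd k → (Odd (Fintype.card F) ∧ Cfsg.Geo.HasSquareDiscriminant Q)) (hex : ¬ ((k = 2 ∧ (Fintype.card F = 3 ∨ ((∀ i, Cfsg.Geo.IsPlusTypeOn Q (D i)) ∧ (Fintype.card F = 2 ∨ Fintype.card F = 4 ∨ Fintype.card F = 5)))) ∨ (k = 3 ∧ Fintype.card F = 3) ∨ (k = 4 ∧ Fintype.card F = 2 ∧ ∀ i, Cfsg.Geo.IsPlusTypeOn Q (D i)))) : Cfsg.Geo.IsMaximalIn (Cfsg.Geo.omegaGL Q) (Cfsg.Geo.decompositionStabilizer D ⊓ Cfsg.Geo.omegaGL Q) := by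
  refine maximal hQ (by rw [Fintype.card_fin]; exact hn) hk hD (fun h => (hko h).1)
    (fun h2 => ?_) (fun h3 hq => hex (Or.inr (Or.inl ⟨h3, hq⟩)))
    (fun h4 hq i hi => hex (Or.inr (Or.inr ⟨h4, hq, fun j => plus_transfer hD hi j⟩)))
  by_cases hall : ∃ i, Cfsg.Geo.IsPlusTypeOn Q (D i)
  · obtain ⟨i, hi⟩ := hall
    refine Or.inl ?_
    have hplus := fun j => plus_transfer hD hi j
    have h1 := Fintype.one_lt_card (α := F)
    have h6 : Fintype.card F ≠ 6 := fun e => by
      obtain ⟨p, m, hp, hm, he⟩ := (isPrimePow_nat_iff _).mp (e ▸ Fintype.isPrimePow_card_of_field (α := F))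
      have hdvd : p ∣ 6 := ⟨p ^ (m - 1), by rw [← pow_succ', Nat.sub_add_cancel hm, he]⟩
      have h2 : 2 ∣ p ^ m := ⟨3, by rw [he]⟩
      have h3 : 3 ∣ p ^ m := ⟨2, by rw [he]⟩
      have e2 := (Nat.prime_dvd_prime_iff_eq Nat.prime_two hp).mp (Nat.prime_two.dvd_of_dvd_pow h2)
      have e3 := (Nat.prime_dvd_prime_iff_eq Nat.prime_three hp).mp
        (Nat.prime_three.dvd_of_dvd_pow h3)
      omega
    by_contra hlt
    have : Fintype.card F = 2 ∨ Fintype.card F = 3 ∨ Fintype.card F = 4 ∨ Fintype.card F = 5 := by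
      omega
    rcases this with e | e | e | e
    · exact hex (Or.inl ⟨h2, Or.inr ⟨hplus, Or.inl e⟩⟩)
    · exact hex (Or.inl ⟨h2, Or.inl e⟩)
    · exact hex (Or.inl ⟨h2, Or.inr ⟨hplus, Or.inr (Or.inl e)⟩⟩)
    · exact hex (Or.inl ⟨h2, Or.inr ⟨hplus, Or.inr (Or.inr e)⟩⟩)
  · push Not at hall
    exact Or.inr ⟨fun hq => hex (Or.inl ⟨h2, Or.inl hq⟩), hall⟩

end Cfsg.Agent.S5692
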