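import Cfsg.Statements.S5697
import Cfsg.Agent.Lib.Subspaces.OrthLines
import Cfsg.Agent.Lib.Subspaces.OmegaGL
import Cfsg.Agent.Lib.Subspaces.Decomposition

set_option autoImplicit false
open Cfsg

namespace Cfsg.Agent.S5697

open Matrix Cfsg.Agent.Lib.Subspaces.Transvection Cfsg.Agent.Lib.Subspaces.FormVec
  Cfsg.Agent.Lib.Subspaces.OrthForm Cfsg.Agent.Lib.Subspaces.OrthLines
  Cfsg.Agent.Lib.Subspaces.OmegaGL Cfsg.Agent.Lib.Subspaces.Decomposition

variable {ι : Type} [Fintype ι] [DecidableEq ι] {F : Type*} [Field F]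
  {Q : (ι → F) → F} {m : ℕ} {D : Fin 2 → Submodule F (ι → F)}

local notation "B" => QuadraticMap.polar Q

theorem comp_add (hD : Cfsg.Geo.IsMDecomposition m D) {i j : Fin 2} (hij : i ≠ j) (x : ι → F) :
    comp hD i x + comp hD j x = x := by
  have h := sum_comp hD x
  rw [Fin.sum_univ_two] at h
  fin_cases i <;> fin_cases j <;> first | exact absurd rfl hij | exact h | rwa [add_comm] at h

theorem ts_B (hts : ∀ i, ∀ u ∈ D i, Q u = 0) {i : Fin 2} {u v : ι → F} (hu : u ∈ D i)
    (hv : v ∈ D i) : B u v = 0 := by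
  rw [QuadraticMap.polar, hts i _ ((D i).add_mem hu hv), hts i u hu, hts i v hv]; ring

theorem form_comp (hQ : Cfsg.Geo.IsNondegenerateQuadraticForm Q)
    (hD : Cfsg.Geo.IsMDecomposition m D) (hts : ∀ i, ∀ u ∈ D i, Q u = 0) {i j : Fin 2}
    (hij : i ≠ j) {u : ι → F} (hu : u ∈ D i) (x : ι → F) : B u x = B u (comp hD j x) := by
  conv_lhs => rw [← comp_add hD hij x, hQ.polar_bilinear.add_right,
    ts_B hts hu (comp_mem hD i x), zero_add]

theorem form_comp' (hQ : Cfsg.Geo.IsNondegenerateQuadraticForm Q)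
    (hD : Cfsg.Geo.IsMDecomposition m D) (hts : ∀ i, ∀ u ∈ D i, Q u = 0) {i j : Fin 2}
    (hij : i ≠ j) {u : ι → F} (hu : u ∈ D i) (x : ι → F) : B x u = B (comp hD j x) u := by
  rw [B_comm, form_comp hQ hD hts hij hu, B_comm]

theorem exists_dual [Finite F] (hQ : Cfsg.Geo.IsNondegenerateQuadraticForm Q)
    (hD : Cfsg.Geo.IsMDecomposition m D) (hts : ∀ i, ∀ u ∈ D i, Q u = 0) {i j : Fin 2}
    (hij : i ≠ j) (φ : ι → F) : ∃ t ∈ D j, ∀ u ∈ D i, B u t = φ ⬝ᵥ u := by
  obtain ⟨t, rfl⟩ := formVec_surjective (bil hQ) hQ.polar_bilinear.add_right hQ.nondegenerate φ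
  exact ⟨comp hD j t, comp_mem hD j t, fun u hu => by
    rw [formVec_dot (bil hQ), ← form_comp hQ hD hts hij hu]⟩

theorem exists_perp_in (hQ : Cfsg.Geo.IsNondegenerateQuadraticForm Q)
    (hD : Cfsg.Geo.IsMDecomposition m D) (i : Fin 2) (S : Submodule F (ι → F)) (c d : ι → F)
    (hdim : 2 + Module.finrank F S < m) : ∃ a ∈ D i, a ∉ S ∧ B a c = 0 ∧ B a d = 0 := by
  let L : D i →ₗ[F] F × F :=
    { toFun := fun a => (B a c, B a d)
      map_add' := fun a b => Prod.ext (hQ.polar_bilinear.add_left a b c)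
        (hQ.polar_bilinear.add_left a b d)
      map_smul' := fun t a => Prod.ext (hQ.polar_bilinear.smul_left t a c)
        (hQ.polar_bilinear.smul_left t a d) }
  have h1 := LinearMap.finrank_range_add_finrank_ker L
  rw [hD.finrank_eq i] at h1
  have h2 : Module.finrank F (LinearMap.range L) ≤ 2 :=
    le_trans (Submodule.finrank_le _) (by rw [Module.finrank_prod, Module.finrank_self])
  have h3 : ¬ (LinearMap.ker L).map (D i).subtype ≤ S := fun hle => by
    have := Submodule.finrank_mono hle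
    rw [Submodule.finrank_map_subtype_eq] at this
    omega
  obtain ⟨a, ⟨a', ha', rfl⟩, haS⟩ := SetLike.not_le_iff_exists.mp h3
  have := LinearMap.mem_ker.mp ha'
  exact ⟨a', a'.2, haS, congrArg Prod.fst this, congrArg Prod.snd this⟩

theorem finrank_pair_le (a b : ι → F) : Module.finrank F (Submodule.span F {a, b}) ≤ 2 := by
  classical
  have := finrank_span_finset_le_card (R := F) ({a, b} : Finset (ι → F))
  rw [Finset.coe_pair] at this
  exact this.trans Finset.card_le_two

/-- A plane with independent `D i`-components gives a line of `D i`. -/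
theorem line_of_plane [Finite F] (hQ : Cfsg.Geo.IsNondegenerateQuadraticForm Q)
    (hD : Cfsg.Geo.IsMDecomposition m D) (hts : ∀ i, ∀ u ∈ D i, Q u = 0) (hm : 7 ≤ m)
    {M : Subgroup (GL ι F)} {i j : Fin 2} (hij : i ≠ j)
    (hE : ∀ a ∈ D i, ∀ b ∈ D j, B a b = 0 → Line Q M a b) {c d : ι → F} (hcd : Line Q M c d)
    (hc : comp hD i c ∉ Submodule.span F {comp hD i d}) (hd : comp hD i d ≠ 0) :
    ∃ a ∈ D i, ∃ p ∈ D i, p ∉ Submodule.span F {a} ∧ a ≠ 0 ∧ Line Q M a p := by
  have hb := hQ.polar_bilinear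
  have hji : j ≠ i := hij.symm
  set c0 := comp hD i c with hc0
  set d0 := comp hD i d with hd0
  obtain ⟨a, ha, haS, hac, had⟩ := exists_perp_in hQ hD i (Submodule.span F {c0, d0}) c d
    (by have := finrank_pair_le c0 d0; omega)
  have ha0 : a ≠ 0 := fun e => haS (e ▸ Submodule.zero_mem _)
  have hc' : c0 ∉ Submodule.span F {a, d0} := by
    rw [Submodule.mem_span_pair]
    rintro ⟨r, s, hrs⟩
    rcases eq_or_ne r 0 with rfl | hr
    · exact hc (Submodule.mem_span_singleton.mpr ⟨s, by simpa using hrs⟩)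
    · refine haS (Submodule.mem_span_pair.mpr ⟨r⁻¹, -(r⁻¹ * s), ?_⟩)
      calc r⁻¹ • c0 + -(r⁻¹ * s) • d0 = r⁻¹ • (r • a) := by rw [← hrs]; module
        _ = a := by rw [smul_smul, inv_mul_cancel₀ hr, one_smul]
  obtain ⟨φ, hφ, hφc⟩ := exists_functional hc'
  have had2 : Line Q M a d := by
    refine ⟨hts i a ha, hcd.2.1, had, fun r => ?_⟩
    obtain ⟨b, hbj, hbφ⟩ := exists_dual hQ hD hts hij ((-r) • φ)
    have hab : B a b = 0 := by
      rw [hbφ a ha, smul_dotProduct, hφ a (Submodule.subset_span (by simp)), smul_zero]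
    have hcb : B c b = -r := by
      rw [form_comp' hQ hD hts hji hbj, ← hc0, hbφ c0 (comp_mem hD i c), smul_dotProduct, hφc,
        smul_eq_mul, mul_one]
    have hdb : B d b = 0 := by
      rw [form_comp' hQ hD hts hji hbj, ← hd0, hbφ d0 (comp_mem hD i d), smul_dotProduct,
        hφ d0 (Submodule.subset_span (by simp)), smul_zero]
    have hab' := hE a ha b hbj hab
    have hpM : sieg Q a b ∈ M := by simpa using hab'.2.2.2 1
    have hpv := lsieg_mulVec hQ (hts i a ha) (hts j b hbj) hab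
    have hp := fun x => sieg_isometry hQ (hts i a ha) (by rw [B_comm, hab] : B b a = 0) x
    have h1 := line_conj hQ hcd hpM hp
    rw [hpv, hpv, B_comm c a, hac, hcb, B_comm d a, had, hdb] at h1
    simp only [neg_neg, neg_zero, zero_smul, add_zero] at h1
    have h2 : Line Q M (r • a) d :=
      line_sub hQ h1 hcd (by rw [hQ.smul, hts i a ha, mul_zero])
    simpa using h2.2.2.2 1
  obtain ⟨ψ, hψ, hψd⟩ := exists_functional (W := Submodule.span F {a}) (v := d0) (fun hm => by
    obtain ⟨s, hs⟩ := Submodule.mem_span_singleton.mp hm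
    have hs0 : s ≠ 0 := fun e => hd (by rw [← hs, e, zero_smul])
    refine haS (Submodule.mem_span_pair.mpr ⟨0, s⁻¹, ?_⟩)
    rw [← hs, zero_smul, zero_add, smul_smul, inv_mul_cancel₀ hs0, one_smul])
  obtain ⟨s, hs, hsψ⟩ := exists_dual hQ hD hts hij ψ
  have has : B a s = 0 := by rw [hsψ a ha, hψ a (Submodule.mem_span_singleton_self a)]
  have hds : B d s = 1 := by
    rw [form_comp' hQ hD hts hji hs, ← hd0, hsψ d0 (comp_mem hD i d), hψd]
  obtain ⟨p, hp, hpS, hps, hpd⟩ := exists_perp_in hQ hD i (Submodule.span F {a}) s d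
    (by rw [finrank_span_singleton ha0]; omega)
  have hps' := hE p hp s hs hps
  have hpM : sieg Q p s ∈ M := by simpa using hps'.2.2.2 1
  have h1 := line_conj hQ (line_symm hQ had2) hpM
    (fun x => sieg_isometry hQ (hts i p hp) (by rw [B_comm, hps] : B s p = 0) x)
  rw [lsieg_mulVec hQ (hts i p hp) (hts j s hs) hps, lsieg_mulVec hQ (hts i p hp) (hts j s hs) hps,
    ts_B hts ha hp, has, B_comm d p, hpd, hds] at h1
  simp only [neg_zero, zero_smul, add_zero] at h1
  have h2 := line_sub hQ h1 (line_symm hQ had2) (by rw [hQ.smul, hts i p hp, mul_zero])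
  have h3 := line_smul hQ h2 (-1)
  rw [smul_smul, neg_one_mul, neg_neg, one_smul] at h3
  exact ⟨a, ha, p, hp, hpS, ha0, line_symm hQ h3⟩

/-- One line of `D i` gives all of them. -/
theorem line_spread [Finite F] (hQ : Cfsg.Geo.IsNondegenerateQuadraticForm Q)
    (hD : Cfsg.Geo.IsMDecomposition m D) (hts : ∀ i, ∀ u ∈ D i, Q u = 0) (hm : 7 ≤ m)
    {M : Subgroup (GL ι F)} {i j : Fin 2} (hij : i ≠ j)
    (hE : ∀ a ∈ D i, ∀ b ∈ D j, B a b = 0 → Line Q M a b)
    {a p : ι → F} (ha : a ∈ D i) (hp : p ∈ D i) (hpa : p ∉ Submodule.span F {a}) (ha0 : a ≠ 0)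
    (h : Line Q M a p) : ∀ x ∈ D i, ∀ y ∈ D i, Line Q M x y := by
  have hb := hQ.polar_bilinear
  have step : ∀ a ∈ D i, ∀ a' ∈ D i, ∀ p ∈ D i, Line Q M a p →
      a ∉ Submodule.span F {a - a', p} → Line Q M a' p := by
    intro a ha a' ha' p hp h hnot
    obtain ⟨φ, hφ, hφa⟩ := exists_functional hnot
    obtain ⟨b, hbj, hbφ⟩ := exists_dual hQ hD hts hij φ
    have hu := (D i).sub_mem ha ha'
    have hub : B (a - a') b = 0 := by rw [hbφ _ hu, hφ _ (Submodule.subset_span (by simp))]
    have hE' := hE _ hu b hbj hub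
    have hpv := lsieg_mulVec hQ (hts i _ hu) (hts j b hbj) hub
    have h1 := line_conj hQ h (by simpa using hE'.2.2.2 1)
      (fun x => sieg_isometry hQ (hts i _ hu) (by rw [B_comm, hub]) x)
    rw [hpv, hpv, ts_B hts ha hu, ts_B hts hp hu, hbφ a ha, hbφ p hp, hφa,
      hφ p (Submodule.subset_span (by simp))] at h1
    simpa using h1
  have hind : ∀ a a' p : ι → F, p ∉ Submodule.span F {a} → a ≠ 0 →
      a' ∉ Submodule.span F {a, p} → a ∉ Submodule.span F {a - a', p} := by
    intro a a' p hpa ha0 ha' hm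
    obtain ⟨r, s, hrs⟩ := Submodule.mem_span_pair.mp hm
    rcases eq_or_ne r 0 with rfl | hr
    · rw [zero_smul, zero_add] at hrs
      rcases eq_or_ne s 0 with rfl | hs
      · exact ha0 (by simpa using hrs.symm)
      · exact hpa (Submodule.mem_span_singleton.mpr
          ⟨s⁻¹, by rw [← hrs, smul_smul, inv_mul_cancel₀ hs, one_smul]⟩)
    · refine ha' (Submodule.mem_span_pair.mpr ⟨(r - 1) / r, s / r, ?_⟩)
      have h1 : r • a' = (r - 1) • a + s • p := by linear_combination (norm := module) -hrs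
      calc ((r - 1) / r) • a + (s / r) • p = r⁻¹ • ((r - 1) • a + s • p) := by module
        _ = a' := by rw [← h1, smul_smul, inv_mul_cancel₀ hr, one_smul]
  have hsub : ∀ (S : Submodule F (ι → F)) (v : ι → F), v ∈ S →
      Submodule.span F {v} ≤ S := fun S v hv => (Submodule.span_singleton_le_iff_mem _ _).mpr hv
  intro x hx y hy
  by_cases hxy : x ∈ Submodule.span F {y}
  · obtain ⟨c, rfl⟩ := Submodule.mem_span_singleton.mp hxy
    refine ⟨hts i _ hx, hts i y hy, ts_B hts hx hy, fun d => ?_⟩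
    have h1 : sieg Q (d • c • y) y = 1 := gl_ext fun z => by
      rw [lsieg_mulVec hQ (hts i _ ((D i).smul_mem d hx)) (hts i y hy)
        (ts_B hts ((D i).smul_mem d hx) hy), hb.smul_right, hb.smul_right, Units.val_one,
        one_mulVec]
      module
    rw [h1]
    exact M.one_mem
  have hy0 : y ≠ 0 ∨ y = 0 := ne_or_eq y 0
  rcases hy0 with hy0 | rfl
  swap
  · refine ⟨hts i _ hx, hts i _ hy, ts_B hts hx hy, fun d => ?_⟩
    have h1 : sieg Q (d • x) (0 : ι → F) = 1 := gl_ext fun z => by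
      rw [lsieg_mulVec hQ (hts i _ ((D i).smul_mem d hx)) (hts i _ hy)
        (ts_B hts ((D i).smul_mem d hx) hy), zero_right hQ, Units.val_one, one_mulVec]
      simp
    rw [h1]
    exact M.one_mem
  classical
  obtain ⟨r, hr, hrS, -, -⟩ := exists_perp_in hQ hD i (Submodule.span F {a, p} ⊔ Submodule.span F {y})
    0 0 (by
      have := Submodule.finrank_add_le_finrank_add_finrank (Submodule.span F {a, p})
        (Submodule.span F {y})
      have := finrank_pair_le a p
      rw [finrank_span_singleton hy0] at *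
      omega)
  have hr0 : r ≠ 0 := fun e => hrS (e ▸ Submodule.zero_mem _)
  have hrap : r ∉ Submodule.span F {a, p} := fun hm => hrS (Submodule.mem_sup_left hm)
  -- `(a, p)` to `(a, r)`
  have h1 : Line Q M r a := by
    refine step p hp r hr a ha (line_symm hQ h) (hind p r a ?_ ?_ ?_)
    · intro hm
      obtain ⟨c, hc⟩ := Submodule.mem_span_singleton.mp hm
      have hc0 : c ≠ 0 := fun e => ha0 (by rw [← hc, e, zero_smul])
      exact hpa (Submodule.mem_span_singleton.mpr
        ⟨c⁻¹, by rw [← hc, smul_smul, inv_mul_cancel₀ hc0, one_smul]⟩)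
    · exact fun e => hpa (e ▸ Submodule.zero_mem _)
    · rwa [Set.pair_comm]
  obtain ⟨s, hs, hsS, -, -⟩ := exists_perp_in hQ hD i
    (Submodule.span F {a, r} ⊔ Submodule.span F {x, y})
    0 0 (by
      have := Submodule.finrank_add_le_finrank_add_finrank (Submodule.span F {a, r})
        (Submodule.span F {x, y})
      have := finrank_pair_le a r
      have := finrank_pair_le x y
      omega)
  have hs0 : s ≠ 0 := fun e => hsS (e ▸ Submodule.zero_mem _)
  have hra : r ∉ Submodule.span F {a} :=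
    fun hm => hrap (Submodule.span_mono (by simp) hm)
  -- `(a, r)` to `(s, r)`
  have h2 : Line Q M s r := by
    refine step a ha s hs r hr (line_symm hQ h1) (hind a s r hra ha0 fun hm => hsS ?_)
    exact Submodule.mem_sup_left hm
  have hsy : s ∉ Submodule.span F {y} := fun hm =>
    hsS (Submodule.mem_sup_right (Submodule.span_mono (by simp) hm))
  have hrs' : s ∉ Submodule.span F {r} := fun hm =>
    hsS (Submodule.mem_sup_left (Submodule.span_mono (by simp) hm))
  have hyr : y ∉ Submodule.span F {r, s} := by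
    intro hm
    obtain ⟨c, d, hcd⟩ := Submodule.mem_span_pair.mp hm
    rcases eq_or_ne d 0 with rfl | hd
    · rw [zero_smul, add_zero] at hcd
      have hc0 : c ≠ 0 := fun e => hy0 (by rw [← hcd, e, zero_smul])
      exact hrS (Submodule.mem_sup_right (Submodule.mem_span_singleton.mpr
        ⟨c⁻¹, by rw [← hcd, smul_smul, inv_mul_cancel₀ hc0, one_smul]⟩))
    · refine hsS ?_
      have he : s = d⁻¹ • y - (d⁻¹ * c) • r := by
        rw [← hcd, smul_add, smul_smul, smul_smul, inv_mul_cancel₀ hd, one_smul]; abel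
      rw [he]
      exact Submodule.sub_mem _
        (Submodule.mem_sup_right (Submodule.smul_mem _ _ (Submodule.subset_span (by simp))))
        (Submodule.mem_sup_left (Submodule.smul_mem _ _ (Submodule.subset_span (by simp))))
  -- `(s, r)` to `(s, y)`
  have h3 : Line Q M y s := step r hr y hy s hs (line_symm hQ h2) (hind r y s hrs' hr0 hyr)
  have hsy' : y ∉ Submodule.span F {s} := fun hm =>
    hyr (Submodule.span_mono (by simp) hm)
  -- `(s, y)` to `(x, y)`
  refine step s hs x hx y hy (line_symm hQ h3) (hind s x y hsy' hs0 fun hm => ?_)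
  obtain ⟨c, d, hcd⟩ := Submodule.mem_span_pair.mp hm
  rcases eq_or_ne c 0 with rfl | hc
  · exact hxy (Submodule.mem_span_singleton.mpr ⟨d, by simpa using hcd⟩)
  · refine hsS ?_
    have he : s = c⁻¹ • x - (c⁻¹ * d) • y := by
      rw [← hcd, smul_add, smul_smul, smul_smul, inv_mul_cancel₀ hc, one_smul]; abel
    rw [he]
    exact Submodule.sub_mem _
      (Submodule.mem_sup_right (Submodule.smul_mem _ _ (Submodule.subset_span (by simp))))
      (Submodule.mem_sup_right (Submodule.smul_mem _ _ (Submodule.subset_span (by simp))))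

/-- An element of `Ω` exchanging the two spaces. -/
theorem exists_swap [Finite F] (hQ : Cfsg.Geo.IsNondegenerateQuadraticForm Q)
    (hD : Cfsg.Geo.IsMDecomposition m D) (hts : ∀ i, ∀ u ∈ D i, Q u = 0) (hme : Even m)
    (hcard : 5 ≤ Fintype.card ι) {i j : Fin 2} (hij : i ≠ j) :
    ∃ T ∈ Cfsg.Geo.omegaGL Q, (∀ x ∈ D i, (T : Matrix ι ι F) *ᵥ x ∈ D j) ∧
      ∀ x ∈ D j, (T : Matrix ι ι F) *ᵥ x ∈ D i := by
  classical
  have hb' := hQ.polar_bilinear
  obtain ⟨r, rfl⟩ := hme
  let bm := Module.finBasisOfFinrankEq F (D i) (hD.finrank_eq i)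
  let eq : Fin r ⊕ Fin r ≃ Fin (r + r) := finSumFinEquiv
  let bb := bm.reindex eq.symm
  have hδ : ∀ k, ∃ d ∈ D j, ∀ u : D i, B (u : ι → F) d = bb.repr u k := by
    intro k
    let L : (ι → F) →ₗ[F] F :=
      bb.coord k ∘ₗ (comp hD i).codRestrict (D i) (comp_mem hD i)
    obtain ⟨d, hd, hdL⟩ := exists_dual hQ hD hts hij ((dotProductEquiv F ι).symm L)
    refine ⟨d, hd, fun u => ?_⟩
    rw [hdL _ u.2, ← dotProductEquiv_apply_apply, LinearEquiv.apply_symm_apply]
    show bb.repr ((comp hD i).codRestrict (D i) (comp_mem hD i) (u : ι → F)) k = bb.repr u k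
    congr 2
    exact Subtype.ext (comp_self hD u.2)
  choose d hd hdδ using hδ
  let b : Fin r ⊕ Fin r → ι → F := fun k => (bb k : ι → F)
  have hb : ∀ k, b k ∈ D i := fun k => (bb k).2
  have hbd : ∀ k l, B (b k) (d l) = if k = l then 1 else 0 := by
    intro k l
    rw [hdδ, bb.repr_self, Finsupp.single_apply]
  have hdb : ∀ k l, B (d l) (b k) = if k = l then 1 else 0 := fun k l => by rw [B_comm, hbd]
  have hindep : LinearIndependent F d := by
    rw [Fintype.linearIndependent_iff]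
    intro g hg l
    let L : (ι → F) →ₗ[F] F :=
      { toFun := fun y => B y (b l)
        map_add' := fun y z => hb'.add_left y z _
        map_smul' := fun c y => by simpa using hb'.smul_left c y _ }
    have h1 := congrArg L hg
    rw [map_sum, map_zero, Finset.sum_eq_single l] at h1
    · rw [map_smul] at h1
      change g l • B (d l) _ = 0 at h1
      rwa [hdb, if_pos rfl, smul_eq_mul, mul_one] at h1
    · intro k _ hk
      rw [map_smul]
      show g k • B (d k) _ = 0
      rw [hdb, if_neg (Ne.symm hk), smul_zero]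
    · simp
  have hspan : Submodule.span F (Set.range d) = D j := by
    refine Submodule.eq_of_le_of_finrank_le (Submodule.span_le.mpr ?_) ?_
    · rintro _ ⟨k, rfl⟩; exact hd k
    · rw [finrank_span_eq_card hindep, hD.finrank_eq j, Fintype.card_sum, Fintype.card_fin]
  let tgtb : Fin r → Fin r ⊕ Fin r → ι → F := fun _ => d
  suffices H : ∀ S : Finset (Fin r), ∃ T ∈ Cfsg.Geo.omegaGL Q,
      ∀ k, ((k ∈ S → (T : Matrix ι ι F) *ᵥ b (Sum.inl k) = d (Sum.inr k) ∧
          (T : Matrix ι ι F) *ᵥ b (Sum.inr k) = -d (Sum.inl k) ∧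
          (T : Matrix ι ι F) *ᵥ d (Sum.inl k) = b (Sum.inr k) ∧
          (T : Matrix ι ι F) *ᵥ d (Sum.inr k) = -b (Sum.inl k)) ∧
        (k ∉ S → (T : Matrix ι ι F) *ᵥ b (Sum.inl k) = b (Sum.inl k) ∧
          (T : Matrix ι ι F) *ᵥ b (Sum.inr k) = b (Sum.inr k) ∧
          (T : Matrix ι ι F) *ᵥ d (Sum.inl k) = d (Sum.inl k) ∧
          (T : Matrix ι ι F) *ᵥ d (Sum.inr k) = d (Sum.inr k))) by
    obtain ⟨T, hT, hTk⟩ := H Finset.univ
    refine ⟨T, hT, fun x hx => ?_, fun x hx => ?_⟩
    · have h1 := congrArg (fun u : D i => (u : ι → F)) (bb.sum_repr ⟨x, hx⟩)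
      simp only [Submodule.coe_sum, Submodule.coe_smul] at h1
      rw [← h1, mulVec_sum]
      refine (D j).sum_mem fun k _ => ?_
      rw [mulVec_smul]
      refine (D j).smul_mem _ ?_
      show (T : Matrix ι ι F) *ᵥ b k ∈ D j
      rcases k with k | k
      · rw [((hTk k).1 (Finset.mem_univ k)).1]; exact hd _
      · rw [((hTk k).1 (Finset.mem_univ k)).2.1]; exact (D j).neg_mem (hd _)
    · rw [← hspan] at hx
      induction hx using Submodule.span_induction with
      | mem u hu =>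
        obtain ⟨k, rfl⟩ := hu
        rcases k with k | k
        · rw [((hTk k).1 (Finset.mem_univ k)).2.2.1]; exact hb _
        · rw [((hTk k).1 (Finset.mem_univ k)).2.2.2]; exact (D i).neg_mem (hb _)
      | zero => rw [mulVec_zero]; exact (D i).zero_mem
      | add u v _ _ hu hv => rw [mulVec_add]; exact (D i).add_mem hu hv
      | smul c u _ hu => rw [mulVec_smul]; exact (D i).smul_mem c hu
  intro S
  induction S using Finset.induction_on with
  | empty => exact ⟨1, one_mem _, fun k => ⟨fun h => absurd h (Finset.notMem_empty k), fun _ => by simp⟩⟩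
  | @insert l S hl ih =>
    obtain ⟨T, hT, hTk⟩ := ih
    have hbb : ∀ k k', B (b k) (b k') = 0 := fun k k' => ts_B hts (hb k) (hb k')
    have hdd : ∀ k k', B (d k) (d k') = 0 := fun k k' => ts_B hts (hd k) (hd k')
    obtain ⟨w, hw⟩ : ∃ w : GL ι F, w = sieg Q (b (Sum.inl l)) (b (Sum.inr l)) *
        sieg Q (d (Sum.inl l)) (d (Sum.inr l)) * sieg Q (b (Sum.inl l)) (b (Sum.inr l)) := ⟨_, rfl⟩
    have hwΩ : w ∈ Cfsg.Geo.omegaGL Q := hw ▸ mul_mem (mul_mem
      (sieg_mem_omega hQ hcard (hts i _ (hb _)) (hbb _ _))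
      (sieg_mem_omega hQ hcard (hts j _ (hd _)) (hdd _ _)))
      (sieg_mem_omega hQ hcard (hts i _ (hb _)) (hbb _ _))
    have hwv : ∀ x, (w : Matrix ι ι F) *ᵥ x =
        (sieg Q (b (Sum.inl l)) (b (Sum.inr l)) : Matrix ι ι F) *ᵥ
          ((sieg Q (d (Sum.inl l)) (d (Sum.inr l)) : Matrix ι ι F) *ᵥ
            ((sieg Q (b (Sum.inl l)) (b (Sum.inr l)) : Matrix ι ι F) *ᵥ x)) := fun x => by
      rw [hw, gl_mul_mulVec, gl_mul_mulVec]
    refine ⟨T * w, mul_mem hT hwΩ, fun k => ?_⟩
    rcases eq_or_ne k l with rfl | hkl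
    · refine ⟨fun _ => ?_, fun h => absurd (Finset.mem_insert_self k S) h⟩
      obtain ⟨e1, e2, e3, e4⟩ := (hTk k).2 hl
      have hneg : ∀ x y : ι → F, B (-x) y = -B x y := fun x y => by
        rw [← neg_one_smul F x, hb'.smul_left, neg_one_mul]
      refine ⟨?_, ?_, ?_, ?_⟩ <;> rw [gl_mul_mulVec, hwv] <;>
        simp [hneg, lsieg_mulVec hQ (hts i _ (hb _)) (hts i _ (hb _)) (hbb _ _),
          lsieg_mulVec hQ (hts j _ (hd _)) (hts j _ (hd _)) (hdd _ _), hb'.add_left, hb'.smul_left,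
          hbb, hdd, hbd, hdb, mulVec_add, mulVec_neg, mulVec_smul, e1, e2, e3, e4,
          form_sub_left (bil hQ)]
    · have hne : k ∈ insert l S ↔ k ∈ S := by simp [hkl]
      rw [hne]
      have hfix : ∀ x, B x (b (Sum.inl l)) = 0 → B x (b (Sum.inr l)) = 0 →
          B x (d (Sum.inl l)) = 0 → B x (d (Sum.inr l)) = 0 → (w : Matrix ι ι F) *ᵥ x = x := by
        intro x h1 h2 h3 h4
        simp [hwv, lsieg_mulVec hQ (hts i _ (hb _)) (hts i _ (hb _)) (hbb _ _),
          lsieg_mulVec hQ (hts j _ (hd _)) (hts j _ (hd _)) (hdd _ _), h1, h2, h3, h4]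
      simp only [gl_mul_mulVec]
      rw [hfix (b (Sum.inl k)) (hbb _ _) (hbb _ _) (by simp [hbd, hkl]) (by simp [hbd]),
        hfix (b (Sum.inr k)) (hbb _ _) (hbb _ _) (by simp [hbd]) (by simp [hbd, hkl]),
        hfix (d (Sum.inl k)) (by simp [hdb, Ne.symm hkl]) (by simp [hdb]) (hdd _ _) (hdd _ _),
        hfix (d (Sum.inr k)) (by simp [hdb]) (by simp [hdb, Ne.symm hkl]) (hdd _ _) (hdd _ _)]
      exact hTk k

theorem omega_le_of_not_stab [Finite F] (hQ : Cfsg.Geo.IsNondegenerateQuadraticForm Q)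
    (hD : Cfsg.Geo.IsMDecomposition m D) (hts : ∀ i, ∀ u ∈ D i, Q u = 0) (hm : 7 ≤ m)
    (hme : Even m) (hcard : 5 ≤ Fintype.card ι) {M : Subgroup (GL ι F)}
    (hMS : M ≤ Cfsg.Geo.omegaGL Q)
    (hP : ∀ g : GL ι F, g ∈ Cfsg.Geo.decompositionStabilizer D → g ∈ Cfsg.Geo.omegaGL Q → g ∈ M)
    {g : GL ι F} (hgM : g ∈ M) (hg : g ∉ Cfsg.Geo.decompositionStabilizer D) :
    Cfsg.Geo.omegaGL Q ≤ M := by
  classical
  have hb := hQ.polar_bilinear
  have hgi := omega_isometry hQ (hMS hgM)
  have hother : ∀ i : Fin 2, ∃ j, i ≠ j := fun i => ⟨i + 1, by fin_cases i <;> decide⟩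
  have hthird : ∀ {i j l : Fin 2}, i ≠ j → l ≠ i → l = j := by decide
  have hE : ∀ {i j : Fin 2}, i ≠ j → ∀ a ∈ D i, ∀ b ∈ D j, B a b = 0 → Line Q M a b := by
    intro i j hij a ha b hbj hab
    refine ⟨hts i a ha, hts j b hbj, hab, fun c => ?_⟩
    have hca : c • a ∈ D i := (D i).smul_mem c ha
    have hcab : B (c • a) b = 0 := by rw [hb.smul_left, hab, mul_zero]
    refine hP _ (mem_stabilizer_of_fix fun l => mem_subspaceStabilizer_iff.mpr fun x hx => ?_)
      (sieg_mem_omega hQ hcard (hts i _ hca) (by rw [B_comm, hcab]))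
    rw [lsieg_mulVec hQ (hts i _ hca) (hts j b hbj) hcab]
    by_cases hl : l = i
    · subst hl
      rw [ts_B hts hx hca, zero_smul, add_zero]
      exact (D l).add_mem hx ((D l).smul_mem _ hca)
    · obtain rfl := hthird hij hl
      rw [ts_B hts hx hbj, neg_zero, zero_smul, add_zero]
      exact (D l).add_mem hx ((D l).smul_mem _ hbj)
  obtain ⟨i, a, ha, p, hp, hpa, ha0, hline⟩ :
      ∃ i, ∃ a ∈ D i, ∃ p ∈ D i, p ∉ Submodule.span F {a} ∧ a ≠ 0 ∧ Line Q M a p := by
    by_contra hc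
    apply hg
    have hgood : ∀ c d, Line Q M c d → ∀ i,
        comp hD i c ∈ Submodule.span F {comp hD i d} ∨ comp hD i d = 0 := by
      intro c d hcd i
      by_contra h
      push Not at h
      obtain ⟨j, hij⟩ := hother i
      exact hc ⟨i, line_of_plane hQ hD hts hm hij (hE hij) hcd h.1 h.2⟩
    refine mem_stabilizer_of_mapsTo hD fun i => ?_
    obtain ⟨j, hij⟩ := hother i
    have hone : ∀ a ∈ D i, ∀ l, comp hD l ((g : Matrix ι ι F) *ᵥ a) ≠ 0 →
        (g : Matrix ι ι F) *ᵥ a ∈ D l := by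
      intro a ha l hl'
      refine mem_of_comp_eq_zero hD fun k hkl => ?_
      by_contra hk
      obtain ⟨b, hbj, hb0, hab, -⟩ := exists_perp_in hQ hD j (⊥ : Submodule F (ι → F)) a a
        (by rw [finrank_bot]; omega)
      obtain ⟨b', hb', hb'S, hab', -⟩ := exists_perp_in hQ hD j (Submodule.span F {b}) a a
        (by rw [finrank_span_singleton (by simpa using hb0)]; omega)
      set x := (g : Matrix ι ι F) *ᵥ a with hx
      have key : ∀ p ∈ D j, B p a = 0 → ∀ r : Fin 2, ∃ s : F,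
          comp hD r ((g : Matrix ι ι F) *ᵥ p) = s • comp hD r x := by
        intro p hp hpa r
        have hline := line_conj hQ (hE hij.symm p hp a ha hpa) hgM hgi
        have hx0 : comp hD r x ≠ 0 := by
          by_cases hr : r = l
          · rw [hr]; exact hl'
          · rwa [hthird (Ne.symm hkl) hr]
        rcases hgood _ x hline r with h | h
        · obtain ⟨s, hs⟩ := Submodule.mem_span_singleton.mp h
          exact ⟨s, hs.symm⟩
        · exact absurd h hx0
      obtain ⟨s, hs⟩ := key b hbj hab l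
      obtain ⟨t, ht⟩ := key b hbj hab k
      obtain ⟨s', hs'⟩ := key b' hb' hab' l
      obtain ⟨t', ht'⟩ := key b' hb' hab' k
      have hy : ∀ (p : ι → F) (s t : F), comp hD l ((g : Matrix ι ι F) *ᵥ p) = s • comp hD l x →
          comp hD k ((g : Matrix ι ι F) *ᵥ p) = t • comp hD k x →
          (g : Matrix ι ι F) *ᵥ p = s • comp hD l x + t • comp hD k x := by
        intro p s t h1 h2
        rw [← h1, ← h2, comp_add hD (Ne.symm hkl)]
      have e1 := hy b s t hs ht
      have e2 := hy b' s' t' hs' ht'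
      have hb0' : b ≠ 0 := by simpa using hb0
      have hst : s ≠ t := by
        intro hst
        have hgb : (g : Matrix ι ι F) *ᵥ b = s • x := by
          rw [e1, hst, ← smul_add, comp_add hD (Ne.symm hkl)]
        have hmem : b = s • a := gl_mulVec_injective g (by
          simp only [mulVec_smul]; rw [hgb, hx])
        apply hb0'
        rw [← comp_self hD hbj, hmem, map_smul, comp_other hD hij.symm ha, smul_zero]
      have hxm : (g : Matrix ι ι F) *ᵥ b' =
          (g : Matrix ι ι F) *ᵥ (((s' - t') / (s - t)) • b + ((t' * s - s' * t) / (s - t)) • a) := by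
        have hd : s - t ≠ 0 := sub_ne_zero.mpr hst
        rw [mulVec_add, mulVec_smul, mulVec_smul, e2, e1, ← hx]
        conv_rhs => arg 2; rw [← comp_add hD (Ne.symm hkl) x]
        match_scalars <;> field_simp <;> ring
      have heq := congrArg (comp hD j) (gl_mulVec_injective g hxm)
      rw [map_add, map_smul, map_smul, comp_self hD hb', comp_self hD hbj,
        comp_other hD hij.symm ha, smul_zero, add_zero] at heq
      exact hb'S (Submodule.mem_span_singleton.mpr ⟨_, heq.symm⟩)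
    obtain ⟨v, hv, hv0⟩ := Submodule.exists_mem_ne_zero_of_ne_bot (block_ne_bot hD i)
    obtain ⟨l, hlv⟩ : ∃ l, comp hD l ((g : Matrix ι ι F) *ᵥ v) ≠ 0 := by
      by_contra h
      push Not at h
      refine hv0 (gl_mulVec_injective g ?_)
      show (g : Matrix ι ι F) *ᵥ v = (g : Matrix ι ι F) *ᵥ 0
      rw [mulVec_zero, ← sum_comp hD ((g : Matrix ι ι F) *ᵥ v)]
      exact Finset.sum_eq_zero fun l _ => h l
    refine ⟨l, fun x hx => ?_⟩
    by_contra hxl
    obtain ⟨k, hk, hkx⟩ : ∃ k, k ≠ l ∧ comp hD k ((g : Matrix ι ι F) *ᵥ x) ≠ 0 := by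
      by_contra h
      push Not at h
      exact hxl (mem_of_comp_eq_zero hD h)
    have hvk := hone v hv l hlv
    have hxk := hone x hx k hkx
    have hsum : comp hD k ((g : Matrix ι ι F) *ᵥ (v + x)) ≠ 0 := by
      rw [mulVec_add, map_add, comp_other hD hk hvk, zero_add]; exact hkx
    have := hone (v + x) ((D i).add_mem hv hx) k hsum
    apply hlv
    have h3 : comp hD l ((g : Matrix ι ι F) *ᵥ (v + x)) = 0 := comp_other hD (Ne.symm hk) this
    rwa [mulVec_add, map_add, comp_other hD (Ne.symm hk) hxk, add_zero] at h3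
  obtain ⟨j, hij⟩ := hother i
  have hLi := line_spread hQ hD hts hm hij (hE hij) ha hp hpa ha0 hline
  obtain ⟨T, hTΩ, hTi, hTj⟩ := exists_swap hQ hD hts hme hcard hij
  have hTM : T ∈ M := hP T (mem_stabilizer_of_mapsTo hD fun l => by
    by_cases hl : l = i
    · exact ⟨j, hl ▸ hTi⟩
    · exact ⟨i, (hthird hij hl) ▸ hTj⟩) hTΩ
  have hTa0 : (T : Matrix ι ι F) *ᵥ a ≠ 0 := fun e => ha0 (gl_mulVec_injective T (by simpa using e))
  have hTpa : (T : Matrix ι ι F) *ᵥ p ∉ Submodule.span F {(T : Matrix ι ι F) *ᵥ a} := fun hm => by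
    obtain ⟨c, hc⟩ := Submodule.mem_span_singleton.mp hm
    exact hpa (Submodule.mem_span_singleton.mpr
      ⟨c, gl_mulVec_injective T (by simpa [mulVec_smul] using hc)⟩)
  have hLj := line_spread hQ hD hts hm hij.symm (hE hij.symm) (hTi a ha) (hTi p hp) hTpa hTa0
    (line_conj hQ hline hTM (omega_isometry hQ hTΩ))
  have hLall : ∀ l, ∀ x ∈ D l, ∀ y ∈ D l, Line Q M x y := by
    intro l
    by_cases hl : l = i
    · rw [hl]; exact hLi
    · rw [hthird hij hl]; exact hLj
  -- Siegel elements at a vector of one of the two spaces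
  have hS0 : ∀ l, ∀ u ∈ D l, ∀ w, B w u = 0 → sieg Q u w ∈ M := by
    intro l u hu w hwu
    obtain ⟨k, hlk⟩ := hother l
    have h0 : B (comp hD l w) u = 0 := ts_B hts (comp_mem hD l w) hu
    have h1 : B (comp hD k w) u = 0 := by
      rw [← form_comp' hQ hD hts hlk hu]; exact hwu
    rw [← comp_add hD hlk w, sieg_add_right hQ (hts l u hu) h0 h1]
    refine M.mul_mem ?_ ?_
    · simpa using (hLall l u hu _ (comp_mem hD l w)).2.2.2 1
    · simpa using (hE hlk u hu _ (comp_mem hD k w) (by rw [B_comm, h1])).2.2.2 1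
  refine omega_le hQ hcard fun u w hu hwu => ?_
  set u0 := comp hD i u with hu0
  set u1 := comp hD j u with hu1
  have hu0m : u0 ∈ D i := comp_mem hD i u
  have hu1m : u1 ∈ D j := comp_mem hD j u
  have hsum : u0 + u1 = u := comp_add hD hij u
  by_cases h0 : u0 = 0
  · refine hS0 j u ?_ w hwu
    rw [← hsum, h0, zero_add]; exact hu1m
  have h01 : B u0 u1 = 0 := by
    rw [← hsum, Q_add (Q := Q), hts i _ hu0m, hts j _ hu1m, zero_add, zero_add] at hu
    exact hu
  obtain ⟨φ, hφ⟩ := exists_dot_eq_one h0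
  obtain ⟨s, hs, hsφ⟩ := exists_dual hQ hD hts hij φ
  have hss : B s u1 = 0 := ts_B hts hs hu1m
  set p' := sieg Q s u1 with hp'
  have hp'M : p' ∈ M := hS0 j s hs u1 (by rw [B_comm, hss])
  have hiso := omega_isometry hQ (hMS hp'M)
  have himg : (p' : Matrix ι ι F) *ᵥ u0 = u := by
    rw [hp', lsieg_mulVec hQ (hts j s hs) (hts j _ hu1m) hss, hsφ u0 hu0m, hφ, h01, one_smul,
      neg_zero, zero_smul, add_zero, hsum]
  set w' := ((p'⁻¹ : GL ι F) : Matrix ι ι F) *ᵥ w with hw'
  have hwimg : (p' : Matrix ι ι F) *ᵥ w' = w := gl_mulVec_inv p' w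
  have hw'u : B w' u0 = 0 := by rw [← B_map hiso, hwimg, himg, hwu]
  rw [← himg, ← hwimg, ← conj_sieg hQ hiso (hts i _ hu0m) hw'u]
  exact M.mul_mem (M.mul_mem hp'M (hS0 i u0 hu0m w' hw'u)) (M.inv_mem hp'M)



/-- Let F be a finite field with q elements, n ≥ 13 even, Q a non-degenerate quadratic form on F^n of plus type (some subspace of dimension n/2 is totally singular), and Ω the commutator subgroup of the isometry group of Q, viewed inside GL_n(F). Suppose n/2 is even and let D be a decomposition of F^n into two complementary subspaces of dimension n/2 on each of which Q vanishes. Then the elements of Ω preserving or interchanging the two subspaces form a maximal subgroup of Ω. -/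
theorem result {F : Type*} [Field F] [Fintype F] {n : ℕ} (hn : 13 ≤ n) (heven : Even n) (Q : (Fin n → F) → F) (hQ : Cfsg.Geo.IsNondegenerateQuadraticForm Q) (hplus : Cfsg.Geo.IsPlusTypeOn Q ⊤) (k : ℕ) (hk : 2 * k = n) (hke : Even k) (D : Fin 2 → Submodule F (Fin n → F)) (hD : Cfsg.Geo.IsMDecomposition k D) (hts : ∀ i, Cfsg.Geo.IsTotallySingularQuad Q (D i)) : Cfsg.Geo.IsMaximalIn (Cfsg.Geo.omegaGL Q) (Cfsg.Geo.decompositionStabilizer D ⊓ Cfsg.Geo.omegaGL Q) := by
  have hts' : ∀ i, ∀ u ∈ D i, Q u = 0 := hts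
  have hcard : 5 ≤ Fintype.card (Fin n) := by rw [Fintype.card_fin]; omega
  refine isMaximalIn_of inf_le_right ?_ fun M hHM hMK g hgM hgH => ?_
  · obtain ⟨u, hu, hu0⟩ := Submodule.exists_mem_ne_zero_of_ne_bot (block_ne_bot hD 0)
    obtain ⟨w, hw, hwS, -, -⟩ := exists_perp_in hQ hD 0 (Submodule.span F {u}) 0 0
      (by rw [finrank_span_singleton hu0]; omega)
    have hw0 : w ≠ 0 := fun e => hwS (e ▸ Submodule.zero_mem _)
    obtain ⟨φ, hφ, hφu⟩ := exists_functional (W := Submodule.span F {w}) (v := u) (fun hm => by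
      obtain ⟨c, hc⟩ := Submodule.mem_span_singleton.mp hm
      have hc0 : c ≠ 0 := fun e => hu0 (by rw [← hc, e, zero_smul])
      exact hwS (Submodule.mem_span_singleton.mpr
        ⟨c⁻¹, by rw [← hc, smul_smul, inv_mul_cancel₀ hc0, one_smul]⟩))
    obtain ⟨x, hx, hxφ⟩ := exists_dual hQ hD hts' (show (0 : Fin 2) ≠ 1 by decide) φ
    have huw : QuadraticMap.polar Q u w = 0 := ts_B hts' hu hw
    refine ⟨_, sieg_mem_omega hQ hcard (hts 0 u hu) (by rw [B_comm, huw] :
      QuadraticMap.polar Q w u = 0), fun hmem => ?_⟩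
    obtain ⟨σ', hσ⟩ := exists_image_of_mem hmem.1
    have hv := lsieg_mulVec hQ (hts 0 u hu) (hts 0 w hw) huw
    have h0 := hσ 0 u hu
    have h1 := hσ 1 x hx
    rw [hv, ts_B hts' hu hu, huw, neg_zero, zero_smul, zero_smul, add_zero, add_zero] at h0
    rw [hv, B_comm x u, hxφ u hu, hφu, B_comm x w, hxφ w hw,
      hφ w (Submodule.mem_span_singleton_self w), neg_zero, zero_smul, add_zero, one_smul] at h1
    have hσ0 : σ' 0 = 0 := by
      by_contra hne
      exact hu0 (by rw [← comp_self hD hu, comp_other hD (Ne.symm hne) h0])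
    have hσ1 : σ' 1 = 1 := by
      by_contra hne
      have h10 : σ' 1 = 0 := by omega
      exact absurd (σ'.injective (hσ0.trans h10.symm)) (by decide)
    rw [hσ1] at h1
    have h3 : w ∈ D 1 := by simpa using (D 1).sub_mem h1 hx
    exact hw0 (by rw [← comp_self hD hw, comp_other hD (show (0 : Fin 2) ≠ 1 by decide) h3])
  exact omega_le_of_not_stab hQ hD hts' (by omega) hke hcard (fun h hh => (hMK hh))
    (fun h h1 h2 => hHM ⟨h1, h2⟩) hgM fun h => hgH ⟨h, hMK hgM⟩

end Cfsg.Agent.S5697
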