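import Cfsg.Statements.S5698
import Cfsg.Agent.Lib.Forms.FamilyParity

set_option autoImplicit false
open Cfsg

namespace Cfsg.Agent.S5698

open Matrix Cfsg.Agent.Lib.Subspaces.Transvection Cfsg.Agent.Lib.Subspaces.FormVec
  Cfsg.Agent.Lib.Subspaces.OrthForm Cfsg.Agent.Lib.Subspaces.OrthSingular
  Cfsg.Agent.Lib.Subspaces.OmegaGL

/-- Let F be a finite field with q elements, n ≥ 13 even, Q a non-degenerate quadratic form on F^n of plus type (some subspace of dimension n/2 is totally singular), and Ω the commutator subgroup of the isometry group of Q, viewed inside GL_n(F). Suppose n/2 is odd and let D be a decomposition of F^n into two complementary subspaces of dimension n/2 on each of which Q vanishes. Then the elements of Ω preserving or interchanging the two subspaces form a subgroup that is not maximal: some subgroup lies strictly between it and Ω. -/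
theorem result {F : Type*} [Field F] [Fintype F] {n : ℕ} (hn : 13 ≤ n) (heven : Even n) (Q : (Fin n → F) → F) (hQ : Cfsg.Geo.IsNondegenerateQuadraticForm Q) (hplus : Cfsg.Geo.IsPlusTypeOn Q ⊤) (k : ℕ) (hk : 2 * k = n) (hko : Odd k) (D : Fin 2 → Submodule F (Fin n → F)) (hD : Cfsg.Geo.IsMDecomposition k D) (hts : ∀ i, Cfsg.Geo.IsTotallySingularQuad Q (D i)) : ∃ K : Subgroup (Matrix.GeneralLinearGroup (Fin n) F), Cfsg.Geo.decompositionStabilizer D ⊓ Cfsg.Geo.omegaGL Q < K ∧ K < Cfsg.Geo.omegaGL Q := by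
  classical
  have hc : Fintype.card (Fin n) = 2 * k := by rw [Fintype.card_fin, hk]
  have hb := hQ.polar_bilinear
  have hd0 : Lib.Forms.MaxSingular.IsMax (qf hQ) k (D 0) :=
    ⟨hD.finrank_eq 0, fun w hw => hts 0 w hw⟩
  have hbot : D 0 ⊓ D 1 = ⊥ := disjoint_iff.mp (hD.indep.pairwiseDisjoint (show (0 : Fin 2) ≠ 1 by decide))
  have htop : D 0 ⊔ D 1 = ⊤ := by
    rw [eq_top_iff, ← hD.iSup_eq_top]
    exact iSup_le fun i => by fin_cases i <;> simp
  have hne : D 0 ≠ ⊥ := fun h => by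
    have := hD.finrank_eq 0; rw [h, finrank_bot] at this; omega
  refine ⟨Cfsg.Geo.subspaceStabilizer (D 0) ⊓ Cfsg.Geo.omegaGL Q, lt_of_le_of_ne ?_ ?_,
    lt_of_le_of_ne inf_le_right ?_⟩
  · rintro g ⟨hg, hgΩ⟩
    refine ⟨mem_subspaceStabilizer_iff.mpr fun u hu => ?_, hgΩ⟩
    obtain ⟨σ, hσ⟩ := hg
    have h0 : σ 0 = 0 := by
      by_contra h
      have h1 : σ 0 = 1 := by omega
      exact Lib.Forms.FamilyParity.img_ne hQ hc hd0
        (by rw [hbot, finrank_bot]; simpa using hko) hgΩ (h1 ▸ hσ 0)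
    have := hσ 0
    rw [h0] at this
    rw [← this]
    exact ⟨u, hu, Matrix.toLin'_apply _ _⟩
  · intro hEq
    obtain ⟨u, hu, hu0⟩ := Submodule.exists_mem_ne_zero_of_ne_bot hne
    have hts0 : ∀ x ∈ D 0, ∀ y ∈ D 0, QuadraticMap.polar Q x y = 0 := fun x hx y hy => by
      rw [QuadraticMap.polar, hts 0 _ ((D 0).add_mem hx hy), hts 0 x hx, hts 0 y hy]; ring
    obtain ⟨x, hx, hxu⟩ : ∃ x ∈ D 1, QuadraticMap.polar Q x u ≠ 0 := by
      obtain ⟨⟨z, hz⟩, -⟩ := hQ.nondegenerate u hu0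
      obtain ⟨a, ha, c, hc', rfl⟩ := Submodule.mem_sup.mp (show z ∈ D 0 ⊔ D 1 by rw [htop]; trivial)
      refine ⟨c, hc', ?_⟩
      rwa [hb.add_left, hts0 a ha u hu, zero_add] at hz
    obtain ⟨w, hw, hwu'⟩ : ∃ w ∈ D 0, w ∉ Submodule.span F {u} := by
      by_contra hcon
      push Not at hcon
      have := Submodule.finrank_mono (show D 0 ≤ Submodule.span F {u} from hcon)
      rw [hD.finrank_eq 0, finrank_span_singleton hu0] at this; omega
    have hwu := hts0 w hw u hu
    have hg : sieg Q u w ∈ Cfsg.Geo.subspaceStabilizer (D 0) ⊓ Cfsg.Geo.omegaGL Q := by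
      refine ⟨mem_subspaceStabilizer_iff.mpr fun y hy => ?_,
        sieg_mem_omega hQ (by omega) (hts 0 u hu) hwu⟩
      rw [sieg_mulVec hQ (hts 0 u hu) hwu]
      exact (D 0).add_mem ((D 0).add_mem hy ((D 0).smul_mem _ hw)) ((D 0).smul_mem _ hu)
    rw [← hEq] at hg
    obtain ⟨σ, hσ⟩ := hg.1
    set c := -(QuadraticMap.polar Q x w) - Q w * QuadraticMap.polar Q x u with hc2
    have hz : x + QuadraticMap.polar Q x u • w + c • u ∈ D (σ 1) := by
      rw [← hσ 1, hc2]
      exact ⟨x, hx, by rw [Matrix.toLin'_apply, sieg_mulVec hQ (hts 0 u hu) hwu]⟩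
    have hx0 : x ∉ D 0 := fun h => hxu (hts0 x h u hu)
    have hd : QuadraticMap.polar Q x u • w + c • u ∈ D 0 :=
      (D 0).add_mem ((D 0).smul_mem _ hw) ((D 0).smul_mem _ hu)
    have h1 : σ 1 = 1 := by
      by_contra h
      have h1 : σ 1 = 0 := by omega
      rw [h1, add_assoc] at hz
      exact hx0 (by simpa using (D 0).sub_mem hz hd)
    rw [h1, add_assoc] at hz
    have hd' : QuadraticMap.polar Q x u • w + c • u ∈ D 1 := by simpa using (D 1).sub_mem hz hx
    have h0 : QuadraticMap.polar Q x u • w + c • u = 0 :=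
      (Submodule.mem_bot F).mp (hbot ▸ ⟨hd, hd'⟩)
    refine hwu' (Submodule.mem_span_singleton.mpr ⟨-((QuadraticMap.polar Q x u)⁻¹ * c), ?_⟩)
    have := congrArg (fun t => (QuadraticMap.polar Q x u)⁻¹ • t) h0
    simp only [smul_add, smul_smul, inv_mul_cancel₀ hxu, one_smul, smul_zero] at this
    rw [neg_smul]
    exact (eq_neg_of_add_eq_zero_left this).symm
  · intro hEq
    obtain ⟨g, hg, hg'⟩ := exists_omega_not_stab hQ (by omega) hne (hts 0)
    rw [← hEq] at hg
    exact hg' hg.1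

end Cfsg.Agent.S5698
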