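import Cfsg.Statements.S5699
import Cfsg.Agent.Lib.Subspaces.OrthNondegMax

set_option autoImplicit false
open Cfsg

namespace Cfsg.Agent.S5699

open Cfsg.Agent.Lib.Subspaces Cfsg.Agent.Lib.Subspaces.OrthNondeg Cfsg.Agent.Lib.Subspaces.OrthNondegMax


/-- Let F be a finite field with q elements, n ≥ 13 even, Q a non-degenerate quadratic form on F^n (of either type), and Ω the commutator subgroup of the isometry group of Q, viewed inside GL_n(F). Let D be a decomposition of F^n into two orthogonal subspaces of odd dimension n/2 on which the polar form is non-degenerate and which are not Q-isometric to each other. Then the elements of Ω permuting (necessarily fixing) the two subspaces form a maximal subgroup of Ω. -/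
theorem result {F : Type*} [Field F] [Fintype F] {n : ℕ} (hn : 13 ≤ n) (heven : Even n) (Q : (Fin n → F) → F) (hQ : Cfsg.Geo.IsNondegenerateQuadraticForm Q) (k : ℕ) (hk : 2 * k = n) (hko : Odd k) (D : Fin 2 → Submodule F (Fin n → F)) (hD : Cfsg.Geo.IsNondegenerateMDecomposition (QuadraticMap.polar Q) k D) (hni : ¬ Cfsg.Geo.AreIsometricFor Q (D 0) (D 1)) : Cfsg.Geo.IsMaximalIn (Cfsg.Geo.omegaGL Q) (Cfsg.Geo.decompositionStabilizer D ⊓ Cfsg.Geo.omegaGL Q) := by
  have hc : Fintype.card (Fin n) = n := Fintype.card_fin n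
  have hd := hD.decomp
  have hd0 := hd.finrank_eq 0
  have hdim := finrank_add_perpQ (hQ := hQ) (hD.nondegenerate 0)
  have hperp : perpQ hQ (D 0) = D 1 := by
    refine (Submodule.eq_of_le_of_finrank_le
      (show D 1 ≤ perpQ hQ (D 0) from fun u hu v hv => hD.orthogonal 1 0 (by decide) u hu v hv) ?_).symm
    have := hd.finrank_eq 1
    omega
  have heq : Cfsg.Geo.decompositionStabilizer D ⊓ Cfsg.Geo.omegaGL Q =
      Cfsg.Geo.subspaceStabilizer (D 0) ⊓ Cfsg.Geo.omegaGL Q := by
    refine le_antisymm ?_ ?_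
    · rintro g ⟨hg, hgΩ⟩
      obtain ⟨σ', hσ⟩ := Decomposition.exists_image_of_mem hg
      refine ⟨Transvection.mem_subspaceStabilizer_iff.mpr fun u hu => ?_, hgΩ⟩
      by_cases h : σ' 0 = 0
      · exact h ▸ hσ 0 u hu
      have h1 : σ' 0 = 1 := by omega
      refine absurd ?_ hni
      exact isometric_of_map (OmegaGL.omega_isometry hQ hgΩ) (fun v hv => h1 ▸ hσ 0 v hv)
        (le_of_eq (by rw [hd0, hd.finrank_eq 1]))
    · rintro g ⟨hg, hgΩ⟩
      refine ⟨Decomposition.mem_stabilizer_of_fix fun i =>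
        Transvection.mem_subspaceStabilizer_iff.mpr fun u hu => ?_, hgΩ⟩
      fin_cases i
      · exact Transvection.mem_subspaceStabilizer_iff.mp hg u hu
      · have h1 := (stab_perp_eq (hQ := hQ) (D 0)).ge ⟨hg, hgΩ⟩
        rw [hperp] at h1
        exact Transvection.mem_subspaceStabilizer_iff.mp h1.1 u hu
  rw [heq]
  refine maximal_of_le hQ (by omega) (Decomposition.block_ne_bot hd 0) (hD.nondegenerate 0)
    (by omega) ?_ fun _ h => ?_
  · rintro ⟨-, h, -⟩
    omega
  · rw [hperp] at h
    obtain ⟨e, he⟩ := h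
    exact hni ⟨e.symm, fun w => by simpa using (he (e.symm w)).symm⟩

end Cfsg.Agent.S5699
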