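import Cfsg.Statements.S5700
import Cfsg.Agent.Lib.K41.ExtForm.Quad2
import Cfsg.Agent.Lib.Subspaces.OmegaGL

set_option autoImplicit false
open Cfsg Module Matrix Cfsg.Agent.Lib.K41.ExtForm Cfsg.Agent.Lib.ExtFieldMax
  Cfsg.Agent.Lib.Subspaces.Transvection Cfsg.Agent.Lib.Subspaces.OrthForm Cfsg.Agent.Lib.Subspaces.OmegaGL

namespace Cfsg.Agent.S5700

/-- Let F be a finite field with q elements, n ≥ 13 even, Q a non-degenerate quadratic form on F^n (of either type), and Ω the commutator subgroup of the isometry group of Q, viewed inside GL_n(F). Let K be a subfield of the algebra of n × n matrices over F containing the scalars, of degree 2 over F, closed under adjoints for the polar form of Q but not consisting of self-adjoint elements, and such that every k in K rescales Q (Q(k v) = c Q(v) for a constant c depending on k). Then the elements of Ω normalising K form a maximal subgroup of Ω. -/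
theorem result {F : Type*} [Field F] [Fintype F] {n : ℕ} (hn : 13 ≤ n) (heven : Even n) (Q : (Fin n → F) → F) (hQ : Cfsg.Geo.IsNondegenerateQuadraticForm Q) (K : Subalgebra F (Matrix (Fin n) (Fin n) F)) (hK : Cfsg.Geo.IsFieldSubalgebra 2 K) (hac : Cfsg.Geo.IsAdjointClosedFor (QuadraticMap.polar Q) K) (hnsa : ¬ Cfsg.Geo.IsSelfAdjointFor (QuadraticMap.polar Q) K) (hsc : ∀ k ∈ K, ∃ c : F, ∀ v : (Fin n → F), Q (Matrix.mulVec k v) = c * Q v) : Cfsg.Geo.IsMaximalIn (Cfsg.Geo.omegaGL Q) (Cfsg.Geo.subalgebraNormalizer K ⊓ Cfsg.Geo.omegaGL Q) := by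
  classical
  haveI : Nonempty (Fin n) := ⟨⟨0, by omega⟩⟩
  letI : Field K := fieldOfSub hK
  letI hmod : Module K (Fin n → F) := subModule K
  haveI : @IsScalarTower F K (Fin n → F) Algebra.toSMul hmod.toSMul inferInstance :=
    ⟨fun a k x => smul_mulVec a (k : Matrix (Fin n) (Fin n) F) x⟩
  haveI : Finite K := Finite.of_injective (fun x : K => (x : Matrix (Fin n) (Fin n) F)) Subtype.val_injective
  have hn5 : 5 ≤ Fintype.card (Fin n) := by rw [Fintype.card_fin]; omega
  have hb := hQ.polar_bilinear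
  let D : OrthHerm2.Data F K (Fin n → F) :=
    { Q := Q
      f := LinearMap.mk₂ F (QuadraticMap.polar Q) hb.add_left (fun c x v => hb.smul_left c x v)
        hb.add_right (fun c v x => hb.smul_right c v x)
      polar := fun x y => rfl
      smul := fun a x => hQ.smul a x
      nondeg := fun x h => by
        by_contra hx
        obtain ⟨-, y, hy⟩ := hQ.nondegenerate x hx
        exact hy (h y)
      adjoint := fun c => by
        obtain ⟨d, hd, h⟩ := hac _ c.2
        exact ⟨⟨d, hd⟩, h⟩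
      not_selfAdjoint := fun h => hnsa fun k hk u v => h ⟨k, hk⟩ u v
      scale := fun c => hsc _ c.2
      degree := hK.finrank_eq
      dim := by
        rw [Module.finrank_fintype_fun_eq_card, Fintype.card_fin]
        obtain ⟨k, rfl⟩ := heven
        omega }
  have hex : ∀ M : Subgroup (GL (Fin n) F), Cfsg.Geo.subalgebraNormalizer K ⊓ Cfsg.Geo.omegaGL Q ≤ M →
      M ≤ Cfsg.Geo.omegaGL Q → ∃ S : OrthHerm2.Setting F K (Fin n → F),
        S.M = M.map (glEquiv (F := F) (ι := Fin n)).toMonoidHom ∧ S.Q = Q ∧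
          ∀ x y, S.B x y = QuadraticMap.polar Q x y := by
    intro M hHM hMS
    refine D.exists_setting _ ?_ ?_ ?_
    · intro g hg x
      obtain ⟨A, hA, rfl⟩ := Subgroup.mem_map.1 hg
      exact omega_isometry hQ (hMS hA) x
    · intro e w g he hwe hgz hlin
      obtain ⟨A, rfl⟩ := (glEquiv (F := F) (ι := Fin n)).surjective g
      have hA : A = sieg Q e w := gl_ext fun x => by
        rw [sieg_mulVec hQ he hwe]
        exact hgz x
      refine Subgroup.mem_map.2 ⟨A, hHM ⟨?_, hA ▸ sieg_mem_omega hQ hn5 he hwe⟩, rfl⟩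
      exact mem_normalizer_of_semi K A fun c hc => ⟨c, hc, fun x => hlin ⟨c, hc⟩ x⟩
    · intro e w he hwe
      exact ⟨glEquiv (sieg Q e w), fun z => sieg_mulVec hQ he hwe z⟩
  refine isMaximalIn_of inf_le_right ?_ ?_
  · obtain ⟨S, -, hSQ, hSB⟩ := hex _ le_rfl inf_le_right
    obtain ⟨e, y, he, hye, hns⟩ := S.exists_nonsemi
    rw [hSB] at hye
    rw [hSQ] at he
    refine ⟨sieg Q e y, sieg_mem_omega hQ hn5 he hye, fun h => hns (glEquiv (sieg Q e y)) (fun z => ?_) fun c => ?_⟩
    · rw [glEquiv_apply, sieg_mulVec hQ he hye]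
      unfold OrthHerm2.sfun
      rw [hSB, hSB, hSQ]
    · obtain ⟨d, hdK, hd⟩ := semi_of_mem_normalizer h.1 c.2
      exact ⟨⟨d, hdK⟩, hd⟩
  · intro M hHM hMS g hg hgn
    obtain ⟨S, hSM, hSQ, hSB⟩ := hex M hHM hMS
    have hnot : ∃ k ∈ S.M, ¬ IsSemi F K k := by
      refine ⟨glEquiv g, hSM ▸ Subgroup.mem_map.2 ⟨g, hg, rfl⟩, fun hk => hgn ⟨?_, hMS hg⟩⟩
      refine mem_normalizer_of_semi K g fun c hc => ?_
      obtain ⟨d, hd⟩ := hk ⟨c, hc⟩
      exact ⟨d, d.2, hd⟩
    refine omega_le hQ hn5 fun u w hu hwu => ?_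
    obtain ⟨k, hk, hkz⟩ := S.sfun_mem hnot u w (by rw [hSQ]; exact hu) (by rw [hSB]; exact hwu)
    rw [hSM] at hk
    obtain ⟨A, hA, rfl⟩ := Subgroup.mem_map.1 hk
    have hAt : A = sieg Q u w := gl_ext fun x => by
      rw [sieg_mulVec hQ hu hwu]
      have h1 := hkz x
      unfold OrthHerm2.sfun at h1
      rw [hSB, hSB, hSQ] at h1
      exact h1
    exact hAt ▸ hA

end Cfsg.Agent.S5700
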