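import Cfsg.Statements.S5705
import Cfsg.Agent.Lib.Forms.TensorField
import Cfsg.Agent.Lib.Subspaces.OrthNondeg

set_option autoImplicit false
open Cfsg

namespace Cfsg.Agent.S5705

open Matrix Cfsg.Agent.Lib.Forms.TensorFrame Cfsg.Agent.Lib.Forms.TensorField

/-- Let F be the field with 2 elements, n = 2 n₂ ≥ 13 even, Q a non-degenerate quadratic form on F^n of plus type and Ω the commutator subgroup of its isometry group. Suppose that, through P and e, the polar form of Q is similar to the tensor product of non-degenerate symplectic forms f₁ on F^2 and f₂ on F^(n₂), and Q vanishes on the images of all pure tensors. Then the elements of Ω in the stabiliser of this tensor decomposition form a subgroup that is not maximal: some subgroup lies strictly between it and Ω. -/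
theorem result {F : Type*} [Field F] [Fintype F] {n : ℕ} (hn : 13 ≤ n) (heven : Even n) (Q : (Fin n → F) → F) (hQ : Cfsg.Geo.IsNondegenerateQuadraticForm Q) (hplus : Cfsg.Geo.IsPlusTypeOn Q ⊤) (hq : Fintype.card F = 2) (n₂ : ℕ) (h2 : 2 < n₂) (e : (Fin n) ≃ Fin 2 × Fin n₂) (P : Matrix.GeneralLinearGroup (Fin n) F) (f₁ : (Fin 2 → F) → (Fin 2 → F) → F) (f₂ : (Fin n₂ → F) → (Fin n₂ → F) → F) (hf₁ : Cfsg.Geo.IsSymplecticForm f₁) (hf₂ : Cfsg.Geo.IsSymplecticForm f₂) (hT : Cfsg.Geo.IsTensorFormStructure id (QuadraticMap.polar Q) f₁ f₂ e P) (hpure : (∀ (x₁ : Fin 2 → F) (x₂ : Fin n₂ → F), Q (Matrix.mulVec (P : Matrix (Fin n) (Fin n) F) ((fun a : Fin 2 × Fin n₂ => x₁ a.1 * x₂ a.2) ∘ e)) = 0)) : ∃ K : Subgroup (Matrix.GeneralLinearGroup (Fin n) F), Cfsg.Geo.tensorProductSubgroup 2 n₂ e P ⊓ Cfsg.Geo.omegaGL Q < K ∧ K < Cfsg.Geo.omegaGL Q := by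
  classical
  have h2' : (2 : F) = 0 := by
    have := FiniteField.cast_card_eq_zero F
    rw [hq] at this
    simpa using this
  have h01 : ∀ a : F, a ≠ 0 → a = 1 := fun a ha => by
    have h := FiniteField.pow_card_sub_one_eq_one a ha
    rw [hq] at h
    simpa using h
  obtain ⟨c, hc, hB'⟩ := form_pure (f := QuadraticMap.polar Q) (σ := id) (fun _ _ => rfl)
    (eq_formOfGram (Lib.Subspaces.FormVec.isLinearLeft_of_bilinear hf₁.bilinear)
      hf₁.bilinear.add_right hf₁.bilinear.smul_right)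
    (eq_formOfGram (Lib.Subspaces.FormVec.isLinearLeft_of_bilinear hf₂.bilinear)
      hf₂.bilinear.add_right hf₂.bilinear.smul_right) hT
  have hB : ∀ x y x' y', QuadraticMap.polar Q (pure e P x y) (pure e P x' y') = f₁ x x' * f₂ y y' :=
    fun x y x' y' => by rw [hB', h01 c hc, one_mul]
  have hneg : ∀ a : F, -a = a := fun a => by linear_combination -a * h2'
  set e0 : Fin 2 → F := Pi.single 0 1
  set e1 : Fin 2 → F := Pi.single 1 1
  have hsum : ∀ x : Fin 2 → F, x = x 0 • e0 + x 1 • e1 := fun x => by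
    funext i; fin_cases i <;> simp [e0, e1]
  have hb1 := hf₁.bilinear
  have hf01 : f₁ e0 e1 = 1 := by
    refine h01 _ fun h => ?_
    obtain ⟨-, x, hx⟩ := hf₁.nondegenerate e0 (by simp [e0])
    apply hx
    rw [hsum x, hb1.add_right, hb1.smul_right, hb1.smul_right, hf₁.alternating, h]
    ring
  have hf10 : f₁ e1 e0 = 1 := by rw [hf₁.skew, hf01, hneg]
  have hx0 : ∀ x, f₁ x e0 = x 1 := fun x => by
    conv_lhs => rw [hsum x, hb1.add_left, hb1.smul_left, hb1.smul_left, hf₁.alternating, hf10]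
    ring
  have hx1 : ∀ x, f₁ x e1 = x 0 := fun x => by
    conv_lhs => rw [hsum x, hb1.add_left, hb1.smul_left, hb1.smul_left, hf₁.alternating, hf01]
    ring
  have hb2 := hf₂.bilinear
  have hn2 : n = 2 * n₂ := by simpa using Fintype.card_congr e
  let v : Fin n₂ → F := Pi.single (⟨0, by omega⟩ : Fin n₂) 1
  have hv0 : v ≠ 0 := by simp [v]
  obtain ⟨w, hw, hw2⟩ := Lib.Subspaces.FormVec.exists_common_zero_not_mem
    (Submodule.span F {v}) (fun _ : Fin 1 => Lib.Subspaces.FormVec.formVec f₂ v)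
    (by rw [finrank_span_singleton hv0, Fintype.card_fin]; omega)
  have hl2 := Lib.Subspaces.FormVec.isLinearLeft_of_bilinear hb2
  have hwv : f₂ w v = 0 := by rw [← Lib.Subspaces.FormVec.formVec_dot hl2]; exact hw2 0
  have hvw : f₂ v w = 0 := by rw [hf₂.skew, hwv, neg_zero]
  have hw0 : w ≠ 0 := fun h => hw (h ▸ Submodule.zero_mem _)
  obtain ⟨φ, hφ, hφv⟩ := Lib.Subspaces.Transvection.exists_functional
    (W := Submodule.span F {w}) (v := v) fun h => by
      obtain ⟨a, ha⟩ := Submodule.mem_span_singleton.mp h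
      have ha0 : a ≠ 0 := fun e => hv0 (by rw [← ha, e, zero_smul])
      exact hw (Submodule.mem_span_singleton.mpr ⟨a⁻¹, by rw [← ha, smul_smul, inv_mul_cancel₀ ha0, one_smul]⟩)
  obtain ⟨y₁, rfl⟩ := Lib.Subspaces.FormVec.formVec_surjective hl2 hb2.add_right hf₂.nondegenerate φ
  rw [Lib.Subspaces.FormVec.formVec_dot hl2] at hφv
  have hy1w : f₂ w y₁ = 0 := by
    rw [← Lib.Subspaces.FormVec.formVec_dot hl2]; exact hφ w (Submodule.mem_span_singleton_self _)
  have hy1v' : f₂ y₁ v = 1 := by rw [hf₂.skew, hφv, hneg]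
  have hy1w' : f₂ y₁ w = 0 := by rw [hf₂.skew, hy1w, neg_zero]
  have hs : ∀ x y, Q (pure e P x y) = 0 := hpure
  have hperp : ∀ a b, QuadraticMap.polar Q (pure e P b w) (pure e P a v) = 0 := fun a b => by
    rw [hB, hwv, mul_zero]
  have hsg : ∀ a b x y, (Lib.Subspaces.OrthForm.sieg Q (pure e P a v) (pure e P b w) :
      Matrix (Fin n) (Fin n) F) *ᵥ pure e P x y =
      pure e P x y + (f₁ x a * f₂ y v) • pure e P b w + (f₁ x b * f₂ y w) • pure e P a v := by
    intro a b x y
    rw [Lib.Subspaces.OrthForm.sieg_mulVec hQ (hs _ _) (hperp _ _), hB, hB, hs, zero_mul,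
      sub_zero, hneg]
  have hmem : ∀ a b, Lib.Subspaces.OrthForm.sieg Q (pure e P a v) (pure e P b w) ∈
      Cfsg.Geo.omegaGL Q := fun a b =>
    Lib.Subspaces.OmegaGL.sieg_mem_omega hQ (by simp; omega) (hs _ _) (hperp _ _)
  have hom : ∀ x, om F *ᵥ x = f₁ x e1 • e1 + f₁ x e0 • (e0 + e1) := fun x => by
    rw [hx0, hx1]
    funext i; fin_cases i <;> simp [om, e0, e1, mulVec, dotProduct, Fin.sum_univ_two]
  have hom2 : ∀ x, om F *ᵥ (om F *ᵥ x) = f₁ x e1 • e1 + f₁ x (e0 + e1) • e0 := fun x => by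
    rw [hb1.add_right, hx0, hx1]
    funext i; fin_cases i <;> simp [om, e0, e1, mulVec, dotProduct, Fin.sum_univ_two] <;>
      first | ring1 | linear_combination (x 1) * h2'
  refine exists_between (N := fun y => f₂ y v • w) (N' := fun y => f₂ y w • v)
    (M := fun y => f₂ y v • w + f₂ y w • v) (E := !![0, 1; 0, 0]) (y₀ := v) (y₁ := y₁) (z₀ := v)
    (z₁ := y₁)
    (g₁ := Lib.Subspaces.OrthForm.sieg Q (pure e P e1 v) (pure e P e1 w) *
      Lib.Subspaces.OrthForm.sieg Q (pure e P e0 v) (pure e P (e0 + e1) w))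
    (g₂ := Lib.Subspaces.OrthForm.sieg Q (pure e P e0 v) (pure e P e0 w))
    e P hq inf_le_right (fun g hg => hg.1) (Subgroup.mul_mem _ (hmem _ _) (hmem _ _)) (fun x y => ?_)
    hv0 (by simp [hf₂.alternating v]) (by simp [hvw]) (by simp [hy1v', hw0]) (by simp [hy1w'])
    (hmem _ _) ⟨e0, ?_⟩ (fun x y => ?_) hv0 (by simp [hf₂.alternating v, hvw])
    (by simp [hy1v', hy1w', hw0])
  · rw [Lib.Subspaces.Transvection.gl_mul_mulVec, hsg, mulVec_add, mulVec_add, mulVec_smul,
      mulVec_smul, hsg, hsg, hsg, hom2, hom]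
    rw [hwv, hvw, hf₂.alternating w, hf₂.alternating v]
    simp only [pure_smul_right, pure_add_left, pure_smul_left, mul_zero, zero_smul, add_zero]
    module
  · intro h
    have := congrFun h 0
    simp [om, e0, mulVec, dotProduct, Fin.sum_univ_two] at this
  · have hx : (!![0, 1; 0, 0] : Matrix (Fin 2) (Fin 2) F) *ᵥ x = f₁ x e0 • e0 := by
      rw [hx0]
      funext i
      fin_cases i <;> simp [e0, mulVec, dotProduct, Fin.sum_univ_two]
    rw [hsg, hx, pure_add_right, pure_smul_left, pure_smul_left, pure_smul_right, pure_smul_right]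
    module

end Cfsg.Agent.S5705
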