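import Cfsg.Statements.S5707
import Cfsg.Agent.Lib.SpinTensor.Factors

set_option autoImplicit false
open Cfsg

namespace Cfsg.Agent.S5707

/-- Let F be a finite field with q elements, n ≥ 13 even, Q a non-degenerate quadratic form on F^n of plus type (some subspace of dimension n/2 is totally singular), and Ω the commutator subgroup of the isometry group of Q, viewed inside GL_n(F). Suppose q is even and that, through P and e, the polar form of Q is similar to the t-fold tensor power (t ≥ 2) of a non-degenerate symplectic form f₁ on F^k with k ≤ 4 and (q, k) ≠ (2, 2), Q vanishing on the images of all pure tensors. Then the elements of Ω in the stabiliser of this decomposition form a subgroup that is not maximal: some subgroup lies strictly between it and Ω. -/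
theorem result {F : Type*} [Field F] [Fintype F] {n : ℕ} (hn : 13 ≤ n) (heven : Even n) (Q : (Fin n → F) → F) (hQ : Cfsg.Geo.IsNondegenerateQuadraticForm Q) (hplus : Cfsg.Geo.IsPlusTypeOn Q ⊤) (hchar : ¬ Odd (Fintype.card F)) (k t : ℕ) (ht : 2 ≤ t) (hk : k ≤ 4) (hex1 : ¬ (Fintype.card F = 2 ∧ k = 2)) (e : (Fin n) ≃ (Fin t → Fin k)) (P : Matrix.GeneralLinearGroup (Fin n) F) (f₁ : (Fin k → F) → (Fin k → F) → F) (hf₁ : Cfsg.Geo.IsSymplecticForm f₁) (hT : Cfsg.Geo.IsTensorPowerFormStructure id (QuadraticMap.polar Q) f₁ e P) (hpure : (∀ xs : Fin t → (Fin k → F), Q (Matrix.mulVec (P : Matrix (Fin n) (Fin n) F) ((fun a : Fin t → Fin k => ∏ i, xs i (a i)) ∘ e)) = 0)) : ∃ K : Subgroup (Matrix.GeneralLinearGroup (Fin n) F), Cfsg.Geo.tensorWreathSubgroup k t e P ⊓ Cfsg.Geo.omegaGL Q < K ∧ K < Cfsg.Geo.omegaGL Q := by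
  classical
  have h2 : (2 : F) = 0 := by
    haveI : CharP F (ringChar F) := ringChar.charP F
    have h : ringChar F = 2 := by
      by_contra h
      exact hchar (Nat.odd_iff.2 (FiniteField.odd_card_of_char_ne_two h))
    simpa [h] using CharP.cast_eq_zero F (ringChar F)
  have hnk : n = k ^ t := by simpa using Fintype.card_congr e
  have hb := hf₁.bilinear
  set G : Matrix (Fin k) (Fin k) F := Cfsg.Geo.gramMatrix f₁ with hG
  obtain ⟨c, hc, hT⟩ := hT
  have hf : Lib.SpinTensor.FormData e P Q G c := by
    refine ⟨h2, hc, hQ.smul, fun x y => ?_, fun xs => hpure xs⟩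
    rw [hT]
    congr 1
    simp only [dotProduct, Matrix.mulVec, Finset.mul_sum, Lib.Aschbacher.tens_apply, id, hG]
    exact Finset.sum_congr rfl fun a _ => Finset.sum_congr rfl fun b _ => by ring
  have hd : ∀ i, G i i = 0 := fun i => hf₁.alternating _
  have hsk : ∀ i j, G j i = - G i j := fun i j => hf₁.skew _ _
  have hneg : ∀ a : F, -a = a := fun a => by linear_combination -a * h2
  obtain rfl | rfl : k = 2 ∨ k = 4 := by
    interval_cases k
    · simp [zero_pow (show t ≠ 0 by omega)] at hnk; omega
    · simp at hnk; omega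
    · left; rfl
    · exact absurd (hnk ▸ heven) (Nat.not_even_iff_odd.2 (Odd.pow (by decide)))
    · right; rfl
  · have ht4 : 4 ≤ t := by
      by_contra h
      have : 2 ^ t ≤ 2 ^ 3 := Nat.pow_le_pow_right (by norm_num) (by omega)
      omega
    refine Lib.SpinTensor.exists_between_two ht4 hf hd (by rw [hsk 0 1, hneg]) fun h01 => ?_
    obtain ⟨-, x, hx⟩ := hf₁.nondegenerate (Pi.single 0 1) (by simp)
    apply hx
    have hx' : x = x 0 • Pi.single 0 1 + x 1 • Pi.single 1 1 := by
      funext i; fin_cases i <;> simp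
    rw [hx', hb.add_right, hb.smul_right, hb.smul_right, hf₁.alternating]
    rw [show f₁ (Pi.single 0 1) (Pi.single 1 1) = 0 from h01]
    ring
  · have hsym : ∀ x y, f₁ x y = f₁ y x := fun x y => by rw [hf₁.skew, hneg]
    have hexp : ∀ x y, f₁ x y = ∑ i, x i * ∑ j, G i j * y j := by
      intro x y
      have hx : ∀ z : Fin 4 → F, z = z 0 • Pi.single 0 1 + z 1 • Pi.single 1 1 + z 2 • Pi.single 2 1 +
          z 3 • Pi.single 3 1 := fun z => by
        funext i; fin_cases i <;> simp
      conv_lhs => rw [hx x, hx y]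
      simp only [hb.add_left, hb.add_right, hb.smul_left, hb.smul_right, Fin.sum_univ_four, hG,
        Cfsg.Geo.gramMatrix]
      ring
    have hnd : ∀ x : Fin 4 → F, x ≠ 0 → ∃ y, f₁ x y = 1 := by
      intro x hx
      obtain ⟨-, y, hy⟩ := hf₁.nondegenerate x hx
      exact ⟨(f₁ x y)⁻¹ • y, by rw [hb.smul_right, inv_mul_cancel₀ hy]⟩
    have he0 : (Pi.single 0 1 : Fin 4 → F) ≠ 0 := by simp
    obtain ⟨v, hv⟩ := hnd _ he0
    set u : Fin 4 → F := Pi.single 0 1 with hu
    set p : (Fin 4 → F) → (Fin 4 → F) := fun z => z + f₁ z v • u + f₁ z u • v with hp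
    have hpu : ∀ z, f₁ (p z) u = 0 := fun z => by
      rw [hp, hb.add_left, hb.add_left, hb.smul_left, hb.smul_left, hf₁.alternating, hsym v u, hv]
      linear_combination f₁ z u * h2
    have hpv : ∀ z, f₁ (p z) v = 0 := fun z => by
      rw [hp, hb.add_left, hb.add_left, hb.smul_left, hb.smul_left, hf₁.alternating, hv]
      linear_combination f₁ z v * h2
    obtain ⟨z, hz⟩ : ∃ z, p z ≠ 0 := by
      by_contra! hall
      have htop : (⊤ : Submodule F (Fin 4 → F)) ≤ Submodule.span F (Set.range ![u, v]) := fun x _ => by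
        have h1 : x = (-f₁ x v) • u + (-f₁ x u) • v := by
          have := hall x
          rw [hp] at this
          simp only at this
          rw [← sub_eq_zero, ← this, neg_smul, neg_smul]
          abel
        rw [h1]
        exact Submodule.add_mem _ (Submodule.smul_mem _ _ (Submodule.subset_span ⟨0, rfl⟩))
          (Submodule.smul_mem _ _ (Submodule.subset_span ⟨1, rfl⟩))
      have h4 := Submodule.finrank_mono htop
      have h5 := finrank_range_le_card (R := F) ![u, v]
      rw [finrank_top, Module.finrank_fin_fun] at h4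
      simp only [Set.finrank, Fintype.card_fin] at h5
      omega
    set u' := p z with hu'
    obtain ⟨w, hw⟩ := hnd _ hz
    set v' := p w with hv'
    have h1 : f₁ u u' = 0 := by rw [hsym, hpu]
    have h3 : f₁ v u' = 0 := by rw [hsym, hpv]
    have h4 : f₁ u v' = 0 := by rw [hsym, hpu]
    have h5 : f₁ v v' = 0 := by rw [hsym, hpv]
    have h6 : f₁ u' v' = 1 := by
      rw [hv', hp, hb.add_right, hb.add_right, hb.smul_right, hb.smul_right, hw, hpu, hpv]
      ring
    let col : Fin 4 → Fin 4 → F := ![u, v, u', v']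
    refine Lib.SpinTensor.exists_between_four ht hf ⟨hd, hsk⟩ (Matrix.of fun i j => col j i) ?_
    have hprod : Matrix.transpose (Matrix.of fun i j => col j i) * G * (Matrix.of fun i j => col j i) =
        Matrix.of fun i j => f₁ (col i) (col j) := by
      ext i j
      rw [Matrix.of_apply, hexp]
      simp only [Matrix.mul_apply, Matrix.transpose_apply, Matrix.of_apply, Fin.sum_univ_four]
      ring
    rw [hprod]
    ext i j
    fin_cases i <;> fin_cases j <;>
      simp [col, Lib.SpinTensor.J4, hf₁.alternating, hv, hsym v u, h1, hsym u' u, h3, hsym u' v, h4, hsym v' u,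
        h5, hsym v' v, h6, hsym v' u']

end Cfsg.Agent.S5707
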