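import Cfsg.Statements.S5710
import Cfsg.Agent.Lib.Forms.TensorFactor

set_option autoImplicit false
open Cfsg

namespace Cfsg.Agent.S5710

open Matrix Cfsg.Agent.Lib.Forms.TensorFrame

/-- Let F be the field with 3 elements, n = 3 n₂ ≥ 13 even, Q a non-degenerate quadratic form on F^n of minus type and Ω the commutator subgroup of its isometry group. Suppose that, through P and e, the polar form of Q is similar to the tensor product of non-degenerate symmetric bilinear forms f₁ on F^3 and f₂ on F^(n₂), n₂ even and at least 4, of minus type. Then the elements of Ω in the stabiliser of this tensor decomposition form a subgroup that is not maximal: some subgroup lies strictly between it and Ω. -/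
theorem result {F : Type*} [Field F] [Fintype F] {n : ℕ} (hn : 13 ≤ n) (heven : Even n) (Q : (Fin n → F) → F) (hQ : Cfsg.Geo.IsNondegenerateQuadraticForm Q) (hminus : ¬ Cfsg.Geo.IsPlusTypeOn Q ⊤) (hq : Fintype.card F = 3) (n₂ : ℕ) (h2 : 4 ≤ n₂) (h2e : Even n₂) (e : (Fin n) ≃ Fin 3 × Fin n₂) (P : Matrix.GeneralLinearGroup (Fin n) F) (f₁ : (Fin 3 → F) → (Fin 3 → F) → F) (f₂ : (Fin n₂ → F) → (Fin n₂ → F) → F) (hf₁ : Cfsg.Geo.IsSymmetricForm f₁) (hf₂ : Cfsg.Geo.IsSymmetricForm f₂) (hf₂m : ¬ Cfsg.Geo.IsPlusTypeOn (fun v : Fin n₂ → F => f₂ v v) ⊤) (hT : Cfsg.Geo.IsTensorFormStructure id (QuadraticMap.polar Q) f₁ f₂ e P) : ∃ K : Subgroup (Matrix.GeneralLinearGroup (Fin n) F), Cfsg.Geo.tensorProductSubgroup 3 n₂ e P ⊓ Cfsg.Geo.omegaGL Q < K ∧ K < Cfsg.Geo.omegaGL Q := by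
  classical
  have h2 : (2 : F) ≠ 0 := Lib.Subspaces.OrthForm.two_ne_zero_of_odd (by rw [hq]; decide)
  obtain ⟨c, hc, hB⟩ := form_pure (f := QuadraticMap.polar Q) (σ := id) (fun _ _ => rfl)
    (eq_formOfGram (Lib.Subspaces.FormVec.isLinearLeft_of_bilinear hf₁.bilinear)
      hf₁.bilinear.add_right hf₁.bilinear.smul_right)
    (eq_formOfGram (Lib.Subspaces.FormVec.isLinearLeft_of_bilinear hf₂.bilinear)
      hf₂.bilinear.add_right hf₂.bilinear.smul_right) hT
  have hcard : n = 3 * n₂ := by simpa using Fintype.card_congr e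
  obtain ⟨u, hu0, huu, huo, hcl⟩ := Lib.Forms.TensorFactor.sym_three hq hf₁
  obtain ⟨p, r, y, hp, hp0, hrp, hr, hyp⟩ := Lib.Forms.TensorFactor.sym_data h2
    (show 4 < n₂ by omega) hf₂
  refine exists_between_siegel (T := pure e P) (u := u) (isTensorMap_pure e P) hQ h2 (by simp; omega)
    inf_le_right ?_ hc hB (by norm_num) huu huo hu0 hp hp0 hrp (by rw [hf₂.symm]; exact hrp) hr hyp
    (by rw [hf₂.symm]; exact hyp)
  rintro g ⟨hg, hgG⟩
  obtain ⟨a, b, hab⟩ := exists_of_mem_tensor e P hg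
  obtain ⟨lam, hlam, ha⟩ := similitude hc hB
    (Lib.Subspaces.OrthForm.B_map (Lib.Subspaces.OmegaGL.omega_isometry hQ hgG)) hab hyp (huu 0)
  exact ⟨a, b, hab, hcl a lam hlam ha⟩

end Cfsg.Agent.S5710
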