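import Cfsg.Statements.S5712
import Cfsg.Agent.Lib.Subspaces.SympTAFull
import Cfsg.Agent.Lib.Subspaces.SympTAReflect
import Cfsg.Agent.Lib.Subspaces.SympTASmall
import Cfsg.Agent.Lib.Cores.Basic
import Cfsg.Agent.Lib.SymSix.IndexSix
import Cfsg.Agent.Lib.Symplectic.Std
import Cfsg.Agent.S0247

set_option autoImplicit false
open Cfsg

namespace Cfsg.Agent.S5712

open Matrix Cfsg.Agent.Lib.Subspaces.Transvection Cfsg.Agent.Lib.Subspaces.FormVec
  Cfsg.Agent.Lib.Subspaces.SympGen Cfsg.Agent.Lib.Subspaces.SympCenters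
  Cfsg.Agent.Lib.Subspaces.SympTA Cfsg.Agent.Lib.Subspaces.SympTAQuad
  Cfsg.Agent.Lib.Subspaces.SympTAReflect

variable {ι : Type} [Fintype ι] [DecidableEq ι] {F : Type*} [Field F] [Finite F]
  {f : (ι → F) → (ι → F) → F} {L : Subgroup (GL ι F)} (h : Ctx f L)
include h

/-- The isometries fixing `a`. -/
def fixer (f : (ι → F) → (ι → F) → F) (a : ι → F) (G : Subgroup (GL ι F)) : Subgroup (GL ι F) where
  carrier := {g | g ∈ G ∧ (g : Matrix ι ι F) *ᵥ a = a}
  one_mem' := ⟨G.one_mem, by simp⟩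
  mul_mem' {g k} hg hk := ⟨G.mul_mem hg.1 hk.1, by rw [gl_mul_mulVec, hk.2, hg.2]⟩
  inv_mem' {g} hg := ⟨G.inv_mem hg.1, by
    conv_lhs => rw [← hg.2]
    rw [gl_inv_mulVec]⟩

/-- The 2-core of the stabiliser of `a` acts trivially on `a^⊥ / a`. -/
theorem core_unipotent (G : Subgroup (GL ι F))
    (hG : ∀ g : GL ι F, g ∈ G ↔ ∀ x y, f ((g : Matrix ι ι F) *ᵥ x) ((g : Matrix ι ι F) *ᵥ y) = f x y)
    (hn : 3 ≤ Fintype.card ι) {a : ι → F} (ha : a ≠ 0) {g : GL ι F}
    (hg : g ∈ (Cfsg.pCore 2 ↥(fixer f a G)).map (fixer f a G).subtype) :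
    (∀ x y, f ((g : Matrix ι ι F) *ᵥ x) ((g : Matrix ι ι F) *ᵥ y) = f x y) ∧
      (g : Matrix ι ι F) *ᵥ a = a ∧
      ∀ v, f a v = 0 → ∃ t : F, (g : Matrix ι ι F) *ᵥ v = v + t • a := by
  classical
  obtain ⟨g₀, hgP, rfl⟩ := hg
  refine ⟨(hG _).mp g₀.2.1, g₀.2.2, fun v hv => ?_⟩
  obtain ⟨b, hab⟩ := exists_pair_one h ha
  let P := Cfsg.pCore 2 ↥(fixer f a G)
  have hPn : P.Normal := Subgroup.sSup_normal _ fun _ hN => hN.1
  have hP : IsPGroup 2 P := Cfsg.Agent.Lib.Cores.pCore_isPGroup 2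
  let W : Submodule F (ι → F) :=
    { carrier := {w | f a w = 0 ∧ f b w = 0}
      add_mem' := fun {x y} hx hy => ⟨by rw [h.form.bilinear.add_right, hx.1, hy.1, add_zero],
        by rw [h.form.bilinear.add_right, hx.2, hy.2, add_zero]⟩
      zero_mem' := ⟨h.zero_r a, h.zero_r b⟩
      smul_mem' := fun t x hx => ⟨by rw [h.form.bilinear.smul_right, hx.1, mul_zero],
        by rw [h.form.bilinear.smul_right, hx.2, mul_zero]⟩ }
  have hsp : ∀ x, f a x = 0 → x = f x b • a + proj f a b x := fun x hx => by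
    have := eq_proj_add h (a := a) (b := b) x
    rwa [h.comm x a, hx, zero_smul, add_zero] at this
  have hpa : proj f a b a = 0 := by
    rw [proj, h.self, hab]
    simp [h.vec_add_self]
  have hproj : ∀ (k : ↥(fixer f a G)) x, f a x = 0 →
      proj f a b (((k : GL ι F) : Matrix ι ι F) *ᵥ proj f a b x) =
        proj f a b (((k : GL ι F) : Matrix ι ι F) *ᵥ x) := fun k x hx => by
    conv_rhs => rw [hsp x hx, mulVec_add, mulVec_smul, k.2.2]
    simp only [proj, h.form.bilinear.add_left, h.form.bilinear.smul_left, h.self, hab]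
    ext i
    simp only [Pi.add_apply, Pi.smul_apply, smul_eq_mul]
    linear_combination (-(f x b * a i)) * h.two
  have hperp : ∀ (k : ↥(fixer f a G)) x, f a x = 0 → f a (((k : GL ι F) : Matrix ι ι F) *ᵥ x) = 0 :=
    fun k x hx => by
      have e := (hG _).mp k.2.1 a x
      rwa [k.2.2, hx] at e
  letI : MulAction ↥P ↥W :=
    { smul := fun p w => ⟨proj f a b (((p.1 : GL ι F) : Matrix ι ι F) *ᵥ w.1),
        proj_perp_a h hab _, proj_perp_b h hab _⟩
      one_smul := fun w => Subtype.ext (by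
        show proj f a b (((1 : ↥(fixer f a G)) : GL ι F).1 *ᵥ w.1) = w.1
        rw [Subgroup.coe_one, Units.val_one, one_mulVec, proj_self h w.2.1 w.2.2])
      mul_smul := fun p r w => Subtype.ext (by
        show proj f a b (((p.1 * r.1 : ↥(fixer f a G)) : GL ι F).1 *ᵥ w.1) = _
        rw [Subgroup.coe_mul, gl_mul_mulVec]
        exact (hproj p.1 _ (hperp r.1 _ w.2.1)).symm) }
  obtain ⟨w0, hw0, hw0a, hw0b⟩ := exists_perp_ne h hab hn
  have h2 : 2 ∣ Nat.card W := by
    have e : addOrderOf (⟨w0, hw0a, hw0b⟩ : W) = 2 :=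
      addOrderOf_eq_prime (Subtype.ext (by
        show (2 : ℕ) • w0 = 0
        rw [two_nsmul, h.vec_add_self])) (fun e => hw0 (congrArg Subtype.val e))
    rw [← e]
    exact addOrderOf_dvd_natCard _
  obtain ⟨v0, hv0, hne⟩ := hP.exists_fixed_point_of_prime_dvd_card_of_fixed_point (W) h2
    (a := (0 : W)) (fun p => Subtype.ext (by
      show proj f a b (((p.1 : GL ι F) : Matrix ι ι F) *ᵥ (0 : ι → F)) = 0
      rw [mulVec_zero]
      simp [proj, h.zero_l]))
  have hv0ne : v0.1 ≠ 0 := fun e => hne (Subtype.ext e.symm)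
  have hfix : ∀ p ∈ P, ∃ t : F, ((p : GL ι F) : Matrix ι ι F) *ᵥ v0.1 = v0.1 + t • a := by
    intro p hp
    have e : proj f a b (((p : GL ι F) : Matrix ι ι F) *ᵥ v0.1) = v0.1 :=
      congrArg Subtype.val (hv0 ⟨p, hp⟩)
    exact ⟨f (((p : GL ι F) : Matrix ι ι F) *ᵥ v0.1) b, by
      conv_lhs => rw [hsp _ (hperp p _ v0.2.1), e, add_comm]⟩
  -- transitivity
  have move : ∀ w, f a w = 0 → f b w = 0 → w ≠ 0 →
      ∃ k : ↥(fixer f a G), ((k : GL ι F) : Matrix ι ι F) *ᵥ v0.1 = w := by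
    have one : ∀ x y, f a x = 0 → f a y = 0 → f x y ≠ 0 →
        ∃ k : ↥(fixer f a G), ((k : GL ι F) : Matrix ι ι F) *ᵥ x = y := by
      intro x y hx hy hxy
      refine ⟨⟨tA f (x + y) 0 (f x y)⁻¹, (hG _).mpr (tA_isometry h _ _ _), ?_⟩, ?_⟩
      · exact tA_zero_fix h (by rw [h.form.bilinear.add_right, hx, hy, add_zero]) _
      · show (tA f (x + y) 0 (f x y)⁻¹ : Matrix ι ι F) *ᵥ x = y
        rw [tA_zero_mulVec h, h.form.bilinear.add_right, h.self, zero_add, inv_mul_cancel₀ hxy,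
          one_smul, ← add_assoc, h.vec_add_self, zero_add]
    intro w hwa hwb hw
    by_cases hc : f v0.1 w = 0
    · obtain ⟨z, hz1, hz2⟩ := exists_nonorth_both h.form hv0ne hw
      have e1 : f v0.1 (proj f a b z) ≠ 0 := by
        rw [h.comm, proj_dot h v0.2.1 v0.2.2]; exact hz1
      have e2 : f (proj f a b z) w ≠ 0 := by rw [proj_dot h hwa hwb]; exact hz2
      obtain ⟨k1, hk1⟩ := one _ _ v0.2.1 (proj_perp_a h hab z) e1
      obtain ⟨k2, hk2⟩ := one _ _ (proj_perp_a h hab z) hwa e2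
      exact ⟨k2 * k1, by rw [Subgroup.coe_mul, gl_mul_mulVec, hk1, hk2]⟩
    · exact one _ _ v0.2.1 hwa hc
  by_cases hw : proj f a b v = 0
  · refine ⟨0, ?_⟩
    have e := hsp v hv
    rw [hw, add_zero] at e
    show ((g₀ : GL ι F) : Matrix ι ι F) *ᵥ v = _
    rw [e, mulVec_smul, g₀.2.2, zero_smul, add_zero]
  obtain ⟨k, hk⟩ := move _ (proj_perp_a h hab v) (proj_perp_b h hab v) hw
  obtain ⟨t, ht⟩ := hfix (k⁻¹ * g₀ * k⁻¹⁻¹) (hPn.conj_mem g₀ hgP k⁻¹)
  refine ⟨t, ?_⟩
  rw [inv_inv] at ht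
  have e := congrArg (fun x => ((k : GL ι F) : Matrix ι ι F) *ᵥ x) ht
  simp only [Subgroup.coe_mul, Subgroup.coe_inv, gl_mul_mulVec, gl_mulVec_inv, hk, mulVec_add,
    mulVec_smul, k.2.2] at e
  show ((g₀ : GL ι F) : Matrix ι ι F) *ᵥ v = _
  conv_lhs => rw [hsp v hv, mulVec_add, mulVec_smul, g₀.2.2, e, ← add_assoc, ← hsp v hv]

omit [Finite F] in
/-- A transvection has `g - 1` of rank one. -/
theorem rank_transvection {a : ι → F} (ha : a ≠ 0) {l : F} (hl : l ≠ 0) :
    ((tA f a 0 l : Matrix ι ι F) - 1).rank = 1 := by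
  rw [Cfsg.Agent.Lib.Subspaces.RankParity.rank_sub_one]
  have e : LinearMap.range (Cfsg.Agent.Lib.Forms.dev
      (Cfsg.Agent.Lib.Forms.glEquiv (tA f a 0 l))) = F ∙ a := by
    refine le_antisymm ?_ ?_
    · rintro _ ⟨x, rfl⟩
      rw [Cfsg.Agent.Lib.Forms.dev_apply, Cfsg.Agent.Lib.Forms.glEquiv_apply, tA_zero_mulVec h,
        add_sub_cancel_left]
      exact Submodule.smul_mem _ _ (Submodule.mem_span_singleton_self a)
    · rw [Submodule.span_singleton_le_iff_mem]
      obtain ⟨x, hx⟩ := exists_pair_one h ha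
      refine ⟨l⁻¹ • x, ?_⟩
      rw [Cfsg.Agent.Lib.Forms.dev_apply, Cfsg.Agent.Lib.Forms.glEquiv_apply, tA_zero_mulVec h,
        add_sub_cancel_left, h.form.bilinear.smul_left, h.comm x a, hx, mul_one,
        mul_inv_cancel₀ hl, one_smul]
  rw [e, finrank_span_singleton ha]

/-- A large transvection-free group of unipotent elements at `a` has one element above each
`w ⊥ a`. -/
theorem good_of_card (hn : 3 ≤ Fintype.card ι) {a : ι → F} (ha : a ≠ 0)
    {X : Subgroup (GL ι F)}
    (hu : ∀ g ∈ X, (∀ x y, f ((g : Matrix ι ι F) *ᵥ x) ((g : Matrix ι ι F) *ᵥ y) = f x y) ∧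
      (g : Matrix ι ι F) *ᵥ a = a ∧
      ∀ v, f a v = 0 → ∃ t : F, (g : Matrix ι ι F) *ᵥ v = v + t • a)
    (hcard : Nat.card X = Nat.card F ^ (Fintype.card ι - 2))
    (hntv : ∀ x ∈ X, ((x : Matrix ι ι F) - 1).rank ≠ 1) : Good f X a := by
  classical
  obtain ⟨b, hab⟩ := exists_pair_one h ha
  have hba : f b a = 1 := by rw [h.comm, hab]
  have hzero : ∀ l, tA f a 0 l ∈ X → l = 0 := fun l hl =>
    by_contra fun hl0 => hntv _ hl (rank_transvection h ha hl0)
  let T : (ι → F) →ₗ[F] F × F :=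
    { toFun := fun x => (f x a, f x b)
      map_add' := fun x y => by
        simp only [h.form.bilinear.add_left, Prod.mk_add_mk]
      map_smul' := fun t x => by
        simp only [h.form.bilinear.smul_left, Prod.smul_mk, smul_eq_mul, RingHom.id_apply] }
  have hT : LinearMap.range T = ⊤ := LinearMap.range_eq_top.mpr fun p =>
    ⟨p.1 • b + p.2 • a, Prod.ext
      (by show f _ a = _; simp [h.form.bilinear.add_left, h.form.bilinear.smul_left, h.self, hba])
      (by show f _ b = _; simp [h.form.bilinear.add_left, h.form.bilinear.smul_left, h.self, hab])⟩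
  have hk := LinearMap.finrank_range_add_finrank_ker T
  rw [hT, finrank_top, Module.finrank_prod, Module.finrank_self,
    Module.finrank_fintype_fun_eq_card] at hk
  have hWcard : Nat.card (LinearMap.ker T) = Nat.card X := by
    rw [hcard, Module.natCard_eq_pow_finrank (K := F)]
    congr 1
    omega
  let Φ : X → LinearMap.ker T := fun g => ⟨proj f a b (((g : GL ι F) : Matrix ι ι F) *ᵥ b), by
    show T _ = 0
    exact Prod.ext (by show f _ a = 0; rw [h.comm]; exact proj_perp_a h hab _)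
      (by show f _ b = 0; rw [h.comm]; exact proj_perp_b h hab _)⟩
  have hform : ∀ g : X, (g : GL ι F) = tA f a (Φ g).1 (f (((g : GL ι F) : Matrix ι ι F) *ᵥ b) b) :=
    fun g => eq_tA_of_unipotent h hab (hu _ g.2).1 (hu _ g.2).2.1 (hu _ g.2).2.2
  have hinj : Function.Injective Φ := by
    intro g k e
    refine Subtype.ext ?_
    have hm := X.mul_mem g.2 k.2
    rw [hform g, hform k, ← e, tA_mul h (proj_perp_a h hab _) (proj_perp_a h hab _),
      h.vec_add_self, h.self, add_zero] at hm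
    rw [hform g, hform k, h.eq_of_add (hzero _ hm), e]
  obtain ⟨-, hsurj⟩ := (Nat.bijective_iff_injective_and_card Φ).mpr ⟨hinj, hWcard.symm⟩
  refine ⟨ha, fun w hw => ?_, hzero⟩
  have hw' : proj f a b w ∈ LinearMap.ker T := by
    show T _ = 0
    exact Prod.ext (by show f _ a = 0; rw [h.comm]; exact proj_perp_a h hab w)
      (by show f _ b = 0; rw [h.comm]; exact proj_perp_b h hab w)
  obtain ⟨g, hg⟩ := hsurj ⟨_, hw'⟩
  refine ⟨f (((g : GL ι F) : Matrix ι ι F) *ᵥ b) b, ?_⟩
  have e := hform g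
  rw [hg] at e
  have hwe : w = proj f a b w + f w b • a := by
    have := eq_proj_add h (a := a) (b := b) w
    rwa [h.comm w a, hw, zero_smul, add_zero, add_comm] at this
  rw [hwe, tA_shift h (proj_perp_a h hab w), ← e]
  exact g.2

variable {Q : QuadraticForm F (ι → F)}
  (hpol : ∀ x y, QuadraticMap.polar (⇑Q) x y = f x y)
  (hphi : ∀ c, Good f L c → ∀ w, f c w = 0 → phi f L c w = Q w)
include hpol hphi

omit [Finite F] in
/-- The singular points are good. -/
theorem good_of_singular {a b : ι → F} (ha : Good f L a) (hb : Good f L b) (hab : f a b = 1)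
    (hQ : ∀ c, Good f L c → Q c = 0) {x : ι → F} (hx0 : x ≠ 0) (hx : Q x = 0) : Good f L x := by
  have key : ∀ {c d : ι → F}, Good f L c → Good f L d → f c d = 1 → f c x ≠ 0 → Good f L x := by
    intro c d hc hd hcd hr
    set y := (f c x)⁻¹ • x with hy
    have hcy : f c y = 1 := by rw [hy, h.form.bilinear.smul_right, inv_mul_cancel₀ hr]
    have hdc : f d c = 1 := by rw [h.comm, hcd]
    set w := proj f c d y with hw
    have hwc : f c w = 0 := proj_perp_a h hcd y
    have hwd : f d w = 0 := proj_perp_b h hcd y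
    have hd' := good_tA h hc hd hwc
    rw [hdc, hwd, hphi c hc w hwc, one_smul, zero_add, mul_one] at hd'
    have hye : y = f y d • c + d + w := by
      have := eq_proj_add h (a := c) (b := d) y
      rwa [h.comm y c, hcy, one_smul] at this
    have hQy : Q y = 0 := by rw [hy, Cfsg.Agent.Lib.Subspaces.SympTAReflect.Q_smul, hx, mul_zero]
    have hν : f y d = Q w := by
      rw [hye] at hQy
      rw [Cfsg.Agent.Lib.Subspaces.SympTAReflect.Q_add hpol, Cfsg.Agent.Lib.Subspaces.SympTAReflect.Q_add hpol, Cfsg.Agent.Lib.Subspaces.SympTAReflect.Q_smul, hQ c hc,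
        hQ d hd] at hQy
      simp only [h.form.bilinear.add_left, h.form.bilinear.smul_left, hcd, hwc, hwd] at hQy
      exact h.eq_of_add (by linear_combination hQy)
    rw [show d + w + Q w • c = y by rw [hye, hν]; abel] at hd'
    have := good_smul h hd' hr
    rwa [hy, smul_smul, mul_inv_cancel₀ hr, one_smul] at this
  have hba : f b a = 1 := by rw [h.comm, hab]
  by_cases h1 : f a x = 0
  · by_cases h2 : f b x = 0
    · obtain ⟨w, hwa, hwb, hwx⟩ := exists_perp_one h hab hx0 h1 h2 1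
      have hb2 := good_tA h ha hb hwa
      rw [hba, hwb, one_smul, zero_add, mul_one] at hb2
      refine key hb2 ha ?_ ?_
      · simp [h.form.bilinear.add_left, h.form.bilinear.smul_left, h.self, hba, h.comm w a, hwa]
      · simp [h.form.bilinear.add_left, h.form.bilinear.smul_left, h2, hwx, h1]
    · exact key hb ha hba h2
  · exact key ha hb hab h1

end Cfsg.Agent.S5712

namespace Cfsg.Agent.S5712

open Cfsg.Agent.Lib.Subspaces.Transvection Cfsg.Agent.Lib.Subspaces.FormVec
  Cfsg.Agent.Lib.Subspaces.SympGen Cfsg.Agent.Lib.Subspaces.SympTA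
  Cfsg.Agent.Lib.Subspaces.SympTAQuad Cfsg.Agent.Lib.Subspaces.SympTAReflect

/-- Let F be a finite field of characteristic two, n ≥ 2, V = F^{2n} with the non-degenerate alternating form f(u, v) = Σ (u_i v_{n+i} + u_{n+i} v_i), and G the group of invertible matrices preserving f. Let a ≠ 0 be a vector, H its stabilizer in G, and X a subgroup of O₂(H) of order |F|^{2n−2} no element of which is a transvection (no element g has g − 1 of rank one). If L is a subgroup of G containing X that acts irreducibly on V (no proper non-zero L-invariant subspace), then L = G, or, for some quadratic form Q on V whose polar form is f, L is the isometry group of Q or its subgroup of the isometries g for which g − 1 has even rank, or |F| = 2, n = 2 and L is isomorphic to the alternating group of degree 6 or to the symmetric group of degree 5. -/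
theorem result {F : Type*} [Field F] [Fintype F] [CharP F 2] {n : ℕ} (hn : 2 ≤ n) (a : (Fin n ⊕ Fin n → F)) (ha : a ≠ 0)
    (X : Subgroup (GL (Fin n ⊕ Fin n) F)) (hXG : X ≤ Cfsg.preserving (Units.coeHom (Matrix (Fin n ⊕ Fin n) (Fin n ⊕ Fin n) F)) (fun u v : (Fin n ⊕ Fin n → F) => ∑ i : Fin n, (u (Sum.inl i) * v (Sum.inr i) + u (Sum.inr i) * v (Sum.inl i))))
    (hXO : ∀ H : Subgroup (GL (Fin n ⊕ Fin n) F),
      (∀ g : GL (Fin n ⊕ Fin n) F, g ∈ H ↔ (g ∈ Cfsg.preserving (Units.coeHom (Matrix (Fin n ⊕ Fin n) (Fin n ⊕ Fin n) F)) (fun u v : (Fin n ⊕ Fin n → F) => ∑ i : Fin n, (u (Sum.inl i) * v (Sum.inr i) + u (Sum.inr i) * v (Sum.inl i))) ∧ Matrix.mulVec (g : Matrix (Fin n ⊕ Fin n) (Fin n ⊕ Fin n) F) a = a)) →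
      X ≤ (Cfsg.pCore 2 ↥H).map H.subtype)
    (hcard : Nat.card ↥X = Fintype.card F ^ (2 * n - 2))
    (hntv : ∀ x ∈ X, ((x : Matrix (Fin n ⊕ Fin n) (Fin n ⊕ Fin n) F) - 1).rank ≠ 1)
    (L : Subgroup (GL (Fin n ⊕ Fin n) F)) (hXL : X ≤ L) (hLG : L ≤ Cfsg.preserving (Units.coeHom (Matrix (Fin n ⊕ Fin n) (Fin n ⊕ Fin n) F)) (fun u v : (Fin n ⊕ Fin n → F) => ∑ i : Fin n, (u (Sum.inl i) * v (Sum.inr i) + u (Sum.inr i) * v (Sum.inl i))))
    (hirr : ∀ W : Submodule F (Fin n ⊕ Fin n → F), (∀ g ∈ L, ∀ w ∈ W, Matrix.mulVec (g : Matrix (Fin n ⊕ Fin n) (Fin n ⊕ Fin n) F) w ∈ W) → W = ⊥ ∨ W = ⊤) :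
    L = Cfsg.preserving (Units.coeHom (Matrix (Fin n ⊕ Fin n) (Fin n ⊕ Fin n) F)) (fun u v : (Fin n ⊕ Fin n → F) => ∑ i : Fin n, (u (Sum.inl i) * v (Sum.inr i) + u (Sum.inr i) * v (Sum.inl i))) ∨
    (∃ Q : QuadraticForm F (Fin n ⊕ Fin n → F), (∀ u v, QuadraticMap.polar ⇑Q u v = (fun u v : (Fin n ⊕ Fin n → F) => ∑ i : Fin n, (u (Sum.inl i) * v (Sum.inr i) + u (Sum.inr i) * v (Sum.inl i))) u v) ∧
      (L = Cfsg.isometryGroup F ⇑Q ∨
        ∀ g : GL (Fin n ⊕ Fin n) F, g ∈ L ↔ (g ∈ Cfsg.isometryGroup F ⇑Q ∧ Even ((g : Matrix (Fin n ⊕ Fin n) (Fin n ⊕ Fin n) F) - 1).rank))) ∨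
    (Fintype.card F = 2 ∧ n = 2 ∧ (Nonempty (↥L ≃* ↥(alternatingGroup (Fin 6))) ∨ Nonempty (↥L ≃* Equiv.Perm (Fin 5)))) := by
  classical
  set f := fun u v : (Fin n ⊕ Fin n → F) =>
    ∑ i : Fin n, (u (Sum.inl i) * v (Sum.inr i) + u (Sum.inr i) * v (Sum.inl i)) with hfdef
  have h2 : (2 : F) = 0 := by exact_mod_cast CharP.cast_eq_zero F 2
  have hfe : f = Cfsg.sympForm n F := by
    funext u v
    simp only [hfdef, Cfsg.sympForm, Matrix.J, Matrix.mulVec, dotProduct, Fintype.sum_sum_type,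
      Matrix.fromBlocks_apply₁₁, Matrix.fromBlocks_apply₁₂, Matrix.fromBlocks_apply₂₁,
      Matrix.fromBlocks_apply₂₂, Matrix.zero_apply, Matrix.neg_apply, Matrix.one_apply,
      zero_mul, Finset.sum_const_zero, zero_add, add_zero, neg_mul, ite_mul, one_mul,
      Finset.sum_neg_distrib, Finset.sum_ite_eq, Finset.mem_univ, if_true]
    rw [← sub_eq_zero]
    simp only [mul_neg, Finset.sum_neg_distrib, Finset.sum_add_distrib]
    linear_combination (∑ i : Fin n, u (Sum.inl i) * v (Sum.inr i)) * h2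
  have hf : Cfsg.Geo.IsSymplecticForm f := hfe ▸
    Cfsg.Agent.Lib.Subspaces.SympGen.sympForm_isSymplectic n
  set G := Cfsg.preserving (Units.coeHom (Matrix (Fin n ⊕ Fin n) (Fin n ⊕ Fin n) F)) f with hGdef
  have hG : ∀ g : GL (Fin n ⊕ Fin n) F, g ∈ G ↔ ∀ x y,
      f ((g : Matrix (Fin n ⊕ Fin n) (Fin n ⊕ Fin n) F).mulVec x)
        ((g : Matrix (Fin n ⊕ Fin n) (Fin n ⊕ Fin n) F).mulVec y) = f x y := fun g => Iff.rfl
  have hι : Fintype.card (Fin n ⊕ Fin n) = 2 * n := by
    rw [Fintype.card_sum, Fintype.card_fin]; omega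
  have hn3 : 3 ≤ Fintype.card (Fin n ⊕ Fin n) := by omega
  have hL : Cfsg.Agent.Lib.Subspaces.SympTA.Ctx f L := ⟨hf, h2, fun g hg => hLG hg⟩
  have hXc : Cfsg.Agent.Lib.Subspaces.SympTA.Ctx f X := ⟨hf, h2, fun g hg => hXG hg⟩
  -- `X` lies in the unipotent radical
  have hu := fun (g : GL (Fin n ⊕ Fin n) F) (hg : g ∈ X) =>
    core_unipotent hXc G hG hn3 ha (hXO (fixer f a G) (fun _ => Iff.rfl) hg)
  have hXgood : Good f X a := good_of_card hXc hn3 ha hu
    (by rw [hcard, Nat.card_eq_fintype_card, hι]) hntv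
  -- `a` moves off its perpendicular
  have hmove : ∃ g ∈ L, f a ((g : Matrix (Fin n ⊕ Fin n) (Fin n ⊕ Fin n) F).mulVec a) ≠ 0 := by
    by_contra hne
    push Not at hne
    obtain ⟨b, hab⟩ := exists_pair_one hL ha
    let S := Submodule.span F
      {x : Fin n ⊕ Fin n → F | ∃ g ∈ L, (g : Matrix (Fin n ⊕ Fin n) (Fin n ⊕ Fin n) F).mulVec a = x}
    rcases hirr S (fun g hg w hw => by
      induction hw using Submodule.span_induction with
      | mem y hy =>
        obtain ⟨k, hk, rfl⟩ := hy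
        exact Submodule.subset_span ⟨g * k, L.mul_mem hg hk, gl_mul_mulVec _ _ _⟩
      | zero => rw [Matrix.mulVec_zero]; exact Submodule.zero_mem _
      | add y z _ _ e e' => rw [Matrix.mulVec_add]; exact Submodule.add_mem _ e e'
      | smul t y _ e => rw [Matrix.mulVec_smul]; exact Submodule.smul_mem _ t e) with hS | hS
    · have : a ∈ S := Submodule.subset_span ⟨1, L.one_mem, Matrix.one_mulVec a⟩
      rw [hS, Submodule.mem_bot] at this
      exact ha this
    · have hb : b ∈ S := by rw [hS]; trivial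
      have : f a b = 0 := by
        clear hab
        induction hb using Submodule.span_induction with
        | mem y hy => obtain ⟨k, hk, rfl⟩ := hy; exact hne k hk
        | zero => exact hL.zero_r a
        | add y z _ _ e e' => rw [hf.bilinear.add_right, e, e', add_zero]
        | smul t y _ e => rw [hf.bilinear.smul_right, e, mul_zero]
      exact one_ne_zero (hab.symm.trans this)
  by_cases hK : ∃ κ : F, κ ≠ 0 ∧ tA f a 0 κ ∈ L
  · -- a transvection: the whole group
    left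
    obtain ⟨κ, hκ, hκL⟩ := hK
    refine le_antisymm hLG fun g hg => ?_
    exact Cfsg.Agent.Lib.Subspaces.SympGen.mem_of_isometry hf
      (fun v c => Cfsg.Agent.Lib.Subspaces.SympTAFull.center_all hL ha hn3
        (φ := phi f X a) (fun w w' hw hw' => phi_add hXc hXgood hw hw')
        (fun w hw => hXL (phi_spec hXc hXgood hw)) hκ hκL hmove v c) ((hG g).mp hg)
  push Not at hK
  right
  have haL : Good f L a := ⟨ha,
    fun w hw => ⟨_, hXL (phi_spec hXc hXgood hw)⟩,
    fun l hl => by_contra fun hl0 => hK l hl0 hl⟩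
  have hspan : Submodule.span F {x | Good f L x} = ⊤ := by
    refine (hirr _ fun g hg w hw => ?_).resolve_left fun e => ha ?_
    · induction hw using Submodule.span_induction with
      | mem y hy => exact Submodule.subset_span (good_map hL hy hg)
      | zero => rw [Matrix.mulVec_zero]; exact Submodule.zero_mem _
      | add y z _ _ e e' => rw [Matrix.mulVec_add]; exact Submodule.add_mem _ e e'
      | smul t y _ e => rw [Matrix.mulVec_smul]; exact Submodule.smul_mem _ t e
    · have : a ∈ (⊥ : Submodule F (Fin n ⊕ Fin n → F)) := e ▸ Submodule.subset_span haL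
      simpa using this
  by_cases hexc : (Fintype.card F = 2 ∧ n = 2) ∧ ∃ a' b', Good f L a' ∧ Good f L b' ∧
      f a' b' = 1 ∧ Good f L (b' + a')
  · -- the exceptional configuration
    right
    obtain ⟨⟨hF, hn2⟩, a', b', ha', hb', hab', hb''⟩ := hexc
    refine ⟨hF, hn2, ?_⟩
    have hι4 : Fintype.card (Fin n ⊕ Fin n) = 4 := by omega
    have hall : ∀ x, x ≠ 0 → Good f L x := fun x hx =>
      Cfsg.Agent.Lib.Subspaces.SympTASmall.all_good hL hF ha' hb' hab' hb'' hx
    have hL' := Cfsg.Agent.Lib.Subspaces.SympTASmall.card_group hL hF hι4 hall hirr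
    subst hn2
    obtain ⟨e0⟩ := Cfsg.Agent.S0247.result hF
    obtain ⟨e1⟩ := Cfsg.Agent.Lib.Symplectic.nonempty_isom_mulEquiv_sp (m := 2)
      (toBilin_isSymp hf) (by rw [Module.finrank_fintype_fun_eq_card, hι4])
    let ψ : ↥G ≃* ↥(Cfsg.Agent.Lib.Symplectic.Isom (toBilin hf)) :=
      { toFun := fun g => ⟨Cfsg.Agent.Lib.Forms.glEquiv g.1, fun x y => g.2 x y⟩
        invFun := fun k => ⟨Cfsg.Agent.Lib.Forms.glEquiv.symm k.1, fun x y => by
          have e := k.2 x y
          rw [← Cfsg.Agent.Lib.Forms.glEquiv.apply_symm_apply k.1,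
            Cfsg.Agent.Lib.Forms.glEquiv_apply, Cfsg.Agent.Lib.Forms.glEquiv_apply] at e
          exact e⟩
        left_inv := fun g => Subtype.ext (Cfsg.Agent.Lib.Forms.glEquiv.symm_apply_apply g.1)
        right_inv := fun k => Subtype.ext (Cfsg.Agent.Lib.Forms.glEquiv.apply_symm_apply k.1)
        map_mul' := fun g k => Subtype.ext (map_mul _ g.1 k.1) }
    let e : ↥G ≃* Equiv.Perm (Fin 6) := (ψ.trans e1).trans e0
    let L' : Subgroup (Equiv.Perm (Fin 6)) := (L.subgroupOf G).map e.toMonoidHom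
    have hiso : ↥L ≃* ↥L' := (Subgroup.subgroupOfEquivOfLe hLG).symm.trans
      (e.subgroupMap (L.subgroupOf G))
    have hcardL : Nat.card L' = Nat.card L := (Nat.card_congr hiso.toEquiv).symm
    have hidx := Subgroup.index_mul_card L'
    rw [hcardL, Nat.card_perm, Nat.card_fin, show Nat.factorial 6 = 720 from rfl] at hidx
    rcases hL' with h120 | h360
    · obtain ⟨e5⟩ := Cfsg.Agent.Lib.SymSix.nonempty_mulEquiv_S5 (H := L')
        (by rw [h120] at hidx; omega)
      exact Or.inr ⟨hiso.trans e5⟩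
    · have h' : L' = alternatingGroup (Fin 6) :=
        Equiv.Perm.eq_alternatingGroup_of_index_eq_two (by rw [h360] at hidx; omega)
      exact Or.inl ⟨hiso.trans (MulEquiv.subgroupCongr h')⟩
  left
  have h01 : Fintype.card F = 2 → ∀ x : F, x = 0 ∨ x = 1 :=
    fun hF x => Cfsg.Agent.Lib.Subspaces.SympTASmall.zero_or_one hF x
  have hν : Fintype.card F ≠ 2 → ∃ ν : F, ν ≠ 0 ∧ ν ≠ 1 := by
    intro hF
    by_contra hne
    push Not at hne
    apply hF
    have : (Finset.univ : Finset F) = {0, 1} := by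
      ext x
      by_cases hx : x = 0
      · simp [hx]
      · simp [hne x hx]
    rw [Fintype.card, this]
    simp
  obtain ⟨hSingle, hQuad⟩ : Single f L ∧ Quad f L := by
    by_cases h22 : Fintype.card F = 2 ∧ n = 2
    · refine ⟨fun a' b' ha' hb' hab' μ hμ hb'' => hexc ⟨h22, a', b', ha', hb', hab', ?_⟩,
        fun a' ha' w hw r => ?_⟩
      · rwa [(h01 h22.1 μ).resolve_left hμ, one_smul] at hb''
      · rcases h01 h22.1 r with rfl | rfl
        · rw [zero_smul, phi_zero hL ha', zero_mul, zero_mul]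
        · rw [one_smul, one_mul, one_mul]
    · have hP : Perp f L := by
        rcases not_and_or.mp h22 with hF | hn2
        · exact perp_of_four_le hL (hν hF)
        · exact perp_of_six_le hL (by omega)
      exact ⟨single_of_perp hL hn3 hP, quad_of_perp hL hn3 hP hspan⟩
  obtain ⟨Q, hpol, hinv, hsing, hphi⟩ := exists_form hL hSingle hQuad hspan haL
  refine ⟨Q, hpol, ?_⟩
  obtain ⟨b, hbL, hab⟩ := partner hL hspan haL
  obtain ⟨v₀, -, -, hv₀⟩ := exists_Q_level hL hpol hab hn3 1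
  have hv₀' : Q v₀ ≠ 0 := by rw [hv₀]; exact one_ne_zero
  have hN : Cfsg.Agent.Lib.Forms.Nondeg Q := fun x hx => by
    by_contra hx0
    obtain ⟨y, hy⟩ := exists_pair_one hL hx0
    exact one_ne_zero (hy.symm.trans ((hpol x y).symm.trans (hx y)))
  have hsplit : Split f Q v₀ := by
    by_cases h22 : Fintype.card F = 2 ∧ n = 2
    · exact split_of_two hL hpol (hsing a haL) (hsing b hbL) hab hn3 (h01 h22.1) (by omega) hv₀'
    · refine split_of_reflections hL hpol (hsing a haL) (hsing b hbL) hab hn3 hN ?_ hv₀'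
      rcases not_and_or.mp h22 with hF | hn2
      · exact Or.inl (hν hF)
      · exact Or.inr (by rw [Module.finrank_fintype_fun_eq_card, hι]; omega)
  have hE : E0 f Q ≤ L := by
    rw [E0, Subgroup.closure_le]
    rintro _ ⟨c, w, hc, hw, rfl⟩
    by_cases hc0 : c = 0
    · rw [hc0, tA_zero_left hL]; exact L.one_mem
    · have hgood := good_of_singular hL hpol hphi haL hbL hab hsing hc0 hc
      rw [← hphi c hgood w hw]
      exact phi_spec hL hgood hw
  rcases dichotomy hL hpol (hsing a haL) (hsing b hbL) hab hn3 hN hv₀' hsplit hE hinv with hd | hd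
  · left
    ext g
    exact (hd g).trans ⟨fun hg u _ => hg u, fun hg u => hg u u⟩
  · right
    intro g
    exact (hd g).trans (and_congr ⟨fun hg u _ => hg u, fun hg u => hg u u⟩ Iff.rfl)

end Cfsg.Agent.S5712
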