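import Cfsg.Statements.S5713


set_option autoImplicit false
open Cfsg

namespace Cfsg.Agent.S5713

open Finset

section Close

variable {G Ω : Type*} [Group G] [MulAction G Ω] [Fintype Ω] [DecidableEq Ω]

/-- A relation preserved by the group. -/
def Invariant (G : Type*) {Ω : Type*} [Group G] [MulAction G Ω] (R : Ω → Ω → Prop) : Prop :=
  ∀ (h : G) x y, R x y → R (h • x) (h • y)

theorem invariant_iff {R : Ω → Ω → Prop} (hR : Invariant G R) (h : G) (x y : Ω) :
    R (h • x) (h • y) ↔ R x y :=
  ⟨fun e => by simpa using hR h⁻¹ _ _ e, hR h x y⟩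

/-- The invariant relations tell `x` from `y` only at `k` points. -/
def Close (G : Type*) {Ω : Type*} [Group G] [MulAction G Ω] (k : ℕ) (x y : Ω) : Prop :=
  ∃ K : Finset Ω, K.card ≤ k ∧ ∀ R : Ω → Ω → Prop, Invariant G R →
    ∀ z, ¬ (R x z ↔ R y z) → z ∈ K

theorem close_trans {j k : ℕ} {x y z : Ω} (h : Close G j x y) (h' : Close G k y z) :
    Close G (j + k) x z := by
  obtain ⟨K, hK, hK'⟩ := h
  obtain ⟨L, hL, hL'⟩ := h'
  refine ⟨K ∪ L, (card_union_le K L).trans (by omega), fun R hR w hw => ?_⟩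
  by_contra hm
  rw [Finset.mem_union, not_or] at hm
  exact hw ((not_not.mp fun h => hm.1 (hK' R hR w h)).trans
    (not_not.mp fun h => hm.2 (hL' R hR w h)))

theorem close_mono {j k : ℕ} {x y : Ω} (h : Close G j x y) (hjk : j ≤ k) : Close G k x y := by
  obtain ⟨K, hK, hK'⟩ := h
  exact ⟨K, hK.trans hjk, hK'⟩

theorem close_symm {k : ℕ} {x y : Ω} (h : Close G k x y) : Close G k y x := by
  obtain ⟨K, hK, hK'⟩ := h
  exact ⟨K, hK, fun R hR z hz => hK' R hR z fun h => hz h.symm⟩

theorem close_refl (k : ℕ) (x : Ω) : Close G k x x :=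
  ⟨∅, by simp, fun _ _ _ h => absurd Iff.rfl h⟩

/-- A conjugate of `g` moves `h • p` to `h • (g • p)` and fixes all but `m` points. -/
theorem close_base (g : G) (p : Ω) (h : G) :
    Close G (univ.filter fun z : Ω => g • z ≠ z).card (h • p) (h • (g • p)) := by
  refine ⟨(univ.filter fun z : Ω => g • z ≠ z).image (h • ·), card_image_le, fun R hR z hz => ?_⟩
  rw [mem_image]
  refine ⟨h⁻¹ • z, mem_filter.mpr ⟨mem_univ _, fun hfix => hz ?_⟩, smul_inv_smul h z⟩
  conv_lhs => rw [← smul_inv_smul h z, invariant_iff hR, ← invariant_iff hR g, hfix,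
    ← invariant_iff hR h, smul_inv_smul]

/-- Reachable in at most `k` steps. -/
def Reach (T : Ω → Ω → Prop) : ℕ → Ω → Ω → Prop
  | 0 => fun x z => x = z
  | k + 1 => fun x z => x = z ∨ ∃ y, T x y ∧ Reach T k y z

theorem reach_invariant {T : Ω → Ω → Prop} (hT : Invariant G T) :
    ∀ k, Invariant G (Reach T k) := by
  intro k
  induction k with
  | zero => intro h x y e; exact congrArg (h • ·) e
  | succ k ih =>
    intro h x z e
    rcases e with rfl | ⟨y, hy, hyz⟩
    · exact Or.inl rfl
    · exact Or.inr ⟨h • y, hT h x y hy, ih h y z hyz⟩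

variable [MulAction.IsPreprimitive G Ω]

theorem exists_reach {T : Ω → Ω → Prop} (hT : Invariant G T) (hsymm : ∀ x y, T x y → T y x)
    {p q : Ω} (hpq : p ≠ q) (hTpq : T p q) (x z : Ω) : ∃ k, Reach T k x z := by
  let C : Ω → Set Ω := fun x => {z | Relation.ReflTransGen T x z}
  have hinv : ∀ (h : G) {a b : Ω}, Relation.ReflTransGen T a b →
      Relation.ReflTransGen T (h • a) (h • b) :=
    fun h a b e => e.lift (h • ·) fun a b => hT h a b
  have hsym : ∀ {a b : Ω}, Relation.ReflTransGen T a b → Relation.ReflTransGen T b a := by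
    intro a b e
    induction e with
    | refl => exact .refl
    | tail _ h ih => exact .head (hsymm _ _ h) ih
  have hblock : MulAction.IsBlock G (C p) := by
    rw [MulAction.isBlock_iff_smul_eq_or_disjoint]
    intro h
    by_cases e : Relation.ReflTransGen T p (h • p)
    · left
      ext w
      rw [Set.mem_smul_set_iff_inv_smul_mem]
      exact ⟨fun hw => e.trans (by simpa using hinv h hw),
        fun hw => by
          have h1 := hinv h⁻¹ ((hsym e).trans hw)
          rw [inv_smul_smul] at h1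
          exact h1⟩
    · right
      rw [Set.disjoint_left]
      intro w hw hw'
      rw [Set.mem_smul_set_iff_inv_smul_mem] at hw
      have h1 : Relation.ReflTransGen T (h • p) w := by simpa using hinv h hw
      exact e ((hw' : Relation.ReflTransGen T p w).trans (hsym h1))
  rcases MulAction.IsPreprimitive.isTrivialBlock_of_isBlock (G := G) hblock with hs | hu
  · exact absurd (hs (show p ∈ C p from Relation.ReflTransGen.refl)
      (show q ∈ C p from Relation.ReflTransGen.single hTpq)) hpq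
  · have hall : ∀ w, Relation.ReflTransGen T p w := fun w => hu.ge (Set.mem_univ w)
    have hxz : Relation.ReflTransGen T x z := (hsym (hall x)).trans (hall z)
    clear hall hu
    induction hxz using Relation.ReflTransGen.head_induction_on with
    | refl => exact ⟨0, rfl⟩
    | head h _ ih =>
      obtain ⟨k, hk⟩ := ih
      exact ⟨k + 1, Or.inr ⟨_, h, hk⟩⟩

open Classical in
/-- The set of out-neighbours. -/
noncomputable def nbr (S : Ω → Ω → Prop) (x : Ω) : Finset Ω := univ.filter (S x)

omit [MulAction.IsPreprimitive G Ω] [DecidableEq Ω] in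
theorem mem_nbr {S : Ω → Ω → Prop} {x y : Ω} : y ∈ nbr S x ↔ S x y := by
  classical
  simp [nbr]

theorem card_nbr_eq {S : Ω → Ω → Prop} (hS : Invariant G S) (x y : Ω) :
    (nbr S x).card = (nbr S y).card := by
  obtain ⟨h, rfl⟩ := MulAction.exists_smul_eq G x y
  refine Finset.card_bij (fun a _ => h • a) (fun a ha => mem_nbr.mpr (hS h x a (mem_nbr.mp ha)))
    (fun a _ b _ e => smul_left_cancel h e) fun b hb => ⟨h⁻¹ • b, mem_nbr.mpr ?_, smul_inv_smul h b⟩
  rw [← invariant_iff hS h, smul_inv_smul]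
  exact mem_nbr.mp hb

theorem card_in_eq {S : Ω → Ω → Prop} (hS : Invariant G S) (x z : Ω) :
    (nbr (fun a b => S b a) z).card = (nbr S x).card := by
  classical
  have hS' : Invariant G (fun a b => S b a) := fun h a b e => hS h b a e
  have h1 : ∑ a : Ω, (nbr S a).card = ∑ b : Ω, (nbr (fun a b => S b a) b).card := by
    simp only [nbr, card_eq_sum_ones, sum_filter]
    exact sum_comm
  rw [sum_congr rfl fun a _ => card_nbr_eq hS a x,
    sum_congr rfl fun b _ => card_nbr_eq hS' b z, sum_const, sum_const, smul_eq_mul,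
    smul_eq_mul] at h1
  exact (Nat.eq_of_mul_eq_mul_left (card_pos.mpr ⟨x, mem_univ x⟩) h1).symm

/-- Averaging the differences of neighbourhoods. -/
theorem deg_mul_le {S : Ω → Ω → Prop} (hS : Invariant G S) {m : ℕ}
    (hclose : ∀ x y : Ω, Close G (2 * m) x y) (x₀ : Ω) :
    (nbr S x₀).card * (Fintype.card Ω - (nbr S x₀).card) ≤ Fintype.card Ω * m := by
  classical
  set s := (nbr S x₀).card with hs
  set N := Fintype.card Ω with hN
  have hle : ∀ x y : Ω, (nbr S x \ nbr S y).card ≤ m := by
    intro x y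
    obtain ⟨K, hK, hK'⟩ := hclose x y
    have hsub : (nbr S x \ nbr S y) ∪ (nbr S y \ nbr S x) ⊆ K := by
      intro z hz
      refine hK' S hS z fun e => ?_
      simp only [Finset.mem_union, Finset.mem_sdiff, mem_nbr, e] at hz
      tauto
    have h1 := (card_le_card hsub).trans hK
    rw [card_union_of_disjoint disjoint_sdiff_sdiff] at h1
    have h2 := card_sdiff_comm (card_nbr_eq hS x y)
    omega
  have h1 : ∑ x : Ω, ∑ y : Ω, (nbr S x \ nbr S y).card = N * (s * (N - s)) := by
    have e : ∀ x y : Ω, (nbr S x \ nbr S y).card =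
        ∑ z : Ω, (if S x z then 1 else 0) * (if ¬ S y z then 1 else 0) := by
      intro x y
      rw [show nbr S x \ nbr S y = univ.filter (fun z => S x z ∧ ¬ S y z) by
        ext z; simp [mem_nbr], card_filter]
      refine sum_congr rfl fun z _ => ?_
      by_cases h1 : S x z <;> by_cases h2 : S y z <;> simp [h1, h2]
    simp only [e]
    rw [sum_congr rfl fun x _ => sum_comm, sum_comm]
    simp only [← mul_sum, ← sum_mul]
    have e2 : ∀ z : Ω, (∑ x : Ω, if S x z then 1 else 0) = s ∧
        (∑ y : Ω, if ¬ S y z then 1 else 0) = N - s := by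
      intro z
      have hz : (univ.filter fun x => S x z).card = s := by
        rw [hs, ← card_in_eq hS x₀ z]
        rfl
      refine ⟨by rw [← sum_filter, ← card_eq_sum_ones, hz], ?_⟩
      rw [← sum_filter, ← card_eq_sum_ones, filter_not, card_sdiff_of_subset (filter_subset _ _),
        hz, card_univ]
    rw [sum_congr rfl (g := fun _ => s * (N - s)) (fun z _ => by rw [(e2 z).1, (e2 z).2])]
    simp [hN, card_univ]
  have h2 : ∑ x : Ω, ∑ y : Ω, (nbr S x \ nbr S y).card ≤ N * (N * m) := by
    refine le_trans (sum_le_sum fun x _ => sum_le_sum fun y _ => hle x y) ?_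
    simp [hN, card_univ]
  rw [h1] at h2
  exact le_of_mul_le_mul_left h2 (Fintype.card_pos_iff.mpr ⟨x₀⟩)

/-- Every point is separated from `x` at one of its neighbours. -/
theorem card_le_deg_mul {T : Ω → Ω → Prop} (hT : Invariant G T)
    (hsymm : ∀ x y, T x y → T y x) {p q : Ω} (hpq : p ≠ q) (hTpq : T p q) {k : ℕ}
    (hclose : ∀ x y, T x y → Close G k x y) :
    Fintype.card Ω ≤ (nbr T p).card * k + 1 := by
  classical
  choose! K hK hK' using hclose p
  have hsub : univ.erase p ⊆ (nbr T p).biUnion K := by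
    intro z hz
    have hzp : p ≠ z := fun e => (mem_erase.mp hz).1 e.symm
    have hex := exists_reach hT hsymm hpq hTpq p z
    rw [mem_biUnion]
    have hspec := Nat.find_spec hex
    rcases hd : Nat.find hex with _ | d
    · rw [hd] at hspec
      exact absurd hspec hzp
    · rw [hd] at hspec
      rcases hspec with h | ⟨y, hy, hyz⟩
      · exact absurd h hzp
      · refine ⟨y, mem_nbr.mpr hy, hK' y hy (Reach T d) (reach_invariant hT d) z fun e => ?_⟩
        exact Nat.find_min hex (hd ▸ Nat.lt_succ_self d) (e.mpr hyz)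
  have h1 := card_le_card hsub
  have h2 := card_biUnion_le_card_mul (nbr T p) K k fun y hy => hK y (mem_nbr.mp hy)
  rw [card_erase_of_mem (mem_univ p), card_univ] at h1
  omega

/-- A pair at distance three, or everything within two steps. -/
theorem dist_three_or {T : Ω → Ω → Prop} (hT : Invariant G T)
    (hsymm : ∀ x y, T x y → T y x) {p q : Ω} (hpq : p ≠ q) (hTpq : T p q) :
    (∀ x z, Reach T 2 x z) ∨ ∃ x y₁ y₂ w, T x y₁ ∧ T y₁ y₂ ∧ T y₂ w ∧
      Disjoint (nbr T x) (nbr T w) := by
  by_cases h : ∀ x w, Reach T 3 x w → Reach T 2 x w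
  · left
    intro x z
    obtain ⟨k, hk⟩ := exists_reach hT hsymm hpq hTpq x z
    induction k generalizing x with
    | zero => exact Or.inl hk
    | succ k ih =>
      rcases hk with rfl | ⟨y, hy, hyz⟩
      · exact Or.inl rfl
      · exact h x z (Or.inr ⟨y, hy, ih y hyz⟩)
  · right
    push Not at h
    obtain ⟨x, w, h3, h2⟩ := h
    rcases h3 with rfl | ⟨y₁, hy₁, h3⟩
    · exact absurd (Or.inl rfl) h2
    rcases h3 with rfl | ⟨y₂, hy₂, h3⟩
    · exact absurd (Or.inr ⟨_, hy₁, Or.inl rfl⟩) h2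
    rcases h3 with rfl | ⟨y₃, hy₃, rfl⟩
    · exact absurd (Or.inr ⟨_, hy₁, Or.inr ⟨_, hy₂, rfl⟩⟩) h2
    refine ⟨x, y₁, y₂, y₃, hy₁, hy₂, hy₃, Finset.disjoint_left.mpr fun v hv hv' => h2 ?_⟩
    exact Or.inr ⟨v, mem_nbr.mp hv,
      Or.inr ⟨_, hsymm _ _ (mem_nbr.mp hv'), rfl⟩⟩

theorem card_le_of_reach_two {T : Ω → Ω → Prop} (hT : Invariant G T) (p : Ω)
    (h : ∀ x z, Reach T 2 x z) :
    Fintype.card Ω ≤ 1 + (nbr T p).card + (nbr T p).card * (nbr T p).card := by
  classical
  have hsub : (univ : Finset Ω) ⊆ insert p (nbr T p ∪ (nbr T p).biUnion (nbr T)) := by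
    intro z _
    rw [Finset.mem_insert, Finset.mem_union, mem_biUnion]
    rcases h p z with rfl | ⟨y, hy, rfl | ⟨y', hy', rfl⟩⟩
    · exact Or.inl rfl
    · exact Or.inr (Or.inl (mem_nbr.mpr hy))
    · exact Or.inr (Or.inr ⟨y, mem_nbr.mpr hy, mem_nbr.mpr hy'⟩)
  have h1 := (card_le_card hsub).trans (card_insert_le _ _)
  have h2 := card_union_le (nbr T p) ((nbr T p).biUnion (nbr T))
  have h3 := card_biUnion_le_card_mul (nbr T p) (nbr T) (nbr T p).card
    fun y _ => le_of_eq (card_nbr_eq hT y p)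
  rw [card_univ] at h1
  omega

theorem two_deg_le {T : Ω → Ω → Prop} (hT : Invariant G T) (hsymm : ∀ x y, T x y → T y x)
    (p : Ω) {x w : Ω} (hd : Disjoint (nbr T x) (nbr T w)) {k : ℕ} (h : Close G k x w) :
    2 * (nbr T p).card ≤ k := by
  classical
  obtain ⟨K, hK, hK'⟩ := h
  have hsub : nbr T x ∪ nbr T w ⊆ K := by
    intro z hz
    refine hK' T hT z fun e => ?_
    rcases Finset.mem_union.mp hz with h | h
    · exact Finset.disjoint_left.mp hd h (mem_nbr.mpr (e.mp (mem_nbr.mp h)))
    · exact Finset.disjoint_left.mp hd (mem_nbr.mpr (e.mpr (mem_nbr.mp h))) h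
  have h1 := (card_le_card hsub).trans hK
  rw [card_union_of_disjoint hd, card_nbr_eq hT x p, card_nbr_eq hT w p] at h1
  omega

end Close

theorem half_bound {a n m : ℕ} (hn : 0 < n) (ha : 2 * a ≤ n) (h : a * (n - a) ≤ n * m) :
    a ≤ 2 * m := by
  obtain ⟨j, rfl⟩ : ∃ j, n = a + a + j := ⟨n - 2 * a, by omega⟩
  rw [show a + a + j - a = a + j by omega] at h
  nlinarith

theorem three_cycle {Ω : Type*} [Fintype Ω] [DecidableEq Ω] {f k : Equiv.Perm Ω} {a : Ω}
    (hfa : f a ≠ a) (hka : k a ≠ a) (h : ∀ x, f x ≠ x → k x ≠ x → x = a) :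
    (f * k * f⁻¹ * k⁻¹).IsThreeCycle := by
  have hf : ∀ x, f x ≠ x → x ≠ a → k x = x := fun x hx hxa => not_not.mp fun e => hxa (h x hx e)
  have hk : ∀ x, k x ≠ x → x ≠ a → f x = x := fun x hx hxa => not_not.mp fun e => hxa (h x e hx)
  have hfb : f (f a) ≠ f a := fun e => hfa (f.injective e)
  have hkc : k (k a) ≠ k a := fun e => hka (k.injective e)
  have hkb := hf _ hfb hfa
  have hfc := hk _ hkc hka
  have hbc : f a ≠ k a := fun e => hfb (by rw [e]; exact hfc)
  have heq : f * k * f⁻¹ * k⁻¹ = Equiv.swap a (k a) * Equiv.swap a (f a) := by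
    ext x
    simp only [Equiv.Perm.mul_apply]
    rcases eq_or_ne x a with rfl | hxa
    · rw [Equiv.swap_apply_left, Equiv.swap_apply_of_ne_of_ne hfa hbc]
      have hy : k⁻¹ x ≠ x := fun e => hka (by
        conv_lhs => rw [← e]
        simp)
      have hy' : f (k⁻¹ x) = k⁻¹ x :=
        hk _ (by simpa using hy.symm) hy
      rw [show f⁻¹ (k⁻¹ x) = k⁻¹ x from Equiv.Perm.inv_eq_iff_eq.mpr hy'.symm]
      simp
    rcases eq_or_ne x (f a) with rfl | hxb
    · rw [Equiv.swap_apply_right, Equiv.swap_apply_left,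
        show k⁻¹ (f a) = f a from Equiv.Perm.inv_eq_iff_eq.mpr hkb.symm]
      simp [hfc]
    rcases eq_or_ne x (k a) with rfl | hxc
    · rw [Equiv.swap_apply_of_ne_of_ne hxa hxb, Equiv.swap_apply_right]
      have hy : f⁻¹ a ≠ a := fun e => hfa (by
        conv_lhs => rw [← e]
        simp)
      have hky : k (f⁻¹ a) = f⁻¹ a := hf _ (by simpa using hy.symm) hy
      rw [show k⁻¹ (k a) = a from Equiv.Perm.inv_eq_iff_eq.mpr rfl, hky]
      simp
    rw [Equiv.swap_apply_of_ne_of_ne hxa hxb, Equiv.swap_apply_of_ne_of_ne hxa hxc]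
    by_cases hfx : f x = x
    · by_cases hkx : k x = x
      · rw [show k⁻¹ x = x from Equiv.Perm.inv_eq_iff_eq.mpr hkx.symm,
          show f⁻¹ x = x from Equiv.Perm.inv_eq_iff_eq.mpr hfx.symm, hkx, hfx]
      · have hy : k⁻¹ x ≠ a := fun e => hxc (Equiv.Perm.inv_eq_iff_eq.mp e)
        have hy' : f (k⁻¹ x) = k⁻¹ x := hk _ (fun e => hkx (by
          have h' : x = k⁻¹ x := by simpa using e
          exact (Equiv.Perm.inv_eq_iff_eq.mp h'.symm).symm)) hy
        rw [show f⁻¹ (k⁻¹ x) = k⁻¹ x from Equiv.Perm.inv_eq_iff_eq.mpr hy'.symm]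
        simp [hfx]
    · have hkx : k x = x := hf x hfx hxa
      have hy : f⁻¹ x ≠ a := fun e => hxb (Equiv.Perm.inv_eq_iff_eq.mp e)
      have hy' : k (f⁻¹ x) = f⁻¹ x := hf _ (fun e => hfx (by
          have h' : x = f⁻¹ x := by simpa using e
          exact (Equiv.Perm.inv_eq_iff_eq.mp h'.symm).symm)) hy
      rw [show k⁻¹ x = x from Equiv.Perm.inv_eq_iff_eq.mpr hkx.symm, hy']
      simp
  rw [heq]
  exact Equiv.Perm.isThreeCycle_swap_mul_swap_same (Ne.symm hka) (Ne.symm hfa) (Ne.symm hbc)

theorem trans_count {G α : Type*} [Group G] [Fintype G] [MulAction G α] [DecidableEq α]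
    (S T : Finset α) (hTS : T ⊆ S) (hcl : ∀ (h : G), ∀ a ∈ S, h • a ∈ S)
    (htr : ∀ a ∈ S, ∀ b ∈ S, ∃ h : G, h • a = b) :
    S.card * ∑ h : G, (T.filter fun a => h • a ∈ T).card = Fintype.card G * (T.card * T.card) := by
  classical
  have hcount : ∀ a ∈ T, S.card * (univ.filter fun h : G => h • a ∈ T).card =
      Fintype.card G * T.card := by
    intro a ha
    have hfib : ∀ b ∈ S, (univ.filter fun h : G => h • a = b).card =
        (univ.filter fun h : G => h • a = a).card := by
      intro b hb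
      obtain ⟨h0, h0a⟩ := htr a (hTS ha) b hb
      refine Finset.card_bij (fun h _ => h0⁻¹ * h) (fun h hh => ?_)
        (fun h _ h' _ e => mul_left_cancel e) fun h hh => ⟨h0 * h, ?_, inv_mul_cancel_left h0 h⟩
      · rw [mem_filter] at hh ⊢
        exact ⟨mem_univ _, by rw [mul_smul, hh.2, ← h0a, inv_smul_smul]⟩
      · rw [mem_filter] at hh ⊢
        exact ⟨mem_univ _, by rw [mul_smul, hh.2, h0a]⟩
    set c := (univ.filter fun h : G => h • a = a).card
    have h1 : Fintype.card G = S.card * c := by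
      rw [← card_univ, card_eq_sum_card_fiberwise (f := fun h : G => h • a) (t := S)
        (fun h _ => hcl h a (hTS ha)), sum_congr rfl hfib, sum_const, smul_eq_mul]
    have h2 : (univ.filter fun h : G => h • a ∈ T).card = T.card * c := by
      rw [card_eq_sum_card_fiberwise (s := univ.filter fun h : G => h • a ∈ T)
        (f := fun h : G => h • a) (t := T) (fun h hh => (mem_filter.mp hh).2), sum_congr rfl (g := fun _ => c) (fun b hb => ?_),
        sum_const, smul_eq_mul]
      rw [← hfib b (hTS hb), filter_filter]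
      congr 1
      exact filter_congr fun h _ => ⟨fun e => e.2, fun e => ⟨e ▸ hb, e⟩⟩
    rw [h2, h1]
    ring
  have e : ∑ h : G, (T.filter fun a => h • a ∈ T).card =
      ∑ a ∈ T, (univ.filter fun h : G => h • a ∈ T).card := by
    simp only [card_eq_sum_ones, sum_filter]
    exact sum_comm
  rw [e, mul_sum, sum_congr rfl hcount, sum_const, smul_eq_mul]
  ring

theorem bound_two_transitive {G Ω : Type*} [Group G] [Finite G] [MulAction G Ω] [FaithfulSMul G Ω]
    [Fintype Ω] [DecidableEq Ω] (hprim : MulAction.IsPreprimitive G Ω)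
    (hA : ¬ alternatingGroup Ω ≤ (MulAction.toPermHom G Ω).range)
    (g : G) {p q : Ω} (hpq : p ≠ q) (hgp : g • p ≠ p)
    (h2 : ∀ x y : Ω, x ≠ y → ∀ x' y' : Ω, x' ≠ y' → ∃ h : G, h • x = x' ∧ h • y = y') :
    Fintype.card Ω ≤ (2 * (univ.filter fun z : Ω => g • z ≠ z).card + 1) ^ 2 := by
  classical
  have : Fintype G := Fintype.ofFinite G
  set M := univ.filter fun z : Ω => g • z ≠ z with hM
  have hX : ∀ h : G, (M.filter fun a => h • a ∈ M).card ≠ 1 := by
    intro h h1
    obtain ⟨a, ha⟩ := card_eq_one.mp h1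
    have ha' : a ∈ M.filter fun a => h • a ∈ M := ha ▸ mem_singleton_self a
    simp only [hM, mem_filter, mem_univ, true_and] at ha'
    refine hA (Equiv.Perm.alternatingGroup_le_of_isPreprimitive_of_isThreeCycle_mem
      (G := (MulAction.toPermHom G Ω).range) ?_
      (three_cycle (f := MulAction.toPermHom G Ω g) (k := MulAction.toPermHom G Ω (h * g * h⁻¹))
        (a := h • a) ?_ ?_ ?_) ?_)
    · exact MulAction.IsPreprimitive.of_surjective
        (f := (⟨id, fun _ _ => rfl⟩ : Ω →ₑ[(MulAction.toPermHom G Ω).rangeRestrict] Ω))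
        Function.surjective_id
    · simpa using ha'.2
    · simp [mul_smul, ha'.1]
    · intro x hx hx'
      simp only [MulAction.toPermHom_apply, MulAction.toPerm_apply, mul_smul] at hx hx'
      have : h⁻¹ • x ∈ M.filter fun a => h • a ∈ M := by
        simp only [hM, mem_filter, mem_univ, true_and]
        refine ⟨fun e => hx' ?_, by rwa [smul_inv_smul]⟩
        rw [e, smul_inv_smul]
      rw [ha, mem_singleton] at this
      rw [← this, smul_inv_smul]
    · exact ⟨g * (h * g * h⁻¹) * g⁻¹ * (h * g * h⁻¹)⁻¹, by simp only [map_mul, map_inv]⟩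
  have hA1 := trans_count (G := G) (univ : Finset Ω) M (subset_univ _) (fun h a _ => mem_univ _)
    (fun a _ b _ => MulAction.exists_smul_eq G a b)
  have hA2 := trans_count (G := G) ((univ : Finset Ω).offDiag) M.offDiag
    (fun z hz => mem_offDiag.mpr ⟨mem_univ _, mem_univ _, (mem_offDiag.mp hz).2.2⟩)
    (fun h z hz => mem_offDiag.mpr ⟨mem_univ _, mem_univ _,
      fun e => (mem_offDiag.mp hz).2.2 (smul_left_cancel h e)⟩)
    (fun z hz w hw => by
      obtain ⟨h, h1, h2⟩ := h2 _ _ (mem_offDiag.mp hz).2.2 _ _ (mem_offDiag.mp hw).2.2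
      exact ⟨h, Prod.ext h1 h2⟩)
  have hle : ∑ h : G, (M.filter fun a => h • a ∈ M).card ≤
      ∑ h : G, (M.offDiag.filter fun z => h • z ∈ M.offDiag).card := by
    refine sum_le_sum fun h _ => ?_
    have e : (M.offDiag.filter fun z => h • z ∈ M.offDiag) =
        (M.filter fun a => h • a ∈ M).offDiag := by
      ext ⟨a, b⟩
      simp only [mem_filter, mem_offDiag, Prod.smul_mk]
      constructor
      · rintro ⟨⟨h1, h2, h3⟩, h4, h5, -⟩
        exact ⟨⟨h1, h4⟩, ⟨h2, h5⟩, h3⟩
      · rintro ⟨⟨h1, h4⟩, ⟨h2, h5⟩, h3⟩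
        exact ⟨⟨h1, h2, h3⟩, h4, h5, fun e => h3 (smul_left_cancel h e)⟩
    rw [e, offDiag_card]
    have := hX h
    generalize (M.filter fun a => h • a ∈ M).card = X at *
    rcases X with _ | _ | X
    · simp
    · exact absurd rfl this
    · exact Nat.le_sub_of_add_le (by nlinarith)
  have hm : 0 < M.card := card_pos.mpr ⟨p, by simp [hM, hgp]⟩
  have hn : 2 ≤ Fintype.card Ω := Fintype.one_lt_card_iff.mpr ⟨p, q, hpq⟩
  have hG : 0 < Fintype.card G := Fintype.card_pos
  rw [card_univ] at hA1
  rw [offDiag_card, offDiag_card, card_univ] at hA2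
  obtain ⟨m', hm'⟩ : ∃ m', M.card = m' + 1 := ⟨M.card - 1, by omega⟩
  obtain ⟨n', hn'⟩ : ∃ n', Fintype.card Ω = n' + 1 := ⟨Fintype.card Ω - 1, by omega⟩
  rw [hm', hn', show (n' + 1) * (n' + 1) - (n' + 1) = (n' + 1) * n' from by
      rw [Nat.mul_succ]; omega,
    show (m' + 1) * (m' + 1) - (m' + 1) = (m' + 1) * m' from by rw [Nat.mul_succ]; omega] at hA2
  rw [hm', hn'] at hA1
  have key : Fintype.card G * ((m' + 1) * (m' + 1)) * n' ≤
      Fintype.card G * ((m' + 1) * (m' + 1)) * (m' * m') := by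
    calc _ = (n' + 1) * (∑ h : G, (M.filter fun a => h • a ∈ M).card) * n' := by rw [hA1]
      _ = (n' + 1) * n' * (∑ h : G, (M.filter fun a => h • a ∈ M).card) := by ring
      _ ≤ (n' + 1) * n' *
          (∑ h : G, (M.offDiag.filter fun z => h • z ∈ M.offDiag).card) :=
        Nat.mul_le_mul_left _ hle
      _ = _ := by rw [hA2]; ring
  have := Nat.le_of_mul_le_mul_left key (by positivity)
  rw [hm', hn']
  nlinarith

theorem bound {G Ω : Type*} [Group G] [Finite G] [MulAction G Ω] [FaithfulSMul G Ω] [Fintype Ω]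
    [DecidableEq Ω] (hprim : MulAction.IsPreprimitive G Ω)
    (hA : ¬ alternatingGroup Ω ≤ (MulAction.toPermHom G Ω).range) (g : G) (hg : g ≠ 1) :
    Fintype.card Ω ≤ (2 * (univ.filter fun z : Ω => g • z ≠ z).card + 1) ^ 2 := by
  classical
  obtain ⟨p, hp⟩ : ∃ p : Ω, g • p ≠ p := by
    by_contra h
    push Not at h
    exact hg (FaithfulSMul.eq_of_smul_eq_smul fun z => by rw [h z, one_smul])
  set m := (univ.filter fun z : Ω => g • z ≠ z).card with hm
  set n := Fintype.card Ω with hn
  set q := g • p with hq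
  have hpq : p ≠ q := fun e => hp e.symm
  let D : Ω → Ω → Prop := fun x y => ∃ h : G, h • p = x ∧ h • q = y
  have hD : Invariant G D := by
    rintro h x y ⟨k, rfl, rfl⟩
    exact ⟨h * k, mul_smul .., mul_smul ..⟩
  let T : Ω → Ω → Prop := fun x y => D x y ∨ D y x
  have hT : Invariant G T := fun h x y e => e.imp (hD h x y) (hD h y x)
  have hTs : ∀ x y, T x y → T y x := fun x y e => e.symm
  have hTpq : T p q := Or.inl ⟨1, one_smul _ _, one_smul _ _⟩
  have hDne : ∀ x y, D x y → x ≠ y := by
    rintro x y ⟨h, rfl, rfl⟩ e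
    exact hpq (smul_left_cancel h e)
  have hclose : ∀ x y, T x y → Close G m x y := by
    rintro x y (⟨h, rfl, rfl⟩ | ⟨h, rfl, rfl⟩)
    · exact close_base g p h
    · exact close_symm (close_base g p h)
  rcases dist_three_or hT hTs hpq hTpq with hall | ⟨x, y₁, y₂, w, h1, h2, h3, hd⟩
  swap
  · have ha := two_deg_le hT hTs p hd
      (close_trans (close_trans (hclose _ _ h1) (hclose _ _ h2)) (hclose _ _ h3))
    have hb := card_le_deg_mul hT hTs hpq hTpq hclose
    nlinarith
  have hc2 : ∀ x y : Ω, Close G (2 * m) x y := by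
    intro x z
    rcases hall x z with rfl | ⟨y, hy, rfl | ⟨y', hy', rfl⟩⟩
    · exact close_refl _ _
    · exact close_mono (hclose _ _ hy) (by omega)
    · rw [two_mul]; exact close_trans (hclose _ _ hy) (hclose _ _ hy')
  have hnpos : 0 < n := Fintype.card_pos_iff.mpr ⟨p⟩
  set a := (nbr T p).card with ha
  have hA' := card_le_of_reach_two hT p hall
  by_cases h2a : 2 * a ≤ n
  · have := half_bound hnpos h2a (deg_mul_le hT hc2 p)
    nlinarith
  have haT : a + 1 ≤ n := by
    rw [ha, hn]
    have : nbr T p ⊆ univ.erase p := fun z hz => mem_erase.mpr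
      ⟨fun e => by
        rcases mem_nbr.mp hz with h | h
        · exact hDne _ _ h e.symm
        · exact hDne _ _ h e, mem_univ _⟩
    have := card_le_card this
    rw [card_erase_of_mem (mem_univ p), card_univ] at this
    omega
  by_cases hsymD : D q p
  swap
  · -- the orbital is not self-paired
    have hdis : ∀ x y, D x y → ¬ D y x := by
      rintro x y ⟨h, rfl, rfl⟩ e
      exact hsymD ((invariant_iff hD h q p).mp e)
    have hsum : a = (nbr D p).card + (nbr D p).card := by
      rw [ha, ← congrArg ((nbr D p).card + ·) (card_in_eq hD p p), ← card_union_of_disjoint]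
      · congr 1
        ext z
        simp only [Finset.mem_union, mem_nbr, T]
      · exact Finset.disjoint_left.mpr fun z hz hz' =>
          hdis _ _ (mem_nbr.mp hz) ((mem_nbr (S := fun a b => D b a)).mp hz')
    have h2s : 2 * (nbr D p).card ≤ n := by omega
    have := half_bound hnpos h2s (deg_mul_le hD hc2 p)
    nlinarith
  have hDsymm : ∀ x y, D x y → D y x := by
    rintro x y ⟨h, rfl, rfl⟩
    exact hD h q p hsymD
  by_cases htwo : ∀ x y : Ω, x ≠ y → T x y
  · refine bound_two_transitive hprim hA g hpq hp fun x y hxy x' y' hxy' => ?_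
    have hDall : ∀ x y : Ω, x ≠ y → D x y := fun x y h => (htwo x y h).elim id (hDsymm y x)
    obtain ⟨h, rfl, rfl⟩ := hDall x y hxy
    obtain ⟨k, rfl, rfl⟩ := hDall x' y' hxy'
    exact ⟨k * h⁻¹, by rw [mul_smul, inv_smul_smul], by rw [mul_smul, inv_smul_smul]⟩
  push Not at htwo
  obtain ⟨p', q', hpq', hnT⟩ := htwo
  let E : Ω → Ω → Prop := fun x y => ∃ h : G, (h • p' = x ∧ h • q' = y) ∨ (h • q' = x ∧ h • p' = y)
  have hE : Invariant G E := by
    rintro h x y ⟨k, hk⟩
    exact ⟨h * k, hk.imp (fun e => ⟨by rw [mul_smul, e.1], by rw [mul_smul, e.2]⟩)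
      (fun e => ⟨by rw [mul_smul, e.1], by rw [mul_smul, e.2]⟩)⟩
  have hEs : ∀ x y, E x y → E y x := fun x y ⟨k, hk⟩ => ⟨k, hk.symm.imp And.symm And.symm⟩
  have hEpq : E p' q' := ⟨1, Or.inl ⟨one_smul _ _, one_smul _ _⟩⟩
  rcases dist_three_or hE hEs hpq' hEpq with hallE | ⟨x, y₁, y₂, w, -, -, -, hd⟩
  · have hEA := card_le_of_reach_two hE p' hallE
    have hdis : ∀ x y, E x y → ¬ T x y ∧ x ≠ y := by
      rintro x y ⟨k, ⟨rfl, rfl⟩ | ⟨rfl, rfl⟩⟩
      · exact ⟨fun e => hnT ((invariant_iff hT k _ _).mp e),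
          fun e => hpq' (smul_left_cancel k e)⟩
      · exact ⟨fun e => hnT (hTs _ _ ((invariant_iff hT k _ _).mp e)),
          fun e => hpq' (smul_left_cancel k e).symm⟩
    have hsum : (nbr E p').card + a + 1 ≤ n := by
      rw [ha, card_nbr_eq hT p p', ← card_union_of_disjoint
        (Finset.disjoint_left.mpr fun z hz hz' => (hdis _ _ (mem_nbr.mp hz)).1 (mem_nbr.mp hz'))]
      have : nbr E p' ∪ nbr T p' ⊆ univ.erase p' := fun z hz => mem_erase.mpr
        ⟨fun e => by
          rcases Finset.mem_union.mp hz with h | h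
          · exact (hdis _ _ (mem_nbr.mp h)).2 e.symm
          · rcases mem_nbr.mp h with h | h
            · exact hDne _ _ h e.symm
            · exact hDne _ _ h e, mem_univ _⟩
      have := card_le_card this
      rw [card_erase_of_mem (mem_univ _), card_univ] at this
      omega
    have := half_bound hnpos (by omega) (deg_mul_le hE hc2 p')
    nlinarith
  · have ha := two_deg_le hE hEs p' hd (hc2 x w)
    have hb := card_le_deg_mul hE hEs hpq' hEpq fun x y _ => hc2 x y
    nlinarith


/-- A classification-free minimal-degree bound. Let G be a finite group acting faithfully and primitively on a finite set Ω with n elements, and suppose that the image of G in the symmetric group on Ω does not contain the alternating group on Ω. Then every non-identity element of G moves at least (√n − 1)/2 points of Ω, that is, it fixes at most n − (√n − 1)/2 points. -/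
theorem result {G Ω : Type*} [Group G] [Finite G] [MulAction G Ω] [FaithfulSMul G Ω] [Fintype Ω] [DecidableEq Ω]
    (hprim : MulAction.IsPreprimitive G Ω)
    (hA : ¬ alternatingGroup Ω ≤ (MulAction.toPermHom G Ω).range)
    (g : G) (hg : g ≠ 1) :
    (Real.sqrt (Fintype.card Ω) - 1) / 2 ≤ (Fintype.card Ω : ℝ) - Nat.card (MulAction.fixedBy Ω g) := by
  have hb := bound hprim hA g hg
  set m := (Finset.univ.filter fun z : Ω => g • z ≠ z).card with hm
  have hfix : Nat.card (MulAction.fixedBy Ω g) + m = Fintype.card Ω := by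
    rw [hm, Nat.card_eq_fintype_card, Fintype.card_subtype, ← Finset.card_univ]
    exact Finset.card_filter_add_card_filter_not _
  have h1 : (Fintype.card Ω : ℝ) - Nat.card (MulAction.fixedBy Ω g) = (m : ℝ) := by
    rw [← hfix]; push_cast; ring
  rw [h1]
  have h2 : Real.sqrt (Fintype.card Ω) ≤ 2 * (m : ℝ) + 1 := by
    rw [Real.sqrt_le_left (by positivity)]
    exact_mod_cast hb
  linarith

end Cfsg.Agent.S5713
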