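import Cfsg.Statements.S5722
import Cfsg.Agent.Lib.CompLength.Bound
-- import your own Cfsg.Agent.* helpers here

set_option autoImplicit false
open Cfsg

namespace Cfsg.Agent.S5722

/-- If a finite group G acts faithfully on a finite set with n points and r orbits, then the composition length of G is at most 4(n − r)/3. Here the composition length is expressed through chains: the conclusion bounds the length l of every chain of subgroups 1 = H₀ < H₁ < ⋯ < H_l = G in which each term is normal in the next (the longest such chains are exactly the composition series). -/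
theorem result {G Ω : Type*} [Group G] [Finite G] [MulAction G Ω] [FaithfulSMul G Ω] [Fintype Ω]
    (l : ℕ) (H : Fin (l + 1) → Subgroup G) (h0 : H 0 = ⊥) (hl : H (Fin.last l) = ⊤)
    (hchain : ∀ i : Fin l, H i.castSucc < H i.succ ∧ ((H i.castSucc).subgroupOf (H i.succ)).Normal) :
    3 * l ≤ 4 * (Fintype.card Ω - Nat.card (Quotient (MulAction.orbitRel G Ω))) := by
  classical
  have key : ∀ k : ℕ, ∀ hk : k ≤ l, Lib.CompLength.StepLen k (H ⟨k, Nat.lt_succ_of_le hk⟩) := by
    intro k
    induction k with
    | zero => intro _; rw [show (⟨0, _⟩ : Fin (l + 1)) = 0 from rfl, h0]; exact .zero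
    | succ k ih => intro hk; exact .succ (ih (by omega)) (hchain ⟨k, by omega⟩)
  have hlen : l ≤ Lib.CompLength.cl G := by
    refine Lib.CompLength.le_cl ?_
    have h := key l le_rfl
    rwa [show (⟨l, Nat.lt_succ_of_le le_rfl⟩ : Fin (l + 1)) = Fin.last l from rfl, hl] at h
  let n := Fintype.card Ω
  let e : Ω ≃ Fin n := Fintype.equivFin Ω
  let f : G →* Equiv.Perm (Fin n) :=
    (e.permCongrHom.toMonoidHom).comp (MulAction.toPermHom G Ω)
  have hfi : Function.Injective f :=
    e.permCongrHom.injective.comp MulAction.toPerm_injective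
  have hb := Lib.CompLength.Bound.boundAt n f.range (Fin n) (Nat.card_fin n)
  have hcl : Lib.CompLength.cl G = Lib.CompLength.cl f.range :=
    Lib.CompLength.cl_congr (MonoidHom.ofInjective hfi)
  have horb : Nat.card (Quotient (MulAction.orbitRel G Ω)) ≤ Lib.CompLength.Bound.orb f.range (Fin n) := by
    refine Nat.card_le_card_of_surjective (fun q => Quotient.liftOn' q
      (fun x => (Quotient.mk'' (e.symm x) : Quotient (MulAction.orbitRel G Ω))) fun x y hxy => ?_) ?_
    · obtain ⟨⟨σ, g, rfl⟩, hg⟩ := hxy
      refine Quotient.sound' ⟨g, ?_⟩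
      have hg' : e (g • e.symm y) = x := hg
      show g • e.symm y = e.symm x
      rw [← hg', Equiv.symm_apply_apply]
    · intro q
      induction q using Quotient.inductionOn' with
      | h w => exact ⟨Quotient.mk'' (e w), congrArg Quotient.mk'' (e.symm_apply_apply w)⟩
  have hn : Fintype.card Ω = n := rfl
  omega

end Cfsg.Agent.S5722
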