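import Cfsg.Statements.S5728
-- import your own Cfsg.Agent.* helpers here

set_option autoImplicit false
open Cfsg

namespace Cfsg.Agent.S5728

/-- An elusive transitive action. Let p = 2^s − 1 be a prime and let F be the field with p² elements. Inside the group of affine maps x ↦ a·x + b of F (a ≠ 0), consider the subgroup of maps with both coefficients in the prime field. Then every element of prime order of the affine group is conjugate, within the affine group, to an element of that subgroup; equivalently, in the transitive action of the affine group on the cosets of that subgroup (of degree p(p + 1)) every element of prime order fixes a point. -/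
theorem result (p s : ℕ) [Fact p.Prime] (hs : p = 2 ^ s - 1)
    (g : Equiv.Perm (GaloisField p 2)) (hg : g ∈ Cfsg.affineGroup (GaloisField p 2)) (hord : (orderOf g).Prime) :
    ∃ x ∈ Cfsg.affineGroup (GaloisField p 2), ∃ a b : ZMod p, a ≠ 0 ∧
      ∀ y : GaloisField p 2, (x * g * x⁻¹) y = algebraMap (ZMod p) (GaloisField p 2) a * y + algebraMap (ZMod p) (GaloisField p 2) b := by
  obtain ⟨A, b, hg⟩ := hg
  have hp := (Fact.out : p.Prime)
  have haff : ∀ (c : (GaloisField p 2)ˣ) (d : GaloisField p 2),
      ∃ x : Equiv.Perm (GaloisField p 2), x ∈ Cfsg.affineGroup (GaloisField p 2) ∧ ∀ y, x y = (c : GaloisField p 2) * y + d := by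
    intro c d
    refine ⟨(Equiv.mulLeft₀ (c : GaloisField p 2) c.ne_zero).trans (Equiv.addRight d), ⟨c, d, fun y => rfl⟩, fun y => rfl⟩
  by_cases hA : (A : GaloisField p 2) = 1
  · -- a translation
    simp only [hA, one_mul] at hg
    have hb : b ≠ 0 := by
      rintro rfl
      have : g = 1 := Equiv.ext fun y => by simp [hg]
      rw [this, orderOf_one] at hord
      exact Nat.not_prime_one hord
    obtain ⟨x, hx, hxy⟩ := haff (Units.mk0 b hb)⁻¹ 0
    refine ⟨x, hx, 1, 1, one_ne_zero, fun y => ?_⟩
    rw [map_one, one_mul, Equiv.Perm.mul_apply, Equiv.Perm.mul_apply, hxy, hg, mul_add]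
    obtain ⟨z, rfl⟩ := x.surjective y
    rw [Equiv.Perm.inv_def, Equiv.symm_apply_apply, hxy]
    simp [inv_mul_cancel₀ hb]
  · -- conjugate to a homothety
    have h1A : (1 : GaloisField p 2) - A ≠ 0 := sub_ne_zero.mpr (Ne.symm hA)
    obtain ⟨x, hx, hxy⟩ := haff 1 (-(b / (1 - A)))
    have hconj : ∀ y, (x * g * x⁻¹) y = (A : GaloisField p 2) * y := by
      intro y
      rw [Equiv.Perm.mul_apply, Equiv.Perm.mul_apply, hxy, hg]
      obtain ⟨z, rfl⟩ := x.surjective y
      rw [Equiv.Perm.inv_def, Equiv.symm_apply_apply, hxy, Units.val_one, one_mul, one_mul]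
      field_simp
      ring
    set r := orderOf g with hr
    have hpow : ∀ (j : ℕ) y, ((x * g * x⁻¹) ^ j) y = (A : GaloisField p 2) ^ j * y := by
      intro j
      induction j with
      | zero => simp
      | succ j ih => intro y; rw [pow_succ', Equiv.Perm.mul_apply, ih, hconj]; ring
    have hAr : (A : GaloisField p 2) ^ r = 1 := by
      have h1 : (x * g * x⁻¹) ^ r = 1 := by rw [conj_pow, pow_orderOf_eq_one]; group
      have h2 := hpow r 1
      rw [h1] at h2
      simpa using h2.symm
    have hordA : orderOf A = r := by
      haveI := Fact.mk hord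
      refine orderOf_eq_prime (Units.ext (by simpa using hAr)) fun h => hA (by rw [h]; rfl)
    have hcard : Nat.card (GaloisField p 2)ˣ = p ^ 2 - 1 := by
      rw [Nat.card_units, GaloisField.card p 2 (by norm_num)]
    have hrdvd : r ∣ p ^ 2 - 1 := hcard ▸ hordA ▸ orderOf_dvd_natCard A
    have hp3 : 3 ≤ p := by
      rcases lt_or_ge s 2 with h | h
      · have := hp.two_le
        interval_cases s <;> omega
      · have := Nat.pow_le_pow_right (show 2 > 0 by norm_num) h
        omega
    have hr' : r ∣ p - 1 := by
      have h1 : p ^ 2 - 1 = (p - 1) * 2 ^ s := by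
        have h2 : 2 ^ s = p + 1 := by omega
        rw [h2, mul_comm]
        simpa using Nat.sq_sub_sq p 1
      rw [h1] at hrdvd
      rcases hord.dvd_mul.mp hrdvd with h | h
      · exact h
      · rw [(Nat.prime_dvd_prime_iff_eq hord Nat.prime_two).mp (hord.dvd_of_dvd_pow h)]
        rcases hp.eq_two_or_odd with h | h <;> omega
    have hAp : (A : GaloisField p 2) ^ p = A := by
      obtain ⟨t, ht⟩ := hr'
      have h1 : (A : GaloisField p 2) ^ (r * t + 1) = A := by rw [pow_succ, pow_mul, hAr, one_pow, one_mul]
      rwa [show r * t + 1 = p by omega] at h1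
    obtain ⟨a, ha⟩ : ∃ a : ZMod p, algebraMap (ZMod p) (GaloisField p 2) a = A := by
      classical
      by_contra! h
      let S : Finset (GaloisField p 2) := insert (A : GaloisField p 2) (Finset.univ.map ⟨algebraMap (ZMod p) (GaloisField p 2), (algebraMap (ZMod p) (GaloisField p 2)).injective⟩)
      have h1 : S.card = p + 1 := by
        rw [Finset.card_insert_of_notMem (by simpa using h), Finset.card_map, Finset.card_univ, ZMod.card]
      have hne : (Polynomial.X ^ p - Polynomial.X : Polynomial (GaloisField p 2)) ≠ 0 :=
        FiniteField.X_pow_card_sub_X_ne_zero _ hp.one_lt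
      have h2 : S ⊆ (Polynomial.X ^ p - Polynomial.X : Polynomial (GaloisField p 2)).roots.toFinset := by
        intro z hz
        rw [Multiset.mem_toFinset, Polynomial.mem_roots hne]
        simp only [S, Finset.mem_insert, Finset.mem_map, Finset.mem_univ, true_and, Function.Embedding.coeFn_mk] at hz
        rcases hz with rfl | ⟨a, rfl⟩
        · simp [hAp]
        · simp [← map_pow, ZMod.pow_card]
      have h3 := (Finset.card_le_card h2).trans ((Multiset.toFinset_card_le _).trans (Polynomial.card_roots' _))
      rw [h1, FiniteField.X_pow_card_sub_X_natDegree_eq _ hp.one_lt] at h3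
      omega
    exact ⟨x, hx, a, 0, fun h => A.ne_zero (by rw [← ha, h, map_zero]), fun y => by rw [hconj, ha, map_zero, add_zero]⟩

end Cfsg.Agent.S5728
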