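import Cfsg.Statements.S5729
import Cfsg.Agent.Lib.Derange.Counting

set_option autoImplicit false
open Cfsg
open MulAction Cfsg.Agent.Lib.Derange.Counting

namespace Cfsg.Agent.S5729

/-- Let a finite group G act faithfully and transitively on a set with n ≥ 3 points. Then either G is a Frobenius permutation group (Frobenius as a permutation group: transitive, some non-identity element fixes a point, and no non-identity element fixes two points) of order n(n − 1) and exactly |G|/n of its elements are derangements (fix no point), or the number of derangements is greater than |G|/n. -/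
theorem result {G Ω : Type*} [Group G] [Finite G] [MulAction G Ω] [FaithfulSMul G Ω] [Fintype Ω] (htr : MulAction.IsPretransitive G Ω) (hn : 3 ≤ Fintype.card Ω) :
    ((MulAction.IsPretransitive G Ω ∧ (∃ g : G, g ≠ 1 ∧ ∃ ω : Ω, g • ω = ω) ∧ ∀ g : G, g ≠ 1 → Nat.card (MulAction.fixedBy Ω g) ≤ 1) ∧ Nat.card G = Fintype.card Ω * (Fintype.card Ω - 1) ∧ Fintype.card Ω * Nat.card {g : G // ∀ ω : Ω, g • ω ≠ ω} = Nat.card G) ∨
    Nat.card G < Fintype.card Ω * Nat.card {g : G // ∀ ω : Ω, g • ω ≠ ω} := by
  classical
  haveI := Fintype.ofFinite G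
  haveI := htr
  haveI : Nonempty Ω := Fintype.card_pos_iff.mp (by omega)
  obtain ⟨α⟩ := ‹Nonempty Ω›
  have hid := basic_identity (G := G) α
  have hr := two_le_rank (G := G) (by omega) α
  have hE := excess_nonneg (G := G) (Ω := Ω)
  have hcard : Nat.card G = Fintype.card G := Nat.card_eq_fintype_card
  by_cases hstrict : Nat.card G < Fintype.card Ω * nder G Ω
  · exact Or.inr hstrict
  have hle : (Fintype.card Ω : ℤ) * nder G Ω ≤ Fintype.card G := by
    rw [← hcard]
    exact_mod_cast not_lt.mp hstrict
  have hG0 : (0 : ℤ) < Fintype.card G := by exact_mod_cast Fintype.card_pos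
  have hr2 : rank G α = 2 := by
    by_contra hne
    have h1 : (2 : ℤ) ≤ (rank G α : ℤ) - 1 := by omega
    have h2 : 2 * (Fintype.card G : ℤ) ≤ ((rank G α : ℤ) - 1) * Fintype.card G :=
      mul_le_mul_of_nonneg_right h1 hG0.le
    linarith
  have hE0 : excess G Ω = 0 := by
    rw [hr2] at hid
    push_cast at hid
    linarith
  have hnD : Fintype.card Ω * nder G Ω = Nat.card G := by
    rw [hr2, hE0, ← hcard] at hid
    push_cast at hid
    have : ((Fintype.card Ω * nder G Ω : ℕ) : ℤ) = ((Nat.card G : ℕ) : ℤ) := by push_cast; linarith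
    exact_mod_cast this
  have hfix := excess_eq_zero hE0
  obtain ⟨β, hβ⟩ := Fintype.exists_ne_of_one_lt_card (by omega) α
  obtain ⟨γ, hγα, hγβ⟩ : ∃ γ : Ω, γ ≠ α ∧ γ ≠ β := by
    by_contra! h
    have : (Finset.univ : Finset Ω) ⊆ {α, β} := fun x _ => by
      by_cases hx : x = α
      · simp [hx]
      · simp [h x hx]
    have := (Finset.card_le_card this).trans Finset.card_le_two
    rw [Finset.card_univ] at this
    omega
  refine Or.inl ⟨⟨htr, ?_, fun g hg => ?_⟩, ?_, hnD⟩
  · obtain ⟨g, hgα, hgβ⟩ := exists_pair_map hr2.le (a := α) (b := γ) hγα.symm hβ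
    refine ⟨g, fun h => hγβ ?_, α, hgα⟩
    rw [h, one_smul] at hgβ
    exact hgβ.symm
  · rw [card_fixedBy_eq]
    exact hfix g hg
  · have h1 : Fintype.card (orbit G α) * Fintype.card (stabilizer G α) = Fintype.card G :=
      card_orbit_mul_card_stabilizer_eq_card_group G α
    have h2 : Fintype.card (orbit G α) = Fintype.card Ω := by simp [orbit_eq_univ]
    let f : stabilizer G α → {x : Ω // x ≠ α} := fun x => ⟨(x : G) • β, fun h => hβ (by
      have hx : (x : G) • α = α := x.2
      exact smul_left_cancel _ (h.trans hx.symm))⟩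
    have hf : Function.Bijective f := by
      refine ⟨fun x y h => ?_, fun z => ?_⟩
      · have h' : (x : G) • β = (y : G) • β := congrArg Subtype.val h
        by_contra hne
        have hne' : (y : G)⁻¹ * x ≠ 1 := fun h1 => hne (Subtype.ext (inv_mul_eq_one.mp h1).symm)
        have h3 : ({α, β} : Finset Ω).card ≤ nfix (Ω := Ω) ((y : G)⁻¹ * x) := by
          refine Finset.card_le_card fun z hz => ?_
          simp only [Finset.mem_insert, Finset.mem_singleton] at hz
          rw [Finset.mem_filter]
          refine ⟨Finset.mem_univ _, ?_⟩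
          rcases hz with rfl | rfl
          · exact mul_mem (inv_mem y.2) x.2
          · rw [mul_smul, h', inv_smul_smul]
        rw [Finset.card_pair hβ.symm] at h3
        have := hfix _ hne'
        omega
      · obtain ⟨g, hgα, hgβ⟩ := exists_pair_map hr2.le (a := α) (b := z.1) z.2.symm hβ
        exact ⟨⟨g, hgα⟩, Subtype.ext hgβ⟩
    have h3 : Fintype.card (stabilizer G α) = Fintype.card Ω - 1 := by
      rw [Fintype.card_of_bijective hf]
      simp
    rw [hcard, ← h1, h2, h3]

end Cfsg.Agent.S5729
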