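import Cfsg.Statements.S5730
import Cfsg.Agent.Lib.Derange.Excess

set_option autoImplicit false
open Cfsg
open MulAction Cfsg.Agent.Lib.Derange.Counting Cfsg.Agent.Lib.Derange.TwoTrans Cfsg.Agent.Lib.Derange.Excess

namespace Cfsg.Agent.S5730

/-- Let a finite group G act faithfully and transitively on a set with n ≥ 7 points. Then either G is a Frobenius permutation group (Frobenius as a permutation group: transitive, some non-identity element fixes a point, and no non-identity element fixes two points) of order n(n − 1)/a with a ∈ {1, 2}, in which case exactly a|G|/n of its elements are derangements, or the number of derangements is at least 2|G|/n. (Equality does occur: PSL₃(2) acting on the 7 points of the Fano plane has exactly 2|G|/7 derangements.) -/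
theorem result {G Ω : Type*} [Group G] [Finite G] [MulAction G Ω] [FaithfulSMul G Ω] [Fintype Ω] (htr : MulAction.IsPretransitive G Ω) (hn : 7 ≤ Fintype.card Ω) :
    (∃ a : ℕ, (a = 1 ∨ a = 2) ∧ (MulAction.IsPretransitive G Ω ∧ (∃ g : G, g ≠ 1 ∧ ∃ ω : Ω, g • ω = ω) ∧ ∀ g : G, g ≠ 1 → Nat.card (MulAction.fixedBy Ω g) ≤ 1) ∧ a * Nat.card G = Fintype.card Ω * (Fintype.card Ω - 1) ∧ Fintype.card Ω * Nat.card {g : G // ∀ ω : Ω, g • ω ≠ ω} = a * Nat.card G) ∨
    2 * Nat.card G ≤ Fintype.card Ω * Nat.card {g : G // ∀ ω : Ω, g • ω ≠ ω} := by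
  classical
  haveI := Fintype.ofFinite G
  haveI := htr
  haveI : Nonempty Ω := Fintype.card_pos_iff.mp (by omega)
  obtain ⟨α⟩ := ‹Nonempty Ω›
  have hid := basic_identity (G := G) α
  have hr := two_le_rank (G := G) (by omega) α
  have hE := excess_nonneg (G := G) (Ω := Ω)
  have hG0 : (0 : ℤ) < Fintype.card G := by exact_mod_cast Fintype.card_pos
  have hgoal : 2 * (Fintype.card G : ℤ) ≤ Fintype.card Ω * nder G Ω →
      2 * Nat.card G ≤ Fintype.card Ω * Nat.card {g : G // ∀ ω : Ω, g • ω ≠ ω} := by
    intro h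
    rw [Nat.card_eq_fintype_card (α := G)]
    have h' : ((2 * Fintype.card G : ℕ) : ℤ) ≤ ((Fintype.card Ω * nder G Ω : ℕ) : ℤ) := by push_cast; linarith
    exact_mod_cast h'
  by_cases hr3 : 3 ≤ rank G α
  · refine Or.inr (hgoal ?_)
    have h2 : 2 * (Fintype.card G : ℤ) ≤ ((rank G α : ℤ) - 1) * Fintype.card G :=
      mul_le_mul_of_nonneg_right (by omega) hG0.le
    linarith
  have hr2 : rank G α = 2 := by omega
  obtain ⟨β, hβ⟩ := Fintype.exists_ne_of_one_lt_card (by omega) α
  have ht : TwoTrans G Ω := by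
    intro a b c d hab hcd
    obtain ⟨g₁, h1, h2⟩ := exists_pair_map hr2.le hab hβ
    obtain ⟨g₂, h3, h4⟩ := exists_pair_map hr2.le hcd hβ
    exact ⟨g₂ * g₁⁻¹, by rw [← h1, mul_smul, inv_smul_smul, h3], by rw [← h2, mul_smul, inv_smul_smul, h4]⟩
  by_cases hK : pairStab G α β = ⊥
  · refine Or.inl ⟨1, Or.inl rfl, ?_⟩
    have hcardG := card_group_eq ht (by omega) hβ.symm hr2
    rw [hK, Subgroup.card_bot, Nat.cast_one, mul_one] at hcardG
    have hfix : ∀ g : G, g ≠ 1 → nfix (Ω := Ω) g ≤ 1 := by
      intro g hg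
      by_contra hgt
      obtain ⟨a, ha, b, hb, hab⟩ := Finset.one_lt_card.mp (not_le.mp hgt)
      have hmem : g ∈ pairStab G a b :=
        mem_pairStab.mpr ⟨(Finset.mem_filter.mp ha).2, (Finset.mem_filter.mp hb).2⟩
      have hbot : pairStab G a b = ⊥ := by
        apply Subgroup.eq_bot_of_card_eq
        rw [card_pairStab_eq ht hab hβ.symm, hK, Subgroup.card_bot]
      rw [hbot, Subgroup.mem_bot] at hmem
      exact hg hmem
    refine ⟨⟨htr, ?_, fun g hg => by rw [card_fixedBy_eq]; exact hfix g hg⟩, ?_, ?_⟩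
    · obtain ⟨γ, hγ⟩ : ∃ γ : Ω, γ ∉ ({α, β} : Finset Ω) := by
        by_contra! h
        have := Finset.card_le_card (show (Finset.univ : Finset Ω) ⊆ {α, β} from fun x _ => h x)
        rw [Finset.card_univ, Finset.card_pair hβ.symm] at this
        omega
      simp only [Finset.mem_insert, Finset.mem_singleton, not_or] at hγ
      obtain ⟨g, hgα, hgβ⟩ := exists_pair_map hr2.le (a := α) (b := γ) (Ne.symm hγ.1) hβ
      refine ⟨g, fun h => hγ.2 ?_, α, hgα⟩
      rw [h, one_smul] at hgβ
      exact hgβ.symm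
    · rw [one_mul, Nat.card_eq_fintype_card]
      have h1 : ((Fintype.card G : ℕ) : ℚ) = ((Fintype.card Ω * (Fintype.card Ω - 1) : ℕ) : ℚ) := by
        rw [hcardG, Nat.cast_mul, Nat.cast_sub (by omega), Nat.cast_one]
      exact_mod_cast h1
    · rw [one_mul, Nat.card_eq_fintype_card (α := G)]
      have hE0 : excess G Ω = 0 := by
        refine Finset.sum_eq_zero fun g _ => ?_
        split
        · rfl
        · by_cases hg : g = 1
          · rw [hg, nfix_one, sub_self, zero_mul]
          · have := hfix g hg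
            rename_i hne
            rw [show nfix (Ω := Ω) g = 1 by omega]
            simp
      rw [hE0, hr2] at hid
      push_cast at hid
      have : ((Fintype.card Ω * nder G Ω : ℕ) : ℤ) = ((Fintype.card G : ℕ) : ℤ) := by push_cast; linarith
      exact_mod_cast this
  · refine Or.inr (hgoal ?_)
    have := excess_ge hn hβ.symm hr2 ht hK
    rw [hr2] at hid
    push_cast at hid
    linarith

end Cfsg.Agent.S5730
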