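import Cfsg.Statements.S5732
import Cfsg.Agent.Lib.RecogThree.Derangements
import Cfsg.Agent.Lib.DerangeIndex3.Affine

set_option autoImplicit false
open Cfsg

namespace Cfsg.Agent.S5732

/-- There is a bound N such that for every finite group G acting faithfully and transitively on a set with n ≥ N points, either G is primitive and a Frobenius permutation group (Frobenius as a permutation group: transitive, some non-identity element fixes a point, and no non-identity element fixes two points), or the subgroup generated by the derangements of G has index at most √n − 1 in G. -/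
theorem result : ∃ N : ℕ, ∀ (G Ω : Type*) [Group G] [Finite G] [MulAction G Ω] [FaithfulSMul G Ω] [Fintype Ω],
      MulAction.IsPretransitive G Ω → N ≤ Fintype.card Ω →
      (MulAction.IsPreprimitive G Ω ∧ (MulAction.IsPretransitive G Ω ∧ (∃ g : G, g ≠ 1 ∧ ∃ ω : Ω, g • ω = ω) ∧ ∀ g : G, g ≠ 1 → Nat.card (MulAction.fixedBy Ω g) ≤ 1)) ∨
      ((Subgroup.closure {g : G | ∀ ω : Ω, g • ω ≠ ω}).index : ℝ) ≤ Real.sqrt (Fintype.card Ω) - 1 := by
  refine ⟨2 ^ 256, fun G Ω _ _ _ _ _ htrans hbig => ?_⟩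
  classical
  haveI := htrans
  change _ ∨ (((Lib.RecogThree.Derangements.D G Ω).index : ℝ) ≤ _)
  set D := Lib.RecogThree.Derangements.D G Ω with hDdef
  rw [← Nat.card_eq_fintype_card] at hbig
  have h4 : 4 ≤ Nat.card Ω :=
    le_trans (by norm_num : (4 : ℕ) ≤ 2 ^ 2) (le_trans (Nat.pow_le_pow_right (by norm_num) (by norm_num)) hbig)
  rw [← Nat.card_eq_fintype_card]
  have hbound : (D.index + 1) ^ 2 ≤ Nat.card Ω → (D.index : ℝ) ≤ Real.sqrt (Nat.card Ω) - 1 := by
    intro h
    have h' : ((D.index : ℝ) + 1) ^ 2 ≤ (Nat.card Ω : ℝ) := by exact_mod_cast h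
    have := Real.le_sqrt_of_sq_le h'
    linarith
  by_cases hb : (D.index + 1) ^ 2 ≤ Nat.card Ω
  · exact Or.inr (hbound hb)
  have hD : D ≠ ⊤ := fun he => hb (by rw [he, Subgroup.index_top]; omega)
  have hS : Lib.DerangeIndex3.Setup.Hyp D Ω :=
    { normal := Lib.RecogThree.Derangements.D_normal G Ω
      trans := Lib.RecogThree.Derangements.D_pretransitive G Ω
      fix := fun g hg => Lib.RecogThree.Derangements.exists_fixed_of_not_mem hg
      uniq := fun g hg a b ha hb' => by_contra fun hne =>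
        hg (Lib.RecogThree.Derangements.mem_D_of_fixes_two hne ha hb') }
  refine Or.inl ⟨hS.preprimitive hb, htrans, ?_, ?_⟩
  · obtain ⟨g, hg⟩ : ∃ g : G, g ∉ D := by
      by_contra hc
      push Not at hc
      exact hD (eq_top_iff.mpr fun g _ => hc g)
    exact ⟨g, fun he => hg (he ▸ D.one_mem), hS.fix g hg⟩
  intro g hg1
  by_contra hc
  obtain ⟨⟨a, ha⟩, ⟨b, hb'⟩, hab⟩ : ∃ x y : MulAction.fixedBy Ω g, x ≠ y := by
    haveI : Nontrivial (MulAction.fixedBy Ω g) := Finite.one_lt_card_iff_nontrivial.mp (by omega)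
    exact exists_pair_ne _
  have hne : b ≠ a := fun he => hab (Subtype.ext he.symm)
  have hgD : g ∈ D := hS.mem_of_fix_two hne hb' ha
  have hm : 0 < D.index := Nat.pos_of_ne_zero Subgroup.index_ne_zero_of_finite
  obtain ⟨q, hq, hqn⟩ := Nat.exists_prime_and_dvd (show Nat.card Ω ≠ 1 by omega)
  haveI := Fact.mk hq
  rcases Lib.DerangeIndex3.Prime.prime_step hS hD a hqn with ⟨e, he, hdvd, hlt, hcong⟩ |
    ⟨Q, h1, h2, h3, h4', h5, h6, h7⟩
  · refine hb (Lib.DerangeIndex3.Setup.bound_of_dvd ?_ hlt hdvd hcong (hS.index_dvd_card_sub_one a))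
    exact le_trans hq.two_le (Nat.le_self_pow (by omega) q)
  · exact hg1 (Lib.DerangeIndex3.Affine.frobenius_or_bound ⟨h1, h2, h3, h4', h5, h6, h7⟩ hS hD hbig hb
      hgD ha hne hb')

end Cfsg.Agent.S5732
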