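import Cfsg.Statements.S5736
import Cfsg.Agent.Lib.BinaryPSL2.Main

set_option autoImplicit false
set_option linter.style.haveILetI false
open Cfsg

namespace Cfsg.Agent.S5736

/-- Let F be a finite field with q ≥ 4 elements, q ≠ 5, let G = PSL₂(F) and let H be a proper subgroup of G. Then the action of G on the cosets of H is binary if and only if H is trivial, or q is a power of 2 and H is a Sylow 2-subgroup, or q = 2^a with a odd and H has order 3. Here an action is binary (relational complexity 2) when, for every n ≥ 2 and all n-tuples I, J of points, if for every pair of positions some group element carries the corresponding pair of entries of I to those of J, then a single group element carries I to J. -/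
theorem result {F : Type*} [Field F] [Fintype F] (h4 : 4 ≤ Fintype.card F) (h5 : Fintype.card F ≠ 5)
    (H : Subgroup (Matrix.ProjectiveSpecialLinearGroup (Fin 2) F)) (hH : H ≠ ⊤) :
    (∀ (n : ℕ) (I J : Fin n → Matrix.ProjectiveSpecialLinearGroup (Fin 2) F ⧸ H), 2 ≤ n →
        (∀ i j : Fin n, i ≠ j → ∃ g : Matrix.ProjectiveSpecialLinearGroup (Fin 2) F, g • I i = J i ∧ g • I j = J j) → ∃ g : Matrix.ProjectiveSpecialLinearGroup (Fin 2) F, ∀ i, g • I i = J i) ↔
      (H = ⊥ ∨ ((∃ a : ℕ, Fintype.card F = 2 ^ a) ∧ ∃ P : Sylow 2 (Matrix.ProjectiveSpecialLinearGroup (Fin 2) F), H = P) ∨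
        ((∃ a : ℕ, Odd a ∧ Fintype.card F = 2 ^ a) ∧ Nat.card H = 3)) := by
  classical
  obtain ⟨p, hchar⟩ := CharP.exists F
  haveI := hchar
  haveI : Fact p.Prime := ⟨CharP.char_is_prime F p⟩
  have two : ∀ a : ℕ, Fintype.card F = 2 ^ a → p = 2 := fun a ha => by
    obtain ⟨f, hf, hq⟩ := Agent.Lib.Linear.exists_card_eq_pow (F := F) p
    have hd : p ∣ 2 ^ a := ha ▸ hq ▸ dvd_pow_self p hf.ne'
    exact (Nat.prime_dvd_prime_iff_eq Fact.out Nat.prime_two).mp ((Fact.out : p.Prime).dvd_of_dvd_pow hd)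
  constructor
  · intro hb
    rcases Agent.Lib.BinaryPSL2.binary_cases (p := p) h4 h5 hH hb with h | ⟨rfl, Q, hQ⟩ | h
    · exact Or.inl h
    · obtain ⟨f, -, hq⟩ := Agent.Lib.Linear.exists_card_eq_pow (F := F) 2
      exact Or.inr (Or.inl ⟨⟨f, hq⟩, Q, hQ⟩)
    · exact Or.inr (Or.inr h)
  · rintro (rfl | ⟨⟨a, ha⟩, P, rfl⟩ | ⟨⟨a, hodd, ha⟩, hc⟩)
    · exact Agent.Lib.BinaryPSL2.isBinary_bot
    · obtain rfl := two a ha
      obtain ⟨U, hU⟩ := Agent.Lib.BinaryPSL2.exists_transl_sylow (F := F) (p := 2)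
      obtain ⟨g, rfl⟩ := MulAction.exists_smul_eq (Matrix.ProjectiveSpecialLinearGroup (Fin 2) F) U P
      show Agent.Lib.BinaryPSL2.IsBinary _
      rw [Sylow.coe_subgroup_smul]
      exact (Agent.Lib.BinaryPSL2.isBinary_map_iff (MulAut.conj g)).mpr
        (Agent.Lib.BinaryPSL2.isBinary_translations (CharP.cast_eq_zero F 2) hU)
    · obtain rfl := two a ha
      exact Agent.Lib.BinaryPSL2.isBinary_three hodd ha hc

end Cfsg.Agent.S5736
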