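import Cfsg.Statements.S5743
import Cfsg.Agent.Lib.TwMax.E6F4Sub

set_option autoImplicit false
open Cfsg

namespace Cfsg.Agent.S5743

/-- The simple group ²E₆(2) (the twisted group of type E₆ over the field with 4 elements) contains at least three pairwise non-conjugate subgroups isomorphic to the Chevalley group F₄(2). -/
theorem result {K : Type*} [Field K] [Fintype K] (hK : Fintype.card K = 4) :
    ∃ H : Fin 3 → Subgroup (Cfsg.Lie.twistedE6 K 2),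
      (∀ i, Nonempty ((H i) ≃* Cfsg.Lie.chevF4.group (ZMod 2))) ∧
      (∀ i j, i ≠ j → ∀ g : (Cfsg.Lie.twistedE6 K 2), (H i).map (MulAut.conj g).toMonoidHom ≠ H j) := by
  classical
  open Cfsg.Agent.Lib Cfsg.Agent.Lib.LieTwisted.Twist in
  have hK2 : Fintype.card K = 2 ^ 2 := hK
  obtain ⟨φ, F⟩ := Cfsg.Agent.Lib.LieTwisted.Twist.Frob.exists_frob (K := K)
    (Nat.prime_two.isPrimePow) hK2 (by norm_num)
  have hW : (Cfsg.Agent.Lib.LieTwisted.Twist.E6.orth F one_lt_two hK2).G1 = Cfsg.Lie.twistedE6 K 2 :=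
    Cfsg.Agent.Lib.LieTwisted.Twist.E6.G1_eq F one_lt_two hK2
  haveI : CharP K 2 := charP_of_card_eq_prime_pow hK2
  set ι : ZMod 2 →+* K := ZMod.castHom (dvd_refl 2) K
  have hu : Nat.card Kˣ = 3 := by rw [F.card_units]; norm_num
  haveI : Fact (Nat.Prime 3) := ⟨Nat.prime_three⟩
  obtain ⟨ω, hω⟩ := exists_prime_orderOf_dvd_card' (G := Kˣ) 3 (by rw [hu])
  have hle : ∀ i : Fin 3, Cfsg.Agent.Lib.TwMax.E6F4.twSub F hK2 ι (ω ^ i.val) ≤ Cfsg.Lie.twistedE6 K 2 :=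
    fun i => hW ▸ Cfsg.Agent.Lib.TwMax.E6F4.twSub_le F hK2 ι _
  refine ⟨fun i => (Cfsg.Agent.Lib.TwMax.E6F4.twSub F hK2 ι (ω ^ i.val)).subgroupOf _, fun i => ?_,
    fun i j hij g hg => hij ?_⟩
  · obtain ⟨e⟩ := Cfsg.Agent.Lib.TwMax.E6F4.ratSub_iso F hK2 ι
    exact ⟨(Subgroup.subgroupOfEquivOfLe (hle i)).trans
      (((Cfsg.Agent.Lib.TwMax.E6F4.ratSub F hK2 ι).equivMapOfInjective _
        (MulEquiv.injective _)).symm.trans e)⟩
  · have hgG : (g : GL Cfsg.Lie.chevE6.Idx K) ∈ Cfsg.Lie.chevE6.group K :=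
      (Cfsg.Agent.Lib.LieTwisted.Twist.E6.orth F one_lt_two hK2).G1_le (hW.symm ▸ g.2)
    have h := Cfsg.Agent.Lib.TwMax.E6F4.twSub_eq F hK2 ι (a := ω ^ i.val) (b := ω ^ j.val) hgG (by
      rintro _ ⟨z, hz, rfl⟩
      have hm : MulAut.conj g ⟨z, hle i hz⟩ ∈
          (Cfsg.Agent.Lib.TwMax.E6F4.twSub F hK2 ι (ω ^ j.val)).subgroupOf (Cfsg.Lie.twistedE6 K 2) := by
        simp only at hg; rw [← hg]; exact ⟨_, hz, rfl⟩
      exact hm)
    exact Fin.ext (pow_injOn_Iio_orderOf (by rw [hω]; exact i.2) (by rw [hω]; exact j.2) h)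

end Cfsg.Agent.S5743
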