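import Cfsg.Statements.S5744
import Cfsg.Agent.Lib.E6Fi22.Three
import Cfsg.Agent.S1686
import Cfsg.Agent.S2604
import Cfsg.Agent.Lib.BCGraph.Adjacency

set_option autoImplicit false
open Cfsg

namespace Cfsg.Agent.S5744

/-- The simple group ²E₆(2) (the twisted group of type E₆ over the field with 4 elements) contains at least three pairwise non-conjugate subgroups isomorphic to the orthogonal group Ω₇(3) (the commutator subgroup of the isometry group of x₀² + x₁y₁ + x₂y₂ + x₃y₃ over the field with 3 elements). -/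
theorem result {K : Type*} [Field K] [Fintype K] (hK : Fintype.card K = 4) :
    ∃ H : Fin 3 → Subgroup (Cfsg.Lie.twistedE6 K 2),
      (∀ i, Nonempty ((H i) ≃* Cfsg.Omega (ZMod 3) (Cfsg.quadFormOdd 3 (ZMod 3)))) ∧
      (∀ i j, i ≠ j → ∀ g : (Cfsg.Lie.twistedE6 K 2), (H i).map (MulAut.conj g).toMonoidHom ≠ H j) := by
  obtain ⟨_, ω, hω⟩ := Cfsg.Agent.Lib.E6Fi22.exists_root hK
  have : Fact (Nat.Prime 3) := ⟨Nat.prime_three⟩
  obtain ⟨e⟩ := Cfsg.Agent.S1686.result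
  let mk := PresentedGroup.mk (Cfsg.Spor.coxRelators Cfsg.Spor.Fi22.edges ∪ {r | r ∈ Cfsg.Spor.Fi22.extra})
  have hout : Nat.card (Cfsg.Out (Cfsg.POmega (ZMod 3) (Cfsg.quadFormOdd 3 (ZMod 3)))) = 2 := by
    obtain ⟨u⟩ := Cfsg.Agent.S2604.result (F := ZMod 3) (p := 3) (f := 1) le_rfl
      (by rw [ZMod.card, pow_one]) (by norm_num) (m := 3) le_rfl
    rw [Nat.card_congr u.toEquiv, Nat.card_congr Multiplicative.toAdd, Nat.card_prod, Nat.card_zmod,
      Nat.card_zmod]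
  obtain ⟨H, h1, h2⟩ := Cfsg.Agent.Lib.E6Fi22.three_classes hK hout
    (((Cfsg.Agent.Lib.E6Fi22.rep ω hω).comp (Subgroup.subtype _)).comp e.symm.toMonoidHom)
    (((Cfsg.Agent.Lib.E6Fi22.rep_injective ω hω).comp Subtype.val_injective).comp e.symm.injective)
    (by rintro _ ⟨l, rfl⟩; exact Cfsg.Agent.Lib.E6Fi22.rep_range_le ω hω ⟨_, rfl⟩)
    fun z hz => Cfsg.Agent.Lib.E6Fi22.central_of_commute ω hω fun y hy => by
      have hm : PresentedGroup.of y ∈ (Subgroup.closure ({Cfsg.Spor.Fi22.b, Cfsg.Spor.Fi22.c,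
          Cfsg.Spor.Fi22.d, Cfsg.Spor.Fi22.e, Cfsg.Spor.Fi22.f, Cfsg.Spor.Fi22.g, Cfsg.Spor.Fi22.h,
          Cfsg.Spor.Fi22.i} : Set (FreeGroup Cfsg.Spor.Fi22.Gen))).map mk :=
        ⟨FreeGroup.of y, Subgroup.subset_closure (by cases y <;> simp at hy ⊢), rfl⟩
      have h := hz (e ⟨_, hm⟩)
      simp only [MonoidHom.comp_apply, MulEquiv.coe_toMonoidHom, MulEquiv.symm_apply_apply,
        Subgroup.coe_subtype, Cfsg.Agent.Lib.E6Fi22.rep_of] at h
      exact h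
  obtain ⟨ep⟩ := Cfsg.Agent.Lib.BCGraph.nonempty_pOmega_equiv (F := ZMod 3)
    (by rw [ZMod.card]; decide) (n := 3) le_rfl
  exact ⟨H, fun i => ⟨((h1 i).some.trans ep).trans (Cfsg.Agent.Lib.OrthOmega.omegaEquiv
    (Cfsg.Agent.Lib.OrthStd.qOddC 3 (ZMod 3)) (Cfsg.Agent.Lib.OrthStd.quadFormOdd_eq 3)).symm⟩, h2⟩

end Cfsg.Agent.S5744
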