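import Cfsg.Statements.S5747
-- import your own Cfsg.Agent.* helpers here

set_option autoImplicit false
open Cfsg

namespace Cfsg.Agent.S5747

universe u v
variable {G : Type u} {Ω : Type v} [Group G] [MulAction G Ω]

/-- `f` is an irredundant base of the subgroup `H`. -/
def IB (H : Subgroup G) (t : ℕ) (f : Fin t → Ω) : Prop :=
  (∀ g ∈ H, (∀ i : Fin t, g • f i = f i) → g = 1) ∧
    ∀ i : Fin t, ∃ g ∈ H, (∀ j : Fin t, j < i → g • f j = f j) ∧ g • f i ≠ f i

/-- `f` is a base of the subgroup `H`. -/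
def Base (H : Subgroup G) (t : ℕ) (f : Fin t → Ω) : Prop :=
  ∀ g ∈ H, (∀ i : Fin t, g • f i = f i) → g = 1

/-- Irredundant bases are preserved by reordering. -/
def Reorder (H : Subgroup G) (Ω : Type v) [MulAction G Ω] : Prop :=
  ∀ (t : ℕ) (f : Fin t → Ω) (σ : Equiv.Perm (Fin t)), IB H t f → IB H t (f ∘ σ)

lemma mem_inf_stab {H : Subgroup G} {x : Ω} {g : G} :
    g ∈ H ⊓ MulAction.stabilizer G x ↔ g ∈ H ∧ g • x = x := Iff.rfl

lemma IB_cons {H : Subgroup G} {x : Ω} {t : ℕ} {f : Fin t → Ω} :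
    IB H (t + 1) (Fin.cons x f) ↔ (∃ g ∈ H, g • x ≠ x) ∧ IB (H ⊓ MulAction.stabilizer G x) t f := by
  constructor
  · rintro ⟨h1, h2⟩
    refine ⟨?_, fun g hg h => h1 g hg.1 (Fin.cases hg.2 h), fun i => ?_⟩
    · obtain ⟨g, hg, -, hne⟩ := h2 0
      exact ⟨g, hg, hne⟩
    · obtain ⟨g, hg, hlt, hne⟩ := h2 i.succ
      exact ⟨g, ⟨hg, hlt 0 (Fin.succ_pos i)⟩, fun j hj => hlt j.succ (Fin.succ_lt_succ_iff.mpr hj), hne⟩
  · rintro ⟨⟨g0, hg0, hne0⟩, h1, h2⟩
    refine ⟨fun g hg h => h1 g ⟨hg, h 0⟩ fun i => h i.succ, fun i => ?_⟩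
    induction i using Fin.cases with
    | zero => exact ⟨g0, hg0, fun j hj => absurd hj (Fin.not_lt_zero j), hne0⟩
    | succ i =>
      obtain ⟨g, hg, hlt, hne⟩ := h2 i
      refine ⟨g, hg.1, fun j hj => ?_, hne⟩
      induction j using Fin.cases with
      | zero => exact hg.2
      | succ j => exact hlt j (Fin.succ_lt_succ_iff.mp hj)

lemma IB_uncons {H : Subgroup G} {t : ℕ} {f : Fin (t + 1) → Ω} (h : IB H (t + 1) f) :
    (∃ g ∈ H, g • f 0 ≠ f 0) ∧ IB (H ⊓ MulAction.stabilizer G (f 0)) t (Fin.tail f) :=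
  IB_cons.mp ((Fin.cons_self_tail f).symm ▸ h)

lemma Reorder.stab {H : Subgroup G} (hr : Reorder H Ω) {x : Ω} (hx : ∃ g ∈ H, g • x ≠ x) :
    Reorder (H ⊓ MulAction.stabilizer G x) Ω := by
  intro t f σ hf
  have h := hr (t + 1) (Fin.cons x f) (Equiv.Perm.decomposeFin.symm (0, σ)) (IB_cons.mpr ⟨hx, hf⟩)
  have he : (Fin.cons x f : Fin (t + 1) → Ω) ∘ (Equiv.Perm.decomposeFin.symm (0, σ)) = Fin.cons x (f ∘ σ) := by
    funext i
    induction i using Fin.cases <;> simp
  rw [he] at h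
  exact (IB_cons.mp h).2

lemma Base.exists_IB {t : ℕ} : ∀ {H : Subgroup G} {f : Fin t → Ω}, Base H t f →
    IB H t f ∨ ∃ t', t' < t ∧ ∃ f' : Fin t' → Ω, IB H t' f' := by
  induction t with
  | zero => exact fun h => Or.inl ⟨h, fun i => i.elim0⟩
  | succ t ih =>
    intro H f h
    have hb : Base (H ⊓ MulAction.stabilizer G (f 0)) t (Fin.tail f) :=
      fun g hg hfix => h g hg.1 (Fin.cases hg.2 hfix)
    by_cases hx : ∃ g ∈ H, g • f 0 ≠ f 0
    · rcases ih hb with h1 | ⟨t', ht', f', hf'⟩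
      · exact Or.inl (Fin.cons_self_tail f ▸ IB_cons.mpr ⟨hx, h1⟩)
      · exact Or.inr ⟨t' + 1, by omega, Fin.cons (f 0) f', IB_cons.mpr ⟨hx, hf'⟩⟩
    · push Not at hx
      have hHH : H ⊓ MulAction.stabilizer G (f 0) = H := inf_eq_left.mpr fun g hg => hx g hg
      rw [hHH] at hb
      rcases ih hb with h1 | ⟨t', ht', f', hf'⟩
      · exact Or.inr ⟨t, by omega, _, h1⟩
      · exact Or.inr ⟨t', by omega, f', hf'⟩

lemma size_eq [Finite Ω] : ∀ (s : ℕ) {H : Subgroup G}, Reorder H Ω →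
    ∀ {f : Fin s → Ω}, IB H s f → ∀ {t : ℕ} {f' : Fin t → Ω}, IB H t f' → s = t := by
  intro s
  induction s with
  | zero =>
    intro H _ f hf t f' hf'
    cases t with
    | zero => rfl
    | succ t =>
      obtain ⟨⟨g, hg, hne⟩, -⟩ := IB_uncons hf'
      exact absurd (by rw [hf.1 g hg (fun i => i.elim0), one_smul]) hne
  | succ s ih =>
    intro H hr f hf t f' hf'
    obtain ⟨hm, hf0⟩ := IB_uncons hf
    cases t with
    | zero =>
      obtain ⟨g, hg, hne⟩ := hm
      exact absurd (by rw [hf'.1 g hg (fun i => i.elim0), one_smul]) hne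
    | succ t =>
      obtain ⟨hm', hf0'⟩ := IB_uncons hf'
      set a := f 0 with ha
      set b := f' 0 with hb
      have ihA := @ih (H ⊓ MulAction.stabilizer G a) (hr.stab hm) (Fin.tail f) hf0
      by_cases hab : ∀ g ∈ H, g • a = a → g • b = b
      · by_cases hba : ∀ g ∈ H, g • b = b → g • a = a
        · have he : H ⊓ MulAction.stabilizer G b = H ⊓ MulAction.stabilizer G a := by
            ext g
            simp only [mem_inf_stab]
            exact ⟨fun h => ⟨h.1, hba g h.1 h.2⟩, fun h => ⟨h.1, hab g h.1 h.2⟩⟩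
          rw [he] at hf0'
          exact congrArg (· + 1) (ihA hf0')
        · -- a base through `b` and `a`
          push Not at hba
          obtain ⟨g, hg, hgb, hga⟩ := hba
          have hxa : ∃ g ∈ H ⊓ MulAction.stabilizer G b, g • a ≠ a := ⟨g, ⟨hg, hgb⟩, hga⟩
          obtain ⟨r, k, hk⟩ : ∃ r, ∃ k : Fin r → Ω, IB (H ⊓ MulAction.stabilizer G b ⊓ MulAction.stabilizer G a) r k := by
            have hB : Base (H ⊓ MulAction.stabilizer G b ⊓ MulAction.stabilizer G a) t (Fin.tail f') :=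
              fun g hg h => hf0'.1 g hg.1 h
            rcases hB.exists_IB with h1 | ⟨r, -, k, hk⟩
            · exact ⟨_, _, h1⟩
            · exact ⟨r, k, hk⟩
          have hba' : IB H (r + 1 + 1) (Fin.cons b (Fin.cons a k)) := IB_cons.mpr ⟨hm', IB_cons.mpr ⟨hxa, hk⟩⟩
          have hswap := hr _ _ (Equiv.swap 0 1) hba'
          obtain ⟨-, h2⟩ := IB_uncons hswap
          rw [show ((Fin.cons b (Fin.cons a k) : Fin (r + 1 + 1) → Ω) ∘ Equiv.swap 0 1) 0 = a by simp] at h2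
          have hs := ihA h2
          have h3 : IB (H ⊓ MulAction.stabilizer G b) s (Fin.cons a k ∘ Fin.cast hs) := by
            subst hs
            simpa using (IB_cons.mp hba').2
          exact congrArg (· + 1) (@ih (H ⊓ MulAction.stabilizer G b) (hr.stab hm') _ h3 _ _ hf0')
      · push Not at hab
        obtain ⟨g, hg, hga, hgb⟩ := hab
        have hxb : ∃ g ∈ H ⊓ MulAction.stabilizer G a, g • b ≠ b := ⟨g, ⟨hg, hga⟩, hgb⟩
        obtain ⟨r, k, hk⟩ : ∃ r, ∃ k : Fin r → Ω, IB (H ⊓ MulAction.stabilizer G a ⊓ MulAction.stabilizer G b) r k := by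
          have hB : Base (H ⊓ MulAction.stabilizer G a ⊓ MulAction.stabilizer G b) s (Fin.tail f) :=
            fun g hg h => hf0.1 g hg.1 h
          rcases hB.exists_IB with h1 | ⟨r, -, k, hk⟩
          · exact ⟨_, _, h1⟩
          · exact ⟨r, k, hk⟩
        have hab' : IB H (r + 1 + 1) (Fin.cons a (Fin.cons b k)) := IB_cons.mpr ⟨hm, IB_cons.mpr ⟨hxb, hk⟩⟩
        have hs := ihA (IB_cons.mp hab').2
        obtain ⟨-, h2⟩ := IB_uncons (hr _ _ (Equiv.swap 0 1) hab')
        rw [show ((Fin.cons a (Fin.cons b k) : Fin (r + 1 + 1) → Ω) ∘ Equiv.swap 0 1) 0 = b by simp] at h2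
        subst hs
        exact congrArg (· + 1) (@ih (H ⊓ MulAction.stabilizer G b) (hr.stab hm') _ h2 _ _ hf0')


/-- Let a finite group G act on a finite set Ω. An irredundant base is a sequence of points ω₁, …, ω_t whose pointwise stabiliser is trivial and in which each ω_i is moved by some element fixing ω₁, …, ω_{i−1}. Then all irredundant bases have the same length if and only if every reordering of an irredundant base is again an irredundant base. -/
theorem result {G Ω : Type*} [Group G] [Finite G] [MulAction G Ω] [Fintype Ω] :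
    (∀ (t t' : ℕ) (f : Fin t → Ω) (f' : Fin t' → Ω), ((∀ g : G, (∀ i : Fin t, g • f i = f i) → g = 1) ∧ ∀ i : Fin t, ∃ g : G, (∀ j : Fin t, j < i → g • f j = f j) ∧ g • f i ≠ f i) → ((∀ g : G, (∀ i : Fin t', g • f' i = f' i) → g = 1) ∧ ∀ i : Fin t', ∃ g : G, (∀ j : Fin t', j < i → g • f' j = f' j) ∧ g • f' i ≠ f' i) → t = t') ↔
    (∀ (t : ℕ) (f : Fin t → Ω) (σ : Equiv.Perm (Fin t)), ((∀ g : G, (∀ i : Fin t, g • f i = f i) → g = 1) ∧ ∀ i : Fin t, ∃ g : G, (∀ j : Fin t, j < i → g • f j = f j) ∧ g • f i ≠ f i) → ((∀ g : G, (∀ i : Fin t, g • (f ∘ σ) i = (f ∘ σ) i) → g = 1) ∧ ∀ i : Fin t, ∃ g : G, (∀ j : Fin t, j < i → g • (f ∘ σ) j = (f ∘ σ) j) ∧ g • (f ∘ σ) i ≠ (f ∘ σ) i)) := by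
  classical
  constructor
  · intro h t f σ hf
    have hb : Base (⊤ : Subgroup G) t (f ∘ σ) := fun g _ hfix =>
      hf.1 g fun i => by simpa using hfix (σ.symm i)
    rcases hb.exists_IB with h1 | ⟨t', ht', f', hf'⟩
    · exact ⟨fun g hg => h1.1 g trivial hg, fun i => (h1.2 i).imp fun g hg => hg.2⟩
    · have := h t t' f f' hf ⟨fun g hg => hf'.1 g trivial hg, fun i => (hf'.2 i).imp fun g hg => hg.2⟩
      omega
  · intro h t t' f f' hf hf'
    have hr : Reorder (⊤ : Subgroup G) Ω := by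
      intro r k σ hk
      have h1 := h r k σ ⟨fun g hg => hk.1 g trivial hg, fun i => (hk.2 i).imp fun g hg => hg.2⟩
      exact ⟨fun g _ => h1.1 g, fun i => (h1.2 i).imp fun g hg => ⟨trivial, hg⟩⟩
    exact size_eq t hr (f := f) ⟨fun g _ => hf.1 g, fun i => (hf.2 i).imp fun g hg => ⟨trivial, hg⟩⟩
      (f' := f') ⟨fun g _ => hf'.1 g, fun i => (hf'.2 i).imp fun g hg => ⟨trivial, hg⟩⟩

end Cfsg.Agent.S5747
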