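import Cfsg.Statements.S5752
import Cfsg.Agent.S2820
import Cfsg.Agent.S3752
import Cfsg.Agent.Lib.FStarTools.Basic
import Cfsg.Agent.Lib.Cores.Normalizer
import Cfsg.Agent.Lib.Transfer.PResidual
import Cfsg.Agent.Lib.CharP.FStar
-- import your own Cfsg.Agent.* helpers here

set_option autoImplicit false
set_option linter.style.haveILetI false
set_option linter.unusedSectionVars false
set_option maxHeartbeats 800000
open Cfsg

namespace Cfsg.Agent.S5752

open Cfsg Subgroup
open Cfsg.Agent.Lib
open Cfsg.Agent.Lib.Components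

variable {G : Type*} [Group G]

/-- The core of `X` in `M`, as a subgroup of `G`. -/
def coreIn (M X : Subgroup G) : Subgroup G := (X.subgroupOf M).normalCore.map M.subtype

theorem coreIn_le_left (M X : Subgroup G) : coreIn M X ≤ M := Subgroup.map_subtype_le _

theorem coreIn_le_right (M X : Subgroup G) : coreIn M X ≤ X := by
  rintro _ ⟨x, hx, rfl⟩
  exact Subgroup.mem_subgroupOf.1 ((X.subgroupOf M).normalCore_le hx)

theorem le_normalizer_map' (M : Subgroup G) (K : Subgroup ↥M) [K.Normal] :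
    M ≤ Subgroup.normalizer ((K.map M.subtype : Subgroup G) : Set G) :=
  S3752.le_normalizer_map M K

theorem le_normalizer_coreIn (M X : Subgroup G) :
    M ≤ Subgroup.normalizer (coreIn M X : Set G) :=
  le_normalizer_map' M _

theorem mem_coreIn {M X : Subgroup G} {x : G} (hx : x ∈ M)
    (h : ∀ m ∈ M, m * x * m⁻¹ ∈ X) : x ∈ coreIn M X :=
  ⟨⟨x, hx⟩, fun m => Subgroup.mem_subgroupOf.2 (h m m.2), rfl⟩

theorem le_coreIn {M X Y : Subgroup G} (hYM : Y ≤ M) (hYX : Y ≤ X)
    (hn : M ≤ Subgroup.normalizer (Y : Set G)) : Y ≤ coreIn M X := fun y hy =>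
  mem_coreIn (hYM hy) fun _ hm => hYX ((Subgroup.mem_normalizer_iff.1 (hn hm) y).1 hy)

/-- A pair of distinct maximal subgroups with trivial cores and isomorphic to each other, whose
second cores are non-trivial. -/
structure Pair (M N : Subgroup G) : Prop where
  maxM : IsCoatom M
  maxN : IsCoatom N
  coreM : M.normalCore = ⊥
  coreN : N.normalCore = ⊥
  ne : M ≠ N
  iso : Nonempty (↥M ≃* ↥N)
  neM : coreIn M (coreIn M (M ⊓ N) ⊓ coreIn N (M ⊓ N)) ≠ ⊥
  neN : coreIn N (coreIn M (M ⊓ N) ⊓ coreIn N (M ⊓ N)) ≠ ⊥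

theorem Pair.symm {M N : Subgroup G} (h : Pair M N) : Pair N M where
  maxM := h.maxN
  maxN := h.maxM
  coreM := h.coreN
  coreN := h.coreM
  ne := h.ne.symm
  iso := ⟨h.iso.some.symm⟩
  neM := by rw [inf_comm N M, inf_comm]; exact h.neN
  neN := by rw [inf_comm N M, inf_comm]; exact h.neM

theorem normalizer_eq_of_coatom {M X : Subgroup G} (hM : IsCoatom M) (hcore : M.normalCore = ⊥)
    (hXM : X ≤ M) (hne : X ≠ ⊥) (hn : M ≤ Subgroup.normalizer (X : Set G)) :
    Subgroup.normalizer (X : Set G) = M := by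
  rcases lt_or_eq_of_le hn with hlt | he
  · exfalso
    have htop := hM.2 _ hlt
    haveI : X.Normal := Subgroup.normalizer_eq_top_iff.1 htop
    exact hne (le_bot_iff.1 (((Subgroup.normal_le_normalCore).2 hXM).trans hcore.le))
  · exact he.symm

variable {M N : Subgroup G}

theorem Pair.normalizer_left (h : Pair M N) {X : Subgroup G} (hX : X ≤ M) (hne : X ≠ ⊥)
    (hn : M ≤ Subgroup.normalizer (X : Set G)) : Subgroup.normalizer (X : Set G) = M :=
  normalizer_eq_of_coatom h.maxM h.coreM hX hne hn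

theorem Pair.normalizer_right (h : Pair M N) {X : Subgroup G} (hX : X ≤ N) (hne : X ≠ ⊥)
    (hn : N ≤ Subgroup.normalizer (X : Set G)) : Subgroup.normalizer (X : Set G) = N :=
  normalizer_eq_of_coatom h.maxN h.coreN hX hne hn

variable (M N)

/-- `A₁`. -/
abbrev fstCore : Subgroup G := coreIn M (M ⊓ N)
/-- `B₁`. -/
abbrev sndCore : Subgroup G := coreIn N (M ⊓ N)
/-- `A₂`. -/
abbrev fstCore₂ : Subgroup G := coreIn M (fstCore M N ⊓ sndCore M N)
/-- `B₂`. -/
abbrev sndCore₂ : Subgroup G := coreIn N (fstCore M N ⊓ sndCore M N)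

variable {M N}

theorem fstCore₂_le : fstCore₂ M N ≤ fstCore M N ⊓ sndCore M N := coreIn_le_right _ _

theorem sndCore₂_le : sndCore₂ M N ≤ fstCore M N ⊓ sndCore M N := coreIn_le_right _ _

theorem fstCore₂_le_inf : fstCore₂ M N ≤ M ⊓ N :=
  (fstCore₂_le.trans inf_le_left).trans (coreIn_le_right _ _)

theorem sndCore₂_le_inf : sndCore₂ M N ≤ M ⊓ N :=
  (sndCore₂_le.trans inf_le_left).trans (coreIn_le_right _ _)

/-- A subgroup of `A₁ ∩ B₁` normalised by `M` is subnormal in `N`. -/
theorem isSubnormal_right {X : Subgroup G} (hX : X ≤ sndCore M N)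
    (hn : M ≤ Subgroup.normalizer (X : Set G)) : (X.subgroupOf N).IsSubnormal := by
  have hB : sndCore M N ≤ N := coreIn_le_left _ _
  have hBn : ((sndCore M N).subgroupOf N).Normal :=
    (Subgroup.normal_subgroupOf_iff_le_normalizer hB).2 (le_normalizer_coreIn _ _)
  refine Subgroup.IsSubnormal.step _ _ (Subgroup.subgroupOf_mono _ hX) hBn.isSubnormal ?_
  refine (Subgroup.normal_subgroupOf_iff_le_normalizer (Subgroup.subgroupOf_mono _ hX)).2 ?_
  intro b hb
  have hb' : (b : G) ∈ Subgroup.normalizer (X : Set G) :=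
    hn ((coreIn_le_right _ _ (Subgroup.mem_subgroupOf.1 hb)).1)
  rw [Subgroup.mem_normalizer_iff] at hb' ⊢
  intro y
  exact hb' (y : G)

theorem isSubnormal_left {X : Subgroup G} (hX : X ≤ fstCore M N)
    (hn : N ≤ Subgroup.normalizer (X : Set G)) : (X.subgroupOf M).IsSubnormal := by
  refine isSubnormal_right (M := N) (N := M) ?_ hn
  rwa [sndCore, inf_comm]

theorem isSubnormal_map {H K : Type*} [Group H] [Group K] (e : H ≃* K) {X : Subgroup H}
    (hX : X.IsSubnormal) : (X.map e.toMonoidHom).IsSubnormal := by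
  rw [Subgroup.map_equiv_eq_comap_symm']
  exact hX.comap _

theorem solvable_of_pGroup {H : Type*} [Group H] [Finite H] {p : ℕ} [Fact p.Prime]
    (hH : IsPGroup p H) : Group.IsSolvable H := by
  haveI := hH.isNilpotent
  infer_instance

variable [Finite G]

/-- The main step: if `O_p(N) ≠ 1`, then `A₂` is a `p`-group. -/
theorem isPGroup_fstCore₂ (h : Pair M N) {p : ℕ} [Fact p.Prime] (hT : pCore p ↥N ≠ ⊥) :
    IsPGroup p ↥(fstCore₂ M N) := by
  by_contra hnp
  set Q := (pResidual p ↥(fstCore₂ M N)).map (fstCore₂ M N).subtype with hQ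
  have hQne : Q ≠ ⊥ := by
    intro h0
    rw [hQ, Subgroup.map_eq_bot_iff_of_injective _ (fstCore₂ M N).subtype_injective] at h0
    exact hnp (Transfer.PResidual.pResidual_eq_bot_iff.1 h0)
  have hQle : Q ≤ fstCore₂ M N := Subgroup.map_subtype_le _
  have hQM : M ≤ Subgroup.normalizer (Q : Set G) :=
    (le_normalizer_coreIn _ _).trans (CharP.normalizer_le_normalizer_map_char _)
  have hQB : Q ≤ sndCore M N := hQle.trans (fstCore₂_le.trans inf_le_right)
  have hQN : Q ≤ N := hQB.trans (coreIn_le_left _ _)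
  have hNQ : Subgroup.normalizer (Q : Set G) = M :=
    h.normalizer_left (hQle.trans (coreIn_le_left _ _)) hQne hQM
  set Q' : Subgroup ↥N := Q.subgroupOf N with hQ'
  set T := pCore p ↥N with hTdef
  have hQ's : Q'.IsSubnormal := isSubnormal_right hQB hQM
  have hTs : T.IsSubnormal := (inferInstance : (pCore p ↥N).Normal).isSubnormal
  have hTp : IsPGroup p ↥T := Cores.pCore_isPGroup p
  have hperf : ∀ X : Subgroup ↥N, (∃ m : ↥N, X = Q'.map (MulAut.conj m).toMonoidHom) →
      (pResidual p ↥X).map X.subtype = X := by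
    rintro X ⟨m, rfl⟩
    have e : ↥(pResidual p ↥(fstCore₂ M N)) ≃* ↥(Q'.map (MulAut.conj m).toMonoidHom) :=
      ((Subgroup.equivMapOfInjective _ _ (fstCore₂ M N).subtype_injective).trans
        (Subgroup.subgroupOfEquivOfLe hQN).symm).trans
        (Subgroup.equivMapOfInjective _ _ (MulAut.conj m).injective)
    rw [← Transfer.PResidual.map_pResidual_equiv e, Transfer.PResidual.pResidual_pResidual,
      Subgroup.map_top_of_surjective _ e.surjective, ← MonoidHom.range_eq_map,
      Subgroup.range_subtype]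
  have hQ'id : Q' = Q'.map (MulAut.conj (1 : ↥N)).toMonoidHom := by
    ext x; simp
  have h20 := S2820.result (p := p) T Q' hTs hQ's hTp (hperf Q' ⟨1, hQ'id⟩)
  have hTM : T.map N.subtype ≤ M := by
    rintro _ ⟨t, ht, rfl⟩
    rw [← hNQ, Subgroup.mem_normalizer_iff]
    intro x
    have ht' := Subgroup.mem_normalizer_iff.1 (h20.1 ht)
    constructor
    · intro hx
      exact Subgroup.mem_subgroupOf.1 ((ht' ⟨x, hQN hx⟩).1 (Subgroup.mem_subgroupOf.2 hx))
    · intro hx
      have hxN : x ∈ N := by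
        have := N.mul_mem (N.mul_mem (N.inv_mem t.2) (hQN hx)) t.2
        simpa [mul_assoc] using this
      exact Subgroup.mem_subgroupOf.1 ((ht' ⟨x, hxN⟩).2 (Subgroup.mem_subgroupOf.2 hx))
  set S := (pCore p ↥M).map M.subtype with hS
  set R := T.map N.subtype with hR
  have hSn : M ≤ Subgroup.normalizer (S : Set G) := le_normalizer_map' M _
  have hRn : N ≤ Subgroup.normalizer (R : Set G) := le_normalizer_map' N _
  have hRne : R ≠ ⊥ := fun h0 =>
    hT ((Subgroup.map_eq_bot_iff_of_injective _ N.subtype_injective).1 h0)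
  -- the part of `O_p(M)` in `N` lies in `O_p(N)`
  have hSR : S ⊓ N ≤ R := by
    intro x hx
    have hxM : x ∈ M := Subgroup.map_subtype_le _ hx.1
    have hBn : N ≤ Subgroup.normalizer (sndCore M N : Set G) := le_normalizer_coreIn _ _
    have hI : (S ⊓ sndCore M N) ≤ R := by
      have hle : S ⊓ sndCore M N ≤ N := inf_le_right.trans (coreIn_le_left _ _)
      have hsn : ((S ⊓ sndCore M N).subgroupOf N).IsSubnormal := by
        have hB : sndCore M N ≤ N := coreIn_le_left _ _
        have hBnn : ((sndCore M N).subgroupOf N).Normal :=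
          (Subgroup.normal_subgroupOf_iff_le_normalizer hB).2 hBn
        refine Subgroup.IsSubnormal.step _ _ (Subgroup.subgroupOf_mono _ inf_le_right)
          hBnn.isSubnormal ?_
        refine (Subgroup.normal_subgroupOf_iff_le_normalizer
          (Subgroup.subgroupOf_mono _ inf_le_right)).2 ?_
        intro b hb
        have hbB : (b : G) ∈ sndCore M N := Subgroup.mem_subgroupOf.1 hb
        have h1 := Subgroup.mem_normalizer_iff.1 (hSn ((coreIn_le_right _ _ hbB).1))
        have h2 := Subgroup.mem_normalizer_iff.1 (hBn (coreIn_le_left _ _ hbB))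
        rw [Subgroup.mem_normalizer_iff]
        intro y
        exact and_congr (h1 (y : G)) (h2 (y : G))
      have hp : IsPGroup p ↥((S ⊓ sndCore M N).subgroupOf N) :=
        (((Cores.pCore_isPGroup p).map M.subtype).to_le inf_le_left).of_equiv
          (Subgroup.subgroupOfEquivOfLe hle).symm
      have := Subgroup.map_mono (f := N.subtype) (Cores.IsSubnormal.le_pCore hsn hp)
      rwa [Subgroup.map_subgroupOf_eq_of_le hle] at this
    have key : ∀ m ∈ N, m⁻¹ * x * m ∈ M := by
      intro m hm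
      set Qm : Subgroup ↥N := Q'.map (MulAut.conj (⟨m, hm⟩ : ↥N)).toMonoidHom with hQm
      have h20m := S2820.result (p := p) T Qm hTs
        (isSubnormal_map (MulAut.conj (⟨m, hm⟩ : ↥N)) hQ's) hTp (hperf Qm ⟨_, rfl⟩)
      have hx' : (⟨x, hx.2⟩ : ↥N) ∈ Subgroup.normalizer (Qm : Set ↥N) := by
        have hinv : ∀ q ∈ Qm, (⟨x, hx.2⟩ : ↥N) * q * (⟨x, hx.2⟩ : ↥N)⁻¹ ∈ T ⊔ Qm := by
          intro q hq
          obtain ⟨r, hr, rfl⟩ := hq
          set q : ↥N := (MulAut.conj (⟨m, hm⟩ : ↥N)).toMonoidHom r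
          have hrB : (r : G) ∈ sndCore M N := hQB (Subgroup.mem_subgroupOf.1 hr)
          have hqB : (q : G) ∈ sndCore M N :=
            (Subgroup.mem_normalizer_iff.1 (hBn hm) (r : G)).1 hrB
          have hqM : (q : G) ∈ M := (coreIn_le_right _ _ hqB).1
          have h1 : x * (q : G) * x⁻¹ * (q : G)⁻¹ ∈ S ⊓ sndCore M N := by
            refine ⟨?_, ?_⟩
            · have := (Subgroup.mem_normalizer_iff.1 (hSn hqM) x⁻¹).1 (S.inv_mem hx.1)
              simpa [mul_assoc] using S.mul_mem hx.1 this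
            · exact (sndCore M N).mul_mem ((Subgroup.mem_normalizer_iff.1 (hBn hx.2) (q : G)).1 hqB)
                ((sndCore M N).inv_mem hqB)
          obtain ⟨t, ht, hte⟩ := hI h1
          have he : (⟨x, hx.2⟩ : ↥N) * q * (⟨x, hx.2⟩ : ↥N)⁻¹ = t * q := by
            apply Subtype.ext
            have hte' : (t : G) = x * (q : G) * x⁻¹ * (q : G)⁻¹ := hte
            show x * (q : G) * x⁻¹ = (t : G) * (q : G)
            rw [hte']; group
          rw [he]
          exact Subgroup.mul_mem_sup ht ⟨r, hr, rfl⟩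
        have hle : Qm.map (MulAut.conj (⟨x, hx.2⟩ : ↥N)).toMonoidHom ≤ Qm := by
          have hle' : Qm.map (MulAut.conj (⟨x, hx.2⟩ : ↥N)).toMonoidHom ≤ T ⊔ Qm := by
            rintro _ ⟨q, hq, rfl⟩
            exact hinv q hq
          have hcomp : Qm.map (MulAut.conj (⟨x, hx.2⟩ : ↥N)).toMonoidHom =
              Q'.map (MulAut.conj ((⟨x, hx.2⟩ : ↥N) * ⟨m, hm⟩)).toMonoidHom := by
            rw [hQm, Subgroup.map_map]; congr 1; ext y; simp [mul_assoc]
          have := CharP.map_pResidual_subtype_mono (p := p) hle'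
          rwa [h20m.2, hperf _ ⟨_, hcomp⟩] at this
        have heq := Subgroup.eq_of_le_of_card_ge hle
          (Nat.card_congr (Subgroup.equivMapOfInjective _ _
            (MulAut.conj (⟨x, hx.2⟩ : ↥N)).injective).toEquiv).le
        rw [Subgroup.mem_normalizer_iff]
        intro y
        constructor
        · intro hy
          exact hle ⟨y, hy, rfl⟩
        · intro hy
          obtain ⟨z, hz, hze⟩ : (⟨x, hx.2⟩ : ↥N) * y * (⟨x, hx.2⟩ : ↥N)⁻¹ ∈
              Qm.map (MulAut.conj (⟨x, hx.2⟩ : ↥N)).toMonoidHom := heq.symm ▸ hy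
          exact (MulAut.conj (⟨x, hx.2⟩ : ↥N)).injective hze ▸ hz
      rw [← hNQ, Subgroup.mem_normalizer_iff]
      intro y
      constructor
      · intro hy
        have := (Subgroup.mem_normalizer_iff.1 hx'
          ((MulAut.conj (⟨m, hm⟩ : ↥N)) ⟨y, hQN hy⟩)).1
          ⟨⟨y, hQN hy⟩, Subgroup.mem_subgroupOf.2 hy, rfl⟩
        obtain ⟨r, hr, hre⟩ := this
        have hre' : m * (r : G) * m⁻¹ = x * (m * y * m⁻¹) * x⁻¹ := congrArg Subtype.val hre
        have : m⁻¹ * x * m * y * (m⁻¹ * x * m)⁻¹ = (r : G) := by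
          calc _ = m⁻¹ * (x * (m * y * m⁻¹) * x⁻¹) * m := by group
            _ = _ := by rw [← hre']; group
        rw [this]; exact Subgroup.mem_subgroupOf.1 hr
      · intro hy
        have hyN : m⁻¹ * x * m * y * (m⁻¹ * x * m)⁻¹ ∈ N := hQN hy
        have hyN' : y ∈ N := by
          have hc : m⁻¹ * x * m ∈ N := N.mul_mem (N.mul_mem (N.inv_mem hm) hx.2) hm
          have := N.mul_mem (N.mul_mem (N.inv_mem hc) hyN) hc
          simpa [mul_assoc] using this
        have := (Subgroup.mem_normalizer_iff.1 hx'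
          ((MulAut.conj (⟨m, hm⟩ : ↥N)) ⟨y, hyN'⟩)).2
          ⟨⟨_, hyN⟩, Subgroup.mem_subgroupOf.2 hy, by
            apply Subtype.ext
            show m * (m⁻¹ * x * m * y * (m⁻¹ * x * m)⁻¹) * m⁻¹ = x * (m * y * m⁻¹) * x⁻¹
            group⟩
        obtain ⟨r, hr, hre⟩ := this
        have hre' : (r : G) = y := by
          have := (MulAut.conj (⟨m, hm⟩ : ↥N)).injective hre
          exact congrArg Subtype.val this
        exact hre' ▸ Subgroup.mem_subgroupOf.1 hr
    refine hI ⟨hx.1, mem_coreIn hx.2 fun m hm => ?_⟩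
    refine ⟨?_, N.mul_mem (N.mul_mem hm hx.2) (N.inv_mem hm)⟩
    simpa using key m⁻¹ (N.inv_mem hm)
  have hRp : IsPGroup p ↥R := hTp.map _
  have hSp : IsPGroup p ↥S := (Cores.pCore_isPGroup p).map _
  have hU : IsPGroup p ↥(S ⊔ R) := hSp.to_sup_of_normal_left' hRp (hTM.trans hSn)
  have hUn : Group.IsNilpotent ↥(S ⊔ R) := hU.isNilpotent
  have hNR : Subgroup.normalizer (R : Set G) = N :=
    h.normalizer_right (Subgroup.map_subtype_le _) hRne hRn
  have hSle : S ≤ R := by
    by_contra hnle
    have hlt : R < S ⊔ R := lt_of_le_of_ne le_sup_right fun e => hnle (le_sup_left.trans e.ge)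
    refine lt_irrefl R ((Cores.Normalizer.lt_normalizer_inf hUn hlt).trans_le ?_)
    rw [hNR]
    intro u hu
    obtain ⟨huN, hu2⟩ := Subgroup.mem_inf.1 hu
    rw [← SetLike.mem_coe,
      Subgroup.coe_mul_of_right_le_normalizer_left _ _ (hTM.trans hSn)] at hu2
    obtain ⟨a, ha, b, hb, rfl⟩ := hu2
    have hbR : b ∈ R := hb
    have haN : a ∈ N := by
      have := N.mul_mem huN (N.inv_mem (Subgroup.map_subtype_le _ hbR))
      simpa using this
    exact R.mul_mem (hSR ⟨ha, haN⟩) hbR
  obtain ⟨e⟩ := h.iso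
  have hcard : Nat.card ↥S = Nat.card ↥R := by
    rw [hS, hR, hTdef, ← Cores.map_pCore_equiv (p := p) e]
    simp only [Subgroup.card_map_of_injective M.subtype_injective,
      Subgroup.card_map_of_injective N.subtype_injective,
      Subgroup.card_map_of_injective (f := e.toMonoidHom) e.injective]
  have hSeq : S = R := Subgroup.eq_of_le_of_card_ge hSle hcard.ge
  refine h.ne ?_
  rw [← hNR, ← hSeq, h.normalizer_left (Subgroup.map_subtype_le _) (fun h0 => hRne (hSeq.symm.trans h0)) hSn]

theorem pCore_ne_bot_iff (h : Pair M N) {p : ℕ} : pCore p ↥M ≠ ⊥ ↔ pCore p ↥N ≠ ⊥ := by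
  obtain ⟨e⟩ := h.iso
  rw [← Cores.map_pCore_equiv (p := p) e, ne_eq, ne_eq,
    Subgroup.map_eq_bot_iff_of_injective _ e.injective]

theorem isPGroup_sndCore₂ (h : Pair M N) {p : ℕ} [Fact p.Prime] (hT : pCore p ↥N ≠ ⊥) :
    IsPGroup p ↥(sndCore₂ M N) := by
  have := isPGroup_fstCore₂ h.symm ((pCore_ne_bot_iff h).2 hT)
  rwa [fstCore₂, fstCore, sndCore, inf_comm N M, inf_comm] at this

/-- Components of `M` lie in `N`. -/
theorem component_le (h : Pair M N) {K : Subgroup ↥M} (hK : IsComponent K) :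
    K.map M.subtype ≤ N := by
  set X := sndCore₂ M N with hX
  have hXn : N ≤ Subgroup.normalizer (X : Set G) := le_normalizer_coreIn _ _
  have hXN : Subgroup.normalizer (X : Set G) = N :=
    h.normalizer_right (coreIn_le_left _ _) h.neN hXn
  have hsn : (X.subgroupOf M).IsSubnormal := isSubnormal_left (sndCore₂_le.trans inf_le_left) hXn
  have hkN : K ≤ Subgroup.normalizer ((X.subgroupOf M : Subgroup ↥M) : Set ↥M) := by
    rcases Component.le_or_commutator_eq_bot hK hsn with hle | hc
    · exact hle.trans Subgroup.le_normalizer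
    · exact (Subgroup.commutator_eq_bot_iff_le_centralizer.1
        ((Subgroup.commutator_comm _ _).trans hc)).trans (Subgroup.centralizer_le_normalizer _)
  rintro _ ⟨k, hk, rfl⟩
  have hXM : X ≤ M := sndCore₂_le_inf.trans inf_le_left
  have h' := Subgroup.mem_normalizer_iff.1 (hkN hk)
  rw [← hXN, Subgroup.mem_normalizer_iff]
  intro x
  constructor
  · intro hx
    exact Subgroup.mem_subgroupOf.1 ((h' ⟨x, hXM hx⟩).1 (Subgroup.mem_subgroupOf.2 hx))
  · intro hx
    have hxM : x ∈ M := by
      have := M.mul_mem (M.mul_mem (M.inv_mem k.2) (hXM hx)) k.2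
      simpa [mul_assoc] using this
    exact Subgroup.mem_subgroupOf.1 ((h' ⟨x, hxM⟩).2 (Subgroup.mem_subgroupOf.2 hx))

theorem exists_prime (h : Pair M N) : ∃ p : ℕ, p.Prime ∧ pCore p ↥N ≠ ⊥ := by
  by_contra hcon
  simp only [not_exists, not_and, ne_eq, not_not] at hcon
  have hM : ∀ p : ℕ, p.Prime → pCore p ↥M = ⊥ := fun p hp => by
    by_contra hne
    exact (pCore_ne_bot_iff h).1 hne (hcon p hp)
  have hF : ∀ {A B : Subgroup G}, Pair A B → (∀ p : ℕ, p.Prime → pCore p ↥A = ⊥) →
      (generalizedFittingSubgroup ↥A).map A.subtype ≤ B := by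
    intro A B hAB h0
    rw [generalizedFittingSubgroup, Cores.fittingSubgroup_eq_iSup_pCore, Subgroup.map_sup]
    refine sup_le ?_ ?_
    · rw [layer, Subgroup.map_le_iff_le_comap]
      exact sSup_le fun K hK => Subgroup.map_le_iff_le_comap.1 (component_le hAB hK)
    · rw [Subgroup.map_le_iff_le_comap]
      refine iSup_le fun q => ?_
      rw [h0 q q.2]
      exact bot_le
  obtain ⟨p, hp, hC, -, -⟩ := S3752.result M N h.ne (fun A hA hle => ⟨fun hn => by
      rw [h.normalizer_left (hle.trans inf_le_left) hA hn, inf_comm], fun hn => by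
      rw [h.normalizer_right (hle.trans inf_le_right) hA hn]⟩)
    (hF h hM) (hF h.symm hcon)
  rw [hM p hp] at hC
  apply h.neM
  rw [eq_bot_iff]
  intro x hx
  have hxM : x ∈ M := coreIn_le_left _ _ hx
  have : (⟨x, hxM⟩ : ↥M) ∈ (⊥ : Subgroup ↥M) := hC fun y hy => by
    rw [SetLike.mem_coe, Subgroup.mem_bot] at hy
    simp [hy]
  simpa using congrArg Subtype.val (Subgroup.mem_bot.1 this)

theorem genFitting_eq (h : Pair M N) {p : ℕ} [Fact p.Prime] (hT : pCore p ↥N ≠ ⊥) :
    generalizedFittingSubgroup ↥M = pCore p ↥M := by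
  have hA : IsPGroup p ↥(fstCore₂ M N) := isPGroup_fstCore₂ h hT
  have hfit : fittingSubgroup ↥M = pCore p ↥M := by
    refine le_antisymm ?_ (Cores.pCore_le_fittingSubgroup p)
    rw [Cores.fittingSubgroup_eq_iSup_pCore]
    refine iSup_le fun q => ?_
    by_cases hq : (q : ℕ) = p
    · rw [hq]
    · haveI : Fact (q : ℕ).Prime := ⟨q.2⟩
      by_contra hne
      have hne' : pCore (q : ℕ) ↥M ≠ ⊥ := fun h0 => hne (h0.le.trans bot_le)
      have hq' := isPGroup_fstCore₂ h ((pCore_ne_bot_iff h).1 hne')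
      have hdis : Disjoint (fstCore₂ M N) (fstCore₂ M N) :=
        hq'.disjoint_of_ne q p hq _ _ hA
      exact h.neM (disjoint_self.1 hdis)
  have hlay : layer ↥M = ⊥ := by
    set T := (pCore p ↥N).map N.subtype with hT'
    set U := (T ⊓ M).subgroupOf M with hU
    set L := (layer ↥M).map M.subtype with hL
    have hLN : L ≤ N := by
      rw [hL, layer, Subgroup.map_le_iff_le_comap]
      exact sSup_le fun K hK => Subgroup.map_le_iff_le_comap.1 (component_le h hK)
    have hTn : N ≤ Subgroup.normalizer (T : Set G) := le_normalizer_map' N _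
    have hUn : layer ↥M ≤ Subgroup.normalizer (U : Set ↥M) := by
      intro k hk
      have h1 := Subgroup.mem_normalizer_iff.1 (hTn (hLN (Subgroup.mem_map_of_mem _ hk)))
      rw [Subgroup.mem_normalizer_iff]
      intro y
      simp only [hU, Subgroup.mem_subgroupOf, Subgroup.mem_inf, SetLike.coe_mem, and_true]
      exact h1 (y : G)
    have hUp : IsPGroup p ↥U :=
      (((Cores.pCore_isPGroup p).map N.subtype).to_le inf_le_left).of_equiv
        (Subgroup.subgroupOfEquivOfLe inf_le_right).symm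
    have hcomm : ⁅layer ↥M, U⁆ ≤ U := Subgroup.le_normalizer_iff_commutator_le_right.1 hUn
    have hcent : ∀ K : Subgroup ↥M, IsComponent K → K ≤ Subgroup.centralizer (U : Set ↥M) := by
      intro K hK
      refine (FStarTools.component_le_commutator_or_le_centralizer hK U).resolve_left fun hle => ?_
      haveI := solvable_of_pGroup hUp
      exact Component.not_le_of_isSolvable hK (hle.trans hcomm)
    have hA2T : fstCore₂ M N ≤ T := by
      have hle : fstCore₂ M N ≤ N := fstCore₂_le_inf.trans inf_le_right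
      have hsn := isSubnormal_right (M := M) (N := N) (fstCore₂_le.trans inf_le_right)
        (le_normalizer_coreIn _ _)
      have := Subgroup.map_mono (f := N.subtype)
        (Cores.IsSubnormal.le_pCore hsn (hA.of_equiv (Subgroup.subgroupOfEquivOfLe hle).symm))
      rwa [Subgroup.map_subgroupOf_eq_of_le hle] at this
    have hLB : L ≤ sndCore M N := by
      intro x hx
      refine mem_coreIn (hLN hx) fun m hm => ⟨?_, N.mul_mem (N.mul_mem hm (hLN hx)) (N.inv_mem hm)⟩
      have hA2 := h.normalizer_left (coreIn_le_left _ _) h.neM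
        (le_normalizer_coreIn M (fstCore M N ⊓ sndCore M N))
      rw [← hA2]
      refine Subgroup.mem_normalizer_iff.2 fun a => ?_
      have hfix : ∀ b ∈ fstCore₂ M N, m * x * m⁻¹ * b * (m * x * m⁻¹)⁻¹ = b := by
        intro b hb
        have hbB : m⁻¹ * b * m ∈ sndCore M N :=
          (Subgroup.mem_normalizer_iff''.1 (le_normalizer_coreIn N (M ⊓ N) hm) b).1
            (fstCore₂_le hb).2
        have hbT : m⁻¹ * b * m ∈ T :=
          (Subgroup.mem_normalizer_iff''.1 (hTn hm) b).1 (hA2T hb)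
        have hbM : m⁻¹ * b * m ∈ M := (coreIn_le_right _ _ hbB).1
        obtain ⟨k, hk, rfl⟩ := hx
        have hk' : k ∈ Subgroup.centralizer (U : Set ↥M) := by
          have : layer ↥M ≤ Subgroup.centralizer (U : Set ↥M) := sSup_le hcent
          exact this hk
        have := congrArg Subtype.val
          (Subgroup.mem_centralizer_iff.1 hk' ⟨_, hbM⟩ (Subgroup.mem_subgroupOf.2 ⟨hbT, hbM⟩))
        simp only [Subgroup.coe_mul] at this
        calc _ = m * ((k : G) * (m⁻¹ * b * m)) * (k : G)⁻¹ * m⁻¹ := by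
              simp only [Subgroup.coe_subtype]; group
          _ = b := by rw [← this]; group
      constructor
      · intro ha; rw [hfix a ha]; exact ha
      · intro ha
        have h2 : m * x * m⁻¹ * (m * x * m⁻¹ * a * (m * x * m⁻¹)⁻¹) * (m * x * m⁻¹)⁻¹
            = m * x * m⁻¹ * a * (m * x * m⁻¹)⁻¹ := hfix _ ha
        have := mul_left_cancel (mul_right_cancel h2)
        rwa [← this]
    have hLM : M ≤ Subgroup.normalizer (L : Set G) := le_normalizer_map' M _
    have hLA : L ≤ fstCore₂ M N :=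
      le_coreIn (Subgroup.map_subtype_le _)
        (le_inf (le_coreIn (Subgroup.map_subtype_le _) (le_inf (Subgroup.map_subtype_le _) hLN) hLM)
          hLB) hLM
    by_contra hne
    obtain ⟨K, hK⟩ := Layer.layer_ne_bot_iff.1 hne
    have hp' : IsPGroup p ↥(layer ↥M) :=
      (hA.to_le hLA).of_equiv (Subgroup.equivMapOfInjective _ _ M.subtype_injective).symm
    haveI := solvable_of_pGroup hp'
    exact Component.not_le_of_isSolvable hK (Layer.component_le_layer hK)
  rw [generalizedFittingSubgroup, hlay, bot_sup_eq, hfit]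

theorem genFitting_normal {X : Type*} [Group X] [Finite X] {p : ℕ} [Fact p.Prime]
    (hX : generalizedFittingSubgroup X = pCore p X) (S : Subgroup X) [S.Normal] :
    generalizedFittingSubgroup ↥S = pCore p ↥S := by
  have hS : S.IsSubnormal := (inferInstance : S.Normal).isSubnormal
  have hl : layer ↥S = ⊥ := by
    by_contra hne
    obtain ⟨K, hK⟩ := Layer.layer_ne_bot_iff.1 hne
    have hsol := solvable_of_pGroup (Cores.pCore_isPGroup (G := X) p)
    have hK' : IsComponent (K.map S.subtype) := Component.map_subtype hS hK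
    exact Component.not_le_of_isSolvable hK'
      ((Layer.component_le_layer hK').trans (GenFitting.layer_le_generalizedFitting.trans hX.le))
  rw [generalizedFittingSubgroup, hl, bot_sup_eq]
  refine le_antisymm (Cores.le_pCore ?_) (Cores.pCore_le_fittingSubgroup p)
  have h1 : (fittingSubgroup ↥S).map S.subtype ≤ pCore p X :=
    ((FStarTools.map_fitting_subnormal hS).le.trans inf_le_left).trans
      (GenFitting.fitting_le_generalizedFitting.trans hX.le)
  exact ((Cores.pCore_isPGroup p).to_le h1).of_equiv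
    (Subgroup.equivMapOfInjective _ _ S.subtype_injective).symm

theorem genFitting_coreIn {X : Subgroup G} {p : ℕ} [Fact p.Prime]
    (hX : generalizedFittingSubgroup ↥M = pCore p ↥M) :
    generalizedFittingSubgroup ↥(coreIn M X) = pCore p ↥(coreIn M X) := by
  unfold coreIn
  set e := Subgroup.equivMapOfInjective (X.subgroupOf M).normalCore M.subtype M.subtype_injective
  rw [← GenFitting.map_generalizedFitting e, ← Cores.map_pCore_equiv (p := p) e,
    genFitting_normal hX]

/-- A form of the Thompson–Wielandt Theorem on primitive permutation groups. Let G be a finite group and M₁, M₂ two distinct conjugate maximal subgroups of G with trivial core in G; define two descending sequences of subgroups by A₀ = M₁, B₀ = M₂ and, for every i, A_{i+1} = the core in M₁ of A_i ∩ B_i and B_{i+1} = the core in M₂ of A_i ∩ B_i (the core in M of a subgroup Y ≤ M is the largest normal subgroup of M contained in Y). If A₂ and B₂ are both non-trivial, then for some prime p the subgroup generated by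 A₂ and B₂ is a p-group, and for each j the generalized Fitting subgroups of M_j and of its first core (A₁, resp. B₁) are their largest normal p-subgroups. -/
theorem result {G : Type*} [Group G] [Finite G] (M₁ M₂ : Subgroup G) (hmax : IsCoatom M₁) (g : G)
    (hconj : M₂ = M₁.map (MulAut.conj g).toMonoidHom) (hne : M₁ ≠ M₂) (hcore : M₁.normalCore = ⊥)
    (A B : ℕ → Subgroup G) (hA0 : A 0 = M₁) (hB0 : B 0 = M₂)
    (hA : ∀ i, A (i + 1) = ((A i ⊓ B i).subgroupOf M₁).normalCore.map M₁.subtype)
    (hB : ∀ i, B (i + 1) = ((A i ⊓ B i).subgroupOf M₂).normalCore.map M₂.subtype) (hA2 : A 2 ≠ ⊥) (hB2 : B 2 ≠ ⊥) :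
    ∃ p : ℕ, p.Prime ∧ IsPGroup p ↥(A 2 ⊔ B 2) ∧
      Cfsg.generalizedFittingSubgroup ↥M₁ = Cfsg.pCore p ↥M₁ ∧ Cfsg.generalizedFittingSubgroup ↥(A 1) = Cfsg.pCore p ↥(A 1) ∧
      Cfsg.generalizedFittingSubgroup ↥M₂ = Cfsg.pCore p ↥M₂ ∧ Cfsg.generalizedFittingSubgroup ↥(B 1) = Cfsg.pCore p ↥(B 1) := by
  have hA1 : A 1 = coreIn M₁ (M₁ ⊓ M₂) := by rw [hA 0, hA0, hB0]; rfl
  have hB1 : B 1 = coreIn M₂ (M₁ ⊓ M₂) := by rw [hB 0, hA0, hB0]; rfl
  have hA2' : A 2 = fstCore₂ M₁ M₂ := by rw [hA 1, hA1, hB1]; rfl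
  have hB2' : B 2 = sndCore₂ M₁ M₂ := by rw [hB 1, hA1, hB1]; rfl
  have hP : Pair M₁ M₂ := by
    refine ⟨hmax, ?_, hcore, ?_, hne, ?_, fun h0 => hA2 (hA2'.trans h0), fun h0 => hB2 (hB2'.trans h0)⟩
    · rw [hconj]
      exact OrderIso.isCoatom_iff (MulAut.conj g).mapSubgroup M₁ |>.2 hmax
    · rw [eq_bot_iff]
      intro x hx
      have hx' : x ∈ M₁.normalCore := fun y => by
        obtain ⟨z, hz, hze⟩ := hconj ▸ hx (g * y)
        have hze' : g * z * g⁻¹ = g * y * x * (g * y)⁻¹ := hze
        have hz' : z = y * x * y⁻¹ := by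
          calc z = g⁻¹ * (g * z * g⁻¹) * g := by group
            _ = y * x * y⁻¹ := by rw [hze']; group
        exact hz' ▸ hz
      rw [hcore] at hx'
      exact hx'
    · exact ⟨(Subgroup.equivMapOfInjective M₁ _ (MulAut.conj g).injective).trans
        (MulEquiv.subgroupCongr hconj.symm)⟩
  obtain ⟨p, hp, hT⟩ := exists_prime hP
  haveI := Fact.mk hp
  refine ⟨p, hp, ?_, genFitting_eq hP hT, ?_, genFitting_eq hP.symm ((pCore_ne_bot_iff hP).2 hT), ?_⟩
  · rw [hA2', hB2']
    refine (isPGroup_fstCore₂ hP hT).to_sup_of_normal_left' (isPGroup_sndCore₂ hP hT) ?_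
    exact (sndCore₂_le_inf.trans inf_le_left).trans (le_normalizer_coreIn _ _)
  · rw [hA1]
    exact genFitting_coreIn (genFitting_eq hP hT)
  · rw [hB1]
    exact genFitting_coreIn (genFitting_eq hP.symm ((pCore_ne_bot_iff hP).2 hT))

end Cfsg.Agent.S5752
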