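import Cfsg.Statements.S5754
-- import your own Cfsg.Agent.* helpers here

set_option autoImplicit false
open Cfsg

namespace Cfsg.Agent.S5754

/-- The reflection in a vector `d` with `Q d ≠ 0`. -/
lemma exists_reflection {F V : Type*} [Field F] [AddCommGroup V] [Module F V] (Q : QuadraticForm F V) (d : V)
    (hd : Q d ≠ 0) : ∃ r : Q.IsometryEquiv Q, ∀ x, r x = x - (QuadraticMap.polar Q x d / Q d) • d := by
  let f : V →ₗ[F] V :=
    { toFun := fun x => x - (QuadraticMap.polar Q x d / Q d) • d
      map_add' := fun x y => by rw [QuadraticMap.polar_add_left, add_div, add_smul]; abel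
      map_smul' := fun a x => by
        rw [QuadraticMap.polar_smul_left, smul_eq_mul, mul_div_assoc, mul_smul, smul_sub, RingHom.id_apply] }
  have hf : ∀ x, f (f x) = x := by
    intro x
    show f x - (QuadraticMap.polar Q (f x) d / Q d) • d = x
    have h1 : QuadraticMap.polar Q (f x) d = - QuadraticMap.polar Q x d := by
      show QuadraticMap.polar Q (x - (QuadraticMap.polar Q x d / Q d) • d) d = _
      rw [QuadraticMap.polar_sub_left, QuadraticMap.polar_smul_left, QuadraticMap.polar_self, smul_eq_mul, nsmul_eq_mul]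
      field_simp
      push_cast
      ring
    rw [h1, neg_div, neg_smul, sub_neg_eq_add]
    exact sub_add_cancel _ _
  refine ⟨⟨LinearEquiv.ofLinear f f (LinearMap.ext hf) (LinearMap.ext hf), fun x => ?_⟩, fun x => rfl⟩
  show Q (x - (QuadraticMap.polar Q x d / Q d) • d) = Q x
  rw [sub_eq_add_neg, ← neg_smul, QuadraticMap.map_add (⇑Q), QuadraticMap.map_smul, QuadraticMap.polar_smul_right]
  simp only [smul_eq_mul]
  field_simp
  ring

/-- Tuples with equal Gram data are related by an isometry. -/
lemma greedy {F V ι : Type*} [Field F] [AddCommGroup V] [Module F V] (Q : QuadraticForm F V) (hQ : Q.Anisotropic)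
    (v w : ι → V) (h1 : ∀ i, Q (v i) = Q (w i))
    (h2 : ∀ i j, QuadraticMap.polar Q (v i) (v j) = QuadraticMap.polar Q (w i) (w j)) (s : Finset ι) :
    ∃ ψ : Q.IsometryEquiv Q, ∀ i ∈ s, ψ (v i) = w i := by
  classical
  induction s using Finset.induction with
  | empty => exact ⟨QuadraticMap.IsometryEquiv.refl Q, by simp⟩
  | insert a s ha ih =>
    obtain ⟨ψ, hψ⟩ := ih
    by_cases heq : ψ (v a) = w a
    · exact ⟨ψ, fun i hi => (Finset.mem_insert.mp hi).elim (fun h => h ▸ heq) (hψ i)⟩
    set d := ψ (v a) - w a with hd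
    have hd0 : Q d ≠ 0 := fun h => heq (sub_eq_zero.mp (hQ d h))
    obtain ⟨r, hr⟩ := exists_reflection Q d hd0
    have hB : ∀ x y, QuadraticMap.polar Q (ψ x) (ψ y) = QuadraticMap.polar Q x y := by
      intro x y
      simp only [QuadraticMap.polar, ← map_add, QuadraticMap.IsometryEquiv.map_app]
    have hQd : Q d = 2 * Q (w a) - QuadraticMap.polar Q (ψ (v a)) (w a) := by
      rw [hd, sub_eq_add_neg, QuadraticMap.map_add (⇑Q), QuadraticMap.map_neg, QuadraticMap.polar_neg_right,
        QuadraticMap.IsometryEquiv.map_app, h1]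
      ring
    refine ⟨ψ.trans r, fun i hi => ?_⟩
    show r (ψ (v i)) = w i
    rcases Finset.mem_insert.mp hi with rfl | hi
    · have hpd : QuadraticMap.polar Q (ψ (v i)) d = Q d := by
        rw [hQd, hd, QuadraticMap.polar_sub_right, QuadraticMap.polar_self, QuadraticMap.IsometryEquiv.map_app,
          h1, nsmul_eq_mul]
        norm_num
      rw [hr, hpd, div_self hd0, one_smul, hd, sub_sub_cancel]
    · have hpd : QuadraticMap.polar Q (w i) d = 0 := by
        rw [hd, QuadraticMap.polar_sub_right, ← hψ i hi, hB, h2, hψ i hi, sub_self]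
      rw [hψ i hi, hr, hpd, zero_div, zero_smul, sub_zero]


/-- Let V be a finite-dimensional vector space over a finite field F carrying an anisotropic quadratic form Q (Q(v) = 0 only for v = 0). Then the group of all maps v ↦ φ(v) + c, with φ an isometry of Q and c ∈ V, acts on V as a binary permutation group: given n ≥ 2 and two n-tuples u, u' of vectors such that every pair of corresponding entries of u is carried to that of u' by such a map, one such map carries u to u'. -/
theorem result {F V : Type*} [Field F] [Finite F] [AddCommGroup V] [Module F V] [Module.Finite F V]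
    (Q : QuadraticForm F V) (hQ : Q.Anisotropic) (n : ℕ) (hn : 2 ≤ n) (u u' : Fin n → V)
    (h2 : ∀ i j : Fin n, i ≠ j → ∃ (φ : Q.IsometryEquiv Q) (c : V), φ (u i) + c = u' i ∧ φ (u j) + c = u' j) :
    ∃ (φ : Q.IsometryEquiv Q) (c : V), ∀ i, φ (u i) + c = u' i := by
  choose φ c hφ using fun i j h => h2 i j h
  have hQ' : ∀ i j, Q (u i - u j) = Q (u' i - u' j) := by
    intro i j
    rcases eq_or_ne i j with rfl | h
    · simp
    · have h1 := (hφ i j h).1
      have h2 := (hφ i j h).2
      rw [← h1, ← h2, add_sub_add_right_eq_sub, ← map_sub, QuadraticMap.IsometryEquiv.map_app]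
  obtain ⟨i0⟩ : Nonempty (Fin n) := ⟨⟨0, by omega⟩⟩
  have hpol : ∀ i j, QuadraticMap.polar Q (u i - u i0) (u j - u i0) = QuadraticMap.polar Q (u' i - u' i0) (u' j - u' i0) := by
    intro i j
    have key : ∀ a b : V, QuadraticMap.polar Q a b = Q a + Q b - Q (a - b) := by
      intro a b
      have h := QuadraticMap.map_add (⇑Q) a (-b)
      rw [← sub_eq_add_neg, QuadraticMap.map_neg, QuadraticMap.polar_neg_right] at h
      rw [h]; ring
    rw [key, key, sub_sub_sub_cancel_right, sub_sub_sub_cancel_right, hQ', hQ', hQ']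
  obtain ⟨ψ, hψ⟩ := greedy Q hQ (fun i => u i - u i0) (fun i => u' i - u' i0) (fun i => hQ' i i0) hpol Finset.univ
  refine ⟨ψ, u' i0 - ψ (u i0), fun i => ?_⟩
  have h1 := hψ i (Finset.mem_univ i)
  rw [map_sub] at h1
  rw [← add_sub_cancel_right (ψ (u i)) (ψ (u i0))] at *
  rw [sub_eq_iff_eq_add] at h1
  rw [show ψ (u i) = u' i - u' i0 + ψ (u i0) by simpa using h1]
  abel

end Cfsg.Agent.S5754
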