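import Cfsg.Statements.S5763
-- import your own Cfsg.Agent.* helpers here

set_option autoImplicit false
open Cfsg

namespace Cfsg.Agent.S5763

/-- The level of the least common ancestor of two leaves in the binary tree on eight leaves. -/
def lvl (a b : ℕ) : ℕ := if a = b then 0 else if a / 2 = b / 2 then 1 else if a / 4 = b / 4 then 2 else 3

/-- Witness involutions of the tree group. -/
def tab : List (List ℕ) :=
   [[1,0,3,2,5,4,7,6],
    [1,0,3,2,6,7,4,5],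
    [1,0,3,2,7,6,5,4],
    [0,1,2,3,4,5,7,6],
    [0,1,2,3,5,4,6,7],
    [0,1,3,2,4,5,6,7],
    [1,0,2,3,4,5,6,7],
    [4,5,6,7,0,1,2,3],
    [4,5,7,6,0,1,3,2],
    [5,4,6,7,1,0,2,3],
    [5,4,7,6,1,0,3,2],
    [6,7,4,5,2,3,0,1],
    [6,7,5,4,3,2,0,1],
    [7,6,4,5,2,3,1,0],
    [7,6,5,4,3,2,1,0]]

/-- The action of the witness `k`. -/
def act (k : Fin 15) (a : Fin 8) : Fin 8 := Fin.ofNat 8 (((tab.getD k.val []).getD a.val 0))

lemma act_invol : ∀ k a, act k (act k a) = a := by decide +kernel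
lemma act_lvl : ∀ k (i j : Fin 8), lvl (act k i).val (act k j).val = lvl i.val j.val := by decide +kernel
lemma act_ne : ∀ k, ∃ a, act k a ≠ a := by decide +kernel

/-- The tree group. -/
def tree : Subgroup (Equiv.Perm (Fin 8)) where
  carrier := {g | ∀ i j : Fin 8, lvl (g i).val (g j).val = lvl i.val j.val}
  one_mem' := fun i j => rfl
  mul_mem' := fun {g h} hg hh i j => (hg (h i) (h j)).trans (hh i j)
  inv_mem' := fun {g} hg i j => by
    have := hg (g.symm i) (g.symm j)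
    rw [Equiv.apply_symm_apply, Equiv.apply_symm_apply] at this
    exact this.symm

/-- The other leaf of a pair. -/
def mate (a : Fin 8) : Fin 8 := if a.val % 2 = 0 then a + 1 else a - 1

/-- The map determined by the images of `0, 2, 4, 6`. -/
def mk4 (a c e f : Fin 8) : Fin 8 → Fin 8 := ![a, mate a, c, mate c, e, mate e, f, mate f]

lemma lvl_one : ∀ a y : Fin 8, lvl a.val y.val = 1 → y = mate a := by decide +kernel

set_option maxHeartbeats 4000000 in
lemma mk4_order : ∀ a c : Fin 8, lvl a.val c.val = 2 → ∀ e : Fin 8, lvl a.val e.val = 3 → ∀ f : Fin 8, lvl e.val f.val = 2 →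
    ∀ i, (mk4 a c e f)^[8] i = i := by decide +kernel

lemma isPGroup_tree : IsPGroup 2 tree := by
  intro g
  refine ⟨3, Subtype.ext (Equiv.ext fun i => ?_)⟩
  have hg : ∀ i j : Fin 8, lvl (g.1 i).val (g.1 j).val = lvl i.val j.val := g.2
  have hf : (g.1 : Fin 8 → Fin 8) = mk4 (g.1 0) (g.1 2) (g.1 4) (g.1 6) := by
    funext x
    fin_cases x
    · rfl
    · exact lvl_one _ _ (hg 0 1)
    · rfl
    · exact lvl_one _ _ (hg 2 3)
    · rfl
    · exact lvl_one _ _ (hg 4 5)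
    · rfl
    · exact lvl_one _ _ (hg 6 7)
  show ((g.1) ^ 8) i = i
  rw [Equiv.Perm.coe_pow, hf]
  exact mk4_order _ _ (hg 0 2) _ (hg 0 4) _ (hg 4 6) i

/-- The certificate test for a tree given by its leaf list. -/
def check (L : List (Fin 8)) : Bool :=
  (List.finRange 15).any fun k => (List.range 8).all fun i => (List.range i).all fun j =>
    lvl (L.idxOf (act k (L.getD i 0))) (L.idxOf (act k (L.getD j 0))) == lvl i j

set_option maxHeartbeats 4000000 in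
set_option synthInstance.maxSize 20000 in
set_option synthInstance.maxHeartbeats 400000 in
lemma cert : ∀ a b : Fin 8, a < b → ∀ c : Fin 8, a < c → c ≠ b → ∀ d : Fin 8, c < d → d ≠ b →
    ∀ e : Fin 8, a < e → e ≠ b → e ≠ c → e ≠ d → ∀ f : Fin 8, e < f → f ≠ b → f ≠ c → f ≠ d →
    ∀ g : Fin 8, e < g → g ≠ b → g ≠ c → g ≠ d → g ≠ f → ∀ h : Fin 8, g < h → h ≠ b → h ≠ c → h ≠ d → h ≠ f →
    check [a, b, c, d, e, f, g, h] = true := by decide +kernel

lemma exists_mem_meet (y : Equiv.Perm (Fin 8))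
    (h : y 0 < y 1 ∧ y 2 < y 3 ∧ y 4 < y 5 ∧ y 6 < y 7 ∧ y 0 < y 2 ∧ y 4 < y 6 ∧ y 0 < y 4) :
    ∃ g ∈ tree, g ≠ 1 ∧ y⁻¹ * g * y ∈ tree := by
  obtain ⟨h01, h23, h45, h67, h02, h46, h04⟩ := h
  have hne : ∀ i j : Fin 8, i ≠ j → y i ≠ y j := fun i j hij he => hij (y.injective he)
  have hc := cert (y 0) (y 1) h01 (y 2) h02 (hne 2 1 (by decide)) (y 3) h23 (hne 3 1 (by decide))
    (y 4) h04 (hne 4 1 (by decide)) (hne 4 2 (by decide)) (hne 4 3 (by decide))
    (y 5) h45 (hne 5 1 (by decide)) (hne 5 2 (by decide)) (hne 5 3 (by decide))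
    (y 6) h46 (hne 6 1 (by decide)) (hne 6 2 (by decide)) (hne 6 3 (by decide)) (hne 6 5 (by decide))
    (y 7) h67 (hne 7 1 (by decide)) (hne 7 2 (by decide)) (hne 7 3 (by decide)) (hne 7 5 (by decide))
  set L := List.ofFn y with hL
  have hLeq : [y 0, y 1, y 2, y 3, y 4, y 5, y 6, y 7] = L := by rw [hL]; simp [List.ofFn_succ]
  rw [hLeq] at hc
  simp only [check, List.any_eq_true, List.mem_finRange, true_and, List.all_eq_true, List.mem_range, beq_iff_eq] at hc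
  obtain ⟨k, hk⟩ := hc
  let g : Equiv.Perm (Fin 8) := Function.Involutive.toPerm (act k) (act_invol k)
  have hidx : ∀ i : Fin 8, L.idxOf (g (L.getD i.val 0)) = (y⁻¹ (g (y i))).val ∧ L.getD i.val 0 = y i := by
    intro i
    have h1 : L.getD i.val 0 = y i := by
      rw [hL, List.getD_eq_getElem _ _ (by simp), List.getElem_ofFn]
    refine ⟨?_, h1⟩
    rw [h1]
    have h2 : g (y i) = L.get ⟨(y⁻¹ (g (y i))).val, by simp [hL]⟩ := by
      rw [List.get_eq_getElem]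
      simp only [hL, List.getElem_ofFn, Fin.eta]
      exact (y.apply_symm_apply _).symm
    conv_lhs => rw [h2]
    exact List.get_idxOf (List.nodup_ofFn.mpr y.injective) _
  have hlt : ∀ i j : Fin 8, j.val < i.val →
      lvl (y⁻¹ (g (y i))).val (y⁻¹ (g (y j))).val = lvl i.val j.val := by
    intro i j hji
    rw [← (hidx i).1, ← (hidx j).1]
    exact hk i.val i.isLt j.val hji
  have hsymm : ∀ a b : ℕ, lvl a b = lvl b a := fun a b => by simp only [lvl, eq_comm]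
  refine ⟨g, act_lvl k, fun he => ?_, fun i j => ?_⟩
  · obtain ⟨a, ha⟩ := act_ne k
    exact ha (DFunLike.congr_fun he a)
  · show lvl (y⁻¹ (g (y i))).val (y⁻¹ (g (y j))).val = lvl i.val j.val
    rcases lt_trichotomy j.val i.val with h | h | h
    · exact hlt i j h
    · rw [Fin.ext h]; simp [lvl]
    · rw [hsymm, hlt j i h, hsymm]

/-- The transposition of leaves `i`, `i + 1` and the like. -/
def flip' (k : Fin 7) : Equiv.Perm (Fin 8) :=
  ![Equiv.swap 0 1, Equiv.swap 2 3, Equiv.swap 4 5, Equiv.swap 6 7, Equiv.swap 0 2 * Equiv.swap 1 3,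
    Equiv.swap 4 6 * Equiv.swap 5 7, Equiv.swap 0 4 * Equiv.swap 1 5 * Equiv.swap 2 6 * Equiv.swap 3 7] k

lemma flip_mem : ∀ k (i j : Fin 8), lvl (flip' k i).val (flip' k j).val = lvl i.val j.val := by decide +kernel

lemma exists_normal_form (x : Equiv.Perm (Fin 8)) :
    ∃ p ∈ tree, (x * p) 0 < (x * p) 1 ∧ (x * p) 2 < (x * p) 3 ∧ (x * p) 4 < (x * p) 5 ∧ (x * p) 6 < (x * p) 7 ∧
      (x * p) 0 < (x * p) 2 ∧ (x * p) 4 < (x * p) 6 ∧ (x * p) 0 < (x * p) 4 := by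
  have step : ∀ (k : Fin 7) (i j : Fin 8), i ≠ j → flip' k i = j → flip' k j = i → ∀ q : Equiv.Perm (Fin 8), q ∈ tree →
      ∃ r ∈ tree, (x * r) i < (x * r) j ∧ (r = q ∨ r = q * flip' k) := by
    intro k i j hij hi hj q hq
    rcases lt_or_gt_of_ne (show (x * q) i ≠ (x * q) j from fun h => hij ((x * q).injective h)) with h | h
    · exact ⟨q, hq, h, Or.inl rfl⟩
    · refine ⟨q * flip' k, mul_mem hq (flip_mem k), ?_, Or.inr rfl⟩
      simpa [Equiv.Perm.mul_apply, hi, hj] using h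
  obtain ⟨r0, m0, a0, -⟩ := step 0 0 1 (by decide) (by decide) (by decide) 1 (one_mem _)
  obtain ⟨r1, m1, a1, e1⟩ := step 1 2 3 (by decide) (by decide) (by decide) r0 m0
  obtain ⟨r2, m2, a2, e2⟩ := step 2 4 5 (by decide) (by decide) (by decide) r1 m1
  obtain ⟨r3, m3, a3, e3⟩ := step 3 6 7 (by decide) (by decide) (by decide) r2 m2
  have f0 : (x * r1) 0 < (x * r1) 1 := by rcases e1 with rfl | rfl <;> simpa [flip', Equiv.Perm.mul_apply, Equiv.swap_apply_def] using a0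
  have f0' : (x * r2) 0 < (x * r2) 1 ∧ (x * r2) 2 < (x * r2) 3 := by
    rcases e2 with rfl | rfl <;> simpa [flip', Equiv.Perm.mul_apply, Equiv.swap_apply_def] using And.intro f0 a1
  have f0'' : (x * r3) 0 < (x * r3) 1 ∧ (x * r3) 2 < (x * r3) 3 ∧ (x * r3) 4 < (x * r3) 5 := by
    rcases e3 with rfl | rfl <;> simpa [flip', Equiv.Perm.mul_apply, Equiv.swap_apply_def] using And.intro f0'.1 (And.intro f0'.2 a2)
  obtain ⟨b0, b1, b2⟩ := f0''
  obtain ⟨r4, m4, a4, e4⟩ := step 4 0 2 (by decide) (by decide) (by decide) r3 m3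
  have g4 : (x * r4) 0 < (x * r4) 1 ∧ (x * r4) 2 < (x * r4) 3 ∧ (x * r4) 4 < (x * r4) 5 ∧ (x * r4) 6 < (x * r4) 7 := by
    rcases e4 with rfl | rfl
    · exact ⟨b0, b1, b2, a3⟩
    · simp [flip', Equiv.Perm.mul_apply, Equiv.swap_apply_def] at b0 b1 b2 a3 ⊢
      exact ⟨b1, b0, b2, a3⟩
  obtain ⟨c0, c1, c2, c3⟩ := g4
  obtain ⟨r5, m5, a5, e5⟩ := step 5 4 6 (by decide) (by decide) (by decide) r4 m4
  have g5 : (x * r5) 0 < (x * r5) 1 ∧ (x * r5) 2 < (x * r5) 3 ∧ (x * r5) 4 < (x * r5) 5 ∧ (x * r5) 6 < (x * r5) 7 ∧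
      (x * r5) 0 < (x * r5) 2 := by
    rcases e5 with rfl | rfl
    · exact ⟨c0, c1, c2, c3, a4⟩
    · simp [flip', Equiv.Perm.mul_apply, Equiv.swap_apply_def] at c0 c1 c2 c3 a4 ⊢
      exact ⟨c0, c1, c3, c2, a4⟩
  obtain ⟨d0, d1, d2, d3, d4⟩ := g5
  obtain ⟨r6, m6, a6, e6⟩ := step 6 0 4 (by decide) (by decide) (by decide) r5 m5
  refine ⟨r6, m6, ?_⟩
  rcases e6 with rfl | rfl
  · exact ⟨d0, d1, d2, d3, d4, a5, a6⟩
  · simp [flip', Equiv.Perm.mul_apply, Equiv.swap_apply_def] at d0 d1 d2 d3 d4 a5 a6 ⊢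
    exact ⟨d2, d3, d0, d1, a5, d4, a6⟩

lemma meet_tree (x : Equiv.Perm (Fin 8)) : ∃ g : Equiv.Perm (Fin 8), g ≠ 1 ∧ g ∈ tree ∧ x⁻¹ * g * x ∈ tree := by
  obtain ⟨p, hp, h⟩ := exists_normal_form x
  obtain ⟨g, hg, hne, hy⟩ := exists_mem_meet (x * p) h
  refine ⟨g, hne, hg, ?_⟩
  have := mul_mem (mul_mem hp hy) (inv_mem hp)
  simpa [mul_assoc] using this


/-- In the symmetric group on 8 letters any two Sylow 2-subgroups have non-trivial intersection: for a Sylow 2-subgroup H and every element x, H ∩ xHx⁻¹ ≠ 1. -/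
theorem result (H : Sylow 2 (Equiv.Perm (Fin 8))) (x : Equiv.Perm (Fin 8)) :
    (H : Subgroup (Equiv.Perm (Fin 8))) ⊓ (H : Subgroup (Equiv.Perm (Fin 8))).map (MulAut.conj x).toMonoidHom ≠ ⊥ := by
  obtain ⟨H0, hH0⟩ := isPGroup_tree.exists_le_sylow
  obtain ⟨c, hc⟩ := MulAction.exists_smul_eq (Equiv.Perm (Fin 8)) H0 H
  obtain ⟨g, hne, hg, hgy⟩ := meet_tree (c⁻¹ * x * c)
  have hcmem : ∀ u, u ∈ H0.toSubgroup → c * u * c⁻¹ ∈ H.toSubgroup := by
    intro u hu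
    rw [← hc, Sylow.coe_subgroup_smul]
    exact ⟨u, hu, rfl⟩
  intro hbot
  have h1 : c * g * c⁻¹ ∈ (H : Subgroup (Equiv.Perm (Fin 8))) ⊓
      (H : Subgroup (Equiv.Perm (Fin 8))).map (MulAut.conj x).toMonoidHom := by
    refine ⟨hcmem g (hH0 hg), c * ((c⁻¹ * x * c)⁻¹ * g * (c⁻¹ * x * c)) * c⁻¹, hcmem _ (hH0 hgy), ?_⟩
    simp [mul_assoc]
  rw [hbot, Subgroup.mem_bot] at h1
  exact hne (by simpa [mul_assoc] using congrArg (fun z => c⁻¹ * z * c) h1)

end Cfsg.Agent.S5763
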