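import Cfsg.Statements.S5769
import Cfsg.Agent.Lib.E7Sixtyfive46.Torus
import Cfsg.Agent.Lib.E7Sixtyfive46.Model65
import Cfsg.Agent.Lib.Linear.SL2
import Mathlib.FieldTheory.Finite.Basic

set_option autoImplicit false
open Cfsg

namespace Cfsg.Agent.S5769

open Cfsg.Agent.Lib

theorem charTwo {F : Type*} [Field F] [Fintype F] {n : ℕ} (h : Fintype.card F = 2 ^ n) : CharP F 2 := by
  obtain ⟨p, hp⟩ := CharP.exists F
  obtain ⟨m, hprime, hm⟩ := FiniteField.card F p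
  have hd : p ∣ 2 ^ n := h ▸ hm ▸ dvd_pow_self p m.ne_zero
  rwa [← (Nat.prime_dvd_prime_iff_eq hprime Nat.prime_two).1 (hprime.dvd_of_dvd_pow hd)]

theorem exists_alpha {F : Type*} [Field F] [Fintype F] [CharP F 2] (h : 7 ∣ Fintype.card F - 1) :
    ∃ α : F, α ^ 3 + α + 1 = 0 ∧ α ^ 8 = α := by
  have h7 : Fact (Nat.Prime 7) := ⟨by norm_num⟩
  obtain ⟨u, hu⟩ := exists_prime_orderOf_dvd_card' (G := Fˣ) 7 (by
    rwa [Nat.card_units, Nat.card_eq_fintype_card])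
  have h2 : (2 : F) = 0 := CharTwo.two_eq_zero
  have hu7 : (u : F) ^ 7 = 1 := by rw [← Units.val_pow_eq_pow_val, ← hu, pow_orderOf_eq_one, Units.val_one]
  have hu1 : (u : F) - 1 ≠ 0 := fun h0 => by
    rw [show u = 1 from Units.ext (sub_eq_zero.1 h0), orderOf_one] at hu
    norm_num at hu
  have hfac : ((u : F) - 1) * (((u : F) ^ 3 + u + 1) * ((u : F) ^ 3 + (u : F) ^ 2 + 1)) = 0 := by
    linear_combination hu7 + ((u : F) ^ 4 - (u : F) ^ 3) * h2
  rcases mul_eq_zero.1 ((mul_eq_zero.1 hfac).resolve_left hu1) with h3 | h3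
  · exact ⟨u, h3, by rw [pow_succ, hu7, one_mul]⟩
  · have hi : (u : F) * ((u⁻¹ : Fˣ) : F) = 1 := u.mul_inv
    refine ⟨((u⁻¹ : Fˣ) : F), ?_, ?_⟩
    · linear_combination ((u⁻¹ : Fˣ) : F) ^ 3 * h3 -
        ((((u : F) * ((u⁻¹ : Fˣ) : F)) ^ 2 + (u : F) * ((u⁻¹ : Fˣ) : F) + 1) +
          ((u⁻¹ : Fˣ) : F) * ((u : F) * ((u⁻¹ : Fˣ) : F) + 1)) * hi
    · linear_combination (-((u⁻¹ : Fˣ) : F) ^ 8) * hu7 + ((u⁻¹ : Fˣ) : F) *
        ((((u : F) * ((u⁻¹ : Fˣ) : F)) ^ 6 + ((u : F) * ((u⁻¹ : Fˣ) : F)) ^ 5 + ((u : F) * ((u⁻¹ : Fˣ) : F)) ^ 4 +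
          ((u : F) * ((u⁻¹ : Fˣ) : F)) ^ 3 + ((u : F) * ((u⁻¹ : Fˣ) : F)) ^ 2 +
          (u : F) * ((u⁻¹ : Fˣ) : F) + 1) * hi)

theorem exists_trace_one {F : Type*} [Field F] [Fintype F] [CharP F 2] (h : Fintype.card F = 64) :
    ∃ x : F, x ^ 8 + x + 1 = 0 := by
  obtain ⟨y, hy⟩ := IsCyclic.exists_ofOrder_eq_natCard (α := Fˣ)
  rw [Nat.card_units, Nat.card_eq_fintype_card, h] at hy
  have h2 : (2 : F) = 0 := CharTwo.two_eq_zero
  have hy0 : (y : F) ^ 8 + y ≠ 0 := fun h0 => by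
    have h7 : y ^ 7 = 1 := Units.ext (by
      rw [Units.val_pow_eq_pow_val, Units.val_one]
      exact mul_right_cancel₀ y.ne_zero (by linear_combination h0 - (y : F) * h2))
    have := orderOf_dvd_of_pow_eq_one h7
    rw [hy] at this
    exact absurd (Nat.le_of_dvd (by norm_num) this) (by norm_num)
  set z := (y : F) ^ 8 + y with hz
  have h64 : (y : F) ^ 64 = y := by rw [← h]; exact FiniteField.pow_card (y : F)
  have hz8 : z ^ 8 = z := by
    rw [hz, show (8 : ℕ) = 2 ^ 3 from rfl, add_pow_char_pow, ← pow_mul, show 2 ^ 3 * 2 ^ 3 = 64 from rfl, h64,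
      add_comm]
  refine ⟨(y : F) / z, ?_⟩
  rw [div_pow, hz8, ← add_div, ← hz, div_self hy0, CharTwo.add_self_eq_zero]

theorem exists_PSL_two {F : Type*} [Field F] [Fintype F] [CharP F 2] (h : Fintype.card F = 64) :
    ∃ x : Matrix.ProjectiveSpecialLinearGroup (Fin 2) F, orderOf x = 65 := by
  obtain ⟨s, hs⟩ := Linear.exists_orderOf_eq_card_add_one (F := F)
  rw [h] at hs
  have hinj : Function.Injective
      (QuotientGroup.mk' (Subgroup.center (Matrix.SpecialLinearGroup (Fin 2) F))) := by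
    rw [← MonoidHom.ker_eq_bot_iff, QuotientGroup.ker_mk', eq_bot_iff]
    intro A hA
    obtain ⟨r, hr, hA⟩ := Matrix.SpecialLinearGroup.mem_center_iff.1 hA
    rw [Fintype.card_fin] at hr
    have hr1 : r = 1 := CharTwo.sq_injective (hr.trans (one_pow 2).symm)
    subst hr1
    rw [Subgroup.mem_bot]
    exact Subtype.ext (hA.symm.trans (map_one _))
  exact ⟨QuotientGroup.mk' _ s, (orderOf_injective _ hinj s).trans hs⟩

theorem no_embedding {A : Type*} [Group A] (hA : ∃ a : A, orderOf a = 65)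
    (H : Subgroup ↥(Cfsg.Lie.chevE7.group (ZMod 2))) : IsEmpty (↥H ≃* A) :=
  ⟨fun e => by
    obtain ⟨a, ha⟩ := hA
    refine E7Sixtyfive46.no_order65 ((e.symm a : ↥H) : ↥(Cfsg.Lie.chevE7.group (ZMod 2))) ?_
    rw [Subgroup.orderOf_coe, MulEquiv.orderOf_eq, ha]⟩

/-- The Chevalley group of type E₇ over the field with two elements (generated by its root elements in the adjoint representation) has no subgroup isomorphic to any of PSL₂(64), PSp₄(8), PSL₄(8), PSU₄(8) or PSp₆(8). Here F₈ and F₆₄ denote fields with 8 and 64 elements. -/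
theorem result {F₈ F₆₄ : Type*} [Field F₈] [Fintype F₈] (h8 : Fintype.card F₈ = 8) [Field F₆₄] [Fintype F₆₄] (h64 : Fintype.card F₆₄ = 64)
    (H : Subgroup ↥(Cfsg.Lie.chevE7.group (ZMod 2))) :
    IsEmpty (↥H ≃* Matrix.ProjectiveSpecialLinearGroup (Fin 2) F₆₄) ∧ IsEmpty (↥H ≃* Cfsg.PSp 2 F₈) ∧
    IsEmpty (↥H ≃* Matrix.ProjectiveSpecialLinearGroup (Fin 4) F₈) ∧ IsEmpty (↥H ≃* Cfsg.PSU 4 F₆₄ 8) ∧ IsEmpty (↥H ≃* Cfsg.PSp 3 F₈) := by
  have hc8 : CharP F₈ 2 := charTwo (n := 3) h8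
  have hc64 : CharP F₆₄ 2 := charTwo (n := 6) h64
  obtain ⟨a, ha, -⟩ := exists_alpha (F := F₈) (by rw [h8])
  obtain ⟨b, hb, hb8⟩ := exists_alpha (F := F₆₄) (by rw [h64]; norm_num)
  obtain ⟨x, hx⟩ := exists_trace_one (F := F₆₄) h64
  exact ⟨no_embedding (exists_PSL_two h64) H,
    no_embedding (E7Sixtyfive46.Model65.exists_PSp_two ha) H,
    no_embedding (E7Sixtyfive46.Model65.exists_PSL ha) H,
    no_embedding (E7Sixtyfive46.Model65.exists_PSU hb hx hb8) H,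
    no_embedding (E7Sixtyfive46.Model65.exists_PSp_three ha) H⟩

end Cfsg.Agent.S5769
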