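import Cfsg.Statements.S5778
import Cfsg.Agent.Lib.PrimeDim.SU3Subfield
import Cfsg.Agent.Lib.PrimeDim.SU3R
-- import your own Cfsg.Agent.* helpers here

set_option autoImplicit false
open Cfsg

namespace Cfsg.Agent.S5778

/-- Every maximal subgroup of SU_3(q), q ≥ 3, is of one of the listed geometric types or lies in the residual class. Let F be the field with q² elements, f the standard unitary form Σ u_i v_i^q on F^3, and H a maximal subgroup of SU_3(q) (the determinant-one isometries of f, inside GL_3(F)). Then H is the intersection with SU_3(q) of one of: the stabiliser of a non-zero subspace on which f vanishes; the stabiliser of a non-degenerate 1-space; for q ≠ 5, the stabiliser of a decomposition into three mutually orthogonal non-degenerate 1-spaces; for q ≠ 3, 5, the normaliser of an adjoint-closed degree-3 subfield of the matrix algebra; a subfield group of odd prime index whose F₀-structure carries f;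 for q odd, q ≥ 7, a subfield group of index 2 whose F₀-structure carries f; for q = p ≡ 2 mod 3 prime with p ≥ 11, the normaliser of an absolutely irreducible subgroup of order 27 with centre of order 3, exponent 3 and all characteristic abelian subgroups cyclic, contained in the similarity group of f — or else H lies in the residual class of the unitary case. -/
theorem result {F : Type*} [Field F] [Fintype F] (q : ℕ) (hF : Fintype.card F = q ^ 2) (hq : 3 ≤ q) (H : Subgroup (Matrix.GeneralLinearGroup (Fin 3) F)) (hH : Cfsg.Geo.IsMaximalIn (Cfsg.GU 3 F q ⊓ Cfsg.Geo.specialLinear (Fin 3) F) H) :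
    (∃ W : Submodule F (Fin 3 → F), W ≠ ⊥ ∧ Cfsg.Geo.IsTotallySingularFor (Cfsg.hermForm 3 F q) W ∧ H = Cfsg.Geo.subspaceStabilizer W ⊓ (Cfsg.GU 3 F q ⊓ Cfsg.Geo.specialLinear (Fin 3) F)) ∨
    (∃ W : Submodule F (Fin 3 → F), W ≠ ⊥ ∧ Cfsg.Geo.IsNondegenerateOn (Cfsg.hermForm 3 F q) W ∧ 2 * Module.finrank F W < 3 ∧ H = Cfsg.Geo.subspaceStabilizer W ⊓ (Cfsg.GU 3 F q ⊓ Cfsg.Geo.specialLinear (Fin 3) F)) ∨
    (q ≠ 5 ∧ ∃ D : Fin 3 → Submodule F (Fin 3 → F), Cfsg.Geo.IsNondegenerateMDecomposition (Cfsg.hermForm 3 F q) 1 D ∧ H = Cfsg.Geo.decompositionStabilizer D ⊓ (Cfsg.GU 3 F q ⊓ Cfsg.Geo.specialLinear (Fin 3) F)) ∨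
    (q ≠ 3 ∧ q ≠ 5 ∧ ∃ K : Subalgebra F (Matrix (Fin 3) (Fin 3) F), Cfsg.Geo.IsFieldSubalgebra 3 K ∧ Cfsg.Geo.IsAdjointClosedFor (Cfsg.hermForm 3 F q) K ∧ H = Cfsg.Geo.subalgebraNormalizer K ⊓ (Cfsg.GU 3 F q ⊓ Cfsg.Geo.specialLinear (Fin 3) F)) ∨
    (∃ (F₀ : Subfield F) (r : ℕ) (P : Matrix.GeneralLinearGroup (Fin 3) F), r.Prime ∧ Odd r ∧ Fintype.card F = Nat.card F₀ ^ r ∧ Cfsg.Geo.IsFormRationalStructure (Cfsg.hermForm 3 F q) F₀ 1 P ∧ H = Cfsg.Geo.subfieldSubgroup F₀ P ⊓ (Cfsg.GU 3 F q ⊓ Cfsg.Geo.specialLinear (Fin 3) F)) ∨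
    (Odd q ∧ 7 ≤ q ∧ ∃ (F₀ : Subfield F) (P : Matrix.GeneralLinearGroup (Fin 3) F), Fintype.card F = Nat.card F₀ ^ 2 ∧ Cfsg.Geo.IsFormRationalStructure (Cfsg.hermForm 3 F q) F₀ 1 P ∧ H = Cfsg.Geo.subfieldSubgroup F₀ P ⊓ (Cfsg.GU 3 F q ⊓ Cfsg.Geo.specialLinear (Fin 3) F)) ∨
    (∃ (p : ℕ) (R : Subgroup (Matrix.GeneralLinearGroup (Fin 3) F)), p.Prime ∧ q = p ∧ p % 3 = 2 ∧ 11 ≤ p ∧ Cfsg.Geo.IsSymplecticTypeGroup 3 R ∧ Cfsg.Geo.ActsAbsolutelyIrreducibly (Cfsg.Geo.matrixSet R) ∧ R ≤ Cfsg.Geo.similarityGroup (Cfsg.hermForm 3 F q) ∧ Nat.card R = 27 ∧ Nat.card (Subgroup.center R) = 3 ∧ H = Cfsg.Geo.subgroupNormalizer R ⊓ (Cfsg.GU 3 F q ⊓ Cfsg.Geo.specialLinear (Fin 3) F)) ∨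
    Cfsg.Geo.InUnitaryResidualClass H := by
  have hn : Nat.Prime 3 := by norm_num
  have heq : ∀ M : Subgroup (Matrix.GeneralLinearGroup (Fin 3) F), H ≤ M →
      ¬ Cfsg.Agent.Lib.PrimeDim.Unitary.SUgl 3 F q ≤ M → H = M ⊓ Cfsg.Agent.Lib.PrimeDim.Unitary.SUgl 3 F q :=
    fun M hM hnot =>
      ((hH.2 _ (le_inf hM hH.1.le) inf_le_right).resolve_right fun h => hnot (h.symm.le.trans inf_le_left)).symm
  rcases Cfsg.Agent.Lib.PrimeDim.Unitary.main hF hn le_rfl H hH.1.le with ⟨W, hb, ht, hW, hle⟩ |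
      ⟨W, hb, ht, hW, hd, hle⟩ | ⟨D, hD, hle⟩ | ⟨K, hK, hadj, hle, N, hNG, hNn, hNs, -, rfl⟩ |
      ⟨F₀, r, P, hr, hcase, hc, hP, hle⟩ | ⟨R, ⟨p, h, hp, hc, hqp, hh, hd, hmin, hst, habs, hRG, hcomm, hcard, hcc⟩, hle⟩ |
      hres
  · exact Or.inl ⟨W, hb, hW, heq _ hle (Cfsg.Agent.Lib.PrimeDim.Unitary.not_le_subspace hF hn.two_le hb ht)⟩
  · exact Or.inr (Or.inl ⟨W, hb, hW, hd, heq _ hle
      (Cfsg.Agent.Lib.PrimeDim.Unitary.not_le_subspace hF hn.two_le hb ht)⟩)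
  · by_cases h5 : q = 5
    · subst h5
      exact (Cfsg.Agent.Lib.PrimeDim.SU3Cases.frame_five hF hH hD hle).elim
    · exact Or.inr (Or.inr (Or.inl ⟨h5, D, hD, heq _ hle
        (Cfsg.Agent.Lib.PrimeDim.Unitary.not_le_decomposition hF le_rfl (by omega) hD)⟩))
  · by_cases h3 : q = 3
    · subst h3
      exact (Cfsg.Agent.Lib.PrimeDim.SU3Cases.field_three hF hH hNG hNn hNs hK).elim
    by_cases h5 : q = 5
    · subst h5
      exact (Cfsg.Agent.Lib.PrimeDim.SU3Cases.field_five hF hH hNG hNn hNs hK).elim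
    exact Or.inr (Or.inr (Or.inr (Or.inl ⟨h3, h5, _, hK, hadj, heq _ hle
      (Cfsg.Agent.Lib.PrimeDim.Unitary.not_le_subalgebra hF le_rfl hn.two_le hK)⟩)))
  · have hnot := Cfsg.Agent.Lib.PrimeDim.Unitary.not_le_subfield hF hn le_rfl hr hcase hc P
    rcases hcase with ho | ⟨rfl, hqo⟩
    · exact Or.inr (Or.inr (Or.inr (Or.inr (Or.inl ⟨F₀, r, P, hr, ho, hc, hP, heq _ hle hnot⟩))))
    · by_cases h7 : 7 ≤ q
      · exact Or.inr (Or.inr (Or.inr (Or.inr (Or.inr (Or.inl ⟨hqo, h7, F₀, P, hc, hP, heq _ hle hnot⟩)))))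
      · exfalso
        obtain ⟨k, hk⟩ := hqo
        have hcases : q = 3 ∨ q = 5 := by omega
        rcases hcases with rfl | rfl
        · exact Cfsg.Agent.Lib.PrimeDim.SU3Subfield.three hF hH hc hP hle
        · exact Cfsg.Agent.Lib.PrimeDim.SU3Subfield.five hF hH hc hP hle
  · haveI := Fact.mk hp
    have hp3 : p ≠ 3 := by
      rintro rfl
      have h1 : 1 ≤ 3 ^ (2 * h) := Nat.one_le_pow _ _ (by norm_num)
      have h2 : 3 ∣ 3 ^ (2 * h) := dvd_pow_self 3 (by omega)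
      omega
    have hp0 : p % 3 ≠ 0 := fun h0 => hp3 ((Nat.prime_dvd_prime_iff_eq hn hp).mp (Nat.dvd_of_mod_eq_zero h0)).symm
    have hsq : 3 ∣ p ^ 2 - 1 := by
      have e : p ^ 2 % 3 = 1 := by
        rw [Nat.pow_mod]
        have hlt : p % 3 < 3 := Nat.mod_lt _ (by norm_num)
        interval_cases hr : p % 3 <;> simp_all
      omega
    have hh1 : h = 1 := by
      by_contra hne
      exact hmin 2 (by norm_num) (by omega) hsq
    subst hh1
    rw [pow_one] at hqp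
    subst hqp
    have hp2 : q % 3 = 2 := by
      have h1 : q % 3 ≠ 1 := fun e => hmin 1 (by norm_num) (by norm_num) (by rw [pow_one]; omega)
      omega
    have hq5 : 5 ≤ q := by
      by_contra hlt
      have : q ≠ 4 := fun e => by subst e; exact absurd hp (by norm_num)
      omega
    have hnot := Cfsg.Agent.Lib.PrimeDim.SU3R.not_le_normalizer hF hq5 habs (hRG.trans inf_le_right) hcomm
      (by rw [hcard]; norm_num) hcc
    by_cases h11 : 11 ≤ q
    · exact Or.inr (Or.inr (Or.inr (Or.inr (Or.inr (Or.inr (Or.inl ⟨q, R, hp, rfl, hp2, h11, hst, habs,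
        (hRG.trans inf_le_left).trans Cfsg.Agent.Lib.PrimeDim.UnitaryBase.GU_le_similarityGroup,
        by rw [hcard]; norm_num, hcc, heq _ hle hnot⟩))))))
    · exfalso
      have hq55 : q = 5 := by
        have h8 : q ≠ 8 := fun e => by subst e; exact absurd hp (by norm_num)
        omega
      subst hq55
      exact Cfsg.Agent.Lib.PrimeDim.SU3R.five hF hH habs hRG hcomm (by rw [hcard]; norm_num) hle
  · exact Or.inr (Or.inr (Or.inr (Or.inr (Or.inr (Or.inr (Or.inr hres))))))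

end Cfsg.Agent.S5778
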