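import Cfsg.Statements.S5781
import Cfsg.Agent.Lib.Aschbacher.Small
import Cfsg.Agent.Lib.Aschbacher.Pauli

set_option autoImplicit false
open Cfsg
open Cfsg.Agent.Lib.Aschbacher Cfsg.Agent.Lib.PrimeDim.Basic Cfsg.Agent.Lib.PrimeDim.Symplectic

namespace Cfsg.Agent.S5781

open scoped Matrix MatrixGroups

/-- In `SL(4, 5)` the monomial group normalises a group `4 ∘ 2^(1+4)`. -/
theorem monomial_five {F : Type*} [Field F] [Fintype F] (h5 : Fintype.card F = 5)
    {D : Fin 4 → Submodule F (Fin 4 → F)} (hD : Cfsg.Geo.IsMDecomposition 1 D) :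
    ∃ R : Subgroup (GL (Fin 4) F), Cfsg.Geo.IsLinearSymplecticTypeData 2 R ∧ HasTwoEigen R ∧
      Cfsg.Geo.decompositionStabilizer D ⊓ Cfsg.Geo.specialLinear (Fin 4) F ≤ Cfsg.Geo.subgroupNormalizer R := by
  classical
  haveI : Fact (Nat.Prime 5) := ⟨by norm_num⟩
  obtain ⟨p, hp⟩ := CharP.exists F
  obtain ⟨e, hpp, hpe⟩ := FiniteField.card F p
  have hp5 : p = 5 := ((Nat.prime_dvd_prime_iff_eq (by norm_num : Nat.Prime 5) hpp).mp
    ((by norm_num : Nat.Prime 5).dvd_of_dvd_pow (show 5 ∣ p ^ (e : ℕ) by rw [← hpe, h5]))).symm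
  subst hp5
  have h2 : (2 : F) ≠ 0 := by
    intro h
    have h' : ((2 : ℕ) : F) = 0 := by exact_mod_cast h
    exact absurd ((CharP.cast_eq_zero_iff F 5 2).mp h') (by norm_num)
  obtain ⟨γ, hγ⟩ := IsCyclic.exists_ofOrder_eq_natCard (α := Fˣ)
  rw [Nat.card_units, Nat.card_eq_fintype_card, h5] at hγ
  have hi : IsPrimitiveRoot ((γ : Fˣ) : F) 4 := by
    have h := IsPrimitiveRoot.orderOf γ
    rw [hγ] at h
    exact IsPrimitiveRoot.coe_units_iff.mpr h
  obtain ⟨P, hP⟩ := Cfsg.Agent.Lib.PrimeDim.Small.monomial_basis hD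
  obtain ⟨hst, habs, hcard, hcentre, heig⟩ := Pauli.properties hi h2 P
  refine ⟨Pauli.group P, ⟨hst, habs, 5, 1, by norm_num, ⟨by norm_num, inferInstance, by simpa using h5,
      by rw [hcentre]; norm_num, fun d h1 h2 => absurd h2 (by omega)⟩,
    Or.inr (Or.inl ⟨rfl, rfl, hcentre, by simp, 2, by rw [hcard]; norm_num⟩)⟩, heig,
    Cfsg.Agent.Lib.PrimeDim.Main.le_normalizer fun g hg => Pauli.conj_mem ?_⟩
  obtain ⟨σ, c, hc0, hc⟩ := hP g hg.1
  have hco : ((P⁻¹ * g * P : GL (Fin 4) F) : Matrix (Fin 4) (Fin 4) F) = Pauli.mono σ c := by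
    refine Matrix.ext_of_mulVec_single fun i => ?_
    rw [Units.val_mul, Units.val_mul, ← Matrix.mulVec_mulVec, ← Matrix.mulVec_mulVec, hc, Matrix.mulVec_smul,
      inv_mulVec_cancel]
    funext j
    simp [Pauli.mono, Pi.single_apply]
  have hd4 : ∀ a, c a ^ 4 = 1 := fun a => by
    simpa [h5] using FiniteField.pow_card_sub_one_eq_one (c a) (hc0 a)
  have hdet : ((Equiv.Perm.sign σ : ℤ) : F) * ∏ a, c a = 1 := by
    rw [← Pauli.mono_det, ← hco, Units.val_mul, Units.val_mul, Matrix.det_mul, Matrix.det_mul,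
      mem_specialLinear.mp hg.2, mul_one, ← Matrix.det_mul, Units.inv_mul, Matrix.det_one]
  have hd2 : (∏ a, c a) ^ 2 = 1 := by
    rcases Int.units_eq_one_or (Equiv.Perm.sign σ) with h | h <;> rw [h] at hdet <;> simp at hdet
    · rw [hdet, one_pow]
    · linear_combination (1 - ∏ a, c a) * hdet
  rintro M ⟨v, d, hd, rfl⟩
  rw [hco]
  exact Pauli.mono_conj σ hd4 hd2 hd


/-- Every maximal subgroup of SL_4(q) is of one of the listed geometric types or lies in the residual class. Let F be a finite field with q elements and H a maximal subgroup of SL_4(F) (inside GL_4(F)). Then H is the intersection with SL_4(F) of one of: the stabiliser of a proper non-zero subspace; for q ≥ 7, the stabiliser of a decomposition into four independent lines; for q ≥ 4, the stabiliser of a decomposition into two independent planes; the normaliser of a degree-2 subfield of the matrix algebra; a subfield group for a subfield F₀ with |F| = |F₀|^r, r prime;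 for q = p ≡ 1 mod 4 prime, the normaliser of an absolutely irreducible 2-subgroup R of exponent 4 with centre of order 4, all of whose characteristic abelian subgroups are cyclic, of order 2^(2+2m) for some m (here |R| = 64), with 4 dividing p − 1; for q odd, the similarity group of a non-degenerate quadratic form; the similarity group of a non-degenerate symplectic form; the similarity group of a non-degenerate unitary form — or else H lies in the residual class of the linear case. -/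
theorem result {F : Type*} [Field F] [Fintype F] (H : Subgroup (Matrix.GeneralLinearGroup (Fin 4) F)) (hH : Cfsg.Geo.IsMaximalIn (Cfsg.Geo.specialLinear (Fin 4) F) H) :
    (∃ W : Submodule F (Fin 4 → F), W ≠ ⊥ ∧ W ≠ ⊤ ∧ H = Cfsg.Geo.subspaceStabilizer W ⊓ Cfsg.Geo.specialLinear (Fin 4) F) ∨
    (7 ≤ Fintype.card F ∧ ∃ D : Fin 4 → Submodule F (Fin 4 → F), Cfsg.Geo.IsMDecomposition 1 D ∧ H = Cfsg.Geo.decompositionStabilizer D ⊓ Cfsg.Geo.specialLinear (Fin 4) F) ∨
    (4 ≤ Fintype.card F ∧ ∃ D : Fin 2 → Submodule F (Fin 4 → F), Cfsg.Geo.IsMDecomposition 2 D ∧ H = Cfsg.Geo.decompositionStabilizer D ⊓ Cfsg.Geo.specialLinear (Fin 4) F) ∨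
    (∃ K : Subalgebra F (Matrix (Fin 4) (Fin 4) F), Cfsg.Geo.IsFieldSubalgebra 2 K ∧ H = Cfsg.Geo.subalgebraNormalizer K ⊓ Cfsg.Geo.specialLinear (Fin 4) F) ∨
    (∃ (F₀ : Subfield F) (r : ℕ) (P : Matrix.GeneralLinearGroup (Fin 4) F), r.Prime ∧ Fintype.card F = Nat.card F₀ ^ r ∧ H = Cfsg.Geo.subfieldSubgroup F₀ P ⊓ Cfsg.Geo.specialLinear (Fin 4) F) ∨
    (∃ (p : ℕ) (R : Subgroup (Matrix.GeneralLinearGroup (Fin 4) F)), p.Prime ∧ Fintype.card F = p ∧ p % 4 = 1 ∧ Cfsg.Geo.IsLinearSymplecticTypeData 2 R ∧ H = Cfsg.Geo.subgroupNormalizer R ⊓ Cfsg.Geo.specialLinear (Fin 4) F) ∨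
    (Odd (Fintype.card F) ∧ ∃ Q : (Fin 4 → F) → F, Cfsg.Geo.IsNondegenerateQuadraticForm Q ∧ H = Cfsg.Geo.quadSimilarityGroup Q ⊓ Cfsg.Geo.specialLinear (Fin 4) F) ∨
    (∃ f : (Fin 4 → F) → (Fin 4 → F) → F, Cfsg.Geo.IsSymplecticForm f ∧ H = Cfsg.Geo.similarityGroup f ⊓ Cfsg.Geo.specialLinear (Fin 4) F) ∨
    (∃ (σ : F ≃+* F) (f : (Fin 4 → F) → (Fin 4 → F) → F), Cfsg.Geo.IsUnitaryForm σ f ∧ H = Cfsg.Geo.similarityGroup f ⊓ Cfsg.Geo.specialLinear (Fin 4) F) ∨
    Cfsg.Geo.InLinearResidualClass H := by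
  rcases maximal_cases (by norm_num) hH with ⟨W, hb, ht, he⟩ | ⟨t, m, D, hD, htm, he⟩ | ⟨r, K, hr, hrn, hK, he⟩ |
      ⟨m, l, e, P, hm, hml, hmn, he⟩ | ⟨F₀, r, P, hr, hc, he⟩ | ⟨r, k, R, hR, hrk, he⟩ |
      ⟨m, t, e, P, hm, ht, hmt, he⟩ | ⟨f, hf, he⟩ | ⟨σ, f, hf, he⟩ | ⟨ho, Q, hQ, he⟩ | hres
  · exact Or.inl (⟨W, hb, ht, he⟩)
  · have ht2 := hD.two_le
    have hdiv : t ∣ 4 := Dvd.intro m htm
    have hle : t ≤ 4 := Nat.le_of_dvd (by norm_num) hdiv
    interval_cases t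
    · obtain rfl : m = 2 := by omega
      by_cases hq : 4 ≤ Fintype.card F
      · exact Or.inr (Or.inr (Or.inl (⟨hq, D, hD, he⟩)))
      · obtain ⟨f, hf, he'⟩ := pairs_maximal (by norm_num) hH hD rfl
          (by have := Fintype.one_lt_card (α := F); omega) he
        exact Or.inr (Or.inr (Or.inr (Or.inr (Or.inr (Or.inr (Or.inr (Or.inl (⟨f, hf, he'⟩))))))))
    · exact absurd hdiv (by norm_num)
    · obtain rfl : m = 1 := by omega
      by_cases hq : 7 ≤ Fintype.card F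
      · exact Or.inr (Or.inl (⟨hq, D, hD, he⟩))
      by_cases hq5 : Fintype.card F < 5
      · rcases monomial_maximal (by norm_num) hH hD rfl hq5 he with
          ⟨W, hb, ht, he'⟩ | ⟨ho, Q, hQ, he'⟩ | ⟨σ, f, hf, he'⟩
        · exact Or.inl (⟨W, hb, ht, he'⟩)
        · exact Or.inr (Or.inr (Or.inr (Or.inr (Or.inr (Or.inr (Or.inl (⟨ho, Q, hQ, he'⟩)))))))
        · exact Or.inr (Or.inr (Or.inr (Or.inr (Or.inr (Or.inr (Or.inr (Or.inr (Or.inl (⟨σ, f, hf, he'⟩)))))))))
      have hne6 : Fintype.card F ≠ 6 := by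
        intro h
        have hpp := FiniteField.isPrimePow_card F
        rw [h] at hpp
        obtain ⟨p, hp⟩ := (isPrimePow_iff_unique_prime_dvd.mp hpp)
        have h2 := hp.2 2 ⟨by norm_num, by norm_num⟩
        have h3 := hp.2 3 ⟨by norm_num, by norm_num⟩
        omega
      have h5 : Fintype.card F = 5 := by omega
      obtain ⟨R, hR, heig, hle⟩ := monomial_five h5 hD
      have he' := eq_inf_of_le hH he hle (not_le_normalizer hR heig)
      exact Or.inr (Or.inr (Or.inr (Or.inr (Or.inr (Or.inl (⟨5, R, by norm_num, h5, by norm_num, hR, he'⟩))))))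
  · have hle : r ≤ 4 := Nat.le_of_dvd (by norm_num) hrn
    have := hr.two_le
    interval_cases r
    · exact Or.inr (Or.inr (Or.inr (Or.inl (⟨K, hK, he⟩))))
    · exact absurd hrn (by norm_num)
    · exact absurd hr (by norm_num)
  · exfalso
    nlinarith
  · exact Or.inr (Or.inr (Or.inr (Or.inr (Or.inl (⟨F₀, r, P, hr, hc, he⟩)))))
  · obtain rfl := prime_eq_of_pow hR.symplecticType.prime (by norm_num : Nat.Prime 2) hrk (by norm_num)
    obtain ⟨p, hp, hF, h4⟩ := data_two (by norm_num) hR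
    exact Or.inr (Or.inr (Or.inr (Or.inr (Or.inr (Or.inl (⟨p, R, hp, hF, h4, hR, he⟩))))))
  · exfalso
    have h2 : m ^ 2 ≤ 4 := hmt ▸ Nat.pow_le_pow_right (by omega) ht
    nlinarith
  · exact Or.inr (Or.inr (Or.inr (Or.inr (Or.inr (Or.inr (Or.inr (Or.inl (⟨f, hf, he⟩))))))))
  · exact Or.inr (Or.inr (Or.inr (Or.inr (Or.inr (Or.inr (Or.inr (Or.inr (Or.inl (⟨σ, f, hf, he⟩)))))))))
  · exact Or.inr (Or.inr (Or.inr (Or.inr (Or.inr (Or.inr (Or.inl (⟨ho, Q, hQ, he⟩)))))))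
  · exact Or.inr (Or.inr (Or.inr (Or.inr (Or.inr (Or.inr (Or.inr (Or.inr (Or.inr (hres)))))))))

end Cfsg.Agent.S5781
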