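import Cfsg.Statements.S5784
import Cfsg.Agent.Lib.Aschbacher.UnitaryPairs

set_option autoImplicit false
open Cfsg
open Cfsg.Agent.Lib.Aschbacher Cfsg.Agent.Lib.Aschbacher.Unitary

namespace Cfsg.Agent.S5784

/-- Every maximal subgroup of SU_4(q) is of one of the listed geometric types or lies in the residual class. Let F be the field with q² elements, f the standard unitary form Σ u_i v_i^q on F^4, and H a maximal subgroup of SU_4(q) (inside GL_4(F)). Then H is the intersection with SU_4(q) of one of: the stabiliser of a non-zero subspace on which f vanishes; the stabiliser of a non-degenerate 1-space; for q ≠ 3, the stabiliser of a decomposition into four mutually orthogonal non-degenerate 1-spaces; for q ≥ 3, of a decomposition into two orthogonal non-degenerate 2-spaces; for q ≥ 4, of a decomposition into two totally isotropic 2-spaces; a subfield group of odd prime index whose F₀-structure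 carries f; a subfield group of index 2 whose F₀-structure carries ζ f, vanishing on pairs (u, u), for some non-zero ζ with ζ + ζ^q = 0; for q odd, a subfield group of index 2 whose F₀-structure carries f; for q = p ≡ 3 mod 4 prime, the normaliser of an absolutely irreducible symplectic-type 2-group of exponent 4, order 64 and centre of order 4 inside the similarity group of f — or else H lies in the residual class of the unitary case. -/
theorem result {F : Type*} [Field F] [Fintype F] (q : ℕ) (hF : Fintype.card F = q ^ 2) (H : Subgroup (Matrix.GeneralLinearGroup (Fin 4) F)) (hH : Cfsg.Geo.IsMaximalIn (Cfsg.GU 4 F q ⊓ Cfsg.Geo.specialLinear (Fin 4) F) H) :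
    (∃ W : Submodule F (Fin 4 → F), W ≠ ⊥ ∧ Cfsg.Geo.IsTotallySingularFor (Cfsg.hermForm 4 F q) W ∧ H = Cfsg.Geo.subspaceStabilizer W ⊓ (Cfsg.GU 4 F q ⊓ Cfsg.Geo.specialLinear (Fin 4) F)) ∨
    (∃ W : Submodule F (Fin 4 → F), W ≠ ⊥ ∧ Cfsg.Geo.IsNondegenerateOn (Cfsg.hermForm 4 F q) W ∧ 2 * Module.finrank F W < 4 ∧ H = Cfsg.Geo.subspaceStabilizer W ⊓ (Cfsg.GU 4 F q ⊓ Cfsg.Geo.specialLinear (Fin 4) F)) ∨
    (q ≠ 3 ∧ ∃ D : Fin 4 → Submodule F (Fin 4 → F), Cfsg.Geo.IsNondegenerateMDecomposition (Cfsg.hermForm 4 F q) 1 D ∧ H = Cfsg.Geo.decompositionStabilizer D ⊓ (Cfsg.GU 4 F q ⊓ Cfsg.Geo.specialLinear (Fin 4) F)) ∨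
    (3 ≤ q ∧ ∃ D : Fin 2 → Submodule F (Fin 4 → F), Cfsg.Geo.IsNondegenerateMDecomposition (Cfsg.hermForm 4 F q) 2 D ∧ H = Cfsg.Geo.decompositionStabilizer D ⊓ (Cfsg.GU 4 F q ⊓ Cfsg.Geo.specialLinear (Fin 4) F)) ∨
    (4 ≤ q ∧ ∃ D : Fin 2 → Submodule F (Fin 4 → F), Cfsg.Geo.IsMDecomposition 2 D ∧ (∀ i, Cfsg.Geo.IsTotallySingularFor (Cfsg.hermForm 4 F q) (D i)) ∧ H = Cfsg.Geo.decompositionStabilizer D ⊓ (Cfsg.GU 4 F q ⊓ Cfsg.Geo.specialLinear (Fin 4) F)) ∨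
    (∃ (F₀ : Subfield F) (r : ℕ) (P : Matrix.GeneralLinearGroup (Fin 4) F), r.Prime ∧ Odd r ∧ Fintype.card F = Nat.card F₀ ^ r ∧ Cfsg.Geo.IsFormRationalStructure (Cfsg.hermForm 4 F q) F₀ 1 P ∧ H = Cfsg.Geo.subfieldSubgroup F₀ P ⊓ (Cfsg.GU 4 F q ⊓ Cfsg.Geo.specialLinear (Fin 4) F)) ∨
    (∃ (F₀ : Subfield F) (P : Matrix.GeneralLinearGroup (Fin 4) F) (ζ : F), Fintype.card F = Nat.card F₀ ^ 2 ∧ ζ ≠ 0 ∧ ζ + ζ ^ q = 0 ∧ Cfsg.Geo.IsFormRationalStructure (Cfsg.hermForm 4 F q) F₀ ζ P ∧ (∀ u : Fin 4 → F, (∀ i, u i ∈ F₀) → (Cfsg.hermForm 4 F q) (Matrix.mulVec (P : Matrix (Fin 4) (Fin 4) F) u) (Matrix.mulVec (P : Matrix (Fin 4) (Fin 4) F) u) = 0) ∧ H = Cfsg.Geo.subfieldSubgroup F₀ P ⊓ (Cfsg.GU 4 F q ⊓ Cfsg.Geo.specialLinear (Fin 4) F)) ∨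
    (Odd q ∧ ∃ (F₀ : Subfield F) (P : Matrix.GeneralLinearGroup (Fin 4) F), Fintype.card F = Nat.card F₀ ^ 2 ∧ Cfsg.Geo.IsFormRationalStructure (Cfsg.hermForm 4 F q) F₀ 1 P ∧ H = Cfsg.Geo.subfieldSubgroup F₀ P ⊓ (Cfsg.GU 4 F q ⊓ Cfsg.Geo.specialLinear (Fin 4) F)) ∨
    (∃ (p : ℕ) (R : Subgroup (Matrix.GeneralLinearGroup (Fin 4) F)), p.Prime ∧ q = p ∧ p % 4 = 3 ∧ Cfsg.Geo.IsSymplecticTypeGroup 2 R ∧ Cfsg.Geo.ActsAbsolutelyIrreducibly (Cfsg.Geo.matrixSet R) ∧ R ≤ Cfsg.Geo.similarityGroup (Cfsg.hermForm 4 F q) ∧ Nat.card R = 64 ∧ Nat.card (Subgroup.center R) = 4 ∧ H = Cfsg.Geo.subgroupNormalizer R ⊓ (Cfsg.GU 4 F q ⊓ Cfsg.Geo.specialLinear (Fin 4) F)) ∨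
    Cfsg.Geo.InUnitaryResidualClass H := by
  classical
  have hq1 := Cfsg.Agent.Lib.Unitary.one_lt_q hF
  rcases maximal_cases hF (by norm_num) hH with ⟨W, hb, hW, he⟩ | ⟨W, hb, hW, hd, he⟩ |
    ⟨t, k, D, hD, htk, he⟩ | ⟨k, D, hk, hD, hts, he⟩ |
    ⟨r, K, hr, ho, hrn, hK, hadj, he⟩ | ⟨m, l, e, P, hm, hml, hmn, hP, he⟩ |
    ⟨F₀, r, P, hr, ho, hc, hP, he⟩ | ⟨ho, F₀, P, hc, hP, he⟩ | ⟨hev, F₀, P, ζ, hc, hz, hz', hP, halt, he⟩ |
    ⟨r, m, R, hst, habs, hsim, hn, hm, harith, he⟩ | ⟨m, t, e, P, hm, ht, hmt, hex, hP, hle, he⟩ | hres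
  · exact Or.inl (⟨W, hb, hW, he⟩)
  · exact Or.inr (Or.inl (⟨W, hb, hW, hd, he⟩))
  · have hmono : ∀ E : Fin 4 → Submodule F (Fin 4 → F),
        Geo.IsNondegenerateMDecomposition (hermForm 4 F q) 1 E →
        H = Geo.decompositionStabilizer E ⊓ (GU 4 F q ⊓ Geo.specialLinear (Fin 4) F) →
        (q ≠ 3 ∨ ∃ (p : ℕ) (R : Subgroup (Matrix.GeneralLinearGroup (Fin 4) F)), p.Prime ∧ q = p ∧ p % 4 = 3 ∧
          Geo.IsSymplecticTypeGroup 2 R ∧ Geo.ActsAbsolutelyIrreducibly (Geo.matrixSet R) ∧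
          R ≤ Geo.similarityGroup (hermForm 4 F q) ∧ Nat.card R = 64 ∧ Nat.card (Subgroup.center R) = 4 ∧
          H = Geo.subgroupNormalizer R ⊓ (GU 4 F q ⊓ Geo.specialLinear (Fin 4) F)) := by
      intro E hE hEe
      by_cases h3 : q = 3
      · subst h3
        obtain ⟨R, hst, habs, hRU, hcomm, hcard, hcz, hle⟩ := monomial_nine hF rfl hE
        obtain ⟨p, k', hp, hchp, hk', hqp⟩ := Cfsg.Agent.Lib.Unitary.q_eq_primePow hF
        have hp3 : p = 3 := (Nat.prime_dvd_prime_iff_eq hp Nat.prime_three).mp (hqp ▸ dvd_pow_self p (by omega))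
        subst hp3
        exact Or.inr ⟨3, R, Nat.prime_three, rfl, by norm_num, hst, habs,
          hRU.trans Cfsg.Agent.Lib.PrimeDim.UnitaryBase.GU_le_similarityGroup, hcard, hcz,
          replace_member hH hEe hle (not_le_normalizer hF le_rfl Nat.prime_two (by norm_num : 2 ≠ 3) hst.pGroup hRU
            habs hcomm)⟩
      · exact Or.inl h3
    have ht2 := hD.decomp.two_le
    have hdiv : t ∣ 4 := Dvd.intro k htk
    have hle : t ≤ 4 := Nat.le_of_dvd (by norm_num) hdiv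
    interval_cases t
    · obtain rfl : k = 2 := by omega
      by_cases hq : 3 ≤ q
      · exact Or.inr (Or.inr (Or.inr (Or.inl (⟨hq, D, hD, he⟩))))
      · obtain ⟨E, hE, he'⟩ := planes_maximal hF (by omega) le_rfl hH hD he
        exact Or.inr (Or.inr (Or.inl (⟨by omega, E, hE, he'⟩)))
    · exact absurd hdiv (by norm_num)
    · obtain rfl : k = 1 := by omega
      rcases hmono D hD he with h | h
      · exact Or.inr (Or.inr (Or.inl (⟨h, D, hD, he⟩)))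
      · exact Or.inr (Or.inr (Or.inr (Or.inr (Or.inr (Or.inr (Or.inr (Or.inr (Or.inl (h)))))))))
  · obtain rfl : k = 2 := by omega
    by_cases hq : 4 ≤ q
    · exact Or.inr (Or.inr (Or.inr (Or.inr (Or.inl (⟨hq, D, hD, hts, he⟩)))))
    · exact Or.inr (Or.inr (Or.inr (Or.inr (Or.inr (Or.inr (Or.inl (symp_maximal hF (by norm_num) hH he (pair_subfield hF (by omega) hD hts))))))))
  · exfalso
    have hle : r ≤ 4 := Nat.le_of_dvd (by norm_num) hrn
    have := hr.two_le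
    interval_cases r <;> (revert hrn hr ho; norm_num [Nat.odd_iff])
  · exfalso
    nlinarith
  · exact Or.inr (Or.inr (Or.inr (Or.inr (Or.inr (Or.inl (⟨F₀, r, P, hr, ho, hc, hP, he⟩))))))
  · exact Or.inr (Or.inr (Or.inr (Or.inr (Or.inr (Or.inr (Or.inr (Or.inl (⟨ho, F₀, P, hc, hP, he⟩))))))))
  · exact Or.inr (Or.inr (Or.inr (Or.inr (Or.inr (Or.inr (Or.inl (⟨F₀, P, ζ, hc, hz, hz', hP, halt, he⟩)))))))
  · obtain rfl : 2 = r := prime_eq_of_pow hst.prime (by norm_num) hn (by norm_num)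
    obtain rfl : m = 2 := Nat.pow_right_injective le_rfl (show 2 ^ m = 2 ^ 2 by rw [← hn])
    rcases harith with ⟨-, hq, hq', hz, hcard⟩ | ⟨ho, -⟩
    · exact Or.inr (Or.inr (Or.inr (Or.inr (Or.inr (Or.inr (Or.inr (Or.inr (Or.inl (⟨q, R, hq, rfl, hq', hst, habs, hsim, by rw [hcard]; norm_num, hz, he⟩)))))))))
    · exact absurd ho (by decide)
  · exfalso
    have h2 : m ^ 2 ≤ 4 := hmt ▸ Nat.pow_le_pow_right (by omega) ht
    nlinarith
  · exact Or.inr (Or.inr (Or.inr (Or.inr (Or.inr (Or.inr (Or.inr (Or.inr (Or.inr (hres)))))))))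

end Cfsg.Agent.S5784
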