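import Cfsg.Statements.S5787
import Cfsg.Agent.Lib.AschbacherSp.FourDim

set_option autoImplicit false
open Cfsg
open Cfsg.Geo Cfsg.Agent.Lib.AschbacherSp

namespace Cfsg.Agent.S5787

/-- Every maximal subgroup of Sp_4(q), q odd, is of one of the listed geometric types or lies in the residual class. Let F be a finite field of odd order q, f the standard alternating form on F^4 (coordinates Fin 2 ⊕ Fin 2), and H a maximal subgroup of the isometry group Sp_4(F) (inside GL_4(F)). Then H is the intersection with Sp_4(F) of one of: the stabiliser of a non-zero totally isotropic subspace; the stabiliser of a decomposition into two orthogonal non-degenerate 2-spaces; for q ≥ 5, of a decomposition into two totally isotropic 2-spaces; the normaliser of a degree-2 subfield K of the matrix algebra, self-adjoint with f(k v, v) = 0; for q ≥ 5, the normaliser of a degree-2 subfield closed under adjoints but not self-adjoint;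 a subfield group whose F₀-structure carries a non-zero multiple of f, |F| = |F₀|^r with r prime; for q = p prime, the normaliser of an absolutely irreducible symplectic-type 2-group of exponent 4, order 32, centre of order 2 and minus type inside the similarity group of f — or else H lies in the residual class of the symplectic case. -/
theorem result {F : Type*} [Field F] [Fintype F] (hodd : Odd (Fintype.card F)) (H : Subgroup (Matrix.GeneralLinearGroup (Fin 2 ⊕ Fin 2) F)) (hH : Cfsg.Geo.IsMaximalIn (Cfsg.spGL 2 F) H) :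
    (∃ W : Submodule F (Fin 2 ⊕ Fin 2 → F), W ≠ ⊥ ∧ Cfsg.Geo.IsTotallySingularFor (Cfsg.sympForm 2 F) W ∧ H = Cfsg.Geo.subspaceStabilizer W ⊓ Cfsg.spGL 2 F) ∨
    (∃ D : Fin 2 → Submodule F (Fin 2 ⊕ Fin 2 → F), Cfsg.Geo.IsNondegenerateMDecomposition (Cfsg.sympForm 2 F) 2 D ∧ H = Cfsg.Geo.decompositionStabilizer D ⊓ Cfsg.spGL 2 F) ∨
    (5 ≤ Fintype.card F ∧ ∃ D : Fin 2 → Submodule F (Fin 2 ⊕ Fin 2 → F), Cfsg.Geo.IsMDecomposition 2 D ∧ (∀ i, Cfsg.Geo.IsTotallySingularFor (Cfsg.sympForm 2 F) (D i)) ∧ H = Cfsg.Geo.decompositionStabilizer D ⊓ Cfsg.spGL 2 F) ∨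
    (∃ K : Subalgebra F (Matrix (Fin 2 ⊕ Fin 2) (Fin 2 ⊕ Fin 2) F), Cfsg.Geo.IsFieldSubalgebra 2 K ∧ Cfsg.Geo.IsSelfAdjointFor (Cfsg.sympForm 2 F) K ∧ (∀ k ∈ K, ∀ v : (Fin 2 ⊕ Fin 2 → F), (Cfsg.sympForm 2 F) (Matrix.mulVec k v) v = 0) ∧ H = Cfsg.Geo.subalgebraNormalizer K ⊓ Cfsg.spGL 2 F) ∨
    (5 ≤ Fintype.card F ∧ ∃ K : Subalgebra F (Matrix (Fin 2 ⊕ Fin 2) (Fin 2 ⊕ Fin 2) F), Cfsg.Geo.IsFieldSubalgebra 2 K ∧ Cfsg.Geo.IsAdjointClosedFor (Cfsg.sympForm 2 F) K ∧ ¬ Cfsg.Geo.IsSelfAdjointFor (Cfsg.sympForm 2 F) K ∧ H = Cfsg.Geo.subalgebraNormalizer K ⊓ Cfsg.spGL 2 F) ∨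
    (∃ (F₀ : Subfield F) (r : ℕ) (P : Matrix.GeneralLinearGroup (Fin 2 ⊕ Fin 2) F) (ζ : F), r.Prime ∧ Fintype.card F = Nat.card F₀ ^ r ∧ ζ ≠ 0 ∧ Cfsg.Geo.IsFormRationalStructure (Cfsg.sympForm 2 F) F₀ ζ P ∧ H = Cfsg.Geo.subfieldSubgroup F₀ P ⊓ Cfsg.spGL 2 F) ∨
    (∃ (p : ℕ) (R : Subgroup (Matrix.GeneralLinearGroup (Fin 2 ⊕ Fin 2) F)), p.Prime ∧ Fintype.card F = p ∧ Cfsg.Geo.IsSymplecticTypeGroup 2 R ∧ Cfsg.Geo.ActsAbsolutelyIrreducibly (Cfsg.Geo.matrixSet R) ∧ R ≤ Cfsg.Geo.similarityGroup (Cfsg.sympForm 2 F) ∧ Nat.card R = 32 ∧ Nat.card (Subgroup.center R) = 2 ∧ Cfsg.Geo.IsOfMinusType 2 R ∧ H = Cfsg.Geo.subgroupNormalizer R ⊓ Cfsg.spGL 2 F) ∨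
    Cfsg.Geo.InSymplecticResidualClass H := by
  classical
  have hG := alt_J (F := F) 2
  have hI : ∀ {X}, ¬ Isom (Matrix.J (Fin 2) F) ≤ X → ¬ Cfsg.spGL 2 F ≤ X := fun {X} h => isom_J (F := F) 2 ▸ h
  have hc : Fintype.card (Fin 2 ⊕ Fin 2) = 4 := by simp
  have hHI : H ≤ Isom (Matrix.J (Fin 2) F) := hH.1.le.trans (spGL_le_isom _)
  have hq3 : ¬ 5 ≤ Fintype.card F → Fintype.card F = 3 := fun h => by
    have := Fintype.one_lt_card (α := F)
    obtain ⟨j, hj⟩ := hodd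
    omega
  have hnorm : ∀ {p : ℕ} {R : Subgroup (Matrix.GeneralLinearGroup (Fin 2 ⊕ Fin 2) F)}, p.Prime → Fintype.card F = p →
      IsSymplecticTypeGroup 2 R → ActsAbsolutelyIrreducibly (matrixSet R) →
      R ≤ similarityGroup (Cfsg.sympForm 2 F) → Nat.card R = 32 → Nat.card (Subgroup.center R) = 2 →
      IsOfMinusType 2 R → H ≤ subgroupNormalizer R →
      ∃ (p : ℕ) (R : Subgroup (Matrix.GeneralLinearGroup (Fin 2 ⊕ Fin 2) F)), p.Prime ∧ Fintype.card F = p ∧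
        IsSymplecticTypeGroup 2 R ∧ ActsAbsolutelyIrreducibly (matrixSet R) ∧
        R ≤ similarityGroup (Cfsg.sympForm 2 F) ∧ Nat.card R = 32 ∧ Nat.card (Subgroup.center R) = 2 ∧
        IsOfMinusType 2 R ∧ H = subgroupNormalizer R ⊓ Cfsg.spGL 2 F := by
    intro p R hp hq h1 h2 h3 h4 h5 h6 h
    refine ⟨p, R, hp, hq, h1, h2, h3, h4, h5, h6, eq_inf hH h (hI (not_le_subgroupNormalizer hG hodd
      (by omega) h3 (fun r hr => ?_) ?_))⟩
    · have hx := Monoid.pow_exponent_eq_one (⟨r, hr⟩ : R)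
      rw [h1.exponent_eq, show 2 * Nat.gcd 2 2 = 4 by norm_num] at hx
      exact congrArg Subtype.val hx
    · exact Cfsg.Agent.Lib.PrimeDim.Symplectic.not_le_scalars (by omega)
        (Cfsg.Agent.Lib.PrimeDim.Basic.irred_iff.mp h2.1)
  rcases main hG (by omega) H hHI with hgeo | hres
  swap; · exact Or.inr (Or.inr (Or.inr (Or.inr (Or.inr (Or.inr (Or.inr hres))))))
  rcases hgeo with ⟨W, h1, h2, h⟩ | ⟨W, h1, h2, h3, h⟩ | ⟨t, k, D, hD, h⟩ | ⟨k, D, -, hk, hD, hs, h⟩ |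
    ⟨r, K, hr, hK, hs, h0, h⟩ | ⟨K, -, hK, hcl, hs, h⟩ | ⟨n₁, n₂, e, P, f₁, f₂, -, h3, h1, -, -, -⟩ |
    ⟨F₀, r, P, ζ, hr, hq, hζ, hP, h⟩ | ⟨R, p, k, h1, h2, h3, hp, -, hq, hcd, hz, hm, hk, h⟩ |
    ⟨k, t, e, P, f₁, -, ht, h3, -, h1, -, -⟩ | ⟨Q, he, -, -, -⟩
  · exact Or.inl ⟨W, h1, h2, eq_inf hH h (hI (not_le_subspaceStabilizer hG h1 (ne_top_of_ts hG h2)))⟩
  · obtain ⟨j, hj⟩ := even_finrank_of_nondeg hG h2
    have hpos : 0 < Module.finrank F W := Nat.pos_of_ne_zero fun e => h1 (Submodule.finrank_eq_zero.mp e)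
    omega
  · obtain ⟨j, hj⟩ := even_finrank_of_nondeg hG (hD.nondegenerate ⟨0, by have := hD.decomp.two_le; omega⟩)
    rw [hD.decomp.finrank_eq] at hj
    have htk := decomposition_card hD.decomp
    rw [hc] at htk
    have ht2 := hD.decomp.two_le
    have hk0 := hD.decomp.pos
    have := Nat.mul_le_mul_left t (show 2 ≤ k by omega)
    obtain rfl : t = 2 := by omega
    obtain rfl : k = 2 := by omega
    exact Or.inr (Or.inl ⟨D, hD, eq_inf hH h (hI (not_le_decompositionStabilizer hG hD.decomp))⟩)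
  · obtain rfl : k = 2 := by omega
    by_cases hq5 : 5 ≤ Fintype.card F
    · exact Or.inr (Or.inr (Or.inl
        ⟨hq5, D, hD, hs, eq_inf hH h (hI (not_le_decompositionStabilizer hG hD))⟩))
    · obtain ⟨D', hD', hle⟩ := of_pair_three hG (hq3 hq5) hc hD hs
      exact Or.inr (Or.inl ⟨D', hD', eq_inf hH ((le_inf h hHI).trans hle)
        (hI (not_le_decompositionStabilizer hG hD'.decomp))⟩)
  · have hdvd := field_dvd_half hG hK hs h0
    rw [hc] at hdvd
    have hrle := Nat.le_of_dvd (by norm_num) hdvd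
    have hr2 := hr.two_le
    obtain rfl : r = 2 := by omega
    exact Or.inr (Or.inr (Or.inr (Or.inl
      ⟨K, hK, hs, h0, eq_inf hH h (hI (not_le_subalgebraNormalizer hG (by omega) hK le_rfl))⟩)))
  · by_cases hq5 : 5 ≤ Fintype.card F
    · exact Or.inr (Or.inr (Or.inr (Or.inr (Or.inl
        ⟨hq5, K, hK, hcl, hs, eq_inf hH h (hI (not_le_subalgebraNormalizer hG (by omega) hK le_rfl))⟩))))
    · obtain ⟨R, h1, h2, h3, h4, h5, h6, hle⟩ := of_unitary_three hG (hq3 hq5) hc hK hcl hs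
      refine Or.inr (Or.inr (Or.inr (Or.inr (Or.inr (Or.inr (Or.inl (hnorm Nat.prime_three (hq3 hq5) h1 h2
        (fun x hx => ⟨1, fun u v => ?_⟩) h4 h5 h6 ((le_inf h hHI).trans hle))))))))
      rw [Units.val_one, one_mul]
      exact gramForm_apply_isom (h3 hx) u v
  · obtain ⟨j, hj⟩ := even_of_symplectic h1
    have hprod : n₁ * n₂ = 4 := by rw [← hc, Fintype.card_congr e]; simp
    rw [Fintype.card_fin] at hj
    rcases Nat.eq_zero_or_pos n₁ with h0 | h0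
    · rw [h0, zero_mul] at hprod; omega
    have := Nat.mul_le_mul (show 2 ≤ n₁ by omega) h3
    omega
  · exact Or.inr (Or.inr (Or.inr (Or.inr (Or.inr (Or.inl ⟨F₀, r, P, ζ, hr, hq, hζ, hP,
      eq_inf hH h (hI (not_le_subfieldSubgroup hG (subfield_ne_top hr hq) P))⟩)))))
  · obtain rfl : k = 2 := Nat.pow_right_injective le_rfl (show 2 ^ k = 2 ^ 2 by omega)
    exact Or.inr (Or.inr (Or.inr (Or.inr (Or.inr (Or.inr (Or.inl
      (hnorm hp hq h1 h2 h3 (by rw [hcd]; norm_num) hz hm h)))))))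
  · exfalso
    obtain ⟨j, hj⟩ := even_of_symplectic h1
    rw [Fintype.card_fin] at hj
    have hkt : k ^ t = 4 := by rw [← hc, Fintype.card_congr e]; simp
    rcases Nat.eq_zero_or_pos k with h0 | h0
    · rw [h0, zero_pow (by omega)] at hkt; omega
    have h2 := Nat.pow_le_pow_left (show 2 ≤ k by omega) t
    have h3' : (2 : ℕ) ^ 3 ≤ 2 ^ t := Nat.pow_le_pow_right (by norm_num) h3
    omega
  · exact absurd hodd he

end Cfsg.Agent.S5787
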