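import Cfsg.Statements.S5790
import Cfsg.Agent.Lib.AschbacherSp.Cases

set_option autoImplicit false
open Cfsg
open Cfsg.Geo Cfsg.Agent.Lib.AschbacherSp

namespace Cfsg.Agent.S5790

/-- Every maximal subgroup of Sp_4(q), q ≥ 4 even, is of one of the listed geometric types or lies in the residual class. Let F be a finite field of even order q ≥ 4, f the standard alternating form on F^4 (coordinates Fin 2 ⊕ Fin 2), and H a maximal subgroup of Sp_4(F) (inside GL_4(F)). Then H is the intersection with Sp_4(F) of one of: the stabiliser of a non-zero totally isotropic subspace; the stabiliser of a decomposition into two orthogonal non-degenerate 2-spaces; the normaliser of a degree-2 subfield K of the matrix algebra, self-adjoint with f(k v, v) = 0; a subfield group whose F₀-structure carries a non-zero multiple of f, |F| = |F₀|^r with r prime; the similarity group of a non-degenerate quadratic form whose polar form is f —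 or else H lies in the residual class of the symplectic case. -/
theorem result {F : Type*} [Field F] [Fintype F] (heven : ¬ Odd (Fintype.card F)) (h4 : 4 ≤ Fintype.card F) (H : Subgroup (Matrix.GeneralLinearGroup (Fin 2 ⊕ Fin 2) F)) (hH : Cfsg.Geo.IsMaximalIn (Cfsg.spGL 2 F) H) :
    (∃ W : Submodule F (Fin 2 ⊕ Fin 2 → F), W ≠ ⊥ ∧ Cfsg.Geo.IsTotallySingularFor (Cfsg.sympForm 2 F) W ∧ H = Cfsg.Geo.subspaceStabilizer W ⊓ Cfsg.spGL 2 F) ∨
    (∃ D : Fin 2 → Submodule F (Fin 2 ⊕ Fin 2 → F), Cfsg.Geo.IsNondegenerateMDecomposition (Cfsg.sympForm 2 F) 2 D ∧ H = Cfsg.Geo.decompositionStabilizer D ⊓ Cfsg.spGL 2 F) ∨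
    (∃ K : Subalgebra F (Matrix (Fin 2 ⊕ Fin 2) (Fin 2 ⊕ Fin 2) F), Cfsg.Geo.IsFieldSubalgebra 2 K ∧ Cfsg.Geo.IsSelfAdjointFor (Cfsg.sympForm 2 F) K ∧ (∀ k ∈ K, ∀ v : (Fin 2 ⊕ Fin 2 → F), (Cfsg.sympForm 2 F) (Matrix.mulVec k v) v = 0) ∧ H = Cfsg.Geo.subalgebraNormalizer K ⊓ Cfsg.spGL 2 F) ∨
    (∃ (F₀ : Subfield F) (r : ℕ) (P : Matrix.GeneralLinearGroup (Fin 2 ⊕ Fin 2) F) (ζ : F), r.Prime ∧ Fintype.card F = Nat.card F₀ ^ r ∧ ζ ≠ 0 ∧ Cfsg.Geo.IsFormRationalStructure (Cfsg.sympForm 2 F) F₀ ζ P ∧ H = Cfsg.Geo.subfieldSubgroup F₀ P ⊓ Cfsg.spGL 2 F) ∨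
    (∃ Q : (Fin 2 ⊕ Fin 2 → F) → F, Cfsg.Geo.IsNondegenerateQuadraticForm Q ∧ (∀ u v : (Fin 2 ⊕ Fin 2 → F), QuadraticMap.polar Q u v = (Cfsg.sympForm 2 F) u v) ∧ H = Cfsg.Geo.quadSimilarityGroup Q ⊓ Cfsg.spGL 2 F) ∨
    Cfsg.Geo.InSymplecticResidualClass H := by
  classical
  have hev : ¬ Odd (Fintype.card F) := heven
  have hG := alt_J (F := F) 2
  have hI : ∀ {X}, ¬ Isom (Matrix.J (Fin 2) F) ≤ X → ¬ Cfsg.spGL 2 F ≤ X := fun {X} h => isom_J (F := F) 2 ▸ h
  have hc : Fintype.card (Fin 2 ⊕ Fin 2) = 4 := by simp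
  rcases main hG (by omega) H (hH.1.le.trans (spGL_le_isom _)) with hgeo | hres
  swap; · exact Or.inr (Or.inr (Or.inr (Or.inr (Or.inr (hres)))))
  rcases hgeo with ⟨W, h1, h2, h⟩ | ⟨W, h1, h2, h3, h⟩ | ⟨t, k, D, hD, h⟩ | ⟨k, D, ho, hk, hD, hs, h⟩ |
    ⟨r, K, hr, hK, hs, h0, h⟩ | ⟨K, ho, hK, hcl, hs, h⟩ | ⟨n₁, n₂, e, P, f₁, f₂, ho, h3, h1, h2, hf, h⟩ |
    ⟨F₀, r, P, ζ, hr, hq, hζ, hP, h⟩ | ⟨R, p, k, -, -, -, hp', hpo, hcard, -, -, -, hk, -⟩ |
    ⟨k, t, e, P, f₁, ho, ht, h3, -, h1, hf, -⟩ | ⟨Q, he, hQ, hp, h⟩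
  · exact Or.inl ⟨W, h1, h2, eq_inf hH h (hI (not_le_subspaceStabilizer hG h1 (ne_top_of_ts hG h2)))⟩
  · have hev2 := even_finrank_of_nondeg hG h2
    have hne : W ≠ ⊤ := by
      rintro rfl
      rw [finrank_top, Module.finrank_pi] at h3
      omega
    have hpos : 0 < Module.finrank F W := Nat.pos_of_ne_zero fun e => h1 (Submodule.finrank_eq_zero.mp e)
    obtain ⟨j, hj⟩ := hev2
    omega
  · obtain ⟨j, hj⟩ := even_finrank_of_nondeg hG (hD.nondegenerate ⟨0, by have := hD.decomp.two_le; omega⟩)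
    rw [hD.decomp.finrank_eq] at hj
    have htk := decomposition_card hD.decomp
    rw [hc] at htk
    have ht2 := hD.decomp.two_le
    have hk0 := hD.decomp.pos
    have htle : t ≤ 2 := by have := Nat.mul_le_mul_left t (show 2 ≤ k by omega); omega
    have hmem := eq_inf hH h (hI (not_le_decompositionStabilizer hG hD.decomp))
    have hcase : (t = 2 ∧ k = 2) := by
      subst hj
      interval_cases t <;> omega
    obtain ⟨rfl, rfl⟩ := hcase
    exact Or.inr (Or.inl ⟨D, hD, hmem⟩)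
  · exact absurd ho hev
  · have hdvd := field_dvd_half hG hK hs h0
    rw [hc] at hdvd
    have hr2 := hr.two_le
    have hrle := Nat.le_of_dvd (by norm_num) hdvd
    have hmem := eq_inf hH h (hI (not_le_subalgebraNormalizer hG (by omega) hK hr2))
    have hcase : r = 2 := by
      rcases hdvd with ⟨c, hcd⟩
      have hrm : r ∣ 2 := ⟨c, by nlinarith⟩
      have : r ≤ 2 := by omega
      interval_cases r <;> first | omega | (exfalso; revert hr; norm_num) | (exfalso; revert hrm; norm_num)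
    subst hcase
    exact Or.inr (Or.inr (Or.inl ⟨K, hK, hs, h0, hmem⟩))
  · exact absurd ho hev
  · exact absurd ho hev
  · exact Or.inr (Or.inr (Or.inr (Or.inl ⟨F₀, r, P, ζ, hr, hq, hζ, hP, eq_inf hH h (hI (not_le_subfieldSubgroup hG (subfield_ne_top hr hq) P))⟩)))
  · exact absurd (hcard ▸ hpo) hev
  · exact absurd ho hev
  · exact Or.inr (Or.inr (Or.inr (Or.inr (Or.inl ⟨Q, hQ, hp, eq_inf hH h (hI (not_le_quadSimilarityGroup hG (by omega) hp))⟩))))

end Cfsg.Agent.S5790
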