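import Cfsg.Statements.S5791
import Cfsg.Agent.Lib.Sp4Res55.Classify

set_option autoImplicit false
open Cfsg

namespace Cfsg.Agent.S5791

open Cfsg.Agent.Lib.Sp4Res55

/-- The maximal subgroups of Sp_4(q), q ≥ 4 even, in the residual class. Let F be a finite field of even order q ≥ 4 and H a maximal subgroup of Sp_4(F) (isometries of the standard alternating form on F^4) lying in the residual class of the symplectic case. Then q = 2^(2m+1) with m ≥ 1 and the perfect socle preimage P of H is, modulo scalars, isomorphic to the Suzuki group over F (the subgroup Sz(F, θ) of the four-dimensional symplectic group with θ(x) = x^(2^(m+1))). -/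
theorem result {F : Type*} [Field F] [Fintype F] (heven : ¬ Odd (Fintype.card F)) (h4 : 4 ≤ Fintype.card F) (H : Subgroup (Matrix.GeneralLinearGroup (Fin 2 ⊕ Fin 2) F)) (hH : Cfsg.Geo.IsMaximalIn (Cfsg.spGL 2 F) H) (hS : Cfsg.Geo.InSymplecticResidualClass H) :
    ∃ (P : Subgroup (Matrix.GeneralLinearGroup (Fin 2 ⊕ Fin 2) F)) (m : ℕ), Cfsg.Geo.IsResidualCore H P ∧ 1 ≤ m ∧ Fintype.card F = 2 ^ (2 * m + 1) ∧
    Nonempty ((P ⧸ (Cfsg.Geo.scalars (Fin 2 ⊕ Fin 2) F).subgroupOf P) ≃* Cfsg.Lie.Sz F (2 ^ (m + 1))) := by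
  obtain ⟨P, hP, hQ, -⟩ := hS
  have hchar : ringChar F = 2 := FiniteField.even_card_iff_char_two.2
    (Nat.even_iff.1 (Nat.not_odd_iff_even.1 heven))
  haveI : CharP F 2 := ringChar.of_eq hchar
  have h2 : (2 : F) = 0 := CharTwo.two_eq_zero
  have hle : P ≤ Cfsg.spGL 2 F := hP.le.trans hH.1.le
  have hbot : (Cfsg.Geo.scalars (Fin 2 ⊕ Fin 2) F).subgroupOf P = ⊥ := by
    rw [Subgroup.eq_bot_iff_forall]
    intro g hg
    rw [Subgroup.mem_subgroupOf, Cfsg.Geo.mem_scalars_iff] at hg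
    obtain ⟨c, hc⟩ := hg
    let x : Fin 2 ⊕ Fin 2 → F := Pi.single (Sum.inl 0) 1
    obtain ⟨y, hy⟩ := f_nd (v := x) (by simp [x])
    have e := f_map (hle g.2) x y
    rw [hc, Matrix.smul_mulVec, Matrix.one_mulVec, Matrix.smul_mulVec, Matrix.one_mulVec, f_smull,
      f_smulr, ← mul_assoc] at e
    have hc1 : (c : F) = 1 := CharTwo.sq_injective (show (c : F) ^ 2 = (1 : F) ^ 2 by
      rw [one_pow, pow_two]
      exact mul_right_cancel₀ hy (by rw [e, one_mul]))
    refine Subtype.ext (Units.ext ?_)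
    rw [hc, hc1, one_smul]
    rfl
  let eq : (P ⧸ (Cfsg.Geo.scalars (Fin 2 ⊕ Fin 2) F).subgroupOf P) ≃* P :=
    (QuotientGroup.quotientMulEquivOfEq hbot).trans QuotientGroup.quotientBot
  have hsimple : IsSimpleGroup P := haveI := hP.simple; eq.symm.isSimpleGroup
  have S : Setting P :=
    { two := h2
      le := hle
      irr := fun W hW => hP.absIrred.1 W (by
        rintro _ ⟨g, hg, rfl⟩ _ ⟨w, hw, rfl⟩
        exact hW g hg w hw)
      simple := hsimple
      nonab := fun h => hP.nonabelian ⟨⟨fun a b => eq.injective (by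
        rw [map_mul, map_mul]; exact h.is_comm.comm _ _)⟩⟩ }
  rcases S.classify h4 hP.absIrred hP.no_subfield hQ with h | ⟨m, hm, hc, ⟨e⟩⟩
  · exact absurd (h ▸ hP.le : Cfsg.spGL 2 F ≤ H) hH.1.not_ge
  · exact ⟨P, m, hP, hm, hc, ⟨eq.trans e⟩⟩

end Cfsg.Agent.S5791
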