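import Cfsg.Statements.S5793
import Cfsg.Agent.Lib.PrimeDim.Small

set_option autoImplicit false
open Cfsg
open Cfsg.Agent.Lib.PrimeDim.Fields Cfsg.Agent.Lib.PrimeDim.Proper Cfsg.Agent.Lib.PrimeDim.Small

namespace Cfsg.Agent.S5793

instance factPrime : Fact (Nat.Prime 5) := ⟨by norm_num⟩

/-- Every maximal subgroup of SL_5(q) is of one of the listed geometric types or lies in the residual class. Let F be a finite field with q elements (p its characteristic) and H a maximal subgroup of SL_5(F) (inside GL_5(F)). Then H is the intersection with SL_5(F) of one of: the stabiliser of a proper non-zero subspace; for q ≥ 5, the stabiliser of a decomposition into 5 independent 1-spaces; the normaliser of a degree-5 subfield of the matrix algebra; a subfield group for a subfield F₀ with |F| = |F₀|^r, r prime; for q = p prime with p ≡ 1 mod 5, the normaliser of an absolutely irreducible 5-subgroup R of exponent 5 and order 5^(1+2m) with centre of order 5, all of whose characteristic abelian subgroups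 are cyclic, F being the smallest field of characteristic p containing the fifth roots of unity (here R is extraspecial of order 125); for q odd, the similarity group of a non-degenerate quadratic form; the similarity group of a non-degenerate unitary form — or else H lies in the residual class of the linear case (modulo scalars H is almost simple, with absolutely irreducible perfect socle preimage realisable over no proper subfield and fixing no non-degenerate quadratic, symplectic or unitary form). -/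
theorem result {F : Type*} [Field F] [Fintype F] (H : Subgroup (Matrix.GeneralLinearGroup (Fin 5) F)) (hH : Cfsg.Geo.IsMaximalIn (Cfsg.Geo.specialLinear (Fin 5) F) H) :
    (∃ W : Submodule F (Fin 5 → F), W ≠ ⊥ ∧ W ≠ ⊤ ∧ H = Cfsg.Geo.subspaceStabilizer W ⊓ Cfsg.Geo.specialLinear (Fin 5) F) ∨
    (5 ≤ Fintype.card F ∧ ∃ D : Fin 5 → Submodule F (Fin 5 → F), Cfsg.Geo.IsMDecomposition 1 D ∧ H = Cfsg.Geo.decompositionStabilizer D ⊓ Cfsg.Geo.specialLinear (Fin 5) F) ∨
    (∃ K : Subalgebra F (Matrix (Fin 5) (Fin 5) F), Cfsg.Geo.IsFieldSubalgebra 5 K ∧ H = Cfsg.Geo.subalgebraNormalizer K ⊓ Cfsg.Geo.specialLinear (Fin 5) F) ∨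
    (∃ (F₀ : Subfield F) (r : ℕ) (P : Matrix.GeneralLinearGroup (Fin 5) F), r.Prime ∧ Fintype.card F = Nat.card F₀ ^ r ∧ H = Cfsg.Geo.subfieldSubgroup F₀ P ⊓ Cfsg.Geo.specialLinear (Fin 5) F) ∨
    ((∃ p : ℕ, p.Prime ∧ Fintype.card F = p ∧ (p % 5 = 1)) ∧ ∃ R : Subgroup (Matrix.GeneralLinearGroup (Fin 5) F), Cfsg.Geo.IsLinearSymplecticTypeData 5 R ∧ H = Cfsg.Geo.subgroupNormalizer R ⊓ Cfsg.Geo.specialLinear (Fin 5) F) ∨
    (Odd (Fintype.card F) ∧ ∃ Q : (Fin 5 → F) → F, Cfsg.Geo.IsNondegenerateQuadraticForm Q ∧ H = Cfsg.Geo.quadSimilarityGroup Q ⊓ Cfsg.Geo.specialLinear (Fin 5) F) ∨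
    (∃ (σ : F ≃+* F) (f : (Fin 5 → F) → (Fin 5 → F) → F), Cfsg.Geo.IsUnitaryForm σ f ∧ H = Cfsg.Geo.similarityGroup f ⊓ Cfsg.Geo.specialLinear (Fin 5) F) ∨
    Cfsg.Geo.InLinearResidualClass H := by
  have h := maximal_cases (n := 5) (by norm_num) (by norm_num) hH
  rcases h with h | ⟨D, hD, hH'⟩ | h | h | ⟨R, hR, hH'⟩ | h | h | h
  · exact Or.inl h
  · by_cases hq : 5 ≤ Fintype.card F
    · exact Or.inr (Or.inl ⟨hq, D, hD, hH'⟩)
    have hle : H ≤ Cfsg.Geo.decompositionStabilizer D := hH' ▸ inf_le_left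
    have heq : ∀ M : Subgroup (Matrix.GeneralLinearGroup (Fin 5) F), H ≤ M →
        ¬ Cfsg.Geo.specialLinear (Fin 5) F ≤ M → H = M ⊓ Cfsg.Geo.specialLinear (Fin 5) F := fun M hM hnot =>
      ((hH.2 _ (le_inf hM hH.1.le) inf_le_right).resolve_right fun h => hnot (h ▸ inf_le_left)).symm
    rcases monomial_small (by norm_num) (by omega) hD with ⟨W, hb, ht, hM⟩ | ⟨ho, Q, hQ, hM⟩ | ⟨σ, f, hf, hM⟩
    · exact Or.inl ⟨W, hb, ht, heq _ (hle.trans hM) (not_le_subspaceStabilizer (by simp) hb ht)⟩
    · exact Or.inr (Or.inr (Or.inr (Or.inr (Or.inr (Or.inl ⟨ho, Q, hQ,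
        heq _ (hle.trans hM) (not_le_quadSimilarityGroup (by simp) hQ)⟩)))))
    · exact Or.inr (Or.inr (Or.inr (Or.inr (Or.inr (Or.inr (Or.inl ⟨σ, f, hf, heq _ (hle.trans hM)
        (not_le_similarityGroup (σ := (σ : F →+* F)) (by simp) σ.bijective (isSesqui_of_unitary hf) hf.nondegenerate)⟩))))))
  · exact Or.inr (Or.inr (Or.inl h))
  · exact Or.inr (Or.inr (Or.inr (Or.inl h)))
  · refine Or.inr (Or.inr (Or.inr (Or.inr (Or.inl ⟨?_, R, hR, hH'⟩))))
    obtain ⟨p, e, hp, hc, hF, hodd, he, hdvd, hmin⟩ := data_field (by norm_num) hR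
    have heo := degree_eq_orderOf hp hdvd he hmin
    have hmod : (p : ZMod 5) = ((p % 5 : ℕ) : ZMod 5) := by rw [ZMod.natCast_mod]
    have hne : (p : ZMod 5) ≠ 0 := by
      intro h0
      rw [h0, orderOf_zero] at heo
      omega
    have hlt : p % 5 < 5 := Nat.mod_lt _ (by norm_num)
    rw [hmod] at heo hne
    have hcases : p % 5 = 1 ∨ p % 5 = 2 ∨ p % 5 = 3 ∨ p % 5 = 4 := by
      have hne' : p % 5 ≠ 0 := fun h0 => hne (by rw [h0, Nat.cast_zero])
      omega
    rcases hcases with hr | hr | hr | hr <;> rw [hr] at heo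
    · have ho : orderOf ((1 : ℕ) : ZMod 5) = 1 := by simp
      rw [ho] at heo
      subst heo
      exact ⟨p, hp, by rw [hF, pow_one], hr⟩
    · have ho : orderOf ((2 : ℕ) : ZMod 5) = 4 := by
        rw [orderOf_eq_iff (by norm_num)]
        exact ⟨by decide, fun m hm hm0 => by interval_cases m <;> decide⟩
      rw [ho] at heo
      subst heo
      exact absurd hodd (by decide)
    · have ho : orderOf ((3 : ℕ) : ZMod 5) = 4 := by
        rw [orderOf_eq_iff (by norm_num)]
        exact ⟨by decide, fun m hm hm0 => by interval_cases m <;> decide⟩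
      rw [ho] at heo
      subst heo
      exact absurd hodd (by decide)
    · have ho : orderOf ((4 : ℕ) : ZMod 5) = 2 := by
        rw [orderOf_eq_iff (by norm_num)]
        exact ⟨by decide, fun m hm hm0 => by interval_cases m <;> decide⟩
      rw [ho] at heo
      subst heo
      exact absurd hodd (by decide)
  · exact Or.inr (Or.inr (Or.inr (Or.inr (Or.inr (Or.inl h)))))
  · exact Or.inr (Or.inr (Or.inr (Or.inr (Or.inr (Or.inr (Or.inl h))))))
  · exact Or.inr (Or.inr (Or.inr (Or.inr (Or.inr (Or.inr (Or.inr h))))))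

end Cfsg.Agent.S5793
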