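import Cfsg.Statements.S5796
import Cfsg.Agent.Lib.PrimeDim.SU52
-- import your own Cfsg.Agent.* helpers here

set_option autoImplicit false
open Cfsg

namespace Cfsg.Agent.S5796

instance factPrime : Fact (Nat.Prime 5) := ⟨by norm_num⟩

/-- Every maximal subgroup of SU_5(q) is of one of the listed geometric types or lies in the residual class. Let F be the field with q² elements (characteristic p), f the standard unitary form Σ u_i v_i^q on F^5, and H a maximal subgroup of SU_5(q) (inside GL_5(F)). Then H is the intersection with SU_5(q) of one of: the stabiliser of a non-zero totally isotropic subspace; the stabiliser of a non-degenerate 1-space or 2-space; the stabiliser of a decomposition into five mutually orthogonal non-degenerate 1-spaces; for q ≥ 3, the normaliser of an adjoint-closed degree-5 subfield of the matrix algebra; a subfield group of odd prime index whose F₀-structure carries f; for q odd,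 a subfield group of index 2 whose F₀-structure carries f; for q = p ≡ 4 mod 5 or q = p² with p ≡ 2, 3 mod 5, the normaliser of an absolutely irreducible 5-group of exponent 5, order 125 and centre of order 5 with all characteristic abelian subgroups cyclic inside the similarity group of f — or else H lies in the residual class of the unitary case. -/
theorem result {F : Type*} [Field F] [Fintype F] (q : ℕ) (hF : Fintype.card F = q ^ 2) (H : Subgroup (Matrix.GeneralLinearGroup (Fin 5) F)) (hH : Cfsg.Geo.IsMaximalIn (Cfsg.GU 5 F q ⊓ Cfsg.Geo.specialLinear (Fin 5) F) H) :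
    (∃ W : Submodule F (Fin 5 → F), W ≠ ⊥ ∧ Cfsg.Geo.IsTotallySingularFor (Cfsg.hermForm 5 F q) W ∧ H = Cfsg.Geo.subspaceStabilizer W ⊓ (Cfsg.GU 5 F q ⊓ Cfsg.Geo.specialLinear (Fin 5) F)) ∨
    (∃ W : Submodule F (Fin 5 → F), W ≠ ⊥ ∧ Cfsg.Geo.IsNondegenerateOn (Cfsg.hermForm 5 F q) W ∧ 2 * Module.finrank F W < 5 ∧ H = Cfsg.Geo.subspaceStabilizer W ⊓ (Cfsg.GU 5 F q ⊓ Cfsg.Geo.specialLinear (Fin 5) F)) ∨
    (∃ D : Fin 5 → Submodule F (Fin 5 → F), Cfsg.Geo.IsNondegenerateMDecomposition (Cfsg.hermForm 5 F q) 1 D ∧ H = Cfsg.Geo.decompositionStabilizer D ⊓ (Cfsg.GU 5 F q ⊓ Cfsg.Geo.specialLinear (Fin 5) F)) ∨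
    (3 ≤ q ∧ ∃ K : Subalgebra F (Matrix (Fin 5) (Fin 5) F), Cfsg.Geo.IsFieldSubalgebra 5 K ∧ Cfsg.Geo.IsAdjointClosedFor (Cfsg.hermForm 5 F q) K ∧ H = Cfsg.Geo.subalgebraNormalizer K ⊓ (Cfsg.GU 5 F q ⊓ Cfsg.Geo.specialLinear (Fin 5) F)) ∨
    (∃ (F₀ : Subfield F) (r : ℕ) (P : Matrix.GeneralLinearGroup (Fin 5) F), r.Prime ∧ Odd r ∧ Fintype.card F = Nat.card F₀ ^ r ∧ Cfsg.Geo.IsFormRationalStructure (Cfsg.hermForm 5 F q) F₀ 1 P ∧ H = Cfsg.Geo.subfieldSubgroup F₀ P ⊓ (Cfsg.GU 5 F q ⊓ Cfsg.Geo.specialLinear (Fin 5) F)) ∨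
    (Odd q ∧ ∃ (F₀ : Subfield F) (P : Matrix.GeneralLinearGroup (Fin 5) F), Fintype.card F = Nat.card F₀ ^ 2 ∧ Cfsg.Geo.IsFormRationalStructure (Cfsg.hermForm 5 F q) F₀ 1 P ∧ H = Cfsg.Geo.subfieldSubgroup F₀ P ⊓ (Cfsg.GU 5 F q ⊓ Cfsg.Geo.specialLinear (Fin 5) F)) ∨
    (∃ (p : ℕ) (R : Subgroup (Matrix.GeneralLinearGroup (Fin 5) F)), p.Prime ∧ CharP F p ∧ ((q = p ∧ p % 5 = 4) ∨ (q = p ^ 2 ∧ (p % 5 = 2 ∨ p % 5 = 3))) ∧ Cfsg.Geo.IsSymplecticTypeGroup 5 R ∧ Cfsg.Geo.ActsAbsolutelyIrreducibly (Cfsg.Geo.matrixSet R) ∧ R ≤ Cfsg.Geo.similarityGroup (Cfsg.hermForm 5 F q) ∧ Nat.card R = 125 ∧ Nat.card (Subgroup.center R) = 5 ∧ H = Cfsg.Geo.subgroupNormalizer R ⊓ (Cfsg.GU 5 F q ⊓ Cfsg.Geo.specialLinear (Fin 5) F)) ∨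
    Cfsg.Geo.InUnitaryResidualClass H := by
  have hn : Nat.Prime 5 := by norm_num
  have h35 : 3 ≤ 5 := by norm_num
  have heq : ∀ M : Subgroup (Matrix.GeneralLinearGroup (Fin 5) F), H ≤ M → ¬ Cfsg.Agent.Lib.PrimeDim.Unitary.SUgl 5 F q ≤ M → H = M ⊓ Cfsg.Agent.Lib.PrimeDim.Unitary.SUgl 5 F q := fun M hM hnot =>
    ((hH.2 _ (le_inf hM hH.1.le) inf_le_right).resolve_right fun h => hnot (h.symm.le.trans inf_le_left)).symm
  rcases Cfsg.Agent.Lib.PrimeDim.Unitary.main hF hn h35 H hH.1.le with ⟨W, hb, ht, hW, hle⟩ | ⟨W, hb, ht, hW, hd, hle⟩ | ⟨D, hD, hle⟩ |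
      ⟨K, hK, hadj, hle, N, hNG, hNn, hNs, -, rfl⟩ | ⟨F₀, r, P, hr, hcase, hc, hP, hle⟩ |
      ⟨R, ⟨p, h, hp, hc, hq, hh, hd, hmin, hst, habs, hRG, hcomm, hcard, hcc⟩, hle⟩ | hres
  · exact Or.inl ⟨W, hb, hW, heq _ hle (Cfsg.Agent.Lib.PrimeDim.Unitary.not_le_subspace hF hn.two_le hb ht)⟩
  · exact Or.inr (Or.inl ⟨W, hb, hW, hd, heq _ hle (Cfsg.Agent.Lib.PrimeDim.Unitary.not_le_subspace hF hn.two_le hb ht)⟩)
  · exact Or.inr (Or.inr (Or.inl ⟨D, hD, heq _ hle (Cfsg.Agent.Lib.PrimeDim.Unitary.not_le_decomposition hF h35 (by omega) hD)⟩))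
  · by_cases hq3 : 3 ≤ q
    · exact Or.inr (Or.inr (Or.inr (Or.inl ⟨hq3, _, hK, hadj, heq _ hle (Cfsg.Agent.Lib.PrimeDim.Unitary.not_le_subalgebra hF h35 hn.two_le hK)⟩)))
    exfalso
    have hq2 : q = 2 := by
      have := Cfsg.Agent.Lib.Unitary.one_lt_q hF
      omega
    subst hq2
    exact Cfsg.Agent.Lib.PrimeDim.SU52.not_maximal hF hH hNG hNn hNs hK
  · have heq' := heq _ hle (Cfsg.Agent.Lib.PrimeDim.Unitary.not_le_subfield hF hn h35 hr hcase hc P)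
    rcases hcase with ho | ⟨rfl, hqo⟩
    · exact Or.inr (Or.inr (Or.inr (Or.inr (Or.inl ⟨F₀, r, P, hr, ho, hc, hP, heq'⟩))))
    · exact Or.inr (Or.inr (Or.inr (Or.inr (Or.inr (Or.inl ⟨hqo, F₀, P, hc, hP, heq'⟩)))))
  · refine Or.inr (Or.inr (Or.inr (Or.inr (Or.inr (Or.inr (Or.inl ⟨p, R, hp, hc, ?_, hst, habs,
      (hRG.trans inf_le_left).trans Cfsg.Agent.Lib.PrimeDim.UnitaryBase.GU_le_similarityGroup, by rw [hcard]; norm_num, hcc,
      heq _ hle (Cfsg.Agent.Lib.PrimeDim.Unitary.not_le_normalizer hF hn le_rfl habs (hRG.trans inf_le_right) hcomm)⟩))))))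
    have heo := Cfsg.Agent.Lib.PrimeDim.Small.degree_eq_orderOf hp hd (by omega) hmin
    rw [← ZMod.natCast_mod p 5] at heo
    have hlt : p % 5 < 5 := Nat.mod_lt _ (by norm_num)
    have hne' : p % 5 ≠ 0 := by
      intro h0
      rw [h0, Nat.cast_zero, orderOf_zero] at heo
      omega
    have hcases : p % 5 = 1 ∨ p % 5 = 2 ∨ p % 5 = 3 ∨ p % 5 = 4 := by omega
    rcases hcases with hr | hr | hr | hr <;> rw [hr] at heo
    · have ho : orderOf ((1 : ℕ) : ZMod 5) = 1 := by simp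
      rw [ho] at heo
      omega
    · have ho : orderOf ((2 : ℕ) : ZMod 5) = 4 := by
        rw [orderOf_eq_iff (by norm_num)]
        exact ⟨by decide, fun m hm hm0 => by interval_cases m <;> decide⟩
      rw [ho] at heo
      exact Or.inr ⟨by rw [hq, show h = 2 by omega], by omega⟩
    · have ho : orderOf ((3 : ℕ) : ZMod 5) = 4 := by
        rw [orderOf_eq_iff (by norm_num)]
        exact ⟨by decide, fun m hm hm0 => by interval_cases m <;> decide⟩
      rw [ho] at heo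
      exact Or.inr ⟨by rw [hq, show h = 2 by omega], by omega⟩
    · have ho : orderOf ((4 : ℕ) : ZMod 5) = 2 := by
        rw [orderOf_eq_iff (by norm_num)]
        exact ⟨by decide, fun m hm hm0 => by interval_cases m <;> decide⟩
      rw [ho] at heo
      exact Or.inl ⟨by rw [hq, show h = 1 by omega, pow_one], hr⟩
  · exact Or.inr (Or.inr (Or.inr (Or.inr (Or.inr (Or.inr (Or.inr hres))))))

end Cfsg.Agent.S5796
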