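import Cfsg.Statements.S5811
import Cfsg.Agent.Lib.PrimeDim.Unitary
-- import your own Cfsg.Agent.* helpers here

set_option autoImplicit false
open Cfsg

namespace Cfsg.Agent.S5811

instance factPrime : Fact (Nat.Prime 7) := ⟨by norm_num⟩

/-- Every maximal subgroup of SU_7(q) is of one of the listed geometric types or lies in the residual class. Let F be the field with q² elements (characteristic p), f the standard unitary form Σ u_i v_i^q on F^7, and H a maximal subgroup of SU_7(q) (inside GL_7(F)). Then H is the intersection with SU_7(q) of one of: the stabiliser of a non-zero totally isotropic subspace; the stabiliser of a non-degenerate 1-, 2- or 3-space; the stabiliser of a decomposition into seven mutually orthogonal non-degenerate 1-spaces; the normaliser of an adjoint-closed degree-7 subfield of the matrix algebra; a subfield group of odd prime index whose F₀-structure carries f; for q odd, a subfield group of index 2 whose F₀-structure carries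 f; for q = p prime with p ≡ 6 mod 7, or q = p³ with p ≡ 3 or 5 mod 7, the normaliser of an absolutely irreducible 7-group R of exponent 7, order 343 and centre of order 7, all of whose characteristic abelian subgroups are cyclic, contained in the similarity group of f — or else H lies in the residual class of the unitary case (modulo scalars H is almost simple, with absolutely irreducible perfect socle preimage realisable over no proper subfield and fixing no non-degenerate quadratic or symplectic form). -/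
theorem result {F : Type*} [Field F] [Fintype F] (q : ℕ) (hF : Fintype.card F = q ^ 2) (H : Subgroup (Matrix.GeneralLinearGroup (Fin 7) F)) (hH : Cfsg.Geo.IsMaximalIn (Cfsg.GU 7 F q ⊓ Cfsg.Geo.specialLinear (Fin 7) F) H) :
    (∃ W : Submodule F (Fin 7 → F), W ≠ ⊥ ∧ Cfsg.Geo.IsTotallySingularFor (Cfsg.hermForm 7 F q) W ∧ H = Cfsg.Geo.subspaceStabilizer W ⊓ (Cfsg.GU 7 F q ⊓ Cfsg.Geo.specialLinear (Fin 7) F)) ∨
    (∃ W : Submodule F (Fin 7 → F), W ≠ ⊥ ∧ Cfsg.Geo.IsNondegenerateOn (Cfsg.hermForm 7 F q) W ∧ 2 * Module.finrank F W < 7 ∧ H = Cfsg.Geo.subspaceStabilizer W ⊓ (Cfsg.GU 7 F q ⊓ Cfsg.Geo.specialLinear (Fin 7) F)) ∨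
    (∃ D : Fin 7 → Submodule F (Fin 7 → F), Cfsg.Geo.IsNondegenerateMDecomposition (Cfsg.hermForm 7 F q) 1 D ∧ H = Cfsg.Geo.decompositionStabilizer D ⊓ (Cfsg.GU 7 F q ⊓ Cfsg.Geo.specialLinear (Fin 7) F)) ∨
    (∃ K : Subalgebra F (Matrix (Fin 7) (Fin 7) F), Cfsg.Geo.IsFieldSubalgebra 7 K ∧ Cfsg.Geo.IsAdjointClosedFor (Cfsg.hermForm 7 F q) K ∧ H = Cfsg.Geo.subalgebraNormalizer K ⊓ (Cfsg.GU 7 F q ⊓ Cfsg.Geo.specialLinear (Fin 7) F)) ∨
    (∃ (F₀ : Subfield F) (r : ℕ) (P : Matrix.GeneralLinearGroup (Fin 7) F), r.Prime ∧ Odd r ∧ Fintype.card F = Nat.card F₀ ^ r ∧ Cfsg.Geo.IsFormRationalStructure (Cfsg.hermForm 7 F q) F₀ 1 P ∧ H = Cfsg.Geo.subfieldSubgroup F₀ P ⊓ (Cfsg.GU 7 F q ⊓ Cfsg.Geo.specialLinear (Fin 7) F)) ∨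
    (Odd q ∧ ∃ (F₀ : Subfield F) (P : Matrix.GeneralLinearGroup (Fin 7) F), Fintype.card F = Nat.card F₀ ^ 2 ∧ Cfsg.Geo.IsFormRationalStructure (Cfsg.hermForm 7 F q) F₀ 1 P ∧ H = Cfsg.Geo.subfieldSubgroup F₀ P ⊓ (Cfsg.GU 7 F q ⊓ Cfsg.Geo.specialLinear (Fin 7) F)) ∨
    (∃ (p : ℕ) (R : Subgroup (Matrix.GeneralLinearGroup (Fin 7) F)), p.Prime ∧ CharP F p ∧ ((q = p ∧ p % 7 = 6) ∨ (q = p ^ 3 ∧ (p % 7 = 3 ∨ p % 7 = 5))) ∧ Cfsg.Geo.IsSymplecticTypeGroup 7 R ∧ Cfsg.Geo.ActsAbsolutelyIrreducibly (Cfsg.Geo.matrixSet R) ∧ R ≤ Cfsg.Geo.similarityGroup (Cfsg.hermForm 7 F q) ∧ Nat.card R = 343 ∧ Nat.card (Subgroup.center R) = 7 ∧ H = Cfsg.Geo.subgroupNormalizer R ⊓ (Cfsg.GU 7 F q ⊓ Cfsg.Geo.specialLinear (Fin 7) F)) ∨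
    Cfsg.Geo.InUnitaryResidualClass H := by
  rcases Cfsg.Agent.Lib.PrimeDim.Unitary.maximal_cases hF (by norm_num) (by norm_num) hH with
    h | h | h | h | h | h | ⟨R, ⟨p, h, hp, hc, hq, hh, hd, hmin, hst, habs, hRG, -, hcard, hcc⟩, hH'⟩ | h
  · exact Or.inl h
  · exact Or.inr (Or.inl h)
  · exact Or.inr (Or.inr (Or.inl h))
  · exact Or.inr (Or.inr (Or.inr (Or.inl h)))
  · exact Or.inr (Or.inr (Or.inr (Or.inr (Or.inl h))))
  · exact Or.inr (Or.inr (Or.inr (Or.inr (Or.inr (Or.inl h)))))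
  · refine Or.inr (Or.inr (Or.inr (Or.inr (Or.inr (Or.inr (Or.inl ⟨p, R, hp, hc, ?_, hst, habs,
      (hRG.trans inf_le_left).trans Cfsg.Agent.Lib.PrimeDim.UnitaryBase.GU_le_similarityGroup, by rw [hcard]; norm_num, hcc, hH'⟩))))))
    have heo := Cfsg.Agent.Lib.PrimeDim.Small.degree_eq_orderOf hp hd (by omega) hmin
    rw [← ZMod.natCast_mod p 7] at heo
    have hlt : p % 7 < 7 := Nat.mod_lt _ (by norm_num)
    have hne' : p % 7 ≠ 0 := by
      intro h0
      rw [h0, Nat.cast_zero, orderOf_zero] at heo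
      omega
    have hcases : p % 7 = 1 ∨ p % 7 = 2 ∨ p % 7 = 3 ∨ p % 7 = 4 ∨ p % 7 = 5 ∨ p % 7 = 6 := by omega
    rcases hcases with hr | hr | hr | hr | hr | hr <;> rw [hr] at heo
    · have ho : orderOf ((1 : ℕ) : ZMod 7) = 1 := by simp
      rw [ho] at heo
      omega
    · have ho : orderOf ((2 : ℕ) : ZMod 7) = 3 := by
        rw [orderOf_eq_iff (by norm_num)]
        exact ⟨by decide, fun m hm hm0 => by interval_cases m <;> decide⟩
      rw [ho] at heo
      omega
    · have ho : orderOf ((3 : ℕ) : ZMod 7) = 6 := by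
        rw [orderOf_eq_iff (by norm_num)]
        exact ⟨by decide, fun m hm hm0 => by interval_cases m <;> decide⟩
      rw [ho] at heo
      exact Or.inr ⟨by rw [hq, show h = 3 by omega], by omega⟩
    · have ho : orderOf ((4 : ℕ) : ZMod 7) = 3 := by
        rw [orderOf_eq_iff (by norm_num)]
        exact ⟨by decide, fun m hm hm0 => by interval_cases m <;> decide⟩
      rw [ho] at heo
      omega
    · have ho : orderOf ((5 : ℕ) : ZMod 7) = 6 := by
        rw [orderOf_eq_iff (by norm_num)]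
        exact ⟨by decide, fun m hm hm0 => by interval_cases m <;> decide⟩
      rw [ho] at heo
      exact Or.inr ⟨by rw [hq, show h = 3 by omega], by omega⟩
    · have ho : orderOf ((6 : ℕ) : ZMod 7) = 2 := by
        rw [orderOf_eq_iff (by norm_num)]
        exact ⟨by decide, fun m hm hm0 => by interval_cases m <;> decide⟩
      rw [ho] at heo
      exact Or.inl ⟨by rw [hq, show h = 1 by omega, pow_one], hr⟩
  · exact Or.inr (Or.inr (Or.inr (Or.inr (Or.inr (Or.inr (Or.inr h))))))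

end Cfsg.Agent.S5811
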