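import Cfsg.Statements.S5823
import Cfsg.Agent.Lib.AschbacherSp.PlusTensor

set_option autoImplicit false
open Cfsg
open Cfsg.Geo Cfsg.Agent.Lib.AschbacherSp

namespace Cfsg.Agent.S5823

/-- Every maximal subgroup of Sp_8(q) is of one of the listed geometric types or lies in the residual class. Let F be a finite field with q elements, f the standard alternating form on F^8 (coordinates Fin 4 ⊕ Fin 4), and H a maximal subgroup of Sp_8(F) (inside GL_8(F)). Then H is the intersection with Sp_8(F) of one of: the stabiliser of a non-zero totally isotropic subspace; the stabiliser of a non-degenerate 2-space; for q ≥ 3, the stabiliser of a decomposition into four mutually orthogonal non-degenerate 2-spaces; of a decomposition into two orthogonal non-degenerate 4-spaces; for q odd, of a decomposition into two totally isotropic 4-spaces; the normaliser of a degree-2 subfield K, self-adjoint with f(k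 v, v) = 0; for q odd, the normaliser of a degree-2 subfield closed under adjoints but not self-adjoint; for q odd, the stabiliser of a tensor decomposition of f into an alternating form on F^2 and a minus-type symmetric form on F^4; a subfield group (|F| = |F₀|^r, r prime) whose F₀-structure carries a non-zero multiple of f; for q = p an odd prime, the normaliser of an absolutely irreducible extraspecial group 2_-^(1+6) of exponent 4 inside the similarity group of f; for q odd, q ≥ 5, the stabiliser of a tensor decomposition of f as a third tensor power of an alternating form on F^2; for q even, the similarity group of a non-degenerate quadratic form polarising to f — or else H lies in the residual class of the symplectic case. -/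
theorem result {F : Type*} [Field F] [Fintype F] (H : Subgroup (Matrix.GeneralLinearGroup (Fin 4 ⊕ Fin 4) F)) (hH : Cfsg.Geo.IsMaximalIn (Cfsg.spGL 4 F) H) :
    (∃ W : Submodule F (Fin 4 ⊕ Fin 4 → F), W ≠ ⊥ ∧ Cfsg.Geo.IsTotallySingularFor (Cfsg.sympForm 4 F) W ∧ H = Cfsg.Geo.subspaceStabilizer W ⊓ Cfsg.spGL 4 F) ∨
    (∃ W : Submodule F (Fin 4 ⊕ Fin 4 → F), W ≠ ⊥ ∧ Cfsg.Geo.IsNondegenerateOn (Cfsg.sympForm 4 F) W ∧ Module.finrank F W < 4 ∧ H = Cfsg.Geo.subspaceStabilizer W ⊓ Cfsg.spGL 4 F) ∨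
    (3 ≤ Fintype.card F ∧ ∃ D : Fin 4 → Submodule F (Fin 4 ⊕ Fin 4 → F), Cfsg.Geo.IsNondegenerateMDecomposition (Cfsg.sympForm 4 F) 2 D ∧ H = Cfsg.Geo.decompositionStabilizer D ⊓ Cfsg.spGL 4 F) ∨
    (∃ D : Fin 2 → Submodule F (Fin 4 ⊕ Fin 4 → F), Cfsg.Geo.IsNondegenerateMDecomposition (Cfsg.sympForm 4 F) 4 D ∧ H = Cfsg.Geo.decompositionStabilizer D ⊓ Cfsg.spGL 4 F) ∨
    (Odd (Fintype.card F) ∧ ∃ D : Fin 2 → Submodule F (Fin 4 ⊕ Fin 4 → F), Cfsg.Geo.IsMDecomposition 4 D ∧ (∀ i, Cfsg.Geo.IsTotallySingularFor (Cfsg.sympForm 4 F) (D i)) ∧ H = Cfsg.Geo.decompositionStabilizer D ⊓ Cfsg.spGL 4 F) ∨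
    (∃ K : Subalgebra F (Matrix (Fin 4 ⊕ Fin 4) (Fin 4 ⊕ Fin 4) F), Cfsg.Geo.IsFieldSubalgebra 2 K ∧ Cfsg.Geo.IsSelfAdjointFor (Cfsg.sympForm 4 F) K ∧ (∀ k ∈ K, ∀ v : (Fin 4 ⊕ Fin 4 → F), (Cfsg.sympForm 4 F) (Matrix.mulVec k v) v = 0) ∧ H = Cfsg.Geo.subalgebraNormalizer K ⊓ Cfsg.spGL 4 F) ∨
    (Odd (Fintype.card F) ∧ ∃ K : Subalgebra F (Matrix (Fin 4 ⊕ Fin 4) (Fin 4 ⊕ Fin 4) F), Cfsg.Geo.IsFieldSubalgebra 2 K ∧ Cfsg.Geo.IsAdjointClosedFor (Cfsg.sympForm 4 F) K ∧ ¬ Cfsg.Geo.IsSelfAdjointFor (Cfsg.sympForm 4 F) K ∧ H = Cfsg.Geo.subalgebraNormalizer K ⊓ Cfsg.spGL 4 F) ∨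
    (Odd (Fintype.card F) ∧ ∃ (e : (Fin 4 ⊕ Fin 4) ≃ Fin 2 × Fin 4) (P : Matrix.GeneralLinearGroup (Fin 4 ⊕ Fin 4) F) (f₁ : (Fin 2 → F) → (Fin 2 → F) → F) (f₂ : (Fin 4 → F) → (Fin 4 → F) → F), Cfsg.Geo.IsSymplecticForm f₁ ∧ Cfsg.Geo.IsSymmetricForm f₂ ∧ ¬ Cfsg.Geo.IsPlusTypeOn (fun v : Fin 4 → F => f₂ v v) ⊤ ∧ Cfsg.Geo.IsTensorFormStructure id (Cfsg.sympForm 4 F) f₁ f₂ e P ∧ H = Cfsg.Geo.tensorProductSubgroup 2 4 e P ⊓ Cfsg.spGL 4 F) ∨
    (∃ (F₀ : Subfield F) (r : ℕ) (P : Matrix.GeneralLinearGroup (Fin 4 ⊕ Fin 4) F) (ζ : F), r.Prime ∧ Fintype.card F = Nat.card F₀ ^ r ∧ ζ ≠ 0 ∧ Cfsg.Geo.IsFormRationalStructure (Cfsg.sympForm 4 F) F₀ ζ P ∧ H = Cfsg.Geo.subfieldSubgroup F₀ P ⊓ Cfsg.spGL 4 F) ∨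
    (∃ (p : ℕ) (R : Subgroup (Matrix.GeneralLinearGroup (Fin 4 ⊕ Fin 4) F)), p.Prime ∧ Odd p ∧ Fintype.card F = p ∧ Cfsg.Geo.IsSymplecticTypeGroup 2 R ∧ Cfsg.Geo.ActsAbsolutelyIrreducibly (Cfsg.Geo.matrixSet R) ∧ R ≤ Cfsg.Geo.similarityGroup (Cfsg.sympForm 4 F) ∧ Nat.card R = 128 ∧ Nat.card (Subgroup.center R) = 2 ∧ Cfsg.Geo.IsOfMinusType 3 R ∧ H = Cfsg.Geo.subgroupNormalizer R ⊓ Cfsg.spGL 4 F) ∨
    (Odd (Fintype.card F) ∧ 5 ≤ Fintype.card F ∧ ∃ (e : (Fin 4 ⊕ Fin 4) ≃ (Fin 3 → Fin 2)) (P : Matrix.GeneralLinearGroup (Fin 4 ⊕ Fin 4) F) (f₁ : (Fin 2 → F) → (Fin 2 → F) → F), Cfsg.Geo.IsSymplecticForm f₁ ∧ Cfsg.Geo.IsTensorPowerFormStructure id (Cfsg.sympForm 4 F) f₁ e P ∧ H = Cfsg.Geo.tensorWreathSubgroup 2 3 e P ⊓ Cfsg.spGL 4 F) ∨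
    (¬ Odd (Fintype.card F) ∧ ∃ Q : (Fin 4 ⊕ Fin 4 → F) → F, Cfsg.Geo.IsNondegenerateQuadraticForm Q ∧ (∀ u v : (Fin 4 ⊕ Fin 4 → F), QuadraticMap.polar Q u v = (Cfsg.sympForm 4 F) u v) ∧ H = Cfsg.Geo.quadSimilarityGroup Q ⊓ Cfsg.spGL 4 F) ∨
    Cfsg.Geo.InSymplecticResidualClass H := by
  classical
  have hG := alt_J (F := F) 4
  have hI : ∀ {X}, ¬ Isom (Matrix.J (Fin 4) F) ≤ X → ¬ Cfsg.spGL 4 F ≤ X := fun {X} h => isom_J (F := F) 4 ▸ h
  have hc : Fintype.card (Fin 4 ⊕ Fin 4) = 8 := by simp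
  have hHI : H ≤ Isom (Matrix.J (Fin 4) F) := hH.1.le.trans (spGL_le_isom _)
  have hnorm : ∀ {p : ℕ} {R : Subgroup (Matrix.GeneralLinearGroup (Fin 4 ⊕ Fin 4) F)}, p.Prime → Odd p →
      Fintype.card F = p → IsSymplecticTypeGroup 2 R → ActsAbsolutelyIrreducibly (matrixSet R) →
      R ≤ similarityGroup (Cfsg.sympForm 4 F) → Nat.card R = 128 → Nat.card (Subgroup.center R) = 2 →
      IsOfMinusType 3 R → H ≤ subgroupNormalizer R →
      ∃ (p : ℕ) (R : Subgroup (Matrix.GeneralLinearGroup (Fin 4 ⊕ Fin 4) F)), p.Prime ∧ Odd p ∧ Fintype.card F = p ∧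
        IsSymplecticTypeGroup 2 R ∧ ActsAbsolutelyIrreducibly (matrixSet R) ∧
        R ≤ similarityGroup (Cfsg.sympForm 4 F) ∧ Nat.card R = 128 ∧ Nat.card (Subgroup.center R) = 2 ∧
        IsOfMinusType 3 R ∧ H = subgroupNormalizer R ⊓ Cfsg.spGL 4 F := by
    intro p R hp hpo hq h1 h2 h3 h4 h5 h6 h
    refine ⟨p, R, hp, hpo, hq, h1, h2, h3, h4, h5, h6, eq_inf hH h (hI (not_le_subgroupNormalizer hG (hq ▸ hpo)
      (by omega) h3 (fun r hr => ?_) ?_))⟩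
    · have hx := Monoid.pow_exponent_eq_one (⟨r, hr⟩ : R)
      rw [h1.exponent_eq, show 2 * Nat.gcd 2 2 = 4 by norm_num] at hx
      exact congrArg Subtype.val hx
    · exact Cfsg.Agent.Lib.PrimeDim.Symplectic.not_le_scalars (by omega)
        (Cfsg.Agent.Lib.PrimeDim.Basic.irred_iff.mp h2.1)
  rcases main hG (by omega) H hHI with hgeo | hres
  swap; · exact Or.inr (Or.inr (Or.inr (Or.inr (Or.inr (Or.inr (Or.inr (Or.inr (Or.inr (Or.inr (Or.inr (Or.inr (hres))))))))))))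
  rcases hgeo with ⟨W, h1, h2, h⟩ | ⟨W, h1, h2, h3, h⟩ | ⟨t, k, D, hD, h⟩ | ⟨k, D, ho, hk, hD, hs, h⟩ |
    ⟨r, K, hr, hK, hs, h0, h⟩ | ⟨K, ho, hK, hcl, hs, h⟩ | ⟨n₁, n₂, e, P, f₁, f₂, ho, h3, h1, h2, hf, h⟩ |
    ⟨F₀, r, P, ζ, hr, hq, hζ, hP, h⟩ | ⟨R, p, k, h1, h2, h3, hp, hpo, hq, hcd, hz, hm, hk, h⟩ |
    ⟨k, t, e, P, f₁, ho, ht, h3, hne, h1, hf, h⟩ | ⟨Q, he, hQ, hp, h⟩
  · exact Or.inl ⟨W, h1, h2, eq_inf hH h (hI (not_le_subspaceStabilizer hG h1 (ne_top_of_ts hG h2)))⟩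
  · have hne : W ≠ ⊤ := by
      rintro rfl
      rw [finrank_top, Module.finrank_pi] at h3
      omega
    exact Or.inr (Or.inl ⟨W, h1, h2, by omega, eq_inf hH h (hI (not_le_subspaceStabilizer hG h1 hne))⟩)
  · obtain ⟨j, hj⟩ := even_finrank_of_nondeg hG (hD.nondegenerate ⟨0, by have := hD.decomp.two_le; omega⟩)
    rw [hD.decomp.finrank_eq] at hj
    have htk := decomposition_card hD.decomp
    rw [hc] at htk
    have ht2 := hD.decomp.two_le
    have hk0 := hD.decomp.pos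
    have := Nat.mul_le_mul_left t (show 2 ≤ k by omega)
    have hmem := eq_inf hH h (hI (not_le_decompositionStabilizer hG hD.decomp))
    have hcase : (t = 4 ∧ k = 2) ∨ (t = 2 ∧ k = 4) := by
      have htle : t ≤ 4 := by omega
      interval_cases t <;> omega
    rcases hcase with ⟨rfl, rfl⟩ | ⟨rfl, rfl⟩
    · by_cases hq3 : 3 ≤ Fintype.card F
      · exact Or.inr (Or.inr (Or.inl ⟨hq3, D, hD, hmem⟩))
      · have hq2 : Fintype.card F = 2 := by have := Fintype.one_lt_card (α := F); omega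
        obtain ⟨Q, hQ, hp, hle⟩ := of_planes_two hG hq2 hD
        exact Or.inr (Or.inr (Or.inr (Or.inr (Or.inr (Or.inr (Or.inr (Or.inr (Or.inr (Or.inr (Or.inr (Or.inl ⟨by rw [hq2]; decide, Q, hQ, hp, eq_inf hH ((le_inf h hHI).trans hle) (hI (not_le_quadSimilarityGroup hG (by omega) hp))⟩)))))))))))
    · exact Or.inr (Or.inr (Or.inr (Or.inl ⟨D, hD, hmem⟩)))
  · obtain rfl : k = 4 := by omega
    exact Or.inr (Or.inr (Or.inr (Or.inr (Or.inl ⟨ho, D, hD, hs, eq_inf hH h (hI (not_le_decompositionStabilizer hG hD))⟩))))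
  · have hdvd := field_dvd_half hG hK hs h0
    rw [hc] at hdvd
    have hrle := Nat.le_of_dvd (by norm_num) hdvd
    obtain rfl : r = 2 := by
      have hr2 := hr.two_le
      have : r ≤ 4 := by omega
      interval_cases r <;> first | rfl | (exfalso; omega) | (exfalso; revert hr; norm_num)
    exact Or.inr (Or.inr (Or.inr (Or.inr (Or.inr (Or.inl ⟨K, hK, hs, h0, eq_inf hH h (hI (not_le_subalgebraNormalizer hG (by omega) hK le_rfl))⟩)))))
  · exact Or.inr (Or.inr (Or.inr (Or.inr (Or.inr (Or.inr (Or.inl ⟨ho, K, hK, hcl, hs, eq_inf hH h (hI (not_le_subalgebraNormalizer hG (by omega) hK le_rfl))⟩))))))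
  · obtain ⟨j, hj⟩ := even_of_symplectic h1
    rw [Fintype.card_fin] at hj
    have hprod : n₁ * n₂ = 8 := by rw [← hc, Fintype.card_congr e]; simp
    have hle : n₁ ≤ 8 := Nat.le_of_dvd (by norm_num) ⟨n₂, hprod.symm⟩
    obtain ⟨rfl, rfl⟩ : n₁ = 2 ∧ n₂ = 4 := by interval_cases n₁ <;> omega
    by_cases hplus : IsPlusTypeOn (fun v : Fin 4 → F => f₂ v v) ⊤
    · by_cases hq5 : 5 ≤ Fintype.card F
      · obtain ⟨e', P', g₁, hg₁, hpow, hle'⟩ := plus_wreath hG ho h1 h2 hplus hf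
        exact Or.inr (Or.inr (Or.inr (Or.inr (Or.inr (Or.inr (Or.inr (Or.inr (Or.inr (Or.inr (Or.inl ⟨ho, hq5, e', P', g₁, hg₁, hpow, eq_inf hH ((le_inf h hHI).trans hle') (hI (not_le_tensorWreathSubgroup hG le_rfl (by norm_num) e' P'))⟩))))))))))
      · have hq3 : Fintype.card F = 3 := by
          have := Fintype.one_lt_card (α := F); obtain ⟨i, hi⟩ := ho; omega
        obtain ⟨R, r1, r2, r3, r4, r5, r6, hle'⟩ := plus_three hG hq3 h1 h2 hplus hf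
        refine Or.inr (Or.inr (Or.inr (Or.inr (Or.inr (Or.inr (Or.inr (Or.inr (Or.inr (Or.inl (hnorm Nat.prime_three (by decide) hq3 r1 r2 (fun x hx => ⟨1, fun u v => ?_⟩) r4 r5 r6 ((le_inf h hHI).trans hle')))))))))))
        rw [Units.val_one, one_mul]
        exact gramForm_apply_isom (r3 hx) u v
    · exact Or.inr (Or.inr (Or.inr (Or.inr (Or.inr (Or.inr (Or.inr (Or.inl ⟨ho, e, P, f₁, f₂, h1, h2, hplus, hf, eq_inf hH h (hI (not_le_tensorProductSubgroup hG le_rfl (by norm_num) e P))⟩)))))))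
  · exact Or.inr (Or.inr (Or.inr (Or.inr (Or.inr (Or.inr (Or.inr (Or.inr (Or.inl ⟨F₀, r, P, ζ, hr, hq, hζ, hP, eq_inf hH h (hI (not_le_subfieldSubgroup hG (subfield_ne_top hr hq) P))⟩))))))))
  · obtain rfl : k = 3 := Nat.pow_right_injective le_rfl (show 2 ^ k = 2 ^ 3 by omega)
    exact Or.inr (Or.inr (Or.inr (Or.inr (Or.inr (Or.inr (Or.inr (Or.inr (Or.inr (Or.inl (hnorm hp hpo hq h1 h2 h3 (by rw [hcd]; norm_num) hz hm h))))))))))
  · obtain ⟨j, hj⟩ := even_of_symplectic h1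
    rw [Fintype.card_fin] at hj
    have hkt : k ^ t = 8 := by rw [← hc, Fintype.card_congr e]; simp
    rcases Nat.eq_zero_or_pos k with h0 | h0
    · rw [h0, zero_pow (by omega)] at hkt; omega
    have hk3 : k ^ 3 ≤ k ^ t := Nat.pow_le_pow_right h0 h3
    obtain rfl : k = 2 := by
      have : k < 3 := by
        by_contra! hk
        have := Nat.pow_le_pow_left hk 3
        omega
      omega
    obtain rfl : t = 3 := Nat.pow_right_injective le_rfl (show 2 ^ t = 2 ^ 3 by omega)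
    have hq5 : 5 ≤ Fintype.card F := by
      have := Fintype.one_lt_card (α := F); obtain ⟨i, hi⟩ := ho; omega
    exact Or.inr (Or.inr (Or.inr (Or.inr (Or.inr (Or.inr (Or.inr (Or.inr (Or.inr (Or.inr (Or.inl ⟨ho, hq5, e, P, f₁, h1, hf, eq_inf hH h (hI (not_le_tensorWreathSubgroup hG le_rfl (by norm_num) e P))⟩))))))))))
  · exact Or.inr (Or.inr (Or.inr (Or.inr (Or.inr (Or.inr (Or.inr (Or.inr (Or.inr (Or.inr (Or.inr (Or.inl ⟨he, Q, hQ, hp, eq_inf hH h (hI (not_le_quadSimilarityGroup hG (by omega) hp))⟩)))))))))))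

end Cfsg.Agent.S5823
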