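import Cfsg.Statements.S5832
import Cfsg.Agent.Lib.Aschbacher.UnitaryFrames

set_option autoImplicit false
open Cfsg
open Cfsg.Agent.Lib.Aschbacher Cfsg.Agent.Lib.Aschbacher.Unitary

namespace Cfsg.Agent.S5832

/-- Every maximal subgroup of SU_9(q) is of one of the listed geometric types or lies in the residual class. Let F be the field with q² elements, f the standard unitary form Σ u_i v_i^q on F^9, and H a maximal subgroup of SU_9(q) (inside GL_9(F)). Then H is the intersection with SU_9(q) of one of: the stabiliser of a non-zero totally isotropic subspace; the stabiliser of a non-degenerate 1-, 2-, 3- or 4-space; the stabiliser of a decomposition into nine mutually orthogonal non-degenerate 1-spaces; of a decomposition into three mutually orthogonal non-degenerate 3-spaces; the normaliser of an adjoint-closed degree-3 subfield of the matrix algebra; a subfield group of odd prime index whose F₀-structure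 carries f; for q odd, a subfield group of index 2 whose F₀-structure carries f; for q = p ≡ 2 mod 3 prime, the normaliser of an absolutely irreducible extraspecial group 3_+^(1+4) of exponent 3 inside the similarity group of f; for q ≥ 3, the stabiliser of a tensor decomposition of f as a tensor square of a unitary form on F^3 — or else H lies in the residual class of the unitary case. -/
theorem result {F : Type*} [Field F] [Fintype F] (q : ℕ) (hF : Fintype.card F = q ^ 2) (H : Subgroup (Matrix.GeneralLinearGroup (Fin 9) F)) (hH : Cfsg.Geo.IsMaximalIn (Cfsg.GU 9 F q ⊓ Cfsg.Geo.specialLinear (Fin 9) F) H) :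
    (∃ W : Submodule F (Fin 9 → F), W ≠ ⊥ ∧ Cfsg.Geo.IsTotallySingularFor (Cfsg.hermForm 9 F q) W ∧ H = Cfsg.Geo.subspaceStabilizer W ⊓ (Cfsg.GU 9 F q ⊓ Cfsg.Geo.specialLinear (Fin 9) F)) ∨
    (∃ W : Submodule F (Fin 9 → F), W ≠ ⊥ ∧ Cfsg.Geo.IsNondegenerateOn (Cfsg.hermForm 9 F q) W ∧ 2 * Module.finrank F W < 9 ∧ H = Cfsg.Geo.subspaceStabilizer W ⊓ (Cfsg.GU 9 F q ⊓ Cfsg.Geo.specialLinear (Fin 9) F)) ∨
    (∃ D : Fin 9 → Submodule F (Fin 9 → F), Cfsg.Geo.IsNondegenerateMDecomposition (Cfsg.hermForm 9 F q) 1 D ∧ H = Cfsg.Geo.decompositionStabilizer D ⊓ (Cfsg.GU 9 F q ⊓ Cfsg.Geo.specialLinear (Fin 9) F)) ∨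
    (∃ D : Fin 3 → Submodule F (Fin 9 → F), Cfsg.Geo.IsNondegenerateMDecomposition (Cfsg.hermForm 9 F q) 3 D ∧ H = Cfsg.Geo.decompositionStabilizer D ⊓ (Cfsg.GU 9 F q ⊓ Cfsg.Geo.specialLinear (Fin 9) F)) ∨
    (∃ K : Subalgebra F (Matrix (Fin 9) (Fin 9) F), Cfsg.Geo.IsFieldSubalgebra 3 K ∧ Cfsg.Geo.IsAdjointClosedFor (Cfsg.hermForm 9 F q) K ∧ H = Cfsg.Geo.subalgebraNormalizer K ⊓ (Cfsg.GU 9 F q ⊓ Cfsg.Geo.specialLinear (Fin 9) F)) ∨
    (∃ (F₀ : Subfield F) (r : ℕ) (P : Matrix.GeneralLinearGroup (Fin 9) F), r.Prime ∧ Odd r ∧ Fintype.card F = Nat.card F₀ ^ r ∧ Cfsg.Geo.IsFormRationalStructure (Cfsg.hermForm 9 F q) F₀ 1 P ∧ H = Cfsg.Geo.subfieldSubgroup F₀ P ⊓ (Cfsg.GU 9 F q ⊓ Cfsg.Geo.specialLinear (Fin 9) F)) ∨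
    (Odd q ∧ ∃ (F₀ : Subfield F) (P : Matrix.GeneralLinearGroup (Fin 9) F), Fintype.card F = Nat.card F₀ ^ 2 ∧ Cfsg.Geo.IsFormRationalStructure (Cfsg.hermForm 9 F q) F₀ 1 P ∧ H = Cfsg.Geo.subfieldSubgroup F₀ P ⊓ (Cfsg.GU 9 F q ⊓ Cfsg.Geo.specialLinear (Fin 9) F)) ∨
    (∃ (p : ℕ) (R : Subgroup (Matrix.GeneralLinearGroup (Fin 9) F)), p.Prime ∧ q = p ∧ p % 3 = 2 ∧ Cfsg.Geo.IsSymplecticTypeGroup 3 R ∧ Cfsg.Geo.ActsAbsolutelyIrreducibly (Cfsg.Geo.matrixSet R) ∧ R ≤ Cfsg.Geo.similarityGroup (Cfsg.hermForm 9 F q) ∧ Nat.card R = 243 ∧ Nat.card (Subgroup.center R) = 3 ∧ H = Cfsg.Geo.subgroupNormalizer R ⊓ (Cfsg.GU 9 F q ⊓ Cfsg.Geo.specialLinear (Fin 9) F)) ∨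
    (3 ≤ q ∧ ∃ (e : Fin 9 ≃ (Fin 2 → Fin 3)) (P : Matrix.GeneralLinearGroup (Fin 9) F) (f₁ : (Fin 3 → F) → (Fin 3 → F) → F), Cfsg.Geo.IsUnitaryFormPow q f₁ ∧ Cfsg.Geo.IsTensorPowerFormStructure (fun x : F => x ^ q) (Cfsg.hermForm 9 F q) f₁ e P ∧ H = Cfsg.Geo.tensorWreathSubgroup 3 2 e P ⊓ (Cfsg.GU 9 F q ⊓ Cfsg.Geo.specialLinear (Fin 9) F)) ∨
    Cfsg.Geo.InUnitaryResidualClass H := by
  have hq1 := Cfsg.Agent.Lib.Unitary.one_lt_q hF
  rcases maximal_cases hF (by norm_num) hH with ⟨W, hb, hW, he⟩ | ⟨W, hb, hW, hd, he⟩ |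
    ⟨t, k, D, hD, htk, he⟩ | ⟨k, D, hk, hD, hts, he⟩ |
    ⟨r, K, hr, ho, hrn, hK, hadj, he⟩ | ⟨m, l, e, P, hm, hml, hmn, hP, he⟩ |
    ⟨F₀, r, P, hr, ho, hc, hP, he⟩ | ⟨ho, F₀, P, hc, hP, he⟩ | ⟨hev, F₀, P, ζ, hc, hz, hz', hP, halt, he⟩ |
    ⟨r, m, R, hst, habs, hsim, hn, hm, harith, he⟩ | ⟨m, t, e, P, hm, ht, hmt, hex, hP, hle, he⟩ | hres
  · exact Or.inl (⟨W, hb, hW, he⟩)
  · exact Or.inr (Or.inl (⟨W, hb, hW, hd, he⟩))
  · have ht2 := hD.decomp.two_le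
    have hdiv : t ∣ 9 := Dvd.intro k htk
    have hle : t ≤ 9 := Nat.le_of_dvd (by norm_num) hdiv
    interval_cases t
    · exact absurd hdiv (by norm_num)
    · obtain rfl : k = 3 := by omega
      exact Or.inr (Or.inr (Or.inr (Or.inl (⟨D, hD, he⟩))))
    · exact absurd hdiv (by norm_num)
    · exact absurd hdiv (by norm_num)
    · exact absurd hdiv (by norm_num)
    · exact absurd hdiv (by norm_num)
    · exact absurd hdiv (by norm_num)
    · obtain rfl : k = 1 := by omega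
      exact Or.inr (Or.inr (Or.inl (⟨D, hD, he⟩)))
  · exfalso
    omega
  · obtain rfl : r = 3 := by
      have hle : r ≤ 9 := Nat.le_of_dvd (by norm_num) hrn
      have := hr.two_le
      interval_cases r <;> first | rfl | (exfalso; revert hrn hr ho; norm_num [Nat.odd_iff])
    exact Or.inr (Or.inr (Or.inr (Or.inr (Or.inl (⟨K, hK, hadj, he⟩)))))
  · have hlt : m < 9 := by nlinarith
    interval_cases m
    · exfalso
      omega
    · exfalso
      omega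
    · exfalso
      omega
    · exfalso
      omega
    · exfalso
      omega
    · exfalso
      omega
    · exfalso
      omega
  · exact Or.inr (Or.inr (Or.inr (Or.inr (Or.inr (Or.inl (⟨F₀, r, P, hr, ho, hc, hP, he⟩))))))
  · exact Or.inr (Or.inr (Or.inr (Or.inr (Or.inr (Or.inr (Or.inl (⟨ho, F₀, P, hc, hP, he⟩)))))))
  · exact absurd hev (by decide)
  · obtain rfl : 3 = r := prime_eq_of_pow hst.prime (by norm_num) hn (by norm_num)
    obtain rfl : m = 2 := Nat.pow_right_injective (by norm_num : 2 ≤ 3) (show 3 ^ m = 3 ^ 2 by rw [← hn])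
    rcases harith with ⟨h, -⟩ | ⟨-, hz, hcard, h3⟩
    · exact absurd h (by norm_num)
    · obtain ⟨hq, hq'⟩ := h3 rfl
      exact Or.inr (Or.inr (Or.inr (Or.inr (Or.inr (Or.inr (Or.inr (Or.inl (⟨q, R, hq, rfl, hq', hst, habs, hsim, by rw [hcard]; norm_num, hz, he⟩))))))))
  · have h2 : m ^ 2 ≤ 9 := hmt ▸ Nat.pow_le_pow_right (by omega) ht
    obtain rfl : m = 3 := by nlinarith
    obtain rfl : t = 2 := Nat.pow_right_injective (by norm_num : 2 ≤ 3) (show 3 ^ t = 3 ^ 2 by rw [hmt])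
    exact Or.inr (Or.inr (Or.inr (Or.inr (Or.inr (Or.inr (Or.inr (Or.inr (Or.inl (⟨by omega, e, P, _, herm_fun_unitary hF 3, tensorPowerForm hF e hP, he rfl⟩)))))))))
  · exact Or.inr (Or.inr (Or.inr (Or.inr (Or.inr (Or.inr (Or.inr (Or.inr (Or.inr (hres)))))))))

end Cfsg.Agent.S5832
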