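import Cfsg.Statements.S5835
import Cfsg.Agent.Lib.AschbacherOrth.OddMax

set_option autoImplicit false
open Cfsg
open Cfsg.Agent.Lib.AschbacherOrth

namespace Cfsg.Agent.S5835

/-- Every maximal subgroup of Ω_9(q), q odd, is of one of the listed geometric types or lies in the residual class. Let F be a finite field of odd order q, Q the standard quadratic form x₀² + Σ x_i y_i on F^9 (coordinates Unit ⊕ (Fin 4 ⊕ Fin 4)), Ω the commutator subgroup of its isometry group, and H a maximal subgroup of Ω (inside GL_9(F)). Then H is the intersection with Ω of one of: the stabiliser of a non-zero totally singular subspace; the stabiliser of a non-zero non-degenerate subspace of even dimension (not a plus-type plane when q = 3); for q prime, the stabiliser of a decomposition into nine pairwise orthogonal, pairwise isometric non-degenerate 1-spaces; for q ≥ 5, the stabiliser of a decomposition into three pairwise orthogonal,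 pairwise isometric non-degenerate 3-spaces; the normaliser of a degree-3 subfield of the matrix algebra, self-adjoint for the polar form; a subfield group (|F| = |F₀|^r, r prime) whose F₀-structure carries Q; for q ≥ 5, the stabiliser of a tensor decomposition of the polar form as a tensor square of a symmetric form on F^3 — or else H lies in the residual class of the orthogonal case (modulo scalars H is almost simple, with absolutely irreducible perfect socle preimage realisable over no proper subfield and fixing no non-degenerate unitary form). -/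
theorem result {F : Type*} [Field F] [Fintype F] (hodd : Odd (Fintype.card F)) (H : Subgroup (Matrix.GeneralLinearGroup (Unit ⊕ (Fin 4 ⊕ Fin 4)) F)) (hH : Cfsg.Geo.IsMaximalIn (Cfsg.Geo.omegaGL (Cfsg.quadFormOdd 4 F)) H) :
    (∃ W : Submodule F (Unit ⊕ (Fin 4 ⊕ Fin 4) → F), W ≠ ⊥ ∧ Cfsg.Geo.IsTotallySingularQuad (Cfsg.quadFormOdd 4 F) W ∧ H = Cfsg.Geo.subspaceStabilizer W ⊓ Cfsg.Geo.omegaGL (Cfsg.quadFormOdd 4 F)) ∨
    (∃ W : Submodule F (Unit ⊕ (Fin 4 ⊕ Fin 4) → F), W ≠ ⊥ ∧ Even (Module.finrank F W) ∧ Cfsg.Geo.IsNondegenerateOn (QuadraticMap.polar (Cfsg.quadFormOdd 4 F)) W ∧ ¬ (Fintype.card F = 3 ∧ Module.finrank F W = 2 ∧ Cfsg.Geo.IsPlusTypeOn (Cfsg.quadFormOdd 4 F) W) ∧ H = Cfsg.Geo.subspaceStabilizer W ⊓ Cfsg.Geo.omegaGL (Cfsg.quadFormOdd 4 F)) ∨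
    ((Fintype.card F).Prime ∧ ∃ D : Fin 9 → Submodule F (Unit ⊕ (Fin 4 ⊕ Fin 4) → F), Cfsg.Geo.IsOrthogonalMDecomposition (Cfsg.quadFormOdd 4 F) 1 D ∧ H = Cfsg.Geo.decompositionStabilizer D ⊓ Cfsg.Geo.omegaGL (Cfsg.quadFormOdd 4 F)) ∨
    (5 ≤ Fintype.card F ∧ ∃ D : Fin 3 → Submodule F (Unit ⊕ (Fin 4 ⊕ Fin 4) → F), Cfsg.Geo.IsOrthogonalMDecomposition (Cfsg.quadFormOdd 4 F) 3 D ∧ H = Cfsg.Geo.decompositionStabilizer D ⊓ Cfsg.Geo.omegaGL (Cfsg.quadFormOdd 4 F)) ∨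
    (∃ K : Subalgebra F (Matrix (Unit ⊕ (Fin 4 ⊕ Fin 4)) (Unit ⊕ (Fin 4 ⊕ Fin 4)) F), Cfsg.Geo.IsFieldSubalgebra 3 K ∧ Cfsg.Geo.IsSelfAdjointFor (QuadraticMap.polar (Cfsg.quadFormOdd 4 F)) K ∧ H = Cfsg.Geo.subalgebraNormalizer K ⊓ Cfsg.Geo.omegaGL (Cfsg.quadFormOdd 4 F)) ∨
    (∃ (F₀ : Subfield F) (r : ℕ) (P : Matrix.GeneralLinearGroup (Unit ⊕ (Fin 4 ⊕ Fin 4)) F), r.Prime ∧ Fintype.card F = Nat.card F₀ ^ r ∧ Cfsg.Geo.IsQuadFormRationalStructure (Cfsg.quadFormOdd 4 F) F₀ P ∧ H = Cfsg.Geo.subfieldSubgroup F₀ P ⊓ Cfsg.Geo.omegaGL (Cfsg.quadFormOdd 4 F)) ∨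
    (5 ≤ Fintype.card F ∧ ∃ (e : (Unit ⊕ (Fin 4 ⊕ Fin 4)) ≃ (Fin 2 → Fin 3)) (P : Matrix.GeneralLinearGroup (Unit ⊕ (Fin 4 ⊕ Fin 4)) F) (f₁ : (Fin 3 → F) → (Fin 3 → F) → F), Cfsg.Geo.IsSymmetricForm f₁ ∧ Cfsg.Geo.IsTensorPowerFormStructure id (QuadraticMap.polar (Cfsg.quadFormOdd 4 F)) f₁ e P ∧ H = Cfsg.Geo.tensorWreathSubgroup 3 2 e P ⊓ Cfsg.Geo.omegaGL (Cfsg.quadFormOdd 4 F)) ∨
    Cfsg.Geo.InOrthogonalResidualClass H := by
  classical
  have hQ := quadFormOdd_nondeg hodd 4 (F := F)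
  have h2 := Cfsg.Agent.Lib.AschbacherSp.two_ne_zero' hodd
  have hc : Fintype.card (Unit ⊕ (Fin 4 ⊕ Fin 4)) = 9 := by simp
  have hHI := hH.1.le.trans (omegaGL_le_isometryGroup _)
  have h5 : Fintype.card F ≠ 3 → 5 ≤ Fintype.card F := fun h => by
    obtain ⟨j, hj⟩ := hodd
    have := Fintype.one_lt_card (α := F)
    omega
  rcases odd_maximal hQ hodd ⟨4, hc⟩ (by omega) (quadFormOdd_rational 4) hH with h | h | ⟨t, k, D, ht, hk, hD, htk, h⟩ |
    ⟨r, K, hr, hrn, hdvd, hK, hs, h⟩ | ⟨n₁, n₂, h3, h12, hn⟩ | h | ⟨k, t, e, P, f₁, hk, ht, hn, hne, hs, hf, h⟩ | h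
  · exact Or.inl h
  · exact Or.inr (Or.inl h)
  · rw [hc] at htk
    have hk0 : k ∣ 9 := ⟨t, by rw [← htk, mul_comm]⟩
    have hk9 : k = 1 ∨ k = 3 := by
      have hle := Nat.le_of_dvd (by norm_num) hk0
      interval_cases k <;> omega
    have key1 : ∀ D' : Fin 9 → Submodule F (Unit ⊕ (Fin 4 ⊕ Fin 4) → F),
        Cfsg.Geo.IsOrthogonalMDecomposition (Cfsg.quadFormOdd 4 F) 1 D' →
        H ≤ Cfsg.Geo.decompositionStabilizer D' →
        H = Cfsg.Geo.decompositionStabilizer D' ⊓ Cfsg.Geo.omegaGL (Cfsg.quadFormOdd 4 F) := fun D' hD' h' =>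
      Cfsg.Agent.Lib.AschbacherSp.eq_inf hH h' (not_le_decomposition hQ h2 hD'.decomp (Or.inl hc.ge))
    rcases hk9 with rfl | rfl
    · obtain rfl : t = 9 := by omega
      exact Or.inr (Or.inr (Or.inl ⟨hk.elim (fun h => absurd h (lt_irrefl 1)) And.right, D, hD, key1 D hD h⟩))
    · obtain rfl : t = 3 := by omega
      by_cases hq : Fintype.card F = 3
      · obtain ⟨D', hD', hle⟩ := refine_three hQ hodd hq hD
        exact Or.inr (Or.inr (Or.inl ⟨by rw [hq]; norm_num, D', hD', key1 D' hD' ((le_inf h hHI).trans hle)⟩))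
      · exact Or.inr (Or.inr (Or.inr (Or.inl ⟨h5 hq, D, hD,
          Cfsg.Agent.Lib.AschbacherSp.eq_inf hH h (not_le_decomposition hQ h2 hD.decomp (Or.inl hc.ge))⟩)))
  · rw [hc] at hdvd hrn
    obtain rfl : r = 3 := (Nat.prime_dvd_prime_iff_eq hr Nat.prime_three).mp
      (hr.dvd_of_dvd_pow (show r ∣ 3 ^ 2 by norm_num; exact hdvd))
    exact Or.inr (Or.inr (Or.inr (Or.inr (Or.inl ⟨K, hK, hs, h⟩))))
  · rw [hc] at hn
    exfalso
    have := Nat.mul_le_mul h3 (show 4 ≤ n₂ by omega)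
    omega
  · exact Or.inr (Or.inr (Or.inr (Or.inr (Or.inr (Or.inl h)))))
  · rw [hc] at hn
    have hk9 : k ≤ 9 := hn ▸ Nat.le_self_pow (by omega) k
    have ht2 : t = 2 := by
      by_contra hne'
      have := Nat.pow_le_pow_right (show 0 < k by omega) (show 3 ≤ t by omega)
      have := Nat.pow_le_pow_left hk 3
      omega
    subst ht2
    obtain rfl : k = 3 := by nlinarith
    exact Or.inr (Or.inr (Or.inr (Or.inr (Or.inr (Or.inr (Or.inl
      ⟨h5 fun hq => hne ⟨hq, rfl⟩, e, P, f₁, hs, hf,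
        Cfsg.Agent.Lib.AschbacherSp.eq_inf hH h (not_le_wreath_two hQ hodd (by omega) le_rfl hs hf)⟩))))))
  · exact Or.inr (Or.inr (Or.inr (Or.inr (Or.inr (Or.inr (Or.inr h))))))

end Cfsg.Agent.S5835
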