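import Cfsg.Statements.S5858
import Cfsg.Agent.Lib.TableRelax.OrthNondegMax
import Cfsg.Agent.Lib.TableRelax.OrthSingular
import Cfsg.Agent.Lib.TableRelax.Mono.Transfer
import Cfsg.Agent.Lib.SubfieldMax.OrthSubfield
import Cfsg.Agent.Lib.Subspaces.OrthForm
import Cfsg.Agent.Lib.OrthStd.Models
import Cfsg.Agent.Lib.OrthOmega.Simple
-- import your own Cfsg.Agent.* helpers here

set_option autoImplicit false
open Cfsg

namespace Cfsg.Agent.S5858

/-- Maximal subgroups of Ω_11(q) of geometric type, q odd. Let F be a finite field of odd order q, Q the standard quadratic form x₀² + Σ x_i y_i on F^11 (coordinates Unit ⊕ (Fin 5 ⊕ Fin 5)), and Ω = Ω_11(q) the commutator subgroup of its isometry group, inside GL_11(F). Each of the following, intersected with Ω, is a maximal subgroup of Ω: (1) the stabiliser of any non-zero subspace on which Q vanishes identically (totally singular 1- to 5-spaces); (2) the stabiliser of any non-zero even-dimensional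 subspace W (dimension 2 to 10) on which the polar form of Q is non-degenerate (equivalently of its odd-dimensional orthogonal complement), except when q = 3 and W is a 2-space containing a non-zero singular vector (a plus-type plane); (3) for q = p prime, the stabiliser of any decomposition of F^11 into eleven pairwise orthogonal, pairwise Q-isometric non-degenerate 1-spaces; (4) every subfield group for a subfield F₀ with |F| = |F₀|^r, r prime, whose F₀-structure carries Q. -/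
theorem result {F : Type*} [Field F] [Fintype F] (hodd : Odd (Fintype.card F)) :
    (∀ W : Submodule F (Unit ⊕ (Fin 5 ⊕ Fin 5) → F), W ≠ ⊥ → Cfsg.Geo.IsTotallySingularQuad (Cfsg.quadFormOdd 5 F) W → Cfsg.Geo.IsMaximalIn (Cfsg.Geo.omegaGL (Cfsg.quadFormOdd 5 F)) (Cfsg.Geo.subspaceStabilizer W ⊓ Cfsg.Geo.omegaGL (Cfsg.quadFormOdd 5 F))) ∧
    (∀ W : Submodule F (Unit ⊕ (Fin 5 ⊕ Fin 5) → F), W ≠ ⊥ → Even (Module.finrank F W) → Cfsg.Geo.IsNondegenerateOn (QuadraticMap.polar (Cfsg.quadFormOdd 5 F)) W → ¬ (Fintype.card F = 3 ∧ Module.finrank F W = 2 ∧ Cfsg.Geo.IsPlusTypeOn (Cfsg.quadFormOdd 5 F) W) → Cfsg.Geo.IsMaximalIn (Cfsg.Geo.omegaGL (Cfsg.quadFormOdd 5 F)) (Cfsg.Geo.subspaceStabilizer W ⊓ Cfsg.Geo.omegaGL (Cfsg.quadFormOdd 5 F))) ∧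
    ((Fintype.card F).Prime → ∀ D : Fin 11 → Submodule F (Unit ⊕ (Fin 5 ⊕ Fin 5) → F), Cfsg.Geo.IsOrthogonalMDecomposition (Cfsg.quadFormOdd 5 F) 1 D → Cfsg.Geo.IsMaximalIn (Cfsg.Geo.omegaGL (Cfsg.quadFormOdd 5 F)) (Cfsg.Geo.decompositionStabilizer D ⊓ Cfsg.Geo.omegaGL (Cfsg.quadFormOdd 5 F))) ∧
    (∀ (F₀ : Subfield F) (r : ℕ) (P : Matrix.GeneralLinearGroup (Unit ⊕ (Fin 5 ⊕ Fin 5)) F), r.Prime → Fintype.card F = Nat.card F₀ ^ r → Cfsg.Geo.IsQuadFormRationalStructure (Cfsg.quadFormOdd 5 F) F₀ P → Cfsg.Geo.IsMaximalIn (Cfsg.Geo.omegaGL (Cfsg.quadFormOdd 5 F)) (Cfsg.Geo.subfieldSubgroup F₀ P ⊓ Cfsg.Geo.omegaGL (Cfsg.quadFormOdd 5 F))) := by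
  have h2 : (2 : F) ≠ 0 := Cfsg.Agent.Lib.OrthOmega.two_ne_zero_of_odd hodd
  have hQ : Cfsg.Geo.IsNondegenerateQuadraticForm (Cfsg.quadFormOdd 5 F) :=
    Cfsg.Agent.Lib.Subspaces.OrthSingular.isNondegenerateQuadraticForm_of _
      (Cfsg.Agent.Lib.OrthOmega.qOddC_nondeg 5 h2)
      (Cfsg.Agent.Lib.OrthStd.quadFormOdd_eq 5)
  have hc : Fintype.card (Unit ⊕ (Fin 5 ⊕ Fin 5)) = 11 := by simp
  refine ⟨fun W hW0 hW => ?_, fun W hW0 hev hW hex => ?_, fun hprime D hD => ?_, fun F₀ r P hr hcard hP => ?_⟩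
  · refine Cfsg.Agent.Lib.Subspaces.Transvection.isMaximalIn_of inf_le_right ?_ fun M hHM hMK g hgM hgH => ?_
    · obtain ⟨g, hg, hg'⟩ := Cfsg.Agent.Lib.TableRelax.OrthSingular.exists_omega_not_stab hQ (by omega) hW0 hW
      exact ⟨g, hg, fun h => hg' h.1⟩
    refine Cfsg.Agent.Lib.TableRelax.OrthSingular.omega_le_of_ts hQ (by omega) hW0 hW ?_ hMK
      (fun h h1 h2 => hHM ⟨h1, h2⟩) hgM fun h => hgH ⟨h, hMK hgM⟩
    by_cases h : 3 + 2 * Module.finrank F W ≤ Fintype.card (Unit ⊕ (Fin 5 ⊕ Fin 5))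
    · exact Or.inl h
    refine Or.inr fun r hr hrp => ?_
    by_contra hrW
    obtain ⟨U, hU, hUd, hle⟩ := Cfsg.Agent.Lib.Subspaces.OrthSingular.ext_bound hQ hW hr hrp hrW
    omega
  · obtain ⟨j, hj⟩ := hev
    have hdim := Cfsg.Agent.Lib.TableRelax.OrthNondeg.finrank_add_perpQ (hQ := hQ) hW
    refine Cfsg.Agent.Lib.TableRelax.OrthNondegMax.maximal_nondeg hQ h2 (by omega) (Or.inr (by omega)) hW0 (fun h => ?_) hW ?_ ?_
      fun h => ?_
    · rw [h, finrank_top, Module.finrank_fintype_fun_eq_card] at hj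
      omega
    · rintro ⟨hq, hd, e, he, he0, heQ⟩
      rw [Nat.card_eq_fintype_card] at hq
      refine hex ⟨?_, hd, Cfsg.Agent.Lib.TableRelax.OrthNondegMax.plus_of_singular hQ hd he he0 heQ⟩
      obtain ⟨i, hi⟩ := hodd
      have := Fintype.one_lt_card (α := F)
      omega
    · rintro ⟨-, hd, -⟩
      omega
    · omega
  · obtain ⟨S⟩ := Cfsg.Agent.TableRelax.Mono.Transfer.exists_std hQ h2 hD
    exact S.maximal hQ h2 (Or.inr (by omega)) hD hprime
  · refine Cfsg.Agent.Lib.SubfieldMax.OrthSubfield.maximal hQ (by omega) F₀ r hr hcard P 1 one_ne_zero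
      fun u hu => ?_
    simpa using hP u hu

end Cfsg.Agent.S5858
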