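import Cfsg.Statements.S5868
import Cfsg.Agent.Lib.AschbacherSp.Cases

set_option autoImplicit false
open Cfsg
open Cfsg.Geo Cfsg.Agent.Lib.AschbacherSp

namespace Cfsg.Agent.S5868

/-- Every maximal subgroup of Sp_12(q) is of one of the listed geometric types or lies in the residual class. Let F be a finite field with q elements (characteristic p), f the standard alternating form on F^12 (coordinates Fin 6 ⊕ Fin 6), and H a maximal subgroup of Sp_12(F) (inside GL_12(F)). Then H is the intersection with Sp_12(F) of one of: the stabiliser of a non-zero totally isotropic subspace; the stabiliser of a non-zero non-degenerate subspace of dimension less than 6; for q ≥ 3, the stabiliser of a decomposition into 6 mutually orthogonal non-degenerate 2-spaces; the stabiliser of a decomposition into 3 mutually orthogonal non-degenerate 4-spaces; the stabiliser of a decomposition into 2 mutually orthogonal non-degenerate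 6-spaces; for q odd, of a decomposition into two totally isotropic 6-spaces; the normaliser of a degree-2 subfield K of the matrix algebra, self-adjoint with f(k v, v) = 0; the normaliser of a degree-3 subfield K of the matrix algebra, self-adjoint with f(k v, v) = 0; for q odd, the normaliser of a degree-2 subfield closed under adjoints but not self-adjoint; for q odd, the stabiliser of a tensor decomposition of f into an alternating form on F^2 and a symmetric form on F^6; for q odd with q ≥ 5, the stabiliser of a tensor decomposition of f into an alternating form on F^4 and a symmetric form on F^3; a subfield group (|F| = |F₀|^r, r prime) whose F₀-structure carries a non-zero multiple of f; for q even, the similarity group of a non-degenerate quadratic form polarising to f — or else H lies in the residual class of the symplectic case (modulo scalars H is almost simple, with absolutely irreducible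 perfect socle preimage realisable over no proper subfield and fixing no non-degenerate quadratic or unitary form). -/
theorem result {F : Type*} [Field F] [Fintype F] (H : Subgroup (Matrix.GeneralLinearGroup (Fin 6 ⊕ Fin 6) F)) (hH : Cfsg.Geo.IsMaximalIn (Cfsg.spGL 6 F) H) :
    (∃ W : Submodule F (Fin 6 ⊕ Fin 6 → F), W ≠ ⊥ ∧ Cfsg.Geo.IsTotallySingularFor (Cfsg.sympForm 6 F) W ∧ H = Cfsg.Geo.subspaceStabilizer W ⊓ Cfsg.spGL 6 F) ∨
    (∃ W : Submodule F (Fin 6 ⊕ Fin 6 → F), W ≠ ⊥ ∧ Cfsg.Geo.IsNondegenerateOn (Cfsg.sympForm 6 F) W ∧ Module.finrank F W < 6 ∧ H = Cfsg.Geo.subspaceStabilizer W ⊓ Cfsg.spGL 6 F) ∨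
    (3 ≤ Fintype.card F ∧ ∃ D : Fin 6 → Submodule F (Fin 6 ⊕ Fin 6 → F), Cfsg.Geo.IsNondegenerateMDecomposition (Cfsg.sympForm 6 F) 2 D ∧ H = Cfsg.Geo.decompositionStabilizer D ⊓ Cfsg.spGL 6 F) ∨
    (∃ D : Fin 3 → Submodule F (Fin 6 ⊕ Fin 6 → F), Cfsg.Geo.IsNondegenerateMDecomposition (Cfsg.sympForm 6 F) 4 D ∧ H = Cfsg.Geo.decompositionStabilizer D ⊓ Cfsg.spGL 6 F) ∨
    (∃ D : Fin 2 → Submodule F (Fin 6 ⊕ Fin 6 → F), Cfsg.Geo.IsNondegenerateMDecomposition (Cfsg.sympForm 6 F) 6 D ∧ H = Cfsg.Geo.decompositionStabilizer D ⊓ Cfsg.spGL 6 F) ∨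
    (Odd (Fintype.card F) ∧ ∃ D : Fin 2 → Submodule F (Fin 6 ⊕ Fin 6 → F), Cfsg.Geo.IsMDecomposition 6 D ∧ (∀ i, Cfsg.Geo.IsTotallySingularFor (Cfsg.sympForm 6 F) (D i)) ∧ H = Cfsg.Geo.decompositionStabilizer D ⊓ Cfsg.spGL 6 F) ∨
    (∃ K : Subalgebra F (Matrix (Fin 6 ⊕ Fin 6) (Fin 6 ⊕ Fin 6) F), Cfsg.Geo.IsFieldSubalgebra 2 K ∧ Cfsg.Geo.IsSelfAdjointFor (Cfsg.sympForm 6 F) K ∧ (∀ k ∈ K, ∀ v : (Fin 6 ⊕ Fin 6 → F), (Cfsg.sympForm 6 F) (Matrix.mulVec k v) v = 0) ∧ H = Cfsg.Geo.subalgebraNormalizer K ⊓ Cfsg.spGL 6 F) ∨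
    (∃ K : Subalgebra F (Matrix (Fin 6 ⊕ Fin 6) (Fin 6 ⊕ Fin 6) F), Cfsg.Geo.IsFieldSubalgebra 3 K ∧ Cfsg.Geo.IsSelfAdjointFor (Cfsg.sympForm 6 F) K ∧ (∀ k ∈ K, ∀ v : (Fin 6 ⊕ Fin 6 → F), (Cfsg.sympForm 6 F) (Matrix.mulVec k v) v = 0) ∧ H = Cfsg.Geo.subalgebraNormalizer K ⊓ Cfsg.spGL 6 F) ∨
    (Odd (Fintype.card F) ∧ ∃ K : Subalgebra F (Matrix (Fin 6 ⊕ Fin 6) (Fin 6 ⊕ Fin 6) F), Cfsg.Geo.IsFieldSubalgebra 2 K ∧ Cfsg.Geo.IsAdjointClosedFor (Cfsg.sympForm 6 F) K ∧ ¬ Cfsg.Geo.IsSelfAdjointFor (Cfsg.sympForm 6 F) K ∧ H = Cfsg.Geo.subalgebraNormalizer K ⊓ Cfsg.spGL 6 F) ∨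
    (Odd (Fintype.card F) ∧ ∃ (e : (Fin 6 ⊕ Fin 6) ≃ Fin 2 × Fin 6) (P : Matrix.GeneralLinearGroup (Fin 6 ⊕ Fin 6) F) (f₁ : (Fin 2 → F) → (Fin 2 → F) → F) (f₂ : (Fin 6 → F) → (Fin 6 → F) → F), Cfsg.Geo.IsSymplecticForm f₁ ∧ Cfsg.Geo.IsSymmetricForm f₂ ∧ Cfsg.Geo.IsTensorFormStructure id (Cfsg.sympForm 6 F) f₁ f₂ e P ∧ H = Cfsg.Geo.tensorProductSubgroup 2 6 e P ⊓ Cfsg.spGL 6 F) ∨
    (Odd (Fintype.card F) ∧ 5 ≤ Fintype.card F ∧ ∃ (e : (Fin 6 ⊕ Fin 6) ≃ Fin 4 × Fin 3) (P : Matrix.GeneralLinearGroup (Fin 6 ⊕ Fin 6) F) (f₁ : (Fin 4 → F) → (Fin 4 → F) → F) (f₂ : (Fin 3 → F) → (Fin 3 → F) → F), Cfsg.Geo.IsSymplecticForm f₁ ∧ Cfsg.Geo.IsSymmetricForm f₂ ∧ Cfsg.Geo.IsTensorFormStructure id (Cfsg.sympForm 6 F) f₁ f₂ e P ∧ H = Cfsg.Geo.tensorProductSubgroup 4 3 e P ⊓ Cfsg.spGL 6 F) ∨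
    (∃ (F₀ : Subfield F) (r : ℕ) (P : Matrix.GeneralLinearGroup (Fin 6 ⊕ Fin 6) F) (ζ : F), r.Prime ∧ Fintype.card F = Nat.card F₀ ^ r ∧ ζ ≠ 0 ∧ Cfsg.Geo.IsFormRationalStructure (Cfsg.sympForm 6 F) F₀ ζ P ∧ H = Cfsg.Geo.subfieldSubgroup F₀ P ⊓ Cfsg.spGL 6 F) ∨
    (¬ Odd (Fintype.card F) ∧ ∃ Q : (Fin 6 ⊕ Fin 6 → F) → F, Cfsg.Geo.IsNondegenerateQuadraticForm Q ∧ (∀ u v : (Fin 6 ⊕ Fin 6 → F), QuadraticMap.polar Q u v = (Cfsg.sympForm 6 F) u v) ∧ H = Cfsg.Geo.quadSimilarityGroup Q ⊓ Cfsg.spGL 6 F) ∨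
    Cfsg.Geo.InSymplecticResidualClass H := by
  classical
  have hG := alt_J (F := F) 6
  have hI : ∀ {X}, ¬ Isom (Matrix.J (Fin 6) F) ≤ X → ¬ Cfsg.spGL 6 F ≤ X := fun {X} h => isom_J (F := F) 6 ▸ h
  have hc : Fintype.card (Fin 6 ⊕ Fin 6) = 12 := by simp
  rcases main hG (by omega) H (hH.1.le.trans (spGL_le_isom _)) with hgeo | hres
  swap; · exact Or.inr (Or.inr (Or.inr (Or.inr (Or.inr (Or.inr (Or.inr (Or.inr (Or.inr (Or.inr (Or.inr (Or.inr (Or.inr (hres)))))))))))))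
  rcases hgeo with ⟨W, h1, h2, h⟩ | ⟨W, h1, h2, h3, h⟩ | ⟨t, k, D, hD, h⟩ | ⟨k, D, ho, hk, hD, hs, h⟩ |
    ⟨r, K, hr, hK, hs, h0, h⟩ | ⟨K, ho, hK, hcl, hs, h⟩ | ⟨n₁, n₂, e, P, f₁, f₂, ho, h3, h1, h2, hf, h⟩ |
    ⟨F₀, r, P, ζ, hr, hq, hζ, hP, h⟩ | ⟨R, p, k, -, -, -, -, -, -, -, -, -, hk, -⟩ |
    ⟨k, t, e, P, f₁, ho, ht, h3, -, h1, hf, -⟩ | ⟨Q, he, hQ, hp, h⟩
  · exact Or.inl ⟨W, h1, h2, eq_inf hH h (hI (not_le_subspaceStabilizer hG h1 (ne_top_of_ts hG h2)))⟩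
  · have hev2 := even_finrank_of_nondeg hG h2
    have hne : W ≠ ⊤ := by
      rintro rfl
      rw [finrank_top, Module.finrank_pi] at h3
      omega
    exact Or.inr (Or.inl ⟨W, h1, h2, by omega, eq_inf hH h (hI (not_le_subspaceStabilizer hG h1 hne))⟩)
  · obtain ⟨j, hj⟩ := even_finrank_of_nondeg hG (hD.nondegenerate ⟨0, by have := hD.decomp.two_le; omega⟩)
    rw [hD.decomp.finrank_eq] at hj
    have htk := decomposition_card hD.decomp
    rw [hc] at htk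
    have ht2 := hD.decomp.two_le
    have hk0 := hD.decomp.pos
    have htle : t ≤ 6 := by have := Nat.mul_le_mul_left t (show 2 ≤ k by omega); omega
    have hmem := eq_inf hH h (hI (not_le_decompositionStabilizer hG hD.decomp))
    have hcase : (t = 6 ∧ k = 2) ∨ (t = 3 ∧ k = 4) ∨ (t = 2 ∧ k = 6) := by
      subst hj
      interval_cases t <;> omega
    rcases hcase with ⟨rfl, rfl⟩ | ⟨rfl, rfl⟩ | ⟨rfl, rfl⟩
    · by_cases hq3 : 3 ≤ Fintype.card F
      · exact Or.inr (Or.inr (Or.inl ⟨hq3, D, hD, hmem⟩))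
      · have hq2 : Fintype.card F = 2 := by have := Fintype.one_lt_card (α := F); omega
        obtain ⟨Q, hQ, hp, hle⟩ := of_planes_two hG hq2 hD
        exact Or.inr (Or.inr (Or.inr (Or.inr (Or.inr (Or.inr (Or.inr (Or.inr (Or.inr (Or.inr (Or.inr (Or.inr (Or.inl ⟨by rw [hq2]; decide, Q, hQ, hp, eq_inf hH ((le_inf h (hH.1.le.trans (spGL_le_isom _))).trans hle) (hI (not_le_quadSimilarityGroup hG (by omega) hp))⟩))))))))))))
    · exact Or.inr (Or.inr (Or.inr (Or.inl ⟨D, hD, hmem⟩)))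
    · exact Or.inr (Or.inr (Or.inr (Or.inr (Or.inl ⟨D, hD, hmem⟩))))
  · obtain rfl : k = 6 := by omega
    exact Or.inr (Or.inr (Or.inr (Or.inr (Or.inr (Or.inl ⟨ho, D, hD, hs, eq_inf hH h (hI (not_le_decompositionStabilizer hG hD))⟩)))))
  · have hdvd := field_dvd_half hG hK hs h0
    rw [hc] at hdvd
    have hr2 := hr.two_le
    have hrle := Nat.le_of_dvd (by norm_num) hdvd
    have hmem := eq_inf hH h (hI (not_le_subalgebraNormalizer hG (by omega) hK hr2))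
    have hcase : r = 2 ∨ r = 3 := by
      rcases hdvd with ⟨c, hcd⟩
      have hrm : r ∣ 6 := ⟨c, by nlinarith⟩
      have : r ≤ 6 := by omega
      interval_cases r <;> first | omega | (exfalso; revert hr; norm_num) | (exfalso; revert hrm; norm_num)
    rcases hcase with rfl | rfl
    · exact Or.inr (Or.inr (Or.inr (Or.inr (Or.inr (Or.inr (Or.inl ⟨K, hK, hs, h0, hmem⟩))))))
    · exact Or.inr (Or.inr (Or.inr (Or.inr (Or.inr (Or.inr (Or.inr (Or.inl ⟨K, hK, hs, h0, hmem⟩)))))))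
  · exact Or.inr (Or.inr (Or.inr (Or.inr (Or.inr (Or.inr (Or.inr (Or.inr (Or.inl ⟨ho, K, hK, hcl, hs, eq_inf hH h (hI (not_le_subalgebraNormalizer hG (by omega) hK le_rfl))⟩))))))))
  · have hprod : n₁ * n₂ = 12 := by
      rw [← hc, Fintype.card_congr e]; simp
    obtain ⟨j, hj⟩ := even_of_symplectic h1
    rw [Fintype.card_fin] at hj
    have hn2 : n₁ ≤ 12 := Nat.le_of_dvd (by norm_num) ⟨n₂, hprod.symm⟩
    have hcase : (n₁ = 2 ∧ n₂ = 6) ∨ (n₁ = 4 ∧ n₂ = 3) := by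
      interval_cases n₁ <;> omega
    rcases hcase with ⟨rfl, rfl⟩ | ⟨rfl, rfl⟩
    · exact Or.inr (Or.inr (Or.inr (Or.inr (Or.inr (Or.inr (Or.inr (Or.inr (Or.inr (Or.inl ⟨ho, e, P, f₁, f₂, h1, h2, hf, eq_inf hH h (hI (not_le_tensorProductSubgroup hG (by norm_num) (by norm_num) e P))⟩)))))))))
    · by_cases hq5 : 5 ≤ Fintype.card F
      · exact Or.inr (Or.inr (Or.inr (Or.inr (Or.inr (Or.inr (Or.inr (Or.inr (Or.inr (Or.inr (Or.inl ⟨ho, hq5, e, P, f₁, f₂, h1, h2, hf, eq_inf hH h (hI (not_le_tensorProductSubgroup hG (by norm_num) (by norm_num) e P))⟩))))))))))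
      · have hq3 : Fintype.card F = 3 := by
          have := Fintype.one_lt_card (α := F); obtain ⟨j', hj'⟩ := ho; omega
        obtain ⟨D, hD, hle⟩ := of_tensor_three hG hq3 (by norm_num) h1 h2 hf
        have hmem := eq_inf hH ((le_inf h (hH.1.le.trans (spGL_le_isom _))).trans hle)
          (hI (not_le_decompositionStabilizer hG hD.decomp))
        exact Or.inr (Or.inr (Or.inr (Or.inl ⟨D, hD, hmem⟩)))
  · exact Or.inr (Or.inr (Or.inr (Or.inr (Or.inr (Or.inr (Or.inr (Or.inr (Or.inr (Or.inr (Or.inr (Or.inl ⟨F₀, r, P, ζ, hr, hq, hζ, hP, eq_inf hH h (hI (not_le_subfieldSubgroup hG (subfield_ne_top hr hq) P))⟩)))))))))))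
  · rw [hc] at hk
    have hk4 : k < 5 := by
      by_contra! hk5
      have := Nat.pow_le_pow_right (show 0 < 2 by norm_num) hk5
      omega
    interval_cases k <;> omega
  · obtain ⟨j, hj⟩ := even_of_symplectic h1
    rw [Fintype.card_fin] at hj
    have hkt : k ^ t = 12 := by rw [← hc, Fintype.card_congr e]; simp
    rcases Nat.eq_zero_or_pos k with rfl | hk0
    · rw [zero_pow (by omega)] at hkt; omega
    have hk3 : k ^ 3 ≤ k ^ t := Nat.pow_le_pow_right hk0 h3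
    have hk2 : k = 2 := by
      have : k < 3 := by
        by_contra! hk
        have := Nat.pow_le_pow_left hk 3
        omega
      omega
    subst hk2
    have ht4 : t < 5 := by
      by_contra! ht5
      have := Nat.pow_le_pow_right (show 0 < 2 by norm_num) ht5
      omega
    interval_cases t <;> omega
  · exact Or.inr (Or.inr (Or.inr (Or.inr (Or.inr (Or.inr (Or.inr (Or.inr (Or.inr (Or.inr (Or.inr (Or.inr (Or.inl ⟨he, Q, hQ, hp, eq_inf hH h (hI (not_le_quadSimilarityGroup hG (by omega) hp))⟩))))))))))))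

end Cfsg.Agent.S5868
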