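import Cfsg.Statements.S5876
import Cfsg.Agent.Lib.Spectrum.PrimitiveSoluble
set_option autoImplicit false
open Cfsg

namespace Cfsg.Agent.S5876

/-- Fixed-point spaces in primitive soluble linear groups. Let F be a finite field and G a soluble subgroup of GL_n(F) that acts irreducibly on F^n and primitively (G preserves no decomposition of F^n into two or more independent subspaces of equal dimension). Then every non-identity element g of G has fixed-point space {v : g v = v} of dimension at most 3n/4. -/
theorem result {F : Type*} [Field F] [Fintype F] {n : ℕ} (G : Subgroup (Matrix.GeneralLinearGroup (Fin n) F)) (hsol : IsSolvable G) (hirr : Cfsg.Geo.ActsIrreducibly (Cfsg.Geo.matrixSet G)) (hprim : ∀ (m t : ℕ) (D : Fin t → Submodule F (Fin n → F)), 2 ≤ t → Cfsg.Geo.IsMDecomposition m D → ¬ G ≤ Cfsg.Geo.decompositionStabilizer D) (g : Matrix.GeneralLinearGroup (Fin n) F) (hg : g ∈ G) (hg1 : g ≠ 1) :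
    4 * Module.finrank F (Module.End.eigenspace (Matrix.toLin' (g : Matrix (Fin n) (Fin n) F)) 1) ≤ 3 * n := by
  have hn : 0 < n := by
    rcases Nat.eq_zero_or_pos n with h | h
    · exfalso
      subst h
      exact hg1 (Subsingleton.elim _ _)
    · exact h
  haveI : Nonempty (Fin n) := ⟨⟨0, hn⟩⟩
  let e : G →* Module.End F (Fin n → F) :=
    { toFun := fun x => Matrix.toLin' ((x : Matrix.GeneralLinearGroup (Fin n) F) : Matrix (Fin n) (Fin n) F)
      map_one' := by simp [Module.End.one_eq_id]
      map_mul' := fun x y => by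
        simp only [Subgroup.coe_mul, Matrix.GeneralLinearGroup.coe_mul, Matrix.toLin'_mul]
        rfl }
  have h := Cfsg.Agent.Lib.Spectrum.PrimitiveSoluble.fix_bound e hsol
    (fun x y hxy => Subtype.ext (Units.ext (Matrix.toLin'.injective hxy)))
    (fun W hW => hirr W (by
      rintro _ ⟨x, hx, rfl⟩ w ⟨v, hv, rfl⟩
      exact hW ⟨x, hx⟩ v hv))
    (fun t m D ht hm hfin hind htop hall => hprim m t D ht ⟨ht, hm, hfin, hind, htop⟩ (fun x hx => by
      obtain ⟨σ, hσ⟩ := hall ⟨x, hx⟩
      exact ⟨σ, hσ⟩))
    ⟨g, hg⟩ (fun h => hg1 (congrArg Subtype.val h))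
  rw [Module.finrank_fin_fun] at h
  exact h

end Cfsg.Agent.S5876
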