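import Cfsg.Statements.S5877
import Cfsg.Agent.Lib.ExtEigen.Bounds
import Cfsg.Agent.Lib.Aschbacher.Homogeneous
-- import your own Cfsg.Agent.* helpers here

set_option autoImplicit false
open Cfsg
open scoped commutatorElement

namespace Cfsg.Agent.S5877

open Cfsg.Agent.Lib.ExtEigen Module

variable {F : Type*} [Field F] {n : ℕ}

/-- A matrix group over `F` acting on a space over the algebraic closure. -/
noncomputable def toClosure (F : Type*) [Field F] (n : ℕ) :
    Matrix (Fin n) (Fin n) F →+* Module.End (AlgebraicClosure F) (Fin n → AlgebraicClosure F) :=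
  (Matrix.toLinAlgEquiv' (R := AlgebraicClosure F) (n := Fin n)).toRingEquiv.toRingHom.comp
    (algebraMap F (AlgebraicClosure F)).mapMatrix

theorem toClosure_injective : Function.Injective (toClosure F n) := fun M N h =>
  Matrix.map_injective (algebraMap F (AlgebraicClosure F)).injective
    ((Matrix.toLinAlgEquiv' (R := AlgebraicClosure F) (n := Fin n)).injective h)

theorem toClosure_apply (M : Matrix (Fin n) (Fin n) F) :
    toClosure F n M = Matrix.toLin' (M.map (algebraMap F (AlgebraicClosure F))) := rfl

theorem toClosure_smul (a : F) (M : Matrix (Fin n) (Fin n) F) :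
    toClosure F n (a • M) = algebraMap F (AlgebraicClosure F) a • toClosure F n M := by
  rw [toClosure_apply, toClosure_apply, ← map_smul]
  congr 1
  ext i j
  simp

/-- Extending scalars does not shrink eigenspaces. -/
theorem finrank_eigenspace_le (M : Matrix (Fin n) (Fin n) F) (c : F) :
    finrank F (Module.End.eigenspace (Matrix.toLin' M) c) ≤
      finrank (AlgebraicClosure F) (Module.End.eigenspace (toClosure F n M) (algebraMap F (AlgebraicClosure F) c)) := by
  set W := Module.End.eigenspace (Matrix.toLin' M) c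
  set K := AlgebraicClosure F
  let b := Module.finBasis F W
  let A : Matrix (Fin n) (Fin (finrank F W)) F := Matrix.of fun i j => (b j : Fin n → F) i
  have hA : Function.Injective (Matrix.toLin' A) := by
    have hli : LinearIndependent F fun j => (b j : Fin n → F) := b.linearIndependent.map' W.subtype W.ker_subtype
    exact Matrix.mulVec_injective_iff.mpr hli
  obtain ⟨B, hB⟩ := (Matrix.toLin' A).exists_leftInverse_of_injective (LinearMap.ker_eq_bot.mpr hA)
  have hBA : LinearMap.toMatrix' B * A = 1 := by
    rw [← LinearMap.toMatrix'_toLin' A, ← LinearMap.toMatrix'_comp, hB, LinearMap.toMatrix'_id]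
  have hMA : M * A = c • A := by
    ext i j
    have h1 : Matrix.toLin' M (b j : Fin n → F) = c • (b j : Fin n → F) := Module.End.mem_eigenspace_iff.mp (b j).2
    simpa [Matrix.mul_apply, Matrix.mulVec, dotProduct, A] using congrFun h1 i
  let φ := algebraMap F K
  let A' : (Fin (finrank F W) → K) →ₗ[K] Module.End.eigenspace (toClosure F n M) (φ c) :=
    LinearMap.codRestrict _ (Matrix.toLin' (A.map φ)) fun v => by
      rw [Module.End.mem_eigenspace_iff, toClosure_apply, ← LinearMap.comp_apply, ← Matrix.toLin'_mul,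
        ← Matrix.map_mul, hMA, show (c • A).map φ = φ c • A.map φ from Matrix.ext fun i j => by simp [φ],
        map_smul, LinearMap.smul_apply]
  have hinj : Function.Injective A' := by
    intro u v huv
    have h1 := congrArg (fun z : Module.End.eigenspace (toClosure F n M) (φ c) => Matrix.toLin' ((LinearMap.toMatrix' B).map φ) (z : Fin n → K)) huv
    have h2 : (LinearMap.toMatrix' B).map φ * A.map φ = 1 := by
      rw [← Matrix.map_mul, hBA, Matrix.map_one _ φ.map_zero φ.map_one]
    simp only [Matrix.toLin'_apply] at h1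
    simp only [A', LinearMap.codRestrict_apply, Matrix.toLin'_apply, Matrix.mulVec_mulVec] at h1
    have h3 := ((Matrix.mulVec_mulVec u _ _).symm.trans h1).trans (Matrix.mulVec_mulVec v _ _)
    rwa [h2, Matrix.one_mulVec, Matrix.one_mulVec] at h3
  simpa using LinearMap.finrank_le_finrank_of_injective hinj

/-- Eigenspaces of elements normalising an absolutely irreducible extraspecial group. Let F be a finite field, r a prime, and R ≤ GL_n(F) an absolutely irreducible extraspecial r-group (an r-group whose centre equals its derived subgroup and has order r) of exponent r or 4. Let g ∈ GL_n(F) normalise the product of R with the scalar matrices, have prime order ϖ and not be scalar, and let W be the eigenspace of g for any c ∈ F (W may be the zero subspace). Then dim W ≤ 3n/4 if ϖ = 2, dim W ≤ 2n/3 if ϖ = 3, and dim W ≤ n/2 if ϖ > 3; moreover if ϖ = 3 and 3 does not divide n then dim W ≤ n/2. -/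
theorem result {F : Type*} [Field F] [Fintype F] {n r ϖ : ℕ} (R : Subgroup (Matrix.GeneralLinearGroup (Fin n) F)) (hr : r.Prime) (hR : IsPGroup r R) (hZ : Nat.card (Subgroup.center R) = r) (hext : commutator R = Subgroup.center R) (hexp : Monoid.exponent R = r ∨ Monoid.exponent R = 4) (hirr : Cfsg.Geo.ActsAbsolutelyIrreducibly (Cfsg.Geo.matrixSet R)) (g : Matrix.GeneralLinearGroup (Fin n) F) (hg : g ∈ Cfsg.Geo.subgroupNormalizer (R ⊔ Cfsg.Geo.scalars (Fin n) F)) (hϖ : ϖ.Prime) (hord : orderOf g = ϖ) (hns : g ∉ Cfsg.Geo.scalars (Fin n) F) (c : F) :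
    (ϖ = 2 → 4 * Module.finrank F (Module.End.eigenspace (Matrix.toLin' (g : Matrix (Fin n) (Fin n) F)) c) ≤ 3 * n) ∧
    (ϖ = 3 → 3 * Module.finrank F (Module.End.eigenspace (Matrix.toLin' (g : Matrix (Fin n) (Fin n) F)) c) ≤ 2 * n) ∧
    (3 < ϖ → 2 * Module.finrank F (Module.End.eigenspace (Matrix.toLin' (g : Matrix (Fin n) (Fin n) F)) c) ≤ n) ∧
    (ϖ = 3 → ¬ 3 ∣ n → 2 * Module.finrank F (Module.End.eigenspace (Matrix.toLin' (g : Matrix (Fin n) (Fin n) F)) c) ≤ n) := by
  classical
  haveI := Fact.mk hr
  set W := Module.End.eigenspace (Matrix.toLin' (g : Matrix (Fin n) (Fin n) F)) c with hWdef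
  by_cases hW : W = ⊥
  · rw [hW, finrank_bot]
    simp
  haveI hne : Nonempty (Fin n) := by
    by_contra hh
    rw [not_nonempty_iff] at hh
    exact hW ((Submodule.eq_bot_iff _).mpr fun v _ => Subsingleton.elim v 0)
  set K := AlgebraicClosure F
  set φ := algebraMap F K
  let ρ : R →* Module.End K (Fin n → K) :=
    (toClosure F n).toMonoidHom.comp ((Units.coeHom (Matrix (Fin n) (Fin n) F)).comp R.subtype)
  have hρ : ∀ x : R, ρ x = toClosure F n ((x : GL (Fin n) F) : Matrix (Fin n) (Fin n) F) := fun _ => rfl
  -- scalar elements are the centre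
  have hscal : ∀ x : R, x ∈ Subgroup.center R ↔
      ∃ a : F, ((x : GL (Fin n) F) : Matrix (Fin n) (Fin n) F) = a • 1 := by
    intro x
    constructor
    · intro hx
      refine hirr.2 _ ?_
      rintro _ ⟨y, hy, rfl⟩
      exact congrArg (fun z : R => ((z : GL (Fin n) F) : Matrix (Fin n) (Fin n) F))
        (Subgroup.mem_center_iff.mp hx ⟨y, hy⟩).symm
    · rintro ⟨a, ha⟩
      exact Subgroup.mem_center_iff.mpr fun y => Subtype.ext (Units.ext (by simp [ha]))
  have hcomm : ∀ x y : R, ⁅x, y⁆ ∈ Subgroup.center R := fun x y => hext ▸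
    Subgroup.commutator_mem_commutator (Subgroup.mem_top x) (Subgroup.mem_top y)
  haveI : Fintype R := Fintype.ofFinite R
  have hpow : ∀ x : R, x ^ r ∈ Subgroup.center R := by
    intro x
    rw [Subgroup.mem_center_iff]
    intro y
    set z := ⁅x, y⁆
    have hz : z ∈ Subgroup.center R := hcomm x y
    have hzr : z ^ r = 1 := by
      have h1 : (⟨z, hz⟩ : Subgroup.center R) ^ Nat.card (Subgroup.center R) = 1 := pow_card_eq_one'
      rw [hZ] at h1
      simpa using congrArg Subtype.val h1
    have hk : ∀ k : ℕ, x ^ k * y = z ^ k * (y * x ^ k) := by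
      intro k
      induction k with
      | zero => simp
      | succ k ih =>
        have h1 : x * y = z * (y * x) := by simp only [z, commutatorElement_def]; group
        have h2 : x ^ k * z = z * x ^ k := Subgroup.mem_center_iff.mp hz _
        calc x ^ (k + 1) * y = x ^ k * (x * y) := by rw [pow_succ, mul_assoc]
          _ = (x ^ k * z) * (y * x) := by rw [h1, mul_assoc]
          _ = z * ((x ^ k * y) * x) := by rw [h2]; simp only [mul_assoc]
          _ = z ^ (k + 1) * (y * x ^ (k + 1)) := by rw [ih, pow_succ' z, pow_succ x]; simp only [mul_assoc]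
    rw [hk r, hzr, one_mul]
  have hscalK : ∀ x : R, x ∈ Subgroup.center R ↔ ∃ a : K, ρ x = a • 1 := by
    intro x
    constructor
    · intro hx
      obtain ⟨a, ha⟩ := (hscal x).mp hx
      exact ⟨φ a, by rw [hρ, ha, toClosure_smul, map_one]⟩
    · rintro ⟨a, ha⟩
      refine Subgroup.mem_center_iff.mpr fun y => ?_
      refine Subtype.ext (Units.ext (toClosure_injective ?_))
      show toClosure F n (_ * _) = toClosure F n (_ * _)
      rw [map_mul, map_mul, ← hρ, ← hρ, ha, smul_mul_assoc, mul_smul_comm, one_mul, mul_one]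
  -- span
  let A : Subalgebra F (Module.End F (Fin n → F)) :=
    Algebra.adjoin F (Set.range fun x : R => Matrix.toLinAlgEquiv' ((x : GL (Fin n) F) : Matrix (Fin n) (Fin n) F))
  have hAtop : A = ⊤ := by
    refine Cfsg.Agent.Lib.Aschbacher.eq_top_of_irred A (fun X hX => hirr.1 X ?_) (fun e he => ?_)
    · rintro _ ⟨y, hy, rfl⟩
      rw [Submodule.map_le_iff_le_comap]
      exact fun v hv => hX _ (Algebra.subset_adjoin ⟨⟨y, hy⟩, rfl⟩) v hv
    · obtain ⟨a, ha⟩ := hirr.2 (LinearMap.toMatrixAlgEquiv' e) (by
        rintro _ ⟨y, hy, rfl⟩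
        have h1 := congrArg LinearMap.toMatrixAlgEquiv'
          (he _ (Algebra.subset_adjoin ⟨⟨y, hy⟩, rfl⟩))
        simpa using h1)
      refine ⟨a, LinearMap.toMatrixAlgEquiv'.injective ?_⟩
      rw [ha, map_smul, map_one]
  have hspanF : ∀ M : Matrix (Fin n) (Fin n) F,
      M ∈ Submodule.span F (Set.range fun x : R => ((x : GL (Fin n) F) : Matrix (Fin n) (Fin n) F)) := by
    intro M
    have h1 : Matrix.toLinAlgEquiv' M ∈ Subalgebra.toSubmodule A := by rw [hAtop]; trivial
    let f : R →* Module.End F (Fin n → F) := (Matrix.toLinAlgEquiv' (R := F) (n := Fin n)).toMonoidHom.comp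
      ((Units.coeHom (Matrix (Fin n) (Fin n) F)).comp R.subtype)
    rw [Algebra.adjoin_eq_span,
      show (Submonoid.closure (Set.range fun x : R =>
        Matrix.toLinAlgEquiv' ((x : GL (Fin n) F) : Matrix (Fin n) (Fin n) F)) : Set _) = Set.range f from
        le_antisymm ((Submonoid.closure_le (S := MonoidHom.mrange f)).mpr fun _ hy => hy)
          (fun _ hy => Submonoid.subset_closure hy)] at h1
    have h2 := Submodule.mem_map_of_mem (f := (LinearMap.toMatrixAlgEquiv' (R := F) (n := Fin n)).toLinearMap) h1
    rw [Submodule.map_span, ← Set.range_comp] at h2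
    simpa [f, Function.comp_def] using h2
  have hspan : Submodule.span K (Set.range ρ) = ⊤ := by
    have hmap : ∀ M : Matrix (Fin n) (Fin n) F, toClosure F n M ∈ Submodule.span K (Set.range ρ) := by
      intro M
      refine Submodule.span_induction (p := fun M _ => toClosure F n M ∈ Submodule.span K (Set.range ρ)) ?_ ?_ ?_ ?_
        (hspanF M)
      · rintro _ ⟨x, rfl⟩; exact Submodule.subset_span ⟨x, rfl⟩
      · rw [map_zero]; exact zero_mem _
      · intro u v _ _ hu hv; rw [map_add]; exact add_mem hu hv
      · intro a u _ hu; rw [toClosure_smul]; exact Submodule.smul_mem _ _ hu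
    rw [eq_top_iff]
    intro e _
    obtain ⟨E, rfl⟩ := (Matrix.toLinAlgEquiv' (R := K) (n := Fin n)).surjective e
    rw [Matrix.matrix_eq_sum_single E, map_sum]
    refine Submodule.sum_mem _ fun i _ => ?_
    rw [map_sum]
    refine Submodule.sum_mem _ fun j _ => ?_
    have h1 : Matrix.toLinAlgEquiv' (Matrix.single i j (E i j)) = E i j • toClosure F n (Matrix.single i j 1) := by
      rw [toClosure_apply, ← map_smul, Matrix.map_single]
      · simp
        rfl
    rw [h1]
    exact Submodule.smul_mem _ _ (hmap _)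
  have hdata : Data r ρ :=
    { prime := hr
      pgroup := hR
      inj := fun x y hxy => Subtype.ext (Units.ext (toClosure_injective hxy))
      nontrivial := inferInstance
      span := hspan
      scalar := hscalK
      pow_mem := hpow
      comm_mem := hcomm }
  -- `r` is invertible in `F`
  have hr0 : (r : K) ≠ 0 := by
    intro h0
    have h0' : (r : F) = 0 := (algebraMap F K).injective (by rw [map_natCast, h0, map_zero])
    haveI : CharP F r := (CharP.charP_iff_prime_eq_zero hr).mpr h0'
    have hcard : 1 < Nat.card (Subgroup.center R) := hZ ▸ hr.one_lt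
    haveI := Finite.one_lt_card_iff_nontrivial.mp hcard
    obtain ⟨⟨x, hx⟩, hx1⟩ := exists_ne (1 : Subgroup.center R)
    obtain ⟨a, ha⟩ := (hscal x).mp hx
    have h1 : (⟨x, hx⟩ : Subgroup.center R) ^ Nat.card (Subgroup.center R) = 1 := pow_card_eq_one'
    rw [hZ] at h1
    have h2 := congrArg (fun z : Subgroup.center R =>
      (((z : R) : GL (Fin n) F) : Matrix (Fin n) (Fin n) F)) h1
    simp only [SubmonoidClass.coe_pow, Units.val_pow_eq_pow_val, ha, OneMemClass.coe_one, Units.val_one] at h2
    rw [smul_pow, one_pow] at h2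
    have h3 : a ^ r = 1 := smul_left_injective F (one_ne_zero (α := Matrix (Fin n) (Fin n) F))
      (show a ^ r • (1 : Matrix (Fin n) (Fin n) F) = (1 : F) • 1 by rw [one_smul]; exact h2)
    have h4 : a = 1 := frobenius_inj F r (by simpa [frobenius_def] using h3)
    exact hx1 (Subtype.ext (Subtype.ext (Units.ext (by simp [ha, h4]))))
  -- the element
  have hnormal : Normal ϖ ρ (toClosure F n g) :=
    { prime := hϖ
      pow_eq := by
        rw [← map_pow, ← Units.val_pow_eq_pow_val, ← hord, pow_orderOf_eq_one, Units.val_one, map_one]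
      norm := by
        intro x
        have hmem : g * (x : GL (Fin n) F) * g⁻¹ ∈ R ⊔ Cfsg.Geo.scalars (Fin n) F :=
          (Subgroup.mem_normalizer_iff.mp hg (x : GL (Fin n) F)).mp (Subgroup.mem_sup_left x.2)
        haveI : (Cfsg.Geo.scalars (Fin n) F).Normal := ⟨fun s hs u => by
          obtain ⟨a, ha⟩ := (Cfsg.Geo.mem_scalars_iff s).mp hs
          refine (Cfsg.Geo.mem_scalars_iff _).mpr ⟨a, ?_⟩
          simp [ha]⟩
        obtain ⟨y, hy, s, hs, hys⟩ := (Subgroup.mem_sup_of_normal_right).mp hmem
        obtain ⟨a, ha⟩ := (Cfsg.Geo.mem_scalars_iff s).mp hs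
        refine ⟨⟨y, hy⟩, φ a, ?_⟩
        have h1 : g * (x : GL (Fin n) F) = y * s * g := by rw [hys, inv_mul_cancel_right]
        rw [hρ, hρ, ← map_mul, ← Units.val_mul, h1, Units.val_mul, Units.val_mul, ha, map_mul, mul_smul_comm,
          mul_one, toClosure_smul]
      moves := by
        by_contra! hall
        obtain ⟨a, ha⟩ := hirr.2 (g : Matrix (Fin n) (Fin n) F) (by
          rintro _ ⟨y, hy, rfl⟩
          refine toClosure_injective ?_
          rw [map_mul, map_mul]
          exact (hall ⟨y, hy⟩).eq)
        rcases eq_or_ne a 0 with rfl | ha0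
        · exact g.ne_zero (by rw [ha, zero_smul])
        · exact hns ((Cfsg.Geo.mem_scalars_iff g).mpr ⟨Units.mk0 a ha0, ha⟩) }
  have hle : finrank F W ≤ finrank K (Module.End.eigenspace (toClosure F n g) (φ c)) :=
    finrank_eigenspace_le (g : Matrix (Fin n) (Fin n) F) c
  have hWK : Module.End.eigenspace (toClosure F n g) (φ c) ≠ ⊥ := by
    intro hh
    rw [hh, finrank_bot, Nat.le_zero, Submodule.finrank_eq_zero] at hle
    exact hW hle
  obtain ⟨e1, e2, e3, e4⟩ := bounds hdata hnormal hr0 hWK
  rw [Module.finrank_pi, Fintype.card_fin] at e1 e2 e3 e4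
  refine ⟨fun h => ?_, fun h => ?_, fun h => ?_, fun h h' => ?_⟩
  · exact (Nat.mul_le_mul_left 4 hle).trans (e1 h)
  · exact (Nat.mul_le_mul_left 3 hle).trans (e2 h)
  · exact (Nat.mul_le_mul_left 2 hle).trans (e3 h)
  · exact (Nat.mul_le_mul_left 2 hle).trans (e4 h h')

end Cfsg.Agent.S5877
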