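import Cfsg.Statements.S5883
import Cfsg.Agent.Lib.Fi23Max.Main

set_option autoImplicit false
open Cfsg

namespace Cfsg.Agent.S5883

/-- The constant 10 in the statement that H⁽¹⁰⁾ is perfect for every maximal subgroup H of a finite almost simple group cannot be lowered to 9: there exist a finite almost simple group G (with a non-abelian simple normal subgroup of trivial centralizer) and a maximal subgroup H of G whose ninth derived subgroup H⁽⁹⁾ is not perfect, i.e. H⁽¹⁰⁾ ≠ H⁽⁹⁾. (A solvable maximal subgroup of derived length 10 in the Fischer group Fi₂₃ is such an example.) -/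
theorem result :
    ∃ (G : Type) (_ : Group G) (_ : Finite G) (S H : Subgroup G), S.Normal ∧ IsSimpleGroup S ∧ ¬ IsMulCommutative S ∧
      Subgroup.centralizer (S : Set G) = ⊥ ∧ IsCoatom H ∧ derivedSeries H 10 ≠ derivedSeries H 9 := by
  obtain ⟨M⟩ := Cfsg.Agent.Lib.Fi23Max.exists_model
  have hc := M.center_eq_bot
  refine ⟨Cfsg.Agent.Lib.Fi23Max.G, inferInstance, M.finite, ⊤, M.hset, inferInstance,
    Subgroup.topEquiv.isSimpleGroup, ?_, ?_, M.hset_isCoatom, M.tenth_ne_ninth⟩
  · intro hcomm
    have htop : Subgroup.center Cfsg.Agent.Lib.Fi23Max.G = ⊤ := by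
      rw [eq_top_iff]
      intro x _
      rw [Subgroup.mem_center_iff]
      intro y
      exact congrArg Subtype.val (hcomm.is_comm.comm (⟨y, trivial⟩ : (⊤ : Subgroup _)) ⟨x, trivial⟩)
    exact top_ne_bot (htop.symm.trans hc)
  · rw [Subgroup.coe_top, Subgroup.centralizer_univ, hc]

end Cfsg.Agent.S5883
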