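import Cfsg.Statements.S5885
import Cfsg.Agent.Lib.MaxOfMax.Basic

set_option autoImplicit false
open Cfsg

namespace Cfsg.Agent.S5885

open Pointwise MulAction Cfsg.Agent.Lib.MaxOfMax

/-- The combinatorial heart: the orbit of the base point under an intermediate group is trivial. -/
theorem core {G X : Type*} [Group G] [MulAction G X] [DecidableEq X] [Fintype X]
    (hodd : Odd (Fintype.card X))
    (hreal : ∀ σ : Equiv.Perm X, Equiv.Perm.sign σ = 1 → ∃ g : G, ∀ x, g • x = σ x)
    (a : X) (M H K L : Subgroup G) (hMa : ∀ g : G, g ∈ M ↔ g • a = a)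
    (hmax : IsCoatom (H.subgroupOf M)) (hHM : H ≤ M) (hKM : K ⊓ M = H) (hHL : H ≤ L) (hLK : L ≤ K)
    (hLH : L ≠ H) : L = K := by
  by_contra hne
  set O : Set X := {x | ∃ l ∈ L, l • a = x} with hO
  have haO : a ∈ O := ⟨1, L.one_mem, one_smul _ _⟩
  have hinv : ∀ l ∈ L, ∀ x, l • x ∈ O ↔ x ∈ O := by
    intro l hl x
    constructor
    · rintro ⟨m, hm, hx⟩
      exact ⟨l⁻¹ * m, L.mul_mem (L.inv_mem hl) hm, by rw [mul_smul, hx, inv_smul_smul]⟩
    · rintro ⟨m, hm, rfl⟩
      exact ⟨l * m, L.mul_mem hl hm, mul_smul _ _ _⟩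
  have hblock : ∀ k ∈ K, ∀ x ∈ O, k • x ∈ O → k ∈ L := by
    rintro k hk x ⟨l, hl, rfl⟩ ⟨m, hm, hx⟩
    have h1 : m⁻¹ * k * l ∈ H := by
      rw [← hKM]
      refine ⟨K.mul_mem (K.mul_mem (K.inv_mem (hLK hm)) hk) (hLK hl), (hMa _).2 ?_⟩
      rw [mul_smul, mul_smul, ← hx, inv_smul_smul]
    have h2 := L.mul_mem (L.mul_mem hm (hHL h1)) (L.inv_mem hl)
    simpa [mul_assoc] using h2
  -- a second point of `O`
  obtain ⟨l0, hl0, hl0H⟩ : ∃ l ∈ L, l ∉ H := by
    by_contra hcon; push Not at hcon; exact hLH (le_antisymm hcon hHL)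
  set b : X := l0 • a with hb
  have hbO : b ∈ O := ⟨l0, hl0, rfl⟩
  have hba : b ≠ a := fun h => hl0H (hKM ▸ ⟨hLK hl0, (hMa _).2 h⟩)
  -- two points outside `O` in the orbit of `K`
  obtain ⟨k, hk, hkL⟩ : ∃ k ∈ K, k ∉ L := by
    by_contra hcon; push Not at hcon; exact hne (le_antisymm hLK hcon)
  set c : X := k • a with hc
  set c2 : X := k • b with hc2
  have hcO : c ∉ O := fun h => hkL (hblock k hk a haO h)
  have hc2O : c2 ∉ O := fun h => hkL (hblock k hk b hbO h)
  have hcc : c ≠ c2 := fun h => hba (MulAction.injective k h).symm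
  have hca : c ≠ a := fun h => hcO (h ▸ haO)
  have hc2a : c2 ≠ a := fun h => hc2O (h ▸ haO)
  have hcb : c ≠ b := fun h => hcO (h ▸ hbO)
  -- the stabiliser of `O` in `M` is `H`
  have hstab : M ⊓ stabilizer G O = H := by
    have hle : H ≤ M ⊓ stabilizer G O :=
      le_inf hHM fun h hh => mem_stabilizer_set.2 (hinv h (hHL hh))
    rcases eq_or_eq_of_isCoatom_subgroupOf hmax hle inf_le_left with h | h
    · exact h
    · exfalso
      obtain ⟨g, hg⟩ := hreal (Equiv.swap b c * Equiv.swap c c2)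
        (by simp [Equiv.Perm.sign_swap hcb.symm, Equiv.Perm.sign_swap hcc])
      have hga : g • a = a := by
        rw [hg, Equiv.Perm.mul_apply, Equiv.swap_apply_of_ne_of_ne hca.symm hc2a.symm,
          Equiv.swap_apply_of_ne_of_ne hba.symm hca.symm]
      have hgO : g ∈ stabilizer G O := (h.symm ▸ (hMa g).2 hga : g ∈ M ⊓ stabilizer G O).2
      have hgb : g • b = c := by
        rw [hg, Equiv.Perm.mul_apply, Equiv.swap_apply_of_ne_of_ne hcb.symm (ne_of_mem_of_not_mem hbO hc2O),
          Equiv.swap_apply_left]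
      exact hcO (hgb ▸ (mem_stabilizer_set.1 hgO b).2 hbO)
  -- every realisable permutation fixing `a` and `O` pointwise lies in `H`
  have hfix : ∀ σ : Equiv.Perm X, Equiv.Perm.sign σ = 1 → (∀ x ∈ O, σ x = x) →
      ∃ g ∈ H, ∀ x, g • x = σ x := by
    intro σ hσ hσO
    obtain ⟨g, hg⟩ := hreal σ hσ
    refine ⟨g, hstab ▸ ⟨(hMa g).2 (by rw [hg, hσO a haO]), mem_stabilizer_set.2 fun x => ?_⟩, hg⟩
    rw [hg]
    constructor
    · intro hx
      rwa [σ.injective (hσO _ hx)] at hx
    · intro hx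
      rwa [hσO x hx]
  -- a point outside `O` and outside `k O`
  have hd : ∃ d, d ∉ O ∧ k⁻¹ • d ∉ O := by
    by_contra hcon
    push Not at hcon
    have hiff : ∀ x, k⁻¹ • x ∈ O ↔ x ∉ O := fun x =>
      ⟨fun hx hxO => hkL (hblock k hk _ hx (by rwa [smul_inv_smul])), hcon x⟩
    classical
    have h1 : (Finset.univ.filter (fun x => k⁻¹ • x ∈ O)).card =
        (Finset.univ.filter (fun x => x ∈ O)).card :=
      Finset.card_bij (fun x _ => k⁻¹ • x) (by simp) (fun _ _ _ _ h => MulAction.injective k⁻¹ h)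
        (fun y hy => ⟨k • y, by simpa using hy, by simp⟩)
    have h2 : Finset.univ.filter (fun x => k⁻¹ • x ∈ O) = Finset.univ.filter (fun x => ¬ x ∈ O) :=
      Finset.filter_congr fun x _ => hiff x
    have h3 := Finset.card_filter_add_card_filter_not (s := (Finset.univ : Finset X)) (fun x => x ∈ O)
    rw [← h2, h1, Finset.card_univ] at h3
    rcases hodd with ⟨m, hm⟩
    omega
  by_cases htrans : ∀ x, ∃ k' ∈ K, k' • a = x
  · obtain ⟨d, hdO, hdk⟩ := hd
    have hdc : d ≠ c := fun h => hdk (by rw [h, hc, inv_smul_smul]; exact haO)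
    have hdc2 : d ≠ c2 := fun h => hdk (by rw [h, hc2, inv_smul_smul]; exact hbO)
    obtain ⟨g, hgH, hg⟩ := hfix (Equiv.swap c d * Equiv.swap d c2)
      (by simp [Equiv.Perm.sign_swap hdc.symm, Equiv.Perm.sign_swap hdc2])
      (fun x hx => by
        rw [Equiv.Perm.mul_apply,
          Equiv.swap_apply_of_ne_of_ne (a := d) (b := c2) (ne_of_mem_of_not_mem hx hdO) (ne_of_mem_of_not_mem hx hc2O),
          Equiv.swap_apply_of_ne_of_ne (ne_of_mem_of_not_mem hx hcO) (ne_of_mem_of_not_mem hx hdO)])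
    have hgc : g • c = d := by
      rw [hg, Equiv.Perm.mul_apply, Equiv.swap_apply_of_ne_of_ne hdc.symm hcc, Equiv.swap_apply_left]
    have hgc2 : g • c2 = c := by
      rw [hg, Equiv.Perm.mul_apply, Equiv.swap_apply_right, Equiv.swap_apply_right]
    have hgK : g ∈ K := hLK (hHL hgH)
    have hu : k⁻¹ * g * k ∈ L := by
      refine hblock _ (K.mul_mem (K.mul_mem (K.inv_mem hk) hgK) hk) b hbO ?_
      rw [mul_smul, mul_smul, ← hc2, hgc2, hc, inv_smul_smul]
      exact haO
    apply hdk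
    have h := (hinv _ hu a).2 haO
    rwa [mul_smul, mul_smul, ← hc, hgc] at h
  · push Not at htrans
    obtain ⟨d, hd'⟩ := htrans
    have hdO : d ∉ O := fun ⟨l, hl, hx⟩ => hd' l (hLK hl) hx
    have hdc : d ≠ c := fun h => hd' k hk h.symm
    have hdc2 : d ≠ c2 := fun h => hd' (k * l0) (K.mul_mem hk (hLK hl0))
      (by rw [mul_smul, ← hb, ← hc2, h])
    obtain ⟨g, hgH, hg⟩ := hfix (Equiv.swap c d * Equiv.swap d c2)
      (by simp [Equiv.Perm.sign_swap hdc.symm, Equiv.Perm.sign_swap hdc2])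
      (fun x hx => by
        rw [Equiv.Perm.mul_apply,
          Equiv.swap_apply_of_ne_of_ne (a := d) (b := c2) (ne_of_mem_of_not_mem hx hdO) (ne_of_mem_of_not_mem hx hc2O),
          Equiv.swap_apply_of_ne_of_ne (ne_of_mem_of_not_mem hx hcO) (ne_of_mem_of_not_mem hx hdO)])
    have hgc : g • c = d := by
      rw [hg, Equiv.Perm.mul_apply, Equiv.swap_apply_of_ne_of_ne hdc.symm hcc, Equiv.swap_apply_left]
    exact hd' (g * k) (K.mul_mem (hLK (hHL hgH)) hk) (by rw [mul_smul, ← hc, hgc])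

/-- Let n be an odd positive integer such that every primitive permutation group of degree n contains the alternating group (so the symmetric and alternating groups are the only primitive groups of degree n). Let G be a finite group, M a maximal subgroup of G of index n, and H a maximal subgroup of M. Then H is a second maximal subgroup of G: H is maximal in every maximal subgroup K of G containing H. -/
theorem result {G : Type*} [Group G]
    [Finite G] (n : ℕ) (hodd : Odd n)
    (hA : ∀ P : Subgroup (Equiv.Perm (Fin n)), MulAction.IsPreprimitive P (Fin n) → alternatingGroup (Fin n) ≤ P)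
    (M : Subgroup G) (hM : IsCoatom M) (hn : M.index = n) (H : Subgroup G) (hHM : H ≤ M)
    (hmax : IsCoatom (H.subgroupOf M)) (K : Subgroup G) (hK : IsCoatom K) (hHK : H ≤ K) :
    IsCoatom (H.subgroupOf K) := by
  classical
  by_cases hne : K = M
  · subst hne; exact hmax
  obtain ⟨hKM, hKH⟩ := inf_eq_of_maximal hM hK hne hHM hmax hHK
  have hn1 : n ≠ 1 := fun h => hM.1 (Subgroup.index_eq_one.1 (hn.trans h))
  have hn0 : n ≠ 0 := hn ▸ Subgroup.index_ne_zero_of_finite
  have := Fintype.ofFinite (G ⧸ M)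
  have hcard : Fintype.card (G ⧸ M) = n := by
    rw [← Nat.card_eq_fintype_card, ← Subgroup.index_eq_card, hn]
  have : Nontrivial (G ⧸ M) := Fintype.one_lt_card_iff_nontrivial.1 (by omega)
  set a : G ⧸ M := ((1 : G) : G ⧸ M) with ha
  have hstab : stabilizer G a = M := stabilizer_quotient M
  have hprim : IsPreprimitive G (G ⧸ M) :=
    (isCoatom_stabilizer_iff_preprimitive G a).1 (hstab.symm ▸ hM)
  -- transport to `Fin n`
  let e : G ⧸ M ≃ Fin n := Fintype.equivFinOfCardEq hcard
  let φ : G →* Equiv.Perm (Fin n) := e.permCongrHom.toMonoidHom.comp (toPermHom G (G ⧸ M))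
  have hP : IsPreprimitive φ.range (Fin n) := by
    let f : G ⧸ M →ₑ[φ.rangeRestrict] Fin n :=
      { toFun := e
        map_smul' := fun g x => by
          change e (g • x) = φ g (e x)
          simp [φ] }
    exact IsPreprimitive.of_surjective (f := f) e.surjective
  have hreal : ∀ σ : Equiv.Perm (G ⧸ M), Equiv.Perm.sign σ = 1 → ∃ g : G, ∀ x, g • x = σ x := by
    intro σ hσ
    obtain ⟨g, hg⟩ := hA φ.range hP (show e.permCongr σ ∈ alternatingGroup (Fin n) from
      Equiv.Perm.mem_alternatingGroup.2 (by rw [Equiv.Perm.sign_permCongr]; exact hσ))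
    refine ⟨g, fun x => e.injective ?_⟩
    have := congrArg (fun τ : Equiv.Perm (Fin n) => τ (e x)) hg
    simpa [φ] using this
  refine isCoatom_subgroupOf_of_forall hHK hKH fun L hHL hLK => ?_
  by_cases hLH : L = H
  · exact Or.inl hLH
  · refine Or.inr (core (hcard ▸ hodd) hreal a M H K L (fun g => ?_) hmax hHM hKM hHL hLK hLH)
    exact (SetLike.ext_iff.1 hstab g).symm.trans mem_stabilizer_iff

end Cfsg.Agent.S5885
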