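import Cfsg.Statements.S5887
import Cfsg.Agent.Lib.FieldSub.Basic

set_option autoImplicit false
open Cfsg

namespace Cfsg.Agent.S5887

/-- Let F be a finite field, n a positive integer and r a composite number (r > 1, not prime) that divides n with r < n. Let K be a subalgebra of the algebra of n × n matrices over F which is a field of degree r over F (commutative, every non-zero element invertible, of dimension r over F). Then the normaliser N of K in GL_n(F) (a group of type ΓL_{n/r}(F_{q^r})) is not a maximal subgroup of GL_n(F), and N ∩ SL_n(F) is not a maximal subgroup of SL_n(F): both lie properly inside the normaliser of an intermediate subfield of prime degree over F. -/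
theorem result {F : Type*} [Field F]
    [Fintype F] (n r : ℕ) (hr1 : 1 < r) (hrp : ¬ r.Prime) (hrn : r ∣ n) (hlt : r < n)
    (K : Subalgebra F (Matrix (Fin n) (Fin n) F)) (hK : Cfsg.Geo.IsFieldSubalgebra r K) :
    ¬ IsCoatom (Cfsg.Geo.subalgebraNormalizer K) ∧
      ¬ Cfsg.Geo.IsMaximalIn (Cfsg.Geo.specialLinear (Fin n) F)
        (Cfsg.Geo.subalgebraNormalizer K ⊓ Cfsg.Geo.specialLinear (Fin n) F) := by
  obtain ⟨s, hdvd, hs1, hsr⟩ : ∃ s, s ∣ r ∧ s ≠ 1 ∧ s ≠ r := by
    obtain ⟨s, h1, h2, h3⟩ := Nat.exists_dvd_of_not_prime2 (by omega) hrp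
    exact ⟨s, h1, by omega, by omega⟩
  have hspos : 0 < s := Nat.pos_of_dvd_of_pos hdvd (by omega)
  have hsle : s ≤ r := Nat.le_of_dvd (by omega) hdvd
  obtain ⟨d, L, hL, hd1, hdr, hLK, hNN⟩ := Cfsg.Agent.Lib.FieldSub.exists_intermediate (s := s)
    (by omega) hK (by omega) (by omega) hdvd
  obtain ⟨k, hk, hkL⟩ : ∃ k ∈ K, k ∉ L := by
    by_contra hcon
    push Not at hcon
    have h1 := hL.finrank_eq
    rw [le_antisymm hLK hcon, hK.finrank_eq] at h1
    omega
  obtain ⟨t, ht, htc, htK⟩ := Cfsg.Agent.Lib.FieldSub.exists_moving hK hL hLK hk hkL hlt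
  have htL : t ∈ Cfsg.Geo.subalgebraNormalizer L := by
    intro x
    have key : ∀ y ∈ L, (t : Matrix (Fin n) (Fin n) F) * y * (↑t⁻¹ : Matrix (Fin n) (Fin n) F) = y := by
      intro y hy
      rw [htc y hy, mul_assoc, Units.mul_inv, mul_one]
    refine ⟨fun hx => by rw [key x hx]; exact hx, fun hx => ?_⟩
    have h := key _ hx
    have hx' : (t : Matrix (Fin n) (Fin n) F) * x * (↑t⁻¹ : Matrix (Fin n) (Fin n) F) = x := by
      have h1 := congrArg (fun A => (↑t⁻¹ : Matrix (Fin n) (Fin n) F) * A * (t : Matrix (Fin n) (Fin n) F)) h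
      simpa [mul_assoc] using h1
    rwa [hx'] at hx
  obtain ⟨m, hm⟩ : ∃ m, m ∈ Cfsg.Geo.specialLinear (Fin n) F ∧ m ∉ Cfsg.Geo.subalgebraNormalizer L :=
    SetLike.not_le_iff_exists.1 (Cfsg.Agent.Lib.FieldSub.not_specialLinear_le hL hd1 (by omega))
  constructor
  · intro hco
    rcases hco.le_iff.1 hNN with h | h
    · exact hm.2 (h ▸ Subgroup.mem_top m)
    · exact htK (h ▸ htL)
  · intro hmax
    rcases hmax.2 (Cfsg.Geo.subalgebraNormalizer L ⊓ Cfsg.Geo.specialLinear (Fin n) F)
      (inf_le_inf_right _ hNN) inf_le_right with h | h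
    · exact htK ((SetLike.ext_iff.1 h t).1 (Subgroup.mem_inf.2 ⟨htL, ht⟩)).1
    · exact hm.2 (h.symm ▸ hm.1 : m ∈ Cfsg.Geo.subalgebraNormalizer L ⊓ Cfsg.Geo.specialLinear (Fin n) F).1

end Cfsg.Agent.S5887
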