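import Cfsg.Statements.S5890
import Cfsg.Agent.Lib.DicksonId.PGLMeet

set_option autoImplicit false
set_option linter.style.haveILetI false
open Cfsg Cfsg.Agent.Lib.DicksonId

namespace Cfsg.Agent.S5890

/-- Let F be a finite field with q ≥ 4 elements, let L ≤ PGL₂(F) be the image of SL₂(F) (a copy of PSL₂(F), of index gcd(2, q − 1)), and let M be a maximal subgroup of PGL₂(F) that does not contain L. Suppose q ∉ {7, 9, 11} and that q is not a prime congruent to ±11 or ±19 modulo 40. Then M ∩ L is a maximal subgroup of L. (For the excluded q there are maximal subgroups of PGL₂(q) — dihedral groups of order 12 and 16 at q = 7, of order 20 and 16 at q = 9, of order 20 at q = 11, and S₄ at the excluded primes — whose intersection with L is not maximal in L.) -/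
theorem result {F : Type*} [Field F]
    [Fintype F] (h4 : 4 ≤ Fintype.card F) (h7 : Fintype.card F ≠ 7) (h9 : Fintype.card F ≠ 9) (h11 : Fintype.card F ≠ 11)
    (h40 : (Fintype.card F).Prime → Fintype.card F % 40 ∉ ({11, 19, 21, 29} : Finset ℕ))
    (M : Subgroup (Matrix.ProjGenLinGroup (Fin 2) F)) (hM : IsCoatom M)
    (hML : ¬ (Matrix.ProjGenLinGroup.mk.comp Matrix.SpecialLinearGroup.toGL).range ≤ M) :
    IsCoatom ((M ⊓ (Matrix.ProjGenLinGroup.mk.comp Matrix.SpecialLinearGroup.toGL).range).subgroupOf
      (Matrix.ProjGenLinGroup.mk.comp Matrix.SpecialLinearGroup.toGL).range) := by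
  obtain ⟨p, hchar⟩ := CharP.exists F
  haveI := hchar
  haveI hp : Fact p.Prime := ⟨CharP.char_is_prime F p⟩
  obtain ⟨f, hf, hq⟩ := Lib.Linear.exists_card_eq_pow (F := F) p
  let e : Matrix.ProjectiveSpecialLinearGroup (Fin 2) F ≃* (imSL F) :=
    (MonoidHom.ofInjective Matrix.ProjectiveSpecialLinearGroup.toPGL_injective).trans
      (MulEquiv.subgroupCongr imSL_eq.symm)
  suffices h : IsCoatom (cap M) by
    have heq : (M ⊓ imSL F).subgroupOf (imSL F) = (cap M).map e.toMonoidHom := by
      ext y
      constructor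
      · intro hy
        refine ⟨e.symm y, ?_, e.apply_symm_apply y⟩
        show ((e (e.symm y) : imSL F) : Matrix.ProjGenLinGroup (Fin 2) F) ∈ M
        rw [e.apply_symm_apply]
        exact hy.1
      · rintro ⟨z, hz, rfl⟩
        exact ⟨hz, (e z).2⟩
    show IsCoatom ((M ⊓ imSL F).subgroupOf (imSL F))
    rw [heq]
    exact ((MulEquiv.mapSubgroup e).isCoatom_iff (cap M)).mpr h
  by_cases hp2 : p = 2
  · subst hp2
    have hsurj : Function.Surjective
        (Matrix.ProjectiveSpecialLinearGroup.toPGL (n := Fin 2) (R := F)) := fun y => by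
      obtain ⟨g, rfl⟩ := Matrix.ProjGenLinGroup.mk_surjective y
      have hm : Matrix.ProjGenLinGroup.mk g ∈ imSL F :=
        (mem_imSL_iff g).mpr (FiniteField.isSquare_of_char_two (ringChar.eq F 2) _)
      rw [imSL_eq] at hm
      exact hm
    let e' := MulEquiv.ofBijective _ ⟨Matrix.ProjectiveSpecialLinearGroup.toPGL_injective, hsurj⟩
    have hc : cap M = M.map e'.symm.toMonoidHom :=
      Subgroup.comap_equiv_eq_map_symm e' M
    rw [hc]
    exact ((MulEquiv.mapSubgroup e'.symm).isCoatom_iff M).mpr hM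
  have h5 : 5 ≤ Fintype.card F := by
    have : Fintype.card F % 2 = 1 := hq ▸ Nat.odd_iff.mp (hp.out.odd_of_ne_two hp2).pow
    omega
  exact cap_isCoatom hp2 h5 h7 h9 h11 h40 hM hML

end Cfsg.Agent.S5890
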