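import Cfsg.Statements.S5891
import Cfsg.Agent.Lib.DicksonId.PGLSubfield

set_option autoImplicit false
set_option linter.style.haveILetI false
open Cfsg Cfsg.Agent.Lib.DicksonId

namespace Cfsg.Agent.S5891

/-- Let F be a finite field of odd order q > 3 and characteristic p, and let M be a maximal subgroup of PGL₂(F) not containing the image L of SL₂(F) (a copy of PSL₂(F) of index 2). Then one of the following holds: |M| = q(q − 1) (M is the stabiliser of a point of the projective line); q ≠ 5 and M is dihedral of order 2(q − 1); M is dihedral of order 2(q + 1); q = p ≡ ±3 (mod 8) and M ≅ S₄; or q = q₀^r for an odd prime r and M ≅ PGL₂(F₀) with |F₀| = q₀. -/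
theorem result {F : Type*} [Field F] [Fintype F]
    (hodd : Odd (Fintype.card F)) (h3 : 3 < Fintype.card F) (M : Subgroup (Matrix.ProjGenLinGroup (Fin 2) F)) (hM : IsCoatom M)
    (hML : ¬ (Matrix.ProjGenLinGroup.mk.comp Matrix.SpecialLinearGroup.toGL).range ≤ M) :
    Nat.card M = Fintype.card F * (Fintype.card F - 1) ∨
    (Fintype.card F ≠ 5 ∧ Nonempty (M ≃* DihedralGroup (Fintype.card F - 1))) ∨
    Nonempty (M ≃* DihedralGroup (Fintype.card F + 1)) ∨
    ((Fintype.card F).Prime ∧ (Fintype.card F % 8 = 3 ∨ Fintype.card F % 8 = 5) ∧ Nonempty (M ≃* Equiv.Perm (Fin 4))) ∨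
    (∃ (F₀ : Type) (_ : Field F₀) (_ : Fintype F₀) (r : ℕ), r.Prime ∧ Odd r ∧ Fintype.card F = Fintype.card F₀ ^ r ∧
        Nonempty (M ≃* Matrix.ProjGenLinGroup (Fin 2) F₀)) := by
  obtain ⟨p, hchar⟩ := CharP.exists F
  haveI := hchar
  haveI hp : Fact p.Prime := ⟨CharP.char_is_prime F p⟩
  obtain ⟨f, hf, hq⟩ := Lib.Linear.exists_card_eq_pow (F := F) p
  have hp2 : p ≠ 2 := fun h => by
    subst h
    rw [hq, Nat.odd_pow_iff hf.ne'] at hodd
    exact absurd hodd (by decide)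
  have h5 : 5 ≤ Fintype.card F := by
    rw [Nat.odd_iff] at hodd; omega
  have hc := card_cap (p := p) hp2 hM hML
  rcases pgl_cases hp2 h5 hM hML with ⟨P, hP⟩ | ⟨k, x, -, -, -, hk3, hk, -, ⟨e⟩⟩ | ⟨hqp, h8, -, he⟩ |
      ⟨k, r, g, φ, hk, -, hr, hodd', hqk, -, he⟩
  · left
    rw [hc, hP, ← card_normalizer_sylow (p := p) P, gcd_two_eq (p := p), if_neg hp2]
  · rcases hk with hk | hk
    · exact Or.inr (Or.inl ⟨by omega, ⟨hk ▸ e⟩⟩)
    · exact Or.inr (Or.inr (Or.inl ⟨hk ▸ e⟩))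
  · exact Or.inr (Or.inr (Or.inr (Or.inl ⟨hqp ▸ hp.out, hqp ▸ h8, he⟩)))
  · letI : Fintype (GaloisField p k) := Fintype.ofFinite _
    exact Or.inr (Or.inr (Or.inr (Or.inr ⟨GaloisField p k, inferInstance, inferInstance, r, hr, hodd',
      by rw [card_galois hk, hqk, pow_mul], he⟩)))

end Cfsg.Agent.S5891
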