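import Cfsg.Statements.S5893
import Cfsg.Agent.Lib.DicksonId.MaxCommon

set_option autoImplicit false
set_option linter.style.haveILetI false
open Cfsg Cfsg.Agent.Lib.DicksonId

namespace Cfsg.Agent.S5893

/-- Let F be a finite field of even order q ≥ 4 and let M be a maximal subgroup of PSL₂(F) (= SL₂(F) = PGL₂(F)). Then one of the following holds: |M| = q(q − 1) (the stabiliser of a point of the projective line, elementary abelian of order q extended by a cyclic group of order q − 1); M is dihedral of order 2(q − 1); M is dihedral of order 2(q + 1); or q = q₀^r for a prime r with q₀ ≠ 2 and M ≅ PSL₂(F₀) with |F₀| = q₀. -/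
theorem result {F : Type*} [Field F] [Fintype F]
    (heven : Even (Fintype.card F)) (h4 : 4 ≤ Fintype.card F) (M : Subgroup (Matrix.ProjectiveSpecialLinearGroup (Fin 2) F)) (hM : IsCoatom M) :
    Nat.card M = Fintype.card F * (Fintype.card F - 1) ∨
    Nonempty (M ≃* DihedralGroup (Fintype.card F - 1)) ∨
    Nonempty (M ≃* DihedralGroup (Fintype.card F + 1)) ∨
    (∃ (F₀ : Type) (_ : Field F₀) (_ : Fintype F₀) (r : ℕ), r.Prime ∧ Fintype.card F₀ ≠ 2 ∧
        Fintype.card F = Fintype.card F₀ ^ r ∧ Nonempty (M ≃* Matrix.ProjectiveSpecialLinearGroup (Fin 2) F₀)) := by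
  haveI : Fact (Nat.Prime 2) := ⟨Nat.prime_two⟩
  have hchar : ringChar F = 2 := FiniteField.even_card_iff_char_two.mpr (Nat.even_iff.mp heven)
  haveI : CharP F 2 := ringChar.of_eq hchar
  obtain ⟨f, hf, hq⟩ := Lib.Linear.exists_card_eq_pow (F := F) 2
  have he : Nat.gcd 2 (Fintype.card F - 1) = 1 := by rw [gcd_two_eq (p := 2), if_pos rfl]
  haveI := isSimple (F := F) h4
  rcases classify (p := 2) M with ⟨hc, hp⟩ | ⟨k, hk, ⟨x, hxM, hx⟩, hd⟩ | ⟨P, hP⟩ | ⟨h2, ⟨e⟩⟩ | ⟨h2, ⟨e⟩⟩ |
      ⟨h2, ⟨e⟩⟩ | ⟨k, hk, h3, -, g, φ, hφ⟩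
  · exact absurd hM (not_isCoatom_of_isCyclic (p := 2) h4 hc hp)
  · obtain ⟨e⟩ := hd
    have hk1 : 1 < k := by
      have h2 := two_lt_card_of_isCoatom (p := 2) h4 hM
      rw [Nat.card_congr e.toEquiv, DihedralGroup.nat_card] at h2
      omega
    rcases orderOf_dvd_of_not_dvd (p := 2) (x := x) (hx ▸ hk) with hd | hd <;> rw [hx] at hd
    · have := torus_of_isCoatom_dihedral (p := 2) h4 hM hk hk1 hxM hx ⟨e⟩ (Or.inr rfl) hd
      rw [he, Nat.div_one] at this
      exact Or.inr (Or.inr (Or.inl (this ▸ ⟨e⟩)))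
    · have := torus_of_isCoatom_dihedral (p := 2) h4 hM hk hk1 hxM hx ⟨e⟩ (Or.inl rfl) hd
      rw [he, Nat.div_one] at this
      exact Or.inr (Or.inl (this ▸ ⟨e⟩))
  · have hPne : (P : Subgroup (Matrix.ProjectiveSpecialLinearGroup (Fin 2) F)) ≠ ⊥ := fun hb => by
      have h1 := P.card_eq_multiplicity
      rw [hb, Subgroup.card_bot] at h1
      have hc := card_PSL_mul (F := F) (p := 2)
      rw [he, one_mul] at hc
      have h2 : 2 ∣ Nat.card (Matrix.ProjectiveSpecialLinearGroup (Fin 2) F) := by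
        rw [hc]; exact dvd_mul_of_dvd_left heven.two_dvd _
      have := Nat.prime_two.factorization_pos_of_dvd Nat.card_pos.ne' h2
      exact absurd h1.symm (Nat.one_lt_pow this.ne' Nat.one_lt_two).ne'
    have hne : Subgroup.normalizer ((P : Subgroup (Matrix.ProjectiveSpecialLinearGroup (Fin 2) F)) : Set (Matrix.ProjectiveSpecialLinearGroup (Fin 2) F)) ≠ ⊤ := by
      intro htop
      have hcard := card_normalizer_sylow (p := 2) P
      rw [htop, Subgroup.card_top, card_PSL_mul (p := 2)] at hcard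
      have h5 := Nat.mul_lt_mul_of_pos_left
        (show Fintype.card F - 1 < (Fintype.card F - 1) * (Fintype.card F + 1) from
          lt_mul_of_one_lt_right (by omega) (by omega)) (show 0 < Fintype.card F by omega)
      omega
    have heq : M = Subgroup.normalizer ((P : Subgroup (Matrix.ProjectiveSpecialLinearGroup (Fin 2) F)) : Set (Matrix.ProjectiveSpecialLinearGroup (Fin 2) F)) :=
      by_contra fun h => hne (hM.2 _ (lt_of_le_of_ne hP h))
    left
    rw [heq, ← card_normalizer_sylow (p := 2) P, he, one_mul]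
  · exact absurd (by rw [Nat.card_congr e.toEquiv]; simp [nat_card_alternatingGroup]; decide) h2
  · exact absurd (by rw [Nat.card_congr e.toEquiv]; simp; decide) h2
  · rcases h2 with h2 | h2
    · exact absurd (by rw [Nat.card_congr e.toEquiv]; simp [nat_card_alternatingGroup]; decide) h2
    · norm_num at h2
  · rcases hφ with hφ | ⟨h2, -⟩
    · obtain ⟨r, hr, hqr, -⟩ := prime_of_isCoatom_pslExt hM hk hφ
      letI : Fintype (GaloisField 2 k) := Fintype.ofFinite _
      have hc : Fintype.card (GaloisField 2 k) = 2 ^ k := by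
        rw [← Nat.card_eq_fintype_card, GaloisField.card 2 k hk.ne']
      refine Or.inr (Or.inr (Or.inr ⟨GaloisField 2 k, inferInstance, inferInstance, r, hr, ?_, ?_, ?_⟩))
      · rw [hc]; omega
      · rw [hc, hqr, pow_mul]
      · exact ⟨(conjGEquiv g M).trans ((MulEquiv.subgroupCongr hφ).trans
          (MonoidHom.ofInjective (Lib.DicksonFull.pslExt_injective φ)).symm)⟩
    · exact absurd rfl h2

end Cfsg.Agent.S5893
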