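import Cfsg.Statements.S5894
import Cfsg.Agent.Lib.MaxOfMax.Basic

set_option autoImplicit false
open Cfsg
open scoped Pointwise

namespace Cfsg.Agent.S5894

/-- For every m ≥ 2 the symmetric group on 2m letters has a maximal subgroup M of index 2m together with a maximal subgroup H of M that is not second maximal: some maximal subgroup K of the symmetric group contains H without H being maximal in K. (One may take M the stabiliser of a letter, H ≅ S_m × S_{m−1} inside it, and K ≅ S_m ≀ S₂ the stabiliser of a partition into two m-sets, with H < S_m × S_m < K.) So the prime-index hypothesis in the second-maximality criterion cannot be relaxed to any even index ≥ 4. -/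
theorem result (m : ℕ) (hm : 2 ≤ m) :
    ∃ M H K : Subgroup (Equiv.Perm (Fin (2 * m))), IsCoatom M ∧ M.index = 2 * m ∧ H ≤ M ∧ IsCoatom (H.subgroupOf M) ∧
      IsCoatom K ∧ H ≤ K ∧ ¬ IsCoatom (H.subgroupOf K) := by
  classical
  let a : Fin (2 * m) := ⟨0, by omega⟩
  let b : Fin (2 * m) := ⟨1, by omega⟩
  let O : Set (Fin (2 * m)) := {x | x.val < m}
  set M : Subgroup (Equiv.Perm (Fin (2 * m))) := MulAction.stabilizer (Equiv.Perm (Fin (2 * m))) a with hMdef
  have : Nontrivial (Fin (2 * m)) := ⟨⟨a, b, by simp [a, b, Fin.ext_iff]⟩⟩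
  have hM : IsCoatom M := MulAction.IsPreprimitive.isCoatom_stabilizer_of_isPreprimitive (Equiv.Perm (Fin (2 * m))) a
  have hidx : M.index = 2 * m := by
    rw [hMdef, MulAction.index_stabilizer_of_transitive (Equiv.Perm (Fin (2 * m))) a, Nat.card_fin]
  -- the involution exchanging `O` and its complement
  let sh : Fin (2 * m) → Fin (2 * m) := fun x =>
    if h : x.val < m then ⟨x.val + m, by omega⟩ else ⟨x.val - m, by omega⟩
  have hsh : Function.Involutive sh := by
    intro x
    by_cases h : x.val < m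
    · simp [sh, h, show ¬ x.val + m < m by omega, Fin.ext_iff]
    · simp [sh, h, show x.val - m < m by omega, Fin.ext_iff]
      omega
  let τ : (Equiv.Perm (Fin (2 * m))) := hsh.toPerm
  have hτ : ∀ x, τ x ∈ O ↔ x ∉ O := by
    intro x
    show (sh x).val < m ↔ ¬ x.val < m
    by_cases h : x.val < m
    · simp [sh, h]
    · simp [sh, h]; omega
  let W : Subgroup (Equiv.Perm (Fin (2 * m))) :=
    { carrier := {g | (∀ x, g x ∈ O ↔ x ∈ O) ∨ (∀ x, g x ∈ O ↔ x ∉ O)}
      one_mem' := Or.inl fun x => Iff.rfl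
      mul_mem' := by
        rintro f g (hf | hf) (hg | hg)
        · exact Or.inl fun x => (hf _).trans (hg x)
        · exact Or.inr fun x => (hf _).trans (hg x)
        · exact Or.inr fun x => (hf _).trans (not_congr (hg x))
        · exact Or.inl fun x => (hf _).trans ((not_congr (hg x)).trans not_not)
      inv_mem' := by
        rintro f (hf | hf)
        · exact Or.inl fun x => by simpa using (hf (f⁻¹ x)).symm
        · refine Or.inr fun x => ?_
          have := hf (f⁻¹ x)
          rw [show f (f⁻¹ x) = x by simp] at this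
          tauto }
  set S : Subgroup (Equiv.Perm (Fin (2 * m))) := MulAction.stabilizer (Equiv.Perm (Fin (2 * m))) O with hS
  have hSW : S ≤ W := fun g hg => Or.inl fun x => MulAction.mem_stabilizer_set.1 hg x
  have haO : a ∈ O := show (0:ℕ) < m by omega
  have hbO : b ∈ O := show (1:ℕ) < m by omega
  let c : Fin (2 * m) := ⟨m, by omega⟩
  have hcO : c ∉ O := show ¬ m < m by omega
  have hW : W ≠ ⊤ := by
    intro h
    rcases (h ▸ Subgroup.mem_top _ : Equiv.swap a c ∈ W) with h | h
    · have := (h a).2 haO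
      rw [Equiv.swap_apply_left] at this
      exact hcO this
    · refine (h b).1 ?_ hbO
      rw [Equiv.swap_apply_of_ne_of_ne (by simp [a, b, Fin.ext_iff]) (ne_of_mem_of_not_mem hbO hcO)]
      exact hbO
  obtain ⟨K, hK, hWK⟩ := (eq_top_or_exists_le_coatom W).resolve_left hW
  -- `M ⊓ S` is maximal in `M`
  let φ : Equiv.Perm {x // x ≠ a} →* (Equiv.Perm (Fin (2 * m))) := Equiv.Perm.ofSubtype
  have hφ : ∀ g : (Equiv.Perm (Fin (2 * m))), g ∈ M → ∃ σ, φ σ = g := by
    intro g hg
    have hga : g a = a := hg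
    have h1 : ∀ x, g x ≠ a ↔ x ≠ a := fun x =>
      not_congr ⟨fun hx => g.injective (hx.trans hga.symm), fun hx => by rw [hx]; exact hga⟩
    exact ⟨g.subtypePerm h1,
      Equiv.Perm.ofSubtype_subtypePerm h1 (fun x hx hxa => hx (hxa ▸ hga))⟩
  have hφM : ∀ σ, φ σ ∈ M := fun σ =>
    Equiv.Perm.ofSubtype_apply_of_not_mem σ (fun h : a ≠ a => h rfl)
  let O' : Set {x // x ≠ a} := {x | (x : Fin (2 * m)) ∈ O}
  have hφO : ∀ σ, σ ∈ MulAction.stabilizer (Equiv.Perm {x // x ≠ a}) O' ↔ φ σ ∈ S := by
    intro σ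
    rw [hS, MulAction.mem_stabilizer_set, MulAction.mem_stabilizer_set]
    constructor
    · intro h x
      by_cases hx : x ≠ a
      · show φ σ x ∈ O ↔ _
        rw [Equiv.Perm.ofSubtype_apply_of_mem σ hx]
        exact h ⟨x, hx⟩
      · show φ σ x ∈ O ↔ _
        rw [Equiv.Perm.ofSubtype_apply_of_not_mem σ hx]
    · intro h x
      have h2 : φ σ x ∈ O ↔ (x : Fin (2 * m)) ∈ O := h x
      rw [Equiv.Perm.ofSubtype_apply_coe] at h2
      exact h2
  have hcoat : IsCoatom (MulAction.stabilizer (Equiv.Perm {x // x ≠ a}) O') := by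
    refine Equiv.Perm.isCoatom_stabilizer ⟨⟨b, by simp [a, b, Fin.ext_iff]⟩, hbO⟩
      ⟨⟨c, fun h => hcO (h ▸ haO)⟩, hcO⟩ ?_
    rw [Nat.card_eq_fintype_card]
    have : Fintype.card {x // x ≠ a} = 2 * m - 1 := by
      rw [Fintype.card_subtype_compl, Fintype.card_fin, Fintype.card_subtype_eq]
    omega
  refine ⟨M, M ⊓ S, K, hM, hidx, inf_le_left, ?_, hK, inf_le_right.trans (hSW.trans hWK), ?_⟩
  · refine Cfsg.Agent.Lib.MaxOfMax.isCoatom_subgroupOf_of_forall inf_le_left (fun h => ?_)
      (fun L hHL hLM => ?_)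
    · refine hcoat.1 (eq_top_iff.2 fun σ _ => (hφO σ).2 (h (hφM σ)).2)
    · rcases hcoat.le_iff.1 (show MulAction.stabilizer (Equiv.Perm {x // x ≠ a}) O' ≤ L.comap φ from
        fun σ hσ => hHL ⟨hφM σ, (hφO σ).1 hσ⟩) with h | h
      · refine Or.inr (le_antisymm hLM fun g hg => ?_)
        obtain ⟨σ, rfl⟩ := hφ g hg
        exact (h ▸ Subgroup.mem_top σ : σ ∈ L.comap φ)
      · refine Or.inl (le_antisymm (fun g hg => ?_) hHL)
        obtain ⟨σ, rfl⟩ := hφ g (hLM hg)
        exact ⟨hφM σ, (hφO σ).1 (h ▸ hg : σ ∈ MulAction.stabilizer (Equiv.Perm {x // x ≠ a}) O')⟩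
  · intro h
    rcases Cfsg.Agent.Lib.MaxOfMax.eq_or_eq_of_isCoatom_subgroupOf h
      (inf_le_right : M ⊓ S ≤ S) (hSW.trans hWK) with h1 | h1
    · have hsw : Equiv.swap a b ∈ S := by
        rw [hS, MulAction.mem_stabilizer_set]
        intro x
        show Equiv.swap a b x ∈ O ↔ x ∈ O
        rcases eq_or_ne x a with rfl | hxa
        · rw [Equiv.swap_apply_left]; exact iff_of_true hbO haO
        · rcases eq_or_ne x b with rfl | hxb
          · rw [Equiv.swap_apply_right]; exact iff_of_true haO hbO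
          · rw [Equiv.swap_apply_of_ne_of_ne hxa hxb]
      rw [h1] at hsw
      have : Equiv.swap a b a = a := hsw.1
      rw [Equiv.swap_apply_left] at this
      simp [a, b, Fin.ext_iff] at this
    · have hτK : τ ∈ K := hWK (Or.inr hτ)
      rw [← h1, hS, MulAction.mem_stabilizer_set] at hτK
      exact (hτ a).1 ((hτK a).2 haO) haO

end Cfsg.Agent.S5894
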