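import Cfsg.Statements.S5895
import Cfsg.Agent.Lib.MaxOfMax.Basic

set_option autoImplicit false
open Cfsg

namespace Cfsg.Agent.S5895

/-- Multiplication by units as automorphisms of the additive group. -/
def unitsAut {F : Type} [Field F] (U : Subgroup Fˣ) : U →* MulAut (Multiplicative F) where
  toFun u :=
    { toFun := fun x => Multiplicative.ofAdd (((u : Fˣ) : F) * Multiplicative.toAdd x)
      invFun := fun x => Multiplicative.ofAdd ((((u : Fˣ)⁻¹ : Fˣ) : F) * Multiplicative.toAdd x)
      left_inv := fun x => by simp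
      right_inv := fun x => by simp
      map_mul' := fun x y => by simp [mul_add] }
  map_one' := MulEquiv.ext fun x => by simp
  map_mul' u v := MulEquiv.ext fun x => by simp [mul_assoc]

@[simp] theorem unitsAut_apply {F : Type} [Field F] (U : Subgroup Fˣ) (u : U) (x : Multiplicative F) :
    unitsAut U u x = Multiplicative.ofAdd (((u : Fˣ) : F) * Multiplicative.toAdd x) := rfl

/-- No proper non-zero additive subgroup is invariant under `U`. -/
def Irr {F : Type} [Field F] (U : Subgroup Fˣ) : Prop :=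
  ∀ W : AddSubgroup F, (∀ u ∈ U, ∀ x ∈ W, (u : F) * x ∈ W) → W = ⊥ ∨ W = ⊤

theorem main (F : Type) [Field F] [Finite F] (W₀ : AddSubgroup F) (hW₀ : W₀ ≠ ⊥) (hW₀' : W₀ ≠ ⊤) :
    ∃ (G : Type) (_ : Group G) (_ : Finite G) (M H K : Subgroup G), IsCoatom M ∧
      M.index = Nat.card F ∧ H ≤ M ∧
      IsCoatom (H.subgroupOf M) ∧ IsCoatom K ∧ H ≤ K ∧ ¬ IsCoatom (H.subgroupOf K) := by
  classical
  have htop : Irr (⊤ : Subgroup Fˣ) := by
    intro W hW
    by_cases h : W = ⊥
    · exact Or.inl h
    · refine Or.inr (eq_top_iff.2 fun y _ => ?_)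
      obtain ⟨x, hx, hx0⟩ := W.ne_bot_iff_exists_ne_zero.1 h |> fun ⟨z, hz⟩ =>
        (⟨z.1, z.2, fun hc => hz (Subtype.ext hc)⟩ : ∃ x, x ∈ W ∧ x ≠ 0)
      by_cases hy : y = 0
      · exact hy ▸ W.zero_mem
      · have := hW (Units.mk0 (y / x) (div_ne_zero hy hx0)) (Subgroup.mem_top _) x hx
        rwa [Units.val_mk0, div_mul_cancel₀ _ hx0] at this
  obtain ⟨U, hU⟩ := exists_minimal_of_wellFoundedLT (fun U : Subgroup Fˣ => Irr U) ⟨⊤, htop⟩
  have hU1 : U ≠ ⊥ := by
    intro h
    rcases hU.1 W₀ (fun u hu x hx => by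
      rw [h, Subgroup.mem_bot] at hu
      simpa [hu] using hx) with h' | h'
    · exact hW₀ h'
    · exact hW₀' h'
  have : Nontrivial U := U.nontrivial_iff_ne_bot.2 hU1
  obtain ⟨H₀, hH₀, -⟩ := (eq_top_or_exists_le_coatom (⊥ : Subgroup U)).resolve_left bot_ne_top
  have hlt : H₀.map U.subtype < U := by
    refine lt_of_le_of_ne (Subgroup.map_subtype_le _) fun h => hH₀.1 ?_
    rw [← Subgroup.comap_map_eq_self_of_injective U.subtype_injective H₀, h]
    exact Subgroup.subgroupOf_self U
  have hred : ¬ Irr (H₀.map U.subtype) := fun h => hlt.not_ge (hU.2 h hlt.le)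
  simp only [Irr] at hred
  push Not at hred
  obtain ⟨W, hW, hWbot, hWtop⟩ := hred
  let G := SemidirectProduct (Multiplicative F) U (unitsAut U)
  have : Finite G := Finite.of_equiv _ SemidirectProduct.equivProd.symm
  let iR : U →* G := SemidirectProduct.inr
  let iL : Multiplicative F →* G := SemidirectProduct.inl
  let πR : G →* U := SemidirectProduct.rightHom
  have hsurj : Function.Surjective πR := fun u => ⟨iR u, rfl⟩
  let M : Subgroup G := iR.range
  have hMmem : ∀ g : G, g ∈ M ↔ g.left = 1 := by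
    intro g
    constructor
    · rintro ⟨u, rfl⟩; rfl
    · intro hg; exact ⟨g.right, SemidirectProduct.ext hg.symm rfl⟩
  have hM : IsCoatom M := by
    refine ⟨fun h => ?_, fun L hL => ?_⟩
    · obtain ⟨x, hx⟩ := exists_ne (1 : Multiplicative F)
      exact hx ((hMmem (iL x)).1 (h ▸ Subgroup.mem_top _))
    · let V : AddSubgroup F :=
        { carrier := {x | iL (Multiplicative.ofAdd x) ∈ L}
          zero_mem' := by simp
          add_mem' := fun {x y} hx hy => by
            simp only [Set.mem_setOf_eq, ofAdd_add, map_mul] at *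
            exact L.mul_mem hx hy
          neg_mem' := fun {x} hx => by
            simp only [Set.mem_setOf_eq, ofAdd_neg, map_inv] at *
            exact L.inv_mem hx }
      have hVinv : ∀ u ∈ U, ∀ x ∈ V, (u : F) * x ∈ V := by
        intro u hu x hx
        show iL (unitsAut U ⟨u, hu⟩ (Multiplicative.ofAdd x)) ∈ L
        rw [show iL (unitsAut U ⟨u, hu⟩ (Multiplicative.ofAdd x)) =
          iR ⟨u, hu⟩ * iL (Multiplicative.ofAdd x) * (iR ⟨u, hu⟩)⁻¹ from by
            rw [← map_inv]; exact SemidirectProduct.inl_aut _ _]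
        exact L.mul_mem (L.mul_mem (hL.le ⟨_, rfl⟩) hx) (L.inv_mem (hL.le ⟨_, rfl⟩))
      obtain ⟨g, hgL, hgM⟩ := SetLike.exists_of_lt hL
      have hdec : g = iL g.left * iR g.right := (SemidirectProduct.inl_left_mul_inr_right g).symm
      have hleft : iL g.left ∈ L := by
        have h2 := L.mul_mem hgL (L.inv_mem (hL.le ⟨g.right, rfl⟩))
        rwa [show g * (iR g.right)⁻¹ = iL g.left from mul_inv_eq_iff_eq_mul.2 hdec] at h2
      rcases hU.1 V hVinv with h | h
      · exfalso
        apply hgM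
        rw [hMmem]
        have h3 : Multiplicative.toAdd g.left ∈ V := hleft
        rw [h, AddSubgroup.mem_bot] at h3
        exact h3
      · refine eq_top_iff.2 fun x _ => ?_
        rw [show x = iL x.left * iR x.right from (SemidirectProduct.inl_left_mul_inr_right x).symm]
        have h4 : Multiplicative.toAdd x.left ∈ V := h ▸ AddSubgroup.mem_top _
        exact L.mul_mem h4 (hL.le ⟨_, rfl⟩)
  have hidx : M.index = Nat.card F := by
    have hcM : Nat.card M = Nat.card U :=
      Nat.card_congr (MonoidHom.ofInjective SemidirectProduct.inr_injective).toEquiv.symm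
    have hcG : Nat.card G = Nat.card F * Nat.card U := by
      rw [show Nat.card G = Nat.card (Multiplicative F) * Nat.card U from SemidirectProduct.card]
      rfl
    have h := M.card_mul_index
    rw [hcM, hcG, mul_comm (Nat.card F)] at h
    exact Nat.eq_of_mul_eq_mul_left Nat.card_pos h
  let H : Subgroup G := H₀.map iR
  let K : Subgroup G := H₀.comap πR
  let L : Subgroup G :=
    { carrier := {g | Multiplicative.toAdd g.left ∈ W ∧ g.right ∈ H₀}
      one_mem' := ⟨W.zero_mem, H₀.one_mem⟩
      mul_mem' := fun {g h} hg hh => by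
        refine ⟨?_, H₀.mul_mem hg.2 hh.2⟩
        show Multiplicative.toAdd g.left + ((g.right : Fˣ) : F) * Multiplicative.toAdd h.left ∈ W
        exact W.add_mem hg.1 (hW _ ⟨g.right, hg.2, rfl⟩ _ hh.1)
      inv_mem' := fun {g} hg => by
        refine ⟨?_, H₀.inv_mem hg.2⟩
        show (((g.right⁻¹ : U) : Fˣ) : F) * -Multiplicative.toAdd g.left ∈ W
        exact hW _ ⟨g.right⁻¹, H₀.inv_mem hg.2, rfl⟩ _ (W.neg_mem hg.1) }
  have hHK : H ≤ K := by rintro _ ⟨u, hu, rfl⟩; exact hu
  refine ⟨G, inferInstance, inferInstance, M, H, K, hM, hidx, Subgroup.map_le_range _ _, ?_, ?_, hHK, ?_⟩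
  · refine Cfsg.Agent.Lib.MaxOfMax.isCoatom_subgroupOf_of_forall (Subgroup.map_le_range _ _)
      (fun h => hH₀.1 (eq_top_iff.2 fun u _ => ?_)) fun L' hHL hLM => ?_
    · obtain ⟨v, hv, hvu⟩ := h ⟨u, rfl⟩
      rwa [← SemidirectProduct.inr_injective hvu]
    · have hL' : (L'.comap iR).map iR = L' := Subgroup.map_comap_eq_self hLM
      rcases hH₀.le_iff.1 (show H₀ ≤ L'.comap iR from fun u hu => hHL ⟨u, hu, rfl⟩) with h | h
      · refine Or.inr ?_
        rw [← hL', h, ← MonoidHom.range_eq_map]
      · exact Or.inl (by rw [← hL', h])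
  · refine ⟨fun h => hH₀.1 ?_, fun L' hL' => ?_⟩
    · exact Subgroup.comap_injective hsurj (h.trans (Subgroup.comap_top πR).symm)
    · have hker : πR.ker ≤ L' := ((πR.ker_le_comap H₀).trans hL'.le)
      have hcm : (L'.map πR).comap πR = L' := by
        rw [Subgroup.comap_map_eq, sup_eq_left.2 hker]
      have hle : H₀ ≤ L'.map πR := by
        rw [← Subgroup.map_comap_eq_self_of_surjective hsurj H₀]
        exact Subgroup.map_mono hL'.le
      rcases hH₀.le_iff.1 hle with h | h
      · rw [← hcm, h, Subgroup.comap_top]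
      · exfalso; apply hL'.ne; rw [← hcm, h]
  · intro h
    obtain ⟨w, hw, hw0⟩ := W.ne_bot_iff_exists_ne_zero.1 hWbot |> fun ⟨z, hz⟩ =>
        (⟨z.1, z.2, fun hc => hz (Subtype.ext hc)⟩ : ∃ x, x ∈ W ∧ x ≠ 0)
    rcases Cfsg.Agent.Lib.MaxOfMax.eq_or_eq_of_isCoatom_subgroupOf h
      (L := L) (by rintro _ ⟨u, hu, rfl⟩; exact ⟨W.zero_mem, hu⟩) (fun g hg => hg.2) with h1 | h1
    · have hwH : iL (Multiplicative.ofAdd w) ∈ H := h1 ▸ ⟨hw, H₀.one_mem⟩
      obtain ⟨u, -, hu⟩ := hwH
      exact hw0 (congrArg (fun g : G => Multiplicative.toAdd g.left) hu).symm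
    · apply hWtop
      refine eq_top_iff.2 fun x _ => ?_
      have hxK : iL (Multiplicative.ofAdd x) ∈ L := h1.symm ▸ (H₀.one_mem : (1 : U) ∈ H₀)
      exact hxK.1

/-- For every prime p and every d ≥ 2 there is a finite group G with a maximal subgroup M of index p^d and a maximal subgroup H of M that is not second maximal in G: some maximal subgroup K of G contains H without H being maximal in K. (One may take G the affine group V ⋊ GL(V) of V = 𝔽_p^d, M = GL(V), H the stabiliser in M of a line W of V, and K = V ⋊ H, with H < W ⋊ H < K.) So the prime-index hypothesis in the second-maximality criterion cannot be relaxed to prime-power index. -/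
theorem result (p d : ℕ) (hp : p.Prime)
    (hd : 2 ≤ d) :
    ∃ (G : Type) (_ : Group G) (_ : Finite G) (M H K : Subgroup G), IsCoatom M ∧ M.index = p ^ d ∧ H ≤ M ∧
      IsCoatom (H.subgroupOf M) ∧ IsCoatom K ∧ H ≤ K ∧ ¬ IsCoatom (H.subgroupOf K) := by
  have : Fact p.Prime := ⟨hp⟩
  have hd0 : d ≠ 0 := by omega
  have hF : Nat.card (GaloisField p d) = p ^ d := GaloisField.card p d hd0
  let W₀ : AddSubgroup (GaloisField p d) := AddSubgroup.zmultiples 1
  have hcard : Nat.card W₀ = p := by
    rw [Nat.card_zmultiples, addOrderOf_eq_prime (by simp : p • (1 : GaloisField p d) = 0) one_ne_zero]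
  refine hF ▸ main (GaloisField p d) W₀ (fun h => ?_) (fun h => ?_)
  · rw [h, AddSubgroup.card_bot] at hcard
    exact hp.ne_one hcard.symm
  · rw [h, AddSubgroup.card_top, hF] at hcard
    have := hp.two_le
    nlinarith [Nat.pow_le_pow_right (show 0 < p by omega) hd]

end Cfsg.Agent.S5895
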