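import Cfsg.Statements.S5896


set_option autoImplicit false
open Cfsg

namespace Cfsg.Agent.S5896

open Matrix

section

variable {R : Type} [CommRing R]

local notation "SL₂" => Matrix.SpecialLinearGroup (Fin 2) R

/-- Upper unitriangular matrix. -/
def up (x : R) : SL₂ := ⟨!![1, x; 0, 1], by simp [Matrix.det_fin_two]⟩

/-- Lower unitriangular matrix. -/
def lo (x : R) : SL₂ := ⟨!![1, 0; x, 1], by simp [Matrix.det_fin_two]⟩

/-- Diagonal matrix. -/
def dg (t : Rˣ) : SL₂ := ⟨!![(t : R), 0; 0, (t⁻¹ : Rˣ)], by simp [Matrix.det_fin_two]⟩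

theorem up_val (x : R) : (up x).1 = !![1, x; 0, 1] := rfl

theorem lo_val (x : R) : (lo x).1 = !![1, 0; x, 1] := rfl

theorem dg_val (t : Rˣ) : (dg t).1 = !![(t : R), 0; 0, (t⁻¹ : Rˣ)] := rfl

theorem sl_ext {A B : SL₂} (h00 : A.1 0 0 = B.1 0 0) (h01 : A.1 0 1 = B.1 0 1)
    (h10 : A.1 1 0 = B.1 1 0) (h11 : A.1 1 1 = B.1 1 1) : A = B := by
  refine Subtype.ext (Matrix.ext fun i j => ?_)
  fin_cases i <;> fin_cases j <;> assumption

theorem up_add (x y : R) : up (x + y) = up x * up y := by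
  apply sl_ext <;> simp [up_val, Matrix.SpecialLinearGroup.coe_mul, Matrix.mul_apply, Fin.sum_univ_two, add_comm]

theorem lo_add (x y : R) : lo (x + y) = lo x * lo y := by
  apply sl_ext <;> simp [lo_val, Matrix.SpecialLinearGroup.coe_mul, Matrix.mul_apply, Fin.sum_univ_two, add_comm]

theorem up_zero : up (0 : R) = 1 := by
  apply sl_ext <;> simp [up_val]

theorem lo_zero : lo (0 : R) = 1 := by
  apply sl_ext <;> simp [lo_val]

theorem up_inv (x : R) : (up x)⁻¹ = up (-x) := by
  rw [inv_eq_iff_mul_eq_one, ← up_add, add_neg_cancel, up_zero]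

theorem lo_inv (x : R) : (lo x)⁻¹ = lo (-x) := by
  rw [inv_eq_iff_mul_eq_one, ← lo_add, add_neg_cancel, lo_zero]

theorem conj_up (t : Rˣ) (x : R) :
    dg t * up x * (dg t)⁻¹ * (up x)⁻¹ = up (((t : R) * t - 1) * x) := by
  have h : dg t * up x = up ((t : R) * t * x) * dg t := by
    apply sl_ext <;> simp [up_val, dg_val, Matrix.SpecialLinearGroup.coe_mul, Matrix.mul_apply, Fin.sum_univ_two]
    calc (t : R) * x = (t : R) * x * ((t : R) * (t⁻¹ : Rˣ)) := by simp
      _ = (t : R) * t * x * (t⁻¹ : Rˣ) := by ring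
  rw [h, mul_inv_cancel_right, up_inv, ← up_add]
  congr 1; ring

theorem conj_lo (t : Rˣ) (x : R) :
    dg t * lo x * (dg t)⁻¹ * (lo x)⁻¹ = lo ((((t⁻¹ : Rˣ) : R) * (t⁻¹ : Rˣ) - 1) * x) := by
  have h : dg t * lo x = lo (((t⁻¹ : Rˣ) : R) * (t⁻¹ : Rˣ) * x) * dg t := by
    apply sl_ext <;> simp [lo_val, dg_val, Matrix.SpecialLinearGroup.coe_mul, Matrix.mul_apply, Fin.sum_univ_two]
    calc ((t⁻¹ : Rˣ) : R) * x = ((t⁻¹ : Rˣ) : R) * x * ((t : R) * (t⁻¹ : Rˣ)) := by simp
      _ = ((t⁻¹ : Rˣ) : R) * (t⁻¹ : Rˣ) * x * t := by ring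
  rw [h, mul_inv_cancel_right, lo_inv, ← lo_add]
  congr 1; ring

/-- `dg t` as a product of four unitriangular matrices, for `t = 1 + x y`. -/
theorem dg_eq (t : Rˣ) (x y : R) (h : (t : R) = 1 + x * y) :
    dg t = lo (-(y * (t⁻¹ : Rˣ))) * (up x * lo y) * up (-(x * (t⁻¹ : Rˣ))) := by
  have ht : (t : R) * (t⁻¹ : Rˣ) = 1 := t.mul_inv
  rw [h] at ht
  apply sl_ext <;> simp [up_val, lo_val, dg_val, Matrix.SpecialLinearGroup.coe_mul, Matrix.mul_apply, Fin.sum_univ_two, h]
  all_goals (ring_nf; ring_nf at ht)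
  all_goals grind

theorem decomp (A : SL₂) (c : Rˣ) (h : A.1 1 0 = c) :
    A = up ((A.1 0 0 - 1) * (c⁻¹ : Rˣ)) * lo (A.1 1 0) * up ((A.1 1 1 - 1) * (c⁻¹ : Rˣ)) := by
  have hc : (c : R) * (c⁻¹ : Rˣ) = 1 := c.mul_inv
  have hdet := A.2
  rw [Matrix.det_fin_two] at hdet
  rw [h] at hdet
  apply sl_ext <;> simp [up_val, lo_val, Matrix.SpecialLinearGroup.coe_mul, Matrix.mul_apply, Fin.sum_univ_two, h]
  all_goals grind

end

variable (k : ℕ)

local notation "Z" => ZMod (5 ^ (k + 1))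

/-- Reduction modulo five. -/
def red : Z →+* ZMod 5 := ZMod.castHom (dvd_pow_self 5 (Nat.succ_ne_zero k)) (ZMod 5)

theorem isUnit_of_red {x : Z} (h : red k x ≠ 0) : IsUnit x := by
  obtain ⟨n, rfl⟩ := ZMod.natCast_zmod_surjective x
  rw [map_natCast, Ne, ZMod.natCast_eq_zero_iff] at h
  rw [ZMod.isUnit_iff_coprime]
  exact Nat.Coprime.pow_right _ ((Nat.Prime.coprime_iff_not_dvd (by norm_num)).2 h).symm

theorem red_five : red k 5 = 0 := by
  have : ((5 : ℕ) : Z) = 5 := by norm_num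
  rw [← this, map_natCast, ZMod.natCast_self]

theorem exists_mul_five {x : Z} (h : red k x = 0) : ∃ y, x = 5 * y := by
  obtain ⟨n, rfl⟩ := ZMod.natCast_zmod_surjective x
  rw [map_natCast, ZMod.natCast_eq_zero_iff] at h
  obtain ⟨m, rfl⟩ := h
  exact ⟨m, by push_cast; ring⟩

abbrev SLZ := Matrix.SpecialLinearGroup (Fin 2) (ZMod (5 ^ (k + 1)))

theorem mem_of_gens (S : Subgroup (SLZ k)) (hu : ∀ x, up x ∈ S) (hl : ∀ x, lo x ∈ S) : S = ⊤ := by
  refine eq_top_iff.2 fun A _ => ?_
  by_cases hc : red k (A.1 1 0) = 0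
  · have ha : red k (A.1 0 0) ≠ 0 := by
      intro ha
      have := congrArg (red k) A.2
      rw [Matrix.det_fin_two, map_sub, map_mul, map_mul, ha, hc, map_one] at this
      rw [zero_mul, mul_zero, sub_zero] at this
      exact absurd this (by decide)
    have hc' : red k ((lo 1 * A).1 1 0) ≠ 0 := by
      simpa [lo_val, Matrix.SpecialLinearGroup.coe_mul, Matrix.mul_apply, Fin.sum_univ_two, hc] using ha
    obtain ⟨c, hc''⟩ := isUnit_of_red k hc'
    have hmem : lo 1 * A ∈ S := by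
      rw [decomp (lo 1 * A) c hc''.symm]
      exact S.mul_mem (S.mul_mem (hu _) (hl _)) (hu _)
    have := S.mul_mem (S.inv_mem (hl 1)) hmem
    rwa [inv_mul_cancel_left] at this
  · obtain ⟨c, hc'⟩ := isUnit_of_red k hc
    rw [decomp A c hc'.symm]
    exact S.mul_mem (S.mul_mem (hu _) (hl _)) (hu _)

theorem perfect : commutator (SLZ k) = ⊤ := by
  obtain ⟨two, h2⟩ : IsUnit (2 : Z) := isUnit_of_red k (by rw [map_ofNat]; decide)
  obtain ⟨three, h3⟩ : IsUnit (((two : Z) * two) - 1) :=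
    isUnit_of_red k (by rw [h2, map_sub, map_mul, map_ofNat, map_one]; decide)
  obtain ⟨three', h3'⟩ : IsUnit ((((two⁻¹ : Zˣ) : Z) * (two⁻¹ : Zˣ)) - 1) := by
    refine (Units.isUnit_mul_units _ (two * two)).1 ?_
    have : ((((two⁻¹ : Zˣ) : Z) * (two⁻¹ : Zˣ)) - 1) * ((two * two : Zˣ) : Z) = 1 - (two : Z) * two := by
      have := two.inv_mul
      push_cast
      grind
    rw [this]
    exact isUnit_of_red k (by rw [h2, map_sub, map_mul, map_ofNat, map_one]; decide)
  refine mem_of_gens k _ (fun x => ?_) (fun x => ?_)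
  · rw [show x = ((two : Z) * two - 1) * ((three⁻¹ : Zˣ) * x) by rw [← h3, Units.mul_inv_cancel_left],
      ← conj_up]
    exact Subgroup.commutator_mem_commutator (Subgroup.mem_top _) (Subgroup.mem_top _)
  · rw [show x = (((two⁻¹ : Zˣ) : Z) * (two⁻¹ : Zˣ) - 1) * ((three'⁻¹ : Zˣ) * x) by
        rw [← h3', Units.mul_inv_cancel_left], ← conj_lo]
    exact Subgroup.commutator_mem_commutator (Subgroup.mem_top _) (Subgroup.mem_top _)

/-- Triangular modulo five. -/
def borel : Subgroup (SLZ k) where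
  carrier := {A | red k (A.1 1 0) = 0}
  one_mem' := by simp
  mul_mem' {A B} hA hB := by
    simp only [Set.mem_setOf_eq] at *
    simp [Matrix.SpecialLinearGroup.coe_mul, Matrix.mul_apply, Fin.sum_univ_two, hA, hB, map_add, map_mul]
  inv_mem' {A} hA := by
    simp only [Set.mem_setOf_eq] at *
    simp [Matrix.SpecialLinearGroup.coe_inv, Matrix.adjugate_fin_two, hA]

theorem mem_borel {A : SLZ k} : A ∈ borel k ↔ red k (A.1 1 0) = 0 := Iff.rfl

theorem borel_isCoatom : IsCoatom (borel k) := by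
  refine ⟨fun h => ?_, fun L hL => ?_⟩
  · have : (lo 1 : SLZ k) ∈ borel k := h ▸ Subgroup.mem_top _
    rw [mem_borel] at this
    simp [lo_val] at this
    exact absurd this (by decide)
  · have hu : ∀ x, up x ∈ L := fun x => hL.le (by rw [mem_borel]; simp [up_val])
    obtain ⟨A, hA, hAB⟩ := SetLike.exists_of_lt hL
    obtain ⟨c, hc⟩ := isUnit_of_red k (x := A.1 1 0) hAB
    have hlc : lo (A.1 1 0) ∈ L := by
      have h1 := L.mul_mem (L.mul_mem (L.inv_mem (hu ((A.1 0 0 - 1) * (c⁻¹ : Zˣ)))) hA)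
        (L.inv_mem (hu ((A.1 1 1 - 1) * (c⁻¹ : Zˣ))))
      conv at h1 => arg 2; arg 1; arg 2; rw [decomp A c hc.symm]
      simpa [mul_assoc] using h1
    refine mem_of_gens k L hu fun x => ?_
    obtain ⟨n, hn⟩ := ZMod.natCast_zmod_surjective ((c⁻¹ : Zˣ) * x : Z)
    have hpow : ∀ n : ℕ, lo ((n : Z) * (c : Z)) ∈ L := by
      intro n
      induction n with
      | zero => simpa [lo_zero] using L.one_mem
      | succ n ih => rw [Nat.cast_succ, add_one_mul, lo_add]; exact L.mul_mem ih (hc ▸ hlc)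
    have := hpow n
    rwa [hn, mul_right_comm, Units.inv_mul, one_mul] at this

theorem pow_five_near_one {R : Type} [Ring R] (X : R) (e : ℕ) (he : 1 ≤ e) :
    ∃ Y : R, (1 + (5 : R) ^ e * X) ^ 5 = 1 + (5 : R) ^ (e + 1) * Y := by
  obtain ⟨f, rfl⟩ := Nat.exists_eq_add_of_le he
  have hc : ∀ z : R, Commute ((5 : R) ^ (1 + f)) z := fun z =>
    ((Nat.cast_commute 5 z).pow_left (1 + f))
  set P : R := (5 : R) ^ (1 + f)
  refine ⟨X + 2 * P * (X * X) + 2 * P ^ 2 * (X ^ 3) + P ^ 3 * X ^ 4 + (5 : R) ^ f * P ^ 3 * X ^ 5, ?_⟩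
  have h5 : (5 : R) ^ (1 + f + 1) = 5 * P := by rw [pow_succ']
  have hP : P = 5 * (5 : R) ^ f := by show (5 : R) ^ (1 + f) = _; rw [pow_add, pow_one]
  rw [h5, show (1 + P * X) = (P * X + 1) from add_comm _ _, (Commute.one_right (P * X)).add_pow]
  simp only [Finset.sum_range_succ, Finset.sum_range_zero, (hc X).mul_pow, one_pow, mul_one]
  norm_num [Nat.choose]
  rw [hP]
  simp only [mul_add, ← mul_assoc]
  noncomm_ring

theorem borel_solvable : Group.IsSolvable (borel k) := by
  let χ : borel k →* (ZMod 5) :=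
    { toFun := fun A => red k (A.1.1 0 0)
      map_one' := by simp
      map_mul' := fun A B => by
        have hB : red k (B.1.1 1 0) = 0 := B.2
        simp [Matrix.SpecialLinearGroup.coe_mul, Matrix.mul_apply, Fin.sum_univ_two, hB, map_add, map_mul] }
  have hker : IsPGroup 5 χ.toHomUnits.ker := by
    rintro ⟨A, hA⟩
    refine ⟨k + 1, Subtype.ext (Subtype.ext (Subtype.ext ?_))⟩
    simp only [SubgroupClass.coe_pow, Matrix.SpecialLinearGroup.coe_pow, OneMemClass.coe_one,
      Matrix.SpecialLinearGroup.coe_one]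
    set M : Matrix (Fin 2) (Fin 2) Z := A.1.1
    have h00 : red k (M 0 0) = 1 := congrArg Units.val (MonoidHom.mem_ker.1 hA)
    have h10 : red k (M 1 0) = 0 := A.2
    have h11 : red k (M 1 1) = 1 := by
      have h := congrArg (red k) A.1.2
      rw [Matrix.det_fin_two, map_sub, map_mul, map_mul] at h
      simpa [M, h00, h10] using h
    have hM5 : ∀ i j, red k ((M ^ 5) i j) = (1 : Matrix (Fin 2) (Fin 2) (ZMod 5)) i j := by
      intro i j
      have hmap : (red k).mapMatrix (M ^ 5) = 1 := by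
        rw [map_pow]
        have hMm : (red k).mapMatrix M = !![1, red k (M 0 1); 0, 1] := by
          ext i j
          fin_cases i <;> fin_cases j <;> simp [h00, h10, h11]
        rw [hMm]
        generalize red k (M 0 1) = b
        revert b
        decide
      exact congrFun (congrFun hmap i) j
    have hY : ∀ i j, ∃ y, (M ^ 5) i j - (1 : Matrix (Fin 2) (Fin 2) Z) i j = 5 * y := fun i j =>
      exists_mul_five k (by
        rw [map_sub, hM5]
        fin_cases i <;> fin_cases j <;> simp)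
    choose Y hY using hY
    have hbase : M ^ 5 = 1 + (5 : Matrix (Fin 2) (Fin 2) Z) ^ 1 * Matrix.of Y := by
      ext i j
      rw [pow_one, Matrix.add_apply,
        show (5 : Matrix (Fin 2) (Fin 2) Z) = Matrix.scalar (Fin 2) (5 : Z) from (map_ofNat _ 5).symm]
      simp [← hY]
    have hstep : ∀ j, ∃ X : Matrix (Fin 2) (Fin 2) Z,
        M ^ (5 ^ (j + 1)) = 1 + (5 : Matrix (Fin 2) (Fin 2) Z) ^ (j + 1) * X := by
      intro j
      induction j with
      | zero => exact ⟨Matrix.of Y, by simpa using hbase⟩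
      | succ j ih =>
        obtain ⟨X, hX⟩ := ih
        obtain ⟨X', hX'⟩ := pow_five_near_one X (j + 1) (by omega)
        exact ⟨X', by rw [pow_succ 5 (j + 1), pow_mul, hX, hX']⟩
    obtain ⟨X, hX⟩ := hstep k
    have hz : (5 : Matrix (Fin 2) (Fin 2) Z) ^ (k + 1) = 0 := by
      rw [show (5 : Matrix (Fin 2) (Fin 2) Z) = Matrix.scalar (Fin 2) (((5 : ℕ) : Z)) by
        rw [Nat.cast_ofNat, map_ofNat], ← map_pow, ← Nat.cast_pow, ZMod.natCast_self, map_zero]
    rwa [hz, zero_mul, add_zero] at hX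
  have : Fact (Nat.Prime 5) := ⟨by norm_num⟩
  have : Group.IsNilpotent χ.toHomUnits.ker := hker.isNilpotent
  exact solvable_of_ker_le_range χ.toHomUnits.ker.subtype χ.toHomUnits (by simp)

theorem derived_contains (j : ℕ) : ∀ (A : borel k) (x : Z),
    (A.1 = up (5 ^ (3 ^ j) * x) ∨ A.1 = lo (5 ^ (3 ^ j) * x)) → A ∈ derivedSeries (borel k) j := by
  induction j with
  | zero => intro A x _; exact Subgroup.mem_top _
  | succ j ih =>
    intro A x hA
    have h5 : ∀ (e : ℕ) (y : Z), 1 ≤ e → red k (5 ^ e * y) = 0 := by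
      intro e y he
      rw [map_mul, map_pow, red_five, zero_pow (by omega), zero_mul]
    have he : 1 ≤ 3 ^ j := Nat.one_le_pow _ _ (by norm_num)
    set e := 3 ^ j
    set q : Z := 5 ^ e with hq
    have hlo : ∀ y, lo (q * y) ∈ borel k := fun y => by
      rw [mem_borel]; exact h5 e y he
    have hup : ∀ y, up (q * y) ∈ borel k := fun y => by rw [mem_borel]; simp [up_val]
    obtain ⟨t, ht⟩ : IsUnit (1 + q * q) := isUnit_of_red k (by
      rw [map_add, map_one, hq, map_mul, map_pow, red_five, zero_pow (by omega)]; simp only [mul_zero, add_zero]; decide)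
    obtain ⟨w, hw⟩ : IsUnit (2 + q * q) := isUnit_of_red k (by
      rw [map_add, map_ofNat, hq, map_mul, map_pow, red_five, zero_pow (by omega)]; decide)
    have hdg : dg t = lo (q * -((t⁻¹ : Zˣ) : Z)) * (up (q * 1) * lo (q * 1)) *
        up (q * -((t⁻¹ : Zˣ) : Z)) := by
      rw [dg_eq t q q ht]; simp
    let D : borel k := ⟨_, hlo (-((t⁻¹ : Zˣ) : Z))⟩ * (⟨_, hup 1⟩ * ⟨_, hlo 1⟩) *
      ⟨_, hup (-((t⁻¹ : Zˣ) : Z))⟩
    have hD : D ∈ derivedSeries (borel k) j :=
      mul_mem (mul_mem (ih _ _ (Or.inr rfl)) (mul_mem (ih _ _ (Or.inl rfl)) (ih _ _ (Or.inr rfl))))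
        (ih _ _ (Or.inl rfl))
    have hD' : D.1 = dg t := hdg.symm
    have hsq : (t : Z) * t - 1 = q * q * w := by rw [hw, ht]; ring
    have hsq' : ((t⁻¹ : Zˣ) : Z) * (t⁻¹ : Zˣ) - 1 = -(q * q * w) * ((t⁻¹ : Zˣ) * (t⁻¹ : Zˣ)) := by
      rw [← hsq]
      have := t.mul_inv
      grind
    have hq3 : (5 : Z) ^ (3 ^ (j + 1)) = q * q * q := by
      rw [hq, ← pow_add, ← pow_add]; congr 1; show _ = 3 ^ j + 3 ^ j + 3 ^ j; ring
    rw [derivedSeries_succ]
    rcases hA with hA | hA
    · have hmem := Subgroup.commutator_mem_commutator hD (ih ⟨_, hup ((w⁻¹ : Zˣ) * x)⟩ _ (Or.inl rfl))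
      convert hmem using 1
      refine Subtype.ext ?_
      rw [hA, commutatorElement_def]
      push_cast
      rw [hD', conj_up, hsq, hq3]
      congr 1
      have := w.mul_inv
      grind
    · have hmem := Subgroup.commutator_mem_commutator hD
        (ih ⟨_, hlo (-((w⁻¹ : Zˣ) * (t : Z) * t * x))⟩ _ (Or.inr rfl))
      convert hmem using 1
      refine Subtype.ext ?_
      rw [hA, commutatorElement_def]
      push_cast
      rw [hD', conj_lo, hsq', hq3]
      congr 1
      have := w.mul_inv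
      have := t.mul_inv
      grind

/-- Finite perfect groups have solvable maximal subgroups of unbounded derived length: for every d there is a finite perfect group G (equal to its commutator subgroup) with a solvable maximal subgroup H whose derived length exceeds d, i.e. the d-th term of the derived series of H is non-trivial. (Take the derived subgroup of a wreath product S ≀ A₅ with S solvable of large derived length, and H the preimage of a maximal subgroup of A₅.) -/
theorem result (d : ℕ) :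
    ∃ (G : Type) (_ : Group G) (_ : Finite G) (H : Subgroup G), commutator G = ⊤ ∧ IsCoatom H ∧ Group.IsSolvable H ∧
      derivedSeries H d ≠ ⊥ := by
  refine ⟨SLZ (3 ^ d), inferInstance, inferInstance, borel (3 ^ d), perfect _, borel_isCoatom _,
    borel_solvable _, fun h => ?_⟩
  have hmem : (up ((5 : ZMod (5 ^ (3 ^ d + 1))) ^ (3 ^ d) * 1) : SLZ (3 ^ d)) ∈ borel (3 ^ d) := by
    rw [mem_borel]; simp [up_val]
  have h1 := derived_contains (3 ^ d) d ⟨_, hmem⟩ 1 (Or.inl rfl)
  rw [h, Subgroup.mem_bot] at h1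
  have h2 : ((5 ^ (3 ^ d) : ℕ) : ZMod (5 ^ (3 ^ d + 1))) = 0 := by
    have := congrArg (fun A : borel (3 ^ d) => A.1.1 0 1) h1
    simpa [up_val] using this
  rw [ZMod.natCast_eq_zero_iff, Nat.pow_dvd_pow_iff_le_right (by norm_num)] at h2
  omega

end Cfsg.Agent.S5896
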