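import Cfsg.Statements.S5902
import Cfsg.Agent.Lib.MaxOfMax.Complemented


set_option autoImplicit false
open Cfsg

namespace Cfsg.Agent.S5902

/-- Let G be a finite group, X a subgroup whose own subgroup lattice is complemented, and suppose X lies in exactly one maximal subgroup M of G. Then every subgroup H of G not contained in the normal core of M has a complement in the subgroup lattice of G (some C with H ⊔ C = G and H ⊓ C = 1); in particular the subgroup lattice of G modulo the normal core of M is complemented. -/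
theorem result {G : Type*} [Group G] [Finite G] (X M : Subgroup G)
    (hK : ComplementedLattice (Subgroup X))
    (hM : IsCoatom M) (hXM : X ≤ M) (huniq : ∀ M' : Subgroup G, IsCoatom M' → X ≤ M' → M' = M) :
    (∀ H : Subgroup G, ¬ H ≤ M.normalCore → ∃ C : Subgroup G, H ⊔ C = ⊤ ∧ H ⊓ C = ⊥) ∧
    ComplementedLattice (Subgroup (G ⧸ M.normalCore)) := by
  have key : ∀ H : Subgroup G, ¬ H ≤ M.normalCore → ∃ C : Subgroup G, H ⊔ C = ⊤ ∧ H ⊓ C = ⊥ := by
    intro H hH
    obtain ⟨g, hg⟩ := Cfsg.Agent.Lib.MaxOfMax.exists_conj_not_le hH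
    refine Cfsg.Agent.Lib.MaxOfMax.exists_compl_of_conj g ?_
    refine Cfsg.Agent.Lib.MaxOfMax.exists_compl_of_interval (T := ⊥) bot_le (fun Y _ hYX => ?_)
      huniq hg (inf_bot_eq _)
    obtain ⟨C', hC'⟩ := exists_isCompl (Y.subgroupOf X)
    have hY : (Y.subgroupOf X).map X.subtype = Y := by
      rw [Subgroup.subgroupOf_map_subtype, inf_eq_left.2 hYX]
    refine ⟨C'.map X.subtype, bot_le, Subgroup.map_subtype_le _, ?_, ?_⟩
    · conv_lhs => rw [← hY, ← Subgroup.map_sup]
      rw [hC'.sup_eq_top, ← MonoidHom.range_eq_map, Subgroup.range_subtype]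
    · conv_lhs => rw [← hY, ← Subgroup.map_inf _ _ X.subtype X.subtype_injective]
      rw [hC'.inf_eq_bot, Subgroup.map_bot]
  refine ⟨key, ⟨fun B => ?_⟩⟩
  set π := QuotientGroup.mk' M.normalCore
  have hπ : Function.Surjective π := QuotientGroup.mk'_surjective _
  by_cases hB : B.comap π ≤ M.normalCore
  · refine ⟨⊤, ?_⟩
    have hb : B = ⊥ := by
      rw [← Subgroup.map_comap_eq_self_of_surjective hπ B, eq_bot_iff, Subgroup.map_le_iff_le_comap,
        MonoidHom.comap_bot, QuotientGroup.ker_mk']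
      exact hB
    rw [hb]
    exact isCompl_bot_top
  · obtain ⟨C, h1, h2⟩ := key _ hB
    refine ⟨C.map π, isCompl_iff.2 ⟨disjoint_iff.2 ?_, codisjoint_iff.2 ?_⟩⟩
    · rw [eq_bot_iff]
      rintro x ⟨hx, c, hc, rfl⟩
      have hc' : c ∈ B.comap π ⊓ C := ⟨hx, hc⟩
      rw [h2, Subgroup.mem_bot] at hc'
      rw [hc', map_one]
      exact Subgroup.one_mem _
    · conv_lhs => rw [← Subgroup.map_comap_eq_self_of_surjective hπ B, ← Subgroup.map_sup]
      rw [h1, Subgroup.map_top_of_surjective _ hπ]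

end Cfsg.Agent.S5902
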