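import Cfsg.Statements.S5903
import Cfsg.Agent.Lib.MaxOfMax.Complemented


set_option autoImplicit false
open Cfsg

namespace Cfsg.Agent.S5903

/-- Let G be a finite simple group, X a subgroup lying in exactly one maximal subgroup M of G, and N a subgroup of prime order with N ≤ X that is central in M. If the subgroup lattice of X/N is complemented, then the subgroup lattice of G is complemented. -/
theorem result {G : Type*} [Group G] [Finite G] [IsSimpleGroup G] (X M N : Subgroup G)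
    (hM : IsCoatom M) (hXM : X ≤ M) (huniq : ∀ M' : Subgroup G, IsCoatom M' → X ≤ M' → M' = M)
    (hNX : N ≤ X) (hN : (Nat.card N).Prime) (hcen : ∀ n ∈ N, ∀ m ∈ M, m * n = n * m)
    [(N.subgroupOf X).Normal] (hK : ComplementedLattice (Subgroup (X ⧸ N.subgroupOf X))) :
    ComplementedLattice (Subgroup G) := by
  classical
  refine ⟨fun H => ?_⟩
  by_cases hH0 : H = ⊥
  · exact ⟨⊤, hH0 ▸ isCompl_bot_top⟩
  by_cases hH1 : H = ⊤
  · exact ⟨⊥, hH1 ▸ isCompl_top_bot⟩
  suffices hC : ∃ C : Subgroup G, H ⊔ C = ⊤ ∧ H ⊓ C = ⊥ by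
    obtain ⟨C, h1, h2⟩ := hC
    exact ⟨C, isCompl_iff.2 ⟨disjoint_iff.2 h2, codisjoint_iff.2 h1⟩⟩
  suffices hg : ∃ g : G, ¬ H.map (MulAut.conj g).toMonoidHom ≤ M ∧
      ¬ N ≤ H.map (MulAut.conj g).toMonoidHom by
    obtain ⟨g, hg1, hg2⟩ := hg
    refine Cfsg.Agent.Lib.MaxOfMax.exists_compl_of_conj g ?_
    refine Cfsg.Agent.Lib.MaxOfMax.exists_compl_of_interval hNX
      (fun Y hY hYX => Cfsg.Agent.Lib.MaxOfMax.interval_of_quotient hNX hK Y hY hYX) huniq hg1 ?_
    set H' := H.map (MulAut.conj g).toMonoidHom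
    have hdvd : Nat.card ↥(H' ⊓ N) ∣ Nat.card N := Subgroup.card_dvd_of_le inf_le_right
    rcases hN.eq_one_or_self_of_dvd _ hdvd with h | h
    · exact Subgroup.eq_bot_of_card_eq _ h
    · exact absurd ((Subgroup.eq_of_le_of_card_ge inf_le_right h.ge).symm.le.trans inf_le_left) hg2
  by_contra hcon
  push Not at hcon
  have hnorm : N ≤ (Subgroup.normalizer (H : Set G)).normalCore := by
    intro n hn g
    rw [Subgroup.mem_normalizer_iff]
    intro h
    -- the conjugate `g⁻¹ H g` is normalised by `n`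
    have key : ∀ x : G, x ∈ H.map (MulAut.conj g⁻¹).toMonoidHom →
        n * x * n⁻¹ ∈ H.map (MulAut.conj g⁻¹).toMonoidHom ∧
        n⁻¹ * x * n ∈ H.map (MulAut.conj g⁻¹).toMonoidHom := by
      intro x hx
      by_cases hle : H.map (MulAut.conj g⁻¹).toMonoidHom ≤ M
      · have h1 : x * n = n * x := hcen n hn x (hle hx)
        constructor
        · rwa [← h1, mul_inv_cancel_right]
        · rwa [mul_assoc, h1, inv_mul_cancel_left]
      · have h1 := hcon g⁻¹ hle hn
        exact ⟨mul_mem (mul_mem h1 hx) (inv_mem h1), mul_mem (mul_mem (inv_mem h1) hx) h1⟩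
    constructor
    · intro hh
      obtain ⟨y, hy, hyx⟩ := (key _ ⟨h, hh, rfl⟩).1
      simp only [MulEquiv.coe_toMonoidHom, MulAut.conj_apply, inv_inv] at hyx
      have e : g * n * g⁻¹ * h * (g * n * g⁻¹)⁻¹ = y := by
       calc g * n * g⁻¹ * h * (g * n * g⁻¹)⁻¹ = g * (n * (g⁻¹ * h * g) * n⁻¹) * g⁻¹ := by group
        _ = g * (g⁻¹ * y * g) * g⁻¹ := by rw [hyx]
        _ = y := by group
      rw [e]; exact hy
    · intro hh
      obtain ⟨y, hy, hyx⟩ := (key _ ⟨_, hh, rfl⟩).2
      simp only [MulEquiv.coe_toMonoidHom, MulAut.conj_apply, inv_inv] at hyx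
      have e : h = y := by
       calc h = g * (n⁻¹ * (g⁻¹ * (g * n * g⁻¹ * h * (g * n * g⁻¹)⁻¹) * g) * n) * g⁻¹ := by group
        _ = g * (g⁻¹ * y * g) * g⁻¹ := by rw [hyx]
        _ = y := by group
      rw [e]; exact hy
  rcases (Subgroup.normalCore_normal (Subgroup.normalizer (H : Set G))).eq_bot_or_eq_top with h | h
  · rw [h, le_bot_iff] at hnorm
    rw [hnorm, Subgroup.card_bot] at hN
    exact Nat.not_prime_one hN
  · have h' : Subgroup.normalizer (H : Set G) = ⊤ := top_le_iff.1 (h ▸ Subgroup.normalCore_le _)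
    rcases (Subgroup.normalizer_eq_top_iff.1 h').eq_bot_or_eq_top with h2 | h2
    · exact hH0 h2
    · exact hH1 h2

end Cfsg.Agent.S5903
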