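import Cfsg.Statements.S5904


set_option autoImplicit false
open scoped Pointwise
open Cfsg
open scoped Pointwise

namespace Cfsg.Agent.S5904

/-- Let Ω be a finite set with more than two elements and O ⊆ Ω a subset with exactly as many elements as its complement. Then the setwise stabilizer of O in the symmetric group on Ω is not a maximal subgroup (it is properly contained in the stabilizer of the partition {O, Ω ∖ O}, which is proper). -/
theorem result {Ω : Type*} [Fintype Ω] [DecidableEq Ω] (hΩ : 2 < Fintype.card Ω)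
    (O : Set Ω) (hO : Nat.card O = Nat.card ↥Oᶜ) :
    ¬ IsCoatom (MulAction.stabilizer (Equiv.Perm Ω) O) := by
  classical
  intro hco
  have hc : O.ncard = Oᶜ.ncard := by rw [← Nat.card_coe_set_eq, ← Nat.card_coe_set_eq]; exact hO
  have hsum := Set.ncard_add_ncard_compl O
  rw [Nat.card_eq_fintype_card] at hsum
  have h2 : 2 ≤ O.ncard := by omega
  -- an involution exchanging O and its complement
  let e : O ≃ (Oᶜ : Set Ω) := Classical.choice (Finite.card_eq.1 hO)
  let τ : Equiv.Perm Ω :=
    ((Equiv.Set.sumCompl O).symm.trans ((Equiv.sumCongr e e.symm).trans (Equiv.sumComm _ _))).trans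
      (Equiv.Set.sumCompl O)
  have hτ : ∀ x, τ x ∈ O ↔ x ∉ O := by
    intro x
    by_cases hx : x ∈ O
    · have : τ x = (e ⟨x, hx⟩ : Ω) := by simp [τ, Equiv.Set.sumCompl_symm_apply_of_mem hx]
      rw [this]
      exact iff_of_false (e ⟨x, hx⟩).2 (not_not.2 hx)
    · have : τ x = (e.symm ⟨x, hx⟩ : Ω) := by simp [τ, Equiv.Set.sumCompl_symm_apply_of_notMem hx]
      rw [this]
      exact iff_of_true (e.symm ⟨x, hx⟩).2 hx
  let W : Subgroup (Equiv.Perm Ω) :=
    { carrier := {g | (∀ x, g x ∈ O ↔ x ∈ O) ∨ (∀ x, g x ∈ O ↔ x ∉ O)}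
      one_mem' := Or.inl fun x => Iff.rfl
      mul_mem' := by
        rintro f g (hf | hf) (hg | hg)
        · exact Or.inl fun x => (hf _).trans (hg x)
        · exact Or.inr fun x => (hf _).trans (hg x)
        · exact Or.inr fun x => (hf _).trans (not_congr (hg x))
        · exact Or.inl fun x => (hf _).trans ((not_congr (hg x)).trans not_not)
      inv_mem' := by
        rintro f (hf | hf)
        · exact Or.inl fun x => by simpa using (hf (f⁻¹ x)).symm
        · refine Or.inr fun x => ?_
          have := hf (f⁻¹ x)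
          rw [show f (f⁻¹ x) = x by simp] at this
          tauto }
  have hlt : MulAction.stabilizer (Equiv.Perm Ω) O < W := by
    refine lt_of_le_of_ne (fun g hg => Or.inl fun x => MulAction.mem_stabilizer_set.1 hg x) ?_
    intro h
    have hτW : τ ∈ W := Or.inr hτ
    rw [← h, MulAction.mem_stabilizer_set] at hτW
    obtain ⟨x, hx⟩ : O.Nonempty := Set.nonempty_of_ncard_ne_zero (by omega)
    exact ((hτ x).1 ((hτW x).2 hx)) hx
  have hW := hco.2 W hlt
  obtain ⟨a, ha, b, hb, hab⟩ := (Set.one_lt_ncard).1 (show 1 < O.ncard by omega)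
  obtain ⟨c, hc'⟩ : Oᶜ.Nonempty := Set.nonempty_of_ncard_ne_zero (by omega)
  rcases (hW ▸ Subgroup.mem_top _ : Equiv.swap a c ∈ W) with h | h
  · have := (h a).2 ha
    rw [Equiv.swap_apply_left] at this
    exact hc' this
  · have := (h b).1 (by rw [Equiv.swap_apply_of_ne_of_ne hab.symm (ne_of_mem_of_not_mem hb hc')]; exact hb)
    exact this hb

end Cfsg.Agent.S5904
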