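import Cfsg.Statements.S5905
import Cfsg.Agent.Lib.Imprimitive

set_option autoImplicit false
open Cfsg

namespace Cfsg.Agent.S5905

/-- Let Ω be a finite set and f : Ω → Fin b a map onto b ≥ 2 labels whose fibres all have the same size a ≥ 2 (a partition of Ω into b blocks of size a, so |Ω| = ab). Then the stabilizer of this partition in the symmetric group on Ω — the permutations g such that x and y lie in the same block exactly when g x and g y do, a group isomorphic to the imprimitive wreath product S_a ≀ S_b — is a maximal subgroup of the symmetric group. -/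
theorem result {Ω : Type*} [Fintype Ω] [DecidableEq Ω] (a b : ℕ) (ha : 2 ≤ a) (hb : 2 ≤ b)
    (f : Ω → Fin b) (hf : ∀ i : Fin b, Nat.card {x : Ω // f x = i} = a) :
    IsCoatom (Subgroup.closure {g : Equiv.Perm Ω | ∀ x y : Ω, f x = f y ↔ f (g x) = f (g y)}) := by
  classical
  rw [Cfsg.Agent.Lib.Imprimitive.closure_eq_fibreStabilizer]
  obtain ⟨e, he⟩ := Cfsg.Agent.Lib.Imprimitive.exists_equiv_prod f hf
  let x : Ω := e.symm (⟨0, by omega⟩, ⟨0, by omega⟩)
  let y : Ω := e.symm (⟨0, by omega⟩, ⟨1, by omega⟩)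
  let z : Ω := e.symm (⟨1, by omega⟩, ⟨0, by omega⟩)
  have hxy : x ≠ y := by simp [x, y]
  have hfxy : f x = f y := by rw [← he, ← he]; simp [x, y]
  have hfxz : f x ≠ f z := by rw [← he, ← he]; simp [x, z, Fin.ext_iff]
  have hzy : z ≠ y := fun h => hfxz (hfxy.trans (h ▸ rfl))
  have hne : Cfsg.Agent.Lib.Imprimitive.fibreStabilizer f ≠ ⊤ := by
    intro h
    have hm : Equiv.swap x z ∈ Cfsg.Agent.Lib.Imprimitive.fibreStabilizer f :=
      h ▸ Subgroup.mem_top _
    have h2 := (hm x y).1 hfxy
    rw [Equiv.swap_apply_left, Equiv.swap_apply_of_ne_of_ne hxy.symm hzy.symm, ← hfxy] at h2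
    exact hfxz h2.symm
  refine ⟨hne, fun H hH => ?_⟩
  obtain ⟨g, hg, hgP⟩ := SetLike.exists_of_lt hH
  by_cases hab : 3 ≤ a ∨ 3 ≤ b
  · exact Equiv.Perm.subgroup_eq_top_of_isPreprimitive_of_isSwap_mem
      (Cfsg.Agent.Lib.Imprimitive.isPreprimitive_of_le hf ha hb hab (inf_le_left.trans hH.le) hg hgP)
      (Equiv.swap x y) ⟨x, y, hxy, rfl⟩
      (hH.le (Cfsg.Agent.Lib.Imprimitive.swap_mem_fibreStabilizer f hfxy))
  · obtain ⟨rfl, rfl⟩ : a = 2 ∧ b = 2 := by omega
    have hc : Nat.card (Cfsg.Agent.Lib.Imprimitive.fibreStabilizer f) =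
        (Finset.univ.filter fun g : Equiv.Perm (Fin 2 × Fin 2) =>
          ∀ x y, x.1 = y.1 ↔ (g x).1 = (g y).1).card := by
      rw [← Fintype.card_subtype, ← Nat.card_eq_fintype_card]
      refine Nat.card_congr ((e.permCongr).subtypeEquiv fun g => ?_)
      rw [Cfsg.Agent.Lib.Imprimitive.mem_fibreStabilizer]
      constructor
      · intro h u v
        have := h (e.symm u) (e.symm v)
        simpa [← he, Equiv.permCongr_apply] using this
      · intro h u v
        have := h (e u) (e v)
        simpa [← he, Equiv.permCongr_apply] using this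
    rw [show (Finset.univ.filter fun g : Equiv.Perm (Fin 2 × Fin 2) =>
        ∀ x y, x.1 = y.1 ↔ (g x).1 = (g y).1).card = 8 by decide +kernel] at hc
    have hi := (Cfsg.Agent.Lib.Imprimitive.fibreStabilizer f).index_mul_card
    rw [hc, Nat.card_perm, Nat.card_congr e, show Nat.card (Fin 2 × Fin 2) = 4 by simp] at hi
    rw [show (4 : ℕ).factorial = 24 by decide] at hi
    have h3 : (Cfsg.Agent.Lib.Imprimitive.fibreStabilizer f).index = 3 := by omega
    have hd := Subgroup.index_dvd_of_le hH.le
    rw [h3, Nat.dvd_prime (by norm_num)] at hd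
    rcases hd with h | h
    · exact Subgroup.index_eq_one.1 h
    · exfalso
      refine hH.ne (Subgroup.eq_of_le_of_card_ge hH.le (le_of_eq ?_))
      have h1 := H.index_mul_card
      have h2 := (Cfsg.Agent.Lib.Imprimitive.fibreStabilizer f).index_mul_card
      rw [h] at h1; rw [h3] at h2
      omega

end Cfsg.Agent.S5905
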