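import Cfsg.Statements.S5909
import Cfsg.Agent.Lib.Imprimitive
-- import your own Cfsg.Agent.* helpers here

set_option autoImplicit false
open Cfsg

namespace Cfsg.Agent.S5909

/-- Let Ω be a finite set whose size is not 8, and f : Ω → Fin b a labelling with b ≥ 2 whose fibres all have the same size a ≥ 2 (a partition into b blocks of size a). Then the even permutations preserving the partition — the intersection of the imprimitive wreath product S_a ≀ S_b with the alternating group — form a maximal subgroup of the alternating group on Ω. -/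
theorem result {Ω : Type*} [Fintype Ω] [DecidableEq Ω] (h8 : Fintype.card Ω ≠ 8) (a b : ℕ) (ha : 2 ≤ a) (hb : 2 ≤ b)
    (f : Ω → Fin b) (hf : ∀ i : Fin b, Nat.card {x : Ω // f x = i} = a) :
    IsCoatom ((Subgroup.closure {g : Equiv.Perm Ω | ∀ x y : Ω, f x = f y ↔ f (g x) = f (g y)} ⊓ alternatingGroup Ω).subgroupOf (alternatingGroup Ω)) := by
  classical
  rw [Lib.Imprimitive.closure_eq_fibreStabilizer]
  obtain ⟨e, he⟩ := Lib.Imprimitive.exists_equiv_prod f hf
  constructor
  · intro htop
    let x : Ω := e.symm (⟨0, by omega⟩, ⟨0, by omega⟩)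
    let y : Ω := e.symm (⟨0, by omega⟩, ⟨1, by omega⟩)
    let z : Ω := e.symm (⟨1, by omega⟩, ⟨0, by omega⟩)
    have hxy : x ≠ y := by simp [x, y]
    have hxz : x ≠ z := by simp [x, z]
    have hyz : y ≠ z := by simp [y, z]
    have hc : Equiv.swap x y * Equiv.swap x z ∈ alternatingGroup Ω := by
      simp [Equiv.Perm.mem_alternatingGroup, Equiv.Perm.sign_swap hxy, Equiv.Perm.sign_swap hxz]
    have hmem : (⟨_, hc⟩ : alternatingGroup Ω) ∈
        (Lib.Imprimitive.fibreStabilizer f ⊓ alternatingGroup Ω).subgroupOf (alternatingGroup Ω) := by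
      rw [htop]; exact Subgroup.mem_top _
    have h1 := ((hmem : _ ∧ _).1 x y).mp (by rw [← he, ← he]; simp [x, y])
    have e1 : (Equiv.swap x y * Equiv.swap x z) x = z := by
      simp [Equiv.swap_apply_of_ne_of_ne hxz.symm hyz.symm]
    have e2 : (Equiv.swap x y * Equiv.swap x z) y = x := by
      simp [Equiv.swap_apply_of_ne_of_ne hxy.symm hyz]
    change f ((Equiv.swap x y * Equiv.swap x z) x) = f ((Equiv.swap x y * Equiv.swap x z) y) at h1
    rw [e1, e2, ← he, ← he] at h1
    simp [x, z] at h1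
  · intro L hL
    obtain ⟨g, hgL, hgK⟩ := SetLike.exists_of_lt hL
    have hA := Lib.Imprimitive.alternatingGroup_le_of_fibreStabilizer_le h8 ha hb hf
      (H := L.map (alternatingGroup Ω).subtype)
      (fun k hk => ⟨⟨k, hk.2⟩, hL.le hk, rfl⟩)
      (g := (g : Equiv.Perm Ω)) ⟨g, hgL, rfl⟩
      (fun h => hgK ⟨h, g.2⟩) (fun _ _ => g.2)
    rw [eq_top_iff]
    intro z _
    obtain ⟨w, hw, hwz⟩ := hA z.2
    exact Subtype.ext hwz ▸ hw

end Cfsg.Agent.S5909
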