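import Cfsg.Statements.S5910
import Cfsg.Agent.Lib.Imprimitive
-- import your own Cfsg.Agent.* helpers here

set_option autoImplicit false
open Cfsg

namespace Cfsg.Agent.S5910

open Equiv

/-- Addition on `Fin 4 × Fin 2`, seen as `𝔽₂³`. -/
def addV (u v : Fin 4 × Fin 2) : Fin 4 × Fin 2 := (u.1 ^^^ v.1, u.2 + v.2)

/-- The affine group of `𝔽₂³`. -/
def affGroup : Subgroup (Perm (Fin 4 × Fin 2)) where
  carrier := {g | ∀ x y z, g (addV (addV x y) z) = addV (addV (g x) (g y)) (g z)}
  one_mem' := fun _ _ _ => rfl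
  mul_mem' := fun {g h} hg hh x y z => by simp [hh x y z, hg (h x) (h y) (h z)]
  inv_mem' := fun {g} hg x y z => g.injective (by rw [hg]; simp)

def shear (σ : Perm (Fin 4)) (t : Fin 4 → Fin 2) : Perm (Fin 4 × Fin 2) :=
  Equiv.prodShear σ (fun i => Equiv.addRight (t i))

theorem shear_affine : ∀ (σ : Perm (Fin 4)) (t : Fin 4 → Fin 2), Equiv.Perm.sign (shear σ t) = 1 →
    ∀ x y : Fin 4 × Fin 2, shear σ t (addV x y) =
      addV (addV (shear σ t x) (shear σ t y)) (shear σ t (0, 0)) := by
  decide +kernel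

theorem addV_assoc : ∀ x y z : Fin 4 × Fin 2, addV (addV x y) z = addV x (addV y z) := by decide +kernel
theorem addV_comm : ∀ x y : Fin 4 × Fin 2, addV x y = addV y x := by decide +kernel
theorem addV_self : ∀ x : Fin 4 × Fin 2, addV x x = (0, 0) := by decide +kernel
theorem addV_zero : ∀ x : Fin 4 × Fin 2, addV x (0, 0) = x := by decide +kernel

theorem mem_affGroup_of_preserves {g : Perm (Fin 4 × Fin 2)}
    (hg : ∀ x y, x.1 = y.1 ↔ (g x).1 = (g y).1) (hs : Equiv.Perm.sign g = 1) : g ∈ affGroup := by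
  have hinj : Function.Injective fun i : Fin 4 => (g (i, 0)).1 := fun i j h => (hg (i, 0) (j, 0)).mpr h
  let σ : Perm (Fin 4) := Equiv.ofBijective _ (Finite.injective_iff_bijective.mp hinj)
  let t : Fin 4 → Fin 2 := fun i => (g (i, 0)).2
  have hgs : g = shear σ t := by
    ext1 ⟨i, s⟩
    have h1 : (g (i, s)).1 = σ i := (hg (i, s) (i, 0)).mp rfl
    have h2 : (g (i, s)).2 = s + t i := by
      have key : ∀ s a b : Fin 2, (a = b ↔ s = 0) → a = s + b := by decide
      refine key _ _ _ ⟨fun h => ?_, fun h => by subst h; rfl⟩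
      exact (Prod.ext_iff.mp (g.injective (Prod.ext h1 h))).2
    exact Prod.ext h1 h2
  rw [hgs] at hs ⊢
  have key := shear_affine σ t hs
  intro x y z
  rw [key (addV x y) z, key x y]
  generalize shear σ t (0, 0) = c
  generalize shear σ t x = a
  generalize shear σ t y = b
  generalize shear σ t z = d
  calc addV (addV (addV (addV a b) c) d) c
      = addV (addV (addV a b) d) (addV c c) := by
        rw [addV_assoc (addV a b) c d, addV_comm c d, ← addV_assoc (addV a b) d c, addV_assoc]
    _ = _ := by rw [addV_self, addV_zero]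

/-- A linear map not preserving the partition. -/
def exotic : Perm (Fin 4 × Fin 2) := swap (1, 0) (0, 1) * swap (3, 0) (2, 1)

theorem exotic_spec : (∀ x y z, exotic (addV (addV x y) z) =
      addV (addV (exotic x) (exotic y)) (exotic z)) ∧
    Equiv.Perm.sign exotic = 1 ∧ ¬ ((exotic (0, 0)).1 = (exotic (0, 1)).1) := by decide +kernel

def nonAffine : Perm (Fin 4 × Fin 2) := swap (0, 0) (1, 0) * swap (0, 0) (2, 0)

theorem nonAffine_spec : Equiv.Perm.sign nonAffine = 1 ∧
    ¬ (∀ x y z, nonAffine (addV (addV x y) z) =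
      addV (addV (nonAffine x) (nonAffine y)) (nonAffine z)) := by decide +kernel

/-- Let Ω be a set with 8 elements and f : Ω → Fin 4 a labelling whose four fibres all have size 2 (a partition of the 8 points into 4 pairs). Then the group of even permutations preserving this partition, (S₂ ≀ S₄) ∩ A₈, is not a maximal subgroup of the alternating group A₈ (it lies in a subgroup isomorphic to the affine group AGL₃(2)). -/
theorem result {Ω : Type*} [Fintype Ω] [DecidableEq Ω] (h8 : Fintype.card Ω = 8)
    (f : Ω → Fin 4) (hf : ∀ i : Fin 4, Nat.card {x : Ω // f x = i} = 2) :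
    ¬ IsCoatom ((Subgroup.closure {g : Equiv.Perm Ω | ∀ x y : Ω, f x = f y ↔ f (g x) = f (g y)} ⊓ alternatingGroup Ω).subgroupOf (alternatingGroup Ω)) := by
  classical
  rw [Lib.Imprimitive.closure_eq_fibreStabilizer]
  obtain ⟨e, he⟩ := Lib.Imprimitive.exists_equiv_prod f hf
  intro hco
  let φ : alternatingGroup Ω →* Perm (Fin 4 × Fin 2) :=
    e.permCongrHom.toMonoidHom.comp (alternatingGroup Ω).subtype
  have hsign : ∀ g : Perm (Fin 4 × Fin 2), Equiv.Perm.sign g = 1 →
      e.symm.permCongr g ∈ alternatingGroup Ω := by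
    intro g hg
    rw [Equiv.Perm.mem_alternatingGroup, Equiv.Perm.sign_permCongr, hg]
  have hφ : ∀ g (hg : Equiv.Perm.sign g = 1), φ ⟨e.symm.permCongr g, hsign g hg⟩ = g := by
    intro g hg
    ext1 x
    simp [φ, Equiv.permCongr_apply]
  have hle : (Lib.Imprimitive.fibreStabilizer f ⊓ alternatingGroup Ω).subgroupOf
      (alternatingGroup Ω) ≤ affGroup.comap φ := by
    intro g hg
    refine mem_affGroup_of_preserves (fun x y => ?_) ?_
    · have := (hg : _ ∧ _).1 (e.symm x) (e.symm y)
      simpa [← he, φ, Equiv.permCongr_apply] using this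
    · simp [φ, Equiv.permCongrHom_coe, Equiv.Perm.sign_permCongr]
      exact g.2
  rcases hco.le_iff.mp hle with h | h
  · have := h.symm.le (Subgroup.mem_top ⟨e.symm.permCongr nonAffine, hsign _ nonAffine_spec.1⟩)
    rw [Subgroup.mem_comap, hφ _ nonAffine_spec.1] at this
    exact nonAffine_spec.2 this
  · have hmem : (⟨e.symm.permCongr exotic, hsign _ exotic_spec.2.1⟩ : alternatingGroup Ω) ∈
        affGroup.comap φ := by
      rw [Subgroup.mem_comap, hφ _ exotic_spec.2.1]; exact exotic_spec.1
    rw [h] at hmem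
    have := ((hmem : _ ∧ _).1 (e.symm (0, 0)) (e.symm (0, 1))).mp (by rw [← he, ← he]; simp)
    apply exotic_spec.2.2
    simpa [← he, Equiv.permCongr_apply] using this

end Cfsg.Agent.S5910
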