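import Cfsg.Statements.S5912
import Cfsg.Agent.Lib.SymSix.IndexSix
-- import your own Cfsg.Agent.* helpers here

set_option autoImplicit false
open Cfsg

namespace Cfsg.Agent.S5912

/-- The symmetric group on a 6-element set Ω has exactly two conjugacy classes of subgroups of index 6: there are two non-conjugate subgroups of index 6 (a point stabilizer and a transitive subgroup isomorphic to S₅), and every subgroup of index 6 is conjugate to one of them. -/
theorem result {Ω : Type*} [Fintype Ω] [DecidableEq Ω] (h6 : Fintype.card Ω = 6) :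
    ∃ H₁ H₂ : Subgroup (Equiv.Perm Ω), H₁.index = 6 ∧ H₂.index = 6 ∧
      (¬ ∃ g : Equiv.Perm Ω, Subgroup.map (MulAut.conj g).toMonoidHom H₁ = H₂) ∧
      ∀ H : Subgroup (Equiv.Perm Ω), H.index = 6 →
        ∃ g : Equiv.Perm Ω, Subgroup.map (MulAut.conj g).toMonoidHom H₁ = H ∨ Subgroup.map (MulAut.conj g).toMonoidHom H₂ = H := by
  classical
  let e : Ω ≃ Fin 6 := Fintype.equivFinOfCardEq h6
  let φ : Equiv.Perm Ω ≃* Equiv.Perm (Fin 6) := e.permCongrHom
  let H₀ : Subgroup (Equiv.Perm (Fin 6)) := MulAction.stabilizer (Equiv.Perm (Fin 6)) (0 : Fin 6)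
  have hidx : ∀ H : Subgroup (Equiv.Perm (Fin 6)), H.index = 6 →
      (H.comap φ.toMonoidHom).index = 6 := fun H hH => by
    rw [Subgroup.index_comap_of_surjective _ φ.surjective, hH]
  have hconj : ∀ (g : Equiv.Perm (Fin 6)) (K : Subgroup (Equiv.Perm (Fin 6))),
      (K.comap φ.toMonoidHom).map (MulAut.conj (φ.symm g)).toMonoidHom =
        (K.map (MulAut.conj g).toMonoidHom).comap φ.toMonoidHom := by
    intro g K
    ext x
    constructor
    · rintro ⟨y, hy, rfl⟩
      exact ⟨φ y, hy, by simp⟩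
    · rintro ⟨y, hy, h⟩
      exact ⟨φ.symm y, by simpa using hy, φ.injective (by simpa using h)⟩
  refine ⟨H₀.comap φ.toMonoidHom, Lib.SymSix.exoticS5.comap φ.toMonoidHom,
    hidx _ (Lib.SymSix.index_stab 0), hidx _ Lib.SymSix.index_exoticS5, ?_, ?_⟩
  · rintro ⟨g, hg⟩
    rw [← φ.symm_apply_apply g, hconj] at hg
    have h' : H₀.map (MulAut.conj (φ g)).toMonoidHom = Lib.SymSix.exoticS5 :=
      Subgroup.comap_injective φ.surjective hg
    refine Lib.SymSix.exotic_ne_stab 1 ((φ g) (0 : Fin 6)) ?_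
    rw [← h', ← MulAction.stabilizer_smul_eq_stabilizer_map_conj]
    ext y
    simp
  · intro H hH
    have hH' : (H.map φ.toMonoidHom).index = 6 := by
      rw [Subgroup.index_map_of_bijective φ.bijective, hH]
    have hback : (H.map φ.toMonoidHom).comap φ.toMonoidHom = H :=
      Subgroup.comap_map_eq_self_of_injective φ.injective _
    rcases Lib.SymSix.index_six_cases hH' with ⟨x, hx⟩ | ⟨g, hg⟩
    · refine ⟨φ.symm (Equiv.swap 0 x), Or.inl ?_⟩
      rw [hconj, ← hback, hx]
      rw [← MulAction.stabilizer_smul_eq_stabilizer_map_conj]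
      simp
    · exact ⟨φ.symm g, Or.inr (by rw [hconj, hg, hback])⟩

end Cfsg.Agent.S5912
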