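import Cfsg.Statements.S5913
-- import your own Cfsg.Agent.* helpers here

set_option autoImplicit false
open Cfsg

namespace Cfsg.Agent.S5913

/-- Let S be a non-abelian simple group and n a natural number. Every normal subgroup N of the direct power S^n (functions Fin n → S) is a subproduct: there is a set T of coordinates such that N consists exactly of the elements whose coordinates outside T are trivial. In particular the minimal normal subgroups of S^n are its n factors. -/
theorem result {S : Type*} [Group S] [IsSimpleGroup S] (hS : ¬ IsMulCommutative S) (n : ℕ)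
    (N : Subgroup (Fin n → S)) [N.Normal] :
    ∃ T : Finset (Fin n), ∀ x : Fin n → S, x ∈ N ↔ ∀ i, i ∉ T → x i = 1 := by
  classical
  have key : ∀ i : Fin n, (∃ x ∈ N, x i ≠ 1) → ∀ s : S, Pi.mulSingle i s ∈ N := by
    rintro i ⟨x, hx, hxi⟩
    let M : Subgroup S := N.comap (MonoidHom.mulSingle (fun _ : Fin n => S) i)
    haveI : M.Normal := Subgroup.Normal.comap ‹_› _
    have hM : M ≠ ⊥ := by
      have hne : ∃ t, x i * t ≠ t * x i := by
        by_contra hc
        push Not at hc
        have hmem : x i ∈ Subgroup.center S := Subgroup.mem_center_iff.mpr fun g => (hc g).symm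
        rcases (inferInstance : (Subgroup.center S).Normal).eq_bot_or_eq_top with h | h
        · rw [h, Subgroup.mem_bot] at hmem
          exact hxi hmem
        · refine hS ⟨⟨fun a b => ?_⟩⟩
          have ha : a ∈ Subgroup.center S := h ▸ Subgroup.mem_top a
          exact ((Subgroup.mem_center_iff.mp ha) b).symm
      obtain ⟨t, ht⟩ := hne
      have h1 : x * (Pi.mulSingle i t * x⁻¹ * (Pi.mulSingle i t)⁻¹) ∈ N :=
        N.mul_mem hx (‹N.Normal›.conj_mem _ (N.inv_mem hx) _)
      have h2 : x * (Pi.mulSingle i t * x⁻¹ * (Pi.mulSingle i t)⁻¹) =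
          Pi.mulSingle i (x i * (t * (x i)⁻¹ * t⁻¹)) := by
        funext j
        by_cases hj : j = i
        · subst hj; simp
        · simp [Pi.mulSingle_eq_of_ne hj]
      rw [h2] at h1
      intro hbot
      have h3 : x i * (t * (x i)⁻¹ * t⁻¹) ∈ M := h1
      rw [hbot, Subgroup.mem_bot] at h3
      apply ht
      calc x i * t = x i * (t * (x i)⁻¹ * t⁻¹) * (t * x i) := by group
        _ = t * x i := by rw [h3, one_mul]
    rcases (inferInstance : M.Normal).eq_bot_or_eq_top with h | h
    · exact absurd h hM
    · exact fun s => h.symm.le (Subgroup.mem_top s)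
  refine ⟨Finset.univ.filter fun i => ∃ x ∈ N, x i ≠ 1, fun x => ⟨fun hx i hi => ?_, fun hx => ?_⟩⟩
  · by_contra h
    exact hi (Finset.mem_filter.mpr ⟨Finset.mem_univ _, x, hx, h⟩)
  · refine Subgroup.pi_mem_of_mulSingle_mem x fun i => ?_
    by_cases hi : ∃ y ∈ N, y i ≠ 1
    · exact key i hi _
    · rw [hx i (fun h => hi (Finset.mem_filter.mp h).2), Pi.mulSingle_one]
      exact N.one_mem

end Cfsg.Agent.S5913
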