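import Cfsg.Statements.S5914
import Cfsg.Agent.Lib.CharSimple
-- import your own Cfsg.Agent.* helpers here

set_option autoImplicit false
open Cfsg

namespace Cfsg.Agent.S5914

/-- A non-trivial finite group G is characteristically simple (its only characteristic subgroups are 1 and G) if and only if G is isomorphic to a direct power S^n (n ≥ 1) of some simple group S (possibly cyclic of prime order). -/
theorem result {G : Type*} [Group G] [Finite G] [Nontrivial G] :
    (∀ H : Subgroup G, H.Characteristic → H = ⊥ ∨ H = ⊤) ↔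
    ∃ (S : Type) (_ : Group S) (_ : IsSimpleGroup S) (n : ℕ), 1 ≤ n ∧ Nonempty (G ≃* (Fin n → S)) := by
  classical
  constructor
  · intro h
    obtain ⟨N, n, -, hN, hn, ⟨e⟩⟩ := Lib.CharSimple.exists_mulEquiv_pi_of_charSimple G h
    have hfin : Finite N := inferInstance
    haveI : Small.{0} N := Countable.toSmall N
    let m : Shrink.{0} N ≃* N := Shrink.mulEquiv
    refine ⟨Shrink.{0} N, inferInstance, (haveI := hN; m.isSimpleGroup), n, hn, ⟨e.trans ?_⟩⟩
    exact MulEquiv.piCongrRight fun _ => m.symm
  · rintro ⟨S, _, hS, n, -, ⟨e⟩⟩ H hH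
    have hchar : (H.map e.toMonoidHom).Characteristic := by
      rw [Subgroup.characteristic_iff_map_le]
      intro ψ
      have h1 := Subgroup.characteristic_iff_map_le.mp hH ((e.trans ψ).trans e.symm)
      rintro x ⟨y, ⟨z, hz, rfl⟩, rfl⟩
      exact ⟨e.symm (ψ (e z)), h1 ⟨z, hz, rfl⟩, by simp⟩
    rcases Lib.CharSimple.charSimple_pi n (H.map e.toMonoidHom) with h | h
    · exact Or.inl ((Subgroup.map_eq_bot_iff_of_injective _ e.injective).mp h)
    · right
      rw [eq_top_iff]
      intro g _
      have : e g ∈ H.map e.toMonoidHom := h.symm.le (Subgroup.mem_top _)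
      obtain ⟨z, hz, he⟩ := this
      exact e.injective he ▸ hz

end Cfsg.Agent.S5914
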