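import Cfsg.Statements.S5938
import Cfsg.Agent.Lib.DicksonFull.Exist
import Cfsg.Agent.Lib.DicksonFull.Maximal

set_option autoImplicit false
open Cfsg

namespace Cfsg.Agent.S5938

/-- Let p be a prime with p ≡ ±1 (mod 8) and F a field with p elements. Then PSL_2(F) has a maximal subgroup isomorphic to the symmetric group S_4. -/
theorem result {F : Type*} [Field F] [Fintype F] (p : ℕ) [Fact p.Prime] (hF : Fintype.card F = p) (hp : p % 8 = 1 ∨ p % 8 = 7) : ∃ H : Subgroup (Matrix.ProjectiveSpecialLinearGroup (Fin 2) F), IsCoatom H ∧ Nonempty (H ≃* Equiv.Perm (Fin 4)) := by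
  haveI : CharP F p := Lib.DicksonFull.charP_of_card Fact.out (e := 1) (by rw [hF, pow_one])
  have hp7 : 7 ≤ p := by
    have := (Fact.out : p.Prime).two_le
    have : p ≠ 1 := by omega
    omega
  have h2 : (2 : F) ≠ 0 := fun h => by
    have : p ∣ 2 := (CharP.cast_eq_zero_iff F p 2).mp (by exact_mod_cast h)
    have := Nat.le_of_dvd (by omega) this
    omega
  obtain ⟨r, hr⟩ := FiniteField.isSquare_two_iff.mpr (by rw [hF]; omega : Fintype.card F % 8 ≠ 3 ∧ Fintype.card F % 8 ≠ 5)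
  obtain ⟨φ, hφ⟩ := Lib.DicksonFull.exists_perm_four h2 (r := r) (by rw [pow_two, ← hr])
  refine ⟨φ.range, ?_, ⟨(MonoidHom.ofInjective hφ).symm⟩⟩
  have hcard : Nat.card φ.range = 24 := by
    rw [← Nat.card_congr (MonoidHom.ofInjective hφ).toEquiv, Nat.card_perm, Nat.card_fin]; rfl
  have hG := Lib.DicksonFull.card_psl_odd (F := F) (by rw [hF, Nat.odd_iff]; omega)
  rw [hF] at hG
  have hcube : 49 * p ≤ p ^ 3 := by
    rw [show p ^ 3 = p * p * p by ring]
    exact Nat.mul_le_mul_right p (le_trans (by norm_num) (Nat.mul_le_mul hp7 hp7))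
  refine Lib.DicksonFull.isCoatom_of_card _ (by rw [hcard]; omega) fun M hM => ?_
  obtain ⟨a, b, hab⟩ : ∃ a b : Equiv.Perm (Fin 4), a ^ 2 * b ^ 2 ≠ b ^ 2 * a ^ 2 := by decide +kernel
  obtain ⟨c, d, hcd, hcd1⟩ : ∃ c d : Equiv.Perm (Fin 4),
      (c * d * c⁻¹ * d⁻¹) ^ 3 = 1 ∧ c * d * c⁻¹ * d⁻¹ ≠ 1 :=
    ⟨Equiv.swap 0 1, Equiv.swap 1 2, by decide +kernel, by decide +kernel⟩
  have hpc : (c * d * c⁻¹ * d⁻¹) ^ p ≠ 1 := fun h => by
    have h3 : orderOf (c * d * c⁻¹ * d⁻¹) = 3 := orderOf_eq_prime hcd hcd1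
    have := orderOf_dvd_of_pow_eq_one h
    rw [h3, Nat.prime_dvd_prime_iff_eq Nat.prime_three Fact.out] at this
    omega
  have hdvd : 24 ∣ Nat.card M := hcard ▸ Subgroup.card_dvd_of_le hM
  rcases Lib.DicksonFull.cases_of_witness (p := p) M (hM ⟨a, rfl⟩) (hM ⟨b, rfl⟩)
      (fun h => hab (hφ (by simpa using h)))
      ⟨φ c, φ d, hM ⟨c, rfl⟩, hM ⟨d, rfl⟩, Or.inl fun h => hpc (hφ (by simpa using h))⟩ with
    ⟨-, h⟩ | ⟨k, hk, -, hk1, -, h⟩
  · exact Or.inl (by omega)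
  · obtain rfl : k = 1 := by
      have := Lib.DicksonFull.exponent_le (f := 1) (by rw [hF, pow_one]) M hk1
      omega
    rw [pow_one] at h
    exact Or.inr (by omega)

end Cfsg.Agent.S5938
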