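import Cfsg.Statements.S5939
import Cfsg.Agent.Lib.DicksonFull.Exist
import Cfsg.Agent.Lib.DicksonFull.Maximal

set_option autoImplicit false
open Cfsg

namespace Cfsg.Agent.S5939

/-- Let p be a prime and F a finite field of characteristic p such that either F has p elements and p ≡ ±1 (mod 10), or F has p² elements and p ≡ ±3 (mod 10). Then PSL_2(F) has a maximal subgroup isomorphic to the alternating group A_5. -/
theorem result {F : Type*} [Field F] [Fintype F] (p : ℕ) [Fact p.Prime] [CharP F p] (h : (Fintype.card F = p ∧ (p % 10 = 1 ∨ p % 10 = 9)) ∨ (Fintype.card F = p ^ 2 ∧ (p % 10 = 3 ∨ p % 10 = 7))) : ∃ H : Subgroup (Matrix.ProjectiveSpecialLinearGroup (Fin 2) F), IsCoatom H ∧ Nonempty (H ≃* alternatingGroup (Fin 5)) := by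
  have hp : p.Prime := Fact.out
  have hp2 : p ≠ 2 := by rintro rfl; omega
  have hp5 : p ≠ 5 := by rintro rfl; omega
  have h2 : (2 : F) ≠ 0 := fun h0 => by
    have : p ∣ 2 := (CharP.cast_eq_zero_iff F p 2).mp (by exact_mod_cast h0)
    exact hp2 ((Nat.prime_dvd_prime_iff_eq hp Nat.prime_two).mp this)
  obtain ⟨r, hr⟩ : ∃ r : F, r ^ 2 = 5 := by
    rcases h with ⟨hF, h10⟩ | ⟨hF, -⟩
    · haveI : Fact (Nat.Prime 5) := ⟨Nat.prime_five⟩
      have h5 : IsSquare ((5 : ℕ) : ZMod p) := by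
        refine (ZMod.exists_sq_eq_prime_iff_of_mod_four_eq_one (p := 5) (q := p) (by norm_num) hp2).mp ?_
        rw [← ZMod.natCast_mod]
        rcases (show p % 5 = 1 ∨ p % 5 = 4 by omega) with e | e <;> rw [e]
        · exact ⟨1, rfl⟩
        · exact ⟨2, rfl⟩
      obtain ⟨s, hs⟩ := h5.map (ZMod.castHom (dvd_refl p) F)
      refine ⟨s, ?_⟩
      rw [pow_two, ← hs, map_natCast]
      norm_num
    · have h50 : (5 : F) ≠ 0 := fun h0 => by
        have : p ∣ 5 := (CharP.cast_eq_zero_iff F p 5).mp (by exact_mod_cast h0)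
        exact hp5 ((Nat.prime_dvd_prime_iff_eq hp Nat.prime_five).mp this)
      have hpow : (5 : F) ^ (p - 1) = 1 := by
        have h1 : ((5 : ℕ) : ZMod p) ≠ 0 := fun h0 => h50 (by
          have := congrArg (ZMod.castHom (dvd_refl p) F) h0
          rw [map_natCast, map_zero] at this
          exact_mod_cast this)
        have := congrArg (ZMod.castHom (dvd_refl p) F) (ZMod.pow_card_sub_one_eq_one h1)
        rw [map_pow, map_natCast, map_one] at this
        exact_mod_cast this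
      obtain ⟨w, hw⟩ : ∃ w, p = 2 * w + 1 := hp.odd_of_ne_two hp2
      have hch : ringChar F ≠ 2 := fun e => h2 (by
        have h0 : ((ringChar F : ℕ) : F) = 0 := ringChar.Nat.cast_ringChar
        rw [e] at h0; exact_mod_cast h0)
      obtain ⟨s, hs⟩ := (FiniteField.isSquare_iff hch h50).mpr (show (5 : F) ^ (Fintype.card F / 2) = 1 by
        have e : Fintype.card F / 2 = (p - 1) * (w + 1) := by
          have : p ^ 2 = 2 * ((p - 1) * (w + 1)) + 1 := by
            rw [hw, Nat.add_sub_cancel]; ring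
          omega
        rw [e, pow_mul, hpow, one_pow])
      exact ⟨s, by rw [pow_two, ← hs]⟩
  obtain ⟨φ, hφ⟩ := Lib.DicksonFull.exists_alt_five h2 hr
  refine ⟨φ.range, ?_, ⟨(MonoidHom.ofInjective hφ).symm⟩⟩
  have hcard : Nat.card φ.range = 60 := by
    rw [← Nat.card_congr (MonoidHom.ofInjective hφ).toEquiv, nat_card_alternatingGroup, Nat.card_fin]
    rfl
  obtain ⟨f, hf, hf2⟩ : ∃ f, Fintype.card F = p ^ f ∧ f ≤ 2 ∧ (f = 2 → p % 10 = 3 ∨ p % 10 = 7) ∧
      (f = 1 → p % 10 = 1 ∨ p % 10 = 9) ∧ 1 ≤ f := by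
    rcases h with ⟨hF, h10⟩ | ⟨hF, h10⟩
    · exact ⟨1, by rw [hF, pow_one], by omega, by omega, fun _ => h10, le_rfl⟩
    · exact ⟨2, hF, le_rfl, fun _ => h10, by omega, by omega⟩
  have hodd : Odd (Fintype.card F) := by rw [hf]; exact (hp.odd_of_ne_two hp2).pow
  have hG := Lib.DicksonFull.card_psl_odd (F := F) hodd
  have hbig : 9 ≤ Fintype.card F := by
    rw [hf]
    have h3 : 3 ≤ p := by have := hp.two_le; omega
    rcases (show f = 1 ∨ f = 2 by omega) with rfl | rfl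
    · have := hf2.2.2.1 rfl; omega
    · exact le_trans (by norm_num) (Nat.pow_le_pow_left h3 2)
  have hcube : 81 * Fintype.card F ≤ Fintype.card F ^ 3 := by
    rw [show Fintype.card F ^ 3 = Fintype.card F * Fintype.card F * Fintype.card F by ring]
    exact Nat.mul_le_mul_right _ (le_trans (by norm_num) (Nat.mul_le_mul hbig hbig))
  refine Lib.DicksonFull.isCoatom_of_card _ (by rw [hcard]; omega)
    fun M hM => ?_
  obtain ⟨a, b, hab⟩ : ∃ a b : alternatingGroup (Fin 5), a ^ 2 * b ^ 2 ≠ b ^ 2 * a ^ 2 := by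
    decide +kernel
  obtain ⟨c, d, hcd, hcd1⟩ : ∃ c d : alternatingGroup (Fin 5),
      (c * d * c⁻¹ * d⁻¹) ^ 3 = 1 ∧ c * d * c⁻¹ * d⁻¹ ≠ 1 := by decide +kernel
  obtain ⟨c', d', hcd', hcd1'⟩ : ∃ c d : alternatingGroup (Fin 5),
      (c * d * c⁻¹ * d⁻¹) ^ 5 = 1 ∧ c * d * c⁻¹ * d⁻¹ ≠ 1 := by decide +kernel
  have hwit : ∃ c d : alternatingGroup (Fin 5), (c * d * c⁻¹ * d⁻¹) ^ p ≠ 1 := by
    by_contra hall
    push Not at hall
    haveI : Fact (Nat.Prime 5) := ⟨Nat.prime_five⟩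
    have e3 := orderOf_dvd_of_pow_eq_one (hall c d)
    have e5 := orderOf_dvd_of_pow_eq_one (hall c' d')
    rw [orderOf_eq_prime hcd hcd1, Nat.prime_dvd_prime_iff_eq Nat.prime_three hp] at e3
    rw [orderOf_eq_prime hcd' hcd1', Nat.prime_dvd_prime_iff_eq Nat.prime_five hp] at e5
    omega
  obtain ⟨c, d, hpc⟩ := hwit
  have hdvd : 60 ∣ Nat.card M := hcard ▸ Subgroup.card_dvd_of_le hM
  rcases Lib.DicksonFull.cases_of_witness (p := p) M (hM ⟨a, rfl⟩) (hM ⟨b, rfl⟩)
      (fun h => hab (hφ (by simpa using h)))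
      ⟨φ c, φ d, hM ⟨c, rfl⟩, hM ⟨d, rfl⟩, Or.inl fun h => hpc (hφ (by simpa using h))⟩ with
    ⟨-, h⟩ | ⟨k, hk, -, hk1, -, h⟩
  · exact Or.inl (by omega)
  · have hkf := Lib.DicksonFull.exponent_le hf M hk1
    rw [hf] at hG
    rcases (show k = f ∨ (k = 1 ∧ f = 2) by omega) with rfl | ⟨rfl, rfl⟩
    · rcases h with h | h | ⟨-, h⟩
      · exact Or.inr (by omega)
      · exact Or.inr (by omega)
      · exact Or.inl (by omega)
    · rw [pow_one] at h
      rcases h with h | h | ⟨-, h⟩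
      · exfalso
        rcases hf2.2.1 rfl with e | e <;>
          [obtain ⟨w, rfl⟩ : ∃ w, p = 10 * w + 3 := ⟨p / 10, by omega⟩;
           obtain ⟨w, rfl⟩ : ∃ w, p = 10 * w + 7 := ⟨p / 10, by omega⟩]
        · have e' : (10 * w + 3) ^ 3 = 10 * (100 * w ^ 3 + 90 * w ^ 2 + 27 * w + 2) + 7 := by ring
          omega
        · have e' : (10 * w + 7) ^ 3 = 10 * (100 * w ^ 3 + 210 * w ^ 2 + 147 * w + 34) + 3 := by ring
          omega
      · exfalso
        rcases hf2.2.1 rfl with e | e <;>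
          [obtain ⟨w, rfl⟩ : ∃ w, p = 10 * w + 3 := ⟨p / 10, by omega⟩;
           obtain ⟨w, rfl⟩ : ∃ w, p = 10 * w + 7 := ⟨p / 10, by omega⟩]
        · have e' : (10 * w + 3) ^ 3 = 10 * (100 * w ^ 3 + 90 * w ^ 2 + 27 * w + 2) + 7 := by ring
          omega
        · have e' : (10 * w + 7) ^ 3 = 10 * (100 * w ^ 3 + 210 * w ^ 2 + 147 * w + 34) + 3 := by ring
          omega
      · exact Or.inl (by omega)

end Cfsg.Agent.S5939
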