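import Cfsg.Statements.S5940
import Cfsg.Agent.Lib.DicksonFull.Exist
import Cfsg.Agent.Lib.DicksonFull.Maximal

set_option autoImplicit false
open Cfsg

namespace Cfsg.Agent.S5940

/-- Let p ≥ 5 be a prime with p ≡ ±3 (mod 8) and p ≢ ±1 (mod 10), and F a field with p elements. Then PSL_2(F) has a maximal subgroup isomorphic to the alternating group A_4. -/
theorem result {F : Type*} [Field F] [Fintype F] (p : ℕ) [Fact p.Prime] (hF : Fintype.card F = p) (h5 : 5 ≤ p) (h8 : p % 8 = 3 ∨ p % 8 = 5) (h10 : p % 10 ≠ 1 ∧ p % 10 ≠ 9) : ∃ H : Subgroup (Matrix.ProjectiveSpecialLinearGroup (Fin 2) F), IsCoatom H ∧ Nonempty (H ≃* alternatingGroup (Fin 4)) := by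
  haveI : CharP F p := Lib.DicksonFull.charP_of_card Fact.out (e := 1) (by rw [hF, pow_one])
  have h2 : (2 : F) ≠ 0 := fun h => by
    have : p ∣ 2 := (CharP.cast_eq_zero_iff F p 2).mp (by exact_mod_cast h)
    have := Nat.le_of_dvd (by omega) this
    omega
  obtain ⟨φ, hφ⟩ := Lib.DicksonFull.exists_alt_four (F := F) h2
  refine ⟨φ.range, ?_, ⟨(MonoidHom.ofInjective hφ).symm⟩⟩
  have hcard : Nat.card φ.range = 12 := by
    rw [← Nat.card_congr (MonoidHom.ofInjective hφ).toEquiv, nat_card_alternatingGroup, Nat.card_fin]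
    rfl
  have hG := Lib.DicksonFull.card_psl_odd (F := F) (by rw [hF, Nat.odd_iff]; omega)
  rw [hF] at hG
  have hcube : 25 * p ≤ p ^ 3 := by
    rw [show p ^ 3 = p * p * p by ring]
    exact Nat.mul_le_mul_right p (le_trans (by norm_num) (Nat.mul_le_mul h5 h5))
  refine Lib.DicksonFull.isCoatom_of_card _ (by rw [hcard]; omega) fun M hM => ?_
  obtain ⟨a, b, hab⟩ : ∃ a b : alternatingGroup (Fin 4), a ^ 2 * b ^ 2 ≠ b ^ 2 * a ^ 2 := by
    decide +kernel
  obtain ⟨c, d, hcd, hcd1⟩ : ∃ c d : alternatingGroup (Fin 4),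
      (c * d * c⁻¹ * d⁻¹) ^ 2 = 1 ∧ c * d * c⁻¹ * d⁻¹ ≠ 1 := by decide +kernel
  have hpc : (c * d * c⁻¹ * d⁻¹) ^ p ≠ 1 := fun h => by
    have h3 : orderOf (c * d * c⁻¹ * d⁻¹) = 2 := orderOf_eq_prime hcd hcd1
    have := orderOf_dvd_of_pow_eq_one h
    rw [h3, Nat.prime_dvd_prime_iff_eq Nat.prime_two Fact.out] at this
    omega
  have hdvd : 12 ∣ Nat.card M := hcard ▸ Subgroup.card_dvd_of_le hM
  have hMG := Subgroup.card_subgroup_dvd_card M
  rcases Lib.DicksonFull.cases_of_witness (p := p) M (hM ⟨a, rfl⟩) (hM ⟨b, rfl⟩)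
      (fun h => hab (hφ (by simpa using h)))
      ⟨φ c, φ d, hM ⟨c, rfl⟩, hM ⟨d, rfl⟩, Or.inl fun h => hpc (hφ (by simpa using h))⟩ with
    ⟨hpM, h⟩ | ⟨k, hk, -, hk1, -, h⟩
  · refine Or.inl ?_
    rcases h with h | h | h
    · omega
    · exfalso
      -- `16 ∣ p ^ 3 - p` fails
      obtain ⟨u, hu⟩ := hMG
      rw [h] at hu
      have h48 : p ^ 3 = 48 * u + p := by omega
      rcases h8 with h8 | h8 <;>
        [obtain ⟨w, rfl⟩ : ∃ w, p = 8 * w + 3 := ⟨p / 8, by omega⟩;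
         obtain ⟨w, rfl⟩ : ∃ w, p = 8 * w + 5 := ⟨p / 8, by omega⟩]
      · have e : (8 * w + 3) ^ 3 = 16 * (32 * w ^ 3 + 36 * w ^ 2 + 13 * w + 1) + 8 * w + 11 := by ring
        omega
      · have e : (8 * w + 5) ^ 3 = 16 * (32 * w ^ 3 + 60 * w ^ 2 + 37 * w + 7) + 8 * w + 13 := by ring
        omega
    · exfalso
      obtain ⟨u, hu⟩ := hMG
      rw [h] at hu
      have h120 : p ^ 3 = 120 * u + p := by omega
      by_cases hp5 : p = 5
      · exact hpM (by rw [h, hp5]; norm_num)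
      · have h5' : p % 5 ≠ 0 := fun h0 => hp5 (by
          have := (Nat.prime_dvd_prime_iff_eq Nat.prime_five Fact.out).mp (Nat.dvd_of_mod_eq_zero h0)
          omega)
        have h37 : p % 10 = 3 ∨ p % 10 = 7 := by omega
        rcases h37 with h37 | h37 <;>
          [obtain ⟨w, rfl⟩ : ∃ w, p = 10 * w + 3 := ⟨p / 10, by omega⟩;
           obtain ⟨w, rfl⟩ : ∃ w, p = 10 * w + 7 := ⟨p / 10, by omega⟩]
        · have e : (10 * w + 3) ^ 3 = 10 * (100 * w ^ 3 + 90 * w ^ 2 + 27 * w + 2) + 7 := by ring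
          omega
        · have e : (10 * w + 7) ^ 3 = 10 * (100 * w ^ 3 + 210 * w ^ 2 + 147 * w + 34) + 3 := by ring
          omega
  · obtain rfl : k = 1 := by
      have := Lib.DicksonFull.exponent_le (f := 1) (by rw [hF, pow_one]) M hk1
      omega
    rw [pow_one] at h
    exact Or.inr (by omega)

end Cfsg.Agent.S5940
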