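import Cfsg.Statements.S5941
import Cfsg.Agent.Lib.DicksonFull.Subfield

set_option autoImplicit false
open Cfsg Cfsg.Agent.Lib Cfsg.Agent.Lib.DicksonFull

namespace Cfsg.Agent.S5941

/-- Let K and F be finite fields of odd characteristic with #F = (#K)². Then PSL_2(F) has a maximal subgroup isomorphic to PGL_2(K). -/
theorem result {F K : Type*} [Field F] [Fintype F] [Field K] [Fintype K] (q : ℕ) (hK : Fintype.card K = q) (hF : Fintype.card F = q ^ 2) (hq : Odd q) : ∃ H : Subgroup (Matrix.ProjectiveSpecialLinearGroup (Fin 2) F), IsCoatom H ∧ Nonempty (H ≃* Matrix.ProjGenLinGroup (Fin 2) K) := by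
  classical
  haveI := ringChar.charP K
  obtain ⟨e, hp, he⟩ := FiniteField.card K (ringChar K)
  generalize ringChar K = p at *
  haveI := Fact.mk hp
  rw [hK] at he
  subst he
  have hFp : Fintype.card F = p ^ ((e : ℕ) * 2) := by rw [hF, pow_mul]
  haveI : CharP F p := charP_of_card hp hFp
  obtain ⟨f⟩ := exists_ringHom (K := K) (F := F) hK hFp
  have hp2 : p ≠ 2 := by
    rintro rfl
    exact Nat.not_even_iff_odd.mpr hq (even_two.pow_of_ne_zero e.ne_zero)
  have hs : ∀ a : K, IsSquare (f a) := by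
    intro a
    rcases eq_or_ne a 0 with rfl | ha
    · simp
    rw [FiniteField.isSquare_iff (by rwa [ringChar.eq F p]) (by simpa using ha), hF, ← map_pow]
    obtain ⟨m, hm⟩ := hq
    have h1 : (p ^ (e : ℕ)) ^ 2 / 2 = 2 * m * (m + 1) := by
      rw [hm, show (2 * m + 1) ^ 2 = 1 + 2 * (2 * m * (m + 1)) by ring,
        Nat.add_mul_div_left _ _ (by norm_num)]
      simp
    have h2 : a ^ (2 * m) = 1 := by
      have := FiniteField.pow_card_sub_one_eq_one a ha
      rwa [hK, hm, Nat.add_sub_cancel] at this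
    rw [h1, pow_mul, h2, one_pow, map_one]
  obtain ⟨φ, hφ, hc⟩ := exists_pgl_hom f hs
  have hmem : ∀ a, pslExt f a ∈ φ.range := by
    intro a
    obtain ⟨x, rfl⟩ := QuotientGroup.mk_surjective a
    exact ⟨_, hc x⟩
  obtain ⟨a, b, ha, hb, hab, hsq⟩ := witness_unip (p := p) f
    (Ring.two_ne_zero (by rwa [ringChar.eq K p]))
  have hX : Nat.card φ.range + p ^ (e : ℕ) = (p ^ (e : ℕ)) ^ 3 ∧
      Nat.card φ.range = p ^ (e : ℕ) * (p ^ (e : ℕ) - 1) * (p ^ (e : ℕ) + 1) := by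
    have h : Nat.card φ.range = p ^ (e : ℕ) * (p ^ (e : ℕ) - 1) * (p ^ (e : ℕ) + 1) := by
      rw [← Nat.card_congr (MonoidHom.ofInjective hφ).toEquiv, Linear.card_PGL_eq_card_SL,
        Linear.card_SL_two, hK]
    refine ⟨?_, h⟩
    obtain ⟨m, hm⟩ := hq
    rw [h, hm, Nat.add_sub_cancel]; ring
  refine ⟨φ.range, isCoatom_of_card _ ?_ ?_, ⟨(MonoidHom.ofInjective hφ).symm⟩⟩
  · have h1 := card_psl_odd (F := F) (by rw [hF]; exact hq.pow)
    rw [hF] at h1
    intro h
    have h3 : (p ^ (e : ℕ)) ^ 3 ≤ (p ^ (e : ℕ)) ^ 4 := Nat.pow_le_pow_right (Nat.pow_pos hp.pos) (by norm_num)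
    have h6 : 3 * (p ^ (e : ℕ)) ^ 4 ≤ ((p ^ (e : ℕ)) ^ 2) ^ 3 := by
      rw [show ((p ^ (e : ℕ)) ^ 2) ^ 3 = (p ^ (e : ℕ)) ^ 2 * (p ^ (e : ℕ)) ^ 4 by ring]
      refine Nat.mul_le_mul_right _ ?_
      have : 2 ≤ p ^ (e : ℕ) := hp.two_le.trans (Nat.le_self_pow e.ne_zero p)
      nlinarith
    have h8 : (p ^ (e : ℕ)) ^ 2 ≤ (p ^ (e : ℕ)) ^ 3 := Nat.pow_le_pow_right (Nat.pow_pos hp.pos) (by norm_num)
    have h9 : 0 < p ^ (e : ℕ) := Nat.pow_pos hp.pos
    have := hX.1
    have h7 : (p ^ (e : ℕ)) ^ 2 ≤ (p ^ (e : ℕ)) ^ 4 := Nat.pow_le_pow_right (Nat.pow_pos hp.pos) (by norm_num)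
    omega
  · intro M hM
    have hd := Subgroup.card_dvd_of_le hM
    rcases subfield_cases e.pos Nat.prime_two hFp M
        (X := Nat.card φ.range) (by rw [hX.2, mul_assoc]; exact dvd_mul_right _ _)
        (by
          rw [hX.2, mul_comm 2 (e : ℕ), pow_mul, ← one_pow 2, Nat.sq_sub_sq, one_pow, mul_assoc,
            mul_comm (p ^ (e : ℕ) + 1)]
          exact dvd_mul_of_dvd_right (dvd_mul_left _ _) 2)
        hd (hM (hmem a)) (hM (hmem b)) (hM (hmem a)) (hM (hmem b)) hsq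
        (by rw [← map_pow, ha, map_one]) (by rw [← map_pow, hb, map_one]) hab with
      h | ⟨h, -⟩ | h | ⟨h3, h60⟩
    · exact Or.inr h
    · exfalso
      have := Nat.le_of_dvd Nat.card_pos hd
      have := Nat.card_pos (α := φ.range)
      have := hX.1
      omega
    · have := hX.1
      left; omega
    · exfalso
      have h24 := hX.1
      rw [h3] at h24
      rw [h60, show Nat.card φ.range = 24 by omega] at hd
      norm_num at hd

end Cfsg.Agent.S5941
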