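import Cfsg.Statements.S5942
import Cfsg.Agent.Lib.DicksonFull.Subfield

set_option autoImplicit false
open Cfsg Cfsg.Agent.Lib Cfsg.Agent.Lib.DicksonFull

namespace Cfsg.Agent.S5942

/-- Let K and F be finite fields of odd characteristic with #F = (#K)^r for an odd prime r. Then PSL_2(F) has a maximal subgroup isomorphic to PSL_2(K). -/
theorem result {F K : Type*} [Field F] [Fintype F] [Field K] [Fintype K] (q r : ℕ) (hK : Fintype.card K = q) (hF : Fintype.card F = q ^ r) (hq : Odd q) (hr : r.Prime) (hr2 : r ≠ 2) : ∃ H : Subgroup (Matrix.ProjectiveSpecialLinearGroup (Fin 2) F), IsCoatom H ∧ Nonempty (H ≃* Matrix.ProjectiveSpecialLinearGroup (Fin 2) K) := by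
  classical
  haveI := ringChar.charP K
  obtain ⟨e, hp, he⟩ := FiniteField.card K (ringChar K)
  generalize ringChar K = p at *
  haveI := Fact.mk hp
  rw [hK] at he
  subst he
  have hFp : Fintype.card F = p ^ ((e : ℕ) * r) := by rw [hF, pow_mul]
  haveI : CharP F p := charP_of_card hp hFp
  obtain ⟨f⟩ := exists_ringHom (K := K) (F := F) hK hFp
  have hp2 : p ≠ 2 := by
    rintro rfl
    exact Nat.not_even_iff_odd.mpr hq (even_two.pow_of_ne_zero e.ne_zero)
  obtain ⟨a, b, ha, hb, hab, hsq⟩ := witness_unip (p := p) f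
    (Ring.two_ne_zero (by rwa [ringChar.eq K p]))
  have hinj := pslExt_injective f
  have hcard : Nat.card (pslExt f).range =
      Nat.card (Matrix.ProjectiveSpecialLinearGroup (Fin 2) K) :=
    (Nat.card_congr (MonoidHom.ofInjective hinj).toEquiv).symm
  have hX := card_psl_odd (F := K) (by rw [hK]; exact hq)
  have hX' := Linear.two_mul_card_PSL_two_of_odd (F := K) (by rw [hK]; exact hq)
  rw [hK, ← hcard] at hX hX'
  have h1 := card_psl_odd (F := F) (by rw [hF]; exact hq.pow)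
  rw [hF] at h1
  refine ⟨(pslExt f).range, isCoatom_of_card _ ?_ ?_, ⟨(MonoidHom.ofInjective hinj).symm⟩⟩
  · intro h
    have h2 : p ^ (e : ℕ) < (p ^ (e : ℕ)) ^ r :=
      lt_self_pow₀ (Nat.one_lt_pow e.ne_zero hp.one_lt) hr.one_lt
    have h3 := cube_sub_lt (Nat.pow_pos (n := (e : ℕ)) hp.pos) h2
    rw [h] at hX
    omega
  · intro M hM
    have hd := Subgroup.card_dvd_of_le hM
    have h60' : Nat.card M ∣ Nat.card (Matrix.ProjectiveSpecialLinearGroup (Fin 2) F) :=
      Subgroup.card_subgroup_dvd_card M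
    have hmem : ∀ x, pslExt f x ∈ M := fun x => hM ⟨x, rfl⟩
    rcases subfield_cases e.pos hr hFp M (X := Nat.card (pslExt f).range)
        (((Nat.coprime_primes hp Nat.prime_two).mpr hp2).pow_left _ |>.dvd_of_dvd_mul_left
          (by rw [hX', mul_assoc]; exact dvd_mul_right _ _))
        (by
          rw [hX', mul_comm 2 (e : ℕ), pow_mul, ← one_pow 2, Nat.sq_sub_sq, one_pow, mul_assoc,
            mul_comm (p ^ (e : ℕ) + 1)]
          exact dvd_mul_left _ _)
        hd (hmem a) (hmem b) (hmem a) (hmem b) hsq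
        (by rw [← map_pow, ha, map_one]) (by rw [← map_pow, hb, map_one]) hab with
      h | ⟨h, -⟩ | h | ⟨h3, h60⟩
    · exact Or.inr h
    · left; omega
    · exfalso
      have hM2 : Nat.card M = p ^ (e : ℕ) * ((p ^ (e : ℕ)) ^ 2 - 1) := by
        rw [Nat.mul_sub, mul_one, ← pow_succ', show 2 + 1 = 3 from rfl]; omega
      have h2 : 2 * Nat.card (Matrix.ProjectiveSpecialLinearGroup (Fin 2) F) =
          (p ^ (e : ℕ)) ^ r * (((p ^ (e : ℕ)) ^ r) ^ 2 - 1) := by
        rw [Nat.mul_sub, mul_one, ← pow_succ', show 2 + 1 = 3 from rfl]; omega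
      have hdvd : 2 * ((p ^ (e : ℕ)) ^ 2 - 1) ∣ ((p ^ (e : ℕ)) ^ r) ^ 2 - 1 := by
        have hco : Nat.Coprime (2 * ((p ^ (e : ℕ)) ^ 2 - 1)) ((p ^ (e : ℕ)) ^ r) := by
          refine (Nat.Coprime.mul_left ?_ ?_)
          · rw [Nat.coprime_two_left]; exact hq.pow
          · rw [← pow_mul p, ← pow_mul p]
            exact coprime_pow_sub_one hp (by have := e.pos; omega)
        refine hco.dvd_of_dvd_mul_left ?_
        rw [← h2]
        exact Nat.mul_dvd_mul_left 2 ((Dvd.intro_left _ hM2.symm).trans h60')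
      obtain ⟨x, hx⟩ : ∃ x, (p ^ (e : ℕ)) ^ 2 = 1 + x :=
        ⟨_, (Nat.add_sub_cancel' (Nat.one_le_pow _ _ (Nat.pow_pos hp.pos))).symm⟩
      rw [show ((p ^ (e : ℕ)) ^ r) ^ 2 = ((p ^ (e : ℕ)) ^ 2) ^ r by rw [← pow_mul, ← pow_mul _ 2, mul_comm r], hx,
        Nat.add_sub_cancel_left] at hdvd
      have hx0 : 0 < x := by
        have : 2 ≤ p ^ (e : ℕ) := hp.two_le.trans (Nat.le_self_pow e.ne_zero p)
        nlinarith
      have hxe : x % 2 = 0 := by
        have : ((p ^ (e : ℕ)) ^ 2) % 2 = 1 := Nat.odd_iff.mp hq.pow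
        omega
      have key : ∀ j, ∃ s, (1 + x) ^ j = 1 + x * s ∧ s % 2 = j % 2 := by
        intro j
        induction j with
        | zero => exact ⟨0, by simp⟩
        | succ j ih =>
          obtain ⟨s, h4, h5⟩ := ih
          refine ⟨1 + s + x * s, by rw [pow_succ, h4]; ring, ?_⟩
          rw [Nat.add_mod (1 + s), Nat.mul_mod, hxe, zero_mul, Nat.zero_mod, add_zero, Nat.mod_mod]
          omega
      obtain ⟨s, h4, h5⟩ := key r
      rw [h4, Nat.add_sub_cancel_left, mul_comm 2 x] at hdvd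
      have h6 := Nat.dvd_of_mul_dvd_mul_left hx0 hdvd
      have := hr.eq_two_or_odd
      omega
    · exfalso
      have h5 : 5 ∣ 2 * Nat.card (Matrix.ProjectiveSpecialLinearGroup (Fin 2) F) :=
        dvd_mul_of_dvd_right ((show 5 ∣ 60 by norm_num).trans (h60 ▸ h60')) _
      rw [h3] at h1
      rw [← Nat.modEq_zero_iff_dvd] at h5
      obtain ⟨t, rfl⟩ := hr.odd_of_ne_two hr2
      have h9 : ∀ u, 3 ^ (2 * u + 1) % 5 = 3 ∨ 3 ^ (2 * u + 1) % 5 = 2 := by
        intro u
        induction u with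
        | zero => simp
        | succ u ih =>
          rw [show 2 * (u + 1) + 1 = (2 * u + 1) + 2 by ring, pow_add, Nat.mul_mod]
          rcases ih with h | h <;> rw [h] <;> norm_num
      have h10 : ((3 ^ (2 * t + 1)) ^ 3) % 5 = (3 ^ (2 * t + 1) % 5) ^ 3 % 5 := Nat.pow_mod _ _ _
      rw [Nat.ModEq] at h5
      have hkey : ∀ P Q C : ℕ, 2 * P + Q = C → 2 * P % 5 = 0 % 5 →
          (Q % 5 = 3 ∧ C % 5 = 2 ∨ Q % 5 = 2 ∧ C % 5 = 3) → False := by
        clear * -
        intro P Q C e1 e2 e3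
        omega
      rcases h9 t with h | h
      · rw [h, show 3 ^ 3 % 5 = 2 from rfl] at h10
        exact hkey _ _ _ h1 h5 (Or.inl ⟨h, h10⟩)
      · rw [h, show 2 ^ 3 % 5 = 3 from rfl] at h10
        exact hkey _ _ _ h1 h5 (Or.inr ⟨h, h10⟩)

end Cfsg.Agent.S5942
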