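import Cfsg.Statements.S5943
import Cfsg.Agent.Lib.DicksonFull.Subfield

set_option autoImplicit false
open Cfsg Cfsg.Agent.Lib Cfsg.Agent.Lib.DicksonFull

namespace Cfsg.Agent.S5943

/-- Let K and F be finite fields of characteristic 2 with #K = q > 2 and #F = q^r for a prime r. Then PSL_2(F) has a maximal subgroup isomorphic to PSL_2(K) (which equals PGL_2(K) in characteristic 2). -/
theorem result {F K : Type*} [Field F] [Fintype F] [Field K] [Fintype K] (q r : ℕ) (hK : Fintype.card K = q) (hF : Fintype.card F = q ^ r) (hq : Even q) (hq2 : q ≠ 2) (hr : r.Prime) : ∃ H : Subgroup (Matrix.ProjectiveSpecialLinearGroup (Fin 2) F), IsCoatom H ∧ Nonempty (H ≃* Matrix.ProjectiveSpecialLinearGroup (Fin 2) K) := by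
  classical
  haveI := ringChar.charP K
  obtain ⟨e, hp, he⟩ := FiniteField.card K (ringChar K)
  generalize ringChar K = p at *
  haveI := Fact.mk hp
  rw [hK] at he
  subst he
  obtain rfl : p = 2 :=
    ((Nat.prime_dvd_prime_iff_eq Nat.prime_two hp).mp (Nat.prime_two.dvd_of_dvd_pow hq.two_dvd)).symm
  have hFp : Fintype.card F = 2 ^ ((e : ℕ) * r) := by rw [hF, pow_mul]
  haveI : CharP F 2 := charP_of_card hp hFp
  obtain ⟨f⟩ := exists_ringHom (K := K) (F := F) hK hFp
  have h4 : 4 ≤ 2 ^ (e : ℕ) := by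
    have : 2 ≤ (e : ℕ) := by
      by_contra h
      exact hq2 (by rw [show (e : ℕ) = 1 by have := e.pos; omega, pow_one])
    exact le_trans (by norm_num) (Nat.pow_le_pow_right two_pos this)
  obtain ⟨t, ht⟩ : ∃ t : K, t ∉ ({0, 1} : Finset K) := by
    by_contra! h
    have : (Finset.univ : Finset K).card ≤ ({0, 1} : Finset K).card := Finset.card_le_card fun x _ => h x
    rw [Finset.card_univ, hK] at this
    have := Finset.card_le_two (a := (0 : K)) (b := 1)
    omega
  simp only [Finset.mem_insert, Finset.mem_singleton, not_or] at ht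
  obtain ⟨⟨c, d, hc, hd', hcd⟩, a, b, hsq⟩ := witness_two f ht.1 ht.2
  have hinj := pslExt_injective f
  have hcard : Nat.card (pslExt f).range =
      Nat.card (Matrix.ProjectiveSpecialLinearGroup (Fin 2) K) :=
    (Nat.card_congr (MonoidHom.ofInjective hinj).toEquiv).symm
  have hX := card_psl_even (F := K) (by rw [hK]; exact hq)
  have hX' := Linear.card_PSL_two_of_even (F := K) (by rw [hK]; exact hq)
  rw [hK, ← hcard] at hX hX'
  have h1 := card_psl_even (F := F) (by rw [hF]; exact hq.pow_of_ne_zero hr.ne_zero)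
  rw [hF] at h1
  refine ⟨(pslExt f).range, isCoatom_of_card _ ?_ ?_, ⟨(MonoidHom.ofInjective hinj).symm⟩⟩
  · intro h
    have h2 : 2 ^ (e : ℕ) < (2 ^ (e : ℕ)) ^ r := lt_self_pow₀ (by omega) hr.one_lt
    have h3 := cube_sub_lt (Nat.pow_pos (n := (e : ℕ)) hp.pos) h2
    rw [h] at hX
    omega
  · intro M hM
    have hd := Subgroup.card_dvd_of_le hM
    have hmem : ∀ x, pslExt f x ∈ M := fun x => hM ⟨x, rfl⟩
    rcases subfield_cases e.pos hr hFp M (X := Nat.card (pslExt f).range)
        (by rw [hX', mul_assoc]; exact dvd_mul_right _ _)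
        (by
          rw [hX', mul_comm 2 (e : ℕ), pow_mul, ← one_pow 2, Nat.sq_sub_sq, one_pow, mul_assoc,
            mul_comm (2 ^ (e : ℕ) + 1)]
          exact dvd_mul_of_dvd_right (dvd_mul_left _ _) 2)
        hd (hmem a) (hmem b) (hmem c) (hmem d) hsq
        (by rw [← map_pow, hc, map_one]) (by rw [← map_pow, hd', map_one]) hcd with
      h | ⟨-, h⟩ | h | ⟨h3, -⟩
    · exact Or.inr h
    · exact absurd rfl h
    · left; omega
    · omega

end Cfsg.Agent.S5943
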