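import Cfsg.Statements.S5944
-- import your own Cfsg.Agent.* helpers here

set_option autoImplicit false
open Cfsg

namespace Cfsg.Agent.S5944

/-- For n ≠ 4, every proper subgroup of the symmetric group S_n other than the alternating group A_n has index at least n. -/
theorem result (n : ℕ) (hn : n ≠ 4) (H : Subgroup (Equiv.Perm (Fin n))) (hH : H ≠ ⊤) (hA : H ≠ alternatingGroup (Fin n)) : n ≤ H.index := by
  by_contra hlt
  push Not at hlt
  have hpos : H.index ≠ 0 := Subgroup.index_ne_zero_of_finite
  have hle2 : H.index ≤ 2 := by
    rcases le_or_gt n 3 with h3 | h3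
    · omega
    have h5 : 5 ≤ n := by omega
    let N := H.normalCore
    have hcard : N.index ≤ H.index.factorial := by
      rw [show N = H.normalCore from rfl, Subgroup.normalCore_eq_ker, Subgroup.index_ker]
      calc Nat.card (MulAction.toPermHom (Equiv.Perm (Fin n)) (Equiv.Perm (Fin n) ⧸ H)).range
          ≤ Nat.card (Equiv.Perm (Equiv.Perm (Fin n) ⧸ H)) :=
            Nat.card_le_card_of_injective _ Subtype.val_injective
        _ = H.index.factorial := by rw [Nat.card_perm]; rfl
    by_cases hN : N = ⊥
    · exfalso
      rw [hN, Subgroup.index_bot, Nat.card_perm, Nat.card_eq_fintype_card, Fintype.card_fin] at hcard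
      exact absurd hcard (not_le.mpr ((Nat.factorial_lt (Nat.pos_of_ne_zero hpos)).mpr hlt))
    · haveI : Nontrivial N := (Subgroup.nontrivial_iff_ne_bot N).mpr hN
      have hA : alternatingGroup (Fin n) ≤ H :=
        le_trans (Equiv.Perm.alternatingGroup_le_of_normal (by simpa using h5) (N := N) inferInstance)
          H.normalCore_le
      have hidx := Subgroup.index_antitone hA
      haveI : Nontrivial (Fin n) := Fin.nontrivial_iff_two_le.mpr (by omega)
      rw [alternatingGroup.index_eq_two] at hidx
      exact hidx
  rcases Nat.lt_or_ge H.index 2 with h | h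
  · exact hH (Subgroup.index_eq_one.mp (by omega))
  · exact hA (Equiv.Perm.eq_alternatingGroup_of_index_eq_two (by omega))

end Cfsg.Agent.S5944
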