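import Cfsg.Statements.S5947
import Cfsg.Agent.Lib.Singer.Primitive
import Cfsg.Agent.Lib.NumberTheory.Zsigmondy
-- import your own Cfsg.Agent.* helpers here

set_option autoImplicit false
open Cfsg

namespace Cfsg.Agent.S5947

/-- Let F ⊆ K be finite fields with |F| = q and [K : F] = n ≥ 2, regard K as an n-dimensional F-vector space, and let M ≤ GL_F(K) be the Singer group of multiplications by non-zero elements of K (cyclic of order q^n − 1). Assume (n, q) ≠ (6, 2), and that it is not the case that n = 2 with q a prime such that q + 1 is a power of 2. Then every abelian subgroup of GL_F(K) of order q^n − 1 is conjugate to M. -/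
theorem result {F K : Type*} [Field F] [Fintype F] [Field K] [Fintype K] [Algebra F K] (n : ℕ) (hn : 2 ≤ n) (hdim : Module.finrank F K = n)
    (hex1 : ¬ (n = 6 ∧ Fintype.card F = 2))
    (hex2 : ¬ (n = 2 ∧ (Fintype.card F).Prime ∧ ∃ a : ℕ, Fintype.card F + 1 = 2 ^ a))
    (U : Subgroup (Module.End F K)ˣ) (hU : IsMulCommutative U) (hcard : Nat.card U = Fintype.card K - 1) :
    ∃ g : (Module.End F K)ˣ, U.map (MulAut.conj g).toMonoidHom = (Units.map ((Algebra.lmul F K : K →ₐ[F] Module.End F K) : K →* Module.End F K)).range := by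
  classical
  have hq : 2 ≤ Fintype.card F := Fintype.one_lt_card
  have hK : Fintype.card K = Fintype.card F ^ n := by
    rw [Module.card_eq_pow_finrank (K := F) (V := K), hdim]
  obtain ⟨r, hr, hord⟩ := Lib.NumberTheory.exists_primitive_prime hq hn (fun h => hex1 ⟨h.2, h.1⟩)
    (by
      rintro ⟨rfl, m, hm⟩
      refine hex2 ⟨rfl, ?_, m, hm⟩
      obtain ⟨p, hp⟩ := CharP.exists F
      obtain ⟨k, hpp, hk⟩ := FiniteField.card F p
      have := Lib.Singer.prime_of_add_one_eq_two_pow hpp k.pos (hk ▸ hm)
      rw [hk, this, pow_one]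
      exact hpp)
  haveI : Fact r.Prime := ⟨hr⟩
  have hrU : r ∣ Nat.card U := by
    rw [hcard, hK, ← ZMod.natCast_eq_zero_iff, Nat.cast_sub (Nat.one_le_pow _ _ (by omega)),
      Nat.cast_pow, Nat.cast_one, ← hord, pow_orderOf_eq_one, sub_self]
  haveI : Finite (Module.End F K) := Module.finite_of_finite F
  obtain ⟨u₀, hu₀⟩ := exists_prime_orderOf_dvd_card' r hrU
  set u : Module.End F K := ((u₀ : (Module.End F K)ˣ) : Module.End F K) with hudef
  have hu₀' : orderOf (u₀ : (Module.End F K)ˣ) = r := by rw [Subgroup.orderOf_coe, hu₀]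
  have hur : u ^ r = 1 := by
    rw [hudef, ← Units.val_pow_eq_pow_val, ← hu₀', pow_orderOf_eq_one, Units.val_one]
  have hu : u ≠ 1 := by
    intro h
    rw [hudef, Units.val_eq_one] at h
    rw [h, orderOf_one] at hu₀'
    exact hr.ne_one hu₀'.symm
  obtain ⟨hF, hle⟩ := Lib.Singer.exists_field_centralizer hr (V := K) (by omega)
    (by rw [hord, hdim]) u hur hu
  set C := Subalgebra.centralizer F ({u} : Set (Module.End F K)) with hC
  have hUC : ∀ a : U, ((a : (Module.End F K)ˣ) : Module.End F K) ∈ C := by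
    intro a
    rw [hC, Subalgebra.mem_centralizer_iff]
    rintro _ rfl
    exact congrArg (fun b : U => ((b : (Module.End F K)ˣ) : Module.End F K)) (hU.is_comm.comm u₀ a)
  letI : Field C := hF.toField
  let toC : U → Cˣ := fun a => Units.mk0 ⟨_, hUC a⟩ (fun h => (a : (Module.End F K)ˣ).ne_zero
    (congrArg Subtype.val h))
  have htoC : Function.Injective toC := fun a b h =>
    Subtype.ext (Units.ext (congrArg (fun c : Cˣ => ((c : C) : Module.End F K)) h))
  haveI : Fintype C := Fintype.ofFinite C
  have hCcard : Fintype.card C = Fintype.card K := by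
    have h1 := Nat.card_le_card_of_injective toC htoC
    rw [hcard, Nat.card_units, Nat.card_eq_fintype_card] at h1
    rw [Nat.card_eq_fintype_card, Nat.card_eq_fintype_card] at hle
    have : 1 ≤ Fintype.card C := Fintype.card_pos
    omega
  have hrank : Module.finrank F C = Module.finrank F K :=
    Nat.pow_right_injective hq (Module.card_eq_pow_finrank.symm.trans
      (hCcard.trans Module.card_eq_pow_finrank))
  obtain ⟨φ⟩ := (FiniteField.nonempty_algHom_of_finrank_dvd (F := F) (K := C) (L := K)
    (hrank ▸ dvd_rfl))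
  let φe : C ≃ₗ[F] K := LinearEquiv.ofBijective φ.toLinearMap
    ((Fintype.bijective_iff_injective_and_card φ).mpr ⟨φ.toRingHom.injective, hCcard⟩)
  let ev : C →ₗ[F] K := (LinearMap.applyₗ (1 : K)).comp C.val.toLinearMap
  have hev : Function.Injective ev := by
    rw [injective_iff_map_eq_zero]
    intro c hc
    by_contra hne
    obtain ⟨d, hd⟩ : ∃ d : C, d * c = 1 := ⟨c⁻¹, inv_mul_cancel₀ hne⟩
    have := LinearMap.congr_fun (congrArg Subtype.val hd) (1 : K)
    change (d : Module.End F K) (ev c) = 1 at this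
    rw [hc, map_zero] at this
    exact zero_ne_one this
  let eve : C ≃ₗ[F] K := LinearEquiv.ofBijective ev
    ((Fintype.bijective_iff_injective_and_card ev).mpr ⟨hev, hCcard⟩)
  let g : K ≃ₗ[F] K := eve.symm.trans φe
  have hg : ∀ (c : C) (x : K), g ((c : Module.End F K) x) = φ c * g x := by
    intro c x
    obtain ⟨d, rfl⟩ := eve.surjective x
    have : (c : Module.End F K) (eve d) = eve (c * d) := rfl
    rw [this]
    simp only [g, LinearEquiv.trans_apply, LinearEquiv.symm_apply_apply]
    exact map_mul φ c d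
  let gu : (Module.End F K)ˣ := LinearMap.GeneralLinearGroup.ofLinearEquiv g
  refine ⟨gu, ?_⟩
  set S := (Units.map ((Algebra.lmul F K : K →ₐ[F] Module.End F K) : K →* Module.End F K)).range
  have hsub : U.map (MulAut.conj gu).toMonoidHom ≤ S := by
    rintro _ ⟨a, ha, rfl⟩
    refine ⟨Units.mk0 (φ ⟨_, hUC ⟨a, ha⟩⟩) ?_, ?_⟩
    · exact (map_ne_zero φ.toRingHom).mpr (toC ⟨a, ha⟩).ne_zero
    · refine Units.ext (LinearMap.ext fun x => ?_)
      obtain ⟨y, rfl⟩ := g.surjective x
      show φ ⟨_, hUC ⟨a, ha⟩⟩ * g y =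
        g (((a : (Module.End F K)ˣ) : Module.End F K) (g.symm (g y)))
      rw [g.symm_apply_apply]
      exact (hg ⟨_, hUC ⟨a, ha⟩⟩ y).symm
  refine Subgroup.eq_of_le_of_card_ge hsub ?_
  rw [Subgroup.card_map_of_injective (MulAut.conj gu).injective, hcard,
    ← Nat.card_eq_fintype_card (α := K), ← Nat.card_units]
  exact Nat.card_le_card_of_surjective _ (MonoidHom.rangeRestrict_surjective _)

end Cfsg.Agent.S5947
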