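import Cfsg.Statements.S5950
import Cfsg.Agent.Lib.Elusive.Subspaces
import Cfsg.Agent.Lib.Elusive.UnipotentType
-- import your own Cfsg.Agent.* helpers here

set_option autoImplicit false
open scoped MatrixGroups
open Cfsg

namespace Cfsg.Agent.S5950

/-- Elements of prime order of PSL_n(q) fixing no decomposition `F^n = U ⊕ W` with `dim U = m`. Here `T = PSL_n(F)` for a field `F` with `q = p^f` elements (`n ≥ 2`, `(n, q) ≠ (2, 2), (2, 3)`); an element of `T` of prime order `r` is represented by a matrix `x` of determinant 1 with `x^r` scalar and `x` not scalar; `i` denotes the multiplicative order of `q` modulo `r` (when `r ≠ p`), and `(a)_r` the `r`-part of `a`. Let `n ≥ 3`, `1 ≤ m < n/2`, and let `r` be a prime dividing the number of such decompositions (unordered pairs `{U, W}` of complementary subspaces with `dim U = m`; since `m ≠ n − m` these are the ordered pairs with `dim U = m`). Then every element of `T` of order `r` fixes such a pair (fixes both `U` and `W` for some complementary `U, W` with `dim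 U = m`) if and only if one of: (i) `r = p > 2` and every partition of `n` into parts of size at most `p` contains, as a sub-multiset, a partition of `m`; (ii) `r = p = 2` and `n` is odd or `m` is even; (iii) `r ≠ p`, `i = 1`, and `r ∣ m` or `(q−1)_r ≥ (n)_r` (with `q ≡ 1 (mod 4)` required when `r = 2` and `n` is even); (iv) `r ≠ p`, `2 ≤ i ≤ m` and `n mod i ≥ m mod i`. -/
theorem result {F : Type*} [Field F] [Fintype F] {p : ℕ} [Fact p.Prime] [CharP F p] {q : ℕ} (hq : Fintype.card F = q)
    (n m : ℕ) (hn : 3 ≤ n) (hm : 1 ≤ m) (hmn : 2 * m < n)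
    (r : ℕ) [Fact r.Prime]
    (hrΩ : r ∣ Nat.card {P : Submodule F (Fin n → F) × Submodule F (Fin n → F) // IsCompl P.1 P.2 ∧ Module.finrank F ↥P.1 = m}) :
    (∀ x : Matrix.SpecialLinearGroup (Fin n) F,
      (∃ c : F, ((x ^ r : Matrix.SpecialLinearGroup (Fin n) F) : Matrix (Fin n) (Fin n) F) = c • (1 : Matrix (Fin n) (Fin n) F)) →
      (∀ c : F, (x : Matrix (Fin n) (Fin n) F) ≠ c • (1 : Matrix (Fin n) (Fin n) F)) →
      ∃ U W : Submodule F (Fin n → F), IsCompl U W ∧ Module.finrank F ↥U = m ∧
        U.map (Matrix.toLin' (x : Matrix (Fin n) (Fin n) F)) ≤ U ∧ W.map (Matrix.toLin' (x : Matrix (Fin n) (Fin n) F)) ≤ W) ↔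
    ((r = p ∧ 2 < p ∧ (∀ μ : Multiset ℕ, (∀ a ∈ μ, 0 < a ∧ a ≤ p) → μ.sum = n → ∃ ν : Multiset ℕ, ν ≤ μ ∧ ν.sum = m)) ∨
     (r = p ∧ p = 2 ∧ (Odd n ∨ Even m)) ∨
     (r ≠ p ∧
      ((orderOf (q : ZMod r) = 1 ∧ (r ∣ m ∨ (padicValNat r n ≤ padicValNat r (q - 1) ∧ (r = 2 → Even n → q % 4 = 1)))) ∨
       (2 ≤ orderOf (q : ZMod r) ∧ orderOf (q : ZMod r) ≤ m ∧ m % orderOf (q : ZMod r) ≤ n % orderOf (q : ZMod r))))) := by
  classical
  subst hq
  have hrank : Module.finrank F (Fin n → F) = n := Module.finrank_fin_fun F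
  rcases eq_or_ne r p with rfl | hrp
  · -- the unipotent case: a question about partitions
    have key : (∀ x : Matrix.SpecialLinearGroup (Fin n) F,
        (∃ c : F, ((x ^ r : Matrix.SpecialLinearGroup (Fin n) F) : Matrix (Fin n) (Fin n) F) = c • (1 : Matrix (Fin n) (Fin n) F)) →
        (∀ c : F, (x : Matrix (Fin n) (Fin n) F) ≠ c • (1 : Matrix (Fin n) (Fin n) F)) →
        ∃ U W : Submodule F (Fin n → F), IsCompl U W ∧ Module.finrank F ↥U = m ∧
          U.map (Matrix.toLin' (x : Matrix (Fin n) (Fin n) F)) ≤ U ∧ W.map (Matrix.toLin' (x : Matrix (Fin n) (Fin n) F)) ≤ W) ↔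
        ∀ μ : Multiset ℕ, (∀ a ∈ μ, 0 < a ∧ a ≤ r) → μ.sum = n → ∃ ν : Multiset ℕ, ν ≤ μ ∧ ν.sum = m := by
      constructor
      · intro h μ hμ hsum
        by_cases hne : ∃ b ∈ μ, b ≠ 1
        case neg =>
          push Not at hne
          have h1 : μ = Multiset.replicate (Multiset.card μ) 1 := Multiset.eq_replicate_card.mpr hne
          refine ⟨Multiset.replicate m 1, ?_, by simp⟩
          rw [h1, Multiset.sum_replicate, smul_eq_mul, mul_one] at hsum
          rw [h1, hsum]
          exact (Multiset.replicate_le_replicate 1).mpr (by omega)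
        obtain ⟨s, d, x, hd, hd1, hdp, hxp, hns, ⟨C⟩⟩ :=
          Lib.Elusive.UnipotentType.exists_sl (F := F) r n μ hsum hμ hne
        obtain ⟨U, W, hc, hU, hUi, hWi⟩ :=
          h x ⟨1, by rw [hxp, Matrix.SpecialLinearGroup.coe_one, one_smul]⟩ hns
        set f : Module.End F (Fin n → F) := Matrix.toLin' (x : Matrix (Fin n) (Fin n) F)
        have hinv : ∀ X : Submodule F (Fin n → F), X.map f ≤ X → ∀ v ∈ X, (f - 1) v ∈ X := fun X hX v hv => by
          rw [LinearMap.sub_apply, Module.End.one_apply]
          exact X.sub_mem (hX (Submodule.mem_map_of_mem hv)) hv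
        obtain ⟨ν, hν, hνs⟩ := Lib.Elusive.UnipotentType.parts_le_of_inv C hd1
          ⟨r, C.pow_eq_zero_iff.mpr hdp⟩ hc (hinv U hUi) (hinv W hWi)
        exact ⟨ν, hd ▸ hν, hνs.trans hU⟩
      · rintro h x ⟨z, hz⟩ -
        set f : Module.End F (Fin n → F) := Matrix.toLin' (x : Matrix (Fin n) (Fin n) F) with hf
        rw [Lib.Elusive.Linear.eq_smul_one_iff, Lib.Elusive.Linear.toLin_pow, ← hf] at hz
        obtain ⟨c, hc⟩ := surjective_frobenius F r z
        rw [frobenius_def] at hc
        have hN : (f - c • 1) ^ r = 0 := by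
          have hcomm : Commute f (-(c • (1 : Module.End F (Fin n → F)))) :=
            ((Commute.one_right f).smul_right c).neg_right
          obtain ⟨w, hw⟩ := hcomm.exists_add_pow_prime_eq (Fact.out : r.Prime)
          have h0 : (r : Module.End F (Fin n → F)) = 0 := by
            rw [← map_natCast (algebraMap F (Module.End F (Fin n → F))), CharP.cast_eq_zero, map_zero]
          obtain ⟨w', hw'⟩ := (Commute.refl (c • (1 : Module.End F (Fin n → F)))).neg_left.exists_add_pow_prime_eq
            (Fact.out : r.Prime)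
          rw [neg_add_cancel, zero_pow (Fact.out : r.Prime).ne_zero, h0, zero_mul, zero_mul, zero_mul,
            add_zero, _root_.smul_pow, one_pow, hc] at hw'
          rw [sub_eq_add_neg, hw, h0, zero_mul, zero_mul, zero_mul, add_zero, hz, hw', add_comm]
        obtain ⟨s, d, hd1, ⟨C⟩⟩ := Lib.JordanType.exists_coords (f - c • 1) ⟨r, hN⟩
        obtain ⟨ν, hν, hνs⟩ := h (Lib.Elusive.UnipotentType.parts d) (fun a ha => by
          obtain ⟨k, -, rfl⟩ := Multiset.mem_map.mp ha
          exact ⟨hd1 k, C.pow_eq_zero_iff.mp hN k⟩)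
          (by rw [Lib.Elusive.UnipotentType.parts_sum, ← Lib.Elusive.UnipotentType.finrank_eq C, hrank])
        obtain ⟨U, W, hcp, hU, hUi, hWi⟩ := Lib.Elusive.UnipotentType.exists_inv_of_le C hν
        have hinv : ∀ X : Submodule F (Fin n → F), (∀ v ∈ X, (f - c • 1) v ∈ X) → X.map f ≤ X := by
          rintro X hX _ ⟨v, hv, rfl⟩
          have h1 : (f - c • 1) v + c • v = f v := by simp
          exact h1 ▸ X.add_mem (hX v hv) (X.smul_mem c hv)
        exact ⟨U, W, hcp, hU.trans hνs, hinv U hUi, hinv W hWi⟩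
    rw [key]
    rcases eq_or_ne r 2 with rfl | hr2
    · simp only [true_and, lt_irrefl, false_and, ne_eq, not_true_eq_false, or_false, false_or]
      constructor
      · intro h
        by_contra hcon
        rw [not_or, Nat.not_odd_iff_even, Nat.not_even_iff_odd] at hcon
        obtain ⟨⟨b, hb⟩, hmo⟩ := hcon
        obtain ⟨ν, hν, hνs⟩ := h (Multiset.replicate b 2)
          (fun a ha => by rw [Multiset.eq_of_mem_replicate ha]; omega) (by simp; omega)
        obtain ⟨k, -, rfl⟩ := Multiset.le_replicate_iff.mp hν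
        simp at hνs
        exact (Nat.not_even_iff_odd.mpr hmo) ⟨k, by omega⟩
      · intro h μ hμ hsum
        have hμeq : μ = Multiset.replicate (μ.count 1) 1 + Multiset.replicate (μ.count 2) 2 := by
          ext a
          rw [Multiset.count_add, Multiset.count_replicate, Multiset.count_replicate]
          by_cases ha : a ∈ μ
          · obtain ⟨h0, h2⟩ := hμ a ha
            interval_cases a <;> simp
          · rw [Multiset.count_eq_zero.mpr ha]
            split_ifs with h1 h2 <;> subst_vars <;> simp [Multiset.count_eq_zero.mpr ha] at *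
        have hs : μ.count 1 + μ.count 2 * 2 = n := by
          rw [← hsum]; conv_rhs => rw [hμeq]
          simp
        refine ⟨Multiset.replicate (m - min (μ.count 2) (m / 2) * 2) 1 +
          Multiset.replicate (min (μ.count 2) (m / 2)) 2, ?_, by simp; omega⟩
        conv_rhs => rw [hμeq]
        refine add_le_add ((Multiset.replicate_le_replicate 1).mpr ?_)
          ((Multiset.replicate_le_replicate 2).mpr (min_le_left _ _))
        rcases h with ⟨b, hb⟩ | ⟨b, hb⟩ <;> omega
    · have h2 : 2 < r := lt_of_le_of_ne (Fact.out : r.Prime).two_le (Ne.symm hr2)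
      simp only [true_and, h2, hr2, false_and, or_false, ne_eq, not_true_eq_false]
  · -- the semisimple case
    have hrF : (r : F) ≠ 0 := Lib.Elusive.Subspaces.natCast_ne_zero (p := p) hrp
    have hrq : ¬ r ∣ Fintype.card F := fun hd => by
      obtain ⟨e, -, he⟩ := FiniteField.card F p
      rw [he] at hd
      exact hrp ((Nat.prime_dvd_prime_iff_eq Fact.out Fact.out).mp
        ((Fact.out : r.Prime).dvd_of_dvd_pow hd))
    obtain ⟨-, hj⟩ := Lib.Elusive.Subspaces.subspace_count (p := p) (r := r) (m := m)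
      (V := Fin n → F) (by rw [hrank]; omega)
      (Lib.Elusive.GrassCount.dvd_card_compl_pairs Fact.out hrq hrΩ)
    rw [hrank] at hj
    refine Iff.trans ?_ ((Lib.Elusive.Subspaces.subspaces_iff hrF (n := n) (by omega) (by omega) hj).trans ?_)
    · refine forall_congr' fun x => imp_congr_right fun hz => imp_congr_right fun _ => ⟨?_, ?_⟩
      · rintro ⟨U, W, -, hU, hUi, -⟩
        exact ⟨U, hU, hUi⟩
      · rintro ⟨U, hU, hUi⟩
        obtain ⟨z, hz⟩ := hz
        rw [Lib.Elusive.Linear.eq_smul_one_iff, Lib.Elusive.Linear.toLin_pow] at hz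
        have hz0 : z ≠ 0 := by
          rintro rfl
          have h1 := congrArg LinearMap.det hz
          rw [map_pow, LinearMap.det_toLin', x.2, one_pow, LinearMap.det_smul, hrank,
            zero_pow (by omega), zero_mul] at h1
          exact one_ne_zero h1
        obtain ⟨W, hW, -, hd, hs⟩ := Lib.Elusive.exists_compl
          (Lib.Elusive.isSemisimple_of_pow_eq hrF hz0 hz) (Lib.Elusive.Inv.top _) hUi le_top
        exact ⟨U, W, ⟨disjoint_iff.mpr hd, codisjoint_iff.mpr hs⟩, hU, hUi, hW⟩
    · simp only [hrp, false_and, false_or, ne_eq, not_false_eq_true, true_and]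
      rfl

end Cfsg.Agent.S5950
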