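import Cfsg.Statements.S5952
-- import your own Cfsg.Agent.* helpers here

set_option autoImplicit false
open Cfsg

namespace Cfsg.Agent.S5952

/-- Which dimensions of invariant subspaces a semisimple linear map has. Let `V` be a finite-dimensional vector space over a field `F` and `f` an invertible semisimple linear map of `V`. Suppose `V` is the internal direct sum of the fixed space `C_V(f)` (the eigenspace for 1) and subspaces `U_1, …, U_s`, each `f`-invariant of dimension `a ≥ 1` on which `f` acts irreducibly (no `f`-invariant subspaces other than 0 and `U_j`). Let `0 < m < dim V` and `ℓ = m mod a`. Then `f` leaves some `m`-dimensional subspace invariant if and only if `dim C_V(f) ≥ m`, or `a ≤ m` and `dim C_V(f) ≥ ℓ`. -/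
theorem result {F V : Type*} [Field F] [AddCommGroup V] [Module F V]
    [FiniteDimensional F V] (f : V →ₗ[F] V) (hf : Function.Bijective f) (hss : Module.End.IsSemisimple f)
    {s a : ℕ} (ha : 1 ≤ a) (U : Fin s → Submodule F V)
    (hUinv : ∀ j, (U j).map f ≤ U j) (hUdim : ∀ j, Module.finrank F ↥(U j) = a)
    (hUirr : ∀ j, ∀ W : Submodule F V, W ≤ U j → W.map f ≤ W → W = ⊥ ∨ W = U j)
    (hdec : DirectSum.IsInternal (fun o : Option (Fin s) => o.elim (Module.End.eigenspace f 1) U))
    (m : ℕ) (hm : 0 < m) (hmV : m < Module.finrank F V) :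
    (∃ W : Submodule F V, Module.finrank F ↥W = m ∧ W.map f ≤ W) ↔
    (m ≤ Module.finrank F ↥(Module.End.eigenspace f 1) ∨
      (a ≤ m ∧ m % a ≤ Module.finrank F ↥(Module.End.eigenspace f 1))) := by
  classical
  let E : Submodule F V := Module.End.eigenspace f 1
  let X : Finset (Fin s) → Submodule F V := fun T => T.sup U
  have hindep := hdec.submodule_iSupIndep
  have htop := hdec.submodule_iSup_eq_top
  have hEinv : ∀ E' : Submodule F V, E' ≤ E → E'.map f ≤ E' := by
    rintro E' hE' _ ⟨v, hv, rfl⟩
    have h : f v = (1 : F) • v := Module.End.mem_eigenspace_iff.mp (hE' hv)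
    rw [h, one_smul]; exact hv
  have hXinv : ∀ T, (X T).map f ≤ X T := by
    intro T
    induction T using Finset.induction_on with
    | empty => simp [X]
    | @insert j T _ ih =>
      simp only [X, Finset.sup_insert, Submodule.map_sup] at *
      exact sup_le_sup (hUinv j) ih
  have hdisj : ∀ (E' : Submodule F V), E' ≤ E → ∀ T : Finset (Fin s), ∀ j ∉ T,
      Disjoint (U j) (E' ⊔ X T) := by
    intro E' hE' T j hj
    refine Disjoint.mono_right ?_ (hindep (some j))
    refine sup_le (hE'.trans ?_) (Finset.sup_le fun k hk => ?_)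
    · exact le_iSup₂_of_le none (Option.some_ne_none j).symm le_rfl
    · exact le_iSup₂_of_le (some k)
        (fun h => hj (Option.some_injective _ h ▸ hk)) le_rfl
  have hdim : ∀ (E' : Submodule F V), E' ≤ E → ∀ T : Finset (Fin s),
      Module.finrank F ↥(E' ⊔ X T) = Module.finrank F ↥E' + T.card * a := by
    intro E' hE' T
    induction T using Finset.induction_on with
    | empty => rw [show E' ⊔ X ∅ = E' by simp [X], Finset.card_empty, zero_mul, add_zero]
    | @insert j T hj ih =>
      have h1 : E' ⊔ X (insert j T) = U j ⊔ (E' ⊔ X T) := by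
        simp [X, Finset.sup_insert, sup_left_comm]
      have h2 := Submodule.finrank_sup_add_finrank_inf_eq (U j) (E' ⊔ X T)
      rw [disjoint_iff.mp (hdisj E' hE' T j hj), finrank_bot, add_zero, hUdim, ih] at h2
      rw [h1, h2, Finset.card_insert_of_notMem hj, Nat.add_mul, one_mul]
      omega
  have hfull : E ⊔ X Finset.univ = ⊤ := by
    rw [eq_top_iff, ← htop]
    refine iSup_le ?_
    rintro (_ | j)
    · exact le_sup_left
    · exact (Finset.le_sup (f := U) (Finset.mem_univ j)).trans le_sup_right
  constructor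
  · rintro ⟨W, hW, hWinv⟩
    have hkey : ∀ T : Finset (Fin s), ∃ c : ℕ,
        Module.finrank F ↥(W ⊓ (E ⊔ X T)) = Module.finrank F ↥(W ⊓ E) + c * a := by
      intro T
      induction T using Finset.induction_on with
      | empty => exact ⟨0, by rw [show E ⊔ X ∅ = E by simp [X], zero_mul, add_zero]⟩
      | @insert j T hj ih =>
        obtain ⟨c, hc⟩ := ih
        have h1 : E ⊔ X (insert j T) = (E ⊔ X T) ⊔ U j := by
          simp only [X, Finset.sup_insert]; rw [sup_comm (U j), sup_assoc]
        rw [h1]
        have hYinv : (E ⊔ X T).map f ≤ E ⊔ X T := by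
          rw [Submodule.map_sup]
          exact sup_le_sup (hEinv E le_rfl) (hXinv T)
        by_cases hle : W ⊓ ((E ⊔ X T) ⊔ U j) ≤ E ⊔ X T
        · refine ⟨c, ?_⟩
          rw [← hc]
          have : W ⊓ ((E ⊔ X T) ⊔ U j) = W ⊓ (E ⊔ X T) :=
            le_antisymm (le_inf inf_le_left hle) (inf_le_inf_left _ le_sup_left)
          rw [this]
        · refine ⟨c + 1, ?_⟩
          have hW'inv : (W ⊓ ((E ⊔ X T) ⊔ U j)).map f ≤ W ⊓ ((E ⊔ X T) ⊔ U j) := by
            refine le_inf ((Submodule.map_mono inf_le_left).trans hWinv)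
              ((Submodule.map_mono inf_le_right).trans ?_)
            rw [Submodule.map_sup]
            exact sup_le_sup hYinv (hUinv j)
          rcases hUirr j (U j ⊓ ((W ⊓ ((E ⊔ X T) ⊔ U j)) ⊔ (E ⊔ X T))) inf_le_left (by
              refine le_inf ((Submodule.map_mono inf_le_left).trans (hUinv j))
                ((Submodule.map_mono inf_le_right).trans ?_)
              rw [Submodule.map_sup]
              exact sup_le_sup hW'inv hYinv) with h | h
          · exfalso
            apply hle
            intro w hw
            obtain ⟨y, hy, u, hu, hyu⟩ := Submodule.mem_sup.mp hw.2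
            have hu' : u ∈ U j ⊓ ((W ⊓ ((E ⊔ X T) ⊔ U j)) ⊔ (E ⊔ X T)) := by
              refine ⟨hu, ?_⟩
              have : u = w - y := by rw [← hyu]; abel
              rw [this]
              exact sub_mem (Submodule.mem_sup_left hw) (Submodule.mem_sup_right hy)
            rw [h, Submodule.mem_bot] at hu'
            rw [← hyu, hu', add_zero]
            exact hy
          · have h2 : (W ⊓ ((E ⊔ X T) ⊔ U j)) ⊔ (E ⊔ X T) = (E ⊔ X T) ⊔ U j := by
              refine le_antisymm (sup_le inf_le_right le_sup_left) (sup_le le_sup_right ?_)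
              calc U j = U j ⊓ ((W ⊓ ((E ⊔ X T) ⊔ U j)) ⊔ (E ⊔ X T)) := h.symm
                _ ≤ _ := inf_le_right
            have h3 := Submodule.finrank_sup_add_finrank_inf_eq (W ⊓ ((E ⊔ X T) ⊔ U j)) (E ⊔ X T)
            have h4 : W ⊓ ((E ⊔ X T) ⊔ U j) ⊓ (E ⊔ X T) = W ⊓ (E ⊔ X T) := by
              rw [inf_assoc, inf_eq_right.mpr (le_sup_left : E ⊔ X T ≤ (E ⊔ X T) ⊔ U j)]
            rw [h2, h4, hc] at h3
            have h5 := Submodule.finrank_sup_add_finrank_inf_eq (E ⊔ X T) (U j)
            rw [disjoint_iff.mp (hdisj E le_rfl T j hj).symm, finrank_bot, add_zero, hUdim] at h5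
            rw [Nat.add_mul, one_mul]
            omega
    obtain ⟨c, hc⟩ := hkey Finset.univ
    rw [hfull, inf_top_eq, hW] at hc
    have hle : Module.finrank F ↥(W ⊓ E) ≤ Module.finrank F ↥E := Submodule.finrank_mono inf_le_right
    rcases Nat.eq_zero_or_pos c with rfl | hcpos
    · left; show m ≤ Module.finrank F ↥E; omega
    · right
      refine ⟨?_, ?_⟩
      · have := Nat.le_mul_of_pos_left a hcpos
        omega
      · show m % a ≤ Module.finrank F ↥E
        rw [hc, Nat.add_mul_mod_self_right]
        exact (Nat.mod_le _ _).trans hle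
  · intro h
    obtain ⟨k, hks, hkm, hke⟩ : ∃ k ≤ s, k * a ≤ m ∧ m - k * a ≤ Module.finrank F ↥E := by
      rcases h with h | ⟨-, h⟩
      · exact ⟨0, Nat.zero_le _, by simp, by simpa using h⟩
      · have hV := hdim E le_rfl Finset.univ
        rw [hfull, finrank_top, Finset.card_univ, Fintype.card_fin] at hV
        rcases le_or_gt (m / a) s with hq | hq
        · refine ⟨m / a, hq, Nat.div_mul_le_self _ _, ?_⟩
          have := Nat.div_add_mod' m a
          show m - m / a * a ≤ Module.finrank F ↥(Module.End.eigenspace f 1)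
          omega
        · refine ⟨s, le_rfl, ?_, by omega⟩
          exact (Nat.mul_le_mul_right a hq.le).trans (Nat.div_mul_le_self _ _)
    obtain ⟨E', hE', hE'dim⟩ : ∃ E' ≤ E, Module.finrank F ↥E' = m - k * a := by
      obtain ⟨v, hv⟩ := exists_linearIndependent_of_le_finrank (R := F) (M := ↥E) hke
      refine ⟨Submodule.span F (Set.range (E.subtype ∘ v)), ?_, ?_⟩
      · rw [Submodule.span_le]
        rintro _ ⟨i, rfl⟩
        exact (v i).2
      · rw [finrank_span_eq_card (hv.map' E.subtype (Submodule.ker_subtype E)), Fintype.card_fin]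
    obtain ⟨T, -, hT⟩ := Finset.exists_subset_card_eq (s := (Finset.univ : Finset (Fin s)))
      (n := k) (by simpa using hks)
    refine ⟨E' ⊔ X T, ?_, ?_⟩
    · rw [hdim E' hE' T, hE'dim, hT]; omega
    · rw [Submodule.map_sup]
      exact sup_le_sup (hEinv E' hE') (hXinv T)

end Cfsg.Agent.S5952
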