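import Cfsg.Statements.S5953
import Cfsg.Agent.Lib.Elusive.UnitBlocks
import Cfsg.Agent.Lib.Elusive.Linear
import Cfsg.Agent.Lib.Forms.SUStab

set_option autoImplicit false
open scoped MatrixGroups
open Cfsg

namespace Cfsg.Agent.S5953

open Module Cfsg.Agent.Lib.Unitary Cfsg.Agent.Lib.Elusive Cfsg.Agent.Lib.Elusive.UnitIso
  Cfsg.Agent.Lib.Elusive.UnitPieces Cfsg.Agent.Lib.Elusive.UnitBlocks

section

variable {F : Type*} [Field F] [Fintype F] {q n m : ℕ}

/-- Some totally isotropic subspace of dimension `m` is invariant. -/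
def Fix (q m : ℕ) (f : Module.End F (Fin n → F)) : Prop :=
  ∃ W : Submodule F (Fin n → F), finrank F ↥W = m ∧ TI q W ∧ Lib.Elusive.Inv f W

/-- All elements of order `r` modulo scalars fix a subspace. -/
def AllFix (F : Type*) [Field F] (q n m r : ℕ) : Prop :=
  ∀ x : Matrix.SpecialLinearGroup (Fin n) F, x ∈ Cfsg.SU n F q →
    (∃ z : F, ((x ^ r : Matrix.SpecialLinearGroup (Fin n) F) : Matrix (Fin n) (Fin n) F) = z • (1 : Matrix (Fin n) (Fin n) F)) →
    (∀ z : F, (x : Matrix (Fin n) (Fin n) F) ≠ z • (1 : Matrix (Fin n) (Fin n) F)) →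
    Fix q m (Matrix.toLin' (x : Matrix (Fin n) (Fin n) F))

theorem Fix.of_smul {f : Module.End F (Fin n → F)} {w : F} (hw : w ≠ 0) (h : Fix q m (w • f)) : Fix q m f := by
  obtain ⟨W, hW, hti, hinv⟩ := h
  rw [Lib.Elusive.Inv, Submodule.map_smul _ _ _ hw] at hinv
  exact ⟨W, hW, hti, hinv⟩

theorem AllFix.apply {r : ℕ} (h : AllFix F q n m r) {f : Module.End F (Fin n → F)}
    (hf : Isometric q f) (hdet : LinearMap.det f = 1) {z : F} (hz : f ^ r = z • 1)
    (hne : ∀ t : F, f ≠ t • 1) : Fix q m f := by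
  obtain ⟨x, hx⟩ := Linear.exists_sl f hdet
  rw [← hx] at hf hz hne ⊢
  refine h x (fun u v => by simpa [Matrix.toLin'_apply] using hf u v)
    ⟨z, by rw [Linear.eq_smul_one_iff, Linear.toLin_pow, hz]⟩ fun t ht => ?_
  exact hne t ((Linear.eq_smul_one_iff _ _).mp ht)

theorem exists_scalar {r : ℕ} (hF : Fintype.card F = q ^ 2) (hn : 0 < n)
    {x : Matrix.SpecialLinearGroup (Fin n) F} (hx : x ∈ Cfsg.SU n F q) {z : F}
    (hz : ((x ^ r : Matrix.SpecialLinearGroup (Fin n) F) : Matrix (Fin n) (Fin n) F) = z • (1 : Matrix (Fin n) (Fin n) F)) :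
    Isometric q (Matrix.toLin' (x : Matrix (Fin n) (Fin n) F)) ∧
      Matrix.toLin' (x : Matrix (Fin n) (Fin n) F) ^ r = z • 1 ∧ z ^ (q + 1) = 1 ∧
      LinearMap.det (Matrix.toLin' (x : Matrix (Fin n) (Fin n) F)) = 1 := by
  have hiso : Isometric q (Matrix.toLin' (x : Matrix (Fin n) (Fin n) F)) := fun u v => by
    simpa [Matrix.toLin'_apply] using (mem_SU_iff.mp hx) u v
  have hfr : Matrix.toLin' (x : Matrix (Fin n) (Fin n) F) ^ r = z • 1 := by
    rw [← Linear.toLin_pow, ← Linear.eq_smul_one_iff, hz]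
  refine ⟨hiso, hfr, ?_, by rw [LinearMap.det_toLin']; exact x.2⟩
  have h1 := hiso.pow r (Pi.single ⟨0, hn⟩ 1) (Pi.single ⟨0, hn⟩ 1)
  rw [hfr, LinearMap.smul_apply, Module.End.one_apply, herm_smul_left, herm_smul_right, herm_std hF,
    if_pos rfl, mul_one, ← pow_succ'] at h1
  exact h1

theorem smul_isometric {f : Module.End F (Fin n → F)} (hf : Isometric q f) {w : F} (hw : w ^ (q + 1) = 1) :
    Isometric q (w • f) := fun u v => by
  rw [LinearMap.smul_apply, LinearMap.smul_apply, herm_smul_left, herm_smul_right, hf, ← mul_assoc,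
    ← pow_succ', hw, one_mul]

/-- A prime dividing the count divides some `q ^ k - (-1) ^ k`. -/
theorem exists_exp (hF : Fintype.card F = q ^ 2) (hmn : 2 * m ≤ n) {r : ℕ} [hr : Fact r.Prime]
    (h : r ∣ Nat.card {W : Submodule F (Fin n → F) // finrank F ↥W = m ∧
      (∀ u ∈ W, ∀ v ∈ W, hermForm n F q u v = 0)}) :
    ∃ k, n - 2 * m < k ∧ k ≤ n ∧ (q : ZMod r) ^ k = (-1) ^ k := by
  classical
  let X := {W : Submodule F (Fin n → F) // finrank F ↥W = m ∧ (∀ u ∈ W, ∀ v ∈ W, hermForm n F q u v = 0)}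
  haveI : Finite (Submodule F (Fin n → F)) := Finite.of_injective _ SetLike.coe_injective
  haveI : Fintype X := Fintype.ofFinite X
  let Φ : (Σ W : X, {s : Fin m → W.1 // LinearIndependent F s}) → Lib.Forms.SUStab.isoTuples (F := F) q n m :=
    fun p => ⟨fun a => (p.2.1 a : Fin n → F), p.2.2.map' p.1.1.subtype p.1.1.ker_subtype,
      fun a b => p.1.2.2 _ (p.2.1 a).2 _ (p.2.1 b).2⟩
  have hspan : ∀ (W : X) (s : Fin m → W.1), LinearIndependent F s →
      Submodule.span F (Set.range fun a => (s a : Fin n → F)) = W.1 := fun W s hs => by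
    refine Submodule.eq_of_le_of_finrank_eq ?_ ((finrank_span_eq_card
      (hs.map' W.1.subtype W.1.ker_subtype)).trans (by rw [Fintype.card_fin, W.2.1]))
    rw [Submodule.span_le]
    rintro _ ⟨a, rfl⟩
    exact (s a).2
  have hΦ : Function.Bijective Φ := by
    refine ⟨?_, fun v => ?_⟩
    · rintro ⟨W, s, hs⟩ ⟨W', s', hs'⟩ h
      have h0 : (fun a => (s a : Fin n → F)) = fun a => (s' a : Fin n → F) := congrArg Subtype.val h
      obtain rfl : W = W' := Subtype.ext (by rw [← hspan W s hs, ← hspan W' s' hs', h0])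
      exact Sigma.ext rfl (heq_of_eq (Subtype.ext (_root_.funext fun a => Subtype.ext (congrFun h0 a))))
    · have hiso : TI q (Submodule.span F (Set.range v.1)) := by
        rw [ti_iff_le_perp, Submodule.span_le]
        rintro _ ⟨a, rfl⟩
        exact (mem_perp_span_range hF).mpr (v.2.2 a)
      exact ⟨⟨⟨_, (finrank_span_eq_card v.2.1).trans (Fintype.card_fin m), hiso⟩,
        fun a => ⟨v.1 a, Submodule.subset_span ⟨a, rfl⟩⟩,
        LinearIndependent.of_comp (Submodule.span F (Set.range v.1)).subtype v.2.1⟩, rfl⟩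
  have h2 : ∀ W : X, Nat.card {s : Fin m → W.1 // LinearIndependent F s} =
      ∏ j ∈ Finset.range m, ((q ^ 2) ^ m - (q ^ 2) ^ j) := fun W => by
    haveI : Fintype W.1 := Fintype.ofFinite _
    rw [card_linearIndependent (K := F) (V := W.1) (by rw [W.2.1]), W.2.1,
      Finset.prod_range fun j => (q ^ 2) ^ m - (q ^ 2) ^ j, hF]
  have h1 := (Nat.card_eq_of_bijective Φ hΦ).trans (Lib.Forms.SUStab.card_isoTuples hF m)
  rw [Nat.card_sigma, Finset.sum_congr rfl fun W _ => h2 W, Finset.sum_const,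
    smul_eq_mul, Finset.card_univ, ← Nat.card_eq_fintype_card] at h1
  have hl : ∀ j ∈ Finset.range m, (q ^ 2) ^ m - (q ^ 2) ^ j = (q ^ 2) ^ j * ((q ^ 2) ^ (m - j) - 1) :=
    fun j hj => by
      rw [Finset.mem_range] at hj
      rw [Nat.mul_sub, mul_one, ← pow_add, Nat.add_sub_cancel' hj.le]
  rw [Finset.prod_congr rfl hl, Finset.prod_mul_distrib, Finset.prod_mul_distrib, mul_left_comm] at h1
  have h3 := Nat.eq_of_mul_eq_mul_left (Finset.prod_pos fun j _ =>
    pow_pos (pow_pos (show 0 < q by have := one_lt_q hF; omega) 2) _) h1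
  obtain ⟨j, hj, hjr⟩ := (Prime.dvd_finsetProd_iff hr.out.prime _).mp (h3 ▸ dvd_mul_of_dvd_left h _)
  rw [Finset.mem_range] at hj
  obtain ⟨M, hM⟩ : ∃ M, n - 2 * j = M + 1 := ⟨n - 2 * j - 1, by omega⟩
  rw [hM, countNull_succ_eq hF, Nat.add_sub_cancel] at hjr
  have h1q : ∀ e, 1 ≤ q ^ e := fun e => Nat.one_le_pow _ _ (by have := one_lt_q hF; omega)
  have hadd : ∀ e, r ∣ q ^ e + 1 → (q : ZMod r) ^ e = -1 := fun e he => by
    rw [← ZMod.natCast_eq_zero_iff] at he
    push_cast at he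
    exact eq_neg_of_add_eq_zero_left he
  have hsub : ∀ e, r ∣ q ^ e - 1 → (q : ZMod r) ^ e = 1 := fun e he => by
    rw [← ZMod.natCast_eq_zero_iff, Nat.cast_sub (h1q e)] at he
    push_cast at he
    exact sub_eq_zero.mp he
  split_ifs at hjr with he
  · rcases hr.out.dvd_mul.mp hjr with h4 | h4
    · exact ⟨M + 1, by omega, by omega, by rw [hadd _ h4, he.add_one.neg_one_pow]⟩
    · exact ⟨M, by omega, by omega, by rw [hsub _ h4, he.neg_one_pow]⟩
  · have ho := Nat.not_even_iff_odd.mp he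
    rcases hr.out.dvd_mul.mp hjr with h4 | h4
    · exact ⟨M + 1, by omega, by omega, by rw [hsub _ h4, ho.add_one.neg_one_pow]⟩
    · exact ⟨M, by omega, by omega, by rw [hadd _ h4, ho.neg_one_pow]⟩

theorem mod_lt_of_exp {c k : ℕ} (hc : 0 < c) (hck : c ∣ k) (hk : n - 2 * m < k) (hkn : k ≤ n)
    (hmn : 2 * m ≤ n) : n % c < 2 * m := by
  obtain ⟨l, rfl⟩ := hck
  have h1 : l ≤ n / c := (Nat.le_div_iff_mul_le hc).mpr (by rw [mul_comm]; exact hkn)
  have h2 := Nat.mul_le_mul_left c h1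
  have h3 := Nat.mod_add_div n c
  omega

section OddPrime

variable {r : ℕ} [hr : Fact r.Prime] {g : Module.End F (Fin n → F)}

theorem hu_of_root (hrF : (r : F) ≠ 0) (hgr : g ^ r = 1) :
    IsUniform g 1 (orderOf (Fintype.card F : ZMod r)) :=
  isUniform_split hrF one_ne_zero (by rw [hgr, one_pow, one_smul])

/-- An isotropic invariant subspace from `k` pieces and a part in the fixed space. -/
theorem fix_of_parts (hF : Fintype.card F = q ^ 2) (hg : Isometric q g)
    {Z U : Submodule F (Fin n → F)} (hZ : Lib.Elusive.Inv g Z) (hZE : Z ⊓ End.eigenspace g (1 : F) = ⊥)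
    (hEnd : Nondeg q (⊤ ⊓ End.eigenspace g (1 : F))) (hUZ : U ≤ Z) (hU : Lib.Elusive.Inv g U) (hUti : TI q U)
    {d : ℕ} (hUd : finrank F U = d) (hdm : d ≤ m)
    (hE : 2 * (m - d) ≤ finrank F ↥(⊤ ⊓ End.eigenspace g (1 : F))) : Fix q m g := by
  obtain ⟨W, hWE, hWti, hWd⟩ := exists_ti hF hEnd hE
  refine ⟨U ⊔ W, ?_, ti_sup hF hUti hWti fun u hu w hw => hg.perp_fixed hF hZ hZE u (hUZ hu) w (hWE hw).2,
    hU.sup (Inv.of_le_eigenspace (hWE.trans inf_le_right))⟩
  rw [finrank_sup_of_disjoint (le_bot_iff.mp (hZE ▸ inf_le_inf hUZ (hWE.trans inf_le_right))), hUd, hWd]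
  omega

/-- All pieces isotropic. -/
theorem fix_paired (hF : Fintype.card F = q ^ 2) (hrF : (r : F) ≠ 0) (hg : Isometric q g) (hgr : g ^ r = 1)
    (hni : ∀ k, Odd k → (q : ZMod r) ^ k ≠ -1) {b : ℕ} (hb : orderOf (Fintype.card F : ZMod r) = b)
    (hmn : 2 * m ≤ n) (hle : 2 * (m % b) ≤ n % (2 * b)) : Fix q m g := by
  have hu := hu_of_root hrF hgr
  rw [hb] at hu
  obtain ⟨Z, hZ, -, hZE, hZnd, hEnd, hdim⟩ := hg.fixed_split hF hu.semisimple (Inv.top g) (nondeg_top' hF)
  rw [finrank_top, finrank_fin_fun] at hdim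
  have hpiece : ∀ Y, Lib.Elusive.Inv g Y → Nondeg q Y → Y ⊓ End.eigenspace g (1 : F) = ⊥ → 0 < finrank F Y →
      ∃ P, P ≤ Y ∧ Lib.Elusive.Inv g P ∧ TI q P ∧ finrank F P = b := fun Y hY _ hYE hpos => by
    rw [← hb]
    exact exists_piece_paired hF hg hgr hrF hni hY hYE hpos
  obtain ⟨l, hl⟩ := hu.exists_type hZ
  have hZd := hl.2.2
  rw [hZE, finrank_bot, zero_add] at hZd
  obtain ⟨s, hs⟩ : 2 ∣ l := by
    by_contra hodd
    obtain ⟨W, hWZ, -, hWti, hWd⟩ := hg.exists_ti_inv hF hu hpiece ((l + 1) / 2) Z hZ hZnd hZE fun _ => by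
      rw [hZd, add_zero]
      exact Nat.mul_lt_mul_of_pos_right (by omega) hu.pos
    have h1 := two_mul_finrank_le hF hZnd hWZ hWti
    rw [hWd, hZd, ← mul_assoc] at h1
    have := Nat.le_of_mul_le_mul_right h1 hu.pos
    omega
  subst hs
  obtain ⟨U, hUZ, hU, hUti, hUd⟩ := hg.exists_ti_inv hF hu hpiece (min (m / b) s) Z hZ hZnd hZE fun hk => by
    rw [hZd, add_zero]
    exact Nat.mul_lt_mul_of_pos_right (by omega) hu.pos
  have h1 : min (m / b) s * b ≤ m :=
    (Nat.mul_le_mul_right b (min_le_left _ _)).trans (Nat.div_mul_le_self _ _)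
  refine fix_of_parts hF hg hZ hZE hEnd hUZ hU hUti hUd h1 ?_
  rw [hZd, mul_assoc] at hdim
  rcases Nat.le_total (m / b) s with h2 | h2
  · rw [min_eq_left h2]
    have h3 := Nat.mod_add_div m b
    have h4 : n % (2 * b) ≤ finrank F ↥(⊤ ⊓ End.eigenspace g (1 : F)) := by
      have h5 : n % (2 * b) = finrank F ↥(⊤ ⊓ End.eigenspace g (1 : F)) % (2 * b) := by
        conv_lhs => rw [hdim, show 2 * (s * b) = s * (2 * b) by ring, Nat.add_mul_mod_self_right]
      exact h5.le.trans (Nat.mod_le _ _)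
    rw [mul_comm b] at h3
    omega
  · rw [min_eq_right h2]
    omega

/-- Enough pieces for the pairing to appear. -/
theorem fix_self (hF : Fintype.card F = q ^ 2) (hrF : (r : F) ≠ 0) (hr2 : r ≠ 2) (hg : Isometric q g)
    (hgr : g ^ r = 1) {b t : ℕ} (hb : orderOf (Fintype.card F : ZMod r) = b) (ht : t * b = r - 1)
    (hle : 2 * (m % b) ≤ n % b) (hcond : t + 2 * (m / b) ≤ n / b) : Fix q m g := by
  have hu := hu_of_root hrF hgr
  rw [hb] at hu
  obtain ⟨Z, hZ, -, hZE, hZnd, hEnd, hdim⟩ := hg.fixed_split hF hu.semisimple (Inv.top g) (nondeg_top' hF)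
  rw [finrank_top, finrank_fin_fun] at hdim
  obtain ⟨s, hl⟩ := hu.exists_type hZ
  have hs := hl.2.2
  rw [hZE, finrank_bot, zero_add] at hs
  obtain ⟨U, hUZ, hU, hUti, hUd⟩ := hg.exists_ti_inv hF hu (t := r - 1) (fun Y hY _ hYE hlt => by
      rw [← hb]
      exact exists_piece_of_lt hF hg hgr hrF hr2 hY hYE hlt)
    (min (m / b) ((s + 1 - t) / 2)) Z hZ hZnd hZE fun hk0 => by
      rw [hs]
      have h1 := Nat.mul_le_mul_right b (show 2 * (min (m / b) ((s + 1 - t) / 2) - 1) + t + 1 ≤ s by omega)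
      rw [Nat.add_mul, Nat.add_mul, ht, one_mul] at h1
      have := hu.pos
      omega
  have h1 : min (m / b) ((s + 1 - t) / 2) * b ≤ m :=
    (Nat.mul_le_mul_right b (min_le_left _ _)).trans (Nat.div_mul_le_self _ _)
  refine fix_of_parts hF hg hZ hZE hEnd hUZ hU hUti hUd h1 ?_
  rw [hs] at hdim
  have hmod : n % b ≤ finrank F ↥(⊤ ⊓ End.eigenspace g (1 : F)) := by
    have h5 : n % b = finrank F ↥(⊤ ⊓ End.eigenspace g (1 : F)) % b := by
      conv_lhs => rw [hdim, Nat.add_mul_mod_self_right]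
    exact h5.le.trans (Nat.mod_le _ _)
  have hmi := Nat.mod_add_div m b
  rw [mul_comm b] at hmi
  have hm2 : 2 * (m / b * b) + (r - 1) + 2 * (m % b) ≤ n := by
    have h2 := Nat.mod_add_div n b
    have h4 := Nat.mul_le_mul_right b hcond
    rw [Nat.add_mul, ht, mul_assoc, mul_comm (n / b)] at h4
    omega
  rcases Nat.le_total (m / b) ((s + 1 - t) / 2) with h2 | h2
  · rw [min_eq_left h2]
    omega
  · rw [min_eq_right h2]
    have h3 := Nat.mul_le_mul_right b (show s ≤ 2 * ((s + 1 - t) / 2) + t by omega)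
    rw [Nat.add_mul, ht, mul_assoc] at h3
    have h4 := Nat.mul_le_mul_right b h2
    omega

/-- No eigenvalues: isotropic subspaces of every multiple of `r`. -/
theorem fix_nonsplit (hF : Fintype.card F = q ^ 2) (hrF : (r : F) ≠ 0) (hr2 : r ≠ 2) {f : Module.End F (Fin n → F)}
    (hf : Isometric q f) {z : F} (hz0 : z ≠ 0) (hz : ∀ c : F, c ^ r ≠ z) (hfr : f ^ r = z • 1)
    (hrm : r ∣ m) (hmn : 2 * m ≤ n) : Fix q m f := by
  obtain ⟨hu, hE⟩ := isUniform_nonsplit hrF hz0 hz hfr
  obtain ⟨k, rfl⟩ := hrm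
  obtain ⟨W, -, hW, hWti, hWd⟩ := hf.exists_ti_inv hF hu (t := r) (fun Y hY _ hYE hlt => by
      obtain ⟨v, hv, hv0, hti⟩ := exists_singular_vector (X := Y) hF hf hfr hr2 1
        (fun h => absurd h one_ne_zero) (by have := hr.out.pos; omega)
      exact exists_ti_piece hu hr.out.pos hfr hY hYE hv hv0 hti)
    k ⊤ (Inv.top f) (nondeg_top' hF) (by rw [hE, inf_bot_eq]) fun hk => by
      rw [finrank_top, finrank_fin_fun]
      obtain ⟨j, rfl⟩ : ∃ j, k = j + 1 := ⟨k - 1, by omega⟩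
      rw [Nat.mul_add, Nat.mul_add, mul_one] at hmn
      rw [Nat.add_sub_cancel, mul_assoc, mul_comm j r]
      have := hr.out.pos
      omega
  exact ⟨W, by rw [hWd, mul_comm], hWti, hW⟩

theorem exists_norm_root {z : F} (hrq : ¬ r ∣ q + 1) (hz : z ^ (q + 1) = 1) :
    ∃ w : F, w ^ (q + 1) = 1 ∧ w ^ r = z := by
  refine ⟨z ^ ((r : ZMod (q + 1))⁻¹).val, by rw [← pow_mul, mul_comm, pow_mul, hz, one_pow], ?_⟩
  have h1 : ((((r : ZMod (q + 1))⁻¹).val * r : ℕ) : ZMod (q + 1)) = ((1 : ℕ) : ZMod (q + 1)) := by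
    rw [Nat.cast_mul, ZMod.natCast_val, ZMod.cast_id, mul_comm,
      ZMod.coe_mul_inv_eq_one _ (hr.out.coprime_iff_not_dvd.mpr hrq), Nat.cast_one]
  rw [ZMod.natCast_eq_natCast_iff'] at h1
  rw [← pow_mul, pow_eq_pow_mod _ hz, h1, ← pow_eq_pow_mod _ hz, pow_one]

/-- Scaling away the scalar. -/
theorem fix_of_root {f : Module.End F (Fin n → F)} (hf : Isometric q f) {z w : F} (hfr : f ^ r = z • 1)
    (hw : w ^ (q + 1) = 1) (hwz : w ^ r = z)
    (h : ∀ g : Module.End F (Fin n → F), Isometric q g → g ^ r = 1 → Fix q m g) : Fix q m f := by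
  have hw0 : w ≠ 0 := fun h0 => by simp [h0] at hw
  refine Fix.of_smul (inv_ne_zero hw0) (h _ (smul_isometric hf (by rw [inv_pow, hw, inv_one])) ?_)
  rw [_root_.smul_pow, hfr, smul_smul, ← hwz, inv_pow, inv_mul_cancel₀ (pow_ne_zero r hw0), one_smul]

theorem not_scalar {r : ℕ} [hr : Fact r.Prime] (hF : Fintype.card F = q ^ 2) (hrq : ¬ r ∣ q + 1) (hn : 0 < n)
    {f : Module.End F (Fin n → F)} (hf : Isometric q f) (hfr : f ^ r = 1)
    (hne : finrank F (End.eigenspace f (1 : F)) < n) (t : F) : f ≠ t • 1 := fun h => by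
  subst h
  have h1 := hf (Pi.single ⟨0, hn⟩ 1) (Pi.single ⟨0, hn⟩ 1)
  rw [LinearMap.smul_apply, Module.End.one_apply, herm_smul_left, herm_smul_right, herm_std hF,
    if_pos rfl, mul_one, ← pow_succ'] at h1
  have htr : t ^ r = 1 := by
    have h2 := congrFun (LinearMap.congr_fun hfr (Pi.single ⟨0, hn⟩ 1)) ⟨0, hn⟩
    rw [_root_.smul_pow, one_pow] at h2
    simpa using h2
  obtain rfl := eq_one_of_coprime (hr.out.coprime_iff_not_dvd.mpr hrq) htr h1
  have htop : End.eigenspace ((1 : F) • (1 : Module.End F (Fin n → F))) 1 = ⊤ :=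
    eq_top_iff.mpr fun v _ => End.mem_eigenspace_iff.mpr (by simp)
  rw [htop, finrank_top, finrank_fin_fun] at hne
  exact lt_irrefl _ hne

theorem paired_iff (hF : Fintype.card F = q ^ 2) (hrF : (r : F) ≠ 0) (hmn : 2 * m ≤ n)
    (hn : 0 < n) (hni : ∀ k, Odd k → (q : ZMod r) ^ k ≠ -1) {b : ℕ}
    (hb : orderOf (Fintype.card F : ZMod r) = b) {k : ℕ} (hk : n - 2 * m < k) (hkn : k ≤ n)
    (hkq : (q : ZMod r) ^ k = (-1) ^ k) :
    AllFix F q n m r ↔ (b ≤ m ∧ 2 * (m % b) ≤ n % (2 * b)) := by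
  have hbpos : 0 < b := hb ▸ orderOf_card_pos hrF
  have hrq : ¬ r ∣ q + 1 := fun h => hni 1 odd_one (by
    rw [← ZMod.natCast_eq_zero_iff] at h
    push_cast at h
    rw [pow_one]
    exact eq_neg_of_add_eq_zero_left h)
  have h2b : 2 * b ∣ k := hb ▸ two_orderOf_dvd hF hni hkq
  have hlow := mod_lt_of_exp (by omega) h2b hk hkn hmn
  constructor
  · intro h
    have hqc : (q : ZMod r) ^ (2 * b) = (-1) ^ (2 * b) := by
      rw [pow_mul, ← Nat.cast_pow, ← hF, ← hb, pow_orderOf_eq_one, pow_mul, neg_one_sq, one_pow]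
    obtain ⟨g₀, hg, hgr, hfix⟩ := exists_piece_elem hF hrF (by omega) hqc fun j hj hjq =>
      Nat.le_of_dvd hj (hb ▸ two_orderOf_dvd hF hni hjq)
    have hnb : n / (2 * b) * (2 * b) + n % (2 * b) = n := Nat.div_add_mod' _ _
    obtain ⟨hiso, hfr, -, hdim⟩ := blockEnd_spec hF hnb (fun _ => g₀) (fun _ => hg) (fun _ => hgr) (fun _ => hfix)
    set f := blockEnd hnb fun _ => g₀
    have h1 : 2 * b ≤ n := (Nat.le_of_dvd (by omega) h2b).trans hkn
    have hlt := Nat.mod_lt n (show 2 * b > 0 by omega)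
    obtain ⟨W, hWd, hWti, hWinv⟩ := h.apply hiso (det_eq_one hF hrq hiso hfr) (z := 1) (by rw [one_smul, hfr])
      (not_scalar hF hrq hn hiso hfr (by omega))
    have hu := hu_of_root hrF hfr
    rw [hb] at hu
    obtain ⟨l, hl⟩ := hu.exists_type hWinv
    have hm := hl.2.2
    rw [hWd] at hm
    obtain ⟨-, -, -, -, -, hEnd, -⟩ := hiso.fixed_split hF hu.semisimple (Inv.top f) (nondeg_top' hF)
    rw [top_inf_eq] at hEnd
    have h2 := two_mul_finrank_le hF hEnd inf_le_right (hWti.mono inf_le_left : TI q (W ⊓ End.eigenspace f (1 : F)))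
    rw [hdim] at h2
    refine ⟨?_, le_trans (Nat.mul_le_mul_left 2 ?_) h2⟩
    · rcases Nat.eq_zero_or_pos l with rfl | hl0
      · omega
      · have := Nat.le_mul_of_pos_left b hl0
        omega
    · rw [hm, Nat.add_mul_mod_self_right]
      exact Nat.mod_le _ _
  · rintro ⟨-, hle⟩ x hx ⟨z, hz⟩ -
    obtain ⟨hiso, hfr, hzq, -⟩ := exists_scalar hF hn hx hz
    obtain ⟨w, hw, hwz⟩ := exists_norm_root hrq hzq
    exact fix_of_root hiso hfr hw hwz fun g hg hgr => fix_paired hF hrF hg hgr hni hb hmn hle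

theorem self_iff (hF : Fintype.card F = q ^ 2) (hrF : (r : F) ≠ 0) (hr2 : r ≠ 2) (hmn : 2 * m ≤ n)
    (hn : 0 < n) (hrq : ¬ r ∣ q + 1) {b : ℕ}
    (hb : orderOf (Fintype.card F : ZMod r) = b) (hqb : (q : ZMod r) ^ b = (-1) ^ b) {k : ℕ}
    (hk : n - 2 * m < k) (hkn : k ≤ n) (hkq : (q : ZMod r) ^ k = (-1) ^ k) :
    AllFix F q n m r ↔ (b ≤ m ∧ 2 * (m % b) ≤ n % b ∧ (r - 1) / b + 2 * (m / b) ≤ n / b) := by
  have hbpos : 0 < b := hb ▸ orderOf_card_pos hrF
  have hir : b ∣ r - 1 := hb ▸ orderOf_dvd_of_pow_eq_one (ZMod.pow_card_sub_one_eq_one (card_cast_ne_zero hrF))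
  have hti : (r - 1) / b * b = r - 1 := Nat.div_mul_cancel hir
  have htpos : 1 ≤ (r - 1) / b := by
    refine Nat.one_le_div_iff hbpos |>.mpr (Nat.le_of_dvd ?_ hir)
    have := hr.out.two_le
    omega
  constructor
  · intro h
    have hbk : b ∣ k := hb ▸ orderOf_dvd_of_pow_eq_one (by
      rw [hF, Nat.cast_pow, ← pow_mul, mul_comm, pow_mul, hkq, ← pow_mul, mul_comm, pow_mul, neg_one_sq, one_pow])
    have hlow := mod_lt_of_exp hbpos hbk hk hkn hmn
    have hn1 : 1 ≤ n / b := (Nat.one_le_div_iff hbpos).mpr ((Nat.le_of_dvd (by omega) hbk).trans hkn)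
    have hnb : n / b * b + n % b = n := Nat.div_add_mod' _ _
    have hlt := Nat.mod_lt n hbpos
    have use : ∀ (f : Module.End F (Fin n → F)), Isometric q f → f ^ r = 1 →
        finrank F (End.eigenspace f (1 : F)) < n → Fix q m f := fun f hf hfr hne =>
      h.apply hf (det_eq_one hF hrq hf hfr) (z := 1) (by rw [one_smul, hfr]) (not_scalar hF hrq hn hf hfr hne)
    obtain ⟨f, hiso, hfr, hdim, hW⟩ := exists_deranged hF hrF hb hqb 1 hnb htpos hn1 le_rfl
    obtain ⟨W, hWd, hWti, hWinv⟩ := use f hiso hfr (by omega)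
    obtain ⟨w, l, hm, hw, -⟩ := hW W hWinv hWti
    rw [hWd] at hm
    have hbm : b ≤ m := by
      rcases Nat.eq_zero_or_pos l with rfl | hl0
      · omega
      · have := Nat.le_mul_of_pos_left b hl0
        omega
    refine ⟨hbm, le_trans (Nat.mul_le_mul_left 2 ?_) hw, ?_⟩
    · rw [hm, Nat.add_mul_mod_self_right]
      exact Nat.mod_le _ _
    obtain ⟨o, ho⟩ : ∃ o, o = min ((r - 1) / b) (n / b) := ⟨_, rfl⟩
    obtain ⟨s, hs⟩ : ∃ s, s = n / b - (n / b - o) % 2 := ⟨_, rfl⟩
    have hsc : s * b ≤ n := (Nat.mul_le_mul_right b (show s ≤ n / b by omega)).trans (Nat.div_mul_le_self _ _)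
    obtain ⟨y, hyiso, hyr, hye, hyW⟩ := exists_deranged hF hrF hb hqb o (s := s) (e := n - s * b)
      (Nat.add_sub_cancel' hsc) (by omega) (by omega) (by omega)
    have hsb := Nat.le_mul_of_pos_left b (show 0 < s by omega)
    obtain ⟨W', hW'd, hW'ti, hW'inv⟩ := use y hyiso hyr (by omega)
    obtain ⟨w', k', hwk, hw', hk'⟩ := hyW W' hW'inv hW'ti
    rw [hW'd] at hwk
    have hpar : 2 * k' + o ≤ s := by omega
    have h4 := Nat.mul_le_mul_right b hpar
    rw [Nat.add_mul, mul_assoc] at h4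
    have h5 : 2 * m + o * b ≤ n := by omega
    rcases Nat.le_total ((r - 1) / b) (n / b) with hle | hle
    · rw [show o = (r - 1) / b by omega] at h5
      rw [Nat.le_div_iff_mul_le hbpos, Nat.add_mul, mul_assoc]
      have := Nat.div_mul_le_self m b
      omega
    · rw [show o = n / b by omega] at h5
      omega
  · rintro ⟨-, hle, hcond⟩ x hx ⟨z, hz⟩ -
    obtain ⟨hiso, hfr, hzq, -⟩ := exists_scalar hF hn hx hz
    obtain ⟨w, hw, hwz⟩ := exists_norm_root hrq hzq
    exact fix_of_root hiso hfr hw hwz fun g hg hgr => fix_self hF hrF hr2 hg hgr hb hti hle hcond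

/-- The case `r ∣ q + 1`. -/
theorem two_order_iff (hF : Fintype.card F = q ^ 2) (hrF : (r : F) ≠ 0) (hr2 : r ≠ 2) (hm : 1 ≤ m)
    (hmn : 2 * m ≤ n) (hrq : r ∣ q + 1) :
    AllFix F q n m r ↔ (r - 1 + 2 * m ≤ n ∧ (r ∣ m ∨ padicValNat r n ≤ padicValNat r (q + 1))) := by
  classical
  have h1q := one_lt_q hF
  have hb : orderOf (Fintype.card F : ZMod r) = 1 := by
    rw [orderOf_eq_one_iff, hF, Nat.cast_pow]
    rw [← ZMod.natCast_eq_zero_iff] at hrq
    push_cast at hrq
    rw [eq_neg_of_add_eq_zero_left hrq, neg_one_sq]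
  have hrq1 : ¬ r ∣ q - 1 := fun h => by
    have h2 := Nat.dvd_sub hrq h
    rw [show q + 1 - (q - 1) = 2 by omega] at h2
    exact hr2 ((Nat.prime_dvd_prime_iff_eq hr.out Nat.prime_two).mp h2)
  have hcop : Nat.Coprime r (q - 1) := hr.out.coprime_iff_not_dvd.mpr hrq1
  have hN : Fintype.card F - 1 = (q + 1) * (q - 1) := by rw [hF, ← Nat.sq_sub_sq, one_pow]
  have hcard : Nat.card Fˣ = (q + 1) * (q - 1) := by
    rw [Nat.card_units, Nat.card_eq_fintype_card, hN]
  have hval : padicValNat r (Nat.card Fˣ) = padicValNat r (q + 1) := by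
    rw [hcard, padicValNat.mul (by omega) (by omega), padicValNat.eq_zero_of_not_dvd hrq1, add_zero]
  have hdvd : r ∣ Nat.card Fˣ := hcard ▸ dvd_mul_of_dvd_left hrq _
  have hrodd : (-1 : F) ^ (r + 1) = 1 := ((hr.out.odd_of_ne_two hr2).add_one).neg_one_pow
  constructor
  · intro h
    refine ⟨?_, ?_⟩
    · by_contra hlt
      obtain ⟨ζ', hζ'⟩ := exists_prime_orderOf_dvd_card' r hdvd
      set ζ : F := (ζ' : F)
      have hζ : orderOf ζ = r := by rw [orderOf_units, hζ']
      have hζq : ζ ^ (q + 1) = 1 := orderOf_dvd_iff_pow_eq_one.mp (hζ ▸ hrq)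
      obtain ⟨h', hh'⟩ : ∃ h', h' = min ((r - 1) / 2) (n / 2) := ⟨_, rfl⟩
      have hr3 : 3 ≤ r := by have := hr.out.two_le; omega
      let a : ℕ → ℕ := fun i => if i < h' then i + 1 else if i < 2 * h' then r - 1 - (i - h') else 0
      have har : ∀ i, a i < r := fun i => by simp only [a]; split_ifs <;> omega
      let d : Fin n → F := fun i => ζ ^ a i
      have hd : ∀ i, d i * d i ^ q = 1 := fun i => by
        rw [← pow_succ', ← pow_mul, mul_comm, pow_mul, hζq, one_pow]
      have hsum : ∑ i : Fin n, a i = r * h' := by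
        rw [Fin.sum_univ_eq_sum_range a, show n = h' + h' + (n - 2 * h') by omega, Finset.sum_range_add,
          Finset.sum_range_add, ← Finset.sum_add_distrib, Finset.sum_eq_zero (s := Finset.range (n - 2 * h'))
            (fun i _ => by simp only [a]; split_ifs <;> omega), add_zero,
          Finset.sum_congr rfl (g := fun _ => r) (fun i hi => by
            rw [Finset.mem_range] at hi
            simp only [a]
            split_ifs <;> omega), Finset.sum_const, Finset.card_range, smul_eq_mul, mul_comm]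
      have hdet : LinearMap.det (Matrix.toLin' (Matrix.diagonal d)) = 1 := by
        rw [LinearMap.det_toLin', Matrix.det_diagonal, Finset.prod_pow_eq_pow_sum, hsum, pow_mul, ← hζ,
          pow_orderOf_eq_one, one_pow]
      have hdr : Matrix.toLin' (Matrix.diagonal d) ^ r = (1 : F) • 1 := by
        rw [one_smul, ← Matrix.toLin'_pow, Matrix.diagonal_pow, show d ^ r = 1 from _root_.funext fun i => by
          rw [Pi.pow_apply, Pi.one_apply, ← pow_mul, mul_comm, pow_mul, ← hζ, pow_orderOf_eq_one, one_pow],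
          Matrix.diagonal_one', Matrix.toLin'_one]
        rfl
      have hinj : ∀ i j : Fin n, d i = d j → a i = a j := fun i j hij =>
        pow_injOn_Iio_orderOf (by rw [hζ]; exact har i) (by rw [hζ]; exact har j) hij
      obtain ⟨W, hWd, hWti, hWinv⟩ := h.apply (diag_iso hF hd) hdet hdr fun t ht => by
        have h1 : ∀ i : Fin n, d i = t := fun i => by
          have h2 := congrFun (LinearMap.congr_fun ht (Pi.single i 1)) i
          simpa [Matrix.toLin'_apply, Matrix.mulVec_diagonal] using h2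
        have h2 := hinj ⟨0, by omega⟩ ⟨h', by omega⟩ (by rw [h1, h1])
        simp only [a] at h2
        split_ifs at h2 <;> omega
      let R : Finset (Fin n) := (Finset.univ : Finset (Fin (n - 2 * h'))).map
        ⟨fun j : Fin (n - 2 * h') => ⟨2 * h' + j, by omega⟩, fun j j' hjj => Fin.ext (by simpa using congrArg Fin.val hjj)⟩
      have h1 := diag_ti_le hF R (fun i hi j hj he => hj (Fin.ext (by
        have hi' : (i : ℕ) < 2 * h' := by
          by_contra hge
          exact hi (Finset.mem_map.mpr ⟨⟨i - 2 * h', by omega⟩, Finset.mem_univ _, Fin.ext (by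
            show 2 * h' + (i - 2 * h') = (i : ℕ)
            omega)⟩)
        have h2 := hinj _ _ he
        simp only [a] at h2
        split_ifs at h2 <;> omega))) hWinv hWti
      rw [hWd, Finset.card_map, Finset.card_univ, Fintype.card_fin] at h1
      have hrodd' := Nat.odd_iff.mp (hr.out.odd_of_ne_two hr2)
      omega
    · by_contra hcon
      push Not at hcon
      obtain ⟨hrm, hv⟩ := hcon
      have hrn : r ∣ n := dvd_of_one_le_padicValNat (by omega)
      obtain ⟨s, hs⟩ := hrn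
      have hs0 : s ≠ 0 := by rintro rfl; omega
      rw [hs, padicValNat.mul hr.out.ne_zero hs0, padicValNat_self] at hv
      obtain ⟨w, hws, hw⟩ := (Linear.exists_pow_eq_iff hdvd s).mpr (by
        rw [hval, padicValNat_dvd_iff_le hs0]; omega)
      set z : F := ((w ^ (q - 1) : Fˣ) : F)
      have hzn : z * z ^ q = 1 := by
        rw [← pow_succ', ← Units.val_pow_eq_pow_val, ← pow_mul, mul_comm, ← hcard, pow_card_eq_one', Units.val_one]
      have hzs : z ^ s = 1 := by
        rw [← Units.val_pow_eq_pow_val, ← pow_mul, mul_comm, pow_mul, hws, one_pow, Units.val_one]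
      have hznp : ∀ c : F, c ^ r ≠ z := fun c hc => by
        have hc0 : c ≠ 0 := fun h0 => by
          rw [h0, zero_pow hr.out.ne_zero] at hc
          exact Units.ne_zero _ hc.symm
        have hc' : Units.mk0 c hc0 ^ r = w ^ (q - 1) := Units.ext (by rw [Units.val_pow_eq_pow_val, Units.val_mk0]; exact hc)
        obtain ⟨u, t, hut⟩ : ∃ u t, (q - 1) * u = r * t + 1 := by
          refine ⟨(((q - 1 : ℕ) : ZMod r)⁻¹).val, (q - 1) * (((q - 1 : ℕ) : ZMod r)⁻¹).val / r, ?_⟩
          have h1 : (((q - 1) * (((q - 1 : ℕ) : ZMod r)⁻¹).val : ℕ) : ZMod r) = ((1 : ℕ) : ZMod r) := by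
            rw [Nat.cast_mul, ZMod.natCast_val, ZMod.cast_id, Nat.cast_one,
              mul_inv_cancel₀ (fun h0 => hrq1 ((ZMod.natCast_eq_zero_iff _ _).mp h0))]
          rw [ZMod.natCast_eq_natCast_iff', Nat.one_mod_eq_one.mpr hr.out.ne_one] at h1
          conv_lhs => rw [← Nat.div_add_mod ((q - 1) * (((q - 1 : ℕ) : ZMod r)⁻¹).val) r, h1]
        refine hw (Units.mk0 c hc0 ^ u * (w ^ t)⁻¹) ?_
        rw [mul_pow, ← pow_mul, mul_comm u r, pow_mul, hc', inv_pow, ← pow_mul, ← pow_mul, hut,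
          mul_comm r t, pow_add, pow_one, mul_comm (w ^ (t * r)) w, mul_inv_cancel_right]
      obtain ⟨f, hiso, hfr⟩ := exists_monomial (r := r) hF hzn s (n := n) (by rw [hs, mul_comm])
      obtain ⟨s', hs', hdet⟩ := nonsplit_det hznp hfr
      rw [finrank_fin_fun, hs] at hs'
      obtain rfl := Nat.eq_of_mul_eq_mul_left hr.out.pos hs'
      rw [hrodd, one_mul, hzs] at hdet
      obtain ⟨W, hWd, -, hWinv⟩ := h.apply hiso hdet hfr fun t ht => by
        subst ht
        have h2 := congrFun (LinearMap.congr_fun hfr (Pi.single (⟨0, by omega⟩ : Fin n) 1)) ⟨0, by omega⟩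
        rw [_root_.smul_pow, one_pow] at h2
        exact hznp t (by simpa using h2)
      obtain ⟨hu, hE⟩ := isUniform_nonsplit hrF (Units.ne_zero _) hznp hfr
      obtain ⟨l, hl⟩ := hu.exists_type hWinv
      have h3 := hl.2.2
      rw [hE, inf_bot_eq, finrank_bot, zero_add, hWd] at h3
      exact hrm ⟨l, by rw [h3, mul_comm]⟩
  · rintro ⟨hle, hor⟩ x hx ⟨z, hz⟩ -
    obtain ⟨hiso, hfr, hzq, hdet⟩ := exists_scalar hF (by omega) hx hz
    have hz0 : z ≠ 0 := fun h0 => by simp [h0] at hzq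
    by_cases hex : ∃ c : F, c ^ r = z
    · obtain ⟨c, hc⟩ := hex
      have hc0 : c ≠ 0 := fun h0 => hz0 (by rw [← hc, h0, zero_pow hr.out.ne_zero])
      have hcq : c ^ (q + 1) = 1 := eq_one_of_coprime hcop (by rw [← pow_mul, mul_comm, pow_mul, hc, hzq])
        (by rw [← pow_mul, ← hN]; exact FiniteField.pow_card_sub_one_eq_one c hc0)
      refine fix_of_root hiso hfr hcq hc fun g hg hgr => fix_self (b := 1) (t := r - 1) hF hrF hr2 hg hgr hb (mul_one _)
        (by simp [Nat.mod_one]) ?_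
      rw [Nat.div_one, Nat.div_one]
      exact hle
    · push Not at hex
      refine fix_nonsplit hF hrF hr2 hiso hz0 hex hfr (hor.resolve_right fun hv => ?_) hmn
      obtain ⟨s, hs, hd⟩ := nonsplit_det hex hfr
      rw [finrank_fin_fun] at hs
      have hs0 : s ≠ 0 := by rintro rfl; omega
      rw [hdet, hrodd, one_mul] at hd
      have h1 := (Linear.exists_pow_eq_iff hdvd s).mp ⟨Units.mk0 z hz0, Units.ext (by simpa using hd.symm),
        fun c hc => hex c (by simpa using congrArg Units.val hc)⟩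
      rw [hval, padicValNat_dvd_iff_le hs0] at h1
      rw [hs, padicValNat.mul hr.out.ne_zero hs0, padicValNat_self] at hv
      omega

end OddPrime

/-- Involutions modulo scalars. -/
theorem two_iff (hF : Fintype.card F = q ^ 2) (h2 : (2 : F) ≠ 0) (hm : 1 ≤ m) (hmn : 2 * m ≤ n) :
    AllFix F q n m 2 ↔ (2 * m < n ∨ padicValNat 2 (q + 1) ≤ padicValNat 2 n) := by
  classical
  haveI : Fact (Nat.Prime 2) := ⟨Nat.prime_two⟩
  have h1q := one_lt_q hF
  have hne : (-1 : F) ≠ 1 := fun h => h2 (by linear_combination -h)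
  constructor
  · intro h
    by_contra hcon
    push Not at hcon
    obtain ⟨hle, hv⟩ := hcon
    obtain ⟨v, hvn⟩ : ∃ v, v = padicValNat 2 n := ⟨_, rfl⟩
    rw [← hvn] at hv
    have hdvd : 2 ^ (v + 1) ∣ q + 1 := (pow_dvd_pow 2 hv).trans pow_padicValNat_dvd
    have hcard : 2 ^ (v + 1) ∣ Nat.card Fˣ := by
      rw [Nat.card_units, Nat.card_eq_fintype_card, hF, show q ^ 2 - 1 = (q + 1) * (q - 1) by
        rw [← Nat.sq_sub_sq, one_pow]]
      exact dvd_mul_of_dvd_left hdvd _
    obtain ⟨u, hu⟩ := IsCyclic.exists_ofOrder_eq_natCard (α := Fˣ)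
    obtain ⟨t, ht⟩ := hcard
    have ht0 : t ≠ 0 := fun h0 => Nat.card_pos.ne' (ht.trans (by rw [h0, mul_zero]))
    set μ : F := ((u ^ t : Fˣ) : F)
    have hμ : orderOf μ = 2 ^ (v + 1) := by
      rw [orderOf_units, orderOf_pow_of_dvd ht0 (by rw [hu, ht]; exact dvd_mul_left _ _), hu, ht,
        Nat.mul_div_cancel _ (Nat.pos_of_ne_zero ht0)]
    have hμq : μ ^ (q + 1) = 1 := orderOf_dvd_iff_pow_eq_one.mp (hμ ▸ hdvd)
    have hμn : μ ^ n = -1 := by
      have hn2 : (μ ^ n) * (μ ^ n) = 1 := by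
        rw [← pow_add, ← orderOf_dvd_iff_pow_eq_one, hμ, ← two_mul, pow_succ']
        exact Nat.mul_dvd_mul_left 2 (hvn ▸ pow_padicValNat_dvd)
      refine (mul_self_eq_one_iff.mp hn2).resolve_left fun h1 => ?_
      rw [← orderOf_dvd_iff_pow_eq_one, hμ, hvn] at h1
      exact pow_succ_padicValNat_not_dvd (by omega) h1
    have hμ0 : μ ≠ 0 := Units.ne_zero _
    have hμne : μ ≠ -μ := fun h1 => h2 ((mul_eq_zero.mp (show (2 : F) * μ = 0 by linear_combination h1)).resolve_right hμ0)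
    have hqodd : Odd q := by
      have h' := FiniteField.odd_card_of_char_ne_two (F := F) (fun hc => h2 (by
        haveI : CharP F 2 := ringChar.eq_iff.mp hc
        exact CharTwo.two_eq_zero))
      rw [hF, ← Nat.odd_iff, Nat.odd_pow_iff two_ne_zero] at h'
      exact h'
    let i₀ : Fin n := ⟨0, by omega⟩
    let d : Fin n → F := fun i => if i = i₀ then -μ else μ
    have hd : ∀ i, d i * d i ^ q = 1 := fun i => by
      rw [← pow_succ']
      simp only [d]
      split
      · rw [hqodd.add_one.neg_pow, hμq]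
      · exact hμq
    have hdet : LinearMap.det (Matrix.toLin' (Matrix.diagonal d)) = 1 := by
      rw [LinearMap.det_toLin', Matrix.det_diagonal, ← Finset.mul_prod_erase _ _ (Finset.mem_univ i₀),
        Finset.prod_congr rfl (g := fun _ => μ) (fun i hi => if_neg (Finset.ne_of_mem_erase hi)),
        Finset.prod_const, Finset.card_erase_of_mem (Finset.mem_univ i₀), Finset.card_univ, Fintype.card_fin]
      simp only [d, if_true, neg_mul]
      rw [← pow_succ', Nat.sub_add_cancel (by omega), hμn, neg_neg]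
    have hd2 : Matrix.toLin' (Matrix.diagonal d) ^ 2 = (μ ^ 2) • 1 := by
      rw [← Matrix.toLin'_pow, ← Linear.eq_smul_one_iff, Matrix.diagonal_pow, Matrix.smul_one_eq_diagonal]
      refine congrArg Matrix.diagonal (_root_.funext fun i => ?_)
      simp only [Pi.pow_apply, d]
      split <;> simp
    obtain ⟨W, hWd, hWti, hWinv⟩ := h.apply (diag_iso hF hd) hdet hd2 fun t ht => by
      have h1 : ∀ i : Fin n, d i = t := fun i => by
        have h2 := congrFun (LinearMap.congr_fun ht (Pi.single i 1)) i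
        simpa [Matrix.toLin'_apply, Matrix.mulVec_diagonal] using h2
      have h3 := (h1 ⟨1, by omega⟩).trans (h1 i₀).symm
      simp [d, i₀] at h3
      exact hμne h3
    have h4 := diag_ti_le hF (Finset.univ.erase i₀) (fun i hi j hj => by
      simp only [Finset.mem_erase, Finset.mem_univ, and_true, not_not] at hi
      subst hi
      simp only [d, if_neg hj, if_true]
      exact hμne) hWinv hWti
    rw [hWd, Finset.card_erase_of_mem (Finset.mem_univ i₀), Finset.card_univ, Fintype.card_fin] at h4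
    omega
  · intro hcond x hx ⟨z, hz⟩ _
    obtain ⟨hiso, hfr, hzq, hdet⟩ := exists_scalar hF (by omega) hx hz
    set f := Matrix.toLin' (x : Matrix (Fin n) (Fin n) F)
    have hz0 : z ≠ 0 := fun h0 => by simp [h0] at hzq
    have hchar : ringChar F ≠ 2 := fun hc => h2 (by
      haveI : CharP F 2 := ringChar.eq_iff.mp hc
      exact CharTwo.two_eq_zero)
    obtain ⟨μ, hμ⟩ : IsSquare z := by
      rw [FiniteField.isSquare_iff hchar hz0, hF]
      have h' := FiniteField.odd_card_of_char_ne_two hchar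
      rw [hF, ← Nat.odd_iff, Nat.odd_pow_iff two_ne_zero] at h'
      obtain ⟨l, hl⟩ := h'
      rw [show q ^ 2 / 2 = (q + 1) * l by
        rw [hl, show (2 * l + 1) ^ 2 = 1 + 2 * ((2 * l + 1 + 1) * l) by ring, Nat.add_mul_div_left _ _ two_pos]
        simp, pow_mul, hzq, one_pow]
    have hμ0 : μ ≠ 0 := fun h0 => hz0 (by rw [hμ, h0, mul_zero])
    refine Fix.of_smul (inv_ne_zero hμ0) ?_
    set g := μ⁻¹ • f
    have hgg : ∀ v, g (g v) = v := fun v => by
      have h1 := LinearMap.congr_fun hfr v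
      rw [pow_two, Module.End.mul_apply, LinearMap.smul_apply, Module.End.one_apply, hμ] at h1
      simp only [g, LinearMap.smul_apply, map_smul, smul_smul, h1]
      rw [show μ⁻¹ * (μ⁻¹ * (μ * μ)) = 1 by field_simp, one_smul]
    have hε : (μ⁻¹ ^ (q + 1)) * (μ⁻¹ ^ (q + 1)) = 1 := by
      rw [← mul_pow, ← mul_inv, ← hμ, inv_pow, hzq, inv_one]
    have hgh : ∀ u v, hermForm n F q (g u) (g v) = μ⁻¹ ^ (q + 1) * hermForm n F q u v := fun u v => by
      simp only [g, LinearMap.smul_apply, herm_smul_left, herm_smul_right, hiso u v]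
      ring
    set P := End.eigenspace g (1 : F)
    set N := End.eigenspace g (-1 : F)
    have hP : ∀ v ∈ P, g v = v := fun v hv => by simpa using End.mem_eigenspace_iff.mp hv
    have hN : ∀ v ∈ N, g v = -v := fun v hv => by simpa using End.mem_eigenspace_iff.mp hv
    have hdisj : P ⊓ N = ⊥ := by
      rw [Submodule.eq_bot_iff]
      rintro u ⟨hu, hu'⟩
      have h1 := (hP u hu).symm.trans (hN u hu')
      exact (smul_eq_zero.mp (show (2 : F) • u = 0 by rw [two_smul]; exact eq_neg_iff_add_eq_zero.mp h1)).resolve_left h2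
    have hsplit : ∀ v, ∃ a ∈ P, ∃ b ∈ N, v = a + b := fun v => by
      refine ⟨(2 : F)⁻¹ • (v + g v), End.mem_eigenspace_iff.mpr ?_, (2 : F)⁻¹ • (v - g v),
        End.mem_eigenspace_iff.mpr ?_, ?_⟩
      · rw [map_smul, map_add, hgg, one_smul, add_comm]
      · rw [map_smul, map_sub, hgg, neg_one_smul, ← smul_neg, neg_sub]
      · rw [← smul_add, add_add_sub_cancel, ← two_smul F v, inv_smul_smul₀ h2]
    have hsup : P ⊔ N = ⊤ := eq_top_iff.mpr fun v _ => by
      obtain ⟨a, ha, b, hb, rfl⟩ := hsplit v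
      exact Submodule.mem_sup.mpr ⟨a, ha, b, hb, rfl⟩
    have hdim : finrank F P + finrank F N = n := by
      rw [← finrank_sup_of_disjoint hdisj, hsup, finrank_top, finrank_fin_fun]
    rcases mul_self_eq_one_iff.mp hε with hε1 | hε1 <;> simp only [hε1, one_mul, neg_mul] at hgh
    · have hPN : ∀ u ∈ P, ∀ v ∈ N, hermForm n F q u v = 0 := fun u hu v hv => by
        have h1 := hgh u v
        rw [hP u hu, hN v hv, herm_neg_right _ _ hF] at h1
        exact (mul_eq_zero.mp (show (2 : F) * hermForm n F q u v = 0 by linear_combination -h1)).resolve_left h2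
      have hPnd : Nondeg q P := fun u hu huy => herm_nondeg_left hF fun y => by
        obtain ⟨a, ha, b, hb, rfl⟩ := hsplit y
        rw [herm_add_right _ _ _ hF, huy a ha, hPN u hu b hb, add_zero]
      have hNnd : Nondeg q N := fun u hu huy => herm_nondeg_left hF fun y => by
        obtain ⟨a, ha, b, hb, rfl⟩ := hsplit y
        rw [herm_add_right _ _ _ hF, huy b hb, herm_eq_zero_symm hF (hPN a ha u hu), add_zero]
      have hpar : m ≤ finrank F P / 2 + finrank F N / 2 := by
        rcases hcond with hlt | hv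
        · omega
        by_contra hlt
        have hodd : finrank F N % 2 = 1 ∧ 2 * m = n := by omega
        have hdg : LinearMap.det g = -1 := by
          have hIC : IsCompl P N := ⟨disjoint_iff.mpr hdisj, codisjoint_iff.mpr hsup⟩
          have h1 : g = (Submodule.prodEquivOfIsCompl P N hIC).conj
              ((1 : Module.End F P).prodMap ((-1 : F) • (1 : Module.End F N))) := LinearMap.ext fun v => by
            obtain ⟨⟨a, b⟩, rfl⟩ := (Submodule.prodEquivOfIsCompl P N hIC).surjective v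
            simp [LinearEquiv.conj_apply, hP _ a.2, hN _ b.2]
          rw [h1, LinearEquiv.conj_apply, LinearMap.comp_assoc, LinearMap.det_conj, LinearMap.det_prodMap, map_one, one_mul, LinearMap.det_smul, map_one,
            mul_one, (Nat.odd_iff.mpr hodd.1).neg_one_pow]
        simp only [g, LinearMap.det_smul, finrank_fin_fun, hdet, mul_one] at hdg
        have hμn : μ ^ n = -1 := by
          rw [inv_pow] at hdg
          rw [← inv_inv (μ ^ n), hdg, inv_neg, inv_one]
        have hμq : μ ^ (q + 1) = 1 := inv_inj.mp (by rw [← inv_pow, hε1, inv_one])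
        obtain ⟨n', hn'⟩ : 2 ^ padicValNat 2 n ∣ n := pow_padicValNat_dvd
        obtain ⟨q', hq'⟩ : 2 ^ padicValNat 2 (q + 1) ∣ q + 1 := pow_padicValNat_dvd
        have hq'odd : ¬ 2 ∣ q' := fun ⟨c, hc⟩ => pow_succ_padicValNat_not_dvd (show q + 1 ≠ 0 by omega)
          ⟨c, by rw [pow_succ, mul_assoc, ← hc]; exact hq'⟩
        have h3 : (μ ^ n) ^ q' = 1 := by
          rw [← pow_mul, ← orderOf_dvd_iff_pow_eq_one]
          refine (orderOf_dvd_of_pow_eq_one hμq).trans ?_
          rw [hq', hn', mul_comm _ n', mul_assoc]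
          exact dvd_mul_of_dvd_right (Nat.mul_dvd_mul_right (pow_dvd_pow 2 hv) q') _
        rw [hμn, (Nat.odd_iff.mpr (show q' % 2 = 1 by omega)).neg_one_pow] at h3
        exact hne h3
      obtain ⟨U, hUP, hU, hUd⟩ := exists_ti hF hPnd (k := min m (finrank F P / 2)) (by omega)
      obtain ⟨W, hWN, hW, hWd⟩ := exists_ti hF hNnd (k := m - min m (finrank F P / 2)) (by omega)
      refine ⟨U ⊔ W, ?_, ti_sup hF hU hW fun u hu w hw => hPN u (hUP hu) w (hWN hw),
        (Inv.of_le_eigenspace hUP).sup (Inv.of_le_eigenspace hWN)⟩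
      rw [finrank_sup_of_disjoint (le_bot_iff.mp (hdisj ▸ inf_le_inf hUP hWN)), hUd, hWd]
      omega
    · have hti : ∀ M : Submodule F (Fin n → F), (M = P ∨ M = N) → TI q M := by
        intro M hM u hu v hv
        have h1 := hgh u v
        rcases hM with rfl | rfl
        · rw [hP u hu, hP v hv] at h1
          exact (mul_eq_zero.mp (show (2 : F) * hermForm n F q u v = 0 by linear_combination h1)).resolve_left h2
        · rw [hN u hu, hN v hv, herm_neg_left, herm_neg_right _ _ hF, neg_neg] at h1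
          exact (mul_eq_zero.mp (show (2 : F) * hermForm n F q u v = 0 by linear_combination h1)).resolve_left h2
      have hb1 := two_mul_finrank_le hF (nondeg_top' hF) le_top (hti P (Or.inl rfl))
      have hb2 := two_mul_finrank_le hF (nondeg_top' hF) le_top (hti N (Or.inr rfl))
      rw [finrank_top, finrank_fin_fun] at hb1 hb2
      obtain ⟨v, hv⟩ := exists_linearIndependent_of_le_finrank (R := F) (M := P) (n := m) (by omega)
      refine ⟨Submodule.span F (Set.range fun i => (v i : Fin n → F)), ?_, (hti P (Or.inl rfl)).mono ?_,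
        Inv.of_le_eigenspace (μ := (1 : F)) ?_⟩
      · rw [finrank_span_eq_card (b := fun i => (v i : Fin n → F)) (hv.map' P.subtype P.ker_subtype), Fintype.card_fin]
      all_goals
        rw [Submodule.span_le]
        rintro _ ⟨i, rfl⟩
        exact (v i).2

end


/-- Elements of prime order of PSU_n(q) with no fixed totally isotropic `m`-space. Here `T = PSU_n(q)` (`n ≥ 3`, `(n, q) ≠ (3, 2)`), realised through the matrices of determinant 1 over the field `F` with `q²` elements preserving the Hermitian form `h(u, v) = Σ u_i v_i^q`; an element of `T` of prime order `r` is such a matrix `x` with `x^r` scalar and `x` not scalar. For `r ≠ p` let `i` be the multiplicative order of `q` modulo `r`, `b = i/2` for `i` even and `b = i` for `i` odd, `c = i, i/2, 2i` according as `i ≡ 0, 2 (mod 4)` or `i` odd, and write `k = n mod c`, `ℓ = m mod b`, `ℓ' = m mod c`, `n' = ⌊n/b⌋`, `m' = ⌊m/b⌋`, `s = (r−1)/b`; `(a)_r` is the `r`-part of `a`. Let `1 ≤ m ≤ n/2` and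 let `r` be a prime dividing the number of totally isotropic `m`-spaces. Then every element of `T` of order `r` fixes a totally isotropic `m`-space if and only if either (i) `r = 2`, `p ≠ 2`, and (`m < n/2` or `(q+1)_2 ≤ (n)_2`); or (ii) `r ≠ p`, `r > 2`, `b ≤ m`, `k ≥ 2ℓ`, and either `i ≢ 2 (mod 4)`, or `i ≡ 2 (mod 4)`, `n' − 2m' ≥ s` and (`i > 2`, or `i = 2` and (`r ∣ m` or `(q+1)_r ≥ (n)_r`)). -/
theorem result {F : Type*} [Field F] [Fintype F] {p : ℕ} [Fact p.Prime] [CharP F p] {q : ℕ} (hq : Fintype.card F = q ^ 2)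
    (n m : ℕ) (hn : 3 ≤ n) (hT : (n, q) ≠ (3, 2)) (hm : 1 ≤ m) (hmn : 2 * m ≤ n)
    (r : ℕ) [Fact r.Prime]
    (hrΩ : r ∣ Nat.card {W : Submodule F (Fin n → F) // Module.finrank F ↥W = m ∧ (∀ u ∈ W, ∀ v ∈ W, Cfsg.hermForm n F q u v = 0)})
    (i b c : ℕ) (hi : i = orderOf (q : ZMod r)) (hb : b = if Even i then i / 2 else i)
    (hc : c = if i % 4 = 0 then i else if i % 4 = 2 then i / 2 else 2 * i) :
    (∀ x : Matrix.SpecialLinearGroup (Fin n) F, x ∈ Cfsg.SU n F q →
      (∃ z : F, ((x ^ r : Matrix.SpecialLinearGroup (Fin n) F) : Matrix (Fin n) (Fin n) F) = z • (1 : Matrix (Fin n) (Fin n) F)) →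
      (∀ z : F, (x : Matrix (Fin n) (Fin n) F) ≠ z • (1 : Matrix (Fin n) (Fin n) F)) →
      ∃ W : Submodule F (Fin n → F), Module.finrank F ↥W = m ∧ (∀ u ∈ W, ∀ v ∈ W, Cfsg.hermForm n F q u v = 0) ∧
        W.map (Matrix.toLin' (x : Matrix (Fin n) (Fin n) F)) ≤ W) ↔
    ((r = 2 ∧ p ≠ 2 ∧ (2 * m < n ∨ padicValNat 2 (q + 1) ≤ padicValNat 2 n)) ∨
     (r ≠ p ∧ 2 < r ∧ b ≤ m ∧ 2 * (m % b) ≤ n % c ∧
       (i % 4 ≠ 2 ∨ (i % 4 = 2 ∧ (r - 1) / b + 2 * (m / b) ≤ n / b ∧
         (2 < i ∨ (i = 2 ∧ (r ∣ m ∨ padicValNat r n ≤ padicValNat r (q + 1)))))))) := by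
  classical
  have h1q := one_lt_q hq
  change AllFix F q n m r ↔ _
  obtain ⟨k, hk, hkn, hkq⟩ := exists_exp hq hmn hrΩ
  have hrp : r ≠ p := by
    rintro rfl
    obtain ⟨p', e, hp', hc', he, rfl⟩ := q_eq_primePow hq
    obtain rfl := CharP.eq F hc' (by assumption : CharP F r)
    rw [Nat.cast_pow, ZMod.natCast_self, zero_pow (by omega), zero_pow (by omega)] at hkq
    exact pow_ne_zero k (neg_ne_zero.mpr one_ne_zero) hkq.symm
  have hrF : (r : F) ≠ 0 := fun h0 =>
    hrp ((Nat.prime_dvd_prime_iff_eq Fact.out Fact.out).mp ((CharP.cast_eq_zero_iff F p r).mp h0)).symm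
  rcases eq_or_ne r 2 with rfl | hr2
  · have h2 : (2 : F) ≠ 0 := by exact_mod_cast hrF
    refine (two_iff hq h2 hm hmn).trans ⟨fun h => Or.inl ⟨rfl, Ne.symm hrp, h⟩, ?_⟩
    rintro (⟨-, -, h⟩ | ⟨-, h, -⟩)
    exacts [h, absurd h (lt_irrefl _)]
  have hr3 : 2 < r := lt_of_le_of_ne (Fact.out : r.Prime).two_le (Ne.symm hr2)
  haveI : Fact (2 < r) := ⟨hr3⟩
  have hq0 := cast_q_ne_zero (r := r) hq hrF
  have hord : orderOf (Fintype.card F : ZMod r) = b := by
    rw [orderOf_card_eq hq, orderOf_pow' _ two_ne_zero, ← hi, hb]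
    split_ifs with he
    · rw [Nat.gcd_eq_right he.two_dvd]
    · rw [Nat.coprime_iff_gcd_eq_one.mp (Nat.coprime_two_right.mpr (Nat.not_even_iff_odd.mp he)), Nat.div_one]
  have hipos : 0 < i := hi ▸ orderOf_pos_iff.mpr (isOfFinOrder_iff_pow_eq_one.mpr
    ⟨r - 1, by omega, ZMod.pow_card_sub_one_eq_one hq0⟩)
  by_cases hi4 : i % 4 = 2
  · have hb2 : b = i / 2 := by rw [hb, if_pos (Nat.even_iff.mpr (by omega))]
    have hcb : c = b := by rw [hc, if_neg (by omega), if_pos hi4, hb2]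
    rw [hcb]
    have hqb : (q : ZMod r) ^ b = (-1) ^ b := by
      rw [(Nat.odd_iff.mpr (show b % 2 = 1 by omega)).neg_one_pow]
      have h1 : (q : ZMod r) ^ b * (q : ZMod r) ^ b = 1 := by
        rw [← pow_add, show b + b = i by omega, hi, pow_orderOf_eq_one]
      refine (mul_self_eq_one_iff.mp h1).resolve_left fun h2 => ?_
      have h3 := Nat.le_of_dvd (by omega) (hi ▸ orderOf_dvd_of_pow_eq_one h2)
      omega
    have hiff : r ∣ q + 1 ↔ i = 2 := by
      rw [← ZMod.natCast_eq_zero_iff]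
      push_cast
      refine ⟨fun h => ?_, fun h => ?_⟩
      · have h2 : (q : ZMod r) ^ 2 = 1 := by rw [eq_neg_of_add_eq_zero_left h, neg_one_sq]
        have h3 := Nat.le_of_dvd two_pos (hi ▸ orderOf_dvd_of_pow_eq_one h2)
        omega
      · rw [show b = 1 by omega, pow_one, pow_one] at hqb
        rw [hqb, neg_add_cancel]
    by_cases hi2 : i = 2
    · refine (two_order_iff hq hrF hr2 hm hmn (hiff.mpr hi2)).trans ?_
      have hb1 : b = 1 := by omega
      subst hb1
      simp only [Nat.div_one, Nat.mod_one, mul_zero, Nat.zero_le, true_and]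
      constructor
      · exact fun h => Or.inr ⟨hrp, hr3, hm, Or.inr ⟨hi4, h.1, Or.inr ⟨hi2, h.2⟩⟩⟩
      · rintro (⟨h, -⟩ | ⟨-, -, -, h⟩)
        · exact absurd h hr2
        rcases h with h | ⟨-, h1, h2 | h2⟩
        exacts [absurd hi4 h, absurd hi2 (by omega), ⟨h1, h2.2⟩]
    · refine (self_iff hq hrF hr2 hmn (by omega) (fun h => hi2 (hiff.mp h)) hord hqb hk hkn hkq).trans ?_
      constructor
      · exact fun h => Or.inr ⟨hrp, hr3, h.1, h.2.1, Or.inr ⟨hi4, h.2.2, Or.inl (by omega)⟩⟩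
      · rintro (⟨h, -⟩ | ⟨-, -, h1, h2, h⟩)
        · exact absurd h hr2
        rcases h with h | ⟨-, h3, -⟩
        exacts [absurd hi4 h, ⟨h1, h2, h3⟩]
  · have hc2 : c = 2 * b := by
      rw [hc, hb]
      simp only [Nat.even_iff]
      split_ifs <;> omega
    rw [hc2]
    have hni : ∀ j, Odd j → (q : ZMod r) ^ j ≠ -1 := fun j hj hq1 => by
      have h1 : i ∣ 2 * j := hi ▸ orderOf_dvd_of_pow_eq_one (by rw [mul_comm, pow_mul, hq1, neg_one_sq])
      rcases Nat.even_or_odd i with he | ho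
      · have h4 : 4 ∣ i := Nat.dvd_of_mod_eq_zero (by rw [Nat.even_iff] at he; omega)
        obtain ⟨l, hl⟩ := h4.trans h1
        rw [Nat.odd_iff] at hj
        omega
      · have h2 : (q : ZMod r) ^ j = 1 := orderOf_dvd_iff_pow_eq_one.mp
          (hi ▸ (Nat.coprime_two_right.mpr ho).dvd_of_dvd_mul_left h1)
        exact ZMod.neg_one_ne_one (hq1.symm.trans h2)
    refine (paired_iff hq hrF hmn (by omega) hni hord hk hkn hkq).trans ?_
    constructor
    · exact fun h => Or.inr ⟨hrp, hr3, h.1, h.2, Or.inl hi4⟩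
    · rintro (⟨h, -⟩ | ⟨-, -, h1, h2, -⟩)
      exacts [absurd h hr2, ⟨h1, h2⟩]

end Cfsg.Agent.S5953
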