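import Cfsg.Statements.S5954
import Cfsg.Agent.S5953
import Cfsg.Agent.Lib.Elusive.UnitUnipotent

set_option autoImplicit false
open scoped MatrixGroups
open Cfsg

namespace Cfsg.Agent.S5954

open Module Cfsg.Agent.Lib.Unitary Cfsg.Agent.Lib.Elusive Cfsg.Agent.Lib.Elusive.UnitIso
  Cfsg.Agent.Lib.Elusive.UnitPieces Cfsg.Agent.Lib.Elusive.UnitBlocks Cfsg.Agent.Lib.Elusive.UnitNondeg
  Cfsg.Agent.Lib.Elusive.UnitUnipotent

section

variable {F : Type*} [Field F] [Fintype F] {q n m : ℕ}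

/-- Some nondegenerate subspace of dimension `m` is invariant. -/
def Fix (q m : ℕ) (f : Module.End F (Fin n → F)) : Prop :=
  ∃ W : Submodule F (Fin n → F), finrank F ↥W = m ∧ Nondeg q W ∧ Lib.Elusive.Inv f W

/-- All elements of order `r` modulo scalars fix a subspace. -/
def AllFix (F : Type*) [Field F] (q n m r : ℕ) : Prop :=
  ∀ x : Matrix.SpecialLinearGroup (Fin n) F, x ∈ Cfsg.SU n F q →
    (∃ z : F, ((x ^ r : Matrix.SpecialLinearGroup (Fin n) F) : Matrix (Fin n) (Fin n) F) = z • (1 : Matrix (Fin n) (Fin n) F)) →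
    (∀ z : F, (x : Matrix (Fin n) (Fin n) F) ≠ z • (1 : Matrix (Fin n) (Fin n) F)) →
    Fix q m (Matrix.toLin' (x : Matrix (Fin n) (Fin n) F))

theorem Fix.of_smul {f : Module.End F (Fin n → F)} {w : F} (hw : w ≠ 0) (h : Fix q m (w • f)) : Fix q m f := by
  obtain ⟨W, hW, hnd, hinv⟩ := h
  rw [Lib.Elusive.Inv, Submodule.map_smul _ _ _ hw] at hinv
  exact ⟨W, hW, hnd, hinv⟩

theorem AllFix.apply {r : ℕ} (h : AllFix F q n m r) {f : Module.End F (Fin n → F)}
    (hf : Isometric q f) (hdet : LinearMap.det f = 1) {z : F} (hz : f ^ r = z • 1)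
    (hne : ∀ t : F, f ≠ t • 1) : Fix q m f := by
  obtain ⟨x, hx⟩ := Linear.exists_sl f hdet
  rw [← hx] at hf hz hne ⊢
  refine h x (fun u v => by simpa [Matrix.toLin'_apply] using hf u v)
    ⟨z, by rw [Linear.eq_smul_one_iff, Linear.toLin_pow, hz]⟩ fun t ht => ?_
  exact hne t ((Linear.eq_smul_one_iff _ _).mp ht)

/-- Scaling away the scalar. -/
theorem fix_of_root {r : ℕ} {f : Module.End F (Fin n → F)} (hf : Isometric q f) {z w : F} (hfr : f ^ r = z • 1)
    (hw : w ^ (q + 1) = 1) (hwz : w ^ r = z)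
    (h : ∀ g : Module.End F (Fin n → F), Isometric q g → g ^ r = 1 → Fix q m g) : Fix q m f := by
  have hw0 : w ≠ 0 := fun h0 => by simp [h0] at hw
  refine Fix.of_smul (inv_ne_zero hw0) (h _ (S5953.smul_isometric hf (by rw [inv_pow, hw, inv_one])) ?_)
  rw [_root_.smul_pow, hfr, smul_smul, ← hwz, inv_pow, inv_mul_cancel₀ (pow_ne_zero r hw0), one_smul]

section Pieces

variable {r : ℕ} [hr : Fact r.Prime] {g : Module.End F (Fin n → F)} {c : ℕ}

theorem fix_of_pieces (hF : Fintype.card F = q ^ 2) (hrF : (r : F) ≠ 0) (hg : Isometric q g) (hgr : g ^ r = 1)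
    (hc : 0 < c)
    (hpiece : ∀ Y, Lib.Elusive.Inv g Y → Nondeg q Y → Y ⊓ End.eigenspace g (1 : F) = ⊥ → 0 < finrank F Y →
      ∃ P, P ≤ Y ∧ Lib.Elusive.Inv g P ∧ Nondeg q P ∧ finrank F P = c)
    (hmn : m ≤ n) (hle : m % c ≤ n % c) : Fix q m g := by
  obtain ⟨Z, hZ, -, hZE, hZnd, hEnd, hdim⟩ := hg.fixed_split hF
    (isSemisimple_of_pow_eq hrF one_ne_zero (by rw [hgr, one_smul])) (Inv.top g) (nondeg_top' hF)
  rw [finrank_top, finrank_fin_fun] at hdim
  obtain ⟨s, hs, hsub⟩ := exists_nondeg_inv hF hg hc hpiece _ Z rfl hZ hZnd hZE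
  obtain ⟨U, hUZ, hU, hUnd, hUd⟩ := hsub (min (m / c) s) (min_le_right _ _)
  rw [hs] at hdim
  have h1 : n % c ≤ finrank F ↥(⊤ ⊓ End.eigenspace g (1 : F)) := by
    have h5 : n % c = finrank F ↥(⊤ ⊓ End.eigenspace g (1 : F)) % c := by
      conv_lhs => rw [hdim, Nat.add_mul_mod_self_right]
    exact h5.le.trans (Nat.mod_le _ _)
  have h2 : min (m / c) s * c ≤ m :=
    (Nat.mul_le_mul_right c (min_le_left _ _)).trans (Nat.div_mul_le_self _ _)
  have hE : m - min (m / c) s * c ≤ finrank F ↥(⊤ ⊓ End.eigenspace g (1 : F)) := by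
    rcases Nat.le_total (m / c) s with h3 | h3
    · rw [min_eq_left h3]
      have := Nat.mod_add_div m c
      rw [mul_comm c] at this
      omega
    · rw [min_eq_right h3]
      omega
  obtain ⟨W, hWE, hWnd, hWd⟩ := exists_nondeg_sub hF hEnd hE
  obtain ⟨hsup, hdisj⟩ := nondeg_sup hF hUnd hWnd fun u hu w hw =>
    hg.perp_fixed hF hZ hZE u (hUZ hu) w (hWE hw).2
  refine ⟨U ⊔ W, ?_, hsup, hU.sup (Inv.of_le_eigenspace (hWE.trans inf_le_right))⟩
  rw [finrank_sup_of_disjoint hdisj, hUd, hWd]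
  omega

theorem pieces_iff (hF : Fintype.card F = q ^ 2) (hrF : (r : F) ≠ 0) (hrq : ¬ r ∣ q + 1) (hn : 0 < n)
    (hmn : m ≤ n) (hc : 0 < c) (hqc : (q : ZMod r) ^ c = (-1) ^ c)
    (hmin : ∀ j, 0 < j → (q : ZMod r) ^ j = (-1) ^ j → c ≤ j)
    (hpiece : ∀ (g : Module.End F (Fin n → F)), Isometric q g → g ^ r = 1 → ∀ Y, Lib.Elusive.Inv g Y →
      Nondeg q Y → Y ⊓ End.eigenspace g (1 : F) = ⊥ → 0 < finrank F Y →
      ∃ P, P ≤ Y ∧ Lib.Elusive.Inv g P ∧ Nondeg q P ∧ finrank F P = c)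
    (hlow : n % c < m) (hcn : c ≤ n) :
    AllFix F q n m r ↔ (c ≤ m ∧ m % c ≤ n % c) := by
  constructor
  · intro h
    obtain ⟨g₀, hg, hgr, hfix⟩ := exists_piece_elem hF hrF hc hqc hmin
    have hnb : n / c * c + n % c = n := Nat.div_add_mod' _ _
    obtain ⟨hiso, hfr, -, hdim⟩ := blockEnd_spec hF hnb (fun _ => g₀) (fun _ => hg) (fun _ => hgr) (fun _ => hfix)
    set f := blockEnd hnb fun _ => g₀
    have hlt := Nat.mod_lt n hc
    obtain ⟨W, hWd, hWnd, hWinv⟩ := h.apply hiso (UnitBlocks.det_eq_one hF hrq hiso hfr) (z := 1)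
      (by rw [one_smul, hfr]) (S5953.not_scalar hF hrq hn hiso hfr (by omega))
    obtain ⟨Z, hZ, -, hZE, hZnd, -, hWdim⟩ := hiso.fixed_split hF
      (isSemisimple_of_pow_eq hrF one_ne_zero (by rw [hfr, one_smul])) hWinv hWnd
    obtain ⟨s, hs, -⟩ := exists_nondeg_inv hF hiso hc (hpiece f hiso hfr) _ Z rfl hZ hZnd hZE
    rw [hWd, hs] at hWdim
    have ha := Submodule.finrank_mono (inf_le_right : W ⊓ End.eigenspace f (1 : F) ≤ End.eigenspace f (1 : F))
    rw [hdim] at ha
    refine ⟨?_, ?_⟩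
    · rcases Nat.eq_zero_or_pos s with rfl | hs0
      · omega
      · have := Nat.le_mul_of_pos_left c hs0
        omega
    · rw [hWdim, Nat.add_mul_mod_self_right]
      exact (Nat.mod_le _ _).trans ha
  · rintro ⟨-, hle⟩ x hx ⟨z, hz⟩ -
    obtain ⟨hiso, hfr, hzq, -⟩ := S5953.exists_scalar hF hn hx hz
    obtain ⟨w, hw, hwz⟩ := S5953.exists_norm_root hrq hzq
    exact fix_of_root hiso hfr hw hwz fun g hg hgr => fix_of_pieces hF hrF hg hgr hc (hpiece g hg hgr) hmn hle

/-- The case `r ∣ q + 1`. -/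
theorem two_order_iff (hF : Fintype.card F = q ^ 2) (hrF : (r : F) ≠ 0) (hr2 : r ≠ 2) (hm : 1 ≤ m)
    (hmn : m ≤ n) (hrq : r ∣ q + 1) :
    AllFix F q n m r ↔ (r ∣ m ∨ padicValNat r n ≤ padicValNat r (q + 1)) := by
  classical
  have h1q := one_lt_q hF
  have hq1 : (q : ZMod r) ^ 1 = -1 := by
    rw [← ZMod.natCast_eq_zero_iff] at hrq
    push_cast at hrq
    rw [pow_one]
    exact eq_neg_of_add_eq_zero_left hrq
  have hb : orderOf (Fintype.card F : ZMod r) = 1 := by
    rw [orderOf_eq_one_iff, hF, Nat.cast_pow, ← pow_one (q : ZMod r), hq1, neg_one_sq]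
  have hrq1 : ¬ r ∣ q - 1 := fun h => by
    have h2 := Nat.dvd_sub hrq h
    rw [show q + 1 - (q - 1) = 2 by omega] at h2
    exact hr2 ((Nat.prime_dvd_prime_iff_eq hr.out Nat.prime_two).mp h2)
  have hcop : Nat.Coprime r (q - 1) := hr.out.coprime_iff_not_dvd.mpr hrq1
  have hN : Fintype.card F - 1 = (q + 1) * (q - 1) := by rw [hF, ← Nat.sq_sub_sq, one_pow]
  have hcard : Nat.card Fˣ = (q + 1) * (q - 1) := by
    rw [Nat.card_units, Nat.card_eq_fintype_card, hN]
  have hval : padicValNat r (Nat.card Fˣ) = padicValNat r (q + 1) := by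
    rw [hcard, padicValNat.mul (by omega) (by omega), padicValNat.eq_zero_of_not_dvd hrq1, add_zero]
  have hdvd : r ∣ Nat.card Fˣ := hcard ▸ dvd_mul_of_dvd_left hrq _
  have hrodd : (-1 : F) ^ (r + 1) = 1 := ((hr.out.odd_of_ne_two hr2).add_one).neg_one_pow
  constructor
  · intro h
    by_contra hcon
    push Not at hcon
    obtain ⟨hrm, hv⟩ := hcon
    have hrn : r ∣ n := dvd_of_one_le_padicValNat (by omega)
    obtain ⟨s, hs⟩ := hrn
    have hs0 : s ≠ 0 := by rintro rfl; omega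
    rw [hs, padicValNat.mul hr.out.ne_zero hs0, padicValNat_self] at hv
    obtain ⟨w, hws, hw⟩ := (Linear.exists_pow_eq_iff hdvd s).mpr (by
      rw [hval, padicValNat_dvd_iff_le hs0]; omega)
    set z : F := ((w ^ (q - 1) : Fˣ) : F)
    have hzn : z * z ^ q = 1 := by
      rw [← pow_succ', ← Units.val_pow_eq_pow_val, ← pow_mul, mul_comm, ← hcard, pow_card_eq_one', Units.val_one]
    have hzs : z ^ s = 1 := by
      rw [← Units.val_pow_eq_pow_val, ← pow_mul, mul_comm, pow_mul, hws, one_pow, Units.val_one]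
    have hznp : ∀ c : F, c ^ r ≠ z := fun c hc => by
      have hc0 : c ≠ 0 := fun h0 => by
        rw [h0, zero_pow hr.out.ne_zero] at hc
        exact Units.ne_zero _ hc.symm
      have hc' : Units.mk0 c hc0 ^ r = w ^ (q - 1) :=
        Units.ext (by rw [Units.val_pow_eq_pow_val, Units.val_mk0]; exact hc)
      obtain ⟨u, t, hut⟩ : ∃ u t, (q - 1) * u = r * t + 1 := by
        refine ⟨(((q - 1 : ℕ) : ZMod r)⁻¹).val, (q - 1) * (((q - 1 : ℕ) : ZMod r)⁻¹).val / r, ?_⟩
        have h1 : (((q - 1) * (((q - 1 : ℕ) : ZMod r)⁻¹).val : ℕ) : ZMod r) = ((1 : ℕ) : ZMod r) := by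
          rw [Nat.cast_mul, ZMod.natCast_val, ZMod.cast_id, Nat.cast_one,
            mul_inv_cancel₀ (fun h0 => hrq1 ((ZMod.natCast_eq_zero_iff _ _).mp h0))]
        rw [ZMod.natCast_eq_natCast_iff', Nat.one_mod_eq_one.mpr hr.out.ne_one] at h1
        conv_lhs => rw [← Nat.div_add_mod ((q - 1) * (((q - 1 : ℕ) : ZMod r)⁻¹).val) r, h1]
      refine hw (Units.mk0 c hc0 ^ u * (w ^ t)⁻¹) ?_
      rw [mul_pow, ← pow_mul, mul_comm u r, pow_mul, hc', inv_pow, ← pow_mul, ← pow_mul, hut,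
        mul_comm r t, pow_add, pow_one, mul_comm (w ^ (t * r)) w, mul_inv_cancel_right]
    obtain ⟨f, hiso, hfr⟩ := exists_monomial (r := r) hF hzn s (n := n) (by rw [hs, mul_comm])
    obtain ⟨s', hs', hdet⟩ := nonsplit_det hznp hfr
    rw [finrank_fin_fun, hs] at hs'
    obtain rfl := Nat.eq_of_mul_eq_mul_left hr.out.pos hs'
    rw [hrodd, one_mul, hzs] at hdet
    obtain ⟨W, hWd, -, hWinv⟩ := h.apply hiso hdet hfr fun t ht => by
      subst ht
      have h2 := congrFun (LinearMap.congr_fun hfr (Pi.single (⟨0, by omega⟩ : Fin n) 1)) ⟨0, by omega⟩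
      rw [_root_.smul_pow, one_pow] at h2
      exact hznp t (by simpa using h2)
    obtain ⟨hu, hE⟩ := isUniform_nonsplit hrF (Units.ne_zero _) hznp hfr
    obtain ⟨l, hl⟩ := hu.exists_type hWinv
    have h3 := hl.2.2
    rw [hE, inf_bot_eq, finrank_bot, zero_add, hWd] at h3
    exact hrm ⟨l, by rw [h3, mul_comm]⟩
  · intro hor x hx ⟨z, hz⟩ _
    obtain ⟨hiso, hfr, hzq, hdet⟩ := S5953.exists_scalar hF (by omega) hx hz
    set f := Matrix.toLin' (x : Matrix (Fin n) (Fin n) F)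
    have hz0 : z ≠ 0 := fun h0 => by simp [h0] at hzq
    by_cases hex : ∃ c : F, c ^ r = z
    · obtain ⟨c, hc⟩ := hex
      have hc0 : c ≠ 0 := fun h0 => hz0 (by rw [← hc, h0, zero_pow hr.out.ne_zero])
      have hcq : c ^ (q + 1) = 1 := eq_one_of_coprime hcop (by rw [← pow_mul, mul_comm, pow_mul, hc, hzq])
        (by rw [← pow_mul, ← hN]; exact FiniteField.pow_card_sub_one_eq_one c hc0)
      refine fix_of_root hiso hfr hcq hc fun g hg hgr => fix_of_pieces hF hrF hg hgr one_pos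
        (fun Y hY hYnd hYE hpos => exists_nondeg_piece_self hF hg hgr hrF hb odd_one hq1 hY hYnd hYE hpos)
        hmn (by simp [Nat.mod_one])
    · push Not at hex
      have hrm : r ∣ m := hor.resolve_right fun hv => by
        obtain ⟨s, hs, hd⟩ := nonsplit_det hex hfr
        rw [finrank_fin_fun] at hs
        have hs0 : s ≠ 0 := by rintro rfl; omega
        rw [hdet, hrodd, one_mul] at hd
        have h1 := (Linear.exists_pow_eq_iff hdvd s).mp ⟨Units.mk0 z hz0, Units.ext (by simpa using hd.symm),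
          fun c hc => hex c (by simpa using congrArg Units.val hc)⟩
        rw [hval, padicValNat_dvd_iff_le hs0] at h1
        rw [hs, padicValNat.mul hr.out.ne_zero hs0, padicValNat_self] at hv
        omega
      obtain ⟨hu, hE⟩ := isUniform_nonsplit hrF hz0 hex hfr
      obtain ⟨s, hs, hsub⟩ := exists_nondeg_inv hF hiso hr.out.pos
        (fun Y hY hYnd hYE hpos => exists_nondeg_piece_nonsplit hF hiso hfr hu hY hYnd hYE hpos)
        _ ⊤ rfl (Inv.top f) (nondeg_top' hF) (by rw [hE, inf_bot_eq])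
      rw [finrank_top, finrank_fin_fun] at hs
      obtain ⟨k, rfl⟩ := hrm
      obtain ⟨W, -, hW, hWnd, hWd⟩ := hsub k (Nat.le_of_mul_le_mul_right (by rw [← hs, mul_comm]; exact hmn) hr.out.pos)
      exact ⟨W, by rw [hWd, mul_comm], hWnd, hW⟩

end Pieces

/-- A map with square `μ * μ` splits into its two eigenspaces. -/
theorem eigen_split (h2 : (2 : F) ≠ 0) {f : Module.End F (Fin n → F)} {μ : F} (hμ0 : μ ≠ 0)
    (hff : ∀ v, f (f v) = (μ * μ) • v) :
    End.eigenspace f μ ⊓ End.eigenspace f (-μ) = ⊥ ∧ End.eigenspace f μ ⊔ End.eigenspace f (-μ) = ⊤ ∧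
    LinearMap.det f = μ ^ finrank F (End.eigenspace f μ) * (-μ) ^ finrank F (End.eigenspace f (-μ)) ∧
    ∀ W, Lib.Elusive.Inv f W →
      finrank F W = finrank F ↥(W ⊓ End.eigenspace f μ) + finrank F ↥(W ⊓ End.eigenspace f (-μ)) := by
  set P := End.eigenspace f μ
  set N := End.eigenspace f (-μ)
  have hP : ∀ v ∈ P, f v = μ • v := fun v hv => End.mem_eigenspace_iff.mp hv
  have hN : ∀ v ∈ N, f v = (-μ) • v := fun v hv => End.mem_eigenspace_iff.mp hv
  have h2μ : (2 * μ : F) ≠ 0 := mul_ne_zero h2 hμ0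
  have hdisj : P ⊓ N = ⊥ := by
    rw [Submodule.eq_bot_iff]
    rintro u ⟨hu, hu'⟩
    have h1 : μ • u = (-μ) • u := (hP u hu).symm.trans (hN u hu')
    have h3 : (2 * μ) • u = 0 := by
      rw [two_mul, add_smul]
      nth_rw 2 [h1]
      rw [neg_smul, add_neg_cancel]
    exact (smul_eq_zero.mp h3).resolve_left h2μ
  have hsplit : ∀ (W : Submodule F (Fin n → F)), Lib.Elusive.Inv f W → W = (W ⊓ P) ⊔ (W ⊓ N) := by
    intro W hW
    refine le_antisymm (fun v hv => ?_) (sup_le inf_le_left inf_le_left)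
    refine Submodule.mem_sup.mpr ⟨(2 * μ)⁻¹ • (f v + μ • v), ⟨W.smul_mem _ (W.add_mem (hW.mem hv) (W.smul_mem _ hv)),
      End.mem_eigenspace_iff.mpr ?_⟩, (2 * μ)⁻¹ • (-(f v) + μ • v),
      ⟨W.smul_mem _ (W.add_mem (W.neg_mem (hW.mem hv)) (W.smul_mem _ hv)), End.mem_eigenspace_iff.mpr ?_⟩, ?_⟩
    · simp only [map_smul, map_add, hff]
      match_scalars <;> ring
    · simp only [map_smul, map_add, map_neg, hff]
      match_scalars <;> ring
    · have h5 : (2 * μ)⁻¹ * (2 * μ) = 1 := inv_mul_cancel₀ h2μ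
      match_scalars
      · ring
      · linear_combination h5
  have hsup : P ⊔ N = ⊤ := by
    have h1 := hsplit ⊤ (Inv.top f)
    rw [top_inf_eq, top_inf_eq] at h1
    exact h1.symm
  refine ⟨hdisj, hsup, ?_, fun W hW => ?_⟩
  · have hIC : IsCompl P N := ⟨disjoint_iff.mpr hdisj, codisjoint_iff.mpr hsup⟩
    have h1 : f = (Submodule.prodEquivOfIsCompl P N hIC).conj
        ((μ • (1 : Module.End F P)).prodMap ((-μ) • (1 : Module.End F N))) := LinearMap.ext fun v => by
      obtain ⟨⟨a, b⟩, rfl⟩ := (Submodule.prodEquivOfIsCompl P N hIC).surjective v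
      simp [LinearEquiv.conj_apply, hP _ a.2, hN _ b.2]
    conv_lhs => rw [h1, LinearEquiv.conj_apply, LinearMap.comp_assoc, LinearMap.det_conj,
      LinearMap.det_prodMap, LinearMap.det_smul, LinearMap.det_smul, map_one, map_one, mul_one, mul_one]
  · conv_lhs => rw [hsplit W hW]
    exact finrank_sup_of_disjoint (le_bot_iff.mp (hdisj ▸ inf_le_inf inf_le_right inf_le_right))

/-- With a skew square root both eigenspaces are isotropic. -/
theorem skew_split (hF : Fintype.card F = q ^ 2) (h2 : (2 : F) ≠ 0) {f : Module.End F (Fin n → F)}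
    (hf : Isometric q f) {μ : F} (hμ : μ ^ (q + 1) = -1) (hff : ∀ v, f (f v) = (μ * μ) • v) :
    TI q (End.eigenspace f μ) ∧ TI q (End.eigenspace f (-μ)) ∧ Even n ∧
      finrank F (End.eigenspace f μ) = n / 2 ∧ LinearMap.det f = (-(μ * μ)) ^ (n / 2) := by
  have hμ0 : μ ≠ 0 := fun h0 => by simp [h0] at hμ
  obtain ⟨hdisj, hsup, hdet, -⟩ := eigen_split h2 hμ0 hff
  have hqodd : Odd q := by
    have h' := FiniteField.odd_card_of_char_ne_two (F := F) (fun hc => h2 (by
      haveI : CharP F 2 := ringChar.eq_iff.mp hc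
      exact CharTwo.two_eq_zero))
    rw [hF, ← Nat.odd_iff, Nat.odd_pow_iff two_ne_zero] at h'
    exact h'
  have hti : ∀ ν : F, ν ^ (q + 1) = -1 → TI q (End.eigenspace f ν) := fun ν hν u hu v hv => by
    have h1 := hf u v
    rw [End.mem_eigenspace_iff.mp hu, End.mem_eigenspace_iff.mp hv, herm_smul_left, herm_smul_right,
      ← mul_assoc, ← pow_succ', hν, neg_one_mul] at h1
    exact (mul_eq_zero.mp (show (2 : F) * hermForm n F q u v = 0 by linear_combination -h1)).resolve_left h2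
  have hP := hti μ hμ
  have hN := hti (-μ) (by rw [hqodd.add_one.neg_pow, hμ])
  have hdim : finrank F (End.eigenspace f μ) + finrank F (End.eigenspace f (-μ)) = n := by
    rw [← finrank_sup_of_disjoint hdisj, hsup, finrank_top, finrank_fin_fun]
  have h1 := two_mul_finrank_le hF (nondeg_top' hF) le_top hP
  have h3 := two_mul_finrank_le hF (nondeg_top' hF) le_top hN
  rw [finrank_top, finrank_fin_fun] at h1 h3
  refine ⟨hP, hN, ⟨finrank F (End.eigenspace f μ), by omega⟩, by omega, ?_⟩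
  rw [hdet, show finrank F (End.eigenspace f (-μ)) = finrank F (End.eigenspace f μ) by omega,
    show n / 2 = finrank F (End.eigenspace f μ) by omega, ← mul_pow, mul_neg]

/-- Involutions modulo scalars. -/
theorem two_iff (hF : Fintype.card F = q ^ 2) (h2 : (2 : F) ≠ 0) (hm : 1 ≤ m) (hmn : m < n) :
    AllFix F q n m 2 ↔ (Odd n ∨ Even m ∨ (padicValNat 2 n ≤ padicValNat 2 (q + 1) ∧ q % 4 = 3)) := by
  classical
  haveI : Fact (Nat.Prime 2) := ⟨Nat.prime_two⟩
  have h1q := one_lt_q hF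
  have hne : (-1 : F) ≠ 1 := fun h => h2 (by linear_combination -h)
  have hchar : ringChar F ≠ 2 := fun hc => h2 (by
    haveI : CharP F 2 := ringChar.eq_iff.mp hc
    exact CharTwo.two_eq_zero)
  have hqodd : Odd q := by
    have h' := FiniteField.odd_card_of_char_ne_two hchar
    rw [hF, ← Nat.odd_iff, Nat.odd_pow_iff two_ne_zero] at h'
    exact h'
  obtain ⟨l, hl⟩ := hqodd
  have hsqrt : ∀ z : F, z ^ (q + 1) = 1 → ∃ μ, z = μ * μ ∧ μ ^ (q + 1) = z ^ (l + 1) := fun z hzq => by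
    have hz0 : z ≠ 0 := fun h0 => by simp [h0] at hzq
    obtain ⟨μ, hμ⟩ : IsSquare z := by
      rw [FiniteField.isSquare_iff hchar hz0, hF]
      rw [show q ^ 2 / 2 = (q + 1) * l by
        rw [hl, show (2 * l + 1) ^ 2 = 1 + 2 * ((2 * l + 1 + 1) * l) by ring, Nat.add_mul_div_left _ _ two_pos]
        simp, pow_mul, hzq, one_pow]
    exact ⟨μ, hμ, by rw [hμ, ← pow_two, ← pow_mul]; congr 1; omega⟩
  obtain ⟨u, hu⟩ : ∃ u, u = padicValNat 2 (q + 1) := ⟨_, rfl⟩
  rw [← hu]
  have hu1 : 1 ≤ u := hu ▸ one_le_padicValNat_of_dvd (by omega) ⟨l + 1, by omega⟩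
  have hhalf : padicValNat 2 (l + 1) = u - 1 := by
    rw [hu, show q + 1 = 2 * (l + 1) by omega, padicValNat.mul two_ne_zero (by omega), padicValNat_self,
      Nat.add_sub_cancel_left]
  constructor
  · intro h
    by_contra hcon
    push Not at hcon
    obtain ⟨hno, hme, hc3⟩ := hcon
    obtain ⟨h', hh'⟩ := (Nat.not_odd_iff_even.mp hno).two_dvd
    obtain ⟨z, hzq, hzl, hzh⟩ : ∃ z : F, z ^ (q + 1) = 1 ∧ z ^ (l + 1) = -1 ∧ (-z) ^ h' = 1 := by
      by_cases h4 : q % 4 = 1
      · refine ⟨-1, ?_, ?_, by rw [neg_neg, one_pow]⟩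
        · rw [show q + 1 = 2 * (l + 1) by omega, pow_mul, neg_one_sq, one_pow]
        · exact (Nat.odd_iff.mpr (show (l + 1) % 2 = 1 by omega)).neg_one_pow
      · have h43 : q % 4 = 3 := by omega
        have hv : u < padicValNat 2 n := by
          by_contra h5; exact hc3 (by omega) h43
        rw [hh', padicValNat.mul two_ne_zero (by omega), padicValNat_self] at hv
        have hdvd : 2 ^ u ∣ Nat.card Fˣ := by
          rw [Nat.card_units, Nat.card_eq_fintype_card, hF, show q ^ 2 - 1 = (q + 1) * (q - 1) by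
            rw [← Nat.sq_sub_sq, one_pow]]
          exact dvd_mul_of_dvd_left (hu ▸ pow_padicValNat_dvd) _
        obtain ⟨v, hv'⟩ := IsCyclic.exists_ofOrder_eq_natCard (α := Fˣ)
        obtain ⟨t, ht⟩ := hdvd
        have ht0 : t ≠ 0 := fun h0 => Nat.card_pos.ne' (ht.trans (by rw [h0, mul_zero]))
        set z : F := ((v ^ t : Fˣ) : F)
        have hz : orderOf z = 2 ^ u := by
          rw [orderOf_units, orderOf_pow_of_dvd ht0 (by rw [hv', ht]; exact dvd_mul_left _ _), hv', ht,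
            Nat.mul_div_cancel _ (Nat.pos_of_ne_zero ht0)]
        have hzq : z ^ (q + 1) = 1 := orderOf_dvd_iff_pow_eq_one.mp (hz ▸ hu ▸ pow_padicValNat_dvd)
        have hh2 : 2 ^ u ∣ h' := (padicValNat_dvd_iff_le (by omega)).mpr (by omega)
        refine ⟨z, hzq, ?_, ?_⟩
        · refine (mul_self_eq_one_iff.mp ?_).resolve_left fun h1 => ?_
          · rw [← pow_add, show l + 1 + (l + 1) = q + 1 by omega, hzq]
          · rw [← orderOf_dvd_iff_pow_eq_one, hz, padicValNat_dvd_iff_le (by omega), hhalf] at h1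
            omega
        · rw [neg_pow, orderOf_dvd_iff_pow_eq_one.mp (show orderOf z ∣ h' by rw [hz]; exact hh2), mul_one]
          exact ((Nat.even_iff.mpr (Nat.mod_eq_zero_of_dvd ((dvd_pow_self 2 (by omega)).trans hh2)))).neg_one_pow
    obtain ⟨f, hiso, hfr⟩ := exists_monomial (r := 2) hF (z := z) (by rw [← pow_succ', hzq]) h' (n := n) (by omega)
    obtain ⟨μ, hμ, hμq⟩ := hsqrt z hzq
    rw [hzl] at hμq
    have hff : ∀ v, f (f v) = (μ * μ) • v := fun v => by
      have h1 := LinearMap.congr_fun hfr v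
      rwa [pow_two, Module.End.mul_apply, LinearMap.smul_apply, Module.End.one_apply, hμ] at h1
    obtain ⟨hP, hN, -, -, hdet⟩ := skew_split hF h2 hiso hμq hff
    rw [← hμ, show n / 2 = h' by omega, hzh] at hdet
    obtain ⟨W, hWd, hWnd, hWinv⟩ := h.apply hiso hdet hfr fun t ht => by
      subst ht
      have h1 := hiso (Pi.single ⟨0, by omega⟩ 1) (Pi.single ⟨0, by omega⟩ 1)
      rw [LinearMap.smul_apply, Module.End.one_apply, herm_smul_left, herm_smul_right, herm_std hF,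
        if_pos rfl, mul_one, ← pow_succ'] at h1
      have h3 := congrFun (hff (Pi.single ⟨0, by omega⟩ 1)) ⟨0, by omega⟩
      simp only [LinearMap.smul_apply, Module.End.one_apply, smul_smul, Pi.smul_apply, Pi.single_eq_same,
        smul_eq_mul, mul_one] at h3
      refine hne ?_
      rw [← hμq, ← h1, show q + 1 = 2 * (l + 1) by omega, pow_mul, pow_mul, pow_two, pow_two, h3]
    obtain ⟨-, -, -, hWsplit⟩ := eigen_split h2 (fun h0 => by simp [h0] at hμq) hff
    have h3 := hWsplit W hWinv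
    have h4 := two_mul_finrank_le hF hWnd inf_le_left (hP.mono inf_le_right : TI q (W ⊓ End.eigenspace f μ))
    have h5 := two_mul_finrank_le hF hWnd inf_le_left (hN.mono inf_le_right : TI q (W ⊓ End.eigenspace f (-μ)))
    exact hme ⟨finrank F ↥(W ⊓ End.eigenspace f μ), by omega⟩
  · intro hcond x hx ⟨z, hz⟩ _
    obtain ⟨hiso, hfr, hzq, hdet⟩ := S5953.exists_scalar hF (by omega) hx hz
    set f := Matrix.toLin' (x : Matrix (Fin n) (Fin n) F)
    obtain ⟨μ, hμ, hμq⟩ := hsqrt z hzq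
    have hz0 : z ≠ 0 := fun h0 => by simp [h0] at hzq
    have hμ0 : μ ≠ 0 := fun h0 => hz0 (by rw [hμ, h0, mul_zero])
    have hff : ∀ v, f (f v) = (μ * μ) • v := fun v => by
      have h1 := LinearMap.congr_fun hfr v
      rwa [pow_two, Module.End.mul_apply, LinearMap.smul_apply, Module.End.one_apply, hμ] at h1
    have hsq : μ ^ (q + 1) * μ ^ (q + 1) = 1 := by rw [← mul_pow, ← hμ, hzq]
    obtain ⟨hdisj, hsup, -, -⟩ := eigen_split h2 hμ0 hff
    rcases mul_self_eq_one_iff.mp hsq with hε | hε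
    · set P := End.eigenspace f μ
      set N := End.eigenspace f (-μ)
      have hPN : ∀ u ∈ P, ∀ v ∈ N, hermForm n F q u v = 0 := fun u hu v hv => by
        have h1 := hiso u v
        rw [End.mem_eigenspace_iff.mp hu, End.mem_eigenspace_iff.mp hv, herm_smul_left, herm_smul_right,
          neg_pow_q hF, ← mul_assoc, mul_neg, ← pow_succ', hε, neg_one_mul] at h1
        exact (mul_eq_zero.mp (show (2 : F) * hermForm n F q u v = 0 by linear_combination -h1)).resolve_left h2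
      have hsplit : ∀ y, ∃ a ∈ P, ∃ b ∈ N, a + b = y := fun y =>
        Submodule.mem_sup.mp (hsup.ge (Submodule.mem_top (x := y)))
      have hPnd : Nondeg q P := fun u hu huy => herm_nondeg_left hF fun y => by
        obtain ⟨a, ha, b, hb, rfl⟩ := hsplit y
        rw [herm_add_right _ _ _ hF, huy a ha, hPN u hu b hb, add_zero]
      have hNnd : Nondeg q N := fun u hu huy => herm_nondeg_left hF fun y => by
        obtain ⟨a, ha, b, hb, rfl⟩ := hsplit y
        rw [herm_add_right _ _ _ hF, huy b hb, herm_eq_zero_symm hF (hPN a ha u hu), add_zero]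
      have hdim : finrank F P + finrank F N = n := by
        rw [← finrank_sup_of_disjoint hdisj, hsup, finrank_top, finrank_fin_fun]
      obtain ⟨U, hUP, hU, hUd⟩ := exists_nondeg_sub hF hPnd (k := min m (finrank F P)) (min_le_right _ _)
      obtain ⟨W, hWN, hW, hWd⟩ := exists_nondeg_sub hF hNnd (k := m - min m (finrank F P)) (by omega)
      obtain ⟨hsup', hdisj'⟩ := nondeg_sup hF hU hW fun u hu w hw => hPN u (hUP hu) w (hWN hw)
      refine ⟨U ⊔ W, ?_, hsup', (Inv.of_le_eigenspace hUP).sup (Inv.of_le_eigenspace hWN)⟩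
      rw [finrank_sup_of_disjoint hdisj', hUd, hWd]
      omega
    · obtain ⟨hP, -, hne', hPd, hdet'⟩ := skew_split hF h2 hiso hε hff
      rw [hdet, ← hμ] at hdet'
      rw [hμq] at hε
      have hme : Even m := by
        rcases hcond with ho | he | ⟨hv, h43⟩
        · exact absurd hne' (Nat.not_even_iff_odd.mpr ho)
        · exact he
        exfalso
        obtain ⟨h', hh'⟩ := hne'.two_dvd
        rw [show n / 2 = h' by omega] at hdet'
        rw [hh', padicValNat.mul two_ne_zero (by omega), padicValNat_self] at hv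
        obtain ⟨a, ha⟩ : 2 ^ padicValNat 2 h' ∣ l + 1 := (padicValNat_dvd_iff_le (by omega)).mpr (by omega)
        obtain ⟨o, ho⟩ : 2 ^ padicValNat 2 h' ∣ h' := pow_padicValNat_dvd
        have hodd : Odd o := Nat.odd_iff.mpr (by
          by_contra h5
          obtain ⟨o', rfl⟩ : 2 ∣ o := Nat.dvd_of_mod_eq_zero (by omega)
          exact pow_succ_padicValNat_not_dvd (show h' ≠ 0 by omega) ⟨o', by rw [pow_succ, mul_assoc]; exact ho⟩)
        have h6 : (-z) ^ ((l + 1) * o) = 1 := by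
          rw [ha, mul_right_comm, ← ho, pow_mul, ← hdet', one_pow]
        rw [pow_mul, (Nat.even_iff.mpr (show (l + 1) % 2 = 0 by omega)).neg_pow, hε, hodd.neg_one_pow] at h6
        exact hne h6
      obtain ⟨k, rfl⟩ := hme
      obtain ⟨v, hv⟩ := exists_linearIndependent_of_le_finrank (R := F)
        (M := End.eigenspace f μ) (n := k) (by omega)
      let W₀ := Submodule.span F (Set.range fun i => (v i : Fin n → F))
      have hW₀ : W₀ ≤ End.eigenspace f μ := by
        rw [Submodule.span_le]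
        rintro _ ⟨i, rfl⟩
        exact (v i).2
      obtain ⟨Q, -, -, hQ, hQnd, hQd⟩ := hiso.exists_partner hF
        (isSemisimple_of_pow_eq (r := 2) (by exact_mod_cast h2) hz0 hfr) (Inv.top f) (nondeg_top' hF) le_top
        (Inv.of_le_eigenspace hW₀) (hP.mono hW₀)
      refine ⟨Q, ?_, hQnd, hQ⟩
      rw [hQd, finrank_span_eq_card (b := fun i => (v i : Fin n → F))
        (hv.map' (Submodule.subtype _) (Submodule.ker_subtype _)), Fintype.card_fin, two_mul]

/-- Elements of order the characteristic. -/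
theorem unipotent_iff (hF : Fintype.card F = q ^ 2) {p : ℕ} [Fact p.Prime] [CharP F p] (hm : 1 ≤ m) (hmn : m < n) :
    AllFix F q n m p ↔
      ∀ μ : Multiset ℕ, (∀ a ∈ μ, 0 < a ∧ a ≤ p) → μ.sum = n → ∃ ν : Multiset ℕ, ν ≤ μ ∧ ν.sum = m := by
  classical
  constructor
  · intro h μ hμ hμn
    by_contra hcon
    obtain ⟨g, hg, hgp, hrk⟩ := exists_blocks (p := p) hF μ hμ n hμn
    obtain ⟨W, hWd, hWnd, hWinv⟩ := h.apply hg (UnitUnipotent.det_eq_one hgp) (z := 1) (by rw [one_smul, hgp])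
      fun t ht => by
        have hn : 0 < n := by omega
        have ht1 : t = 1 := by
          have h2 := congrFun (LinearMap.congr_fun hgp (Pi.single ⟨0, hn⟩ 1)) ⟨0, hn⟩
          rw [ht, _root_.smul_pow, one_pow] at h2
          have h3 : t ^ p = 1 := by simpa using h2
          have h4 : (t - 1) ^ p = 0 := by rw [sub_pow_char, h3, one_pow, sub_self]
          exact sub_eq_zero.mp (eq_zero_of_pow_eq_zero h4)
        have h1 := hrk 1
        rw [ht, ht1, one_smul, sub_self, rk, pow_one, Submodule.map_zero, finrank_bot] at h1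
        have hones : ∀ a ∈ μ, a = 1 := fun a ha => by
          have h5 := Multiset.sum_eq_zero_iff.mp h1.symm (a - 1) (Multiset.mem_map_of_mem _ ha)
          have := (hμ a ha).1
          omega
        rw [Multiset.eq_replicate_card.mpr hones, Multiset.sum_replicate, smul_eq_mul, mul_one] at hμn
        refine hcon ⟨Multiset.replicate m 1, ?_, by simp⟩
        rw [Multiset.eq_replicate_card.mpr hones, Multiset.replicate_le_replicate 1]
        omega
    have hC := isCompl_perp hF hWnd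
    have hsubInv : ∀ {U : Submodule F (Fin n → F)}, Lib.Elusive.Inv g U → Lib.Elusive.Inv (g - 1) U :=
      fun {U} hU => Inv.of_mem fun x hx => by
        rw [LinearMap.sub_apply, Module.End.one_apply]
        exact U.sub_mem (hU.mem hx) hx
    obtain ⟨ν, hν, hνs⟩ := exists_subsum (P := p) ((pow_eq_one_iff_sub g).mp hgp) (hsubInv hWinv)
      (hsubInv (hg.inv_perp hF hWinv)) hC.disjoint.eq_bot hC.codisjoint.eq_top hrk
    exact hcon ⟨ν, hν, hνs.trans hWd⟩
  · intro h x hx ⟨z, hz⟩ _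
    obtain ⟨hiso, hfr, hzq, -⟩ := S5953.exists_scalar hF (by omega) hx hz
    have hpq : ¬ p ∣ q + 1 := by
      obtain ⟨p', e, hp', hc', he, rfl⟩ := q_eq_primePow hF
      obtain rfl := CharP.eq F hc' (by assumption : CharP F p)
      rw [Nat.dvd_add_right (dvd_pow_self p' (by omega))]
      exact hp'.not_dvd_one
    obtain ⟨w, hw, hwz⟩ := S5953.exists_norm_root hpq hzq
    refine fix_of_root hiso hfr hw hwz fun g hg hgp => ?_
    obtain ⟨ν, hν, hνs, hsub⟩ := exists_decomp hF hg hgp _ ⊤ rfl (Inv.top g) (nondeg_top' hF)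
    rw [finrank_top, finrank_fin_fun] at hνs
    obtain ⟨ν', hν', hν's⟩ := h ν hν hνs
    obtain ⟨W, -, hW, hWnd, hWd⟩ := hsub ν' hν'
    exact ⟨W, hWd.trans hν's, hWnd, hW⟩

/-- Parts at most two. -/
theorem partition_two (hm : 1 ≤ m) (hmn : m ≤ n) :
    (∀ μ : Multiset ℕ, (∀ a ∈ μ, 0 < a ∧ a ≤ 2) → μ.sum = n → ∃ ν : Multiset ℕ, ν ≤ μ ∧ ν.sum = m) ↔
      (Odd n ∨ Even m) := by
  classical
  constructor
  · intro h
    by_contra hcon
    push Not at hcon
    obtain ⟨k, rfl⟩ := Nat.not_odd_iff_even.mp hcon.1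
    obtain ⟨ν, hν, hs⟩ := h (Multiset.replicate k 2) (fun a ha => by
      rw [Multiset.eq_of_mem_replicate ha]; omega) (by rw [Multiset.sum_replicate, smul_eq_mul, mul_two])
    obtain ⟨j, -, rfl⟩ := Multiset.le_replicate_iff.mp hν
    rw [Multiset.sum_replicate, smul_eq_mul] at hs
    exact hcon.2 ⟨j, by omega⟩
  · intro hcond μ hμ hsum
    obtain ⟨a, ha⟩ : ∃ a, a = μ.count 1 := ⟨_, rfl⟩
    obtain ⟨b, hb⟩ : ∃ b, b = μ.count 2 := ⟨_, rfl⟩
    have hμe : μ = Multiset.replicate a 1 + Multiset.replicate b 2 := Multiset.ext.mpr fun x => by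
      rw [Multiset.count_add, Multiset.count_replicate, Multiset.count_replicate]
      by_cases hx : x ∈ μ
      · have := hμ x hx
        obtain rfl | rfl : x = 1 ∨ x = 2 := by omega
        · simp [ha]
        · simp [hb]
      · rw [Multiset.count_eq_zero_of_notMem hx]
        have h1 : x = 1 → a = 0 := fun e => by rw [ha, ← e, Multiset.count_eq_zero_of_notMem hx]
        have h2 : x = 2 → b = 0 := fun e => by rw [hb, ← e, Multiset.count_eq_zero_of_notMem hx]
        split_ifs <;> omega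
    rw [hμe, Multiset.sum_add, Multiset.sum_replicate, Multiset.sum_replicate, smul_eq_mul, smul_eq_mul] at hsum
    refine ⟨Multiset.replicate (m - 2 * min b (m / 2)) 1 + Multiset.replicate (min b (m / 2)) 2, ?_, ?_⟩
    · rw [hμe]
      refine add_le_add ((Multiset.replicate_le_replicate 1).mpr ?_) ((Multiset.replicate_le_replicate 2).mpr (min_le_left _ _))
      rw [Nat.odd_iff, Nat.even_iff] at hcond
      omega
    · rw [Multiset.sum_add, Multiset.sum_replicate, Multiset.sum_replicate, smul_eq_mul, smul_eq_mul]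
      omega

end


/-- Elements of prime order of PSU_n(q) with no fixed nondegenerate `m`-space. Here `T = PSU_n(q)` (`n ≥ 3`, `(n, q) ≠ (3, 2)`), realised through the matrices of determinant 1 over the field `F` with `q²` elements preserving the Hermitian form `h(u, v) = Σ u_i v_i^q`; an element of `T` of prime order `r` is such a matrix `x` with `x^r` scalar and `x` not scalar. For `r ≠ p` let `i` be the multiplicative order of `q` modulo `r`, `b = i/2` for `i` even and `b = i` for `i` odd, `c = i, i/2, 2i` according as `i ≡ 0, 2 (mod 4)` or `i` odd, and write `k = n mod c`, `ℓ = m mod b`, `ℓ' = m mod c`, `n' = ⌊n/b⌋`, `m' = ⌊m/b⌋`, `s = (r−1)/b`; `(a)_r` is the `r`-part of `a`. Let `1 ≤ m < n/2` and let `r` be a prime dividing the number of nondegenerate `m`-spaces. Then every element of `T` of order `r` fixes a nondegenerate `m`-space if and only if one of: (i) `r = p > 2` and every partition of `n` into parts of size at most `p` contains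 (as a sub-multiset) a partition of `m`; (ii) `r = p = 2` and (`n` is odd or `m` is even); (iii) `r = 2 ≠ p` and (`n` is odd, or `m` is even, or `(q+1)_2 ≥ (n)_2` and `q ≡ 3 (mod 4)`); (iv) `r ≠ p`, `r > 2`, and either `i ≠ 2`, `c ≤ m` and `k ≥ ℓ'`, or `i = 2` and (`r ∣ m` or `(q+1)_r ≥ (n)_r`). -/
theorem result {F : Type*} [Field F] [Fintype F] {p : ℕ} [Fact p.Prime] [CharP F p] {q : ℕ} (hq : Fintype.card F = q ^ 2)
    (n m : ℕ) (hn : 3 ≤ n) (hT : (n, q) ≠ (3, 2)) (hm : 1 ≤ m) (hmn : 2 * m < n)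
    (r : ℕ) [Fact r.Prime]
    (hrΩ : r ∣ Nat.card {W : Submodule F (Fin n → F) // Module.finrank F ↥W = m ∧ (∀ u ∈ W, u ≠ 0 → ∃ v ∈ W, Cfsg.hermForm n F q u v ≠ 0)})
    (i b c : ℕ) (hi : i = orderOf (q : ZMod r)) (hb : b = if Even i then i / 2 else i)
    (hc : c = if i % 4 = 0 then i else if i % 4 = 2 then i / 2 else 2 * i) :
    (∀ x : Matrix.SpecialLinearGroup (Fin n) F, x ∈ Cfsg.SU n F q →
      (∃ z : F, ((x ^ r : Matrix.SpecialLinearGroup (Fin n) F) : Matrix (Fin n) (Fin n) F) = z • (1 : Matrix (Fin n) (Fin n) F)) →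
      (∀ z : F, (x : Matrix (Fin n) (Fin n) F) ≠ z • (1 : Matrix (Fin n) (Fin n) F)) →
      ∃ W : Submodule F (Fin n → F), Module.finrank F ↥W = m ∧ (∀ u ∈ W, u ≠ 0 → ∃ v ∈ W, Cfsg.hermForm n F q u v ≠ 0) ∧
        W.map (Matrix.toLin' (x : Matrix (Fin n) (Fin n) F)) ≤ W) ↔
    ((r = p ∧ 2 < p ∧ (∀ μ : Multiset ℕ, (∀ a ∈ μ, 0 < a ∧ a ≤ p) → μ.sum = n → ∃ ν : Multiset ℕ, ν ≤ μ ∧ ν.sum = m)) ∨
     (r = p ∧ p = 2 ∧ (Odd n ∨ Even m)) ∨
     (r = 2 ∧ p ≠ 2 ∧ (Odd n ∨ Even m ∨ (padicValNat 2 n ≤ padicValNat 2 (q + 1) ∧ q % 4 = 3))) ∨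
     (r ≠ p ∧ 2 < r ∧ ((i ≠ 2 ∧ c ≤ m ∧ m % c ≤ n % c) ∨ (i = 2 ∧ (r ∣ m ∨ padicValNat r n ≤ padicValNat r (q + 1)))))) := by
  classical
  have h1q := one_lt_q hq
  have key : AllFix F q n m r ↔
    ((r = p ∧ 2 < p ∧ (∀ μ : Multiset ℕ, (∀ a ∈ μ, 0 < a ∧ a ≤ p) → μ.sum = n → ∃ ν : Multiset ℕ, ν ≤ μ ∧ ν.sum = m)) ∨
     (r = p ∧ p = 2 ∧ (Odd n ∨ Even m)) ∨
     (r = 2 ∧ p ≠ 2 ∧ (Odd n ∨ Even m ∨ (padicValNat 2 n ≤ padicValNat 2 (q + 1) ∧ q % 4 = 3))) ∨
     (r ≠ p ∧ 2 < r ∧ ((i ≠ 2 ∧ c ≤ m ∧ m % c ≤ n % c) ∨ (i = 2 ∧ (r ∣ m ∨ padicValNat r n ≤ padicValNat r (q + 1)))))) := by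
    rcases eq_or_ne r p with rfl | hrp
    · refine (unipotent_iff hq hm (by omega)).trans ?_
      rcases eq_or_ne r 2 with rfl | hr2
      · refine (partition_two hm (by omega)).trans ⟨fun h => Or.inr (Or.inl ⟨rfl, rfl, h⟩), ?_⟩
        rintro (⟨-, h, -⟩ | ⟨-, -, h⟩ | ⟨-, h, -⟩ | ⟨h, -⟩)
        exacts [absurd h (lt_irrefl _), h, absurd rfl h, absurd rfl h]
      · refine ⟨fun h => Or.inl ⟨rfl, lt_of_le_of_ne (Fact.out : r.Prime).two_le (Ne.symm hr2), h⟩, ?_⟩
        rintro (⟨-, -, h⟩ | ⟨-, h, -⟩ | ⟨h, -⟩ | ⟨h, -⟩)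
        exacts [h, absurd h hr2, absurd h hr2, absurd rfl h]
    have hrF : (r : F) ≠ 0 := fun h0 =>
      hrp ((Nat.prime_dvd_prime_iff_eq Fact.out Fact.out).mp ((CharP.cast_eq_zero_iff F p r).mp h0)).symm
    rcases eq_or_ne r 2 with rfl | hr2
    · have h2 : (2 : F) ≠ 0 := by exact_mod_cast hrF
      refine (two_iff hq h2 hm (by omega)).trans ⟨fun h => Or.inr (Or.inr (Or.inl ⟨rfl, Ne.symm hrp, h⟩)), ?_⟩
      rintro (⟨h, -⟩ | ⟨h, -⟩ | ⟨-, -, h⟩ | ⟨-, h, -⟩)
      exacts [absurd h hrp, absurd h hrp, h, absurd h (lt_irrefl _)]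
    have hr3 : 2 < r := lt_of_le_of_ne (Fact.out : r.Prime).two_le (Ne.symm hr2)
    haveI : Fact (2 < r) := ⟨hr3⟩
    have hq0 := cast_q_ne_zero (r := r) hq hrF
    obtain ⟨k, hk, hkn, hkq⟩ := exists_exp hq hrF (by omega) hrΩ
    have hord : orderOf (Fintype.card F : ZMod r) = b := by
      rw [orderOf_card_eq hq, orderOf_pow' _ two_ne_zero, ← hi, hb]
      split_ifs with he
      · rw [Nat.gcd_eq_right he.two_dvd]
      · rw [Nat.coprime_iff_gcd_eq_one.mp (Nat.coprime_two_right.mpr (Nat.not_even_iff_odd.mp he)), Nat.div_one]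
    have hbk : ∀ j, (q : ZMod r) ^ j = (-1) ^ j → b ∣ j := fun j hj => hord ▸ orderOf_dvd_of_pow_eq_one (by
      rw [hq, Nat.cast_pow, ← pow_mul, mul_comm, pow_mul, hj, ← pow_mul, mul_comm, pow_mul, neg_one_sq, one_pow])
    have hipos : 0 < i := hi ▸ orderOf_pos_iff.mpr (isOfFinOrder_iff_pow_eq_one.mpr
      ⟨r - 1, by omega, ZMod.pow_card_sub_one_eq_one hq0⟩)
    have hother : ∀ P : Prop, ((r = p ∧ 2 < p ∧ (∀ μ : Multiset ℕ, (∀ a ∈ μ, 0 < a ∧ a ≤ p) → μ.sum = n → ∃ ν : Multiset ℕ, ν ≤ μ ∧ ν.sum = m)) ∨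
       (r = p ∧ p = 2 ∧ (Odd n ∨ Even m)) ∨
       (r = 2 ∧ p ≠ 2 ∧ (Odd n ∨ Even m ∨ (padicValNat 2 n ≤ padicValNat 2 (q + 1) ∧ q % 4 = 3))) ∨ P) ↔ P := by
      intro P
      simp [hrp, hr2]
    rw [hother]
    simp only [hrp, hr3, ne_eq, not_false_eq_true, true_and]
    have hlow : 0 < c → c ∣ k → n % c < m ∧ c ≤ n := fun hc0 hck => by
      obtain ⟨j, rfl⟩ := hck
      have h1 : j ≤ n / c := (Nat.le_div_iff_mul_le hc0).mpr (by rw [mul_comm]; exact hkn)
      have h2 := Nat.mul_le_mul_left c h1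
      have h3 := Nat.mod_add_div n c
      rcases Nat.eq_zero_or_pos j with rfl | hj
      · rw [mul_zero] at hk
        omega
      · exact ⟨by omega, (Nat.le_mul_of_pos_right c hj).trans hkn⟩
    by_cases hi2 : i = 2
    · have hrq : r ∣ q + 1 := by
        rw [← ZMod.natCast_eq_zero_iff]
        push_cast
        have h1 : (q : ZMod r) * (q : ZMod r) = 1 := by rw [← pow_two, ← hi2, hi, pow_orderOf_eq_one]
        rcases mul_self_eq_one_iff.mp h1 with h2 | h2
        · rw [h2, orderOf_one] at hi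
          omega
        · rw [h2, neg_add_cancel]
      refine (two_order_iff hq hrF hr2 hm (by omega) hrq).trans ⟨fun h => Or.inr ⟨hi2, h⟩, ?_⟩
      rintro (⟨h, -⟩ | ⟨-, h⟩)
      exacts [absurd hi2 h, h]
    have hrq : ¬ r ∣ q + 1 := fun h => by
      rw [← ZMod.natCast_eq_zero_iff] at h
      push_cast at h
      have h1 : (q : ZMod r) ^ 2 = 1 := by rw [eq_neg_of_add_eq_zero_left h, neg_one_sq]
      have h2 : i ∣ 2 := hi ▸ orderOf_dvd_of_pow_eq_one h1
      rcases (Nat.dvd_prime Nat.prime_two).mp h2 with h3 | h3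
      · rw [h3] at hi
        rw [orderOf_eq_one_iff.mp hi.symm] at h
        have h4 : ((2 : ℕ) : ZMod r) = 0 := by rw [← h]; norm_num
        rw [ZMod.natCast_eq_zero_iff] at h4
        exact hr2 ((Nat.prime_dvd_prime_iff_eq Fact.out Nat.prime_two).mp h4)
      · exact hi2 h3
    have hsimp : (¬ i = 2 ∧ c ≤ m ∧ m % c ≤ n % c ∨ i = 2 ∧ (r ∣ m ∨ padicValNat r n ≤ padicValNat r (q + 1))) ↔
        (c ≤ m ∧ m % c ≤ n % c) := by simp [hi2]
    rw [hsimp]
    by_cases hi4 : i % 4 = 2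
    · have hb2 : b = i / 2 := by rw [hb, if_pos (Nat.even_iff.mpr (by omega))]
      have hcb : c = b := by rw [hc, if_neg (by omega), if_pos hi4, hb2]
      have hbo : Odd b := Nat.odd_iff.mpr (by omega)
      have hqb : (q : ZMod r) ^ b = -1 := by
        have h1 : (q : ZMod r) ^ b * (q : ZMod r) ^ b = 1 := by
          rw [← pow_add, show b + b = i by omega, hi, pow_orderOf_eq_one]
        refine (mul_self_eq_one_iff.mp h1).resolve_left fun h2 => ?_
        have h3 := Nat.le_of_dvd (by omega) (hi ▸ orderOf_dvd_of_pow_eq_one h2)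
        omega
      rw [hcb] at hlow ⊢
      obtain ⟨hl, hcn⟩ := hlow (by omega) (hbk k hkq)
      exact pieces_iff hq hrF hrq (by omega) (by omega) (by omega) (by rw [hqb, hbo.neg_one_pow])
        (fun j hj hjq => Nat.le_of_dvd hj (hbk j hjq))
        (fun g hg hgr Y hY hYnd hYE hpos => exists_nondeg_piece_self hq hg hgr hrF hord hbo hqb hY hYnd hYE hpos)
        hl hcn
    · have hc2 : c = 2 * b := by
        rw [hc, hb]
        simp only [Nat.even_iff]
        split_ifs <;> omega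
      have hni : ∀ j, Odd j → (q : ZMod r) ^ j ≠ -1 := fun j hj hq1 => by
        have h1 : i ∣ 2 * j := hi ▸ orderOf_dvd_of_pow_eq_one (by rw [mul_comm, pow_mul, hq1, neg_one_sq])
        rcases Nat.even_or_odd i with he | ho
        · have h4 : 4 ∣ i := Nat.dvd_of_mod_eq_zero (by rw [Nat.even_iff] at he; omega)
          obtain ⟨l, hl⟩ := h4.trans h1
          rw [Nat.odd_iff] at hj
          omega
        · have h2 : (q : ZMod r) ^ j = 1 := orderOf_dvd_iff_pow_eq_one.mp
            (hi ▸ (Nat.coprime_two_right.mpr ho).dvd_of_dvd_mul_left h1)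
          exact ZMod.neg_one_ne_one (hq1.symm.trans h2)
      have h2b : ∀ j, (q : ZMod r) ^ j = (-1) ^ j → 2 * b ∣ j := fun j hj => hord ▸ two_orderOf_dvd hq hni hj
      have hbpos : 0 < b := hord ▸ orderOf_card_pos hrF
      rw [hc2] at hlow ⊢
      obtain ⟨hl, hcn⟩ := hlow (by omega) (h2b k hkq)
      refine pieces_iff hq hrF hrq (by omega) (by omega) (by omega) ?_
        (fun j hj hjq => Nat.le_of_dvd hj (h2b j hjq))
        (fun g hg hgr Y hY hYnd hYE hpos => exists_nondeg_piece_paired hq hg hgr hrF hord hni hY hYnd hYE hpos)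
        hl hcn
      rw [pow_mul, ← Nat.cast_pow, ← hq, ← hord, pow_orderOf_eq_one, pow_mul, neg_one_sq, one_pow]
  refine Iff.trans ?_ key
  constructor
  · intro h x hx hz hne
    obtain ⟨W, h1, h2, h3⟩ := h x hx hz hne
    exact ⟨W, h1, nondeg_iff_exists.mpr h2, h3⟩
  · intro h x hx hz hne
    obtain ⟨W, h1, h2, h3⟩ := h x hx hz hne
    exact ⟨W, h1, nondeg_iff_exists.mp h2, h3⟩

end Cfsg.Agent.S5954
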