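import Cfsg.Statements.S5955
import Cfsg.Agent.Lib.Elusive.SympBlocks
import Cfsg.Agent.Lib.Elusive.SympInv

set_option autoImplicit false
open scoped MatrixGroups
open Cfsg

namespace Cfsg.Agent.S5955

open Module Cfsg.Agent.Lib.Symplectic Cfsg.Agent.Lib.Elusive Cfsg.Agent.Lib.Elusive.SympPieces
  Cfsg.Agent.Lib.Elusive.SympInv Cfsg.Agent.Lib.Elusive.SympIsotropic Cfsg.Agent.Lib.Elusive.SympBlocks

variable {F : Type*} [Field F] {d m : ℕ}

/-- Some totally isotropic subspace of dimension `m` is invariant. -/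
def Fix (m : ℕ) (f : Module.End F (Fin d ⊕ Fin d → F)) : Prop :=
  ∃ W : Submodule F (Fin d ⊕ Fin d → F), finrank F ↥W = m ∧
    (∀ u ∈ W, ∀ v ∈ W, Cfsg.sympForm d F u v = 0) ∧ W.map f ≤ W

theorem fix_of_iso {f : Module.End F (Fin d ⊕ Fin d → F)} {W : Submodule F (Fin d ⊕ Fin d → F)}
    (hW : finrank F W = m) (hiso : Iso (stdForm d F) W) (hinv : Inv f W) : Fix m f :=
  ⟨W, hW, fun u hu v hv => by rw [← stdForm_eq_sympForm]; exact hiso u hu v hv, hinv⟩

theorem Fix.exists_iso {f : Module.End F (Fin d ⊕ Fin d → F)} (h : Fix m f) :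
    ∃ W : Submodule F (Fin d ⊕ Fin d → F), finrank F W = m ∧ Iso (stdForm d F) W ∧ Lib.Elusive.Inv f W := by
  obtain ⟨W, hW, hiso, hinv⟩ := h
  exact ⟨W, hW, fun u hu v hv => by rw [stdForm_eq_sympForm]; exact hiso u hu v hv, hinv⟩

theorem nondeg_top : Nondeg (stdForm d F) ⊤ :=
  fun u _ hu => (isSympForm_stdForm d F).nondeg u fun y => hu y trivial

theorem iso_bot {V : Type*} [AddCommGroup V] [Module F V] (B : V →ₗ[F] V →ₗ[F] F) : Iso B ⊥ :=
  fun u hu v _ => by rw [(Submodule.mem_bot F).mp hu, map_zero, LinearMap.zero_apply]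

theorem iso_toLin (x : Matrix.symplecticGroup (Fin d) F) (u v : Fin d ⊕ Fin d → F) :
    stdForm d F (Matrix.toLin' (x : Matrix (Fin d ⊕ Fin d) (Fin d ⊕ Fin d) F) u)
      (Matrix.toLin' (x : Matrix (Fin d ⊕ Fin d) (Fin d ⊕ Fin d) F) v) = stdForm d F u v :=
  mem_sp_iff.mp x.2 u v

theorem injective_of_iso {f : Module.End F (Fin d ⊕ Fin d → F)}
    (hiso : ∀ u v, stdForm d F (f u) (f v) = stdForm d F u v) : Function.Injective f :=
  (injective_iff_map_eq_zero f).mpr fun u hu => (isSympForm_stdForm d F).nondeg u fun y => by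
    rw [← hiso u y, hu, map_zero, LinearMap.zero_apply]

theorem not_scalar [Fintype F] {r : ℕ} [hr : Fact r.Prime] (hr2 : r ≠ 2) (hd : 0 < d)
    (x : Matrix.symplecticGroup (Fin d) F)
    (hx : RootIso (stdForm d F) (Matrix.toLin' (x : Matrix (Fin d ⊕ Fin d) (Fin d ⊕ Fin d) F)) r)
    (hne : finrank F (End.eigenspace (Matrix.toLin' (x : Matrix (Fin d ⊕ Fin d) (Fin d ⊕ Fin d) F)) (1 : F)) < 2 * d)
    (z : F) : (x : Matrix (Fin d ⊕ Fin d) (Fin d ⊕ Fin d) F) ≠ z • 1 := fun hz => by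
  rw [hz, map_smul, Matrix.toLin'_one, ← Module.End.one_eq_id] at hx hne
  have hzr : z ^ r = 1 := by
    have h1 := congrFun (LinearMap.congr_fun hx.pow (Pi.single (Sum.inl ⟨0, hd⟩) 1)) (Sum.inl ⟨0, hd⟩)
    rw [_root_.smul_pow, one_pow] at h1
    simpa using h1
  have hz2 : z * z = 1 := by
    obtain ⟨v, hv⟩ := hx.symp.exists_eq_one (u := Pi.single (Sum.inl ⟨0, hd⟩) 1) (by simp)
    have h1 := hx.iso (Pi.single (Sum.inl ⟨0, hd⟩) 1) v
    simpa [map_smul, hv] using h1
  obtain ⟨k, hk⟩ := hr.out.odd_of_ne_two hr2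
  rw [hk, pow_succ, pow_mul, pow_two, hz2, one_pow, one_mul] at hzr
  subst hzr
  have htop : End.eigenspace ((1 : F) • (1 : Module.End F (Fin d ⊕ Fin d → F))) 1 = ⊤ :=
    eq_top_iff.mpr fun v _ => End.mem_eigenspace_iff.mpr (by simp)
  rw [htop, finrank_top, finrank_std] at hne
  omega

theorem exists_le_finrank {V : Type*} [AddCommGroup V] [Module F V] [FiniteDimensional F V]
    (U : Submodule F V) {k : ℕ} (hk : k ≤ finrank F U) : ∃ W ≤ U, finrank F W = k := by
  let e : Fin k → V := fun i => (finBasis F U (Fin.castLE hk i) : V)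
  have hli : LinearIndependent F e :=
    ((finBasis F U).linearIndependent.comp _ (Fin.castLE_injective hk)).map' U.subtype U.ker_subtype
  refine ⟨Submodule.span F (Set.range e), ?_, by rw [finrank_span_eq_card hli, Fintype.card_fin]⟩
  rw [Submodule.span_le]
  rintro _ ⟨i, rfl⟩
  exact Submodule.coe_mem _

/-- The count of isotropic subspaces, in the statement's form. -/
theorem exists_factor [Fintype F] {r : ℕ} (hr : r.Prime) (hmd : m ≤ d)
    (h : r ∣ Nat.card {W : Submodule F (Fin d ⊕ Fin d → F) // finrank F ↥W = m ∧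
      (∀ u ∈ W, ∀ v ∈ W, Cfsg.sympForm d F u v = 0)}) :
    ∃ k < m, r ∣ Fintype.card F ^ (2 * (d - k)) - 1 := by
  have he : Nat.card {W : Submodule F (Fin d ⊕ Fin d → F) // finrank F ↥W = m ∧
      (∀ u ∈ W, ∀ v ∈ W, Cfsg.sympForm d F u v = 0)} =
      Nat.card {W : Submodule F (Fin d ⊕ Fin d → F) // finrank F W = m ∧ Iso (stdForm d F) W} :=
    Nat.card_congr (Equiv.subtypeEquivRight fun W => and_congr_right fun _ =>
      ⟨fun h u hu v hv => by rw [stdForm_eq_sympForm]; exact h u hu v hv,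
        fun h u hu v hv => by rw [← stdForm_eq_sympForm]; exact h u hu v hv⟩)
  rw [he] at h
  have h2 := card_iso (isSympForm_stdForm d F) (finrank_std d F) hmd
  obtain ⟨k, hk, hkr⟩ := (Prime.dvd_finsetProd_iff hr.prime _).mp (h2 ▸ dvd_mul_of_dvd_left h _)
  exact ⟨k, Finset.mem_range.mp hk, hkr⟩

section Involution

variable {f : Module.End F (Fin d ⊕ Fin d → F)}

theorem fix_involution (h2 : (2 : F) ≠ 0) (hiso : ∀ u v, stdForm d F (f u) (f v) = stdForm d F u v)
    (hsq : ∀ v, f (f v) = v) (hmd : m ≤ d) : Fix m f := by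
  have hS := isSympForm_stdForm d F
  set P := End.eigenspace f (1 : F)
  set N := End.eigenspace f (-1 : F)
  have hP : ∀ v ∈ P, f v = v := fun v hv => by simpa using End.mem_eigenspace_iff.mp hv
  have hN : ∀ v ∈ N, f v = -v := fun v hv => by simpa using End.mem_eigenspace_iff.mp hv
  have hPN : ∀ u ∈ P, ∀ v ∈ N, stdForm d F u v = 0 := fun u hu v hv => by
    have h := hiso u v
    rw [hP u hu, hN v hv, map_neg] at h
    have h3 : (2 : F) * stdForm d F u v = 0 := by linear_combination -h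
    exact (mul_eq_zero.mp h3).resolve_left h2
  have hsplit : ∀ v, ∃ a ∈ P, ∃ b ∈ N, v = a + b := fun v => by
    refine ⟨(2 : F)⁻¹ • (v + f v), End.mem_eigenspace_iff.mpr ?_, (2 : F)⁻¹ • (v - f v),
      End.mem_eigenspace_iff.mpr ?_, ?_⟩
    · rw [map_smul, map_add, hsq, one_smul, add_comm]
    · rw [map_smul, map_sub, hsq, neg_one_smul, ← smul_neg, neg_sub]
    · rw [← smul_add, add_add_sub_cancel, ← two_smul F v, inv_smul_smul₀ h2]
  have hPnd : Nondeg (stdForm d F) P := fun u hu huy => hS.nondeg u fun y => by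
    obtain ⟨a, ha, b, hb, rfl⟩ := hsplit y
    rw [map_add, huy a ha, hPN u hu b hb, add_zero]
  have hNnd : Nondeg (stdForm d F) N := fun u hu huy => hS.nondeg u fun y => by
    obtain ⟨a, ha, b, hb, rfl⟩ := hsplit y
    rw [map_add, huy b hb, hS.comm_eq_zero.mp (hPN a ha u hu), add_zero]
  have hdisj : P ⊓ N = ⊥ := by
    rw [Submodule.eq_bot_iff]
    rintro u ⟨hu, hu'⟩
    have h := (hP u hu).symm.trans (hN u hu')
    exact (smul_eq_zero.mp (show (2 : F) • u = 0 by rw [two_smul]; exact eq_neg_iff_add_eq_zero.mp h)).resolve_left h2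
  have hdim : finrank F P + finrank F N = 2 * d := by
    rw [← finrank_sup_of_disjoint hdisj, show P ⊔ N = ⊤ from eq_top_iff.mpr fun v _ => by
      obtain ⟨a, ha, b, hb, rfl⟩ := hsplit v
      exact Submodule.mem_sup.mpr ⟨a, ha, b, hb, rfl⟩, finrank_top, finrank_std]
  obtain ⟨a, ha⟩ := even_finrank_of_nondeg hS hPnd
  obtain ⟨U, hUP, hU, hUd⟩ := SympIsotropic.exists_iso hS hPnd (k := min m a) (by omega)
  obtain ⟨W, hWN, hW, hWd⟩ := SympIsotropic.exists_iso hS hNnd (k := m - min m a) (by omega)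
  refine fix_of_iso ?_ (iso_sup hS hU hW fun u hu w hw => hPN u (hUP hu) w (hWN hw))
    ((Inv.of_le_eigenspace hUP).sup (Inv.of_le_eigenspace hWN))
  rw [finrank_sup_of_disjoint (le_bot_iff.mp (hdisj ▸ inf_le_inf hUP hWN)), hUd, hWd]
  omega

theorem fix_split_complex (h2 : (2 : F) ≠ 0) (hiso : ∀ u v, stdForm d F (f u) (f v) = stdForm d F u v)
    (hsq : ∀ v, f (f v) = -v) {s : F} (hs : s * s = -1) (hmd : m ≤ d) : Fix m f := by
  have hS := isSympForm_stdForm d F
  have hs0 : s ≠ 0 := fun h => by simp [h] at hs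
  have hiso' : ∀ μ : F, μ * μ = -1 → Iso (stdForm d F) (End.eigenspace f μ) := fun μ hμ u hu v hv => by
    have h := hiso u v
    rw [End.mem_eigenspace_iff.mp hu, End.mem_eigenspace_iff.mp hv, map_smul, map_smul,
      LinearMap.smul_apply, smul_smul, hμ, smul_eq_mul, neg_one_mul] at h
    have h3 : (2 : F) * stdForm d F u v = 0 := by linear_combination -h
    exact (mul_eq_zero.mp h3).resolve_left h2
  have hsplit : End.eigenspace f s ⊔ End.eigenspace f (-s) = ⊤ := by
    rw [eq_top_iff]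
    intro v _
    refine Submodule.mem_sup.mpr ⟨(2 * s)⁻¹ • (f v + s • v), End.mem_eigenspace_iff.mpr ?_,
      (2 * s)⁻¹ • (-(f v) + s • v), End.mem_eigenspace_iff.mpr ?_, ?_⟩
    · simp only [map_smul, map_add, hsq]
      match_scalars
      · linear_combination -(2 * s)⁻¹ * hs
      · ring
    · simp only [map_smul, map_add, map_neg, hsq]
      match_scalars
      · linear_combination (2 * s)⁻¹ * hs
      · ring
    · have h5 : (2 * s)⁻¹ * (2 * s) = 1 := inv_mul_cancel₀ (mul_ne_zero h2 hs0)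
      match_scalars
      · ring
      · linear_combination h5
  have h1 := two_mul_finrank_le hS nondeg_top le_top (hiso' s hs)
  have h1' := two_mul_finrank_le hS nondeg_top le_top (hiso' (-s) (by rw [neg_mul_neg, hs]))
  have h3 := Submodule.finrank_sup_add_finrank_inf_eq (End.eigenspace f s) (End.eigenspace f (-s))
  rw [hsplit, finrank_top, finrank_std] at h3
  rw [finrank_top, finrank_std] at h1 h1'
  obtain ⟨W, hW, hWd⟩ := exists_le_finrank (End.eigenspace f s) (k := m) (by omega)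
  exact fix_of_iso hWd (fun u hu v hv => hiso' s hs u (hW hu) v (hW hv)) (Inv.of_le_eigenspace hW)

theorem exists_iso_complex [Fintype F] (h2 : (2 : F) ≠ 0)
    (hiso : ∀ u v, stdForm d F (f u) (f v) = stdForm d F u v)
    (hsq : ∀ v, f (f v) = -v) (hns : ∀ c : F, c * c ≠ -1) :
    ∀ k, ∀ X : Submodule F (Fin d ⊕ Fin d → F), Inv f X → Nondeg (stdForm d F) X → 4 * k ≤ finrank F X →
      ∃ W, W ≤ X ∧ Inv f W ∧ Iso (stdForm d F) W ∧ finrank F W = 2 * k := by
  have hS := isSympForm_stdForm d F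
  have hinj := injective_of_iso hiso
  have hvec : ∀ X : Submodule F (Fin d ⊕ Fin d → F), Inv f X → Nondeg (stdForm d F) X →
      0 < finrank F X → ∃ a ∈ X, stdForm d F a (f a) ≠ 0 ∧
        Inv f (Submodule.span F {a, f a}) ∧ Submodule.span F {a, f a} ≤ X := by
    intro X hX hnd hpos
    obtain ⟨a, ha, hd'⟩ : ∃ a ∈ X, stdForm d F a (f a) ≠ 0 := by
      by_contra hcon
      push Not at hcon
      obtain ⟨v, hv, hv0⟩ := Submodule.exists_mem_ne_zero_of_ne_bot (p := X) (fun h0 => by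
        rw [h0, finrank_bot] at hpos; omega)
      refine hv0 (hnd v hv fun y hy => ?_)
      have h := hcon (v + f y) (X.add_mem hv (hX.mem hy))
      simp only [map_add, LinearMap.add_apply, hcon v hv, hcon _ (hX.mem hy), hsq, map_neg,
        zero_add, add_zero, hiso] at h
      rw [hS.swap v y] at h
      have h4 := hS.comm_eq_zero.mp (hcon y hy)
      have h3 : (2 : F) * stdForm d F y v = 0 := by linear_combination h + h4
      exact hS.comm_eq_zero.mp ((mul_eq_zero.mp h3).resolve_left h2)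
    refine ⟨a, ha, hd', ?_, ?_⟩
    · rw [Lib.Elusive.Inv, Submodule.map_span, Submodule.span_le]
      rintro _ ⟨x, (rfl | rfl), rfl⟩
      · exact Submodule.subset_span (by simp)
      · rw [SetLike.mem_coe, hsq]
        exact Submodule.neg_mem _ (Submodule.subset_span (by simp))
    · rw [Submodule.span_le]
      rintro x (rfl | rfl)
      exacts [ha, hX.mem ha]
  intro k
  induction k with
  | zero => exact fun X _ _ _ => ⟨⊥, bot_le, Inv.bot f, iso_bot _, by simp⟩
  | succ k ih =>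
    intro X hX hnd hk
    obtain ⟨a, ha, had, hP, hPX⟩ := hvec X hX hnd (by omega)
    obtain ⟨hPnd, hPd⟩ := plane_nondeg hS had
    obtain ⟨hY, -, hdim⟩ := split hS hPnd hnd hPX
    obtain ⟨a', ha', had', hP', hPY⟩ := hvec _ (hX.inf (inv_orth hinj hiso hP)) hY (by omega)
    obtain ⟨hP'nd, hP'd⟩ := plane_nondeg hS had'
    obtain ⟨hY', -, hdim'⟩ := split hS hP'nd hY hPY
    obtain ⟨W₁, hW₁, hW₁inv, hW₁iso, hW₁d⟩ := exists_iso_plane hS hiso hsq hns had had'
      (fun u hu v hv => mem_orth.mp (hPY (Submodule.subset_span hv)).2 u (Submodule.subset_span hu))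
    obtain ⟨W, hWY, hW, hWiso, hWd⟩ := ih _ ((hX.inf (inv_orth hinj hiso hP)).inf (inv_orth hinj hiso hP'))
      hY' (by omega)
    have hPP : Submodule.span F {a, f a, a', f a'} ≤ Submodule.span F {a, f a} ⊔ Submodule.span F {a', f a'} := by
      rw [Submodule.span_le]
      rintro x (rfl | rfl | rfl | rfl)
      exacts [Submodule.mem_sup_left (Submodule.subset_span (by simp)),
        Submodule.mem_sup_left (Submodule.subset_span (by simp)),
        Submodule.mem_sup_right (Submodule.subset_span (by simp)),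
        Submodule.mem_sup_right (Submodule.subset_span (by simp))]
    have hperp : ∀ u ∈ W₁, ∀ w ∈ W, stdForm d F u w = 0 := fun u hu w hw => by
      obtain ⟨b, hb, b', hb', rfl⟩ := Submodule.mem_sup.mp (hPP (hW₁ hu))
      rw [map_add, LinearMap.add_apply, mem_orth.mp (hWY hw).1.2 b hb, mem_orth.mp (hWY hw).2 b' hb',
        add_zero]
    obtain ⟨hQnd, -⟩ := sup_nondeg hS hPnd hP'nd (hPY.trans inf_le_right)
    refine ⟨W₁ ⊔ W, sup_le (hW₁.trans (hPP.trans (sup_le hPX (hPY.trans inf_le_left))))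
      (hWY.trans (inf_le_left.trans inf_le_left)), hW₁inv.sup hW, iso_sup hS hW₁iso hWiso hperp, ?_⟩
    rw [finrank_sup_of_disjoint, hW₁d, hWd]
    · ring
    · rw [Submodule.eq_bot_iff]
      rintro u ⟨hu, hu'⟩
      refine hQnd u (hPP (hW₁ hu)) fun y hy => ?_
      obtain ⟨b, hb, b', hb', rfl⟩ := Submodule.mem_sup.mp hy
      rw [map_add, hS.comm_eq_zero.mp (mem_orth.mp (hWY hu').1.2 b hb),
        hS.comm_eq_zero.mp (mem_orth.mp (hWY hu').2 b' hb'), add_zero]

/-- A complex structure fixes no isotropic subspace of odd dimension. -/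
theorem even_of_fix [Fintype F] (hsq : ∀ v, f (f v) = -v) (hns : ∀ c : F, c * c ≠ -1) (h : Fix m f) :
    Even m := by
  obtain ⟨W, hW, -, hinv⟩ := h
  by_contra hodd
  let g : Module.End F W := f.restrict fun x hx => hinv ⟨x, hx, rfl⟩
  have hg : g * g = (-1 : F) • (1 : Module.End F W) := LinearMap.ext fun v => Subtype.ext (by
    show f (f v) = (-1 : F) • (v : Fin d ⊕ Fin d → F)
    rw [hsq, neg_one_smul])
  have h1 := congrArg LinearMap.det hg
  rw [map_mul, LinearMap.det_smul, map_one, mul_one, hW, (Nat.not_even_iff_odd.mp hodd).neg_one_pow] at h1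
  exact hns _ h1

end Involution

/-- Involutions away from characteristic two. -/
theorem two_iff [Fintype F] (h2 : (2 : F) ≠ 0) (hd : 2 ≤ d) (hmd : m ≤ d) :
    (∀ x : ↥(Matrix.symplecticGroup (Fin d) F),
      (∃ z : F, ((x ^ 2 : ↥(Matrix.symplecticGroup (Fin d) F)) : Matrix (Fin d ⊕ Fin d) (Fin d ⊕ Fin d) F) = z • (1 : Matrix (Fin d ⊕ Fin d) (Fin d ⊕ Fin d) F)) →
      (∀ z : F, (x : Matrix (Fin d ⊕ Fin d) (Fin d ⊕ Fin d) F) ≠ z • (1 : Matrix (Fin d ⊕ Fin d) (Fin d ⊕ Fin d) F)) →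
      Fix m (Matrix.toLin' (x : Matrix (Fin d ⊕ Fin d) (Fin d ⊕ Fin d) F))) ↔
    (Even m ∨ Fintype.card F % 4 = 1) := by
  classical
  have hodd : Fintype.card F % 2 = 1 := FiniteField.odd_card_of_char_ne_two fun h => by
    haveI : CharP F 2 := ringChar.eq_iff.mp h
    exact h2 CharTwo.two_eq_zero
  constructor
  · intro h
    by_contra hcon
    push Not at hcon
    have hns : ∀ c : F, c * c ≠ -1 := fun c hc =>
      FiniteField.isSquare_neg_one_iff.mp ⟨c, hc.symm⟩ (by omega)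
    have hJ : Matrix.J (Fin d) F ∈ Matrix.symplecticGroup (Fin d) F := SymplecticGroup.J_mem _ _
    have hJJ : Matrix.J (Fin d) F * Matrix.J (Fin d) F = (-1 : F) • 1 := by
      rw [Matrix.J_squared, neg_one_smul]
    have hfix := h ⟨_, hJ⟩ ⟨-1, by rw [SubmonoidClass.coe_pow, pow_two, hJJ]⟩ fun z hz => by
      have h1 := congrFun (congrFun hz (Sum.inr ⟨0, by omega⟩)) (Sum.inl ⟨0, by omega⟩)
      simp [Matrix.J] at h1
    exact hcon.1 (even_of_fix (fun v => by
      rw [Matrix.toLin'_apply, Matrix.toLin'_apply, Matrix.mulVec_mulVec, hJJ, Matrix.smul_mulVec,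
        Matrix.one_mulVec, neg_one_smul]) hns hfix)
  · intro hcond x ⟨z, hz⟩ _
    set f := Matrix.toLin' (x : Matrix (Fin d ⊕ Fin d) (Fin d ⊕ Fin d) F)
    have hiso := iso_toLin x
    have hff : ∀ v, f (f v) = z • v := fun v => by
      rw [Matrix.toLin'_apply, Matrix.toLin'_apply, Matrix.mulVec_mulVec, ← pow_two,
        ← SubmonoidClass.coe_pow, hz, Matrix.smul_mulVec, Matrix.one_mulVec]
    have hz2 : z * z = 1 := by
      obtain ⟨v, hv⟩ := (isSympForm_stdForm d F).exists_eq_one (u := Pi.single (Sum.inl ⟨0, by omega⟩) 1) (by simp)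
      have h1 := (hiso (f (Pi.single (Sum.inl ⟨0, by omega⟩) 1)) (f v)).trans (hiso _ v)
      rw [hff, hff] at h1
      simpa [hv] using h1
    rcases mul_self_eq_one_iff.mp hz2 with rfl | rfl
    · exact fix_involution h2 hiso (fun v => by rw [hff, one_smul]) hmd
    · have hsq : ∀ v, f (f v) = -v := fun v => by rw [hff, neg_one_smul]
      by_cases hs : ∃ s : F, s * s = -1
      · obtain ⟨s, hs⟩ := hs
        exact fix_split_complex h2 hiso hsq hs hmd
      push Not at hs
      obtain ⟨b, hb⟩ : Even m := hcond.resolve_right fun h => by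
        obtain ⟨c, hc⟩ := FiniteField.isSquare_neg_one_iff.mpr (show Fintype.card F % 4 ≠ 3 by omega)
        exact hs c hc.symm
      obtain ⟨W, -, hW, hWiso, hWd⟩ := exists_iso_complex h2 hiso hsq hs b ⊤ (Inv.top f) nondeg_top
        (by rw [finrank_top, finrank_std]; omega)
      exact fix_of_iso (by omega) hWiso hW

/-- Elements of odd order prime to the characteristic. -/
theorem semisimple_iff [Fintype F] {p : ℕ} [Fact p.Prime] [CharP F p] {r : ℕ} [hr : Fact r.Prime]
    (hr2 : r ≠ 2) (hrF : (r : F) ≠ 0) (hd : 2 ≤ d) (hm : 1 ≤ m) (hmd : m ≤ d)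
    (h : r ∣ Nat.card {W : Submodule F (Fin d ⊕ Fin d → F) // finrank F ↥W = m ∧
      (∀ u ∈ W, ∀ v ∈ W, Cfsg.sympForm d F u v = 0)}) {i : ℕ}
    (hi : i = orderOf (Fintype.card F : ZMod r)) :
    (∀ x : ↥(Matrix.symplecticGroup (Fin d) F),
      (∃ z : F, ((x ^ r : ↥(Matrix.symplecticGroup (Fin d) F)) : Matrix (Fin d ⊕ Fin d) (Fin d ⊕ Fin d) F) = z • (1 : Matrix (Fin d ⊕ Fin d) (Fin d ⊕ Fin d) F)) →
      (∀ z : F, (x : Matrix (Fin d ⊕ Fin d) (Fin d ⊕ Fin d) F) ≠ z • (1 : Matrix (Fin d ⊕ Fin d) (Fin d ⊕ Fin d) F)) →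
      Fix m (Matrix.toLin' (x : Matrix (Fin d ⊕ Fin d) (Fin d ⊕ Fin d) F))) ↔
    (i ≤ m ∧ 2 * (m % i) ≤ (2 * d) % pieceDim i ∧
      (Odd i ∨ (r - 1) / i + 2 * (m / i) ≤ (2 * d) / i)) := by
  classical
  subst hi
  set i := orderOf (Fintype.card F : ZMod r) with hi
  set c := pieceDim i with hcdef
  have hipos : 0 < i := orderOf_card_pos hrF
  obtain ⟨c', hc'⟩ := (even_pieceDim i).two_dvd
  rw [← hcdef] at hc'
  have hcpos : 0 < c := by
    rw [hcdef, pieceDim]
    split <;> omega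
  obtain ⟨k₀, hk₀, hk₀r⟩ := exists_factor hr.out hmd h
  rw [← ZMod.natCast_eq_zero_iff, Nat.cast_sub (Nat.one_le_pow _ _ Fintype.card_pos), Nat.cast_pow,
    Nat.cast_one, sub_eq_zero] at hk₀r
  have hdvd : c ∣ 2 * (d - k₀) := two_mul_le (orderOf_dvd_of_pow_eq_one hk₀r)
  have hc2d : c ≤ 2 * d := (Nat.le_of_dvd (by omega) hdvd).trans (by omega)
  have hlow : 2 * d % c < 2 * m := by
    obtain ⟨l, hl⟩ := hdvd
    have h1 : l ≤ 2 * d / c := (Nat.le_div_iff_mul_le hcpos).mpr (by rw [mul_comm, ← hl]; omega)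
    have h2 := Nat.mul_le_mul_left c h1
    have h3 := Nat.mod_add_div (2 * d) c
    omega
  have hir : i ∣ r - 1 := orderOf_dvd_of_pow_eq_one (ZMod.pow_card_sub_one_eq_one (card_cast_ne_zero hrF))
  have hti : (r - 1) / i * i = r - 1 := Nat.div_mul_cancel hir
  have htpos : 1 ≤ (r - 1) / i := by
    refine Nat.one_le_div_iff hipos |>.mpr (Nat.le_of_dvd ?_ hir)
    have := hr.out.two_le
    omega
  have hpow : ∀ x : Matrix.symplecticGroup (Fin d) F,
      RootIso (stdForm d F) (Matrix.toLin' (x : Matrix (Fin d ⊕ Fin d) (Fin d ⊕ Fin d) F)) r →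
      ∃ z : F, ((x ^ r : ↥(Matrix.symplecticGroup (Fin d) F)) : Matrix (Fin d ⊕ Fin d) (Fin d ⊕ Fin d) F) = z • 1 :=
    fun x hx => ⟨1, by
      rw [one_smul, SubmonoidClass.coe_pow]
      refine Matrix.toLin'.injective ?_
      rw [Matrix.toLin'_pow, hx.pow, Matrix.toLin'_one]
      rfl⟩
  constructor
  · intro h'
    obtain ⟨x, hx, hxe⟩ := exists_element hr2 hrF d (d % c') (2 * d / c) (by
      rw [← hi, ← hcdef, ← Nat.mul_mod_mul_left, ← hc', mul_comm (2 * d / c)]
      exact Nat.mod_add_div _ _)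
    rw [← Nat.mul_mod_mul_left, ← hc'] at hxe
    obtain ⟨W, hWd, hWiso, hWinv⟩ := (h' x (hpow x hx) (not_scalar hr2 (by omega) x hx (by
      have := Nat.mod_lt (2 * d) hcpos
      omega))).exists_iso
    obtain ⟨k, hk⟩ := hx.uniform.exists_type hWinv
    have h1 := hk.2.2
    rw [hWd, ← hi] at h1
    obtain ⟨-, -, -, -, -, hEnd, -⟩ := hx.fixed_split (Inv.top _) nondeg_top
    rw [top_inf_eq] at hEnd
    have h2 := two_mul_finrank_le hx.symp hEnd inf_le_right
      (fun u hu v hv => hWiso u hu.1 v hv.1 : Iso (stdForm d F) (W ⊓ End.eigenspace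
        (Matrix.toLin' (x : Matrix (Fin d ⊕ Fin d) (Fin d ⊕ Fin d) F)) (1 : F)))
    rw [hxe] at h2
    have him : i ≤ m := by
      rcases Nat.eq_zero_or_pos k with rfl | hk0
      · omega
      · have := Nat.le_mul_of_pos_left i hk0
        omega
    refine ⟨him, le_trans (Nat.mul_le_mul_left 2 ?_) h2, ?_⟩
    · rw [h1, Nat.add_mul_mod_self_right]
      exact Nat.mod_le _ _
    rcases Nat.even_or_odd i with hev | hod
    swap
    · exact Or.inl hod
    refine Or.inr ?_
    have hci : c = i := by rw [hcdef, pieceDim, if_pos hev]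
    obtain ⟨o, ho⟩ : ∃ o, o = min ((r - 1) / i) (2 * d / i) := ⟨_, rfl⟩
    obtain ⟨s, hs⟩ : ∃ s, s = 2 * d / i - (2 * d / i - o) % 2 := ⟨_, rfl⟩
    have hn1 : 1 ≤ 2 * d / i := (Nat.one_le_div_iff hipos).mpr (by omega)
    have hsc : s * i ≤ 2 * d := (Nat.mul_le_mul_right i (show s ≤ 2 * d / i by omega)).trans (Nat.div_mul_le_self _ _)
    have hsc' : s * i = 2 * (s * c') := by rw [← hci, hc']; ring
    obtain ⟨y, hy, hye, hyW⟩ := exists_deranged hr2 hrF (c := c') (by rw [← hi, ← hci, hc']) d (d - s * c') s o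
      (by omega) (by rw [← hi]; omega) (by omega) (by omega)
    have hs1 := Nat.le_mul_of_pos_left i (show 0 < s by omega)
    obtain ⟨W', hW'd, hW'iso, hW'inv⟩ := (h' y (hpow y hy) (not_scalar hr2 (by omega) y hy (by omega))).exists_iso
    obtain ⟨w, k', hwk, hw, hk'⟩ := hyW W' hW'inv hW'iso
    rw [hW'd, ← hc', hci] at hwk
    have hpar : 2 * k' + o ≤ s := by omega
    have h4 := Nat.mul_le_mul_right i hpar
    rw [Nat.add_mul, mul_assoc] at h4
    have h5 : 2 * m + o * i ≤ 2 * d := by omega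
    rcases Nat.le_total ((r - 1) / i) (2 * d / i) with hle | hle
    · rw [show o = (r - 1) / i by omega] at h5
      rw [Nat.le_div_iff_mul_le hipos, Nat.add_mul, mul_assoc]
      have := Nat.div_mul_le_self m i
      omega
    · rw [show o = 2 * d / i by omega] at h5
      have := Nat.mod_add_div (2 * d) i
      have := Nat.mod_lt (2 * d) hipos
      rw [mul_comm (2 * d / i)] at h5
      omega
  · rintro ⟨him, hle, hcond⟩ x ⟨z, hz⟩ -
    obtain ⟨hz2, hg⟩ := scalar_root (by omega) hr2 hrF x hz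
    set g := z • Matrix.toLin' (x : Matrix (Fin d ⊕ Fin d) (Fin d ⊕ Fin d) F)
    obtain ⟨Z, hZ, -, hZE, hZnd, hEnd, hdim, -⟩ := hg.fixed_split (Inv.top g) nondeg_top
    obtain ⟨s, hs⟩ := hg.finrank_eq hZ hZnd
    rw [hZE, finrank_bot, zero_add, ← hi, ← hcdef] at hs
    rw [finrank_top, finrank_std, hs] at hdim
    have hmod : 2 * d % c ≤ finrank F ↥(⊤ ⊓ End.eigenspace g (1 : F)) := by
      rw [hdim, Nat.add_mul_mod_self_right]
      exact Nat.mod_le _ _
    have hmi := Nat.mod_add_div m i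
    suffices hk : ∃ k, (0 < k → (Odd i ∧ 2 * k * i ≤ finrank F Z) ∨
        2 * (k - 1) * i + (r - 1) < finrank F Z) ∧ k * i ≤ m ∧
        2 * (m - k * i) ≤ finrank F ↥(⊤ ⊓ End.eigenspace g (1 : F)) by
      obtain ⟨k, hcondk, hkm, hkE⟩ := hk
      obtain ⟨U, hUZ, hU, hUiso, hUd⟩ := exists_iso_inv hg (p := p) k Z hZ hZnd hZE hcondk
      obtain ⟨W, hWE, hWiso, hWd⟩ := SympIsotropic.exists_iso hg.symp hEnd hkE
      have hperp : ∀ u ∈ U, ∀ w ∈ W, stdForm d F u w = 0 := fun u hu w hw =>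
        hg.perp_fixed hZ hZE u (hUZ hu) w (hWE hw).2
      have hinv : Inv g (U ⊔ W) := hU.sup (Inv.of_le_eigenspace (hWE.trans inf_le_right))
      have hz0 : z ≠ 0 := fun h0 => by simp [h0] at hz2
      rw [Lib.Elusive.Inv, Submodule.map_smul _ _ _ hz0] at hinv
      refine fix_of_iso ?_ (iso_sup hg.symp hUiso hWiso hperp) hinv
      rw [finrank_sup_of_disjoint (le_bot_iff.mp (hZE ▸ inf_le_inf hUZ (hWE.trans inf_le_right))),
        hUd, hWd, ← hi]
      omega
    rcases Nat.even_or_odd i with hev | hod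
    · have hci : c = i := by rw [hcdef, pieceDim, if_pos hev]
      have hT := hcond.resolve_left (Nat.not_odd_iff_even.mpr hev)
      rw [Nat.le_div_iff_mul_le hipos, Nat.add_mul, hti, mul_assoc] at hT
      rw [hci] at hs hdim hle hmod
      refine ⟨min (m / i) ((s + 1 - (r - 1) / i) / 2), fun hk0 => Or.inr ?_, ?_, ?_⟩
      · rw [hs]
        have h1 := Nat.mul_le_mul_right i (show 2 * (min (m / i) ((s + 1 - (r - 1) / i) / 2) - 1) + (r - 1) / i + 1 ≤ s by omega)
        rw [Nat.add_mul, Nat.add_mul, hti, one_mul] at h1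
        omega
      · exact (Nat.mul_le_mul_right i (min_le_left _ _)).trans (Nat.div_mul_le_self _ _)
      · have hm2 : 2 * (m / i * i) + (r - 1) + 2 * (m % i) ≤ 2 * d := by
          have h2 := Nat.mod_add_div (2 * d) i
          have h3 : (2 * (m / i) + (r - 1) / i) ≤ 2 * d / i := by
            rw [Nat.le_div_iff_mul_le hipos, Nat.add_mul, hti, mul_assoc]
            omega
          have h4 := Nat.mul_le_mul_right i h3
          rw [Nat.add_mul, hti, mul_assoc, mul_comm (2 * d / i)] at h4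
          omega
        rw [mul_comm i (m / i)] at hmi
        rcases Nat.le_total (m / i) ((s + 1 - (r - 1) / i) / 2) with h1 | h1
        · rw [min_eq_left h1]
          omega
        · rw [min_eq_right h1]
          have h2 := Nat.mul_le_mul_right i (show s ≤ 2 * ((s + 1 - (r - 1) / i) / 2) + (r - 1) / i by omega)
          rw [Nat.add_mul, hti, mul_assoc] at h2
          have h3 := Nat.mul_le_mul_right i h1
          omega
    · have hci : c = 2 * i := by rw [hcdef, pieceDim, if_neg (Nat.not_even_iff_odd.mpr hod)]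
      rw [hci] at hs hdim hle hmod
      rw [← mul_assoc, mul_comm s 2] at hs hdim
      refine ⟨min (m / i) s, fun _ => Or.inl ⟨hod, ?_⟩, ?_, ?_⟩
      · rw [hs]
        exact Nat.mul_le_mul_right i (Nat.mul_le_mul_left 2 (min_le_right _ _))
      · exact (Nat.mul_le_mul_right i (min_le_left _ _)).trans (Nat.div_mul_le_self _ _)
      · rw [mul_comm i (m / i)] at hmi
        rcases Nat.le_total (m / i) s with h1 | h1
        · rw [min_eq_left h1]
          omega
        · rw [min_eq_right h1]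
          have h2 := Nat.mul_le_mul_right i h1
          rw [mul_assoc] at hdim
          omega

/-- Elements of prime order of PSp_n(q) with no fixed totally isotropic `m`-space. Here `T = PSp_n(q)` with `n = 2d ≥ 4`, `(n, q) ≠ (4, 2)`, realised through the symplectic matrices over the field `F` with `q` elements (preserving the standard alternating form); an element of `T` of prime order `r` is such a matrix `x` with `x^r` scalar and `x` not scalar. For `r ≠ p` let `i` be the multiplicative order of `q` modulo `r`, `c = i` for `i` even and `c = 2i` for `i` odd, and write `k = n mod c`, `ℓ = m mod i`, `ℓ' = m mod c`, `n' = ⌊n/i⌋`, `m' = ⌊m/i⌋`, `t = (r−1)/i`. Let `1 ≤ m ≤ n/2` and let `r` be a prime dividing the number of totally isotropic `m`-spaces. Then every element of `T` of order `r` fixes a totally isotropic `m`-space if and only if either (i) `r = 2 ≠ p` and (`m` is even or `q ≡ 1 (mod 4)`); or (ii) `r ≠ p`, `r > 2`, `i ≤ m`, `k ≥ 2ℓ`, and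 (`i` is odd or `n' − 2m' ≥ t`). -/
theorem result {F : Type*} [Field F] [Fintype F] {p : ℕ} [Fact p.Prime] [CharP F p] {q : ℕ} (hq : Fintype.card F = q)
    (d m : ℕ) (hd : 2 ≤ d) (hT : (d, q) ≠ (2, 2)) (hm : 1 ≤ m) (hmd : m ≤ d)
    (r : ℕ) [Fact r.Prime]
    (hrΩ : r ∣ Nat.card {W : Submodule F (Fin d ⊕ Fin d → F) // Module.finrank F ↥W = m ∧ (∀ u ∈ W, ∀ v ∈ W, Cfsg.sympForm d F u v = 0)})
    (i c : ℕ) (hi : i = orderOf (q : ZMod r)) (hc : c = if Even i then i else 2 * i) :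
    (∀ x : ↥(Matrix.symplecticGroup (Fin d) F),
      (∃ z : F, ((x ^ r : ↥(Matrix.symplecticGroup (Fin d) F)) : Matrix (Fin d ⊕ Fin d) (Fin d ⊕ Fin d) F) = z • (1 : Matrix (Fin d ⊕ Fin d) (Fin d ⊕ Fin d) F)) →
      (∀ z : F, (x : Matrix (Fin d ⊕ Fin d) (Fin d ⊕ Fin d) F) ≠ z • (1 : Matrix (Fin d ⊕ Fin d) (Fin d ⊕ Fin d) F)) →
      ∃ W : Submodule F (Fin d ⊕ Fin d → F), Module.finrank F ↥W = m ∧ (∀ u ∈ W, ∀ v ∈ W, Cfsg.sympForm d F u v = 0) ∧
        W.map (Matrix.toLin' (x : Matrix (Fin d ⊕ Fin d) (Fin d ⊕ Fin d) F)) ≤ W) ↔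
    ((r = 2 ∧ p ≠ 2 ∧ (Even m ∨ q % 4 = 1)) ∨
     (r ≠ p ∧ 2 < r ∧ i ≤ m ∧ 2 * (m % i) ≤ (2 * d) % c ∧ (Odd i ∨ (r - 1) / i + 2 * (m / i) ≤ (2 * d) / i))) := by
  classical
  subst hq hc
  by_cases hrp : r = p
  · subst hrp
    exfalso
    obtain ⟨k, hk, hkr⟩ := exists_factor Fact.out hmd hrΩ
    obtain ⟨n, -, hn⟩ := FiniteField.card F r
    rw [hn, ← pow_mul] at hkr
    have h1 : r ∣ r ^ ((n : ℕ) * (2 * (d - k))) :=
      dvd_pow_self r (Nat.mul_ne_zero n.pos.ne' (by omega))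
    have h2 := Nat.dvd_sub h1 hkr
    rw [Nat.sub_sub_self (Nat.one_le_pow _ _ (Fact.out : r.Prime).pos)] at h2
    exact (Fact.out : r.Prime).not_dvd_one h2
  have hrF : (r : F) ≠ 0 := fun h0 =>
    hrp ((Nat.prime_dvd_prime_iff_eq Fact.out Fact.out).mp ((CharP.cast_eq_zero_iff F p r).mp h0)).symm
  rcases eq_or_ne r 2 with rfl | hr2
  · have h2 : (2 : F) ≠ 0 := by exact_mod_cast hrF
    refine (two_iff h2 hd hmd).trans ⟨fun h => Or.inl ⟨rfl, Ne.symm hrp, h⟩, ?_⟩
    rintro (⟨-, -, h⟩ | ⟨-, h, -⟩)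
    exacts [h, absurd h (lt_irrefl _)]
  · have hlt : 2 < r := lt_of_le_of_ne (Fact.out : r.Prime).two_le (Ne.symm hr2)
    refine (semisimple_iff (p := p) hr2 hrF hd hm hmd hrΩ hi).trans
      ⟨fun h => Or.inr ⟨hrp, hlt, h⟩, ?_⟩
    rintro (⟨h, -⟩ | ⟨-, -, h⟩)
    exacts [absurd h hr2, h]

end Cfsg.Agent.S5955
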