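import Cfsg.Statements.S5956
import Cfsg.Agent.Lib.Elusive.SympUnipotent
import Cfsg.Agent.Lib.JordanType.Symp
import Cfsg.Agent.Lib.Elusive.SympDecomp

set_option autoImplicit false
open scoped MatrixGroups
open Cfsg

namespace Cfsg.Agent.S5956

open Module Cfsg.Agent.Lib.Symplectic Cfsg.Agent.Lib.Elusive Cfsg.Agent.Lib.Elusive.SympPieces
  Cfsg.Agent.Lib.Elusive.SympInv Cfsg.Agent.Lib.JordanType

variable {F : Type*} [Field F] {d m : ℕ}

theorem nondeg_iff {W : Submodule F (Fin d ⊕ Fin d → F)} :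
    (∀ u ∈ W, u ≠ 0 → ∃ v ∈ W, Cfsg.sympForm d F u v ≠ 0) ↔ Nondeg (stdForm d F) W := by
  constructor
  · intro h x hx hxy
    by_contra hx0
    obtain ⟨v, hv, hne⟩ := h x hx hx0
    exact hne (by rw [← stdForm_eq_sympForm]; exact hxy v hv)
  · intro h u hu hu0
    by_contra hcon
    push Not at hcon
    exact hu0 (h u hu fun v hv => by rw [stdForm_eq_sympForm]; exact hcon v hv)

/-- Some nondegenerate subspace of dimension `m` is invariant. -/
def Fix (m : ℕ) (f : Module.End F (Fin d ⊕ Fin d → F)) : Prop :=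
  ∃ W : Submodule F (Fin d ⊕ Fin d → F), finrank F ↥W = m ∧
    (∀ u ∈ W, u ≠ 0 → ∃ v ∈ W, Cfsg.sympForm d F u v ≠ 0) ∧ W.map f ≤ W

theorem fix_smul {f : Module.End F (Fin d ⊕ Fin d → F)} {z : F} (hz : z ≠ 0) (h : Fix m (z • f)) :
    Fix m f := by
  obtain ⟨W, hW, hnd, hinv⟩ := h
  rw [Submodule.map_smul _ _ _ hz] at hinv
  exact ⟨W, hW, hnd, hinv⟩

theorem iso_toLin (x : Matrix.symplecticGroup (Fin d) F) (u v : Fin d ⊕ Fin d → F) :
    stdForm d F (Matrix.toLin' (x : Matrix (Fin d ⊕ Fin d) (Fin d ⊕ Fin d) F) u)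
      (Matrix.toLin' (x : Matrix (Fin d ⊕ Fin d) (Fin d ⊕ Fin d) F) v) = stdForm d F u v :=
  mem_sp_iff.mp x.2 u v

theorem toLin_pow {x : Matrix.symplecticGroup (Fin d) F} {r : ℕ} {z : F}
    (hz : ((x ^ r : Matrix.symplecticGroup (Fin d) F) : Matrix (Fin d ⊕ Fin d) (Fin d ⊕ Fin d) F) = z • 1) :
    Matrix.toLin' (x : Matrix (Fin d ⊕ Fin d) (Fin d ⊕ Fin d) F) ^ r = z • 1 := by
  rw [← Matrix.toLin'_pow, ← SubmonoidClass.coe_pow, hz, map_smul, Matrix.toLin'_one]
  rfl

theorem scalar_sq (hd : 0 < d) {f : Module.End F (Fin d ⊕ Fin d → F)}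
    (hiso : ∀ u v, stdForm d F (f u) (f v) = stdForm d F u v) {r : ℕ} {z : F} (hf : f ^ r = z • 1) :
    z * z = 1 := by
  obtain ⟨v, hv⟩ := (isSympForm_stdForm d F).exists_eq_one (u := Pi.single (Sum.inl ⟨0, hd⟩) 1) (by simp)
  have hp : ∀ k u v, stdForm d F ((f ^ k) u) ((f ^ k) v) = stdForm d F u v := by
    intro k
    induction k with
    | zero => intro u v; rfl
    | succ k ih => intro u v; rw [pow_succ', Module.End.mul_apply, Module.End.mul_apply, hiso, ih]
  have h1 := hp r (Pi.single (Sum.inl ⟨0, hd⟩) 1) v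
  rw [hf] at h1
  simpa [hv] using h1

theorem injective_of_iso {f : Module.End F (Fin d ⊕ Fin d → F)}
    (hiso : ∀ u v, stdForm d F (f u) (f v) = stdForm d F u v) : Function.Injective f :=
  (injective_iff_map_eq_zero f).mpr fun u hu => (isSympForm_stdForm d F).nondeg u fun y => by
    rw [← hiso u y, hu, map_zero, LinearMap.zero_apply]

theorem nondeg_top : Nondeg (stdForm d F) ⊤ :=
  fun u _ hu => (isSympForm_stdForm d F).nondeg u fun y => hu y trivial

/-- An orthogonal family of invariant nondegenerate subspaces. -/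
theorem fix_of_family {f : Module.End F (Fin d ⊕ Fin d → F)} {κ : Type*} [Fintype κ]
    (U : κ → Submodule F (Fin d ⊕ Fin d → F)) (hinv : (⨆ u, U u).map f ≤ ⨆ u, U u)
    (hnd : ∀ u, Nondeg (stdForm d F) (U u))
    (horth : ∀ u u', u ≠ u' → ∀ x ∈ U u, ∀ y ∈ U u', stdForm d F x y = 0)
    (hm : ∑ u, finrank F (U u) = m) : Fix m f := by
  obtain ⟨h1, -, h2⟩ := orth_family (isSympForm_stdForm d F) U hnd horth
  exact ⟨_, h2.trans hm, nondeg_iff.mpr h1, hinv⟩

/-- The prime is primitive for some `2 (j + 1)` in `(2 d - m, 2 d]`. -/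
theorem exists_index [Fintype F] {r : ℕ} [hr : Fact r.Prime] (hrF : (r : F) ≠ 0) {e : ℕ}
    (hm : m + 2 * e = 2 * d)
    (h : r ∣ Nat.card {W : Submodule F (Fin d ⊕ Fin d → F) // finrank F ↥W = m ∧
      (∀ u ∈ W, u ≠ 0 → ∃ v ∈ W, Cfsg.sympForm d F u v ≠ 0)}) :
    ∃ j, e ≤ j ∧ j < d ∧ pieceDim (orderOf (Fintype.card F : ZMod r)) ∣ 2 * (j + 1) := by
  classical
  let X := {W : Submodule F (Fin d ⊕ Fin d → F) // finrank F ↥W = m ∧
      (∀ u ∈ W, u ≠ 0 → ∃ v ∈ W, Cfsg.sympForm d F u v ≠ 0)}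
  haveI : Finite X := Subtype.finite
  have hS := isSympForm_stdForm d F
  letI : MulAction (Isom (stdForm d F)) X :=
    { smul := fun g W => ⟨W.1.map (g : (Fin d ⊕ Fin d → F) ≃ₗ[F] (Fin d ⊕ Fin d → F)).toLinearMap,
        (LinearEquiv.finrank_map_eq _ _).trans W.2.1, nondeg_iff.mpr (by
          rintro _ ⟨x, hx, rfl⟩ hxy
          rw [nondeg_iff.mp W.2.2 x hx fun y hy => (g.2 x y).symm.trans (hxy _ ⟨y, hy, rfl⟩), map_zero])⟩
      one_smul := fun W => Subtype.ext (Submodule.map_id _)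
      mul_smul := fun g g' W => Subtype.ext (Submodule.map_comp _ _ _) }
  haveI : MulAction.IsPretransitive (Isom (stdForm d F)) X := ⟨fun W W' => by
    obtain ⟨g, hg⟩ := exists_isom_subspace hS (nondeg_iff.mp W.2.2) (nondeg_iff.mp W'.2.2)
      (W.2.1.trans W'.2.1.symm)
    exact ⟨g, Subtype.ext hg⟩⟩
  obtain ⟨W₀, -, hW₀, hW₀nd, hW₀d⟩ : ∃ W, W ≤ (⊤ : Submodule F (Fin d ⊕ Fin d → F)) ∧
      True ∧ Nondeg (stdForm d F) W ∧ finrank F W = m := by
    let e' : Fin (d - e) → Fin d := Fin.castLE (Nat.sub_le _ _)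
    let P : Fin (d - e) → Submodule F (Fin d ⊕ Fin d → F) := fun k =>
      Submodule.span F {Pi.single (Sum.inl (e' k)) 1, Pi.single (Sum.inr (e' k)) 1}
    have hB : ∀ k l : Fin d, stdForm d F (Pi.single (Sum.inl k) 1) (Pi.single (Sum.inr l) 1) =
        if k = l then -1 else 0 := fun k l => by
      simp [stdForm_apply, Pi.single_apply, Finset.sum_ite_eq, eq_comm]
      split_ifs <;> simp_all
    have hne : ∀ k, Nondeg (stdForm d F) (P k) ∧ finrank F (P k) = 2 := fun k =>
      plane_nondeg hS (by rw [hB, if_pos rfl]; simp)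
    obtain ⟨h1, -, h2⟩ := orth_family hS P (fun k => (hne k).1) fun k l hkl u hu v hv => by
      obtain ⟨s, t, rfl⟩ := Submodule.mem_span_pair.mp hu
      obtain ⟨s', t', rfl⟩ := Submodule.mem_span_pair.mp hv
      have hkl' : e' k ≠ e' l := fun h => hkl (Fin.castLE_injective _ h)
      simp [stdForm_apply, Pi.single_apply, hkl', Ne.symm hkl']
    refine ⟨_, le_top, trivial, h1, ?_⟩
    rw [h2, Finset.sum_congr rfl fun k _ => (hne k).2, Finset.sum_const, Finset.card_univ,
      Fintype.card_fin, smul_eq_mul]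
    omega
  let x₀ : X := ⟨W₀, hW₀d, nondeg_iff.mpr hW₀nd⟩
  have hdvd := card_orth_dvd_stabilizer hS hW₀nd (MulAction.stabilizer (Isom (stdForm d F)) x₀)
    (fun g hg => by
      refine MulAction.mem_stabilizer_iff.mpr (Subtype.ext ?_)
      show W₀.map (g : (Fin d ⊕ Fin d → F) ≃ₗ[F] (Fin d ⊕ Fin d → F)).toLinearMap = W₀
      refine Submodule.eq_of_le_of_finrank_eq ?_ (LinearEquiv.finrank_map_eq _ _)
      rintro _ ⟨x, hx, rfl⟩
      show (g : (Fin d ⊕ Fin d → F) ≃ₗ[F] (Fin d ⊕ Fin d → F)) x ∈ W₀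
      rwa [hg x hx])
  obtain ⟨hY, -, hYd⟩ := split hS hW₀nd nondeg_top le_top
  rw [top_inf_eq] at hY hYd
  rw [finrank_top, finrank_std, hW₀d] at hYd
  have hcard : r * Nat.card (Isom (restr (stdForm d F) (orth (stdForm d F) W₀))) ∣
      Nat.card (Isom (stdForm d F)) := by
    rw [← Subgroup.index_mul_card (MulAction.stabilizer (Isom (stdForm d F)) x₀),
      MulAction.index_stabilizer_of_transitive]
    exact mul_dvd_mul h hdvd
  rw [card_isom hS (q := Fintype.card F) (by rw [Nat.card_eq_fintype_card]) (finrank_std d F),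
    card_isom (isSympForm_restr hS hY) (q := Fintype.card F) (by rw [Nat.card_eq_fintype_card])
      (show finrank F ↥(orth (stdForm d F) W₀) = 2 * e by omega),
    ← Finset.prod_range_mul_prod_Ico _ (show e ≤ d by omega)] at hcard
  have hq2 : 2 ≤ Fintype.card F := Fintype.one_lt_card
  have hpos : 0 < ∏ i ∈ Finset.range e, (Fintype.card F ^ (2 * (i + 1)) - 1) :=
    Finset.prod_pos fun i _ => by
      have := Nat.pow_le_pow_left hq2 (2 * (i + 1))
      have := Nat.one_lt_two_pow (show 2 * (i + 1) ≠ 0 by omega)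
      omega
  rw [← mul_assoc, ← mul_assoc, mul_comm (Fintype.card F ^ (d ^ 2)) _, mul_comm (r * _) _, mul_assoc] at hcard
  have h5 := (Nat.mul_dvd_mul_iff_left hpos).mp hcard
  have h6 := (hr.out.dvd_mul.mp ((dvd_mul_right r _).trans h5)).resolve_left fun hq =>
    card_cast_ne_zero hrF ((ZMod.natCast_eq_zero_iff _ _).mpr (hr.out.dvd_of_dvd_pow hq))
  obtain ⟨j, hj, hjd⟩ := (Prime.dvd_finsetProd_iff hr.out.prime _).mp h6
  rw [Finset.mem_Ico] at hj
  rw [← ZMod.natCast_eq_zero_iff, Nat.cast_sub (Nat.one_le_pow _ _ Fintype.card_pos), Nat.cast_pow,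
    Nat.cast_one, sub_eq_zero] at hjd
  exact ⟨j, hj.1, hj.2, two_mul_le (orderOf_dvd_of_pow_eq_one hjd)⟩

/-- The semisimple case of odd order. -/
theorem semisimple_iff [Fintype F] {r : ℕ} [hr : Fact r.Prime] (hr2 : r ≠ 2) (hrF : (r : F) ≠ 0)
    (hd : 2 ≤ d) (hm : 2 ≤ m) (hme : Even m) (hmd : m < d)
    (h : r ∣ Nat.card {W : Submodule F (Fin d ⊕ Fin d → F) // finrank F ↥W = m ∧
      (∀ u ∈ W, u ≠ 0 → ∃ v ∈ W, Cfsg.sympForm d F u v ≠ 0)}) :
    (∀ x : ↥(Matrix.symplecticGroup (Fin d) F),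
      (∃ z : F, ((x ^ r : ↥(Matrix.symplecticGroup (Fin d) F)) : Matrix (Fin d ⊕ Fin d) (Fin d ⊕ Fin d) F) = z • (1 : Matrix (Fin d ⊕ Fin d) (Fin d ⊕ Fin d) F)) →
      (∀ z : F, (x : Matrix (Fin d ⊕ Fin d) (Fin d ⊕ Fin d) F) ≠ z • (1 : Matrix (Fin d ⊕ Fin d) (Fin d ⊕ Fin d) F)) →
      Fix m (Matrix.toLin' (x : Matrix (Fin d ⊕ Fin d) (Fin d ⊕ Fin d) F))) ↔
    (pieceDim (orderOf (Fintype.card F : ZMod r)) ≤ m ∧
      m % pieceDim (orderOf (Fintype.card F : ZMod r)) ≤
        (2 * d) % pieceDim (orderOf (Fintype.card F : ZMod r))) := by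
  classical
  obtain ⟨b, hb⟩ := hme.two_dvd
  obtain ⟨j, hje, hjd, hjc⟩ := exists_index (e := d - b) hrF (by omega) h
  set c := pieceDim (orderOf (Fintype.card F : ZMod r)) with hcdef
  obtain ⟨c', hc'⟩ := (even_pieceDim (orderOf (Fintype.card F : ZMod r))).two_dvd
  rw [← hcdef] at hc'
  have hcpos : 0 < c := by
    rw [hcdef, pieceDim]
    have := orderOf_card_pos hrF (r := r)
    split <;> omega
  have hc2d : c ≤ 2 * d := (Nat.le_of_dvd (by omega) hjc).trans (by omega)
  have hlow : 2 * d % c < m := by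
    obtain ⟨k, hk⟩ := hjc
    have h1 : k ≤ 2 * d / c := (Nat.le_div_iff_mul_le hcpos).mpr (by rw [mul_comm, ← hk]; omega)
    have h2 := Nat.mul_le_mul_left c h1
    have h3 := Nat.mod_add_div (2 * d) c
    omega
  constructor
  · intro h'
    obtain ⟨x, hx, hxe⟩ := exists_element hr2 hrF d (d % c') (2 * d / c) (by
      rw [← hcdef, ← Nat.mul_mod_mul_left, ← hc', mul_comm (2 * d / c)]
      exact Nat.mod_add_div _ _)
    rw [← Nat.mul_mod_mul_left, ← hc'] at hxe
    obtain ⟨W, hWd, hWnd, hWinv⟩ := h' x ⟨1, by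
        rw [one_smul, SubmonoidClass.coe_pow]
        refine Matrix.toLin'.injective ?_
        rw [Matrix.toLin'_pow, hx.pow, Matrix.toLin'_one]
        rfl⟩ fun z hz => by
      rw [hz, map_smul, Matrix.toLin'_one] at hx hxe
      have hz2 := scalar_sq (r := 1) (z := z) (f := z • LinearMap.id) (by omega) hx.iso (pow_one _)
      have hzr : z ^ r = 1 := by
        have h1 := congrFun (LinearMap.congr_fun hx.pow (Pi.single (Sum.inl ⟨0, by omega⟩) 1)) (Sum.inl ⟨0, by omega⟩)
        rw [← Module.End.one_eq_id, _root_.smul_pow, one_pow] at h1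
        simpa using h1
      obtain ⟨k, hk⟩ := hr.out.odd_of_ne_two hr2
      rw [hk, pow_succ, pow_mul, pow_two, hz2, one_pow, one_mul] at hzr
      subst hzr
      have htop : End.eigenspace ((1 : F) • (LinearMap.id : Module.End F (Fin d ⊕ Fin d → F))) 1 = ⊤ :=
        eq_top_iff.mpr fun v _ => End.mem_eigenspace_iff.mpr (by simp)
      rw [htop, finrank_top, finrank_std] at hxe
      have := Nat.mod_lt (2 * d) hcpos
      omega
    obtain ⟨s, hs⟩ := hx.finrank_eq hWinv (nondeg_iff.mp hWnd)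
    rw [hWd, ← hcdef] at hs
    have h4 := Submodule.finrank_mono (inf_le_right : W ⊓ End.eigenspace
      (Matrix.toLin' (x : Matrix (Fin d ⊕ Fin d) (Fin d ⊕ Fin d) F)) (1 : F) ≤ _)
    rw [hxe] at h4
    refine ⟨?_, le_trans ?_ h4⟩
    · by_contra hlt
      rcases Nat.eq_zero_or_pos s with rfl | hs0
      · omega
      · have := Nat.le_mul_of_pos_left c hs0
        omega
    · conv_lhs => rw [hs, Nat.add_mul_mod_self_right]
      exact Nat.mod_le _ _
  · rintro ⟨-, hle⟩ x ⟨z, hz⟩ -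
    obtain ⟨hz2, hg⟩ := scalar_root (by omega) hr2 hrF x hz
    set g := z • Matrix.toLin' (x : Matrix (Fin d ⊕ Fin d) (Fin d ⊕ Fin d) F)
    refine fix_smul (z := z) (fun h0 => by simp [h0] at hz2) ?_
    obtain ⟨Z, hZ, -, hZE, hZnd, hEnd, hdim, -⟩ := hg.fixed_split (Inv.top g) nondeg_top
    obtain ⟨s, W, hW, hWW, hWs⟩ := hg.exists_pieces _ Z rfl hZ hZnd hZE
    obtain ⟨-, -, hWd⟩ := orth_family hg.symp W (fun u => (hW u).2.1) hWW
    rw [hWs, Finset.sum_congr rfl fun u _ => (hW u).2.2, Finset.sum_const, Finset.card_univ,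
      Fintype.card_fin, smul_eq_mul, ← hcdef] at hWd
    obtain ⟨h, P, hPd, hP, hPP, -⟩ := SympDecomp.exists_planes hg.symp hEnd
    rw [finrank_top, finrank_std, hPd, hWd] at hdim
    obtain ⟨sW, hsW⟩ : ∃ sW, sW = min s (m / c) := ⟨_, rfl⟩
    have hmc := Nat.mod_add_div m c
    have hsc : sW * c ≤ m := (Nat.mul_le_mul_right c (show sW ≤ m / c by omega)).trans (Nat.div_mul_le_self m c)
    have hk : m - sW * c ≤ 2 * h := by
      rcases Nat.le_total s (m / c) with hs | hs
      · rw [show sW = s by omega]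
        omega
      · have hmod : 2 * d % c ≤ 2 * h := by
          rw [hdim, Nat.add_mul_mod_self_right]
          exact Nat.mod_le _ _
        rw [show sW = m / c by omega, mul_comm (m / c)]
        omega
    have hev : 2 * ((m - sW * c) / 2) = m - sW * c := by
      have : sW * c = 2 * (sW * c') := by rw [hc']; ring
      omega
    let U : Fin sW ⊕ Fin ((m - sW * c) / 2) → Submodule F (Fin d ⊕ Fin d → F) :=
      Sum.elim (fun u => W (Fin.castLE (by omega) u)) fun u => P (Fin.castLE (by omega) u)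
    have hinvU : ∀ u, Inv g (U u) := Sum.rec (fun u => (hW _).1)
      fun u => Inv.of_le_eigenspace (μ := (1 : F)) ((hP _).1.trans inf_le_right)
    refine fix_of_family U ?_ (Sum.rec (fun u => (hW _).2.1) fun u => (hP _).2.1) ?_ ?_
    · rw [Submodule.map_iSup]
      exact iSup_mono fun u => hinvU u
    · have hWP : ∀ u u', ∀ x ∈ W u, ∀ y ∈ P u', stdForm d F x y = 0 := fun u u' p hp v hv =>
        hg.perp_fixed hZ hZE p (hWs.le (le_iSup W u hp)) v ((hP u').1 hv).2
      rintro (u | u) (u' | u') hne x hx y hy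
      · exact hWW _ _ (fun h => hne (congrArg _ (Fin.castLE_injective _ h))) x hx y hy
      · exact hWP _ _ x hx y hy
      · exact hg.symp.comm_eq_zero.mp (hWP _ _ y hy x hx)
      · exact hPP _ _ (fun h => hne (congrArg _ (Fin.castLE_injective _ h))) x hx y hy
    · have h1 : ∀ u, finrank F ↥(U (Sum.inl u)) = c := fun u => (hW _).2.2
      have h2 : ∀ u, finrank F ↥(U (Sum.inr u)) = 2 := fun u => (hP _).2.2
      simp only [Fintype.sum_sum_type, h1, h2, Finset.sum_const, Finset.card_univ, Fintype.card_fin, smul_eq_mul]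
      omega

/-- A set of given size invariant under an involution. -/
theorem exists_invariant_finset {ι : Type*} [Fintype ι] [DecidableEq ι] (π : Equiv.Perm ι)
    (hπ : π * π = 1) {k : ℕ} (hk : k ≤ Fintype.card ι) (h : Even k ∨ Odd (Fintype.card ι)) :
    ∃ S : Finset ι, S.card = k ∧ ∀ i ∈ S, π i ∈ S := by
  have hππ : ∀ i, π (π i) = i := fun i => Equiv.ext_iff.mp hπ i
  let o := Fintype.equivFin ι
  let A := Finset.univ.filter fun i => π i = i
  let R := Finset.univ.filter fun i => o i < o (π i)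
  have hR : ∀ i ∈ R, π i ∉ R ∧ π i ≠ i := fun i hi => by
    have h1 := (Finset.mem_filter.mp hi).2
    refine ⟨fun h2 => ?_, fun h2 => by rw [h2] at h1; exact lt_irrefl _ h1⟩
    have h3 := (Finset.mem_filter.mp h2).2
    rw [hππ] at h3
    exact lt_asymm h1 h3
  have hcard : A.card + 2 * R.card = Fintype.card ι := by
    have huniv : (Finset.univ : Finset ι) = A ∪ (R ∪ R.image π) := by
      ext i
      simp only [A, R, Finset.mem_univ, Finset.mem_union, Finset.mem_filter, Finset.mem_image, true_and, true_iff]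
      rcases lt_trichotomy (o i) (o (π i)) with h1 | h1 | h1
      · exact Or.inr (Or.inl h1)
      · exact Or.inl (o.injective h1).symm
      · exact Or.inr (Or.inr ⟨π i, by rw [hππ]; exact h1, hππ i⟩)
    rw [← Finset.card_univ, huniv, Finset.card_union_of_disjoint, Finset.card_union_of_disjoint,
      Finset.card_image_of_injective _ π.injective, two_mul]
    · refine Finset.disjoint_left.mpr fun i hi hi' => ?_
      obtain ⟨y, hy, rfl⟩ := Finset.mem_image.mp hi'
      exact (hR y hy).1 hi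
    · refine Finset.disjoint_left.mpr fun i hi hi' => ?_
      have h1 := (Finset.mem_filter.mp hi).2
      rcases Finset.mem_union.mp hi' with h2 | h2
      · exact (hR i h2).2 h1
      · obtain ⟨y, hy, rfl⟩ := Finset.mem_image.mp h2
        rw [hππ] at h1
        exact (hR y hy).2 h1.symm
  obtain ⟨R', hR', hR'c⟩ := Finset.exists_subset_card_eq (show min R.card (k / 2) ≤ R.card from min_le_left _ _)
  have hA : k - 2 * R'.card ≤ A.card := by
    rcases h with ⟨l, hl⟩ | ⟨l, hl⟩ <;> omega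
  obtain ⟨A', hA', hA'c⟩ := Finset.exists_subset_card_eq hA
  refine ⟨A' ∪ (R' ∪ R'.image π), ?_, fun i hi => ?_⟩
  · rw [Finset.card_union_of_disjoint, Finset.card_union_of_disjoint,
      Finset.card_image_of_injective _ π.injective]
    · omega
    · refine Finset.disjoint_left.mpr fun i hi hi' => ?_
      obtain ⟨y, hy, rfl⟩ := Finset.mem_image.mp hi'
      exact (hR y (hR' hy)).1 (hR' hi)
    · refine Finset.disjoint_left.mpr fun i hi hi' => ?_
      have h1 := (Finset.mem_filter.mp (hA' hi)).2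
      rcases Finset.mem_union.mp hi' with h2 | h2
      · exact (hR i (hR' h2)).2 h1
      · obtain ⟨y, hy, rfl⟩ := Finset.mem_image.mp h2
        rw [hππ] at h1
        exact (hR y (hR' hy)).2 h1.symm
  · rcases Finset.mem_union.mp hi with h1 | h1
    · rw [(Finset.mem_filter.mp (hA' h1)).2]
      exact Finset.mem_union_left _ h1
    · refine Finset.mem_union_right _ ?_
      rcases Finset.mem_union.mp h1 with h2 | h2
      · exact Finset.mem_union_right _ (Finset.mem_image_of_mem π h2)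
      · obtain ⟨y, hy, rfl⟩ := Finset.mem_image.mp h2
        rw [hππ]
        exact Finset.mem_union_left _ hy

/-- An involution fixing no subspace of dimension `2` modulo `4`. -/
theorem four_dvd {f : Module.End F (Fin d ⊕ Fin d → F)}
    (hiso : ∀ u v, stdForm d F (f u) (f v) = stdForm d F u v) (hff : ∀ v, f (f v) = v)
    (halt : ∀ v, stdForm d F v (f v) = 0)
    (hker : ∀ v, (f - 1) v = 0 → v ∈ LinearMap.range (f - 1))
    (hkk : ∀ v, (f - 1) ((f - 1) v) = 0)
    {W : Submodule F (Fin d ⊕ Fin d → F)} (hWinv : Inv f W) (hWnd : Nondeg (stdForm d F) W) :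
    4 ∣ finrank F W := by
  set B := stdForm d F
  have hS := isSympForm_stdForm d F
  have hinj : Function.Injective f := injective_of_iso hiso
  have hWN : ∀ v ∈ W, (f - 1) v ∈ W := fun v hv => W.sub_mem (hWinv.mem hv) hv
  let NW : Module.End F W := (f - 1).restrict hWN
  have hadj : ∀ u v, B ((f - 1) u) v = B u ((f - 1) v) := fun u v => by
    simp only [LinearMap.sub_apply, Module.End.one_apply, map_sub, LinearMap.sub_apply]
    congr 1
    conv_rhs => rw [← hiso, hff]
  have hkr : LinearMap.ker NW = LinearMap.range NW := by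
    refine le_antisymm (fun v hv => ?_) ?_
    · obtain ⟨y, hy⟩ := hker v (congrArg Subtype.val hv)
      obtain ⟨hY, h2, -⟩ := split hS hWnd nondeg_top le_top
      rw [top_inf_eq] at h2
      obtain ⟨a, ha, b, hb, rfl⟩ := Submodule.mem_sup.mp (h2.ge (Submodule.mem_top (x := y)))
      refine ⟨⟨a, ha⟩, Subtype.ext ?_⟩
      show (f - 1) a = v
      rw [map_add] at hy
      have h3 : (f - 1) b ∈ W ⊓ orth B W := ⟨(eq_sub_of_add_eq' hy) ▸ W.sub_mem v.2 (hWN a ha),
        (orth B W).sub_mem ((inv_orth hinj hiso hWinv).mem hb) hb⟩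
      rw [(nondeg_iff_inf_orth hS).mp hWnd, Submodule.mem_bot] at h3
      rwa [h3, add_zero] at hy
    · rintro _ ⟨v, rfl⟩
      exact Subtype.ext (hkk v)
  obtain ⟨C, hC⟩ : ∃ C : Submodule F W, IsCompl (LinearMap.ker NW) C := Submodule.exists_isCompl _
  let C' : Submodule F (Fin d ⊕ Fin d → F) := C.map W.subtype
  have hC'W : C' ≤ W := by
    rintro _ ⟨c, -, rfl⟩
    exact c.2
  have hs : IsSympForm (B.compl₁₂ C'.subtype ((f - 1) ∘ₗ C'.subtype)) := by
    refine ⟨fun u => ?_, fun u hu => ?_⟩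
    · show B (u : Fin d ⊕ Fin d → F) ((f - 1) (u : Fin d ⊕ Fin d → F)) = 0
      rw [LinearMap.sub_apply, Module.End.one_apply, map_sub, halt, hS.self, sub_zero]
    · obtain ⟨c₀, hc₀, hc₀u⟩ := u.2
      have h1 : NW c₀ = 0 := Subtype.ext (hWnd _ (hWN _ c₀.2) fun y hy => by
        obtain ⟨k, hk, c, hc, hkc⟩ := Submodule.mem_sup.mp (hC.sup_eq_top.ge (Submodule.mem_top (x := (⟨y, hy⟩ : W))))
        show B ((f - 1) (c₀ : Fin d ⊕ Fin d → F)) y = 0
        rw [hadj]
        have h4 : (f - 1) y = (NW c : Fin d ⊕ Fin d → F) := by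
          show (NW ⟨y, hy⟩ : Fin d ⊕ Fin d → F) = _
          rw [← hkc, map_add, LinearMap.mem_ker.mp hk, zero_add]
        rw [h4]
        show B (W.subtype c₀) ((f - 1) (c : Fin d ⊕ Fin d → F)) = 0
        rw [hc₀u]
        exact hu ⟨_, c, hc, rfl⟩)
      refine Subtype.ext ?_
      rw [← hc₀u, (Submodule.disjoint_def.mp hC.disjoint) _ (LinearMap.mem_ker.mpr h1) hc₀]
      rfl
  obtain ⟨k, hk⟩ := even_finrank hs
  have h0 : finrank F C' = finrank F C := (Submodule.equivMapOfInjective W.subtype W.injective_subtype C).finrank_eq.symm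
  have h1 := Submodule.finrank_add_eq_of_isCompl hC
  have h2 := NW.finrank_range_add_finrank_ker
  rw [← hkr] at h2
  exact ⟨k, by omega⟩

/-- Involutions in characteristic two. -/
theorem char_two_iff (h2 : (2 : F) = 0) (hd : 2 ≤ d) (hm : 2 ≤ m) (hme : Even m) (hmd : m < d) :
    (∀ x : ↥(Matrix.symplecticGroup (Fin d) F),
      (∃ z : F, ((x ^ 2 : ↥(Matrix.symplecticGroup (Fin d) F)) : Matrix (Fin d ⊕ Fin d) (Fin d ⊕ Fin d) F) = z • (1 : Matrix (Fin d ⊕ Fin d) (Fin d ⊕ Fin d) F)) →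
      (∀ z : F, (x : Matrix (Fin d ⊕ Fin d) (Fin d ⊕ Fin d) F) ≠ z • (1 : Matrix (Fin d ⊕ Fin d) (Fin d ⊕ Fin d) F)) →
      Fix m (Matrix.toLin' (x : Matrix (Fin d ⊕ Fin d) (Fin d ⊕ Fin d) F))) ↔
    ((2 * d) % 4 = 2 ∨ m % 4 = 0) := by
  classical
  obtain ⟨b, hb⟩ := hme.two_dvd
  constructor
  · intro h
    by_contra hcon
    push Not at hcon
    obtain ⟨l, hl⟩ : ∃ l, d = l + l := ⟨d / 2, by omega⟩
    subst hl
    let τ : Fin (l + l) → Fin (l + l) := fun i => finSumFinEquiv (finSumFinEquiv.symm i).swap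
    have hττ : ∀ i, τ (τ i) = i := fun i => by simp [τ]
    let ρ : Fin (l + l) ⊕ Fin (l + l) → Fin (l + l) ⊕ Fin (l + l) := Sum.map τ τ
    have hρρ : ∀ s, ρ (ρ s) = s := by rintro (i | i) <;> simp [ρ, hττ]
    let f : Module.End F (Fin (l + l) ⊕ Fin (l + l) → F) := LinearMap.funLeft F F ρ
    have hf : ∀ v s, f v s = v (ρ s) := fun v s => rfl
    have hff : ∀ v, f (f v) = v := fun v => funext fun s => by rw [hf, hf, hρρ]
    let τe : Fin (l + l) ≃ Fin (l + l) := ⟨τ, τ, hττ, hττ⟩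
    have hiso : ∀ u v, stdForm (l + l) F (f u) (f v) = stdForm (l + l) F u v := fun u v => by
      rw [stdForm_apply, stdForm_apply]
      exact Fintype.sum_equiv τe _ _ fun i => rfl
    have halt : ∀ v, stdForm (l + l) F v (f v) = 0 := fun v => by
      have hsw := (isSympForm_stdForm (l + l) F).swap v (f v)
      have h3 : stdForm (l + l) F (f v) v = stdForm (l + l) F v (f v) := by
        conv_rhs => rw [← hiso, hff]
      rw [h3] at hsw
      rw [stdForm_apply, Finset.sum_sub_distrib, sub_eq_zero]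
      refine Fintype.sum_equiv τe _ _ fun i => ?_
      show _ = _
      simp only [hf, ρ, Sum.map_inl, Sum.map_inr, τe, Equiv.coe_fn_mk, hττ]
      ring
    have hkk : ∀ v, (f - 1) ((f - 1) v) = 0 := fun v => funext fun s => by
      simp only [LinearMap.sub_apply, Module.End.one_apply, map_sub, hff, Pi.sub_apply, Pi.zero_apply]
      linear_combination (v s - f v s) * h2
    have hker : ∀ v, (f - 1) v = 0 → v ∈ LinearMap.range (f - 1) := fun v hv => by
      let u : Fin (l + l) ⊕ Fin (l + l) → F := fun s =>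
        if (Sum.elim (fun i => (finSumFinEquiv.symm i).isLeft) (fun i => (finSumFinEquiv.symm i).isLeft) s) then v s else 0
      refine ⟨u, funext fun s => ?_⟩
      have hv' : v (ρ s) = v s := by
        have := congrFun hv s
        simpa [hf, sub_eq_zero] using this
      simp only [LinearMap.sub_apply, Module.End.one_apply, Pi.sub_apply, hf]
      rcases s with i | i <;>
      · rcases h0 : finSumFinEquiv.symm i with a | a <;>
          simp only [u, ρ, τ, Sum.map_inl, Sum.map_inr, Sum.elim_inl, Sum.elim_inr, h0, Sum.swap_inl,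
            Sum.swap_inr, Equiv.symm_apply_apply, Sum.isLeft_inl, Sum.isLeft_inr, if_true,
            Bool.false_eq_true, if_false] at hv' ⊢
        · linear_combination (-v _) * h2
        · rw [hv']; ring
    have hmem : LinearMap.toMatrix' f ∈ Matrix.symplecticGroup (Fin (l + l)) F :=
      mem_sp_iff.mpr fun u v => by rw [LinearMap.toMatrix'_mulVec, LinearMap.toMatrix'_mulVec, hiso]
    obtain ⟨W, hWd, hWnd, hWinv⟩ := h ⟨_, hmem⟩ ⟨1, by
        rw [one_smul, SubmonoidClass.coe_pow, pow_two, ← LinearMap.toMatrix'_mul,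
          show f * f = 1 from LinearMap.ext hff]
        exact LinearMap.toMatrix'_one⟩ fun z hz => by
      have h1 := congrArg Matrix.toLin' hz
      rw [Matrix.toLin'_toMatrix', map_smul, Matrix.toLin'_one] at h1
      let i₀ : Fin (l + l) := finSumFinEquiv (Sum.inl ⟨0, by omega⟩)
      have h3 := congrFun (LinearMap.congr_fun h1 (Pi.single (Sum.inl i₀) 1)) (Sum.inl (τ i₀))
      have hne : τ i₀ ≠ i₀ := fun he => by
        have := congrArg finSumFinEquiv.symm he
        simp only [τ, i₀, Equiv.symm_apply_apply, Sum.swap_inl] at this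
        exact absurd this Sum.inr_ne_inl
      simp [hf, ρ, hττ, hne] at h3
    have := four_dvd hiso hff halt hker hkk (W := W) (by simpa [Lib.Elusive.Inv] using hWinv)
      (nondeg_iff.mp hWnd)
    omega
  · intro hcond x ⟨z, hz⟩ _
    rw [pow_two, Submonoid.coe_mul] at hz
    obtain ⟨B, hB, hsq, hgood⟩ := SympPlanes.standard x hz (by omega)
    set f := Matrix.toLin' (x : Matrix (Fin d ⊕ Fin d) (Fin d ⊕ Fin d) F)
    have hBs : ∀ u v, B u v = stdForm d F u v := fun u v => by rw [hB, stdForm_eq_sympForm]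
    obtain ⟨ι, hι, v, w, π, hp⟩ := SympPlanes.exists_planes hsq _ ⊤ rfl hgood
    have hcard : 2 * Fintype.card ι = 2 * d := by
      have h1 := finrank_span_eq_card (hp.linearIndependent hsq)
      rw [Set.Sum.elim_range, hp.span, finrank_top, finrank_std, Fintype.card_sum] at h1
      omega
    obtain ⟨S, hSc, hSπ⟩ := exists_invariant_finset π hp.invol (k := b) (by omega) (by
      rcases hcond with h | h
      · exact Or.inr (Nat.odd_iff.mpr (by omega))
      · exact Or.inl (Nat.even_iff.mpr (by omega)))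
    let U : S → Submodule F (Fin d ⊕ Fin d → F) := fun i => Submodule.span F {v i, w i}
    have hU : ∀ i, Nondeg (stdForm d F) (U i) ∧ finrank F (U i) = 2 := fun i =>
      plane_nondeg (isSympForm_stdForm d F) (by rw [← hBs, hp.one]; exact one_ne_zero)
    refine fix_of_family U ?_ (fun i => (hU i).1) ?_ ?_
    · rw [Submodule.map_iSup]
      refine iSup_le fun i => le_iSup_of_le ⟨π i, hSπ i i.2⟩ ?_
      rw [Submodule.map_span, Submodule.span_le]
      rintro _ ⟨y, (rfl | rfl), rfl⟩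
      exacts [(hp.map_mem i).1, (hp.map_mem i).2]
    · intro i j hij x hx y hy
      obtain ⟨s, t, rfl⟩ := Submodule.mem_span_pair.mp hx
      obtain ⟨s', t', rfl⟩ := Submodule.mem_span_pair.mp hy
      have hij' : (i : ι) ≠ j := fun h => hij (Subtype.ext h)
      obtain ⟨h1, h3, h4⟩ := hp.orth _ _ hij'
      obtain ⟨-, h5, -⟩ := hp.orth _ _ hij'.symm
      rw [hsq.swap] at h5
      rw [← hBs]
      simp [h1, h3, h4, neg_eq_zero.mp h5]
    · rw [Finset.sum_congr rfl fun i _ => (hU i).2, Finset.sum_const, Finset.card_univ, Fintype.card_coe,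
        hSc, smul_eq_mul]
      omega

open SympUnipotent in
/-- Unipotent elements of odd order. -/
theorem unipotent_iff (p : ℕ) [Fact p.Prime] [CharP F p] (hp2 : 2 < p) (hd : 2 ≤ d) (hm : 2 ≤ m)
    (hme : Even m) (hmd : m < d) :
    (∀ x : ↥(Matrix.symplecticGroup (Fin d) F),
      (∃ z : F, ((x ^ p : ↥(Matrix.symplecticGroup (Fin d) F)) : Matrix (Fin d ⊕ Fin d) (Fin d ⊕ Fin d) F) = z • (1 : Matrix (Fin d ⊕ Fin d) (Fin d ⊕ Fin d) F)) →
      (∀ z : F, (x : Matrix (Fin d ⊕ Fin d) (Fin d ⊕ Fin d) F) ≠ z • (1 : Matrix (Fin d ⊕ Fin d) (Fin d ⊕ Fin d) F)) →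
      Fix m (Matrix.toLin' (x : Matrix (Fin d ⊕ Fin d) (Fin d ⊕ Fin d) F))) ↔
    (∀ μ : Multiset ℕ, (∀ a ∈ μ, 0 < a ∧ a ≤ p) → (∀ a : ℕ, Odd a → Even (μ.count a)) → μ.sum = 2 * d →
        ∃ ν : Multiset ℕ, ν ≤ μ ∧ ν.sum = m ∧ ∀ a : ℕ, Odd a → Even (ν.count a)) := by
  classical
  have h2F : (2 : F) ≠ 0 := Ring.two_ne_zero (by rw [ringChar.eq F p]; omega)
  have hS := isSympForm_stdForm d F
  constructor
  · intro h μ hμ hpar hsum
    by_cases hone : ∀ a ∈ μ, a = 1
    · have h1 := Multiset.eq_replicate_card.mpr hone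
      have h2 : Multiset.card μ = 2 * d := by
        rw [← hsum]; conv_rhs => rw [h1, Multiset.sum_replicate, smul_eq_mul, mul_one]
      refine ⟨Multiset.replicate m 1, ?_, by simp, fun a _ => ?_⟩
      · rw [h1, ← Multiset.le_count_iff_replicate_le, Multiset.count_replicate_self]
        omega
      · rw [Multiset.count_replicate]
        split
        · exact hme
        · exact Even.zero
    push Not at hone
    obtain ⟨a₀, ha₀, ha₀1⟩ := hone
    let dd : Fin μ.toList.length → ℕ := μ.toList.get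
    have hparts : UnipotentType.parts dd = μ := by
      rw [UnipotentType.parts, Fin.univ_val_map, List.ofFn_get, Multiset.coe_toList]
    have hmem : ∀ k, dd k ∈ μ := fun k => hparts ▸ Multiset.mem_map_of_mem dd (Finset.mem_univ k)
    obtain ⟨e, A, hA⟩ := (exists_sp_iff (F := F) (m := d) dd (by
      rw [← UnipotentType.parts_sum, hparts, hsum])).mpr fun j hj => by
      rw [← UnipotentType.count_parts, hparts]; exact hpar j hj
    obtain ⟨φ, hφ⟩ := intertwine_of_isConj hA
    let C := (reindexCoords (F := F) dd e).map φ hφ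
    set f := Matrix.toLin' (A : Matrix (Fin d ⊕ Fin d) (Fin d ⊕ Fin d) F) with hfdef
    have hN : Matrix.toLin' ((A : Matrix (Fin d ⊕ Fin d) (Fin d ⊕ Fin d) F) - 1) = f - 1 := by
      rw [map_sub, Matrix.toLin'_one]; rfl
    have hNp : (f - 1) ^ p = 0 := by
      rw [← hN]
      exact C.pow_eq_zero_iff.mpr fun k => (hμ _ (hmem k)).2
    have hfp : f ^ p = 1 := by
      rw [show f = 1 + (f - 1) by abel, UnipotentType.one_add_pow_char p, hNp, add_zero]
    obtain ⟨W, hWd, hWnd, hWinv⟩ := h A ⟨1, by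
        rw [one_smul, SubmonoidClass.coe_pow]
        refine Matrix.toLin'.injective ?_
        rw [Matrix.toLin'_pow, ← hfdef, hfp, Matrix.toLin'_one]
        rfl⟩ fun z hz => by
      have h1 : f = z • (1 : Module.End F (Fin d ⊕ Fin d → F)) := by
        rw [hfdef, hz, map_smul, Matrix.toLin'_one]; rfl
      have hz1 : z = 1 := by
        have h3 : z ^ p = 1 := by
          have h6 : z ^ p • (1 : Module.End F (Fin d ⊕ Fin d → F)) = 1 := by
            have h7 := hfp
            rwa [h1, _root_.smul_pow, one_pow] at h7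
          have h4 := congrFun (LinearMap.congr_fun h6 (Pi.single (Sum.inl ⟨0, by omega⟩) 1)) (Sum.inl ⟨0, by omega⟩)
          simpa using h4
        exact frobenius_inj F p (by simpa [frobenius_def] using h3)
      rw [hz1, one_smul] at h1
      obtain ⟨k, -, hk⟩ := Multiset.mem_map.mp (hparts.symm ▸ ha₀ : a₀ ∈ UnipotentType.parts dd)
      have h5 := (C.pow_eq_zero_iff (j := 1)).mp (by rw [pow_one, hN, h1, sub_self]) k
      have := (hμ _ ha₀).1
      omega
    have hu : UniIso (stdForm d F) (f - 1) := ⟨hS, fun u v => by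
      simp only [LinearMap.sub_apply, Module.End.one_apply, add_sub_cancel]
      exact iso_toLin A u v, ⟨p, hNp⟩, h2F⟩
    have hnd := nondeg_iff.mp hWnd
    have hWN : ∀ v ∈ W, (f - 1) v ∈ W := fun v hv =>
      W.sub_mem (hWinv ⟨v, hv, rfl⟩) hv
    obtain ⟨ν, hν⟩ := exists_parts hu.nil hWN
    obtain ⟨ρ, hρ⟩ := exists_parts hu.nil (hu.orth_mem hWN)
    have htop : HasParts (f - 1) ⊤ μ := by
      refine ⟨fun _ _ => trivial, _, dd, fun k => (hμ _ (hmem k)).1, hparts,
        ⟨C.map Submodule.topEquiv.symm fun v => Subtype.ext ?_⟩⟩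
      show Matrix.toLin' ((A : Matrix (Fin d ⊕ Fin d) (Fin d ⊕ Fin d) F) - 1) v = (f - 1) v
      rw [hN]
    obtain ⟨-, h2', -⟩ := split hS hnd nondeg_top le_top
    rw [top_inf_eq] at h2'
    have heq := htop.unique (h2' ▸ hν.sup hρ ((nondeg_iff_inf_orth hS).mp hnd))
    exact ⟨ν, heq ▸ Multiset.le_add_right _ _, by rw [← hν.finrank_eq, hWd],
      fun a ha => hν.parity hS hu.iso hnd ha⟩
  · intro h x ⟨z, hz⟩ _
    set f := Matrix.toLin' (x : Matrix (Fin d ⊕ Fin d) (Fin d ⊕ Fin d) F)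
    have hf := toLin_pow hz
    have hz2 := scalar_sq (by omega) (iso_toLin x) hf
    refine fix_smul (z := z) (fun h0 => by simp [h0] at hz2) ?_
    set g := z • f
    have hgp : g ^ p = 1 := by
      obtain ⟨k, hk⟩ := (Fact.out : p.Prime).odd_of_ne_two (by omega)
      rw [_root_.smul_pow, hf, smul_smul, hk, pow_succ, _root_.pow_mul, pow_two, hz2, one_pow, one_mul,
        hz2, one_smul]
    have hNp : (g - 1) ^ p = 0 := by
      have h1 := UnipotentType.one_add_pow_char p (g - 1)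
      rw [add_sub_cancel, hgp] at h1
      exact left_eq_add.mp h1
    have hu : UniIso (stdForm d F) (g - 1) := ⟨hS, fun u v => by
      simp only [g, LinearMap.sub_apply, Module.End.one_apply, add_sub_cancel, LinearMap.smul_apply,
        map_smul, smul_eq_mul, f, iso_toLin]
      rw [← mul_assoc, hz2, one_mul], ⟨p, hNp⟩, h2F⟩
    obtain ⟨μ, hμ⟩ := exists_parts hu.nil (X := ⊤) fun _ _ => trivial
    obtain ⟨ν, hνle, hνsum, hνpar⟩ := h μ (fun a ha => ⟨hμ.pos a ha,
        (hμ.le_iff p).mpr (fun v _ => by rw [hNp, LinearMap.zero_apply]) a ha⟩)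
      (fun a ha => hμ.parity hS hu.iso nondeg_top ha)
      (by rw [← hμ.finrank_eq, finrank_top, finrank_std])
    obtain ⟨W, -, hW, hWnd, hWd⟩ := hu.exists_sub _ ⊤ rfl μ hμ nondeg_top ν hνle hνpar
    refine ⟨W, hWd.trans hνsum, nondeg_iff.mpr hWnd, ?_⟩
    rintro _ ⟨v, hv, rfl⟩
    simpa using W.add_mem (hW v hv) hv

/-- Elements of prime order of PSp_n(q) with no fixed nondegenerate `m`-space. Here `T = PSp_n(q)` with `n = 2d ≥ 4`, `(n, q) ≠ (4, 2)`, realised through the symplectic matrices over the field `F` with `q` elements (preserving the standard alternating form); an element of `T` of prime order `r` is such a matrix `x` with `x^r` scalar and `x` not scalar. For `r ≠ p` let `i` be the multiplicative order of `q` modulo `r`, `c = i` for `i` even and `c = 2i` for `i` odd, and write `k = n mod c`, `ℓ = m mod i`, `ℓ' = m mod c`, `n' = ⌊n/i⌋`, `m' = ⌊m/i⌋`, `t = (r−1)/i`. Let `m` be even with `2 ≤ m < n/2` and let `r` be a prime dividing the number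 of nondegenerate `m`-spaces. Then every element of `T` of order `r` fixes a nondegenerate `m`-space if and only if one of: (i) `r = p > 2` and every partition of `n` into parts of size at most `p` in which every odd part has even multiplicity contains (as a sub-multiset) a partition of `m` in which every odd part has even multiplicity; (ii) `r = p = 2` and (`n ≡ 2 (mod 4)` or `m ≡ 0 (mod 4)`); (iii) `r = 2 ≠ p`; (iv) `r ≠ p`, `r > 2`, `c ≤ m` and `k ≥ ℓ'`. -/
theorem result {F : Type*} [Field F] [Fintype F] {p : ℕ} [Fact p.Prime] [CharP F p] {q : ℕ} (hq : Fintype.card F = q)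
    (d m : ℕ) (hd : 2 ≤ d) (hT : (d, q) ≠ (2, 2)) (hm : 2 ≤ m) (hme : Even m) (hmd : m < d)
    (r : ℕ) [Fact r.Prime]
    (hrΩ : r ∣ Nat.card {W : Submodule F (Fin d ⊕ Fin d → F) // Module.finrank F ↥W = m ∧ (∀ u ∈ W, u ≠ 0 → ∃ v ∈ W, Cfsg.sympForm d F u v ≠ 0)})
    (i c : ℕ) (hi : i = orderOf (q : ZMod r)) (hc : c = if Even i then i else 2 * i) :
    (∀ x : ↥(Matrix.symplecticGroup (Fin d) F),
      (∃ z : F, ((x ^ r : ↥(Matrix.symplecticGroup (Fin d) F)) : Matrix (Fin d ⊕ Fin d) (Fin d ⊕ Fin d) F) = z • (1 : Matrix (Fin d ⊕ Fin d) (Fin d ⊕ Fin d) F)) →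
      (∀ z : F, (x : Matrix (Fin d ⊕ Fin d) (Fin d ⊕ Fin d) F) ≠ z • (1 : Matrix (Fin d ⊕ Fin d) (Fin d ⊕ Fin d) F)) →
      ∃ W : Submodule F (Fin d ⊕ Fin d → F), Module.finrank F ↥W = m ∧ (∀ u ∈ W, u ≠ 0 → ∃ v ∈ W, Cfsg.sympForm d F u v ≠ 0) ∧
        W.map (Matrix.toLin' (x : Matrix (Fin d ⊕ Fin d) (Fin d ⊕ Fin d) F)) ≤ W) ↔
    ((r = p ∧ 2 < p ∧ (∀ μ : Multiset ℕ, (∀ a ∈ μ, 0 < a ∧ a ≤ p) → (∀ a : ℕ, Odd a → Even (μ.count a)) → μ.sum = 2 * d →
        ∃ ν : Multiset ℕ, ν ≤ μ ∧ ν.sum = m ∧ ∀ a : ℕ, Odd a → Even (ν.count a))) ∨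
     (r = p ∧ p = 2 ∧ ((2 * d) % 4 = 2 ∨ m % 4 = 0)) ∨
     (r = 2 ∧ p ≠ 2) ∨
     (r ≠ p ∧ 2 < r ∧ c ≤ m ∧ m % c ≤ (2 * d) % c)) := by
  classical
  subst hq hi hc
  by_cases hrp : r = p
  · subst hrp
    rcases eq_or_ne r 2 with rfl | hr2
    · have h2 : (2 : F) = 0 := CharP.cast_eq_zero F 2
      refine (char_two_iff h2 hd hm hme hmd).trans ⟨fun h => Or.inr (Or.inl ⟨rfl, rfl, h⟩), ?_⟩
      rintro (⟨-, h, -⟩ | ⟨-, -, h⟩ | ⟨-, h⟩ | ⟨h, -⟩)
      exacts [absurd h (lt_irrefl _), h, absurd rfl h, absurd rfl h]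
    · have hlt : 2 < r := lt_of_le_of_ne (Fact.out : r.Prime).two_le (Ne.symm hr2)
      refine (unipotent_iff r hlt hd hm hme hmd).trans ⟨fun h => Or.inl ⟨rfl, hlt, h⟩, ?_⟩
      rintro (⟨-, -, h⟩ | ⟨-, h, -⟩ | ⟨h, -⟩ | ⟨h, -⟩)
      exacts [h, absurd h hr2, absurd h hr2, absurd rfl h]
  have hrF : (r : F) ≠ 0 := fun h0 =>
    hrp ((Nat.prime_dvd_prime_iff_eq Fact.out Fact.out).mp ((CharP.cast_eq_zero_iff F p r).mp h0)).symm
  rcases eq_or_ne r 2 with rfl | hr2
  · refine iff_of_true (fun x ⟨z, hz⟩ _ => ?_) (Or.inr (Or.inr (Or.inl ⟨rfl, Ne.symm hrp⟩)))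
    obtain ⟨b, hb⟩ := hme.two_dvd
    set f := Matrix.toLin' (x : Matrix (Fin d ⊕ Fin d) (Fin d ⊕ Fin d) F)
    have hiso := iso_toLin x
    have h2 : (2 : F) ≠ 0 := by exact_mod_cast hrF
    obtain ⟨W, -, hW, hWnd, hWd⟩ := exists_inv_of_even (isSympForm_stdForm d F) h2 hiso
      (injective_of_iso hiso) (z := z) (fun v => by
        have h1 := LinearMap.congr_fun (toLin_pow hz) v
        rwa [pow_two, Module.End.mul_apply] at h1)
      b ⊤ (Inv.top f) nondeg_top (by rw [finrank_top, finrank_std]; omega)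
    exact ⟨W, by omega, nondeg_iff.mpr hWnd, hW⟩
  · have hlt : 2 < r := lt_of_le_of_ne (Fact.out : r.Prime).two_le (Ne.symm hr2)
    refine (semisimple_iff hr2 hrF hd hm hme hmd hrΩ).trans
      ⟨fun h => Or.inr (Or.inr (Or.inr ⟨hrp, hlt, h⟩)), ?_⟩
    rintro (⟨h, -⟩ | ⟨h, -⟩ | ⟨h, -⟩ | ⟨-, -, h⟩)
    exacts [absurd h hrp, absurd h hrp, absurd h hr2, h]

end Cfsg.Agent.S5956
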