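import Cfsg.Statements.S5957
import Cfsg.Agent.Lib.Elusive.MonomialBasis

set_option autoImplicit false
open scoped MatrixGroups
open Cfsg

namespace Cfsg.Agent.S5957

/-- Involutions of PSL_n(q) and imprimitive subgroups. Here `T = PSL_n(F)` for a field `F` with `q = p^f` elements (`n ≥ 2`, `(n, q) ≠ (2, 2), (2, 3)`), `n = a·t` with `t ≥ 2`, and Ω is the set of direct-sum decompositions of `F^n` into `t` subspaces of dimension `a` (unordered; their number is the number of ordered ones divided by `t!`), whose stabilizers are the imprimitive subgroups of type GL_a(q) ≀ S_t (maximal except in some small cases; maximality is not assumed); an element of `T` of prime order `r` (a matrix `x` of determinant 1 with `x^r` scalar, `x` not scalar) fixes a point of Ω when it permutes the summands of some such decomposition. If the number of such decompositions is even, then every involution of `T` stabilizes one of them (the action is 2-elusive). -/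
theorem result {F : Type*} [Field F] [Fintype F] {p : ℕ} [Fact p.Prime] [CharP F p] {q : ℕ} (hq : Fintype.card F = q)
    (n a t : ℕ) (hn : 2 ≤ n) (hT : (n, q) ≠ (2, 2) ∧ (n, q) ≠ (2, 3)) (hat : n = a * t) (ha : 1 ≤ a) (ht : 2 ≤ t)
    (hΩ : 2 ∣ Nat.card {D : Fin t → Submodule F (Fin n → F) // Cfsg.Geo.IsMDecomposition a D} / Nat.factorial t)
    (x : Matrix.SpecialLinearGroup (Fin n) F)
    (hx1 : ∃ z : F, ((x ^ 2 : Matrix.SpecialLinearGroup (Fin n) F) : Matrix (Fin n) (Fin n) F) = z • (1 : Matrix (Fin n) (Fin n) F))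
    (hx2 : ∀ z : F, (x : Matrix (Fin n) (Fin n) F) ≠ z • (1 : Matrix (Fin n) (Fin n) F)) :
    ∃ D : Fin t → Submodule F (Fin n → F), Cfsg.Geo.IsMDecomposition a D ∧
        ∃ σ : Equiv.Perm (Fin t), ∀ j, (D j).map (Matrix.toLin' (x : Matrix (Fin n) (Fin n) F)) = D (σ j) := by
  classical
  obtain ⟨z, hz⟩ := hx1
  set f : Module.End F (Fin n → F) := Matrix.toLin' (x : Matrix (Fin n) (Fin n) F) with hfdef
  have hff : f * f = z • 1 := by
    have h := congrArg Matrix.toLin' hz
    rw [Matrix.SpecialLinearGroup.coe_pow, Matrix.toLin'_pow, map_smul, Matrix.toLin'_one] at h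
    rw [← pow_two]
    exact h
  have hz0 : z ≠ 0 := by
    rintro rfl
    have h := congrArg LinearMap.det hff
    rw [map_mul, hfdef, LinearMap.det_toLin', x.2, one_mul, LinearMap.det_smul,
      Module.finrank_fin_fun, zero_pow (by omega), zero_mul] at h
    exact one_ne_zero h
  obtain ⟨ι, b, π, hπ, hfb⟩ := Lib.Elusive.MonomialBasis.exists_of_sq hz0 hff
  haveI : Fintype ι := FiniteDimensional.fintypeBasisIndex b
  have hcard : Fintype.card ι = a * t := by
    rw [← Module.finrank_eq_card_basis b, Module.finrank_fin_fun, hat]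
  obtain ⟨ρ, hρ, hρb, hρf⟩ := Lib.Elusive.MonomialBasis.exists_block_involution a t
    (Nat.card {j // π j = j})
    (by rw [← hcard, ← Nat.card_eq_fintype_card]; exact Nat.card_le_card_of_injective _ Subtype.val_injective)
    (by rw [Lib.Elusive.MonomialBasis.card_mod_two π hπ, hcard])
  obtain ⟨e, he⟩ := Lib.Elusive.MonomialBasis.isConj_of_card_fixed ρ π hρ hπ
    (by rw [hcard, Fintype.card_prod, Fintype.card_fin, Fintype.card_fin, mul_comm]) hρf
  let B : Module.Basis (Fin t × Fin a) F (Fin n → F) := b.reindex e.symm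
  have hB : ∀ y, B y = b (e y) := fun y => by simp [B]
  let D : Fin t → Submodule F (Fin n → F) := fun j =>
    Submodule.span F (Set.range fun i : Fin a => B (j, i))
  have hD : Cfsg.Geo.IsMDecomposition a D := by
    refine ⟨ht, ha, fun j => ?_, ?_, ?_⟩
    · show Module.finrank F (Submodule.span F (Set.range (B ∘ Prod.mk j))) = a
      rw [finrank_span_eq_card (B.linearIndependent.comp _ (Prod.mk_right_injective j)),
        Fintype.card_fin]
    · rw [iSupIndep_def]
      intro j
      have h := B.linearIndependent.disjoint_span_image (s := {y | y.1 = j}) (t := {y | y.1 ≠ j})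
        (Set.disjoint_left.mpr fun y h1 h2 => h2 h1)
      refine h.mono (Submodule.span_mono ?_) (iSup₂_le fun k hk => Submodule.span_mono ?_)
      · rintro _ ⟨i, rfl⟩; exact ⟨(j, i), rfl, rfl⟩
      · rintro _ ⟨i, rfl⟩; exact ⟨(k, i), hk, rfl⟩
    · rw [eq_top_iff, ← B.span_eq, Submodule.span_le]
      rintro _ ⟨⟨j, i⟩, rfl⟩
      exact Submodule.mem_iSup_of_mem j (Submodule.subset_span ⟨i, rfl⟩)
  let σ : Equiv.Perm (Fin t) := Function.Involutive.toPerm (fun j => (ρ (j, ⟨0, ha⟩)).1) (fun j => by
    show (ρ ((ρ (j, ⟨0, ha⟩)).1, ⟨0, ha⟩)).1 = j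
    rw [hρb ((ρ (j, ⟨0, ha⟩)).1, ⟨0, ha⟩) (ρ (j, ⟨0, ha⟩)) rfl, ← Equiv.Perm.mul_apply, hρ]
    rfl)
  refine ⟨D, hD, σ, fun j => ?_⟩
  have hle : ∀ k, (D k).map f ≤ D (σ k) := by
    intro k
    rw [Submodule.map_span, Submodule.span_le]
    rintro _ ⟨_, ⟨i, rfl⟩, rfl⟩
    obtain ⟨c, -, hc⟩ := hfb (e (k, i))
    show f (B (k, i)) ∈ D (σ k)
    rw [hB, hc, he, ← hB]
    refine Submodule.smul_mem _ _ (Submodule.subset_span ⟨(ρ (k, i)).2, ?_⟩)
    show B (σ k, (ρ (k, i)).2) = B (ρ (k, i))
    rw [show σ k = (ρ (k, i)).1 from hρb _ _ rfl]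
  have hinj : Function.Injective f := by
    intro u v huv
    have := congrArg f huv
    rw [← Module.End.mul_apply, ← Module.End.mul_apply, hff] at this
    exact smul_right_injective _ hz0 this
  refine Submodule.eq_of_le_of_finrank_le (hle j) ?_
  rw [← (Submodule.equivMapOfInjective f hinj (D j)).finrank_eq, hD.finrank_eq, hD.finrank_eq]

end Cfsg.Agent.S5957
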