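import Cfsg.Statements.S5958
import Cfsg.Agent.Lib.Elusive.Linear
import Cfsg.Agent.Lib.Elusive.Decomp
-- import your own Cfsg.Agent.* helpers here

set_option autoImplicit false
open scoped MatrixGroups
open Cfsg

namespace Cfsg.Agent.S5958

open Module Cfsg.Agent.Lib.Elusive Cfsg.Agent.Lib.Elusive.Decomp

variable {F : Type*} [Field F] {n a t r : ℕ}

/-- `f` permutes the blocks of some decomposition. -/
def Dec (a t : ℕ) (f : Module.End F (Fin n → F)) : Prop :=
  ∃ D : Fin t → Submodule F (Fin n → F), Cfsg.Geo.IsMDecomposition a D ∧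
    ∃ σ : Equiv.Perm (Fin t), ∀ j, (D j).map f = D (σ j)

theorem exists_bounded_sum : ∀ (t A u : ℕ), u ≤ t * A → ∃ g : Fin t → ℕ, (∀ i, g i ≤ A) ∧ ∑ i, g i = u := by
  intro t
  induction t with
  | zero => intro A u hu; exact ⟨fun i => i.elim0, fun i => i.elim0, by simp at hu; simp [hu]⟩
  | succ t ih =>
    intro A u hu
    rw [Nat.add_mul, one_mul] at hu
    obtain ⟨g, hg, hs⟩ := ih A (u - min u A) (by omega)
    refine ⟨Fin.cons (min u A) g, fun i => Fin.cases (by simp) (fun j => by simpa using hg j) i, ?_⟩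
    rw [Fin.sum_univ_succ]
    simp [hs]

/-- Blocks all of which are invariant. -/
theorem dec_fixed {f : Module.End F (Fin n → F)} (hinj : Function.Injective f) (ht : 2 ≤ t) (ha : 0 < a)
    (hn : n = a * t) {μ : F} {c : ℕ} (hu : IsUniform f μ c) {e s : ℕ} (hV : HasType f μ c ⊤ e s)
    (hle : t * (a % c) ≤ e) : Dec a t f := by
  have hes := hV.2.2
  rw [finrank_top, finrank_fin_fun] at hes
  obtain ⟨m₀, hm₀⟩ : ∃ m₀, m₀ = a / c := ⟨_, rfl⟩
  have hac : a = a % c + m₀ * c := by rw [hm₀, mul_comm]; exact (Nat.mod_add_div a c).symm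
  have htot : n = t * (a % c) + t * m₀ * c := by
    rw [mul_assoc, ← Nat.mul_add, ← hac, hn, mul_comm]
  have hsle : s ≤ t * m₀ := by
    by_contra h
    have h1 := Nat.mul_le_mul_right c (show t * m₀ + 1 ≤ s by omega)
    rw [Nat.add_mul, one_mul] at h1
    have := hu.pos
    omega
  obtain ⟨g, hg, hgs⟩ := exists_bounded_sum t m₀ s hsle
  have hsum : ∑ j, (a % c + (m₀ - g j) * c) = e := by
    have h1 : ∀ j, (a % c + (m₀ - g j) * c) + g j * c = a := fun j => by
      rw [add_assoc, ← Nat.add_mul, Nat.sub_add_cancel (hg j), ← hac]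
    have h2 := Finset.sum_congr (rfl : (Finset.univ : Finset (Fin t)) = _) fun j _ => h1 j
    rw [Finset.sum_add_distrib, ← Finset.sum_mul, hgs, Finset.sum_const, Finset.card_univ,
      Fintype.card_fin, smul_eq_mul, mul_comm t a, ← hn] at h2
    omega
  obtain ⟨D, hD, hDs⟩ := exists_parts hu t (fun j => a % c + (m₀ - g j) * c) g ⊤ e s hV hsum hgs
  exact decomp_of_invariant hinj ht ha (by rw [Fintype.card_fin, hn]) D
    (fun j => by rw [(hD j).2.2, add_assoc, ← Nat.add_mul, Nat.sub_add_cancel (hg j), ← hac])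
    (fun j => (hD j).1) hDs

/-- An element without eigenvectors whose `r`-th power is scalar. -/
theorem dec_nonsplit [hr : Fact r.Prime] {f : Module.End F (Fin n → F)} (hinj : Function.Injective f)
    (ht : 2 ≤ t) (ha : 0 < a) (hn : n = a * t) {z : F} (hf : f ^ r = z • 1) {μ : F}
    (hu : IsUniform f μ r) (hE : End.eigenspace f μ = ⊥) {s : ℕ} (hs : n = r * s) : Dec a t f := by
  classical
  have hV : HasType f μ r ⊤ 0 s := ⟨Inv.top f, by rw [top_inf_eq, hE, finrank_bot],
    by rw [finrank_top, finrank_fin_fun, zero_add, hs, mul_comm]⟩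
  obtain ⟨P, hP, hPs⟩ := exists_parts hu s (fun _ => 0) (fun _ => 1) ⊤ 0 s hV (by simp) (by simp)
  choose v hv using fun g => exists_generator zero_le_one hu (hP g) hr.out.pos hf
  let B : Fin s × Fin r → (Fin n → F) := fun y => (f ^ (y.2 : ℕ)) (v y.1)
  have hspan : (⊤ : Submodule F (Fin n → F)) ≤ Submodule.span F (Set.range B) := by
    rw [← hPs]
    exact iSup_le fun g => (hv g).trans
      (Submodule.span_mono (Set.range_subset_iff.mpr fun i => ⟨(g, i), rfl⟩))
  have hstep : ∀ g (i : Fin r), ∃ k : Fin r, f (B (g, i)) ∈ Submodule.span F {B (g, k)} ∧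
      (k : ℕ) = ((i : ℕ) + 1) % r := by
    intro g i
    refine ⟨⟨((i : ℕ) + 1) % r, Nat.mod_lt _ hr.out.pos⟩, ?_, rfl⟩
    show f ((f ^ (i : ℕ)) (v g)) ∈ Submodule.span F {(f ^ (((i : ℕ) + 1) % r)) (v g)}
    rw [← Module.End.mul_apply, ← pow_succ']
    by_cases h : (i : ℕ) + 1 < r
    · rw [Nat.mod_eq_of_lt h]
      exact Submodule.mem_span_singleton_self _
    · rw [show (i : ℕ) + 1 = r by omega, Nat.mod_self, hf, pow_zero]
      exact Submodule.mem_span_singleton.mpr ⟨z, rfl⟩
  by_cases hra : r ∣ a
  · obtain ⟨b, rfl⟩ := hra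
    have hsb : s = t * b := Nat.eq_of_mul_eq_mul_left hr.out.pos (by rw [← hs, hn]; ring)
    subst hsb
    let e : Fin t × Fin (r * b) ≃ Fin (t * b) × Fin r :=
      (Equiv.prodCongr (Equiv.refl _) (finProdFinEquiv.symm.trans (Equiv.prodComm _ _))).trans
        ((Equiv.prodAssoc _ _ _).symm.trans (Equiv.prodCongr finProdFinEquiv (Equiv.refl _)))
    refine decomp_of_span hinj ht ha (by rw [Fintype.card_fin, hn]) (B ∘ e)
      (by rw [EquivLike.range_comp]; exact hspan) 1 fun j i => ?_
    obtain ⟨⟨k, m⟩, rfl⟩ := finProdFinEquiv.surjective i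
    obtain ⟨k', hk', -⟩ := hstep (finProdFinEquiv (j, m)) k
    refine Submodule.span_mono ?_ (show f ((B ∘ e) (j, finProdFinEquiv (k, m))) ∈
      Submodule.span F {B (finProdFinEquiv (j, m), k')} by
        simpa only [Function.comp_apply, e, Equiv.trans_apply, Equiv.prodCongr_apply, Prod.map_apply,
          Equiv.refl_apply, Equiv.symm_apply_apply, Equiv.prodComm_apply, Prod.swap_prod_mk,
          Equiv.prodAssoc_symm_apply] using hk')
    rw [Set.singleton_subset_iff]
    exact ⟨finProdFinEquiv (k', m), by simp [e]⟩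
  · obtain ⟨h, rfl⟩ : r ∣ t :=
      (hr.out.dvd_mul.mp (hn ▸ Dvd.intro s hs.symm : r ∣ a * t)).resolve_left hra
    have hsb : s = h * a := Nat.eq_of_mul_eq_mul_left hr.out.pos (by rw [← hs, hn]; ring)
    subst hsb
    let e : Fin (r * h) × Fin a ≃ Fin (h * a) × Fin r :=
      (Equiv.prodCongr finProdFinEquiv.symm (Equiv.refl _)).trans ((Equiv.prodAssoc _ _ _).trans
        ((Equiv.prodComm _ _).trans (Equiv.prodCongr finProdFinEquiv (Equiv.refl _))))
    haveI : NeZero r := ⟨hr.out.ne_zero⟩
    let σ : Equiv.Perm (Fin (r * h)) :=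
      finProdFinEquiv.permCongr (Equiv.prodCongr (Equiv.addRight (1 : Fin r)) (Equiv.refl _))
    refine decomp_of_span hinj ht ha (by rw [Fintype.card_fin, hn]) (B ∘ e)
      (by rw [EquivLike.range_comp]; exact hspan) σ fun j i => ?_
    obtain ⟨⟨k, g⟩, rfl⟩ := finProdFinEquiv.surjective j
    obtain ⟨k', hk', hk'v⟩ := hstep (finProdFinEquiv (g, i)) k
    refine Submodule.span_mono ?_ (show f ((B ∘ e) (finProdFinEquiv (k, g), i)) ∈
      Submodule.span F {B (finProdFinEquiv (g, i), k')} by
        simpa only [Function.comp_apply, e, Equiv.trans_apply, Equiv.prodCongr_apply, Prod.map_apply,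
          Equiv.refl_apply, Equiv.symm_apply_apply, Equiv.prodComm_apply, Prod.swap_prod_mk,
          Equiv.prodAssoc_apply] using hk')
    rw [Set.singleton_subset_iff]
    refine ⟨i, ?_⟩
    have hkk : k' = k + 1 := by
      apply Fin.ext
      rw [hk'v, Fin.val_add, Fin.val_one', Nat.add_mod_mod]
    simp [e, σ, Equiv.permCongr_apply, hkk]

/-- Single lines, some of them permuted in cycles of length `r`. -/
theorem dec_lines [hr : Fact r.Prime] {f : Module.End F (Fin n → F)} (hinj : Function.Injective f)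
    (hn : 2 ≤ n) {z : F} (hf : f ^ r = z • 1) {μ : F} (hu : IsUniform f μ (r - 1))
    {e s : ℕ} (hV : HasType f μ (r - 1) ⊤ e s) (hse : s ≤ e) : Dec 1 n f := by
  classical
  haveI : NeZero r := ⟨hr.out.ne_zero⟩
  obtain ⟨e', rfl⟩ := Nat.exists_eq_add_of_le hse
  obtain ⟨P, hP, hPs⟩ := exists_parts hu (e' + s) (fun _ => 1)
    (Fin.addCases (fun _ => 0) (fun _ => 1)) ⊤ (s + e') s hV (by simp [add_comm])
    (by rw [Fin.sum_univ_add]; simp)
  choose v hv using fun g : Fin s => exists_generator le_rfl hu
    (show HasType f μ (r - 1) (P (Fin.natAdd e' g)) 1 1 by simpa using hP (Fin.natAdd e' g)) hr.out.pos hf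
  choose w hw using fun g : Fin e' => finrank_eq_one_iff'.mp
    (show finrank F (P (Fin.castAdd s g)) = 1 by simpa using (hP (Fin.castAdd s g)).2.2)
  let B : Fin e' ⊕ Fin s × Fin r → (Fin n → F) :=
    Sum.elim (fun g => (w g : Fin n → F)) fun y => (f ^ (y.2 : ℕ)) (v y.1)
  have hspan : (⊤ : Submodule F (Fin n → F)) ≤ Submodule.span F (Set.range B) := by
    rw [← hPs]
    refine iSup_le fun g => ?_
    induction g using Fin.addCases with
    | left g =>
      intro x hx
      obtain ⟨c, hc⟩ := (hw g).2 ⟨x, hx⟩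
      have : c • (w g : Fin n → F) = x := congrArg Subtype.val hc
      exact this ▸ Submodule.smul_mem _ _ (Submodule.subset_span ⟨Sum.inl g, rfl⟩)
    | right g =>
      exact (hv g).trans (Submodule.span_mono (Set.range_subset_iff.mpr fun i => ⟨Sum.inr (g, i), rfl⟩))
  have hcard : Fintype.card (Fin n × Fin 1) = Fintype.card (Fin e' ⊕ Fin s × Fin r) := by
    have h1 := hV.2.2
    rw [finrank_top, finrank_fin_fun] at h1
    obtain ⟨r', rfl⟩ : ∃ r', r = r' + 1 := ⟨r - 1, (Nat.sub_add_cancel hr.out.pos).symm⟩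
    simp only [Nat.add_sub_cancel] at h1
    simp [h1, Nat.mul_add]
    ring
  rw [Fintype.card_prod, Fintype.card_fin, Fintype.card_fin, mul_one] at hcard
  let ε : Fin n ≃ Fin e' ⊕ Fin s × Fin r :=
    (Fintype.equivFinOfCardEq hcard.symm).symm
  let π : Equiv.Perm (Fin e' ⊕ Fin s × Fin r) :=
    Equiv.sumCongr (Equiv.refl _) (Equiv.prodCongr (Equiv.refl _) (Equiv.addRight (1 : Fin r)))
  refine decomp_of_span hinj hn one_pos (by simp) (fun y : Fin n × Fin 1 => B (ε y.1))
    ?_ (ε.symm.permCongr π) fun j i => ?_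
  · refine hspan.trans (Submodule.span_mono ?_)
    rintro _ ⟨b, rfl⟩
    exact ⟨(ε.symm b, 0), by simp⟩
  refine Submodule.span_mono (s := {B (ε (ε.symm.permCongr π j))})
    ?_ ?_
  · rw [Set.singleton_subset_iff]
    exact ⟨0, rfl⟩
  show f (B (ε j)) ∈ Submodule.span F {B (ε (ε.symm (π (ε j))))}
  rw [Equiv.apply_symm_apply]
  generalize ε j = b
  rcases b with g | ⟨g, k⟩
  · obtain ⟨c, hc⟩ := (hw g).2 ⟨f (w g), (hP (Fin.castAdd s g)).1.mem (w g).2⟩
    exact Submodule.mem_span_singleton.mpr ⟨c, congrArg Subtype.val hc⟩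
  · show f ((f ^ (k : ℕ)) (v g)) ∈ Submodule.span F {(f ^ ((k + 1 : Fin r) : ℕ)) (v g)}
    rw [← Module.End.mul_apply, ← pow_succ', Fin.val_add, Fin.val_one', Nat.add_mod_mod]
    by_cases h : (k : ℕ) + 1 < r
    · rw [Nat.mod_eq_of_lt h]
      exact Submodule.mem_span_singleton_self _
    · rw [show (k : ℕ) + 1 = r by omega, Nat.mod_self, hf, pow_zero]
      exact Submodule.mem_span_singleton.mpr ⟨z, rfl⟩

section Need

variable {D : Fin t → Submodule F (Fin n → F)} {σ : Equiv.Perm (Fin t)}
  {f : Module.End F (Fin n → F)}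

theorem iterate_r (hD : Cfsg.Geo.IsMDecomposition a D) (hσ : ∀ j, (D j).map f = D (σ j))
    (hfr : f ^ r = 1) (j : Fin t) : σ^[r] j = j := by
  have hne : ∀ j, D j ≠ ⊥ := fun j hj => by
    have h1 := hD.finrank_eq j
    rw [hj, finrank_bot] at h1
    exact absurd h1 hD.pos.ne
  have key : ∀ i j, (D j).map (f ^ i) = D (σ^[i] j) := by
    intro i
    induction i with
    | zero => intro j; simp [Module.End.one_eq_id]
    | succ i ih => intro j; rw [pow_succ', Module.End.mul_eq_comp, Submodule.map_comp, ih, hσ,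
        Function.iterate_succ_apply']
  refine hD.indep.injective hne ?_
  rw [← key, hfr, Module.End.one_eq_id, Submodule.map_id]

variable [hr : Fact r.Prime]

theorem iterate_injOn (hper : ∀ j, σ^[r] j = j) {j : Fin t} (hj : σ j ≠ j) :
    Set.InjOn (fun i => σ^[i] j) (Set.Iio r) := by
  have h1 : Function.minimalPeriod σ j = r := by
    rcases (Nat.dvd_prime hr.out).mp (Function.IsPeriodicPt.minimalPeriod_dvd (hper j)) with h | h
    · exact absurd (Function.minimalPeriod_eq_one_iff_isFixedPt.mp h) hj
    · exact h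
  exact h1 ▸ Function.iterate_injOn_Iio_minimalPeriod

/-- A moved block: its size is at most the eigenspace, and `r - 1` copies avoid it. -/
theorem moved_bounds (hD : Cfsg.Geo.IsMDecomposition a D) (hσ : ∀ j, (D j).map f = D (σ j))
    (hfr : f ^ r = 1) {j : Fin t} (hj : σ j ≠ j) :
    a ≤ finrank F (End.eigenspace f (1 : F)) ∧
      a * (r - 1) + finrank F (End.eigenspace f (1 : F)) ≤ n := by
  classical
  have hinj := iterate_injOn (σ := σ) (iterate_r hD hσ hfr) hj
  constructor
  · let L : D j →ₗ[F] End.eigenspace f (1 : F) :=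
      LinearMap.codRestrict _ ((avg f 1 r).comp (D j).subtype)
        (fun u => avg_mem one_ne_zero (by rw [one_pow, one_smul, hfr]) _)
    rw [← hD.finrank_eq j]
    refine LinearMap.finrank_le_finrank_of_injective (f := L) ((injective_iff_map_eq_zero L).mpr fun u hu => ?_)
    have h0 : avg f 1 r (u : Fin n → F) = 0 := congrArg Subtype.val hu
    rw [avg_apply] at h0
    have h1 := eq_zero_of_sum_mem hD.indep (Finset.range r) (fun i => σ^[i] j)
      (fun i => (1 : F)⁻¹ ^ i • (f ^ i) (u : Fin n → F)) (fun i _ => Submodule.smul_mem _ _ (pow_mem hσ i u.2))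
      (i₀ := 0) (Finset.mem_range.mpr hr.out.pos)
      (fun i hi h => hinj (Finset.mem_range.mp hi) hr.out.pos h) h0
    exact Subtype.ext (by simpa using h1)
  · let Z : Fin (r - 1) → Submodule F (Fin n → F) := fun i => D (σ^[(i : ℕ)] j)
    let Φ : ((i : Fin (r - 1)) → Z i) →ₗ[F] (Fin n → F) :=
      ∑ i, (Z i).subtype.comp (LinearMap.proj i)
    have hΦ : ∀ u, Φ u = ∑ i, (u i : Fin n → F) := fun u => by simp [Φ]
    have hker : LinearMap.ker Φ = ⊥ := by
      rw [LinearMap.ker_eq_bot']
      intro u hu
      rw [hΦ] at hu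
      funext i
      refine Subtype.ext (eq_zero_of_sum_mem hD.indep Finset.univ
        (fun i : Fin (r - 1) => σ^[(i : ℕ)] j) (fun i => (u i : Fin n → F)) (fun i _ => (u i).2)
        (Finset.mem_univ i) (fun k _ h => Fin.ext (hinj (show (k : ℕ) < r by omega) (show (i : ℕ) < r by omega) h)) hu)
    have hdisj : LinearMap.range Φ ⊓ End.eigenspace f (1 : F) = ⊥ := by
      rw [eq_bot_iff]
      rintro x ⟨⟨u, rfl⟩, hx⟩
      rw [SetLike.mem_coe, End.mem_eigenspace_iff, one_smul, hΦ, map_sum] at hx
      -- the components shift by one, so all of them vanish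
      have hzero : ∀ k, ∀ i : Fin (r - 1), (i : ℕ) + k + 1 = r - 1 → (u i : Fin n → F) = 0 := by
        intro k
        induction k using Nat.strong_induction_on with
        | _ k ih =>
          intro i hi
          have hs : ∑ y : Fin (r - 1) ⊕ Fin (r - 1), Sum.elim (fun l => f (u l : Fin n → F))
              (fun l => - (u l : Fin n → F)) y = 0 := by
            rw [Fintype.sum_sum_type]
            simp [hx]
          by_contra hne
          have hval : ∀ l : Fin (r - 1), Sum.elim (fun l => f (u l : Fin n → F))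
              (fun l => - (u l : Fin n → F)) (Sum.inl l) ∈ D (σ^[(l : ℕ) + 1] j) := fun l => by
            rw [Function.iterate_succ_apply', ← hσ]
            exact Submodule.mem_map_of_mem (u l).2
          -- drop the vanished terms
          rw [← Finset.sum_filter_of_ne (p := fun y => Sum.elim (fun _ => True)
            (fun l : Fin (r - 1) => (l : ℕ) ≤ (i : ℕ)) y) (fun y _ hy => by
              rcases y with l | l
              · trivial
              · by_contra hl
                simp only [Sum.elim_inr, not_le] at hl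
                exact hy (by simp [ih (r - 1 - 1 - (l : ℕ)) (by omega) l (by omega)]))] at hs
          have h2 := eq_zero_of_sum_mem hD.indep _
            (Sum.elim (fun l : Fin (r - 1) => σ^[(l : ℕ) + 1] j) (fun l : Fin (r - 1) => σ^[(l : ℕ)] j))
            _ (fun y _ => by
              rcases y with l | l
              exacts [hval l, Submodule.neg_mem _ (u l).2])
            (i₀ := Sum.inl i) (by simp) (fun y hy h => by
              rcases y with l | l
              · have := hinj (show (l : ℕ) + 1 < r by omega) (show (i : ℕ) + 1 < r by omega) h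
                exact congrArg Sum.inl (Fin.ext (by omega))
              · exfalso
                have hl : (l : ℕ) ≤ i := (Finset.mem_filter.mp hy).2
                have := hinj (show (l : ℕ) < r by omega) (show (i : ℕ) + 1 < r by omega) h
                omega) hs
          refine hne ?_
          have hi' : Function.Injective f := fun x y hxy => by
            have := congrArg (f ^ (r - 1)) hxy
            rwa [← Module.End.mul_apply, ← Module.End.mul_apply, ← pow_succ,
              Nat.sub_add_cancel hr.out.pos, hfr] at this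
          exact hi' (by simpa using h2)
      rw [Submodule.mem_bot, hΦ]
      exact Finset.sum_eq_zero fun i _ => hzero (r - 1 - 1 - (i : ℕ)) i (by omega)
    have h1 := Submodule.finrank_sup_add_finrank_inf_eq (LinearMap.range Φ) (End.eigenspace f (1 : F))
    have h2 := Submodule.finrank_le (LinearMap.range Φ ⊔ End.eigenspace f (1 : F))
    rw [hdisj, finrank_bot, LinearMap.finrank_range_of_inj (LinearMap.ker_eq_bot.mp hker), finrank_pi_fintype] at h1
    simp only [Z, hD.finrank_eq, Finset.sum_const, Finset.card_univ, Fintype.card_fin, smul_eq_mul] at h1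
    rw [finrank_fin_fun] at h2
    rw [mul_comm]
    omega

/-- All blocks invariant. -/
theorem fixed_bound {c : ℕ} (hu : IsUniform f 1 c) (hD : Cfsg.Geo.IsMDecomposition a D)
    (hσ : ∀ j, (D j).map f = D (σ j)) (hfix : ∀ j, σ j = j) :
    t * (a % c) ≤ finrank F (End.eigenspace f (1 : F)) := by
  classical
  let Z : Fin t → Submodule F (Fin n → F) := fun j => D j ⊓ End.eigenspace f (1 : F)
  have hZ : ∀ j, a % c ≤ finrank F (Z j) := by
    intro j
    obtain ⟨k, hk⟩ := hu.exists_type (show Inv f (D j) by rw [Lib.Elusive.Inv, hσ, hfix])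
    have h1 := hk.2.2
    rw [hD.finrank_eq j] at h1
    rw [h1, Nat.add_mul_mod_self_right]
    exact Nat.mod_le _ _
  let Φ : ((j : Fin t) → Z j) →ₗ[F] End.eigenspace f (1 : F) :=
    ∑ j, (Submodule.inclusion inf_le_right).comp (LinearMap.proj j)
  have hΦ : Function.Injective Φ := by
    rw [injective_iff_map_eq_zero]
    intro u hu0
    have h1 : ∑ j, (u j : Fin n → F) = 0 := by simpa [Φ] using congrArg Subtype.val hu0
    funext j
    exact Subtype.ext (eq_zero_of_sum_mem hD.indep Finset.univ (fun j => j) (fun j => (u j : Fin n → F))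
      (fun j _ => (u j).2.1) (Finset.mem_univ j) (fun _ _ h => h) h1)
  have h2 := LinearMap.finrank_le_finrank_of_injective hΦ
  rw [finrank_pi_fintype] at h2
  have h3 := Finset.sum_le_sum (s := (Finset.univ : Finset (Fin t))) fun j _ => hZ j
  rw [Finset.sum_const, Finset.card_univ, Fintype.card_fin, smul_eq_mul] at h3
  omega

/-- Lines: one eigenvector for each cycle. -/
theorem lines_bound {c : ℕ} (hc : 2 ≤ c) (hu : IsUniform f 1 c) (hD : Cfsg.Geo.IsMDecomposition 1 D)
    (hσ : ∀ j, (D j).map f = D (σ j)) (hfr : f ^ r = 1) (hrF : (r : F) ≠ 0) :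
    t ≤ finrank F (End.eigenspace f (1 : F)) * r := by
  classical
  have hper := iterate_r hD hσ hfr
  let R : Finset (Fin t) := Finset.univ.filter fun j => ∀ i, j ≤ σ^[i] j
  have hclosed : ∀ i (j : Fin t), σ^[i] j = σ^[i % r] j := fun i j => by
    conv_lhs => rw [← Nat.mod_add_div i r, Function.iterate_add_apply, Function.iterate_mul,
      Function.iterate_fixed (hper j)]
  have hmin : ∀ {i l : ℕ} {j j' : Fin t}, j ∈ R → j' ∈ R → σ^[i] j = σ^[l] j' → j = j' := by
    intro i l j j' hj hj' h
    have h1 : ∀ i l : ℕ, ∀ j j' : Fin t, σ^[i] j = σ^[l] j' → ∃ m, σ^[m] j = j' := by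
      intro i l j j' h
      refine ⟨(r - l % r) + i, ?_⟩
      rw [Function.iterate_add_apply, h, ← Function.iterate_add_apply, hclosed]
      have := Nat.mod_lt l hr.out.pos
      rw [show ((r - l % r) + l) % r = 0 by
        rw [show (r - l % r) + l = r + r * (l / r) by have := Nat.mod_add_div l r; omega,
          Nat.add_mul_mod_self_left, Nat.mod_self]]
      rfl
    obtain ⟨m, hm⟩ := h1 i l j j' h
    obtain ⟨m', hm'⟩ := h1 l i j' j h.symm
    exact le_antisymm (hm ▸ (Finset.mem_filter.mp hj).2 m) (hm' ▸ (Finset.mem_filter.mp hj').2 m')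
  have hcover : t ≤ R.card * r := by
    have h1 : (Finset.univ : Finset (Fin t)) ⊆ (R ×ˢ Finset.range r).image fun y => σ^[y.2] y.1 := by
      intro k _
      obtain ⟨m, hm, hmin'⟩ := Finset.exists_min_image (Finset.range r) (fun i => σ^[i] k)
        ⟨0, Finset.mem_range.mpr hr.out.pos⟩
      refine Finset.mem_image.mpr ⟨(σ^[m] k, (r - m) % r), Finset.mem_product.mpr
        ⟨Finset.mem_filter.mpr ⟨Finset.mem_univ _, fun i => ?_⟩, Finset.mem_range.mpr (Nat.mod_lt _ hr.out.pos)⟩, ?_⟩
      · rw [← Function.iterate_add_apply, hclosed (i + m)]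
        exact hmin' _ (Finset.mem_range.mpr (Nat.mod_lt _ hr.out.pos))
      · rw [Finset.mem_range] at hm
        show σ^[(r - m) % r] (σ^[m] k) = k
        rw [← hclosed, ← Function.iterate_add_apply, Nat.sub_add_cancel hm.le, hper]
    have h2 := (Finset.card_le_card h1).trans Finset.card_image_le
    rwa [Finset.card_product, Finset.card_range, Finset.card_univ, Fintype.card_fin] at h2
  have hne : ∀ j, D j ≠ ⊥ := fun j hj => by
    have h1 := hD.finrank_eq j
    rw [hj, finrank_bot] at h1
    omega
  choose u hu1 hu0 using fun j => Submodule.exists_mem_ne_zero_of_ne_bot (hne j)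
  let L : (R → F) →ₗ[F] End.eigenspace f (1 : F) := Fintype.linearCombination F
    fun j : R => (⟨avg f 1 r (u j), avg_mem one_ne_zero (by rw [one_pow, one_smul, hfr]) _⟩ :
      End.eigenspace f (1 : F))
  have hL : Function.Injective L := by
    rw [injective_iff_map_eq_zero]
    intro g hg
    funext j₀
    have h1 : ∑ j : R, g j • avg f 1 r (u (j : Fin t)) = 0 := by
      simpa [L, Fintype.linearCombination_apply] using congrArg Subtype.val hg
    simp only [avg_apply, inv_one, one_pow, one_smul, Finset.smul_sum] at h1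
    rw [← Finset.sum_product'] at h1
    by_cases hj : σ (j₀ : Fin t) = j₀
    · -- a fixed line consists of eigenvectors
      have hfu : ∀ i, (f ^ i) (u j₀) = u j₀ := by
        obtain ⟨k, hk⟩ := hu.exists_type (show Inv f (D j₀) by rw [Lib.Elusive.Inv, hσ, hj])
        have h2 := hk.2.2
        rw [hD.finrank_eq] at h2
        have hk0 : k = 0 := by
          by_contra hk0
          have := Nat.le_mul_of_pos_left c (Nat.pos_of_ne_zero hk0)
          omega
        rw [hk0, zero_mul, add_zero] at h2
        have h3 : D j₀ ≤ End.eigenspace f (1 : F) := inf_eq_left.mp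
          (Submodule.eq_of_le_of_finrank_eq inf_le_left (by rw [← h2, hD.finrank_eq]))
        have h4 : f (u j₀) = u j₀ := by simpa using End.mem_eigenspace_iff.mp (h3 (hu1 j₀))
        intro i
        induction i with
        | zero => rfl
        | succ i ih => rw [pow_succ', Module.End.mul_apply, ih, h4]
      have hfix : ∀ i, σ^[i] (j₀ : Fin t) = j₀ := fun i => Function.iterate_fixed hj i
      have h2 : ∑ y ∈ (Finset.univ : Finset R) ×ˢ Finset.range r, (if y.1 = j₀ then g y.1 • (f ^ y.2) (u y.1) else 0) +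
          ∑ y ∈ (Finset.univ : Finset R) ×ˢ Finset.range r, (if y.1 = j₀ then 0 else g y.1 • (f ^ y.2) (u y.1)) = 0 := by
        rw [← Finset.sum_add_distrib]
        conv_rhs => rw [← h1]
        refine Finset.sum_congr rfl fun y _ => ?_
        split
        · exact add_zero _
        · exact zero_add _
      have h3 : ∑ y ∈ (Finset.univ : Finset R) ×ˢ Finset.range r, (if y.1 = j₀ then g y.1 • (f ^ y.2) (u y.1) else 0) =
          ((r : F) * g j₀) • u j₀ := by
        rw [Finset.sum_product, Finset.sum_eq_single j₀ (fun b _ hb => by simp [hb]) (by simp)]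
        simp [hfu, mul_smul, Nat.cast_smul_eq_nsmul]
      rw [h3] at h2
      have h4 : ((r : F) * g j₀) • u j₀ = 0 := by
        refine Submodule.disjoint_def.mp (hD.indep (j₀ : Fin t)) _ (Submodule.smul_mem _ _ (hu1 _)) ?_
        rw [eq_neg_of_add_eq_zero_left h2]
        refine Submodule.neg_mem _ (Submodule.sum_mem _ fun y _ => ?_)
        split
        · exact zero_mem _
        next hy =>
          refine le_iSup₂ (f := fun k (_ : k ≠ (j₀ : Fin t)) => D k) (σ^[y.2] y.1) ?_
            (Submodule.smul_mem _ _ (pow_mem hσ _ (hu1 _)))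
          intro he
          exact hy (Subtype.ext (hmin (i := y.2) (l := 0) y.1.2 j₀.2 he))
      rcases smul_eq_zero.mp h4 with h | h
      · exact (mul_eq_zero.mp h).resolve_left hrF
      · exact absurd h (hu0 _)
    · have h2 := eq_zero_of_sum_mem hD.indep _ (fun y : R × ℕ => σ^[y.2] (y.1 : Fin t))
        _ (fun y _ => Submodule.smul_mem _ _ (pow_mem hσ _ (hu1 _))) (i₀ := (j₀, 0))
        (by simp [hr.out.pos]) (fun y hy h => by
          have h5 : y.1 = j₀ := Subtype.ext (hmin (i := y.2) (l := 0) y.1.2 j₀.2 h)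
          refine Prod.ext h5 ?_
          refine iterate_injOn hper hj (Finset.mem_range.mp (Finset.mem_product.mp hy).2) hr.out.pos ?_
          simpa [h5] using h) h1
      rcases smul_eq_zero.mp h2 with h | h
      · exact h
      · exact absurd h (hu0 _)
  have h3 := LinearMap.finrank_le_finrank_of_injective hL
  rw [finrank_fintype_fun_eq_card, Fintype.card_coe] at h3
  exact hcover.trans (Nat.mul_le_mul_right r h3)

end Need

variable [Fintype F]

/-- An element of `SL` of order `r` with a given type. -/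
theorem exists_test [hr : Fact r.Prime] (hrF : (r : F) ≠ 0) {c : ℕ}
    (hc : c = orderOf (Fintype.card F : ZMod r)) (hc2 : 2 ≤ c) {e s : ℕ} (hs : 1 ≤ s)
    (hes : e + s * c = n)
    (h : ∀ x : Matrix.SpecialLinearGroup (Fin n) F,
      (∃ z : F, ((x ^ r : Matrix.SpecialLinearGroup (Fin n) F) : Matrix (Fin n) (Fin n) F) = z • (1 : Matrix (Fin n) (Fin n) F)) →
      (∀ z : F, (x : Matrix (Fin n) (Fin n) F) ≠ z • (1 : Matrix (Fin n) (Fin n) F)) →
      Dec a t (Matrix.toLin' (x : Matrix (Fin n) (Fin n) F))) :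
    ∃ f : Module.End F (Fin n → F), f ^ r = 1 ∧ IsUniform f 1 c ∧
      finrank F (End.eigenspace f (1 : F)) = e ∧ Dec a t f := by
  subst hc
  have hrank : finrank F (Fin n → F) = n := finrank_fin_fun F
  have hroot : ∀ z : F, z ^ r = 1 → z = 1 := by
    intro z hzr
    have hz : z ≠ 0 := fun h => by simp [h, hr.out.ne_zero] at hzr
    have h2 : orderOf z ∣ Fintype.card F - 1 :=
      orderOf_dvd_of_pow_eq_one (FiniteField.pow_card_sub_one_eq_one z hz)
    rcases (Nat.dvd_prime hr.out).mp (orderOf_dvd_of_pow_eq_one hzr) with h3 | h3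
    · exact orderOf_eq_one_iff.mp h3
    · exfalso
      rw [h3, ← ZMod.natCast_eq_zero_iff, Nat.cast_sub Fintype.card_pos, Nat.cast_one, sub_eq_zero] at h2
      rw [h2, orderOf_one] at hc2
      omega
  obtain ⟨g, hg, hge⟩ := exists_split (V := Fin n → F) hrF e s (by rw [hrank, hes])
  obtain ⟨x, hx⟩ := Linear.exists_sl g (hroot _ (det_pow_eq_one hg))
  have hd := h x ⟨1, by rw [Linear.eq_smul_one_iff, Linear.toLin_pow, hx, hg, one_smul]⟩ fun c hc => by
    rw [Linear.eq_smul_one_iff, hx] at hc
    haveI : Nonempty (Fin n) := Fin.pos_iff_nonempty.mp (by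
      have := Nat.le_mul_of_pos_left (orderOf (Fintype.card F : ZMod r)) hs
      omega)
    subst hc
    rw [_root_.smul_pow, one_pow] at hg
    have hc1 : c ^ r = 1 := by
      simpa using congrFun (LinearMap.congr_fun hg (fun _ => 1)) (Classical.arbitrary (Fin n))
    have htop : End.eigenspace (c • (1 : Module.End F (Fin n → F))) 1 = ⊤ := by
      rw [eq_top_iff]
      intro v _
      rw [End.mem_eigenspace_iff, hroot c hc1]
      simp
    rw [htop, finrank_top, hrank] at hge
    have := Nat.le_mul_of_pos_left (orderOf (Fintype.card F : ZMod r)) hs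
    omega
  exact ⟨g, hg, isUniform_split hrF one_ne_zero (by rw [one_pow, one_smul, hg]), hge, hx ▸ hd⟩

/-- The order of `q` is at most `n` when `r` divides the number of decompositions. -/
theorem order_le [hr : Fact r.Prime] (hrF : (r : F) ≠ 0) (hn : n = a * t) (ha : 0 < a) (ht : 2 ≤ t)
    (h : r ∣ Nat.card {D : Fin t → Submodule F (Fin n → F) // Cfsg.Geo.IsMDecomposition a D} / t.factorial) :
    orderOf (Fintype.card F : ZMod r) ≤ n := by
  classical
  have hne : ∀ {D : Fin t → Submodule F (Fin n → F)}, Cfsg.Geo.IsMDecomposition a D → Function.Injective D := by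
    intro D hD
    refine hD.indep.injective fun j hj => ?_
    have h1 := hD.finrank_eq j
    rw [hj, finrank_bot] at h1
    omega
  let X := {D : Fin t → Submodule F (Fin n → F) // Cfsg.Geo.IsMDecomposition a D}
  haveI : Finite X := Subtype.finite
  letI : MulAction (Equiv.Perm (Fin t)) X :=
    { smul := fun π D => ⟨D.1 ∘ π.symm, ⟨D.2.two_le, D.2.pos, fun j => D.2.finrank_eq _,
        D.2.indep.comp π.symm.injective, by
          show ⨆ i, D.1 (π.symm i) = ⊤
          rw [Equiv.iSup_comp (g := D.1) π.symm]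
          exact D.2.iSup_eq_top⟩⟩
      one_smul := fun D => Subtype.ext rfl
      mul_smul := fun π π' D => Subtype.ext rfl }
  have hfree : ∀ D : X, MulAction.stabilizer (Equiv.Perm (Fin t)) D = ⊥ := fun D => by
    rw [eq_bot_iff]
    intro π hπ
    refine Subgroup.mem_bot.mpr (Equiv.ext fun j => ?_)
    have h1 := congrFun (congrArg Subtype.val (MulAction.mem_stabilizer_iff.mp hπ)) (π j)
    exact (hne D.2 (show D.1 (π.symm (π j)) = D.1 (π j) from h1) ▸ π.symm_apply_apply j).symm ▸ rfl
  have hX : r ∣ Nat.card X := h.trans (Nat.div_dvd_of_dvd (by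
    rw [Nat.card_congr (MulAction.selfEquivOrbitsQuotientProd hfree), Nat.card_prod, Nat.card_perm,
      Nat.card_fin]
    exact dvd_mul_left _ _))
  -- transitivity of the linear group
  letI act : MulAction (GL (Fin n) F) (Fin t → Submodule F (Fin n → F)) :=
    { smul := fun A D j => (D j).map (Matrix.toLin' (A : Matrix (Fin n) (Fin n) F))
      one_smul := fun D => funext fun j => by
        show (D j).map _ = D j
        simp
      mul_smul := fun A B D => funext fun j => by
        show (D j).map (Matrix.toLin' ((A * B : GL (Fin n) F) : Matrix (Fin n) (Fin n) F)) = ((D j).map _).map _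
        rw [Units.val_mul, Matrix.toLin'_mul, Submodule.map_comp] }
  obtain ⟨⟨D₀, hD₀⟩⟩ : Nonempty X := by
    let e : Fin t × Fin a ≃ Fin n := Fintype.equivFinOfCardEq (by
      rw [Fintype.card_prod, Fintype.card_fin, Fintype.card_fin, hn, mul_comm])
    obtain ⟨D, hD, -⟩ := decomp_of_span (f := (1 : Module.End F (Fin n → F))) Function.injective_id ht ha
      (by rw [Fintype.card_fin, hn]) (fun y => Pi.single (e y) 1) (by
        rw [show Set.range (fun y => (Pi.single (e y) 1 : Fin n → F)) = Set.range (Pi.basisFun F (Fin n)) by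
          rw [← EquivLike.range_comp (Pi.basisFun F (Fin n)) e]; congr 1; funext y; simp]
        exact (Pi.basisFun F (Fin n)).span_eq.ge) 1
      (fun j i => Submodule.subset_span ⟨i, rfl⟩)
    exact ⟨⟨D, hD⟩⟩
  have horbit : MulAction.orbit (GL (Fin n) F) D₀ = {D | Cfsg.Geo.IsMDecomposition a D} := by
    ext D
    constructor
    · rintro ⟨A, rfl⟩
      let T := Matrix.GeneralLinearGroup.toLin A
      have hinj : Function.Injective (Matrix.toLin' (A : Matrix (Fin n) (Fin n) F)) := fun u v huv => by
        have h1 := congrArg (Matrix.toLin' ((A⁻¹ : GL (Fin n) F) : Matrix (Fin n) (Fin n) F)) huv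
        rwa [← LinearMap.comp_apply, ← LinearMap.comp_apply, ← Matrix.toLin'_mul, A.inv_mul,
          Matrix.toLin'_one] at h1
      let E : (Fin n → F) ≃ₗ[F] (Fin n → F) := LinearEquiv.ofBijective _
        ⟨hinj, LinearMap.injective_iff_surjective.mp hinj⟩
      refine ⟨hD₀.two_le, hD₀.pos, fun j => ?_, ?_, ?_⟩
      · exact (Submodule.equivMapOfInjective _ hinj (D₀ j)).finrank_eq.symm.trans (hD₀.finrank_eq j)
      · exact hD₀.indep.map_orderIso (Submodule.orderIsoMapComap E)
      · show ⨆ j, (D₀ j).map _ = ⊤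
        rw [← Submodule.map_iSup, hD₀.iSup_eq_top, Submodule.map_top,
          LinearMap.range_eq_top.mpr (LinearMap.injective_iff_surjective.mp hinj)]
    · intro hD
      have hint : ∀ {D : Fin t → Submodule F (Fin n → F)}, Cfsg.Geo.IsMDecomposition a D →
          DirectSum.IsInternal D := fun hD =>
        DirectSum.isInternal_submodule_iff_iSupIndep_and_iSup_eq_top _ |>.mpr ⟨hD.indep, hD.iSup_eq_top⟩
      let b₀ := (hint hD₀).collectedBasis fun j => (finBasis F (D₀ j)).reindex (finCongr (hD₀.finrank_eq j))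
      let b₁ := (hint hD).collectedBasis fun j => (finBasis F (D j)).reindex (finCongr (hD.finrank_eq j))
      let T := b₀.equiv b₁ (Equiv.refl _)
      refine ⟨⟨LinearMap.toMatrix' T.toLinearMap, LinearMap.toMatrix' T.symm.toLinearMap,
        by rw [← LinearMap.toMatrix'_comp]; simp, by rw [← LinearMap.toMatrix'_comp]; simp⟩, funext fun j => ?_⟩
      show (D₀ j).map (Matrix.toLin' (LinearMap.toMatrix' T.toLinearMap)) = D j
      rw [Matrix.toLin'_toMatrix']
      refine Submodule.eq_of_le_of_finrank_eq ?_ ?_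
      · rintro _ ⟨u, hu, rfl⟩
        have h1 := congrArg (fun w : D₀ j => (T w : Fin n → F))
          (((finBasis F (D₀ j)).reindex (finCongr (hD₀.finrank_eq j))).sum_repr ⟨u, hu⟩)
        rw [LinearEquiv.coe_coe, ← h1]
        simp only [Submodule.coe_sum, Submodule.coe_smul, map_sum, map_smul]
        refine Submodule.sum_mem _ fun i _ => Submodule.smul_mem _ _ ?_
        have h2 : T (b₀ ⟨j, i⟩) = b₁ ⟨j, i⟩ := by simp [T]
        simp only [b₀, b₁, DirectSum.IsInternal.collectedBasis_coe] at h2
        rw [h2]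
        exact Submodule.coe_mem _
      · rw [LinearEquiv.finrank_map_eq, hD₀.finrank_eq, hD.finrank_eq]
  have hcount : r ∣ Nat.card (GL (Fin n) F) := by
    refine hX.trans ⟨Nat.card (MulAction.stabilizer (GL (Fin n) F) D₀), ?_⟩
    rw [← Subgroup.index_mul_card (MulAction.stabilizer (GL (Fin n) F) D₀),
      MulAction.index_stabilizer, horbit, ← Nat.card_coe_set_eq]
    rfl
  rw [Matrix.card_GL_field] at hcount
  obtain ⟨i, -, hi⟩ := (Prime.dvd_finsetProd_iff hr.out.prime _).mp hcount
  obtain ⟨m, hm, hmn⟩ : ∃ m, 0 < m ∧ n = (i : ℕ) + m := ⟨n - i, by omega, by omega⟩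
  have hpow : Fintype.card F ^ n = Fintype.card F ^ (i : ℕ) * Fintype.card F ^ m := by
    rw [← pow_add, ← hmn]
  rw [← ZMod.natCast_eq_zero_iff, Nat.cast_sub (Nat.pow_le_pow_right Fintype.card_pos i.2.le),
    hpow, Nat.cast_mul, Nat.cast_pow, Nat.cast_pow, sub_eq_zero,
    mul_eq_left₀ (pow_ne_zero _ (card_cast_ne_zero hrF))] at hi
  exact (Nat.le_of_dvd hm (orderOf_dvd_of_pow_eq_one hi)).trans (by omega)

/-- Elements of odd prime order of PSL_n(q) and imprimitive subgroups. Here `T = PSL_n(F)` for a field `F` with `q = p^f` elements (`n ≥ 2`, `(n, q) ≠ (2, 2), (2, 3)`), `n = a·t` with `t ≥ 2`, and Ω is the set of direct-sum decompositions of `F^n` into `t` subspaces of dimension `a` (unordered; their number is the number of ordered ones divided by `t!`), whose stabilizers are the imprimitive subgroups of type GL_a(q) ≀ S_t (maximal except in some small cases; maximality is not assumed); an element of `T` of prime order `r` (a matrix `x` of determinant 1 with `x^r` scalar, `x` not scalar) fixes a point of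 Ω when it permutes the summands of some such decomposition. Let `r ≠ p` be an odd prime dividing the number of such decompositions, let `c` be the multiplicative order of `q` modulo `r`, and write `k = n mod c`, `ℓ = a mod c`. Then every element of `T` of order `r` stabilizes such a decomposition if and only if either `a = 1`, `c = r − 1 > 1` and `n ≤ k·r`, or `c ≤ a` and `k = t·ℓ`. -/
theorem result {F : Type*} [Field F] [Fintype F] {p : ℕ} [Fact p.Prime] [CharP F p] {q : ℕ} (hq : Fintype.card F = q)
    (n a t : ℕ) (hn : 2 ≤ n) (hT : (n, q) ≠ (2, 2) ∧ (n, q) ≠ (2, 3)) (hat : n = a * t) (ha : 1 ≤ a) (ht : 2 ≤ t)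
    (r : ℕ) [Fact r.Prime] (hr2 : r ≠ 2) (hrp : r ≠ p) (hΩ : r ∣ Nat.card {D : Fin t → Submodule F (Fin n → F) // Cfsg.Geo.IsMDecomposition a D} / Nat.factorial t)
    (c : ℕ) (hc : c = orderOf (q : ZMod r)) :
    (∀ x : Matrix.SpecialLinearGroup (Fin n) F,
      (∃ z : F, ((x ^ r : Matrix.SpecialLinearGroup (Fin n) F) : Matrix (Fin n) (Fin n) F) = z • (1 : Matrix (Fin n) (Fin n) F)) →
      (∀ z : F, (x : Matrix (Fin n) (Fin n) F) ≠ z • (1 : Matrix (Fin n) (Fin n) F)) →
      ∃ D : Fin t → Submodule F (Fin n → F), Cfsg.Geo.IsMDecomposition a D ∧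
        ∃ σ : Equiv.Perm (Fin t), ∀ j, (D j).map (Matrix.toLin' (x : Matrix (Fin n) (Fin n) F)) = D (σ j)) ↔
    ((a = 1 ∧ 1 < c ∧ c = r - 1 ∧ n ≤ (n % c) * r) ∨ (c ≤ a ∧ n % c = t * (a % c))) := by
  classical
  subst hq
  have hrF : (r : F) ≠ 0 := fun h0 =>
    hrp ((Nat.prime_dvd_prime_iff_eq Fact.out Fact.out).mp ((CharP.cast_eq_zero_iff F p r).mp h0)).symm
  have hcpos : 0 < c := hc ▸ orderOf_card_pos hrF
  have hcn : c ≤ n := hc ▸ order_le hrF hat ha ht hΩ
  have hcr : c ∣ r - 1 := hc ▸ orderOf_dvd_of_pow_eq_one (ZMod.pow_card_sub_one_eq_one (card_cast_ne_zero hrF))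
  constructor
  · intro h
    rcases Nat.lt_or_ge c 2 with hc1 | hc2
    · obtain rfl : c = 1 := by omega
      exact Or.inr ⟨by omega, by simp [Nat.mod_one]⟩
    have hhead : ∀ e s, 1 ≤ s → e + s * c = n →
        ∃ f : Module.End F (Fin n → F), f ^ r = 1 ∧ IsUniform f 1 c ∧
          Module.finrank F (Module.End.eigenspace f (1 : F)) = e ∧ Dec a t f :=
      fun e s hs hes => exists_test hrF hc hc2 hs hes h
    by_cases hca : c ≤ a
    · refine Or.inr ⟨hca, ?_⟩
      obtain ⟨f, hfr, hu, he, D, hD, σ, hσ⟩ := hhead (n % c) (n / c)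
        (Nat.div_pos hcn hcpos) (by rw [mul_comm]; exact Nat.mod_add_div n c)
      have hfix : ∀ j, σ j = j := fun j => by
        by_contra hj
        have h1 := (moved_bounds hD hσ hfr hj).1
        have := Nat.mod_lt n hcpos
        omega
      have h2 := fixed_bound hu hD hσ hfix
      rw [he] at h2
      have h3 : n % c = t * (a % c) % c := by rw [hat, mul_comm a t, Nat.mul_mod_mod]
      have h4 := Nat.mod_le (t * (a % c)) c
      omega
    · rw [Nat.not_le] at hca
      obtain ⟨f, hfr, hu, he, D, hD, σ, hσ⟩ := hhead (n - c) 1 le_rfl (by rw [one_mul]; omega)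
      have hmoved : ∃ j, σ j ≠ j := by
        by_contra hno
        push Not at hno
        have h2 := fixed_bound hu hD hσ hno
        rw [he, Nat.mod_eq_of_lt hca, mul_comm t a, ← hat] at h2
        omega
      obtain ⟨j, hj⟩ := hmoved
      have h1 := (moved_bounds hD hσ hfr hj).2
      rw [he] at h1
      have hr1 : 0 < r - 1 := by have := (Fact.out : r.Prime).two_le; omega
      have h3 := Nat.le_of_dvd hr1 hcr
      have h4 := Nat.le_mul_of_pos_left (r - 1) ha
      have hcr' : c = r - 1 := by omega
      have ha1 : a = 1 := by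
        by_contra hne
        have := Nat.mul_le_mul_right (r - 1) (show 2 ≤ a by omega)
        omega
      subst ha1
      rw [one_mul] at hat
      obtain ⟨f', hfr', hu', he', D', hD', σ', hσ'⟩ := hhead (n % c) (n / c)
        (Nat.div_pos hcn hcpos) (by rw [mul_comm]; exact Nat.mod_add_div n c)
      have h5 := lines_bound hc2 hu' hD' hσ' hfr' hrF
      rw [he'] at h5
      exact Or.inl ⟨rfl, by omega, hcr', by omega⟩
  · intro hR x hz hns
    obtain ⟨z, hz⟩ := hz
    set f : Module.End F (Fin n → F) := Matrix.toLin' (x : Matrix (Fin n) (Fin n) F) with hfdef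
    rw [Linear.eq_smul_one_iff, Linear.toLin_pow, ← hfdef] at hz
    have hdet : LinearMap.det f = 1 := by rw [hfdef, LinearMap.det_toLin']; exact x.2
    have hinj : Function.Injective f := by
      refine LinearMap.ker_eq_bot.mp ?_
      by_contra hker
      rw [LinearMap.det_eq_zero_iff_ker_ne_bot.mpr hker] at hdet
      exact zero_ne_one hdet
    have hzn : z ^ n = 1 := by
      have h1 := congrArg LinearMap.det hz
      rw [map_pow, hdet, one_pow, LinearMap.det_smul, map_one, mul_one, Module.finrank_fin_fun] at h1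
      exact h1.symm
    have hz0 : z ≠ 0 := fun h => by rw [h, zero_pow (by omega)] at hzn; exact zero_ne_one hzn
    by_cases hsplit : ∃ μ : F, μ ^ r = z
    · obtain ⟨μ, rfl⟩ := hsplit
      have hμ : μ ≠ 0 := fun h => hz0 (by simp [h, (Fact.out : r.Prime).ne_zero])
      have hu : IsUniform f μ c := hc ▸ isUniform_split hrF hμ hz
      obtain ⟨s, hV⟩ := hu.exists_type (Inv.top f)
      set e := Module.finrank F ↥(⊤ ⊓ Module.End.eigenspace f μ) with hedef
      have hes := hV.2.2
      rw [finrank_top, Module.finrank_fin_fun] at hes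
      have hmod : n % c ≤ e := by
        rw [hes, Nat.add_mul_mod_self_right]
        exact Nat.mod_le _ _
      rcases hR with ⟨ha1, hc1, hcr', hle⟩ | ⟨-, heq⟩
      · subst ha1
        rw [one_mul] at hat
        subst hat
        refine dec_lines hinj hn hz (hcr' ▸ hu) (hcr' ▸ hV) ?_
        have h2 : n % c * r = n % c + n % c * c := by
          have h4 : r = c + 1 := by have := (Fact.out : r.Prime).one_le; omega
          rw [h4, Nat.mul_add, mul_one, add_comm]
        by_contra hlt
        have h3 : n % c * c < s * c := Nat.mul_lt_mul_of_pos_right (by omega) hcpos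
        omega
      · exact dec_fixed hinj ht ha hat hu hV (heq ▸ hmod)
    · push Not at hsplit
      obtain ⟨hu, hE⟩ := isUniform_nonsplit hrF hz0 hsplit hz
      obtain ⟨s, hs, -⟩ := nonsplit_det hsplit hz
      rw [Module.finrank_fin_fun] at hs
      exact dec_nonsplit hinj ht ha hat hz hu hE hs

end Cfsg.Agent.S5958
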