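import Cfsg.Statements.S5959
import Cfsg.Agent.Lib.Elusive.UnipotentType
-- import your own Cfsg.Agent.* helpers here

set_option autoImplicit false
open scoped MatrixGroups
open Cfsg

namespace Cfsg.Agent.S5959

/-- Elements of order `p` of PSL_n(q) and imprimitive subgroups: a necessary condition. Here `T = PSL_n(F)` for a field `F` with `q = p^f` elements (`n ≥ 2`, `(n, q) ≠ (2, 2), (2, 3)`), `n = a·t` with `t ≥ 2`, and Ω is the set of direct-sum decompositions of `F^n` into `t` subspaces of dimension `a` (unordered; their number is the number of ordered ones divided by `t!`), whose stabilizers are the imprimitive subgroups of type GL_a(q) ≀ S_t (maximal except in some small cases; maximality is not assumed); an element of `T` of prime order `r` (a matrix `x` of determinant 1 with `x^r` scalar, `x` not scalar) fixes a point of Ω when it permutes the summands of some such decomposition. Suppose `p > 2` divides the number of such decompositions. If every element of `T` of order `p` stabilizes such a decomposition,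 then every partition of `n` into parts of size at most `p` in which the part `p` occurs fewer than `a` times contains (as a sub-multiset) a partition of `a`. -/
theorem result {F : Type*} [Field F] [Fintype F] {p : ℕ} [Fact p.Prime] [CharP F p] {q : ℕ} (hq : Fintype.card F = q)
    (n a t : ℕ) (hn : 2 ≤ n) (hT : (n, q) ≠ (2, 2) ∧ (n, q) ≠ (2, 3)) (hat : n = a * t) (ha : 1 ≤ a) (ht : 2 ≤ t)
    (hp : 2 < p) (hΩ : p ∣ Nat.card {D : Fin t → Submodule F (Fin n → F) // Cfsg.Geo.IsMDecomposition a D} / Nat.factorial t)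
    (h : ∀ x : Matrix.SpecialLinearGroup (Fin n) F,
      (∃ z : F, ((x ^ p : Matrix.SpecialLinearGroup (Fin n) F) : Matrix (Fin n) (Fin n) F) = z • (1 : Matrix (Fin n) (Fin n) F)) →
      (∀ z : F, (x : Matrix (Fin n) (Fin n) F) ≠ z • (1 : Matrix (Fin n) (Fin n) F)) →
      ∃ D : Fin t → Submodule F (Fin n → F), Cfsg.Geo.IsMDecomposition a D ∧
        ∃ σ : Equiv.Perm (Fin t), ∀ j, (D j).map (Matrix.toLin' (x : Matrix (Fin n) (Fin n) F)) = D (σ j)) :
    (∀ μ : Multiset ℕ, (∀ b ∈ μ, 0 < b ∧ b ≤ p) → μ.sum = n → μ.count p < a → ∃ ν : Multiset ℕ, ν ≤ μ ∧ ν.sum = a) := by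
  classical
  intro μ hμ hsum hcount
  by_cases hne : ∃ b ∈ μ, b ≠ 1
  case neg =>
    push Not at hne
    have hrep : μ = Multiset.replicate n 1 := by
      have h1 : μ = Multiset.replicate (Multiset.card μ) 1 := Multiset.eq_replicate_card.mpr hne
      rw [h1, Multiset.sum_replicate, smul_eq_mul, mul_one] at hsum
      rw [← hsum]; exact h1
    refine ⟨Multiset.replicate a 1, ?_, by simp⟩
    rw [hrep]
    exact (Multiset.replicate_le_replicate 1).mpr (hat ▸ Nat.le_mul_of_pos_right a (by omega))
  obtain ⟨s, d, x, hd, hd1, hdp, hxp, hns, ⟨C⟩⟩ :=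
    Lib.Elusive.UnipotentType.exists_sl (F := F) p n μ hsum hμ hne
  obtain ⟨D, hD, σ, hσ⟩ := h x ⟨1, by rw [hxp, Matrix.SpecialLinearGroup.coe_one, one_smul]⟩ hns
  set f : Module.End F (Fin n → F) := Matrix.toLin' (x : Matrix (Fin n) (Fin n) F) with hf
  have hfp : f ^ p = 1 := by
    rw [hf, ← Matrix.toLin'_pow, ← Matrix.SpecialLinearGroup.coe_pow, hxp,
      Matrix.SpecialLinearGroup.coe_one, Matrix.toLin'_one]
    rfl
  have hpow : ∀ i j, (D j).map (f ^ i) = D (σ^[i] j) := by
    intro i
    induction i with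
    | zero => intro j; simp [Module.End.one_eq_id]
    | succ i ih =>
      intro j
      rw [pow_succ', Module.End.mul_eq_comp, Submodule.map_comp, ih, hσ, Function.iterate_succ_apply']
  have hne' : ∀ j, D j ≠ ⊥ := fun j hj => by
    have := hD.finrank_eq j
    rw [hj, finrank_bot] at this
    omega
  have hper : ∀ j, Function.IsPeriodicPt σ p j := fun j => by
    refine hD.indep.injective hne' ?_
    rw [← hpow p j, hfp, Module.End.one_eq_id, Submodule.map_id]
  have hfix : ∀ j, σ j = j := by
    intro j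
    rcases (Nat.dvd_prime (Fact.out : p.Prime)).mp (hper j).minimalPeriod_dvd with h1 | h1
    · exact Function.minimalPeriod_eq_one_iff_isFixedPt.mp h1
    exfalso
    have hdisj : D j ⊓ LinearMap.ker ((f - 1) ^ (p - 1)) = ⊥ := by
      rw [eq_bot_iff]
      rintro v ⟨hv, hv'⟩
      rw [SetLike.mem_coe, LinearMap.mem_ker, Lib.Elusive.UnipotentType.sub_one_pow_pred p,
        LinearMap.sum_apply, Finset.range_eq_Ico, Finset.sum_eq_sum_Ico_succ_bot
          (Fact.out : p.Prime).pos, pow_zero, Module.End.one_apply] at hv'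
      rw [Submodule.mem_bot]
      refine Submodule.disjoint_def.mp (hD.indep j) v hv ?_
      rw [eq_neg_of_add_eq_zero_left hv']
      refine Submodule.neg_mem _ (Submodule.sum_mem _ fun i hi => ?_)
      rw [Finset.mem_Ico] at hi
      have hmem : (f ^ i) v ∈ D (σ^[i] j) := hpow i j ▸ Submodule.mem_map_of_mem hv
      refine le_iSup₂ (f := fun k (_ : k ≠ j) => D k) (σ^[i] j) ?_ hmem
      intro hij
      have h2 : i = 0 := Function.iterate_injOn_Iio_minimalPeriod (by rw [Set.mem_Iio, h1]; omega)
        (by rw [Set.mem_Iio, h1]; exact (Fact.out : p.Prime).pos) hij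
      omega
    have h2 : a + Module.finrank F ↥(LinearMap.ker ((f - 1) ^ (p - 1))) ≤ n := by
      have h3 := Submodule.finrank_sup_add_finrank_inf_eq (D j) (LinearMap.ker ((f - 1) ^ (p - 1)))
      have h4 := Submodule.finrank_le (D j ⊔ LinearMap.ker ((f - 1) ^ (p - 1)))
      rw [hdisj, finrank_bot, hD.finrank_eq j] at h3
      rw [Module.finrank_fin_fun] at h4
      omega
    have h5 : ∑ k, min (d k) (p - 1) + μ.count p = n := by
      rw [← hd, Lib.Elusive.UnipotentType.count_parts, Finset.card_filter, ← Finset.sum_add_distrib,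
        ← hsum, ← hd, Lib.Elusive.UnipotentType.parts_sum]
      refine Finset.sum_congr rfl fun k _ => ?_
      have := hdp k
      have := (Fact.out : p.Prime).pos
      split <;> omega
    rw [C.finrank_ker_pow] at h2
    omega
  have hinv : ∀ W : Submodule F (Fin n → F), W.map f ≤ W → ∀ v ∈ W, (f - 1) v ∈ W := fun W hW v hv => by
    rw [LinearMap.sub_apply, Module.End.one_apply]
    exact W.sub_mem (hW (Submodule.mem_map_of_mem hv)) hv
  have j₀ : Fin t := ⟨0, by omega⟩
  have hnil : IsNilpotent (f - 1) := ⟨p, C.pow_eq_zero_iff.mpr hdp⟩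
  have hc : IsCompl (D j₀) (⨆ (k) (_ : k ≠ j₀), D k) := by
    refine ⟨hD.indep j₀, ?_⟩
    rw [codisjoint_iff, eq_top_iff, ← hD.iSup_eq_top]
    refine iSup_le fun k => ?_
    rcases eq_or_ne k j₀ with rfl | hk
    · exact le_sup_left
    · exact le_sup_of_le_right (le_iSup₂ (f := fun k (_ : k ≠ j₀) => D k) k hk)
  obtain ⟨ν, hν, hνs⟩ := Lib.Elusive.UnipotentType.parts_le_of_inv C hd1 hnil
    hc
    (hinv _ (by rw [hσ, hfix])) (hinv _ (by simp only [Submodule.map_iSup, hσ, hfix, le_refl]))
  exact ⟨ν, hd ▸ hν, hνs.trans (hD.finrank_eq j₀)⟩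

end Cfsg.Agent.S5959
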