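import Cfsg.Statements.S5960
import Cfsg.Agent.Lib.Elusive.SympPlanes
import Cfsg.Agent.Lib.Elusive.MonomialBasis
-- import your own Cfsg.Agent.* helpers here

set_option autoImplicit false
open scoped MatrixGroups
open Cfsg

namespace Cfsg.Agent.S5960

/-- Involutions of PSp_n(q) and imprimitive subgroups. Here `T = PSp_n(q)`, `n = 2d ≥ 4`, `(n, q) ≠ (4, 2)`, realised through the symplectic matrices over the field `F` with `q` elements and the standard alternating form; `n = a·t` with `a` even and `t ≥ 2`, and Ω is the (nonempty) set of orthogonal decompositions of `F^n` into `t` nondegenerate subspaces of dimension `a` (unordered; counted as ordered ones divided by `t!`), whose stabilizers are the imprimitive subgroups of type Sp_a(q) ≀ S_t (maximality is not assumed); an element of `T` of prime order `r` (a symplectic matrix `x` with `x^r` scalar, `x` not scalar) fixes a point of Ω when it permutes the summands of some such decomposition. If the number of such decompositions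 is even, then every involution of `T` stabilizes one of them (the action is 2-elusive). -/
theorem result {F : Type*} [Field F] [Fintype F] {p : ℕ} [Fact p.Prime] [CharP F p] {q : ℕ} (hq : Fintype.card F = q)
    (d : ℕ) (hd : 2 ≤ d) (hT : (d, q) ≠ (2, 2))
    (a t : ℕ) (hat : 2 * d = a * t) (ha : 2 ≤ a) (hae : Even a) (ht : 2 ≤ t) (hΩ : 2 ∣ Nat.card {D : Fin t → Submodule F (Fin d ⊕ Fin d → F) // (Cfsg.Geo.IsMDecomposition a D ∧ (∀ j, ∀ u ∈ D j, u ≠ 0 → ∃ v ∈ D j, Cfsg.sympForm d F u v ≠ 0) ∧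
          (∀ j j', j ≠ j' → ∀ u ∈ D j, ∀ v ∈ D j', Cfsg.sympForm d F u v = 0))} / Nat.factorial t)
    (x : ↥(Matrix.symplecticGroup (Fin d) F))
    (hx1 : ∃ z : F, ((x ^ 2 : ↥(Matrix.symplecticGroup (Fin d) F)) : Matrix (Fin d ⊕ Fin d) (Fin d ⊕ Fin d) F) = z • (1 : Matrix (Fin d ⊕ Fin d) (Fin d ⊕ Fin d) F))
    (hx2 : ∀ z : F, (x : Matrix (Fin d ⊕ Fin d) (Fin d ⊕ Fin d) F) ≠ z • (1 : Matrix (Fin d ⊕ Fin d) (Fin d ⊕ Fin d) F)) :
    ∃ D : Fin t → Submodule F (Fin d ⊕ Fin d → F), (Cfsg.Geo.IsMDecomposition a D ∧ (∀ j, ∀ u ∈ D j, u ≠ 0 → ∃ v ∈ D j, Cfsg.sympForm d F u v ≠ 0) ∧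
          (∀ j j', j ≠ j' → ∀ u ∈ D j, ∀ v ∈ D j', Cfsg.sympForm d F u v = 0)) ∧
        ∃ σ : Equiv.Perm (Fin t), ∀ j, (D j).map (Matrix.toLin' (x : Matrix (Fin d ⊕ Fin d) (Fin d ⊕ Fin d) F)) = D (σ j) := by
  classical
  obtain ⟨z, hz⟩ := hx1
  rw [pow_two, Submonoid.coe_mul] at hz
  obtain ⟨B, hB, hsq, hgood⟩ := Lib.Elusive.SympPlanes.standard x hz (by omega)
  set f := Matrix.toLin' (x : Matrix (Fin d ⊕ Fin d) (Fin d ⊕ Fin d) F) with hf
  obtain ⟨ι, hι, v, w, π, hp⟩ := Lib.Elusive.SympPlanes.exists_planes hsq _ ⊤ rfl hgood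
  obtain ⟨b, rfl⟩ := hae
  have hli := hp.linearIndependent hsq
  have hcard : Fintype.card ι = b * t := by
    have h1 := finrank_span_eq_card hli
    rw [Set.Sum.elim_range, hp.span, finrank_top, Module.finrank_pi, Fintype.card_sum,
      Fintype.card_sum, Fintype.card_fin, ← two_mul, hat] at h1
    rw [Nat.add_mul] at h1
    omega
  obtain ⟨ρ, hρ, hρb, hρf⟩ := Lib.Elusive.MonomialBasis.exists_block_involution b t
    (Nat.card {j // π j = j})
    (by rw [← hcard, ← Nat.card_eq_fintype_card]; exact Nat.card_le_card_of_injective _ Subtype.val_injective)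
    (by rw [Lib.Elusive.MonomialBasis.card_mod_two π hp.invol, hcard])
  obtain ⟨e, he⟩ := Lib.Elusive.MonomialBasis.isConj_of_card_fixed ρ π hρ hp.invol
    (by rw [hcard, Fintype.card_prod, Fintype.card_fin, Fintype.card_fin, mul_comm]) hρf
  let g : Fin t → Fin b ⊕ Fin b → (Fin d ⊕ Fin d → F) :=
    fun j => Sum.elim (fun i => v (e (j, i))) (fun i => w (e (j, i)))
  let D : Fin t → Submodule F (Fin d ⊕ Fin d → F) := fun j => Submodule.span F (Set.range (g j))
  have hne : ∀ {j j'}, j ≠ j' → ∀ i i', e (j, i) ≠ e (j', i') := fun h i i' he' =>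
    h (congrArg Prod.fst (e.injective he'))
  have horth : ∀ j j', j ≠ j' → ∀ u ∈ D j, ∀ y ∈ D j', B u y = 0 := by
    intro j j' hjj u hu y hy
    induction hu using Submodule.span_induction with
    | mem u hu =>
      induction hy using Submodule.span_induction with
      | mem y hy =>
        obtain ⟨i, rfl⟩ := hu
        obtain ⟨i', rfl⟩ := hy
        rcases i with i | i <;> rcases i' with i' | i'
        · exact (hp.orth _ _ (hne hjj i i')).1
        · exact (hp.orth _ _ (hne hjj i i')).2.1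
        · show B (w _) (v _) = 0
          rw [hsq.swap (v _) (w _), (hp.orth _ _ (hne hjj.symm i' i)).2.1, neg_zero]
        · exact (hp.orth _ _ (hne hjj i i')).2.2
      | zero => exact map_zero _
      | add y y' _ _ h h' => rw [map_add, h, h', add_zero]
      | smul c y _ h => rw [map_smul, h, smul_zero]
    | zero => rw [map_zero, LinearMap.zero_apply]
    | add u u' _ _ h h' => rw [map_add, LinearMap.add_apply, h, h', add_zero]
    | smul c u _ h => rw [map_smul, LinearMap.smul_apply, h, smul_zero]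
  have hmem : ∀ j i, v (e (j, i)) ∈ D j ∧ w (e (j, i)) ∈ D j := fun j i =>
    ⟨Submodule.subset_span ⟨Sum.inl i, rfl⟩, Submodule.subset_span ⟨Sum.inr i, rfl⟩⟩
  have hspan : (⊤ : Submodule F (Fin d ⊕ Fin d → F)) ≤ iSup D := by
    rw [← hp.span, Submodule.span_le]
    rintro _ (⟨i, rfl⟩ | ⟨i, rfl⟩) <;> obtain ⟨⟨j, k⟩, rfl⟩ := e.surjective i
    exacts [Submodule.mem_iSup_of_mem j (hmem j k).1, Submodule.mem_iSup_of_mem j (hmem j k).2]
  have hnd : ∀ j, ∀ u ∈ D j, u ≠ 0 → ∃ y ∈ D j, B u y ≠ 0 := by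
    intro j u hu hu0
    by_contra hcon
    push Not at hcon
    refine hu0 (hgood.2 u trivial fun y _ => ?_)
    have hall : iSup D ≤ LinearMap.ker (B u) := iSup_le fun j' y hy => by
      rcases eq_or_ne j j' with rfl | h
      · exact hcon y hy
      · exact horth j j' h u hu y hy
    exact hall (hspan trivial)
  have hD : Cfsg.Geo.IsMDecomposition (b + b) D := by
    refine ⟨ht, by omega, fun j => ?_, ?_, eq_top_iff.mpr hspan⟩
    · rw [finrank_span_eq_card, Fintype.card_sum, Fintype.card_fin]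
      have hc : g j = Sum.elim v w ∘ Sum.map (fun i => e (j, i)) (fun i => e (j, i)) := by
        funext i; rcases i with i | i <;> rfl
      rw [hc]
      exact hli.comp _ (Function.Injective.sumMap (e.injective.comp (Prod.mk_right_injective j))
        (e.injective.comp (Prod.mk_right_injective j)))
    · rw [iSupIndep_def]
      intro j
      rw [Submodule.disjoint_def]
      intro u hu hu'
      by_contra hu0
      obtain ⟨y, hy, hy0⟩ := hnd j u hu hu0
      have hle : (⨆ (k) (_ : k ≠ j), D k) ≤ LinearMap.ker (B y) := iSup₂_le fun k hk v' hv' =>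
        horth j k hk.symm y hy v' hv'
      exact hy0 (by rw [hsq.swap y u, LinearMap.mem_ker.mp (hle hu'), neg_zero])
  refine ⟨D, ⟨hD, fun j u hu hu0 => ?_, fun j j' h u hu y hy => by rw [← hB]; exact horth j j' h u hu y hy⟩, ?_⟩
  · obtain ⟨y, hy, h⟩ := hnd j u hu hu0
    exact ⟨y, hy, by rw [← hB]; exact h⟩
  let σ : Equiv.Perm (Fin t) := Function.Involutive.toPerm (fun j => (ρ (j, ⟨0, by omega⟩)).1) (fun j => by
    show (ρ ((ρ (j, ⟨0, _⟩)).1, ⟨0, _⟩)).1 = j
    rw [hρb ((ρ (j, ⟨0, by omega⟩)).1, ⟨0, by omega⟩) (ρ (j, ⟨0, by omega⟩)) rfl, ← Equiv.Perm.mul_apply, hρ]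
    rfl)
  have hfinj : Function.Injective f := fun u y huy => by
    have := congrArg f huy
    rw [hsq.sq, hsq.sq] at this
    exact smul_right_injective _ hsq.ne this
  refine ⟨σ, fun j => Submodule.eq_of_le_of_finrank_eq ?_ ?_⟩
  · rw [Submodule.map_span, Submodule.span_le]
    rintro _ ⟨_, ⟨i, rfl⟩, rfl⟩
    have hpl : ∀ i, Submodule.span F {v (π (e (j, i))), w (π (e (j, i)))} ≤ D (σ j) := by
      intro i
      rw [he]
      have h1 : (ρ (j, i)).1 = σ j := hρb (j, i) (j, ⟨0, by omega⟩) rfl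
      have h2 : ρ (j, i) = (σ j, (ρ (j, i)).2) := Prod.ext h1 rfl
      rw [h2, Submodule.span_le]
      rintro y (rfl | rfl)
      exacts [(hmem _ _).1, (hmem _ _).2]
    rcases i with i | i
    exacts [hpl i (hp.map_mem _).1, hpl i (hp.map_mem _).2]
  · exact (Submodule.equivMapOfInjective f hfinj (D j)).finrank_eq.symm.trans
      ((hD.finrank_eq j).trans (hD.finrank_eq (σ j)).symm)

end Cfsg.Agent.S5960
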