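import Cfsg.Statements.S5961
import Cfsg.Agent.S5958
import Cfsg.Agent.Lib.Elusive.SympDecomp

set_option autoImplicit false
open scoped MatrixGroups
open Cfsg

namespace Cfsg.Agent.S5961

open Module Cfsg.Agent.Lib.Symplectic Cfsg.Agent.Lib.Elusive Cfsg.Agent.Lib.Elusive.SympPieces
  Cfsg.Agent.Lib.Elusive.SympDecomp

variable {F : Type*} [Field F]

/-- A moved block forces a large fixed space and a large complement. -/
theorem moved_bounds {d a t r : ℕ} [Fact r.Prime] {D : Fin t → Submodule F (Fin d ⊕ Fin d → F)}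
    (hD : Cfsg.Geo.IsMDecomposition a D) {σ : Equiv.Perm (Fin t)}
    {f : Module.End F (Fin d ⊕ Fin d → F)} (hσ : ∀ j, (D j).map f = D (σ j)) (hfr : f ^ r = 1)
    {j : Fin t} (hj : σ j ≠ j) :
    a ≤ finrank F (End.eigenspace f (1 : F)) ∧
      a * (r - 1) + finrank F (End.eigenspace f (1 : F)) ≤ 2 * d := by
  let T : (Fin d ⊕ Fin d → F) ≃ₗ[F] (Fin (2 * d) → F) :=
    LinearEquiv.funCongrLeft F F ((finCongr (two_mul d)).trans finSumFinEquiv.symm)
  let f' : Module.End F (Fin (2 * d) → F) := T.conj f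
  have hf' : ∀ v, f' (T v) = T (f v) := fun v => by simp [f', LinearEquiv.conj_apply]
  have hD' : Cfsg.Geo.IsMDecomposition a fun j => (D j).map T.toLinearMap := by
    refine ⟨hD.two_le, hD.pos, fun j => (T.finrank_map_eq _).trans (hD.finrank_eq j),
      hD.indep.map_orderIso (Submodule.orderIsoMapComap T), ?_⟩
    show ⨆ j, (D j).map T.toLinearMap = ⊤
    rw [← Submodule.map_iSup, hD.iSup_eq_top, Submodule.map_top, LinearEquiv.range]
  have hfr' : f' ^ r = 1 := by
    have hpow : ∀ k v, (f' ^ k) (T v) = T ((f ^ k) v) := by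
      intro k
      induction k with
      | zero => intro v; rfl
      | succ k ih => intro v; rw [pow_succ', pow_succ', Module.End.mul_apply, Module.End.mul_apply, ih, hf']
    refine LinearMap.ext fun w => ?_
    rw [← T.apply_symm_apply w, hpow, hfr]
    rfl
  have hE : (End.eigenspace f (1 : F)).map T.toLinearMap = End.eigenspace f' (1 : F) := by
    ext w
    rw [← T.apply_symm_apply w, End.mem_eigenspace_iff, one_smul, hf', T.injective.eq_iff]
    simp [Submodule.mem_map_equiv, End.mem_eigenspace_iff]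
  have h := S5958.moved_bounds hD' (σ := σ) (f := f') (fun j => by
    rw [← Submodule.map_comp, ← hσ j, ← Submodule.map_comp]
    exact congrArg (fun L => Submodule.map L (D j)) (LinearMap.ext hf')) hfr' hj
  rwa [← hE, T.finrank_map_eq] at h

/-- Elements of odd prime order of PSp_n(q) and imprimitive subgroups. Here `T = PSp_n(q)`, `n = 2d ≥ 4`, `(n, q) ≠ (4, 2)`, realised through the symplectic matrices over the field `F` with `q` elements and the standard alternating form; `n = a·t` with `a` even and `t ≥ 2`, and Ω is the (nonempty) set of orthogonal decompositions of `F^n` into `t` nondegenerate subspaces of dimension `a` (unordered; counted as ordered ones divided by `t!`), whose stabilizers are the imprimitive subgroups of type Sp_a(q) ≀ S_t (maximality is not assumed); an element of `T` of prime order `r` (a symplectic matrix `x` with `x^r` scalar, `x` not scalar) fixes a point of Ω when it permutes the summands of some such decomposition. Let `r ≠ p` be an odd prime dividing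 the number of such decompositions, let `i` be the multiplicative order of `q` modulo `r`, `c = i` if `i` is even and `c = 2i` if `i` is odd, and write `k = n mod c`, `ℓ = a mod c`. Then every element of `T` of order `r` stabilizes such a decomposition if and only if `c ≤ a` and `k = t·ℓ`. -/
theorem result {F : Type*} [Field F] [Fintype F] {p : ℕ} [Fact p.Prime] [CharP F p] {q : ℕ} (hq : Fintype.card F = q)
    (d : ℕ) (hd : 2 ≤ d) (hT : (d, q) ≠ (2, 2))
    (a t : ℕ) (hat : 2 * d = a * t) (ha : 2 ≤ a) (hae : Even a) (ht : 2 ≤ t)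
    (r : ℕ) [Fact r.Prime] (hr2 : r ≠ 2) (hrp : r ≠ p) (hΩ : r ∣ Nat.card {D : Fin t → Submodule F (Fin d ⊕ Fin d → F) // (Cfsg.Geo.IsMDecomposition a D ∧ (∀ j, ∀ u ∈ D j, u ≠ 0 → ∃ v ∈ D j, Cfsg.sympForm d F u v ≠ 0) ∧
          (∀ j j', j ≠ j' → ∀ u ∈ D j, ∀ v ∈ D j', Cfsg.sympForm d F u v = 0))} / Nat.factorial t)
    (i c : ℕ) (hi : i = orderOf (q : ZMod r)) (hc : c = if Even i then i else 2 * i) :
    (∀ x : ↥(Matrix.symplecticGroup (Fin d) F),
      (∃ z : F, ((x ^ r : ↥(Matrix.symplecticGroup (Fin d) F)) : Matrix (Fin d ⊕ Fin d) (Fin d ⊕ Fin d) F) = z • (1 : Matrix (Fin d ⊕ Fin d) (Fin d ⊕ Fin d) F)) →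
      (∀ z : F, (x : Matrix (Fin d ⊕ Fin d) (Fin d ⊕ Fin d) F) ≠ z • (1 : Matrix (Fin d ⊕ Fin d) (Fin d ⊕ Fin d) F)) →
      ∃ D : Fin t → Submodule F (Fin d ⊕ Fin d → F), (Cfsg.Geo.IsMDecomposition a D ∧ (∀ j, ∀ u ∈ D j, u ≠ 0 → ∃ v ∈ D j, Cfsg.sympForm d F u v ≠ 0) ∧
          (∀ j j', j ≠ j' → ∀ u ∈ D j, ∀ v ∈ D j', Cfsg.sympForm d F u v = 0)) ∧
        ∃ σ : Equiv.Perm (Fin t), ∀ j, (D j).map (Matrix.toLin' (x : Matrix (Fin d ⊕ Fin d) (Fin d ⊕ Fin d) F)) = D (σ j)) ↔
    (c ≤ a ∧ (2 * d) % c = t * (a % c)) := by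
  classical
  subst hq hi
  obtain rfl : c = pieceDim (orderOf (Fintype.card F : ZMod r)) := hc
  set i := orderOf (Fintype.card F : ZMod r) with hi
  set c := pieceDim i with hcdef
  have hrF : (r : F) ≠ 0 := fun h0 =>
    hrp ((Nat.prime_dvd_prime_iff_eq Fact.out Fact.out).mp ((CharP.cast_eq_zero_iff F p r).mp h0)).symm
  have hrq : ¬ r ∣ Fintype.card F := fun h => card_cast_ne_zero hrF ((ZMod.natCast_eq_zero_iff _ _).mpr h)
  have hc2 : 2 * d ≥ c := pieceDim_le hrq (dvd_card ht (by omega) hat hae hΩ)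
  have hipos : 0 < i := orderOf_card_pos hrF
  have hcpos : 0 < c := by
    rw [hcdef, pieceDim]
    split <;> omega
  obtain ⟨b, hb⟩ := (even_pieceDim i).two_dvd
  rw [← hcdef] at hb
  have hcr : c ≤ r - 1 := by
    obtain ⟨k, hk⟩ := (Fact.out : r.Prime).odd_of_ne_two hr2
    refine Nat.le_of_dvd (by have := (Fact.out : r.Prime).two_le; omega) ?_
    rw [hcdef, show r - 1 = 2 * k by omega]
    refine two_mul_le ?_
    rw [show 2 * k = r - 1 by omega]
    exact orderOf_dvd_of_pow_eq_one (ZMod.pow_card_sub_one_eq_one (card_cast_ne_zero hrF))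
  constructor
  · intro h
    have hhead : ∀ e s, 1 ≤ s → 2 * e + s * c = 2 * d →
        ∃ f : Module.End F (Fin d ⊕ Fin d → F), RootIso (stdForm d F) f r ∧
          finrank F (End.eigenspace f (1 : F)) = 2 * e ∧
          ∃ D : Fin t → Submodule F (Fin d ⊕ Fin d → F), IsOrth a D ∧
            ∃ σ : Equiv.Perm (Fin t), ∀ j, (D j).map f = D (σ j) := by
      intro e s hs hes
      obtain ⟨x, hx, hxe⟩ := exists_element hr2 hrF d e s hes
      refine ⟨_, hx, hxe, h x ⟨1, ?_⟩ fun z hz => ?_⟩
      · rw [one_smul, SubmonoidClass.coe_pow]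
        refine Matrix.toLin'.injective ?_
        rw [Matrix.toLin'_pow, hx.pow, Matrix.toLin'_one]
        rfl
      · rw [hz, map_smul, Matrix.toLin'_one] at hx hxe
        have hne : 2 * e < 2 * d := by
          have := Nat.le_mul_of_pos_left c hs
          omega
        have hzr : z ^ r = 1 := by
          have h1 := congrFun (LinearMap.congr_fun hx.pow (Pi.single (Sum.inl ⟨0, by omega⟩) 1)) (Sum.inl ⟨0, by omega⟩)
          rw [← Module.End.one_eq_id, _root_.smul_pow, one_pow] at h1
          simpa using h1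
        have hz2 : z ^ 2 = 1 := by
          obtain ⟨v, hv⟩ := hx.symp.exists_eq_one (u := Pi.single (Sum.inl ⟨0, by omega⟩) 1) (by simp)
          have h1 := hx.iso (Pi.single (Sum.inl ⟨0, by omega⟩) 1) v
          simp [map_smul, hv] at h1
          rwa [pow_two]
        obtain ⟨k, hk⟩ := (Fact.out : r.Prime).odd_of_ne_two hr2
        rw [hk, pow_succ, pow_mul, hz2, one_pow, one_mul] at hzr
        subst hzr
        have htop : End.eigenspace ((1 : F) • (LinearMap.id : Module.End F (Fin d ⊕ Fin d → F))) 1 = ⊤ :=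
          eq_top_iff.mpr fun v _ => End.mem_eigenspace_iff.mpr (by simp)
        rw [htop, finrank_top, finrank_std] at hxe
        omega
    have hfixed : ∀ {f : Module.End F (Fin d ⊕ Fin d → F)}, RootIso (stdForm d F) f r →
        ∀ {D : Fin t → Submodule F (Fin d ⊕ Fin d → F)}, IsOrth a D → (∀ j, Inv f (D j)) →
        t * (a % c) ≤ finrank F (End.eigenspace f (1 : F)) ∧
          (a < c → 2 * d ≤ finrank F (End.eigenspace f (1 : F))) := by
      intro f hf D hD hinv
      let Z : Fin t → Submodule F (Fin d ⊕ Fin d → F) := fun j => D j ⊓ End.eigenspace f (1 : F)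
      have hZ : ∀ j, Nondeg (stdForm d F) (Z j) := fun j => by
        obtain ⟨_, -, -, -, -, hnd, -⟩ := hf.fixed_split (hinv j) (hD.nondeg j)
        exact hnd
      obtain ⟨-, -, hsum⟩ := orth_family hf.symp Z hZ fun j j' hj u hu v hv => hD.orth j j' hj u hu.1 v hv.1
      have hle : finrank F ↥(⨆ j, Z j) ≤ finrank F (End.eigenspace f (1 : F)) :=
        Submodule.finrank_mono (iSup_le fun j => inf_le_right)
      rw [hsum] at hle
      have hZd : ∀ j, a % c ≤ finrank F (Z j) ∧ (a < c → a ≤ finrank F (Z j)) := fun j => by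
        obtain ⟨s, hs⟩ := hf.finrank_eq (hinv j) (hD.nondeg j)
        rw [hD.1.finrank_eq j, ← hi, ← hcdef] at hs
        refine ⟨?_, fun hlt => ?_⟩
        · rw [hs, Nat.add_mul_mod_self_right]
          exact Nat.mod_le _ _
        · rcases Nat.eq_zero_or_pos s with rfl | hs0
          · show a ≤ finrank F ↥(D j ⊓ End.eigenspace f (1 : F))
            omega
          · have := Nat.le_mul_of_pos_left c hs0
            omega
      refine ⟨le_trans ?_ hle, fun hlt => le_trans ?_ hle⟩
      · simpa using Finset.sum_le_sum (s := (Finset.univ : Finset (Fin t))) fun j _ => (hZd j).1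
      · rw [hat, mul_comm]
        simpa using Finset.sum_le_sum (s := (Finset.univ : Finset (Fin t))) fun j _ => (hZd j).2 hlt
    have hinv : ∀ {f : Module.End F (Fin d ⊕ Fin d → F)}
        {D : Fin t → Submodule F (Fin d ⊕ Fin d → F)} {σ : Equiv.Perm (Fin t)},
        (∀ j, (D j).map f = D (σ j)) → (∀ j, σ j = j) → ∀ j, Inv f (D j) := fun hσ hfix j => by
      rw [Lib.Elusive.Inv, hσ, hfix]
    by_cases hca : c ≤ a
    · refine ⟨hca, ?_⟩
      obtain ⟨e, he⟩ : ∃ e, 2 * d % c = 2 * e := by
        refine ⟨d % b, ?_⟩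
        rw [hb, Nat.mul_mod_mul_left]
      obtain ⟨f, hf, hfe, D, hD, σ, hσ⟩ := hhead e (2 * d / c) (Nat.div_pos hc2 hcpos)
        (by rw [← he, mul_comm (2 * d / c)]; exact Nat.mod_add_div _ _)
      have hfix : ∀ j, σ j = j := fun j => by
        by_contra hj
        have h1 := (moved_bounds hD.1 hσ hf.pow hj).1
        have := Nat.mod_lt (2 * d) hcpos
        omega
      have h2 := (hfixed hf hD (hinv hσ hfix)).1
      rw [hfe, ← he] at h2
      have h3 : 2 * d % c = t * (a % c) % c := by rw [hat, mul_comm a t, Nat.mul_mod_mod]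
      have h4 := Nat.mod_le (t * (a % c)) c
      omega
    · rw [Nat.not_le] at hca
      exfalso
      obtain ⟨f, hf, hfe, D, hD, σ, hσ⟩ := hhead (d - b) 1 le_rfl (by rw [one_mul, hb]; omega)
      obtain ⟨j, hj⟩ : ∃ j, σ j ≠ j := by
        by_contra hno
        push Not at hno
        have h2 := (hfixed hf hD (hinv hσ hno)).2 hca
        omega
      have h1 := (moved_bounds hD.1 hσ hf.pow hj).2
      have h3 := Nat.mul_le_mul_right (r - 1) ha
      omega
  · rintro ⟨hca, heq⟩ x ⟨z, hz⟩ -
    obtain ⟨hz2, hg⟩ := scalar_root (by omega) hr2 hrF x hz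
    set g := z • Matrix.toLin' (x : Matrix (Fin d ⊕ Fin d) (Fin d ⊕ Fin d) F) with hgdef
    have hz0 : z ≠ 0 := fun h0 => by simp [h0] at hz2
    have hnd : Nondeg (stdForm d F) ⊤ := fun u _ hu => hg.symp.nondeg u fun y => hu y trivial
    obtain ⟨Z, hZ, -, hZE, hZnd, hEnd, hdim, -⟩ := hg.fixed_split (Inv.top g) hnd
    obtain ⟨s, W, hW, hWW, hWs⟩ := hg.exists_pieces _ Z rfl hZ hZnd hZE
    obtain ⟨-, -, hWd⟩ := orth_family hg.symp W (fun u => (hW u).2.1) hWW
    rw [hWs, Finset.sum_congr rfl fun u _ => (hW u).2.2, Finset.sum_const, Finset.card_univ,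
      Fintype.card_fin, smul_eq_mul, ← hi, ← hcdef] at hWd
    obtain ⟨h, P, hPd, hP, hPP, -⟩ := SympDecomp.exists_planes hg.symp hEnd
    rw [finrank_top, finrank_std, hPd, hWd] at hdim
    obtain ⟨m, hm⟩ : ∃ m, m = a / c := ⟨_, rfl⟩
    have hac : a = a % c + m * c := by rw [hm, mul_comm]; exact (Nat.mod_add_div a c).symm
    have htot : 2 * d = t * (a % c) + t * m * c := by
      rw [mul_assoc, ← Nat.mul_add, ← hac, hat, mul_comm]
    have hsle : s ≤ t * m := by
      by_contra hlt
      have h1 := Nat.mul_le_mul_right c (show t * m + 1 ≤ s by omega)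
      rw [Nat.add_mul, one_mul] at h1
      have h2 : 2 * d % c ≤ 2 * h := by
        rw [hdim, Nat.add_mul_mod_self_right]
        exact Nat.mod_le _ _
      omega
    obtain ⟨gs, hgs, hgsum⟩ := S5958.exists_bounded_sum t m s hsle
    obtain ⟨aa, haa⟩ := hae.two_dvd
    have hgc : ∀ j, gs j * c + 2 * ((a - gs j * c) / 2) = a := fun j => by
      have h1 := Nat.mul_le_mul_right c (hgs j)
      have h2 : gs j * c = 2 * (gs j * b) := by rw [hb]; ring
      omega
    have hk : ∑ j, (a - gs j * c) / 2 = h := by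
      have h2 := Finset.sum_congr (rfl : (Finset.univ : Finset (Fin t)) = _) fun j _ => hgc j
      rw [Finset.sum_add_distrib, ← Finset.sum_mul, ← Finset.mul_sum, hgsum, Finset.sum_const,
        Finset.card_univ, Fintype.card_fin, smul_eq_mul, mul_comm t a, ← hat] at h2
      omega
    have hinj : Function.Injective g := (injective_iff_map_eq_zero g).mpr fun u hu =>
      hg.symp.nondeg u fun y => by rw [← hg.iso u y, hu, map_zero, LinearMap.zero_apply]
    obtain ⟨D, hD, σ, hσ⟩ := group_pieces (c := c) ht (by omega) hat hinj W P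
      (fun u => by rw [hcdef]; exact hW u)
      (fun u => ⟨Inv.of_le_eigenspace ((hP u).1.trans inf_le_right), (hP u).2.1, (hP u).2.2⟩) hWW hPP
      (fun u u' p hp v hv => hg.perp_fixed hZ hZE p (hWs.le (le_iSup W u hp)) v ((hP u').1 hv).2)
      gs _ hgsum hk hgc
    refine ⟨D, hD, σ, fun j => ?_⟩
    rw [← hσ j, hgdef, Submodule.map_smul _ _ _ hz0]

end Cfsg.Agent.S5961
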