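import Cfsg.Statements.S5962
import Cfsg.Agent.Lib.Elusive.SympPlanes
-- import your own Cfsg.Agent.* helpers here

set_option autoImplicit false
open scoped MatrixGroups
open Cfsg

namespace Cfsg.Agent.S5962

/-- Involutions of PSp_n(q), q odd, and the subgroups GL_{n/2}(q).2. Here `T = PSp_n(q)`, `n = 2d ≥ 4`, `q` odd, realised through the symplectic matrices over the field `F` with `q` elements; Ω is the set of unordered pairs `{U, W}` of complementary totally isotropic `d`-spaces (`F^n = U ⊕ W`), whose stabilizers are the subgroups of type GL_d(q).2 (maximal except in some small cases; maximality is not assumed); an element of `T` of prime order `r` (a symplectic matrix `x` with `x^r` scalar, `x` not scalar) fixes such a pair when it fixes or interchanges `U` and `W`. If the number of such pairs is even, every involution of `T` fixes one of them (the action is 2-elusive). -/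
theorem result {F : Type*} [Field F] [Fintype F] {p : ℕ} [Fact p.Prime] [CharP F p] {q : ℕ} (hq : Fintype.card F = q)
    (d : ℕ) (hd : 2 ≤ d) (hT : (d, q) ≠ (2, 2)) (hodd : Odd q)
    (hΩ : 2 ∣ Nat.card {P : Submodule F (Fin d ⊕ Fin d → F) × Submodule F (Fin d ⊕ Fin d → F) // IsCompl P.1 P.2 ∧ (∀ u ∈ P.1, ∀ v ∈ P.1, Cfsg.sympForm d F u v = 0) ∧ (∀ u ∈ P.2, ∀ v ∈ P.2, Cfsg.sympForm d F u v = 0)} / 2)
    (x : ↥(Matrix.symplecticGroup (Fin d) F))
    (hx1 : ∃ z : F, ((x ^ 2 : ↥(Matrix.symplecticGroup (Fin d) F)) : Matrix (Fin d ⊕ Fin d) (Fin d ⊕ Fin d) F) = z • (1 : Matrix (Fin d ⊕ Fin d) (Fin d ⊕ Fin d) F))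
    (hx2 : ∀ z : F, (x : Matrix (Fin d ⊕ Fin d) (Fin d ⊕ Fin d) F) ≠ z • (1 : Matrix (Fin d ⊕ Fin d) (Fin d ⊕ Fin d) F)) :
    ∃ U W : Submodule F (Fin d ⊕ Fin d → F), IsCompl U W ∧ (∀ u ∈ U, ∀ v ∈ U, Cfsg.sympForm d F u v = 0) ∧ (∀ u ∈ W, ∀ v ∈ W, Cfsg.sympForm d F u v = 0) ∧
        ((U.map (Matrix.toLin' (x : Matrix (Fin d ⊕ Fin d) (Fin d ⊕ Fin d) F)) = U ∧ W.map (Matrix.toLin' (x : Matrix (Fin d ⊕ Fin d) (Fin d ⊕ Fin d) F)) = W) ∨
         (U.map (Matrix.toLin' (x : Matrix (Fin d ⊕ Fin d) (Fin d ⊕ Fin d) F)) = W ∧ W.map (Matrix.toLin' (x : Matrix (Fin d ⊕ Fin d) (Fin d ⊕ Fin d) F)) = U)) := by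
  obtain ⟨z, hz⟩ := hx1
  rw [pow_two, Submonoid.coe_mul] at hz
  obtain ⟨B, hB, hsq, hgood⟩ := Lib.Elusive.SympPlanes.standard x hz (by omega)
  set f := Matrix.toLin' (x : Matrix (Fin d ⊕ Fin d) (Fin d ⊕ Fin d) F) with hf
  have h2 : (2 : F) ≠ 0 := by
    refine Ring.two_ne_zero ?_
    intro h
    have := FiniteField.even_card_iff_char_two.mp h
    rw [hq] at this
    obtain ⟨k, hk⟩ := hodd
    omega
  obtain ⟨U, W, hsup, hU, hW, hfix, hswap⟩ :=
    Lib.Elusive.SympPlanes.exists_lagrangians hsq h2 _ ⊤ rfl hgood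
  have hinj : Function.Injective f := fun u v huv => by
    have := congrArg f huv
    rw [hsq.sq, hsq.sq] at this
    exact smul_right_injective _ hsq.ne this
  have hcompl : IsCompl U W := by
    refine ⟨Submodule.disjoint_def.mpr fun u hu hu' => hgood.2 u trivial fun y hy => ?_,
      codisjoint_iff.mpr hsup⟩
    obtain ⟨a, ha, b, hb, rfl⟩ := Submodule.mem_sup.mp (hsup.ge hy)
    rw [map_add, hU u hu a ha, hW u hu' b hb, add_zero]
  refine ⟨U, W, hcompl, fun u hu v hv => by rw [← hB]; exact hU u hu v hv,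
    fun u hu v hv => by rw [← hB]; exact hW u hu v hv, ?_⟩
  have hrank : ∀ X : Submodule F (Fin d ⊕ Fin d → F), Module.finrank F (X.map f) = Module.finrank F X :=
    fun X => (Submodule.equivMapOfInjective f hinj X).finrank_eq.symm
  by_cases hz1 : z = 1
  · exact Or.inl ⟨Submodule.eq_of_le_of_finrank_eq (hfix hz1).1 (hrank U),
      Submodule.eq_of_le_of_finrank_eq (hfix hz1).2 (hrank W)⟩
  · have h1 := Submodule.finrank_mono (hswap hz1).1
    have h3 := Submodule.finrank_mono (hswap hz1).2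
    rw [hrank] at h1 h3
    exact Or.inr ⟨Submodule.eq_of_le_of_finrank_eq (hswap hz1).1 (by rw [hrank]; omega),
      Submodule.eq_of_le_of_finrank_eq (hswap hz1).2 (by rw [hrank]; omega)⟩

end Cfsg.Agent.S5962
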