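import Cfsg.Statements.S5963
import Cfsg.Agent.Lib.Symplectic.Std
import Cfsg.Agent.Lib.Elusive.RootScalar
import Cfsg.Agent.Lib.Elusive.MonomialBasis
-- import your own Cfsg.Agent.* helpers here

set_option autoImplicit false
open scoped MatrixGroups
open Cfsg

namespace Cfsg.Agent.S5963

open Cfsg.Agent.Lib.Symplectic Module

variable {F : Type*} [Field F] {d : ℕ}

/-- A pair of complementary totally singular subspaces. -/
def IsPair (d : ℕ) (P : Submodule F (Fin d ⊕ Fin d → F) × Submodule F (Fin d ⊕ Fin d → F)) : Prop :=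
  IsCompl P.1 P.2 ∧ (∀ u ∈ P.1, ∀ v ∈ P.1, Cfsg.sympForm d F u v = 0) ∧
    (∀ u ∈ P.2, ∀ v ∈ P.2, Cfsg.sympForm d F u v = 0)

def lhalf (F : Type*) [Field F] (d : ℕ) : Submodule F (Fin d ⊕ Fin d → F) :=
  ⨅ i : Fin d, LinearMap.ker (LinearMap.proj (Sum.inr i))

def rhalf (F : Type*) [Field F] (d : ℕ) : Submodule F (Fin d ⊕ Fin d → F) :=
  ⨅ i : Fin d, LinearMap.ker (LinearMap.proj (Sum.inl i))

theorem mem_lhalf {x : Fin d ⊕ Fin d → F} : x ∈ lhalf F d ↔ ∀ i, x (Sum.inr i) = 0 := by
  simp [lhalf, Submodule.mem_iInf]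

theorem mem_rhalf {x : Fin d ⊕ Fin d → F} : x ∈ rhalf F d ↔ ∀ i, x (Sum.inl i) = 0 := by
  simp [rhalf, Submodule.mem_iInf]

theorem isPair_halves : IsPair d (lhalf F d, rhalf F d) := by
  refine ⟨⟨Submodule.disjoint_def.mpr fun x h1 h2 => ?_, ?_⟩, ?_, ?_⟩
  · funext j
    rcases j with j | j
    exacts [mem_rhalf.mp h2 j, mem_lhalf.mp h1 j]
  · rw [codisjoint_iff, eq_top_iff]
    intro x _
    refine Submodule.mem_sup.mpr ⟨Sum.elim (fun i => x (Sum.inl i)) 0, mem_lhalf.mpr fun i => rfl,
      Sum.elim 0 (fun i => x (Sum.inr i)), mem_rhalf.mpr fun i => rfl, ?_⟩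
    funext j
    rcases j with j | j <;> simp
  · intro u hu v hv
    rw [← stdForm_eq_sympForm, stdForm_apply]
    exact Finset.sum_eq_zero fun i _ => by simp [mem_lhalf.mp hu i, mem_lhalf.mp hv i]
  · intro u hu v hv
    rw [← stdForm_eq_sympForm, stdForm_apply]
    exact Finset.sum_eq_zero fun i _ => by simp [mem_rhalf.mp hu i, mem_rhalf.mp hv i]

theorem finrank_le {U W : Submodule F (Fin d ⊕ Fin d → F)} (hs : U ⊔ W = ⊤)
    (hU : ∀ u ∈ U, ∀ v ∈ U, Cfsg.sympForm d F u v = 0) : finrank F U ≤ finrank F W := by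
  let L : U →ₗ[F] Module.Dual F W := ((stdForm d F).compl₁₂ U.subtype W.subtype)
  have hL : Function.Injective L := by
    rw [injective_iff_map_eq_zero]
    intro u hu
    refine Subtype.ext ((isSympForm_stdForm d F).nondeg _ fun y => ?_)
    obtain ⟨a, ha, b, hb, rfl⟩ := Submodule.mem_sup.mp (hs.ge (Submodule.mem_top (x := y)))
    rw [map_add, stdForm_eq_sympForm, hU _ u.2 a ha, zero_add]
    exact LinearMap.congr_fun hu ⟨b, hb⟩
  exact (LinearMap.finrank_le_finrank_of_injective hL).trans (Subspace.dual_finrank_eq).le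

/-- The symplectic group is transitive on the pairs. -/
theorem exists_map_halves {P : Submodule F (Fin d ⊕ Fin d → F) × Submodule F (Fin d ⊕ Fin d → F)}
    (hP : IsPair d P) : ∃ A : Matrix.symplecticGroup (Fin d) F,
      (lhalf F d).map (Matrix.toLin' (A : Matrix (Fin d ⊕ Fin d) (Fin d ⊕ Fin d) F)) = P.1 ∧
      (rhalf F d).map (Matrix.toLin' (A : Matrix (Fin d ⊕ Fin d) (Fin d ⊕ Fin d) F)) = P.2 := by
  classical
  obtain ⟨U, W⟩ := P
  obtain ⟨hc, hU, hW⟩ := hP
  simp only at hc hU hW ⊢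
  have hswap := (isSympForm_stdForm d F).swap
  have h1 := finrank_le hc.sup_eq_top hU
  have h2 := finrank_le (sup_comm U W ▸ hc.sup_eq_top) hW
  have h3 := Submodule.finrank_add_eq_of_isCompl hc
  rw [finrank_std] at h3
  have hUd : finrank F U = d := by omega
  let u : Basis (Fin d) F U := (Module.finBasis F U).reindex (finCongr hUd)
  let L : W →ₗ[F] (Fin d → F) := LinearMap.pi fun i => (stdForm d F (u i : Fin d ⊕ Fin d → F)).comp W.subtype
  have hL : Function.Injective L := by
    rw [injective_iff_map_eq_zero]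
    intro w hw
    refine Subtype.ext ((isSympForm_stdForm d F).nondeg _ fun y => ?_)
    obtain ⟨a, ha, b, hb, rfl⟩ := Submodule.mem_sup.mp (hc.sup_eq_top.ge (Submodule.mem_top (x := y)))
    rw [map_add, stdForm_eq_sympForm (w : Fin d ⊕ Fin d → F) b, hW _ w.2 b hb, add_zero, hswap,
      neg_eq_zero]
    have : ((stdForm d F).flip (w : Fin d ⊕ Fin d → F)).comp U.subtype = 0 :=
      u.ext fun i => congrFun hw i
    exact LinearMap.congr_fun this ⟨a, ha⟩
  have hLs : Function.Surjective L :=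
    (LinearMap.injective_iff_surjective_of_finrank_eq_finrank (by rw [finrank_fin_fun]; omega)).mp hL
  choose w hw using fun j => hLs (-(Pi.single j 1 : Fin d → F))
  have hB : ∀ i j, stdForm d F (u i : Fin d ⊕ Fin d → F) (w j : Fin d ⊕ Fin d → F) = if i = j then -1 else 0 := fun i j => by
    have h4 := congrFun (hw j) i
    rw [Pi.neg_apply, Pi.single_apply] at h4
    refine h4.trans ?_
    split <;> simp
  let g : (Fin d ⊕ Fin d → F) →ₗ[F] (Fin d ⊕ Fin d → F) := Fintype.linearCombination F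
    (Sum.elim (fun i => (u i : Fin d ⊕ Fin d → F)) (fun i => (w i : Fin d ⊕ Fin d → F)))
  have hg : ∀ x, g x = ∑ i, x (Sum.inl i) • (u i : Fin d ⊕ Fin d → F) +
      ∑ i, x (Sum.inr i) • (w i : Fin d ⊕ Fin d → F) := fun x => by
    simp [g, Fintype.linearCombination_apply, Fintype.sum_sum_type]
  have hiso : ∀ x y, stdForm d F (g x) (g y) = stdForm d F x y := by
    intro x y
    have huu : ∀ i j, stdForm d F (u i : Fin d ⊕ Fin d → F) (u j : Fin d ⊕ Fin d → F) = 0 := fun i j => by
      rw [stdForm_eq_sympForm]; exact hU _ (u i).2 _ (u j).2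
    have hww : ∀ i j, stdForm d F (w i : Fin d ⊕ Fin d → F) (w j : Fin d ⊕ Fin d → F) = 0 := fun i j => by
      rw [stdForm_eq_sympForm]; exact hW _ (w i).2 _ (w j).2
    have hwu : ∀ i j, stdForm d F (w i : Fin d ⊕ Fin d → F) (u j : Fin d ⊕ Fin d → F) = if j = i then 1 else 0 := fun i j => by
      rw [hswap, hB]; split <;> simp
    rw [hg, hg]
    conv_rhs => rw [stdForm_apply]
    simp only [map_add, LinearMap.add_apply, map_sum, LinearMap.sum_apply, map_smul,
      LinearMap.smul_apply, huu, hww, hwu, hB, smul_eq_mul, mul_ite, mul_zero, mul_one, mul_neg,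
      Finset.sum_const_zero, Finset.sum_ite_eq, Finset.sum_ite_eq', Finset.mem_univ, if_true, zero_add, add_zero]
    rw [← Finset.sum_add_distrib]
    exact Finset.sum_congr rfl fun i _ => by ring
  have hA : LinearMap.toMatrix' g ∈ Matrix.symplecticGroup (Fin d) F :=
    mem_sp_iff.mpr fun x y => by rw [LinearMap.toMatrix'_mulVec, LinearMap.toMatrix'_mulVec, hiso]
  refine ⟨⟨_, hA⟩, ?_⟩
  rw [Matrix.toLin'_toMatrix']
  have hinj : Function.Injective g := by
    rw [injective_iff_map_eq_zero]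
    intro x hx
    exact (isSympForm_stdForm d F).nondeg x fun y => by rw [← hiso, hx, map_zero, LinearMap.zero_apply]
  have hlU : (lhalf F d).map g ≤ U := by
    rintro _ ⟨x, hx, rfl⟩
    rw [hg, Finset.sum_eq_zero (s := Finset.univ) (f := fun i => x (Sum.inr i) • (w i : Fin d ⊕ Fin d → F))
      (fun i _ => by rw [mem_lhalf.mp hx i, zero_smul]), add_zero]
    exact U.sum_mem fun i _ => U.smul_mem _ (u i).2
  have hrW : (rhalf F d).map g ≤ W := by
    rintro _ ⟨x, hx, rfl⟩
    rw [hg, Finset.sum_eq_zero (s := Finset.univ) (f := fun i => x (Sum.inl i) • (u i : Fin d ⊕ Fin d → F))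
      (fun i _ => by rw [mem_rhalf.mp hx i, zero_smul]), zero_add]
    exact W.sum_mem fun i _ => W.smul_mem _ (w i).2
  have htop : (lhalf F d).map g ⊔ (rhalf F d).map g = ⊤ := by
    rw [← Submodule.map_sup, isPair_halves.1.sup_eq_top, Submodule.map_top,
      LinearMap.range_eq_top.mpr (LinearMap.injective_iff_surjective.mp hinj)]
  constructor
  · refine le_antisymm hlU fun x hx => ?_
    obtain ⟨a, ha, b, hb, rfl⟩ := Submodule.mem_sup.mp (htop.ge (Submodule.mem_top (x := x)))
    have hbU : b ∈ U := by simpa using U.sub_mem hx (hlU ha)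
    rw [(Submodule.disjoint_def.mp hc.disjoint) b hbU (hrW hb), add_zero]
    exact ha
  · refine le_antisymm hrW fun x hx => ?_
    obtain ⟨a, ha, b, hb, rfl⟩ := Submodule.mem_sup.mp (htop.ge (Submodule.mem_top (x := x)))
    have haW : a ∈ W := by simpa using W.sub_mem hx (hrW hb)
    rw [(Submodule.disjoint_def.mp hc.disjoint) a (hlU ha) haW, zero_add]
    exact hb

variable [Fintype F]

/-- If `r` divides the number of pairs, the order of `q` modulo `r` is even and at most `2 d`. -/
theorem order_even {q r : ℕ} [hr : Fact r.Prime] (hr2 : r ≠ 2) (hq : Fintype.card F = q) (hrq : ¬ r ∣ q)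
    (h : r ∣ Nat.card {P // IsPair (F := F) d P}) :
    ∃ e, orderOf (q : ZMod r) = 2 * e ∧ 1 ≤ e ∧ e ≤ d := by
  classical
  let G := Matrix.symplecticGroup (Fin d) F
  let act : MulAction G (Submodule F (Fin d ⊕ Fin d → F) × Submodule F (Fin d ⊕ Fin d → F)) :=
    { smul := fun A P => (P.1.map (Matrix.toLin' (A : Matrix (Fin d ⊕ Fin d) (Fin d ⊕ Fin d) F)),
        P.2.map (Matrix.toLin' (A : Matrix (Fin d ⊕ Fin d) (Fin d ⊕ Fin d) F)))
      one_smul := fun P => by
        show (_, _) = P
        simp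
      mul_smul := fun A B P => by
        show (_, _) = ((P.1.map _).map _, (P.2.map _).map _)
        rw [Submonoid.coe_mul, Matrix.toLin'_mul, Submodule.map_comp, Submodule.map_comp] }
  have horbit : MulAction.orbit G (lhalf F d, rhalf F d) = {P | IsPair (F := F) d P} := by
    ext P
    constructor
    · rintro ⟨A, rfl⟩
      have hiso : ∀ x y, Cfsg.sympForm d F (Matrix.toLin' (A : Matrix (Fin d ⊕ Fin d) (Fin d ⊕ Fin d) F) x)
          (Matrix.toLin' (A : Matrix (Fin d ⊕ Fin d) (Fin d ⊕ Fin d) F) y) = Cfsg.sympForm d F x y := fun x y => by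
        rw [← stdForm_eq_sympForm, ← stdForm_eq_sympForm, Matrix.toLin'_apply, Matrix.toLin'_apply]
        exact mem_sp_iff.mp A.2 x y
      refine ⟨?_, ?_, ?_⟩
      · exact isPair_halves.1.map (Submodule.orderIsoMapComap (spLE A))
      all_goals rintro _ ⟨u, hu, rfl⟩ _ ⟨v, hv, rfl⟩
      all_goals rw [hiso]
      exacts [isPair_halves.2.1 u hu v hv, isPair_halves.2.2 u hu v hv]
    · intro hP
      obtain ⟨A, h1, h2⟩ := exists_map_halves hP
      exact ⟨A, Prod.ext h1 h2⟩
  have hcount : Nat.card {P // IsPair (F := F) d P} *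
      Nat.card (MulAction.stabilizer G (lhalf F d, rhalf F d)) = Nat.card G := by
    rw [← Subgroup.index_mul_card (MulAction.stabilizer G (lhalf F d, rhalf F d)),
      MulAction.index_stabilizer, horbit, ← Nat.card_coe_set_eq]
    rfl
  let φ : GL (Fin d) F →* G :=
    { toFun := fun A => ⟨Matrix.fromBlocks (A : Matrix (Fin d) (Fin d) F) 0 0
          ((A⁻¹ : GL (Fin d) F) : Matrix (Fin d) (Fin d) F).transpose, by
        rw [SymplecticGroup.mem_iff, Matrix.J, Matrix.fromBlocks_transpose, Matrix.fromBlocks_multiply,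
          Matrix.fromBlocks_multiply]
        simp [← Matrix.transpose_mul]⟩
      map_one' := Subtype.ext (by simp)
      map_mul' := fun A B => Subtype.ext (by simp [Matrix.fromBlocks_multiply, Matrix.transpose_mul]) }
  have hφ : Function.Injective φ := fun A B hAB => by
    have := congrArg (fun M : G => (M : Matrix (Fin d ⊕ Fin d) (Fin d ⊕ Fin d) F).toBlocks₁₁) hAB
    exact Units.ext (by simpa [φ] using this)
  have hle : φ.range ≤ MulAction.stabilizer G (lhalf F d, rhalf F d) := by
    rintro _ ⟨A, rfl⟩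
    rw [MulAction.mem_stabilizer_iff]
    refine Prod.ext (Submodule.eq_of_le_of_finrank_eq ?_ ?_) (Submodule.eq_of_le_of_finrank_eq ?_ ?_)
    · rintro _ ⟨x, hx, rfl⟩
      refine mem_lhalf.mpr fun i => ?_
      have hx' : (x ∘ Sum.inr) = 0 := funext fun j => mem_lhalf.mp hx j
      simp [φ, Matrix.fromBlocks_mulVec, hx']
    · exact LinearEquiv.finrank_map_eq (spLE (φ A)) _
    · rintro _ ⟨x, hx, rfl⟩
      refine mem_rhalf.mpr fun i => ?_
      have hx' : (x ∘ Sum.inl) = 0 := funext fun j => mem_rhalf.mp hx j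
      simp [φ, Matrix.fromBlocks_mulVec, hx']
    · exact LinearEquiv.finrank_map_eq (spLE (φ A)) _
  obtain ⟨l, hl⟩ := Subgroup.card_dvd_of_le hle
  rw [Nat.card_congr (MonoidHom.ofInjective hφ).toEquiv.symm, Matrix.card_GL_field, hq] at hl
  rw [hl, card_sp (by rw [Nat.card_eq_fintype_card, hq]) d] at hcount
  have hq1 : 1 < q := hq ▸ Fintype.one_lt_card
  have h2 : ∏ i ∈ Finset.range d, (q ^ (2 * (i + 1)) - 1) =
      (∏ i ∈ Finset.range d, (q ^ (i + 1) - 1)) * ∏ i ∈ Finset.range d, (q ^ (i + 1) + 1) := by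
    rw [← Finset.prod_mul_distrib]
    refine Finset.prod_congr rfl fun i _ => ?_
    rw [mul_comm 2, pow_mul]
    simpa [mul_comm] using Nat.sq_sub_sq (q ^ (i + 1)) 1
  have h3 : ∏ i : Fin d, (q ^ d - q ^ (i : ℕ)) =
      q ^ (∑ i ∈ Finset.range d, i) * ∏ i ∈ Finset.range d, (q ^ (i + 1) - 1) := by
    rw [Fin.prod_univ_eq_prod_range (fun i => q ^ d - q ^ i), ← Finset.prod_range_reflect (fun i => q ^ (i + 1) - 1),
      ← Finset.prod_pow_eq_pow_sum, ← Finset.prod_mul_distrib]
    refine Finset.prod_congr rfl fun i hi => ?_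
    rw [Finset.mem_range] at hi
    rw [Nat.mul_sub_one, ← pow_add, show i + (d - 1 - i + 1) = d by omega]
  rw [h2, h3] at hcount
  have hpos : 0 < ∏ i ∈ Finset.range d, (q ^ (i + 1) - 1) :=
    Finset.prod_pos fun i _ => Nat.sub_pos_of_lt (Nat.one_lt_pow (Nat.succ_ne_zero i) hq1)
  have h4 : Nat.card {P // IsPair (F := F) d P} * (q ^ (∑ i ∈ Finset.range d, i) * l) =
      q ^ d ^ 2 * ∏ i ∈ Finset.range d, (q ^ (i + 1) + 1) :=
    Nat.eq_of_mul_eq_mul_left hpos (by linear_combination hcount)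
  have h5 : r ∣ q ^ d ^ 2 * ∏ i ∈ Finset.range d, (q ^ (i + 1) + 1) := h4 ▸ h.mul_right _
  have h6 := (hr.out.dvd_mul.mp h5).resolve_left fun hd => hrq (hr.out.dvd_of_dvd_pow hd)
  obtain ⟨j, hj, hjd⟩ := (Prime.dvd_finset_prod_iff hr.out.prime _).mp h6
  rw [Finset.mem_range] at hj
  rw [← ZMod.natCast_eq_zero_iff, Nat.cast_add, Nat.cast_pow, Nat.cast_one] at hjd
  have h8 : (1 : ZMod r) ≠ -1 := by
    intro hcon
    have : ((2 : ℕ) : ZMod r) = 0 := by rw [Nat.cast_two]; linear_combination hcon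
    rw [ZMod.natCast_eq_zero_iff] at this
    exact hr2 ((Nat.prime_dvd_prime_iff_eq hr.out Nat.prime_two).mp this)
  have hord : orderOf (q : ZMod r) ∣ 2 * (j + 1) := orderOf_dvd_of_pow_eq_one (by
    rw [mul_comm, pow_mul, eq_neg_of_add_eq_zero_left hjd, neg_one_sq])
  have hpos' : 0 < orderOf (q : ZMod r) := Nat.pos_of_dvd_of_pos hord (by omega)
  rcases Nat.even_or_odd (orderOf (q : ZMod r)) with ⟨e, he⟩ | hodd
  · exact ⟨e, by omega, by omega, by have := Nat.le_of_dvd (by omega) hord; omega⟩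
  · exfalso
    have h7 : orderOf (q : ZMod r) ∣ j + 1 :=
      (Nat.Coprime.dvd_mul_left (Nat.coprime_two_right.mpr hodd)).mp hord
    rw [orderOf_dvd_iff_pow_eq_one.mp h7] at hjd
    exact h8 (eq_neg_of_add_eq_zero_left hjd)

theorem no_pair {V : Type*} [AddCommGroup V] [Module F V] [FiniteDimensional F V]
    {B : V →ₗ[F] V →ₗ[F] F} (hB : IsSympForm B) {f : Module.End F V} {c : ℕ}
    (hu : Lib.Elusive.IsUniform f 1 c) (hiso : ∀ u v, B (f u) (f v) = B u v)
    (hdim : finrank F V = finrank F (End.eigenspace f (1 : F)) + c) {U W : Submodule F V}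
    (hc : IsCompl U W) (hU : ∀ u ∈ U, ∀ v ∈ U, B u v = 0) (hW : ∀ u ∈ W, ∀ v ∈ W, B u v = 0)
    (hUf : U.map f ≤ U) (hWf : W.map f ≤ W) : False := by
  have key : ∀ X : Submodule F V, X.map f ≤ X → (∀ u ∈ X, ∀ v ∈ X, B u v = 0) →
      X ≤ End.eigenspace f (1 : F) := by
    intro X hX hXs
    by_contra hne
    have hlt : finrank F ↥(X ⊓ End.eigenspace f (1 : F)) < finrank F X :=
      Submodule.finrank_lt_finrank_of_lt (lt_of_le_of_ne inf_le_left fun he => hne (he ▸ inf_le_right))
    obtain ⟨P, hPX, hP⟩ := hu.exists_piece hX hlt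
    have hPd : finrank F P = c := by rw [hP.2.2, zero_add, one_mul]
    have hPE : P ⊓ End.eigenspace f (1 : F) = ⊥ := Submodule.finrank_eq_zero.mp hP.2.1
    have htop : P ⊔ End.eigenspace f (1 : F) = ⊤ := Submodule.eq_top_of_finrank_eq (by
      have h1 := Submodule.finrank_sup_add_finrank_inf_eq P (End.eigenspace f (1 : F))
      rw [hPE, finrank_bot] at h1
      omega)
    -- `f - 1` maps `P` onto itself, and its image is orthogonal to the fixed space
    have hperp : ∀ p ∈ P, ∀ v ∈ End.eigenspace f (1 : F), B p v = 0 := by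
      intro p hp v hv
      have hinj : Function.Injective ((f - 1).restrict (p := P) (q := P) fun x hx => by
          rw [LinearMap.sub_apply, Module.End.one_apply]
          exact P.sub_mem (hP.1.mem hx) hx) := by
        rw [injective_iff_map_eq_zero]
        intro x hx
        have hx' : (x : V) ∈ P ⊓ End.eigenspace f (1 : F) := ⟨x.2, End.mem_eigenspace_iff.mpr (by
          rw [one_smul]; exact eq_of_sub_eq_zero (congrArg Subtype.val hx))⟩
        rw [hPE] at hx'
        exact Subtype.ext hx'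
      obtain ⟨y, hy⟩ := LinearMap.injective_iff_surjective.mp hinj ⟨p, hp⟩
      have hy' : f (y : V) - (y : V) = p := congrArg Subtype.val hy
      have hfv : f v = v := by simpa using End.mem_eigenspace_iff.mp hv
      rw [← hy', map_sub, LinearMap.sub_apply]
      have h2 := hiso (y : V) v
      rw [hfv] at h2
      rw [h2, sub_self]
    have hPbot : P = ⊥ := by
      rw [Submodule.eq_bot_iff]
      intro p hp
      refine hB.nondeg p fun y => ?_
      obtain ⟨a, ha, b, hb, rfl⟩ := Submodule.mem_sup.mp (htop.ge (Submodule.mem_top (x := y)))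
      rw [map_add, hXs p (hPX hp) a (hPX ha), hperp p hp b hb, add_zero]
    rw [hPbot, finrank_bot] at hPd
    exact absurd hPd.symm hu.pos.ne'
  have htop := (sup_le (key U hUf hU) (key W hWf hW))
  rw [hc.sup_eq_top, top_le_iff] at htop
  rw [htop, finrank_top] at hdim
  have := hu.pos
  omega

/-- Derangements of odd prime order of PSp_n(q), q odd, on pairs of complementary totally isotropic subspaces. Here `T = PSp_n(q)`, `n = 2d ≥ 4`, `q` odd, realised through the symplectic matrices over the field `F` with `q` elements; Ω is the set of unordered pairs `{U, W}` of complementary totally isotropic `d`-spaces (`F^n = U ⊕ W`), whose stabilizers are the subgroups of type GL_d(q).2 (maximal except in some small cases; maximality is not assumed); an element of `T` of prime order `r` (a symplectic matrix `x` with `x^r` scalar, `x` not scalar) fixes such a pair when it fixes or interchanges `U` and `W`. For every odd prime `r ≠ p` dividing the number of such pairs, some element of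 `T` of order `r` fixes no such pair (the action is never `r`-elusive for odd `r ≠ p`). -/
theorem result {F : Type*} [Field F] [Fintype F] {p : ℕ} [Fact p.Prime] [CharP F p] {q : ℕ} (hq : Fintype.card F = q)
    (d : ℕ) (hd : 2 ≤ d) (hT : (d, q) ≠ (2, 2)) (hodd : Odd q)
    (r : ℕ) [Fact r.Prime] (hr2 : r ≠ 2) (hrp : r ≠ p) (hΩ : r ∣ Nat.card {P : Submodule F (Fin d ⊕ Fin d → F) × Submodule F (Fin d ⊕ Fin d → F) // IsCompl P.1 P.2 ∧ (∀ u ∈ P.1, ∀ v ∈ P.1, Cfsg.sympForm d F u v = 0) ∧ (∀ u ∈ P.2, ∀ v ∈ P.2, Cfsg.sympForm d F u v = 0)} / 2) :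
    ∃ x : ↥(Matrix.symplecticGroup (Fin d) F),
      (∃ z : F, ((x ^ r : ↥(Matrix.symplecticGroup (Fin d) F)) : Matrix (Fin d ⊕ Fin d) (Fin d ⊕ Fin d) F) = z • (1 : Matrix (Fin d ⊕ Fin d) (Fin d ⊕ Fin d) F)) ∧
      (∀ z : F, (x : Matrix (Fin d ⊕ Fin d) (Fin d ⊕ Fin d) F) ≠ z • (1 : Matrix (Fin d ⊕ Fin d) (Fin d ⊕ Fin d) F)) ∧
      ¬ (∃ U W : Submodule F (Fin d ⊕ Fin d → F), IsCompl U W ∧ (∀ u ∈ U, ∀ v ∈ U, Cfsg.sympForm d F u v = 0) ∧ (∀ u ∈ W, ∀ v ∈ W, Cfsg.sympForm d F u v = 0) ∧
        ((U.map (Matrix.toLin' (x : Matrix (Fin d ⊕ Fin d) (Fin d ⊕ Fin d) F)) = U ∧ W.map (Matrix.toLin' (x : Matrix (Fin d ⊕ Fin d) (Fin d ⊕ Fin d) F)) = W) ∨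
         (U.map (Matrix.toLin' (x : Matrix (Fin d ⊕ Fin d) (Fin d ⊕ Fin d) F)) = W ∧ W.map (Matrix.toLin' (x : Matrix (Fin d ⊕ Fin d) (Fin d ⊕ Fin d) F)) = U))) := by
  classical
  subst hq
  set q := Fintype.card F with hqdef
  have hrq : ¬ r ∣ q := fun hd => by
    obtain ⟨e, -, he⟩ := FiniteField.card F p
    rw [← hqdef] at he
    rw [he] at hd
    exact hrp ((Nat.prime_dvd_prime_iff_eq Fact.out Fact.out).mp ((Fact.out : r.Prime).dvd_of_dvd_pow hd))
  have hrF : (r : F) ≠ 0 := fun h0 =>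
    hrp ((Nat.prime_dvd_prime_iff_eq Fact.out Fact.out).mp ((CharP.cast_eq_zero_iff F p r).mp h0)).symm
  -- the number of ordered pairs is even
  have hr : r ∣ Nat.card {P // IsPair (F := F) d P} := by
    haveI : Fintype {P // IsPair (F := F) d P} := Fintype.ofFinite _
    let π : Equiv.Perm {P // IsPair (F := F) d P} :=
      Function.Involutive.toPerm (fun P => ⟨(P.1.2, P.1.1), P.2.1.symm, P.2.2.2, P.2.2.1⟩) fun P => rfl
    have hfix : Nat.card {P // π P = P} = 0 := by
      rw [Nat.card_eq_zero]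
      refine Or.inl ⟨fun ⟨P, hP⟩ => ?_⟩
      have h1 : P.1.2 = P.1.1 := congrArg (fun Q : {P // IsPair (F := F) d P} => Q.1.1) hP
      have h2 := P.2.1
      rw [h1] at h2
      have h3 : (⊤ : Submodule F (Fin d ⊕ Fin d → F)) = ⊥ := by
        rw [← h2.sup_eq_top, sup_idem, ← inf_idem P.1.1, h2.inf_eq_bot]
      have h4 := congrArg (fun X : Submodule F (Fin d ⊕ Fin d → F) => finrank F X) h3
      simp only [finrank_top, finrank_bot, finrank_std] at h4
      omega
    have hev := Lib.Elusive.MonomialBasis.card_mod_two π (Equiv.ext fun P => rfl)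
    rw [hfix, ← Nat.card_eq_fintype_card] at hev
    exact hΩ.trans (Nat.div_dvd_of_dvd (Nat.dvd_of_mod_eq_zero hev.symm))
  obtain ⟨e, he, he1, hed⟩ := order_even (F := F) (d := d) hr2 rfl hrq hr
  obtain ⟨d', rfl⟩ : ∃ d', d = e + d' := ⟨d - e, by omega⟩
  -- an element of order `r` of the small symplectic group
  obtain ⟨g, hg⟩ := exists_prime_orderOf_dvd_card' r (show r ∣ Nat.card (Matrix.symplecticGroup (Fin e) F) by
    rw [card_sp (q := q) (by rw [Nat.card_eq_fintype_card]) e]
    refine dvd_mul_of_dvd_right (dvd_trans ?_ (Finset.dvd_prod_of_mem _ (Finset.mem_range.mpr (show e - 1 < e by omega)))) _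
    rw [← ZMod.natCast_eq_zero_iff, Nat.cast_sub (Nat.one_le_pow _ _ Fintype.card_pos),
      Nat.cast_pow, Nat.cast_one, sub_eq_zero, show e - 1 + 1 = e by omega, ← he]
    exact pow_orderOf_eq_one _)
  set g₀ : Module.End F (Fin e ⊕ Fin e → F) := Matrix.toLin' (g : Matrix (Fin e ⊕ Fin e) (Fin e ⊕ Fin e) F)
  have hg₀r : g₀ ^ r = 1 := by
    rw [← Matrix.toLin'_pow, ← SubmonoidClass.coe_pow, ← hg, pow_orderOf_eq_one, Submonoid.coe_one,
      Matrix.toLin'_one]
    rfl
  have hu₀ : Lib.Elusive.IsUniform g₀ 1 (orderOf (q : ZMod r)) :=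
    Lib.Elusive.isUniform_split hrF one_ne_zero (by rw [one_pow, one_smul, hg₀r])
  have hE₀ : End.eigenspace g₀ (1 : F) = ⊥ := by
    obtain ⟨k, hk⟩ := hu₀.exists_type (Lib.Elusive.Inv.top g₀)
    have h1 := hk.2.2
    rw [top_inf_eq, finrank_top, finrank_std, he] at h1
    rcases Nat.eq_zero_or_pos k with rfl | hk0
    · exfalso
      have htop : End.eigenspace g₀ (1 : F) = ⊤ := Submodule.eq_top_of_finrank_eq (by rw [finrank_std]; omega)
      have h2 : g = 1 := Subtype.ext (Matrix.toLin'.injective (LinearMap.ext fun v => by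
        have := End.mem_eigenspace_iff.mp (htop.ge (Submodule.mem_top (x := v)))
        rw [one_smul] at this
        rw [Submonoid.coe_one, Matrix.toLin'_one, LinearMap.id_apply]
        exact this))
      rw [h2, orderOf_one] at hg
      exact (Fact.out : r.Prime).one_lt.ne hg
    · exact Submodule.finrank_eq_zero.mp (by
        have := Nat.le_mul_of_pos_left (2 * e) hk0
        omega)
  -- extend by the identity
  let B' : ((Fin e ⊕ Fin e → F) × (Fin d' ⊕ Fin d' → F)) →ₗ[F]
      ((Fin e ⊕ Fin e → F) × (Fin d' ⊕ Fin d' → F)) →ₗ[F] F :=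
    (stdForm e F).compl₁₂ (LinearMap.fst F _ _) (LinearMap.fst F _ _) +
      (stdForm d' F).compl₁₂ (LinearMap.snd F _ _) (LinearMap.snd F _ _)
  have hB'a : ∀ x y, B' x y = stdForm e F x.1 y.1 + stdForm d' F x.2 y.2 := fun x y => rfl
  have hB' : IsSympForm B' := ⟨fun x => by rw [hB'a, (isSympForm_stdForm e F).self, (isSympForm_stdForm d' F).self, add_zero],
    fun x hx => Prod.ext ((isSympForm_stdForm e F).nondeg _ fun y => by simpa [hB'a] using hx (y, 0))
      ((isSympForm_stdForm d' F).nondeg _ fun y => by simpa [hB'a] using hx (0, y))⟩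
  obtain ⟨m, hm, T, hT⟩ := exists_std hB'
  rw [finrank_prod, finrank_std, finrank_std] at hm
  obtain rfl : m = e + d' := by omega
  let f' : Module.End F ((Fin e ⊕ Fin e → F) × (Fin d' ⊕ Fin d' → F)) := g₀.prodMap 1
  let f : Module.End F (Fin (e + d') ⊕ Fin (e + d') → F) := T.symm.toLinearMap ∘ₗ f' ∘ₗ T.toLinearMap
  have hfT : ∀ v, T (f v) = f' (T v) := fun v => T.apply_symm_apply _
  have hiso : ∀ u v, stdForm (e + d') F (f u) (f v) = stdForm (e + d') F u v := fun u v => by
    rw [← hT, ← hT, hfT, hfT, hB'a, hB'a]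
    congr 1
    exact mem_sp_iff.mp g.2 _ _
  have hfr : f ^ r = 1 := by
    have hpow : ∀ k v, T ((f ^ k) v) = (f' ^ k) (T v) := by
      intro k
      induction k with
      | zero => intro v; rfl
      | succ k ih => intro v; rw [pow_succ', pow_succ', Module.End.mul_apply, Module.End.mul_apply, hfT, ih]
    refine LinearMap.ext fun v => T.injective ?_
    rw [hpow]
    have : ∀ k (z : (Fin e ⊕ Fin e → F) × (Fin d' ⊕ Fin d' → F)), (f' ^ k) z = ((g₀ ^ k) z.1, z.2) := by
      intro k
      induction k with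
      | zero => intro z; rfl
      | succ k ih => intro z; rw [pow_succ', pow_succ', Module.End.mul_apply, Module.End.mul_apply, ih]; rfl
    rw [this, hg₀r]
    rfl
  have hu : Lib.Elusive.IsUniform f 1 (orderOf (q : ZMod r)) :=
    Lib.Elusive.isUniform_split hrF one_ne_zero (by rw [one_pow, one_smul, hfr])
  have hdim : finrank F (Fin (e + d') ⊕ Fin (e + d') → F) =
      finrank F (End.eigenspace f (1 : F)) + orderOf (q : ZMod r) := by
    have h1 : (End.eigenspace f (1 : F)).map T.toLinearMap =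
        Submodule.prod ⊥ (⊤ : Submodule F (Fin d' ⊕ Fin d' → F)) := by
      refine le_antisymm ?_ ?_
      · rintro _ ⟨v, hv, rfl⟩
        have h2 : f v = v := by simpa using End.mem_eigenspace_iff.mp hv
        have h3 := hfT v
        rw [h2] at h3
        refine ⟨?_, trivial⟩
        rw [← hE₀, SetLike.mem_coe, End.mem_eigenspace_iff, one_smul]
        exact (congrArg Prod.fst h3).symm
      · rintro ⟨a, b⟩ ⟨ha, -⟩
        rw [SetLike.mem_coe, Submodule.mem_bot] at ha
        refine ⟨T.symm (a, b), End.mem_eigenspace_iff.mpr ?_, T.apply_symm_apply _⟩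
        refine T.injective ?_
        rw [one_smul, hfT, T.apply_symm_apply]
        subst ha
        simp [f']
    have h2 := LinearEquiv.finrank_map_eq T (End.eigenspace f (1 : F))
    rw [h1] at h2
    have h3 : finrank F ↥(Submodule.prod (⊥ : Submodule F (Fin e ⊕ Fin e → F)) (⊤ : Submodule F (Fin d' ⊕ Fin d' → F))) = 2 * d' := by
      rw [show Submodule.prod (⊥ : Submodule F (Fin e ⊕ Fin e → F)) (⊤ : Submodule F (Fin d' ⊕ Fin d' → F)) =
          LinearMap.range (LinearMap.inr F _ _) by ext ⟨a, b⟩; simp [eq_comm],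
        LinearMap.finrank_range_of_inj LinearMap.inr_injective, finrank_std]
    rw [finrank_std, ← h2, h3, he]
    ring
  have hmem : LinearMap.toMatrix' f ∈ Matrix.symplecticGroup (Fin (e + d')) F :=
    mem_sp_iff.mpr fun x y => by rw [LinearMap.toMatrix'_mulVec, LinearMap.toMatrix'_mulVec, hiso]
  refine ⟨⟨_, hmem⟩, ⟨1, ?_⟩, fun z hz => ?_, ?_⟩
  · refine Matrix.toLin'.injective ?_
    rw [SubmonoidClass.coe_pow, Matrix.toLin'_pow, Matrix.toLin'_toMatrix', hfr, one_smul, Matrix.toLin'_one]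
    rfl
  · have hfz : f = z • 1 := by
      have := congrArg Matrix.toLin' hz
      rwa [Matrix.toLin'_toMatrix', map_smul, Matrix.toLin'_one] at this
    obtain ⟨u, v, huv⟩ : ∃ u v, stdForm (e + d') F u v ≠ 0 := by
      by_contra hne
      push Not at hne
      have h1 := (isSympForm_stdForm (e + d') F).nondeg (fun _ => 1) (hne _)
      exact one_ne_zero (congrFun h1 (Sum.inl ⟨0, by omega⟩))
    have hz2 : z ^ 2 = 1 := by
      have h1 := hiso u v
      rw [hfz] at h1
      simp only [LinearMap.smul_apply, Module.End.one_apply, map_smul, smul_eq_mul] at h1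
      exact mul_right_cancel₀ huv (by linear_combination h1)
    have hzr : z ^ r = 1 := by
      have h1 := LinearMap.congr_fun hfr (Pi.single (Sum.inl ⟨0, by omega⟩) 1)
      rw [hfz, _root_.smul_pow, one_pow] at h1
      simpa using congrFun h1 (Sum.inl ⟨0, by omega⟩)
    have hz1 : z = 1 := by
      obtain ⟨k, hk⟩ := (Fact.out : r.Prime).odd_of_ne_two hr2
      rw [hk, pow_succ, pow_mul, hz2, one_pow, one_mul] at hzr
      exact hzr
    have htop : End.eigenspace f (1 : F) = ⊤ := by
      rw [eq_top_iff]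
      intro v _
      rw [End.mem_eigenspace_iff, hfz, hz1]
      simp
    rw [htop, finrank_top] at hdim
    have := hu.pos
    omega
  · rintro ⟨U, W, hc, hU, hW, hmap⟩
    rw [Matrix.toLin'_toMatrix'] at hmap
    rcases hmap with ⟨h1, h2⟩ | ⟨h1, h2⟩
    · exact no_pair (isSympForm_stdForm (e + d') F) hu hiso hdim hc
        (fun u hu' v hv => by rw [stdForm_eq_sympForm]; exact hU u hu' v hv)
        (fun u hu' v hv => by rw [stdForm_eq_sympForm]; exact hW u hu' v hv) h1.le h2.le
    · obtain ⟨k, hk⟩ := (Fact.out : r.Prime).odd_of_ne_two hr2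
      have h3 : ∀ k, U.map (f ^ (2 * k)) = U := by
        intro k
        induction k with
        | zero => simp [Module.End.one_eq_id]
        | succ k ih => rw [Nat.mul_succ, pow_add, Module.End.mul_eq_comp, Submodule.map_comp,
            pow_two, Module.End.mul_eq_comp, Submodule.map_comp, h1, h2, ih]
      have h4 : U = W := by
        have := congrArg (fun X : Submodule F (Fin (e + d') ⊕ Fin (e + d') → F) => X.map f) (h3 k)
        simp only [← Submodule.map_comp, ← Module.End.mul_eq_comp, ← pow_succ', ← hk, hfr, h1] at this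
        rwa [Module.End.one_eq_id, Submodule.map_id] at this
      subst h4
      have h5 : (⊤ : Submodule F (Fin (e + d') ⊕ Fin (e + d') → F)) = ⊥ := by
        rw [← hc.sup_eq_top, sup_idem, ← inf_idem U, hc.inf_eq_bot]
      have h6 := congrArg (fun X : Submodule F (Fin (e + d') ⊕ Fin (e + d') → F) => finrank F X) h5
      simp only [finrank_top, finrank_bot, finrank_std] at h6
      omega

end Cfsg.Agent.S5963
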