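import Cfsg.Statements.S5965
import Cfsg.Agent.Lib.SubfieldElusive.Fix

set_option autoImplicit false
open scoped MatrixGroups
open Cfsg

namespace Cfsg.Agent.S5965

/-- Elements of odd prime order r ≠ p of PSL_n(q) and subfield subgroups. Here `T = PSL_n(F)` for a field `F` with `q = p^f` elements (`n ≥ 2`, `(n, q) ≠ (2, 2), (2, 3)`), `F₀` is the subfield with `q₀` elements where `q = q₀^k` for a prime `k`, and `H` is the subgroup of matrices of determinant 1 lying in the subfield group of `F₀` (invertible matrices over `F₀` times scalars) — a maximal subgroup of type GL_n(q₀) (the case `n = 2`, `q₀ = 2` is excluded); Ω is the set of `T`-conjugates of `H` (cosets of `H`), so an element of `T` of prime order `r` (a matrix `x` of determinant 1 with `x^r` scalar, `x` not scalar) fixes a point of Ω when some conjugate of `x` by a matrix of determinant 1 lies in `H`. Let `r ≠ p` be an odd prime dividing the index of `H`, with `(n, r) ≠ (6, 3)` and, when `r = k` divides `q₀ − 1`, with `(n)_r ≤ (q − 1)_r`.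 Then every element of `T` of order `r` is conjugate in `T` into `H` if and only if `r = k`, or `k = 2`, `r = n ∈ {3, 5}` and `(q₀ + 1)_r = r`. The two excluded cases, `(n, r) = (6, 3)` and `r = k ∣ q₀ − 1` with `(n)_r > (q − 1)_r`, are ones where this criterion can fail, so they are left out. -/
theorem result {F : Type*} [Field F] [Fintype F] {p : ℕ} [Fact p.Prime] [CharP F p] {q : ℕ} (hq : Fintype.card F = q)
    (n : ℕ) (hn : 2 ≤ n) (hT : (n, q) ≠ (2, 2) ∧ (n, q) ≠ (2, 3))
    (F₀ : Subfield F) (k q₀ : ℕ) (hk : k.Prime) (hF₀ : Nat.card ↥F₀ = q₀) (hqk : q = q₀ ^ k) (hC5 : ¬ (n = 2 ∧ q₀ = 2)) (r : ℕ) [Fact r.Prime] (hr2 : r ≠ 2) (hrp : r ≠ p) (hgap : ¬ (n = 6 ∧ r = 3)) (hgapk : r = k → r ∣ q₀ - 1 → padicValNat r n ≤ padicValNat r (q - 1)) (hΩ : r ∣ ((Cfsg.Geo.subfieldSubgroup F₀ 1).comap (Matrix.SpecialLinearGroup.toGL : Matrix.SpecialLinearGroup (Fin n) F →* GL (Fin n) F)).index) :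
    (∀ x : Matrix.SpecialLinearGroup (Fin n) F,
      (∃ z : F, ((x ^ r : Matrix.SpecialLinearGroup (Fin n) F) : Matrix (Fin n) (Fin n) F) = z • (1 : Matrix (Fin n) (Fin n) F)) →
      (∀ z : F, (x : Matrix (Fin n) (Fin n) F) ≠ z • (1 : Matrix (Fin n) (Fin n) F)) →
      ∃ P : Matrix.SpecialLinearGroup (Fin n) F, P⁻¹ * x * P ∈ ((Cfsg.Geo.subfieldSubgroup F₀ 1).comap (Matrix.SpecialLinearGroup.toGL : Matrix.SpecialLinearGroup (Fin n) F →* GL (Fin n) F))) ↔
    (r = k ∨ (k = 2 ∧ r = n ∧ (n = 3 ∨ n = 5) ∧ padicValNat r (q₀ + 1) = 1)) := by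
  classical
  subst hq
  have hrF : (r : F) ≠ 0 := fun h0 => hrp
    ((Nat.prime_dvd_prime_iff_eq Fact.out Fact.out).mp ((CharP.cast_eq_zero_iff F p r).mp h0)).symm
  have hr : r.Prime := Fact.out
  have hn0 : 0 < n := by omega
  have hq1 : 1 < q₀ := hF₀ ▸ Finite.one_lt_card
  set Q : ZMod r := (q₀ : ZMod r) with hQdef
  have hqQ : (Fintype.card F : ZMod r) = Q ^ k := by rw [hqk, Nat.cast_pow]
  have hone : r ∣ Fintype.card F - 1 ↔ Q ^ k = 1 := by
    rw [← hqQ, ← ZMod.natCast_eq_zero_iff, Nat.cast_sub Fintype.card_pos, Nat.cast_one, sub_eq_zero]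
  constructor
  · intro h
    by_contra hne
    have hrk : r ≠ k := fun e => hne (Or.inl e)
    obtain ⟨j, hj2, hjn, hqj, hQj⟩ :=
      Lib.SubfieldElusive.arith_of_index hF₀ hqk hn0 hk hrk hrF hΩ
    obtain ⟨x, hz, hns, hno⟩ : ∃ x : Matrix.SpecialLinearGroup (Fin n) F,
        Lib.SubfieldElusive.IsMover F₀ r x := by
      by_cases h1 : r ∣ Fintype.card F - 1
      · have hQk := hone.mp h1
        have hQ1 : Q ≠ 1 := fun e => hQj (by rw [← hQdef, e, one_pow])
        rcases eq_or_ne k 2 with rfl | hk2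
        · have hQm : Q = -1 := (sq_eq_one_iff.mp hQk).resolve_left hQ1
          have hd : r ∣ q₀ + 1 := by
            rw [← ZMod.natCast_eq_zero_iff, Nat.cast_add, Nat.cast_one, ← hQdef, hQm]; ring
          have hjo : Odd j := by
            by_contra hev
            exact hQj (by rw [← hQdef, hQm, (Nat.not_odd_iff_even.mp hev).neg_one_pow])
          obtain ⟨t, ht⟩ := hjo
          exact Lib.SubfieldElusive.exists_mover_inverted hF₀ (by omega) hr2 hd hgap
            (fun hc => hne (Or.inr ⟨rfl, hc⟩)) hqk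
        · haveI := Fact.mk hk
          have hord : orderOf Q = k := orderOf_eq_prime hQk hQ1
          have hQ2 : Q ^ 2 ≠ 1 := fun e => hk2
            ((Nat.prime_dvd_prime_iff_eq hk Nat.prime_two).mp (hord ▸ orderOf_dvd_of_pow_eq_one e))
          have hQ0 : Q ≠ 0 := fun e => by
            rw [e, zero_pow hk.ne_zero] at hQk
            exact zero_ne_one hQk
          have hr5 : 5 ≤ r := by
            have h3 : 3 ≤ k := lt_of_le_of_ne hk.two_le (Ne.symm hk2)
            have hd := hord ▸ ZMod.orderOf_dvd_card_sub_one hQ0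
            have hr3 := hr.two_le
            have := Nat.le_of_dvd (by omega) hd
            rcases Nat.lt_or_ge r 5 with h | h
            · have : r = 4 := by omega
              exact absurd hr (this ▸ by norm_num)
            · exact h
          obtain ⟨u, hu⟩ := exists_prime_orderOf_dvd_card r
            (show r ∣ Fintype.card Fˣ by rwa [Fintype.card_units])
          exact Lib.SubfieldElusive.exists_mover_roots_three hF₀ hn hr5
            (ζ := (u : F)) (by rw [orderOf_units, hu]) hQ0 hQ2
      · have hd : orderOf (Fintype.card F : ZMod r) ∣ j := orderOf_dvd_of_pow_eq_one hqj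
        refine Lib.SubfieldElusive.exists_mover_orbit hF₀ hqk hrF h1
          ((Nat.le_of_dvd (by omega) hd).trans hjn) fun e => ?_
        obtain ⟨t, ht⟩ := hd
        exact hQj (by rw [ht, pow_mul, e, one_pow])
    exact hno (h x hz hns)
  · rintro (rfl | ⟨rfl, hrn, h35, hv⟩) x ⟨z, hz⟩ _
    · have hqr : Q = (Fintype.card F : ZMod r) := by rw [hqQ, ZMod.pow_card]
      have hz' := hz
      rw [Lib.Elusive.Linear.eq_smul_one_iff, Lib.Elusive.Linear.toLin_pow] at hz'
      have hz0 : z ≠ 0 := fun h0 => by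
        have h1 := congrArg LinearMap.det hz'
        rw [map_pow, LinearMap.det_toLin', x.2, one_pow, h0, LinearMap.det_smul,
          Module.finrank_fin_fun, zero_pow (by omega), zero_mul] at h1
        exact one_ne_zero h1
      obtain ⟨μ, hμ⟩ : ∃ μ : F, μ ^ r = z := by
        by_contra hc
        push Not at hc
        by_cases h1 : r ∣ Fintype.card F - 1
        · obtain ⟨s, hs, hdet⟩ := Lib.Elusive.nonsplit_det hc hz'
          rw [Module.finrank_fin_fun] at hs
          rw [LinearMap.det_toLin', x.2] at hdet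
          have hd0 : r ∣ q₀ - 1 := by
            rw [← ZMod.natCast_eq_zero_iff, Nat.cast_sub (by omega), Nat.cast_one, ← hQdef,
              ← ZMod.pow_card Q, hone.mp h1, sub_self]
          exact (Lib.Elusive.Linear.exists_nonsplit_scalar_iff h1 hs (by omega)).mp
            ⟨z, hc, hdet.symm⟩ ⟨hgapk rfl hd0, fun h2 => absurd h2 hr2⟩
        · have hcop : (Nat.card Fˣ).Coprime r := by
            rw [Nat.card_units, Nat.card_eq_fintype_card, Nat.coprime_comm, hr.coprime_iff_not_dvd]
            exact h1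
          obtain ⟨μ, hμ⟩ := (powCoprime hcop).surjective (Units.mk0 z hz0)
          exact hc μ (by simpa using congrArg Units.val hμ)
      have hμ0 : μ ≠ 0 := fun h0 => hz0 (by rw [← hμ, h0, zero_pow hr.ne_zero])
      exact Lib.SubfieldElusive.fixes_split hF₀ hn0 hrF hqr x hμ0 (by rw [hμ]; exact hz')
    · exact Lib.SubfieldElusive.fixes_exc hF₀ hqk (by omega) hrn.symm hrF hv x hz

end Cfsg.Agent.S5965
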