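import Cfsg.Statements.S5966
import Cfsg.Agent.S5964
import Cfsg.Agent.Lib.JordanType.Conj
-- import your own Cfsg.Agent.* helpers here

set_option autoImplicit false
open scoped MatrixGroups
open Cfsg

namespace Cfsg.Agent.S5966

open Module Cfsg.Agent.Lib.JordanType

variable {F : Type*} [Field F] {n : ℕ} {F₀ : Subfield F}

theorem one_add_cube [CharP F 3] {R : Type*} [Ring R] [Algebra F R] (N : R) : (1 + N) ^ 3 = 1 + N ^ 3 := by
  have h3 : (3 : R) = 0 := by
    have h := congrArg (algebraMap F R) (CharP.cast_eq_zero F 3)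
    rwa [map_natCast, map_zero, Nat.cast_ofNat] at h
  obtain ⟨r, hr⟩ := (Commute.one_left N).exists_add_pow_prime_eq (p := 3) Nat.prime_three
  rw [hr, one_pow, Nat.cast_ofNat, h3, zero_mul, zero_mul, zero_mul, add_zero]

/-- Constant-on-blocks diagonals commute with a Jordan matrix; one block repairs a determinant. -/
theorem exists_fix {t : ℕ} (d : Fin t → ℕ) (e : ((k : Fin t) × Fin (d k)) ≃ Fin n)
    (P : Matrix (Fin n) (Fin n) F) (hP : P.det ≠ 0) {j₀ : Fin t}
    (hroot : ∀ δ : F, δ ≠ 0 → δ = P.det → ∃ r : F, r ^ d j₀ * δ = 1) :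
    ∃ Z : Matrix (Fin n) (Fin n) F, (P * Z).det = 1 ∧
      Matrix.reindex e e (Cfsg.jordanTypeMatrix d F) * Z = Z * Matrix.reindex e e (Cfsg.jordanTypeMatrix d F) := by
  classical
  obtain ⟨r, hr⟩ := hroot _ hP rfl
  refine ⟨Matrix.diagonal fun i => if (e.symm i).1 = j₀ then r else 1, ?_, ?_⟩
  · rw [Matrix.det_mul, Matrix.det_diagonal, ← e.prod_comp, Fintype.prod_sigma]
    simp only [Equiv.symm_apply_apply, Finset.prod_const, Finset.card_univ, Fintype.card_fin, ite_pow, one_pow]
    rw [Finset.prod_ite_eq', if_pos (Finset.mem_univ _), mul_comm, hr]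
  · ext i j
    rw [Matrix.mul_diagonal, Matrix.diagonal_mul, Matrix.reindex_apply, Matrix.submatrix_apply]
    by_cases h : (e.symm i).1 = (e.symm j).1
    · rw [h, mul_comm]
    · rw [Cfsg.jordanTypeMatrix, Matrix.blockDiagonal'_apply_ne _ _ _ h, zero_mul, mul_zero]

/-- A nonsquare of the subfield stays a nonsquare in an extension of odd degree. -/
theorem exists_nonsquare [Fintype F] (h2 : ringChar F ≠ 2) {q₀ k : ℕ} (hF₀ : Nat.card F₀ = q₀)
    (hq : Fintype.card F = q₀ ^ k) (hk : Odd k) : ∃ u : F, u ∈ F₀ ∧ u ≠ 0 ∧ ¬ IsSquare u := by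
  have : Fintype F₀ := Fintype.ofFinite _
  have h2' : ringChar F₀ ≠ 2 := by
    intro h
    haveI : CharP F₀ 2 := ringChar.of_eq h
    haveI : CharP F 2 := charP_of_injective_ringHom F₀.subtype.injective 2
    exact h2 (ringChar.eq F 2)
  obtain ⟨u, hu⟩ := FiniteField.exists_nonsquare h2'
  have hu0 : u ≠ 0 := fun h => hu (h ▸ IsSquare.zero)
  refine ⟨u, u.2, fun h => hu0 (Subtype.ext h), fun hsq => ?_⟩
  rw [FiniteField.isSquare_iff h2 (fun h => hu0 (Subtype.ext h))] at hsq
  rw [FiniteField.isSquare_iff h2' hu0] at hu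
  rw [← Nat.card_eq_fintype_card, hF₀] at hu
  have hneg : u ^ (q₀ / 2) = -1 := by
    have := FiniteField.pow_dichotomy h2' hu0
    rw [← Nat.card_eq_fintype_card, hF₀] at this
    exact this.resolve_left hu
  have hodd : Odd (Fintype.card F₀) := Nat.odd_iff.mpr (FiniteField.odd_card_of_char_ne_two h2')
  rw [← Nat.card_eq_fintype_card, hF₀] at hodd
  -- the exponent for `F` is an odd multiple of the exponent for the subfield
  obtain ⟨o, ho, ho'⟩ : ∃ o, Odd o ∧ q₀ ^ k - 1 = (q₀ - 1) * o := by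
    refine ⟨∑ l ∈ Finset.range k, q₀ ^ l, ?_, ?_⟩
    · rw [Finset.odd_sum_iff_odd_card_odd, Finset.filter_true_of_mem fun l _ => hodd.pow, Finset.card_range]
      exact hk
    · rw [mul_comm]
      exact (geom_sum_mul_of_one_le hodd.pos k).symm
  obtain ⟨a, rfl⟩ := hodd
  rw [show (2 * a + 1) / 2 = a by omega] at hneg
  rw [Nat.add_sub_cancel, mul_assoc] at ho'
  rw [hq, show (2 * a + 1) ^ k / 2 = a * o by
    have := Nat.one_le_pow k (2 * a + 1) (by omega)
    omega, pow_mul, show (u : F) ^ a = -1 from congrArg Subtype.val hneg, Odd.neg_one_pow ho] at hsq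
  exact Ring.neg_one_ne_one_of_char_ne_two h2 hsq

/-- The standard matrix with all blocks of size two. -/
def twoBlocks (F : Type*) [Field F] (t : ℕ) : Matrix (Fin t ⊕ Fin t) (Fin t ⊕ Fin t) F :=
  Matrix.fromBlocks 1 0 1 1

theorem isSquare_det_commutant {t : ℕ} (M : Matrix (Fin t ⊕ Fin t) (Fin t ⊕ Fin t) F)
    (h : twoBlocks F t * M = M * twoBlocks F t) : IsSquare M.det := by
  rw [← Matrix.fromBlocks_toBlocks M, twoBlocks, Matrix.fromBlocks_multiply, Matrix.fromBlocks_multiply,
    Matrix.fromBlocks_inj] at h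
  obtain ⟨h11, -, h21, -⟩ := h
  simp only [Matrix.one_mul, Matrix.zero_mul, Matrix.mul_one, add_zero] at h11 h21
  have hB : M.toBlocks₁₂ = 0 := by simpa using h11
  rw [add_comm, add_left_cancel_iff.eq] at h21
  exact ⟨M.toBlocks₁₁.det, by
    conv_lhs => rw [← Matrix.fromBlocks_toBlocks M, hB, Matrix.det_fromBlocks_zero₁₂, ← h21]⟩

/-- For degree two a matrix with all blocks of size two and twisted determinant is not conjugate
into the subfield group. -/
theorem no_conj [Fintype F] [CharP F 3] {t : ℕ} (e : Fin t ⊕ Fin t ≃ Fin n) (hn : 0 < n)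
    (h2 : ringChar F ≠ 2) {q₀ : ℕ} (hF₀ : Nat.card F₀ = q₀) (hq : Fintype.card F = q₀ ^ 2)
    (x : Matrix.SpecialLinearGroup (Fin n) F) (P : Matrix (Fin n) (Fin n) F) (hP : ¬ IsSquare P.det)
    (hxP : (x : Matrix (Fin n) (Fin n) F) * P = P * Matrix.reindex e e (twoBlocks F t)) :
    ¬ ∃ P : Matrix.SpecialLinearGroup (Fin n) F, P⁻¹ * x * P ∈ ((Cfsg.Geo.subfieldSubgroup F₀ 1).comap
      (Matrix.SpecialLinearGroup.toGL : Matrix.SpecialLinearGroup (Fin n) F →* GL (Fin n) F)) := by
  classical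
  rintro ⟨P₁, hP₁⟩
  obtain ⟨μ, G, hG⟩ := (S5964.mem_sub_iff _).mp hP₁
  set A : Matrix (Fin n) (Fin n) F := ((P₁⁻¹ * x * P₁ : Matrix.SpecialLinearGroup (Fin n) F) : Matrix (Fin n) (Fin n) F)
  set R : Matrix (Fin n) (Fin n) F := ((P₁⁻¹ : Matrix.SpecialLinearGroup (Fin n) F) : Matrix (Fin n) (Fin n) F) * P
  have hRdet : R.det = P.det := by rw [Matrix.det_mul, (P₁⁻¹).2, one_mul]
  have hPdet : P.det ≠ 0 := fun h => hP (h ▸ IsSquare.zero)
  set J := Matrix.reindex e e (twoBlocks F t)
  have hAR : A * R = R * J := by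
    show _ * (_ * P) = _ * P * J
    rw [← mul_assoc, ← Matrix.SpecialLinearGroup.coe_mul, show P₁⁻¹ * x * P₁ * P₁⁻¹ = P₁⁻¹ * x by group,
      Matrix.SpecialLinearGroup.coe_mul, mul_assoc, hxP, mul_assoc]
  have hJJ : (J - 1) * (J - 1) = 0 := by
    rw [show J = Matrix.reindexAlgEquiv F F e (twoBlocks F t) from rfl, ← map_one (Matrix.reindexAlgEquiv F F e),
      ← map_sub, ← map_mul, ← map_zero (Matrix.reindexAlgEquiv F F e)]
    congr 1
    rw [show twoBlocks F t - 1 = Matrix.fromBlocks 0 0 1 0 by ext (a | a) (b | b) <;> simp [twoBlocks, Matrix.one_apply],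
        Matrix.fromBlocks_multiply]
    simp
  have hRu : IsUnit R := (Matrix.isUnit_iff_isUnit_det R).mpr (isUnit_iff_ne_zero.mpr (hRdet ▸ hPdet))
  have hAA : (A - 1) * (A - 1) = 0 := hRu.mul_right_cancel (by
    rw [zero_mul, mul_assoc, sub_mul A 1 R, one_mul, hAR,
      show R * J - R = R * (J - 1) by rw [mul_sub, mul_one], ← mul_assoc, sub_mul A 1 R, one_mul, hAR,
      show R * J - R = R * (J - 1) by rw [mul_sub, mul_one], mul_assoc, hJJ, mul_zero])
  -- the scalar lies in the subfield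
  haveI : Fintype F₀ := Fintype.ofFinite _
  have hμ : (μ : F) ∈ F₀ := by
    have h3 : A ^ 3 = 1 := by
      rw [show A = 1 + (A - 1) by abel, one_add_cube (F := F), pow_succ, pow_two, hAA, zero_mul, add_zero]
    rw [hG, _root_.smul_pow, ← RingHom.mapMatrix_apply, ← map_pow, RingHom.mapMatrix_apply] at h3
    have h4 := congrFun (congrFun h3 ⟨0, hn⟩) ⟨0, hn⟩
    simp only [Matrix.smul_apply, Matrix.map_apply, Matrix.one_apply_eq, smul_eq_mul] at h4
    haveI : CharP F₀ 3 := (F₀.subtype.charP F₀.subtype.injective 3)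
    obtain ⟨w, hw⟩ := surjective_frobenius F₀ 3 ((((G : Matrix (Fin n) (Fin n) F₀) ^ 3) ⟨0, hn⟩ ⟨0, hn⟩))⁻¹
    have h5 : (w : F) ^ 3 = (μ : F) ^ 3 := by
      rw [← eq_inv_of_mul_eq_one_left h4 |>.symm, ← map_inv₀ F₀.subtype, ← hw, frobenius_def]
      rfl
    exact frobenius_inj F 3 h5 ▸ w.2
  have hAmem : ∀ i j, A i j ∈ F₀ := fun i j => by
    rw [hG, Matrix.smul_apply, smul_eq_mul]
    exact F₀.mul_mem hμ (SetLike.coe_mem _)
  -- standard vectors completing the fixed space
  set N : Module.End F (Fin n → F) := Matrix.toLin' (A - 1) with hNdef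
  have hNN : ∀ v, N (N v) = 0 := fun v => by
    rw [hNdef, Matrix.toLin'_apply, Matrix.toLin'_apply, Matrix.mulVec_mulVec, hAA, Matrix.zero_mulVec]
  obtain ⟨κ, a, ha, hspan, hli⟩ := exists_linearIndependent' F
    (fun i : Fin n => (LinearMap.ker N).mkQ (Pi.basisFun F (Fin n) i))
  haveI : Fintype κ := Fintype.ofInjective a ha
  rw [Set.range_comp' (LinearMap.ker N).mkQ (Pi.basisFun F (Fin n)), ← Submodule.map_span, Basis.span_eq,
    Submodule.map_top, Submodule.range_mkQ] at hspan
  let v : κ ⊕ κ → (Fin n → F) :=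
    Sum.elim (fun k => Pi.basisFun F (Fin n) (a k)) (fun k => N (Pi.basisFun F (Fin n) (a k)))
  have hliv : LinearIndependent F v := by
    rw [Fintype.linearIndependent_iff]
    intro g hg
    rw [Fintype.sum_sum_type] at hg
    simp only [v, Sum.elim_inl, Sum.elim_inr] at hg
    have h1 : ∑ k, g (Sum.inl k) • (LinearMap.ker N).mkQ (Pi.basisFun F (Fin n) (a k)) = 0 := by
      have hh : (LinearMap.ker N).mkQ (∑ k, g (Sum.inl k) • Pi.basisFun F (Fin n) (a k)) =
          ∑ k, g (Sum.inl k) • (LinearMap.ker N).mkQ (Pi.basisFun F (Fin n) (a k)) := by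
        rw [map_sum]; simp only [map_smul]
      rw [← hh]
      rw [eq_neg_of_add_eq_zero_left hg, Submodule.mkQ_apply, Submodule.Quotient.mk_eq_zero,
        LinearMap.mem_ker, map_neg, map_sum, Finset.sum_eq_zero (fun k _ => by rw [map_smul, hNN, smul_zero]), neg_zero]
    have h2 := Fintype.linearIndependent_iff.mp hli _ h1
    simp only [h2, zero_smul, Finset.sum_const_zero, zero_add] at hg
    have h3 : ∑ k, g (Sum.inr k) • (LinearMap.ker N).mkQ (Pi.basisFun F (Fin n) (a k)) = 0 := by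
      have hh : (LinearMap.ker N).mkQ (∑ k, g (Sum.inr k) • Pi.basisFun F (Fin n) (a k)) =
          ∑ k, g (Sum.inr k) • (LinearMap.ker N).mkQ (Pi.basisFun F (Fin n) (a k)) := by
        rw [map_sum]; simp only [map_smul]
      rw [← hh]
      rw [Submodule.mkQ_apply, Submodule.Quotient.mk_eq_zero, LinearMap.mem_ker, map_sum]
      simpa only [map_smul] using hg
    have h4 := Fintype.linearIndependent_iff.mp hli _ h3
    rintro (k | k)
    exacts [h2 k, h4 k]
  have hspanv : ⊤ ≤ Submodule.span F (Set.range v) := by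
    intro y _
    -- modulo the fixed space
    have key : ∀ y : Fin n → F, ∃ u ∈ Submodule.span F (Set.range fun k => Pi.basisFun F (Fin n) (a k)),
        y - u ∈ LinearMap.ker N := by
      intro y
      have h1 : (LinearMap.ker N).mkQ y ∈ Submodule.span F (Set.range
          ((fun i : Fin n => (LinearMap.ker N).mkQ (Pi.basisFun F (Fin n) i)) ∘ a)) := by
        rw [hspan]; trivial
      rw [show (fun i : Fin n => (LinearMap.ker N).mkQ (Pi.basisFun F (Fin n) i)) ∘ a =
        (LinearMap.ker N).mkQ ∘ (fun k => Pi.basisFun F (Fin n) (a k)) from rfl, Set.range_comp,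
        ← Submodule.map_span] at h1
      obtain ⟨u, hu, hu'⟩ := h1
      exact ⟨u, hu, (Submodule.Quotient.eq _).mp hu'.symm⟩
    obtain ⟨u, hu, hy⟩ := key y
    -- a fixed vector is in the image
    have him : y - u ∈ LinearMap.range N := by
      obtain ⟨R', hR'⟩ := hRu
      set c := ((R'⁻¹ : (Matrix (Fin n) (Fin n) F)ˣ) : Matrix (Fin n) (Fin n) F).mulVec (y - u) with hcdef
      have hRc : R.mulVec c = y - u := by
        rw [hcdef, Matrix.mulVec_mulVec, ← hR', R'.mul_inv, Matrix.one_mulVec]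
      have hJc : (J - 1).mulVec c = 0 := by
        have h5 : R.mulVec ((J - 1).mulVec c) = 0 := by
          rw [Matrix.mulVec_mulVec, mul_sub, mul_one, ← hAR,
            show A * R - R = (A - 1) * R by rw [sub_mul, one_mul], ← Matrix.mulVec_mulVec, hRc]
          exact LinearMap.mem_ker.mp hy
        have h6 := congrArg ((R'⁻¹ : (Matrix (Fin n) (Fin n) F)ˣ) : Matrix (Fin n) (Fin n) F).mulVec h5
        rwa [Matrix.mulVec_mulVec, ← hR', R'.inv_mul, Matrix.one_mulVec, Matrix.mulVec_zero] at h6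
      -- a fixed vector of `J` is in the image of `J - 1`
      have hcimg : c = (J - 1).mulVec (fun i => Sum.elim (fun k => c (e (Sum.inr k))) 0 (e.symm i)) := by
        have hJ1 : ∀ w : Fin n → F, ∀ i, (J - 1).mulVec w i =
            Sum.elim (fun _ => 0) (fun k => w (e (Sum.inl k))) (e.symm i) := by
          intro w i
          rw [Matrix.sub_mulVec, Matrix.one_mulVec, Pi.sub_apply,
            show J = Matrix.reindex e e (twoBlocks F t) from rfl, Matrix.reindex_apply,
            Matrix.submatrix_mulVec_equiv, Function.comp_apply, Equiv.symm_symm, twoBlocks,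
            Matrix.fromBlocks_mulVec]
          obtain ⟨b, rfl⟩ := e.surjective i
          rcases b with k | k <;> simp [Function.comp_def]
        funext i
        rw [hJ1]
        obtain ⟨b, rfl⟩ := e.surjective i
        rcases b with k | k
        · have h7 := congrFun hJc (e (Sum.inr k))
          rw [hJ1, Pi.zero_apply] at h7
          simpa using h7
        · simp
      refine ⟨R.mulVec (fun i => Sum.elim (fun k => c (e (Sum.inr k))) 0 (e.symm i)), ?_⟩
      rw [hNdef, Matrix.toLin'_apply, Matrix.mulVec_mulVec,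
        show (A - 1) * R = R * (J - 1) by rw [sub_mul, one_mul, hAR, mul_sub, mul_one],
        ← Matrix.mulVec_mulVec, ← hcimg, hRc]
    obtain ⟨w, hw⟩ := him
    obtain ⟨u', hu', hw'⟩ := key w
    have h8 : y = u + N u' := by
      rw [LinearMap.mem_ker, map_sub, sub_eq_zero] at hw'
      rw [← hw', hw]; abel
    rw [h8]
    refine Submodule.add_mem _ (Submodule.span_mono ?_ hu) ?_
    · rintro _ ⟨k, rfl⟩
      exact ⟨Sum.inl k, rfl⟩
    have h9 := Submodule.mem_map_of_mem (f := N) hu'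
    rw [Submodule.map_span] at h9
    refine Submodule.span_mono ?_ h9
    rintro _ ⟨_, ⟨k, rfl⟩, rfl⟩
    exact ⟨Sum.inr k, rfl⟩
  have hκ : Fintype.card κ = t := by
    have h1 := Module.finrank_eq_card_basis (Basis.mk hliv hspanv)
    rw [finrank_fin_fun, Fintype.card_sum] at h1
    have h10 := Fintype.card_congr e
    rw [Fintype.card_sum, Fintype.card_fin, Fintype.card_fin] at h10
    omega
  let ε : Fin t ≃ κ := (Fintype.equivFinOfCardEq hκ).symm
  let T : Matrix (Fin n) (Fin n) F := Matrix.of fun i j => v ((Equiv.sumCongr ε ε) (e.symm j)) i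
  have hTdet : IsUnit T.det := by
    have := (Pi.basisFun F (Fin n)).isUnit_det ((Basis.mk hliv hspanv).reindex
      ((Equiv.sumCongr ε ε).symm.trans e))
    rwa [Module.Basis.det_apply, show (Pi.basisFun F (Fin n)).toMatrix _ = T from by
      ext i j; simp [Module.Basis.toMatrix_apply, T]] at this
  have hTmem : ∀ i j, T i j ∈ F₀ := by
    intro i j
    show v _ i ∈ F₀
    rcases ((Equiv.sumCongr ε ε) (e.symm j)) with k | k
    · simp only [v, Sum.elim_inl, Pi.basisFun_apply, Pi.single_apply]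
      split
      exacts [F₀.one_mem, F₀.zero_mem]
    · simp only [v, Sum.elim_inr, hNdef, Matrix.toLin'_apply, Pi.basisFun_apply, Matrix.mulVec_single_one,
        Matrix.col_apply, Matrix.sub_apply, Matrix.one_apply]
      split
      exacts [F₀.sub_mem (hAmem _ _) F₀.one_mem, F₀.sub_mem (hAmem _ _) F₀.zero_mem]
  have hAT : A * T = T * J := by
    refine Matrix.ext fun i j => ?_
    obtain ⟨b, rfl⟩ := e.surjective j
    have hcol : (A * T) i (e b) = (v (Equiv.sumCongr ε ε b) + N (v (Equiv.sumCongr ε ε b))) i := by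
      rw [hNdef, Matrix.toLin'_apply, Matrix.sub_mulVec, Matrix.one_mulVec, add_sub_cancel]
      simp [Matrix.mul_apply, Matrix.mulVec, dotProduct, T]
    rw [hcol, Matrix.mul_apply, ← e.sum_comp, Fintype.sum_sum_type]
    rcases b with k | k
    · simp [J, T, v, twoBlocks, Matrix.one_apply]
    · simp [J, T, v, twoBlocks, Matrix.one_apply, hNN]
  -- the commutant
  obtain ⟨T', hT'⟩ := (Matrix.isUnit_iff_isUnit_det T).mpr hTdet
  set M := ((T'⁻¹ : (Matrix (Fin n) (Fin n) F)ˣ) : Matrix (Fin n) (Fin n) F) * R with hMdef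
  have hJM : J * M = M * J := by
    have hTJ : ((T'⁻¹ : (Matrix (Fin n) (Fin n) F)ˣ) : Matrix (Fin n) (Fin n) F) * A =
        J * ((T'⁻¹ : (Matrix (Fin n) (Fin n) F)ˣ) : Matrix (Fin n) (Fin n) F) := by
      rw [← T'.inv_mul_cancel_left J, hT', ← hAT, mul_assoc, mul_assoc, ← hT', T'.mul_inv, mul_one]
    rw [hMdef, ← mul_assoc, ← hTJ, mul_assoc, hAR, mul_assoc _ R J]
  have hsqM : IsSquare M.det := by
    rw [← Matrix.det_reindex_self e.symm M]
    refine isSquare_det_commutant _ ?_
    have hJ' : twoBlocks F t = Matrix.reindexAlgEquiv F F e.symm J := by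
      ext a b; simp [J]
    rw [hJ', show Matrix.reindex e.symm e.symm M = Matrix.reindexAlgEquiv F F e.symm M from rfl,
      ← map_mul, ← map_mul, hJM]
  have hTsq : IsSquare T.det := by
    let T₀ : Matrix (Fin n) (Fin n) F₀ := Matrix.of fun i j => ⟨T i j, hTmem i j⟩
    have hT₀ : T.det = F₀.subtype T₀.det := by
      rw [RingHom.map_det]; rfl
    exact S5964.isSquare_of_mem h2 hF₀ hq (hT₀ ▸ SetLike.coe_mem _) hTdet.ne_zero
  refine hP ?_
  rw [← hRdet, show R = T * M by rw [hMdef, ← mul_assoc, ← hT', T'.mul_inv, one_mul], Matrix.det_mul]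
  exact hTsq.mul hsqM

variable [Fintype F]

theorem exists_conj_odd_degree [CharP F 3] {q₀ k : ℕ} (hF₀ : Nat.card F₀ = q₀)
    (hq : Fintype.card F = q₀ ^ k) (hn : 0 < n) (h : Odd n ∨ Odd k)
    (x : Matrix.SpecialLinearGroup (Fin n) F) {μ : F} (hμ : μ ≠ 0)
    (hx : (x : Matrix (Fin n) (Fin n) F) ^ 3 = μ ^ 3 • (1 : Matrix (Fin n) (Fin n) F)) :
    ∃ P : Matrix.SpecialLinearGroup (Fin n) F, P⁻¹ * x * P ∈ ((Cfsg.Geo.subfieldSubgroup F₀ 1).comap
      (Matrix.SpecialLinearGroup.toGL : Matrix.SpecialLinearGroup (Fin n) F →* GL (Fin n) F)) := by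
  classical
  set A : Matrix (Fin n) (Fin n) F := μ⁻¹ • (x : Matrix (Fin n) (Fin n) F)
  have hA3 : A ^ 3 = 1 := by
    rw [_root_.smul_pow, hx, smul_smul, ← mul_pow, inv_mul_cancel₀ hμ, one_pow, one_smul]
  have hN3 : (A - 1) ^ 3 = 0 := by
    have := one_add_cube (F := F) (A - 1)
    rw [add_sub_cancel, hA3, left_eq_add] at this
    exact this
  obtain ⟨t, d, e, hd, ⟨C⟩, c, hc⟩ := exists_jordanType A ⟨3, hN3⟩
  have hd3 : ∀ j, d j ≤ 3 := C.pow_eq_zero_iff.mp (by rw [← Matrix.toLin'_pow, hN3, map_zero])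
  set J := Matrix.reindex e e (Cfsg.jordanTypeMatrix d F)
  have hmap : (Matrix.reindex e e (Cfsg.jordanTypeMatrix d F₀)).map F₀.subtype = J := by
    ext i j
    simp only [J, Matrix.map_apply, Matrix.reindex_apply, Matrix.submatrix_apply, Cfsg.jordanTypeMatrix,
      Matrix.blockDiagonal'_apply, Cfsg.jordanBlock, Matrix.of_apply]
    split_ifs <;> simp
  have hcJ : A * (c : Matrix (Fin n) (Fin n) F) = (c : Matrix (Fin n) (Fin n) F) * J := hc.eq.symm
  have hxA : (x : Matrix (Fin n) (Fin n) F) = μ • A := by rw [smul_smul, mul_inv_cancel₀ hμ, one_smul]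
  have hcdet : ((c : Matrix (Fin n) (Fin n) F)).det ≠ 0 := c.isUnit.map Matrix.detMonoidHom |>.ne_zero
  have hroot3 : ∀ δ : F, δ ≠ 0 → ∃ r : F, r ^ 3 * δ = 1 := fun δ hδ => by
    obtain ⟨r, hr⟩ := surjective_frobenius F 3 δ⁻¹
    exact ⟨r, by rw [← frobenius_def, hr, inv_mul_cancel₀ hδ]⟩
  by_cases hodd : ∃ j, d j ≠ 2
  · obtain ⟨j, hj⟩ := hodd
    obtain ⟨Z, hZ1, hZJ⟩ := exists_fix d e (c : Matrix (Fin n) (Fin n) F) hcdet (j₀ := j) (fun δ hδ _ => by
      have := hd j; have := hd3 j
      rcases (show d j = 1 ∨ d j = 3 by omega) with h1 | h1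
      · exact ⟨δ⁻¹, by rw [h1, pow_one, inv_mul_cancel₀ hδ]⟩
      · rw [h1]; exact hroot3 δ hδ)
    refine S5964.exists_conj x ((c : Matrix (Fin n) (Fin n) F) * Z) hZ1 μ hμ
      (Matrix.reindex e e (Cfsg.jordanTypeMatrix d F₀)) ?_
    rw [hmap, hxA, Matrix.smul_mul, Matrix.mul_smul, ← mul_assoc, hcJ, mul_assoc, mul_assoc, hZJ]
  · push Not at hodd
    have hn2 : ¬ Odd n := by
      have h1 := Fintype.card_congr e
      rw [Fintype.card_sigma, Fintype.card_fin] at h1
      simp only [Fintype.card_fin, hodd, Finset.sum_const, smul_eq_mul] at h1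
      rw [← h1, Nat.not_odd_iff_even]
      exact ⟨_, mul_two _⟩
    have hk : Odd k := h.resolve_left hn2
    have h2 : ringChar F ≠ 2 := by rw [ringChar.eq F 3]; decide
    obtain ⟨u, hu, hu0, hns⟩ := exists_nonsquare h2 hF₀ hq hk
    have ht : 0 < t := by
      by_contra h0
      have h1 := Fintype.card_congr e
      obtain rfl : t = 0 := by omega
      simp at h1
      omega
    -- a representative in the right determinant class
    obtain ⟨ζ, hζ, hsq⟩ : ∃ ζ : F₀, ζ ≠ 0 ∧
        IsSquare ((c : Matrix (Fin n) (Fin n) F).det * (ζ : F))⁻¹ := by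
      by_cases hs : IsSquare (c : Matrix (Fin n) (Fin n) F).det
      · exact ⟨1, one_ne_zero, by rw [OneMemClass.coe_one, mul_one]; exact hs.inv⟩
      · refine ⟨⟨u, hu⟩, fun h0 => hu0 (congrArg Subtype.val h0), ?_⟩
        refine IsSquare.inv ?_
        rw [FiniteField.isSquare_iff h2 (mul_ne_zero hcdet hu0), mul_pow,
          (FiniteField.pow_dichotomy h2 hcdet).resolve_left (fun h0 => hs ((FiniteField.isSquare_iff h2 hcdet).mpr h0)),
          (FiniteField.pow_dichotomy h2 hu0).resolve_left (fun h0 => hns ((FiniteField.isSquare_iff h2 hu0).mpr h0)),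
          neg_mul_neg, one_mul]
    let i₀ : Fin n := ⟨0, hn⟩
    let D₀ : Matrix (Fin n) (Fin n) F₀ := Matrix.diagonal fun i => if i = i₀ then ζ else 1
    let D₀' : Matrix (Fin n) (Fin n) F₀ := Matrix.diagonal fun i => if i = i₀ then ζ⁻¹ else 1
    have hDD : D₀'.map F₀.subtype * D₀.map F₀.subtype = 1 := by
      rw [← Matrix.map_mul, Matrix.diagonal_mul_diagonal, ← Matrix.diagonal_one, Matrix.diagonal_map (map_zero _)]
      congr 1
      funext i
      by_cases hi : i = i₀ <;> simp [hi, hζ]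
    have hDdet : (D₀.map F₀.subtype).det = (ζ : F) := by
      rw [← RingHom.mapMatrix_apply, ← RingHom.map_det, Matrix.det_diagonal, Finset.prod_ite_eq', if_pos (Finset.mem_univ _)]
      rfl
    obtain ⟨r, hr⟩ := hsq
    obtain ⟨Z, hZ1, hZJ⟩ := exists_fix d e ((c : Matrix (Fin n) (Fin n) F) * D₀.map F₀.subtype)
      (by rw [Matrix.det_mul, hDdet]; exact mul_ne_zero hcdet fun h0 => hζ (Subtype.ext h0))
      (j₀ := ⟨0, ht⟩) (fun δ hδ hδ' => ⟨r, by
        rw [hodd, pow_two, ← hr, hδ', Matrix.det_mul, hDdet, inv_mul_cancel₀]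
        exact mul_ne_zero hcdet fun h0 => hζ (Subtype.ext h0)⟩)
    refine S5964.exists_conj x ((c : Matrix (Fin n) (Fin n) F) * Z * D₀.map F₀.subtype) ?_ μ hμ
      (D₀' * Matrix.reindex e e (Cfsg.jordanTypeMatrix d F₀) * D₀) ?_
    · rw [← hZ1]; simp only [Matrix.det_mul]; ring
    · rw [Matrix.map_mul, Matrix.map_mul, hmap, hxA, Matrix.smul_mul, Matrix.mul_smul]
      congr 1
      simp only [← mul_assoc]
      rw [hcJ, mul_assoc _ (D₀.map F₀.subtype) (D₀'.map F₀.subtype),
        mul_eq_one_comm.mp hDD, mul_one, mul_assoc (c : Matrix (Fin n) (Fin n) F), hZJ, mul_assoc _ Z J]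

/-- Elements of order 3 of PSL_n(q) in characteristic 3 and subfield subgroups. Here `T = PSL_n(F)` for a field `F` with `q` elements, `q` a power of 3 (`n ≥ 2`, `(n, q) ≠ (2, 2), (2, 3)`), `F₀` is the subfield with `q₀` elements where `q = q₀^k` for a prime `k`, and `H` is the subgroup of matrices of determinant 1 lying in the subfield group of `F₀` (invertible matrices over `F₀` times scalars) — a maximal subgroup of type GL_n(q₀) (the case `n = 2`, `q₀ = 2` is excluded); Ω is the set of `T`-conjugates of `H` (cosets of `H`), so an element of `T` of prime order `r` (a matrix `x` of determinant 1 with `x^r` scalar, `x` not scalar) fixes a point of Ω when some conjugate of `x` by a matrix of determinant 1 lies in `H`. Suppose 3 divides the index of `H`. Then every element of `T` of order 3 is conjugate in `T` into `H` if and only if `n` is odd, or `n` is even and `k > 2`. -/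
theorem result {F : Type*} [Field F] [Fintype F] [CharP F 3] {q : ℕ} (hq : Fintype.card F = q)
    (n : ℕ) (hn : 2 ≤ n) (hT : (n, q) ≠ (2, 3))
    (F₀ : Subfield F) (k q₀ : ℕ) (hk : k.Prime) (hF₀ : Nat.card ↥F₀ = q₀) (hqk : q = q₀ ^ k) (hC5 : ¬ (n = 2 ∧ q₀ = 2)) (hΩ : 3 ∣ ((Cfsg.Geo.subfieldSubgroup F₀ 1).comap (Matrix.SpecialLinearGroup.toGL : Matrix.SpecialLinearGroup (Fin n) F →* GL (Fin n) F)).index) :
    (∀ x : Matrix.SpecialLinearGroup (Fin n) F,
      (∃ z : F, ((x ^ 3 : Matrix.SpecialLinearGroup (Fin n) F) : Matrix (Fin n) (Fin n) F) = z • (1 : Matrix (Fin n) (Fin n) F)) →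
      (∀ z : F, (x : Matrix (Fin n) (Fin n) F) ≠ z • (1 : Matrix (Fin n) (Fin n) F)) →
      ∃ P : Matrix.SpecialLinearGroup (Fin n) F, P⁻¹ * x * P ∈ ((Cfsg.Geo.subfieldSubgroup F₀ 1).comap (Matrix.SpecialLinearGroup.toGL : Matrix.SpecialLinearGroup (Fin n) F →* GL (Fin n) F))) ↔
    (Odd n ∨ (Even n ∧ 2 < k)) := by
  classical
  subst hq
  have h2 : ringChar F ≠ 2 := by rw [ringChar.eq F 3]; decide
  have hn0 : 0 < n := by omega
  constructor
  · intro h
    by_contra hcon
    rw [not_or, Nat.not_odd_iff_even] at hcon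
    obtain ⟨hev, hk2⟩ := hcon
    have hk' : k = 2 := le_antisymm (not_lt.mp fun hlt => hk2 ⟨hev, hlt⟩) hk.two_le
    subst hk'
    obtain ⟨t, rfl⟩ := hev
    let e : Fin t ⊕ Fin t ≃ Fin (t + t) := finSumFinEquiv
    obtain ⟨δ, hδ⟩ := FiniteField.exists_nonsquare h2
    have hδ0 : δ ≠ 0 := fun h0 => hδ (h0 ▸ IsSquare.zero)
    let i₀ : Fin (t + t) := e (Sum.inl ⟨0, by omega⟩)
    let P : Matrix (Fin (t + t)) (Fin (t + t)) F := Matrix.diagonal fun i => if i = i₀ then δ else 1
    let P' : Matrix (Fin (t + t)) (Fin (t + t)) F := Matrix.diagonal fun i => if i = i₀ then δ⁻¹ else 1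
    have hPP : P' * P = 1 := by
      rw [Matrix.diagonal_mul_diagonal, ← Matrix.diagonal_one]
      congr 1
      funext i
      split <;> simp [hδ0]
    set J := Matrix.reindex e e (twoBlocks F t) with hJ
    have hPdet : P.det = δ := by
      rw [Matrix.det_diagonal, Finset.prod_ite_eq', if_pos (Finset.mem_univ _)]
    have hdet : (P * J * P').det = 1 := by
      rw [Matrix.det_mul, Matrix.det_mul, mul_comm P.det, mul_assoc, ← Matrix.det_mul P,
        mul_eq_one_comm.mp hPP, Matrix.det_one, mul_one, hJ, Matrix.det_reindex_self, twoBlocks,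
        Matrix.det_fromBlocks_zero₁₂, Matrix.det_one, one_mul]
    let x : Matrix.SpecialLinearGroup (Fin (t + t)) F := ⟨P * J * P', hdet⟩
    have hxc : (x : Matrix (Fin (t + t)) (Fin (t + t)) F) = P * J * P' := rfl
    have hxP : (x : Matrix (Fin (t + t)) (Fin (t + t)) F) * P = P * J := by rw [hxc, mul_assoc, hPP, mul_one]
    have hJ2 : (J - 1) * (J - 1) = 0 := by
      rw [hJ, show Matrix.reindex e e (twoBlocks F t) = Matrix.reindexAlgEquiv F F e (twoBlocks F t) from rfl,
        ← map_one (Matrix.reindexAlgEquiv F F e), ← map_sub, ← map_mul, ← map_zero (Matrix.reindexAlgEquiv F F e)]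
      congr 1
      rw [show twoBlocks F t - 1 = Matrix.fromBlocks 0 0 1 0 by ext (a | a) (b | b) <;> simp [twoBlocks, Matrix.one_apply],
        Matrix.fromBlocks_multiply]
      simp
    have hx3 : (x : Matrix (Fin (t + t)) (Fin (t + t)) F) ^ 3 = 1 := by
      have hJ3 : J * J * J = 1 := by
        have := one_add_cube (F := F) (J - 1)
        rw [add_sub_cancel, pow_succ, pow_two, pow_succ, pow_two, hJ2, zero_mul, add_zero] at this
        exact this
      have hpp : ∀ A B : Matrix (Fin (t + t)) (Fin (t + t)) F, P * A * P' * (P * B * P') = P * (A * B) * P' := fun A B => by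
        simp only [mul_assoc]
        rw [← mul_assoc P' P, hPP, one_mul]
      rw [hxc, pow_succ, pow_two, hpp, hpp, hJ3, mul_one, mul_eq_one_comm.mp hPP]
    refine no_conj e hn0 h2 hF₀ hqk x P (hPdet ▸ hδ) hxP (h x ⟨1, ?_⟩ fun z hz => ?_)
    · rw [Matrix.SpecialLinearGroup.coe_pow, hx3, one_smul]
    · rw [hz, Matrix.smul_mul, Matrix.one_mul] at hxP
      -- compare an entry below the diagonal
      have h1 := congrFun (congrFun hxP (e (Sum.inr ⟨0, by omega⟩))) i₀
      have hne : (e (Sum.inr (⟨0, by omega⟩ : Fin t))) ≠ i₀ := fun h0 => Sum.inr_ne_inl (e.injective h0)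
      simp [P, J, i₀, twoBlocks, Matrix.mul_diagonal, Matrix.diagonal_mul, hne] at h1
  · intro h x hx hns
    obtain ⟨z, hz⟩ := hx
    obtain ⟨μ, rfl⟩ := surjective_frobenius F 3 z
    rw [Matrix.SpecialLinearGroup.coe_pow, frobenius_def] at hz
    have hμ : μ ≠ 0 := by
      rintro rfl
      have h1 := congrArg Matrix.det hz
      rw [Matrix.det_pow, x.2, Matrix.det_smul, Fintype.card_fin, one_pow, zero_pow (by norm_num),
        zero_pow (by omega), zero_mul] at h1
      exact one_ne_zero h1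
    refine exists_conj_odd_degree hF₀ hqk hn0 ?_ x hμ hz
    rcases h with h | ⟨-, h⟩
    · exact Or.inl h
    · exact Or.inr (hk.odd_of_ne_two (by omega))

end Cfsg.Agent.S5966
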