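import Cfsg.Statements.S5967
import Cfsg.Agent.Lib.ExtInvolution.Symp
-- import your own Cfsg.Agent.* helpers here

set_option autoImplicit false
open scoped MatrixGroups
open Cfsg

namespace Cfsg.Agent.S5967

open Matrix Module Cfsg.Agent.Lib.ExtInvolution

/-- Involutions of PSL_n(q) and the symplectic-type subgroups. Here `T = PSL_n(F)` for a field `F` with `q` elements, `n ≥ 4` even, `f` is a nondegenerate alternating form on `F^n`, and `H` is the subgroup of matrices of determinant 1 preserving `f` up to a scalar — a maximal subgroup of type Sp_n(q); Ω is the set of `T`-conjugates of `H` (cosets of `H`), so an element of `T` of prime order `r` (a matrix `x` of determinant 1 with `x^r` scalar, `x` not scalar) fixes a point of Ω when some conjugate of `x` by a matrix of determinant 1 preserves `f` up to a scalar. Suppose the index of `H` is even. Then every involution of `T` is conjugate in `T` into `H` if and only if `(q − 1)_2 ≤ (n)_2`. -/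
theorem result {F : Type*} [Field F] [Fintype F] {p : ℕ} [Fact p.Prime] [CharP F p] {q : ℕ} (hq : Fintype.card F = q)
    (n : ℕ) (hn : 4 ≤ n) (he : Even n) (f : (Fin n → F) → (Fin n → F) → F) (hf : Cfsg.Geo.IsSymplecticForm f)
    (hΩ : 2 ∣ ((Cfsg.Geo.similarityGroup f).comap (Matrix.SpecialLinearGroup.toGL : Matrix.SpecialLinearGroup (Fin n) F →* GL (Fin n) F)).index) :
    (∀ x : Matrix.SpecialLinearGroup (Fin n) F,
      (∃ z : F, ((x ^ 2 : Matrix.SpecialLinearGroup (Fin n) F) : Matrix (Fin n) (Fin n) F) = z • (1 : Matrix (Fin n) (Fin n) F)) →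
      (∀ z : F, (x : Matrix (Fin n) (Fin n) F) ≠ z • (1 : Matrix (Fin n) (Fin n) F)) →
      ∃ P : Matrix.SpecialLinearGroup (Fin n) F, P⁻¹ * x * P ∈ ((Cfsg.Geo.similarityGroup f).comap (Matrix.SpecialLinearGroup.toGL : Matrix.SpecialLinearGroup (Fin n) F →* GL (Fin n) F))) ↔
    padicValNat 2 (q - 1) ≤ padicValNat 2 n := by
  subst hq
  classical
  obtain ⟨Bf, hBf, hBfv⟩ := exists_bundle hf
  have hn0 : 0 < n := by omega
  set H := (Cfsg.Geo.similarityGroup f).comap
    (Matrix.SpecialLinearGroup.toGL : Matrix.SpecialLinearGroup (Fin n) F →* GL (Fin n) F) with hH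
  constructor
  · intro hall
    by_contra hlt
    have h2 : (2 : F) ≠ 0 := by
      intro h
      have hch : ringChar F = 2 := CharP.ringChar_of_prime_eq_zero Nat.prime_two (by exact_mod_cast h)
      have heven := FiniteField.even_card_of_char_two hch
      have hq1 : 1 < Fintype.card F := Fintype.one_lt_card
      apply hlt
      rw [padicValNat.eq_zero_of_not_dvd (by omega)]
      exact Nat.zero_le _
    obtain ⟨c, hc⟩ := (exists_pow_eq_neg_one_iff hn0 h2).mpr hlt
    have hc0 : c ≠ 0 := fun h => by
      rw [h, zero_pow (by omega : n ≠ 0)] at hc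
      exact one_ne_zero (neg_eq_zero.mp hc.symm)
    let a : Fin n := ⟨0, by omega⟩
    let b : Fin n := ⟨1, by omega⟩
    let e : Fin n := ⟨2, by omega⟩
    let d : Fin n → F := fun i => if i = a then -c else c
    have hdet : (Matrix.diagonal d).det = 1 := by
      rw [Matrix.det_diagonal, ← Finset.mul_prod_erase _ _ (Finset.mem_univ a)]
      have h1 : ∏ i ∈ Finset.univ.erase a, d i = c ^ (n - 1) := by
        rw [Finset.prod_congr rfl (fun i hi => if_neg (Finset.ne_of_mem_erase hi)), Finset.prod_const,
          Finset.card_erase_of_mem (Finset.mem_univ a), Finset.card_univ, Fintype.card_fin]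
      rw [h1, show d a = -c from if_pos rfl, neg_mul, ← pow_succ',
        show n - 1 + 1 = n by omega, hc, neg_neg]
    let x : Matrix.SpecialLinearGroup (Fin n) F := ⟨Matrix.diagonal d, hdet⟩
    have hns : ∀ z : F, (x : Matrix (Fin n) (Fin n) F) ≠ z • (1 : Matrix (Fin n) (Fin n) F) := by
      intro z hz
      change Matrix.diagonal d = z • (1 : Matrix (Fin n) (Fin n) F) at hz
      rw [Matrix.smul_one_eq_diagonal, Matrix.diagonal_eq_diagonal_iff] at hz
      have h1 := (hz a).trans (hz b).symm
      simp [d, a, b] at h1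
      exact hc0 ((mul_eq_zero.mp (show (2 : F) * c = 0 by linear_combination -h1)).resolve_left h2)
    obtain ⟨P, hP⟩ := hall x ⟨c ^ 2, by
      rw [Matrix.SpecialLinearGroup.coe_pow]
      show Matrix.diagonal d ^ 2 = _
      rw [Matrix.diagonal_pow, Matrix.smul_one_eq_diagonal, Matrix.diagonal_eq_diagonal_iff]
      intro i
      simp only [Pi.pow_apply, d]
      split_ifs <;> simp⟩ hns
    obtain ⟨lam, hlam⟩ := hP
    set P' := ((P⁻¹ : Matrix.SpecialLinearGroup (Fin n) F) : Matrix (Fin n) (Fin n) F) with hP'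
    have hPP : (P : Matrix (Fin n) (Fin n) F) * P' = 1 := by
      rw [hP', ← Matrix.SpecialLinearGroup.coe_mul, mul_inv_cancel, Matrix.SpecialLinearGroup.coe_one]
    have hsim : ∀ u v, Bf (P' *ᵥ ((x : Matrix (Fin n) (Fin n) F) *ᵥ u))
        (P' *ᵥ ((x : Matrix (Fin n) (Fin n) F) *ᵥ v)) = (lam : F) * Bf (P' *ᵥ u) (P' *ᵥ v) := by
      intro u v
      have h := hlam (P' *ᵥ u) (P' *ᵥ v)
      have hval : ∀ t, ((Matrix.SpecialLinearGroup.toGL (P⁻¹ * x * P) : GL (Fin n) F) :
          Matrix (Fin n) (Fin n) F) *ᵥ (P' *ᵥ t) = P' *ᵥ ((x : Matrix (Fin n) (Fin n) F) *ᵥ t) := by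
        intro t
        show ((P⁻¹ * x * P : Matrix.SpecialLinearGroup (Fin n) F) : Matrix (Fin n) (Fin n) F) *ᵥ _ = _
        rw [Matrix.SpecialLinearGroup.coe_mul, Matrix.SpecialLinearGroup.coe_mul, ← hP',
          Matrix.mulVec_mulVec, Matrix.mul_assoc _ (P : Matrix (Fin n) (Fin n) F), hPP, Matrix.mul_one,
          ← Matrix.mulVec_mulVec]
      rwa [hval, hval, ← hBfv, ← hBfv] at h
    -- images of the standard basis
    let y : Fin n → (Fin n → F) := fun i => P' *ᵥ Pi.single i 1
    have hx : ∀ i, (x : Matrix (Fin n) (Fin n) F) *ᵥ Pi.single i 1 = d i • (Pi.single i 1 : Fin n → F) := by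
      intro i
      show Matrix.diagonal d *ᵥ _ = _
      rw [Matrix.diagonal_mulVec_single, ← Pi.single_smul', smul_eq_mul]
    have hpair : ∀ i j, d i * d j * Bf (y i) (y j) = (lam : F) * Bf (y i) (y j) := by
      intro i j
      have h := hsim (Pi.single i 1) (Pi.single j 1)
      simp only [hx, Matrix.mulVec_smul, map_smul, LinearMap.smul_apply, smul_eq_mul] at h
      linear_combination h
    have hall0 : ∀ v, (∀ i, Bf v (y i) = 0) → v = 0 := by
      intro v hv
      refine hBf.nondeg v fun t => ?_
      have ht : t = ∑ i, ((P : Matrix (Fin n) (Fin n) F) *ᵥ t) i • y i := by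
        simp only [y]
        simp_rw [← Matrix.mulVec_smul]
        rw [← Matrix.mulVec_sum, ← pi_eq_sum_univ' ((P : Matrix (Fin n) (Fin n) F) *ᵥ t),
          Matrix.mulVec_mulVec, mul_eq_one_comm.mp hPP, Matrix.one_mulVec]
      rw [ht, map_sum]
      exact Finset.sum_eq_zero fun i _ => by rw [map_smul, hv, smul_zero]
    have hy0 : ∀ i, y i ≠ 0 := by
      intro i h
      have h' := congrArg (fun t => (P : Matrix (Fin n) (Fin n) F) *ᵥ t) h
      simp only [y, Matrix.mulVec_mulVec, hPP, Matrix.one_mulVec, Matrix.mulVec_zero] at h'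
      simpa using congrFun h' i
    have hlc : (lam : F) = c ^ 2 := by
      by_contra hne
      have hW : ∀ i j, i ≠ a → j ≠ a → Bf (y i) (y j) = 0 := by
        intro i j hi hj
        have h := hpair i j
        simp only [d, if_neg hi, if_neg hj] at h
        have h' : (c ^ 2 - (lam : F)) * Bf (y i) (y j) = 0 := by linear_combination h
        exact (mul_eq_zero.mp h').resolve_left (sub_ne_zero.mpr (Ne.symm hne))
      have hba : b ≠ a := by simp [a, b]
      have hea : e ≠ a := by simp [a, e]
      by_cases hb : Bf (y b) (y a) = 0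
      · exact hy0 b (hall0 _ fun i => by
          by_cases hi : i = a
          · rw [hi, hb]
          · exact hW b i hba hi)
      · set t := Bf (y e) (y a) / Bf (y b) (y a)
        have h0 : y e - t • y b = 0 := hall0 _ fun i => by
          rw [map_sub, map_smul, LinearMap.sub_apply, LinearMap.smul_apply, smul_eq_mul]
          by_cases hi : i = a
          · rw [hi, div_mul_cancel₀ _ hb, sub_self]
          · rw [hW e i hea hi, hW b i hba hi, mul_zero, sub_self]
        have h1 := congrArg (fun v => (P : Matrix (Fin n) (Fin n) F) *ᵥ v) h0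
        simp only [y, Matrix.mulVec_sub, Matrix.mulVec_smul, Matrix.mulVec_mulVec, hPP,
          Matrix.one_mulVec, Matrix.mulVec_zero] at h1
        simpa [b, e] using congrFun h1 e
    refine hy0 a (hall0 _ fun i => ?_)
    by_cases hi : i = a
    · rw [hi]; exact hBf.self _
    · have h := hpair a i
      simp only [d, if_pos (rfl : a = a), if_neg hi, hlc] at h
      have h' : ((2 : F) * c ^ 2) * Bf (y a) (y i) = 0 := by linear_combination -h
      exact (mul_eq_zero.mp h').resolve_left (mul_ne_zero h2 (pow_ne_zero 2 hc0))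
  · intro hle x ⟨z, hz⟩ hns
    rw [Matrix.SpecialLinearGroup.coe_pow, pow_two] at hz
    set X := (x : Matrix (Fin n) (Fin n) F) with hX
    have hz0 : z ≠ 0 := by
      intro h
      have := congrArg Matrix.det hz
      rw [Matrix.det_mul, show X.det = 1 from x.2, h, zero_smul,
        show (0 : Matrix (Fin n) (Fin n) F).det = 0 from by
          haveI : Nonempty (Fin n) := ⟨⟨0, by omega⟩⟩
          exact Matrix.det_zero, mul_one] at this
      exact one_ne_zero this
    have hff : Matrix.toLin' X * Matrix.toLin' X = z • 1 := by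
      rw [Module.End.mul_eq_comp, ← Matrix.toLin'_mul, hz, map_smul, Matrix.toLin'_one]
      rfl
    obtain ⟨mu, β, _, _, b, B, hP, -⟩ := exists_pairForm hz0 hff
      (by rwa [Module.finrank_fin_fun]) (by rw [LinearMap.det_toLin']; exact x.2)
      (fun h2 c hc => (exists_pow_eq_neg_one_iff hn0 h2).mp
        ⟨c, by rwa [Module.finrank_fin_fun] at hc⟩ hle)
    have hcard : 2 * Fintype.card β = n := by
      have h := finrank_eq_card_basis b
      rw [Module.finrank_fin_fun, Fintype.card_prod, Fintype.card_fin] at h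
      omega
    obtain ⟨w, hw⟩ := exists_hyperbolic_basis hBf (β := β) hcard
    obtain ⟨P, hPx⟩ := hP.exists_sl_conj hn0 hz0 w
    have hmu : mu ≠ 0 := by
      obtain ⟨i⟩ : Nonempty β := Fintype.card_pos_iff.mp (by omega)
      rw [← hP.det i]
      rcases hP.blocks i with ⟨e, he, hB⟩ | hB
      · rw [hB, Matrix.det_fin_two]
        simpa [he] using hz0
      · rw [hB, Matrix.det_fin_two]
        simpa using hz0
    refine ⟨P, ⟨Units.mk0 mu hmu, fun u v => ?_⟩⟩
    have hval : ((P⁻¹ * x * P : Matrix.SpecialLinearGroup (Fin n) F) : Matrix (Fin n) (Fin n) F) =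
        LinearMap.toMatrix' (Matrix.toLin w w (Matrix.blockDiagonal B)) := by
      rw [Matrix.SpecialLinearGroup.coe_mul, Matrix.SpecialLinearGroup.coe_mul, ← hX,
        Matrix.mul_assoc, hPx, ← Matrix.mul_assoc, ← Matrix.SpecialLinearGroup.coe_mul,
        inv_mul_cancel, Matrix.SpecialLinearGroup.coe_one, Matrix.one_mul]
    show f (((P⁻¹ * x * P : Matrix.SpecialLinearGroup (Fin n) F) : Matrix (Fin n) (Fin n) F) *ᵥ u)
      (((P⁻¹ * x * P : Matrix.SpecialLinearGroup (Fin n) F) : Matrix (Fin n) (Fin n) F) *ᵥ v) = _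
    rw [hval, LinearMap.toMatrix'_mulVec, LinearMap.toMatrix'_mulVec, Units.val_mk0, ← hBfv, ← hBfv,
      similitude_of_blocks hw hP.det]


end Cfsg.Agent.S5967
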