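import Cfsg.Statements.S5968
import Cfsg.Agent.Lib.Symplectic.Order
import Cfsg.Agent.Lib.Elusive.Linear
import Cfsg.Agent.Lib.Elusive.UnipotentType
import Cfsg.Agent.Lib.Linear.Order
import Cfsg.Agent.Lib.JordanType.Parity
import Cfsg.Agent.Lib.JordanType.Conj
-- import your own Cfsg.Agent.* helpers here

set_option autoImplicit false
open scoped MatrixGroups
open Cfsg

namespace Cfsg.Agent.S5968

open Module Cfsg.Agent.Lib.Symplectic

variable {F : Type*} [Field F] {n : ℕ} {f : (Fin n → F) → (Fin n → F) → F}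

/-- The form as a bilinear map. -/
def bil (hf : Cfsg.Geo.IsSymplecticForm f) : (Fin n → F) →ₗ[F] (Fin n → F) →ₗ[F] F :=
  LinearMap.mk₂ F f hf.bilinear.add_left hf.bilinear.smul_left hf.bilinear.add_right hf.bilinear.smul_right

theorem bil_apply (hf : Cfsg.Geo.IsSymplecticForm f) (u v : Fin n → F) : bil hf u v = f u v := rfl

theorem isSympForm_bil (hf : Cfsg.Geo.IsSymplecticForm f) : IsSympForm (bil hf) :=
  ⟨fun x => hf.alternating x, fun x hx => by
    by_contra h
    obtain ⟨y, hy⟩ := (hf.nondegenerate x h).2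
    exact hy (hx y)⟩

/-- A conjugate in the similitude group gives a form moved only by a scalar. -/
theorem exists_form (hf : Cfsg.Geo.IsSymplecticForm f) (x : Matrix.SpecialLinearGroup (Fin n) F)
    (P : Matrix.SpecialLinearGroup (Fin n) F)
    (h : P⁻¹ * x * P ∈ ((Cfsg.Geo.similarityGroup f).comap (Matrix.SpecialLinearGroup.toGL :
      Matrix.SpecialLinearGroup (Fin n) F →* GL (Fin n) F))) :
    ∃ B : (Fin n → F) →ₗ[F] (Fin n → F) →ₗ[F] F, IsSympForm B ∧ ∃ c : F,
      ∀ u v, B (Matrix.toLin' (x : Matrix (Fin n) (Fin n) F) u)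
        (Matrix.toLin' (x : Matrix (Fin n) (Fin n) F) v) = c * B u v := by
  obtain ⟨c, hc⟩ := h
  set Q := Matrix.toLin' ((P⁻¹ : Matrix.SpecialLinearGroup (Fin n) F) : Matrix (Fin n) (Fin n) F)
  have hQ : ∀ u, Matrix.toLin' (P : Matrix (Fin n) (Fin n) F) (Q u) = u := fun u => by
    rw [← LinearMap.comp_apply, ← Matrix.toLin'_mul, ← Matrix.SpecialLinearGroup.coe_mul, mul_inv_cancel,
      Matrix.SpecialLinearGroup.coe_one, Matrix.toLin'_one, LinearMap.id_apply]
  have hQ' : ∀ u, Q (Matrix.toLin' (P : Matrix (Fin n) (Fin n) F) u) = u := fun u => by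
    rw [← LinearMap.comp_apply, ← Matrix.toLin'_mul, ← Matrix.SpecialLinearGroup.coe_mul, inv_mul_cancel,
      Matrix.SpecialLinearGroup.coe_one, Matrix.toLin'_one, LinearMap.id_apply]
  refine ⟨(bil hf).compl₁₂ Q Q, ⟨fun u => hf.alternating _, fun u hu => ?_⟩, c, fun u v => ?_⟩
  · have h1 : Q u = 0 := (isSympForm_bil hf).nondeg _ fun y => by
      have h2 := hu (Matrix.toLin' (P : Matrix (Fin n) (Fin n) F) y)
      rwa [LinearMap.compl₁₂_apply, hQ'] at h2
    rw [← hQ u, h1, map_zero]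
  · have hA : ∀ w, Q (Matrix.toLin' (x : Matrix (Fin n) (Fin n) F) w) =
        Matrix.mulVec ((P⁻¹ * x * P : Matrix.SpecialLinearGroup (Fin n) F) : Matrix (Fin n) (Fin n) F) (Q w) := fun w => by
      rw [← Matrix.toLin'_apply, Matrix.SpecialLinearGroup.coe_mul, Matrix.SpecialLinearGroup.coe_mul,
        Matrix.toLin'_mul, Matrix.toLin'_mul, LinearMap.comp_apply, LinearMap.comp_apply, hQ]
    rw [LinearMap.compl₁₂_apply, LinearMap.compl₁₂_apply, bil_apply, bil_apply, hA, hA]
    exact hc (Q u) (Q v)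

theorem scalar_pow {B : (Fin n → F) →ₗ[F] (Fin n → F) →ₗ[F] F} {g : Module.End F (Fin n → F)} {c : F}
    (h : ∀ u v, B (g u) (g v) = c * B u v) : ∀ k u v, B ((g ^ k) u) ((g ^ k) v) = c ^ k * B u v := by
  intro k
  induction k with
  | zero => intro u v; simp
  | succ k ih =>
    intro u v
    rw [pow_succ', Module.End.mul_apply, Module.End.mul_apply, h, ih, pow_succ', mul_assoc]

theorem scalar_root {B : (Fin n → F) →ₗ[F] (Fin n → F) →ₗ[F] F} (hB : IsSympForm B) (hn : 0 < n)
    {g : Module.End F (Fin n → F)} {c : F} (h : ∀ u v, B (g u) (g v) = c * B u v) {r : ℕ} (hg : g ^ r = 1) :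
    c ^ r = 1 := by
  obtain ⟨v, hv⟩ := hB.exists_eq_one (u := Pi.single ⟨0, hn⟩ 1) (by simp)
  have h1 := scalar_pow h r (Pi.single ⟨0, hn⟩ 1) v
  rw [hg, Module.End.one_apply, Module.End.one_apply, hv, mul_one] at h1
  exact h1.symm

/-- Characteristic `r`: one block of size three. -/
theorem exists_unipotent {r : ℕ} [Fact r.Prime] [CharP F r] (hr2 : r ≠ 2) (hn : 4 ≤ n) (he : Even n)
    (hf : Cfsg.Geo.IsSymplecticForm f) :
    ∃ x : Matrix.SpecialLinearGroup (Fin n) F,
      (∃ z : F, ((x ^ r : Matrix.SpecialLinearGroup (Fin n) F) : Matrix (Fin n) (Fin n) F) = z • (1 : Matrix (Fin n) (Fin n) F)) ∧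
      (∀ z : F, (x : Matrix (Fin n) (Fin n) F) ≠ z • (1 : Matrix (Fin n) (Fin n) F)) ∧
      ∀ P : Matrix.SpecialLinearGroup (Fin n) F, P⁻¹ * x * P ∉ ((Cfsg.Geo.similarityGroup f).comap
        (Matrix.SpecialLinearGroup.toGL : Matrix.SpecialLinearGroup (Fin n) F →* GL (Fin n) F)) := by
  have hr3 : 3 ≤ r := lt_of_le_of_ne (Fact.out : r.Prime).two_le (Ne.symm hr2)
  obtain ⟨s, d, x, hd, hd1, hdr, hxr, hns, ⟨C⟩⟩ := Lib.Elusive.UnipotentType.exists_sl (F := F) r n
    (3 ::ₘ Multiset.replicate (n - 3) 1) (by simp; omega) (fun a ha => by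
      rcases Multiset.mem_cons.mp ha with rfl | ha
      · omega
      · rw [Multiset.eq_of_mem_replicate ha]; omega) ⟨3, Multiset.mem_cons_self _ _, by omega⟩
  refine ⟨x, ⟨1, by rw [hxr, Matrix.SpecialLinearGroup.coe_one, one_smul]⟩, hns, fun P hP => ?_⟩
  obtain ⟨B, hB, c, hc⟩ := exists_form hf x P hP
  set g := Matrix.toLin' (x : Matrix (Fin n) (Fin n) F)
  have hgr : g ^ r = 1 := by
    rw [← Matrix.toLin'_pow, ← Matrix.SpecialLinearGroup.coe_pow, hxr, Matrix.SpecialLinearGroup.coe_one,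
      Matrix.toLin'_one]
    rfl
  have hc1 : c = 1 := frobenius_inj F r (by rw [frobenius_def, frobenius_def, one_pow, scalar_root hB (by omega) hc hgr])
  have hA : LinearMap.BilinForm.IsAlt B := hB.self
  have hnd : LinearMap.BilinForm.Nondegenerate B :=
    ⟨fun u hu => hB.nondeg u hu, fun u hu => hB.nondeg u fun y => (hB.comm_eq_zero).mp (hu y)⟩
  have h3 := Lib.JordanType.even_count_of_alt (B := B) (N := g - 1) hnd hA
    (fun u v => by simpa [hc1] using hc u v) C (j := 3) ⟨1, rfl⟩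
  rw [← Lib.Elusive.UnipotentType.count_parts, hd, Multiset.count_cons_self, Multiset.count_replicate,
    if_neg (by omega)] at h3
  exact absurd h3 (by decide)

/-- Paired coordinates of a diagonal similitude. -/
theorem card_le_paired {B : (Fin n → F) →ₗ[F] (Fin n → F) →ₗ[F] F} (hB : IsSympForm B) (w : Fin n → F)
    {c : F} (h : ∀ u v, B (Matrix.toLin' (Matrix.diagonal w) u) (Matrix.toLin' (Matrix.diagonal w) v) = c * B u v)
    (a b : F) (hab : ∀ j, w j ≠ b → a * w j ≠ c) :
    Nat.card {i // w i = a} ≤ Nat.card {j // w j = b} := by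
  classical
  have hsingle : ∀ i, Matrix.toLin' (Matrix.diagonal w) (Pi.single i 1) = w i • Pi.single i (1 : F) := fun i => by
    funext k
    simp [Matrix.mulVec_diagonal, Pi.single_apply]
    split_ifs with hki <;> simp [hki]
  have hzero : ∀ i j, w i * w j ≠ c → B (Pi.single i 1) (Pi.single j 1) = 0 := fun i j hij => by
    have h1 := h (Pi.single i 1) (Pi.single j 1)
    rw [hsingle, hsingle, map_smul, map_smul, LinearMap.smul_apply, smul_eq_mul, smul_eq_mul, ← mul_assoc] at h1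
    by_contra h0
    exact hij (mul_right_cancel₀ h0 (by rw [← h1]; ring))
  let E : ({i // w i = a} → F) →ₗ[F] (Fin n → F) :=
    Fintype.linearCombination F fun i : {i // w i = a} => Pi.single i.1 1
  have hE : Function.Injective E := fun g g' h => funext fun i => by
    have := congrFun h i.1
    simpa [E, Fintype.linearCombination_apply, Pi.single_apply, Subtype.val_inj] using this
  let L : ({i // w i = a} → F) →ₗ[F] ({j // w j = b} → F) :=
    LinearMap.pi fun j => (B.flip (Pi.single j.1 1)).comp E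
  have hL : Function.Injective L := by
    rw [injective_iff_map_eq_zero]
    intro g hg
    refine (injective_iff_map_eq_zero E).mp hE g (hB.nondeg _ fun y => ?_)
    have hall : ∀ j, B (E g) (Pi.single j 1) = 0 := fun j => by
      by_cases hj : w j = b
      · exact congrFun hg ⟨j, hj⟩
      · simp only [E, Fintype.linearCombination_apply, map_sum, LinearMap.sum_apply, map_smul, LinearMap.smul_apply]
        refine Finset.sum_eq_zero fun i _ => ?_
        rw [hzero _ _ (i.2.symm ▸ hab j hj), smul_zero]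
    have h2 : B (E g) = 0 := (Pi.basisFun F (Fin n)).ext fun j => by simpa using hall j
    rw [h2, LinearMap.zero_apply]
  have h3 := LinearMap.finrank_le_finrank_of_injective hL
  rwa [finrank_fintype_fun_eq_card, finrank_fintype_fun_eq_card, ← Nat.card_eq_fintype_card,
    ← Nat.card_eq_fintype_card] at h3

/-- The field contains the `r`-th roots of unity. -/
theorem exists_diagonal [Fintype F] {r : ℕ} [hr : Fact r.Prime] (hr2 : r ≠ 2) (hdvd : r ∣ Fintype.card F - 1)
    (hn : 4 ≤ n) (he : Even n) (hgap : ¬ (n = 6 ∧ r = 3)) (hf : Cfsg.Geo.IsSymplecticForm f) :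
    ∃ x : Matrix.SpecialLinearGroup (Fin n) F,
      (∃ z : F, ((x ^ r : Matrix.SpecialLinearGroup (Fin n) F) : Matrix (Fin n) (Fin n) F) = z • (1 : Matrix (Fin n) (Fin n) F)) ∧
      (∀ z : F, (x : Matrix (Fin n) (Fin n) F) ≠ z • (1 : Matrix (Fin n) (Fin n) F)) ∧
      ∀ P : Matrix.SpecialLinearGroup (Fin n) F, P⁻¹ * x * P ∉ ((Cfsg.Geo.similarityGroup f).comap
        (Matrix.SpecialLinearGroup.toGL : Matrix.SpecialLinearGroup (Fin n) F →* GL (Fin n) F)) := by
  classical
  obtain ⟨u, hu⟩ := exists_prime_orderOf_dvd_card r (show r ∣ Fintype.card Fˣ by rwa [Fintype.card_units])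
  set ζ : F := (u : F) with hζdef
  have hζ : orderOf ζ = r := by rw [hζdef, orderOf_units, hu]
  have hζr : ζ ^ r = 1 := hζ ▸ pow_orderOf_eq_one ζ
  have hζ0 : ζ ≠ 0 := Units.ne_zero u
  have hne : ∀ k, 0 < k → k < r → ζ ^ k ≠ 1 := fun k h1 h2 =>
    pow_ne_one_of_lt_orderOf (by omega) (by omega)
  have hr3 : 3 ≤ r := lt_of_le_of_ne hr.out.two_le (Ne.symm hr2)
  have hζ1 : ζ ≠ 1 := by simpa using hne 1 one_pos (by omega)
  have hζ2 : ζ ^ 2 ≠ 1 := hne 2 two_pos (by omega)
  let w : Fin n → F := fun i => if (i : ℕ) = 0 ∨ (i : ℕ) = 1 then ζ else if (i : ℕ) = 2 then (ζ ^ 2)⁻¹ else 1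
  have hcases : ∀ i : Fin n, ((i : ℕ) < 2 ∧ w i = ζ) ∨ ((i : ℕ) = 2 ∧ w i = (ζ ^ 2)⁻¹) ∨ (3 ≤ (i : ℕ) ∧ w i = 1) := by
    intro i
    by_cases h1 : (i : ℕ) = 0 ∨ (i : ℕ) = 1
    · exact Or.inl ⟨by omega, if_pos h1⟩
    · by_cases h2 : (i : ℕ) = 2
      · exact Or.inr (Or.inl ⟨h2, by simp only [w, if_neg h1, if_pos h2]⟩)
      · exact Or.inr (Or.inr ⟨by omega, by simp only [w, if_neg h1, if_neg h2]⟩)
  have hdet : (Matrix.diagonal w).det = 1 := by
    obtain ⟨m, rfl⟩ : ∃ m, n = m + 3 := ⟨n - 3, by omega⟩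
    rw [Matrix.det_diagonal, Fin.prod_univ_succ, Fin.prod_univ_succ, Fin.prod_univ_succ]
    simp only [w, Fin.val_succ, Fin.val_zero]
    norm_num
    field_simp
    exact Finset.prod_eq_one fun i _ => if_neg (by omega)
  let x : Matrix.SpecialLinearGroup (Fin n) F := ⟨Matrix.diagonal w, hdet⟩
  have hwr : ∀ i, w i ^ r = 1 := fun i => by
    rcases hcases i with ⟨-, h⟩ | ⟨-, h⟩ | ⟨-, h⟩ <;> rw [h]
    · exact hζr
    · rw [inv_pow, ← pow_mul, mul_comm, pow_mul, hζr, one_pow, inv_one]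
    · exact one_pow _
  refine ⟨x, ⟨1, ?_⟩, fun z hz => ?_, fun P hP => ?_⟩
  · rw [Matrix.SpecialLinearGroup.coe_pow]
    show Matrix.diagonal w ^ r = _
    rw [Matrix.diagonal_pow, one_smul, ← Matrix.diagonal_one]
    exact congrArg Matrix.diagonal (funext fun i => by rw [Pi.pow_apply, hwr])
  · have hzw : ∀ i, w i = z := fun i => by
      have := congrFun (congrFun hz i) i
      simpa [x] using this
    have h3 := hzw ⟨3, by omega⟩
    have h0 := hzw ⟨0, by omega⟩
    simp [w] at h0 h3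
    exact hζ1 (h0.trans h3.symm)
  obtain ⟨B, hB, c, hc⟩ := exists_form hf x P hP
  have hgr : Matrix.toLin' (x : Matrix (Fin n) (Fin n) F) ^ r = 1 := by
    rw [← Matrix.toLin'_pow]
    show Matrix.toLin' (Matrix.diagonal w ^ r) = _
    rw [Matrix.diagonal_pow, show (w ^ r : Fin n → F) = 1 from funext hwr,
      show Matrix.diagonal (1 : Fin n → F) = 1 from Matrix.diagonal_one, Matrix.toLin'_one]
    rfl
  have hc0 : c ≠ 0 := fun h0 => by
    have := scalar_root hB (by omega) hc hgr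
    rw [h0, zero_pow hr.out.ne_zero] at this
    exact zero_ne_one this
  have key : ∀ a : F, a ≠ 0 → Nat.card {i // w i = a} ≤ Nat.card {j // w j = c / a} := fun a ha =>
    card_le_paired hB w hc a (c / a) fun j hj hac => hj (by rw [← hac]; field_simp)
  have hone : ∀ P : F → Prop, P (w ⟨3, by omega⟩) → P 1 := fun P h => by simpa [w] using h
  -- the partner of the value `1` occurs
  have hpart : ∃ j, w j = c := by
    by_contra hne'
    have h1 := key 1 one_ne_zero
    rw [div_one] at h1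
    have h2 : 0 < Nat.card {i // w i = 1} := Nat.card_pos_iff.mpr
      ⟨⟨⟨⟨3, by omega⟩, by simp [w]⟩⟩, inferInstance⟩
    have h3 : IsEmpty {j // w j = c} := ⟨fun j => hne' ⟨j.1, j.2⟩⟩
    rw [Nat.card_of_isEmpty (α := {j // w j = c})] at h1
    omega
  by_cases h3r : r = 3
  · subst h3r
    have hζsq : (ζ ^ 2)⁻¹ = ζ := inv_eq_of_mul_eq_one_right (by rw [← pow_succ]; exact hζr)
    have hcnt : ∀ i : Fin n, ((i : ℕ) < 3 ∧ w i = ζ) ∨ (3 ≤ (i : ℕ) ∧ w i = 1) := fun i => by
      rcases hcases i with ⟨h1, h2⟩ | ⟨h1, h2⟩ | h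
      · exact Or.inl ⟨by omega, h2⟩
      · exact Or.inl ⟨by omega, h2.trans hζsq⟩
      · exact Or.inr h
    have e3 : Nat.card {i // w i = ζ} = 3 := by
      rw [Nat.card_congr (Equiv.subtypeEquivRight (q := fun i : Fin n => (i : ℕ) < 3) fun i => ?_),
        Nat.card_congr (Fin.castLEquiv (show 3 ≤ n by omega)).symm, Nat.card_fin]
      rcases hcnt i with ⟨h1, h2⟩ | ⟨h1, h2⟩
      · simp [h1, h2]
      · simp [h2, Ne.symm hζ1, show ¬ (i : ℕ) < 3 by omega]
    have e1 : Nat.card {i // w i = 1} = n - 3 := by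
      have h := Nat.card_congr (Equiv.sumCompl fun i => w i = ζ)
      rw [Nat.card_sum, e3, Nat.card_fin, Nat.card_congr (Equiv.subtypeEquivRight
        (q := fun i : Fin n => w i = 1) fun i => ?_)] at h
      · omega
      rcases hcnt i with ⟨h1, h2⟩ | ⟨h1, h2⟩
      · simp [h2, hζ1]
      · simp [h2, Ne.symm hζ1]
    have hn6 : n ≠ 6 := fun h => hgap ⟨h, rfl⟩
    obtain ⟨j, hj⟩ := hpart
    rcases hcnt j with ⟨-, h⟩ | ⟨-, h⟩
    · -- the two values are exchanged
      rw [h] at hj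
      have h1 := key 1 one_ne_zero
      have h4 := key ζ hζ0
      rw [← hj] at h1 h4
      rw [div_one, e1, e3] at h1
      rw [div_self hζ0, e1, e3] at h4
      omega
    · rw [h] at hj
      have h4 := key ζ hζ0
      rw [← hj, one_div] at h4
      have h5 : IsEmpty {j // w j = ζ⁻¹} := ⟨fun ⟨i, hi⟩ => by
        rcases hcnt i with ⟨-, h'⟩ | ⟨-, h'⟩ <;> rw [h'] at hi
        · exact hζ2 (by rw [pow_two]; nth_rw 1 [hi]; exact inv_mul_cancel₀ hζ0)
        · exact hζ1 (inv_eq_one.mp hi.symm)⟩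
      rw [Nat.card_of_isEmpty (α := {j // w j = ζ⁻¹}), e3] at h4
      omega
  · have hr5 : 4 < r := by
      rcases Nat.lt_or_ge 4 r with h | h
      · exact h
      · exfalso
        have h4 : r = 4 := by omega
        exact absurd hr.out (h4 ▸ by norm_num)
    have h31 : ζ ^ 3 ≠ 1 := hne 3 (by omega) (by omega)
    have h41 : ζ ^ 4 ≠ 1 := hne 4 (by omega) (by omega)
    have hinv2 : (ζ ^ 2)⁻¹ ≠ ζ := fun h => h31 (by
      have h' := mul_inv_cancel₀ (pow_ne_zero 2 hζ0)
      rw [h] at h'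
      rw [pow_succ]
      exact h')
    have e2 : Nat.card {i // w i = ζ} = 2 := by
      rw [Nat.card_congr (Equiv.subtypeEquivRight (q := fun i : Fin n => (i : ℕ) < 2) fun i => ?_),
        Nat.card_congr (Fin.castLEquiv (show 2 ≤ n by omega)).symm, Nat.card_fin]
      rcases hcases i with ⟨h1, h2⟩ | ⟨h1, h2⟩ | ⟨h1, h2⟩
      · simp [h1, h2]
      · simp [h2, hinv2, h1]
      · simp [h2, Ne.symm hζ1, show ¬ (i : ℕ) < 2 by omega]
    have e2' : Nat.card {i // w i = (ζ ^ 2)⁻¹} = 1 := by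
      rw [Nat.card_eq_one_iff_unique]
      refine ⟨⟨fun a b => Subtype.ext (Fin.ext ?_)⟩, ⟨⟨⟨2, by omega⟩, by simp [w]⟩⟩⟩
      have : ∀ a : {i // w i = (ζ ^ 2)⁻¹}, ((a : Fin n) : ℕ) = 2 := fun ⟨i, hi⟩ => by
        rcases hcases i with ⟨-, h2⟩ | ⟨h1, -⟩ | ⟨-, h2⟩
        · exact absurd (h2.symm.trans hi) hinv2.symm
        · exact h1
        · rw [h2] at hi; exact absurd (inv_eq_one.mp hi.symm) hζ2
      rw [this a, this b]
    have e1 : Nat.card {i // w i = 1} = n - 3 := by
      rw [Nat.card_congr (Equiv.subtypeEquivRight (q := fun i : Fin n => ¬ (i : ℕ) < 3) fun i => ?_),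
        Nat.card_eq_fintype_card, Fintype.card_subtype_compl, Fintype.card_fin,
        Fintype.card_congr (Fin.castLEquiv (show 3 ≤ n by omega)).symm, Fintype.card_fin]
      rcases hcases i with ⟨h1, h2⟩ | ⟨h1, h2⟩ | ⟨h1, h2⟩
      · simp [h2, hζ1, show (i : ℕ) < 3 by omega]
      · simp [h2, inv_eq_one, hζ2, show (i : ℕ) < 3 by omega]
      · simp [h2, show 3 ≤ (i : ℕ) by omega]
    have hodd : n - 3 ≠ 2 := by obtain ⟨k, hk⟩ := he; omega
    -- the value of multiplicity two is its own partner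
    have hcζ : c = ζ * ζ := by
      have h1 := key ζ hζ0
      rw [e2] at h1
      obtain ⟨⟨j, hj⟩⟩ : Nonempty {j // w j = c / ζ} := by
        by_contra hemp
        rw [not_nonempty_iff] at hemp
        rw [Nat.card_of_isEmpty] at h1
        omega
      have h2 : Nat.card {j // w j = c / ζ} ≤ 2 → c = ζ * w j := fun _ => by rw [hj]; field_simp
      rcases hcases j with ⟨-, h⟩ | ⟨-, h⟩ | ⟨-, h⟩
      · rw [h] at hj; rw [eq_div_iff hζ0] at hj; exact hj.symm
      · rw [h] at hj; rw [← hj, e2'] at h1; omega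
      · rw [h] at hj
        have h4 := key 1 one_ne_zero
        rw [← hj, e1] at h1
        rw [div_one, show c = ζ by rw [eq_div_iff hζ0, one_mul] at hj; exact hj.symm, e1, e2] at h4
        omega
    obtain ⟨j, hj⟩ := hpart
    rw [hcζ, ← pow_two] at hj
    rcases hcases j with ⟨-, h⟩ | ⟨-, h⟩ | ⟨-, h⟩ <;> rw [h] at hj
    · exact hζ1 (mul_right_cancel₀ hζ0 (by rw [one_mul, ← pow_two, ← hj]))
    · refine h41 ?_
      rw [show ζ ^ 4 = ζ ^ 2 * ζ ^ 2 by ring]
      nth_rw 1 [← hj]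
      exact inv_mul_cancel₀ (pow_ne_zero 2 hζ0)
    · exact hζ2 hj.symm

variable [Fintype F]

theorem prod_split (g : ℕ → ℕ) : ∀ m, ∏ i ∈ Finset.range (2 * m), g (i + 1) =
    (∏ i ∈ Finset.range m, g (2 * i + 1)) * ∏ i ∈ Finset.range m, g (2 * (i + 1)) := by
  intro m
  induction m with
  | zero => simp
  | succ m ih =>
    rw [Nat.mul_succ, Finset.prod_range_succ, Finset.prod_range_succ, ih, Finset.prod_range_succ,
      Finset.prod_range_succ]
    ring

/-- A divisor of the index prime to `q (q - 1)` divides some `q ^ j - 1` with `j` odd. -/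
theorem exists_odd_of_index {r : ℕ} [hr : Fact r.Prime] (hrq : ¬ r ∣ Fintype.card F)
    (hr1 : ¬ r ∣ Fintype.card F - 1) {m : ℕ} (hm : n = 2 * m) (hm0 : 0 < m) (hf : Cfsg.Geo.IsSymplecticForm f)
    (h : r ∣ ((Cfsg.Geo.similarityGroup f).comap (Matrix.SpecialLinearGroup.toGL :
      Matrix.SpecialLinearGroup (Fin n) F →* GL (Fin n) F)).index) :
    ∃ j, Odd j ∧ j ≤ n ∧ r ∣ Fintype.card F ^ j - 1 := by
  classical
  set q := Fintype.card F with hq
  let d : Isom (bil hf) →* Fˣ := LinearEquiv.det.comp (Isom (bil hf)).subtype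
  have hmem : ∀ g : d.ker, (LinearMap.toMatrix' (((g : Isom (bil hf)) : (Fin n → F) ≃ₗ[F] (Fin n → F)) :
      (Fin n → F) →ₗ[F] (Fin n → F))).det = 1 := fun g => by
    rw [LinearMap.det_toMatrix', ← LinearEquiv.coe_det]
    exact congrArg Units.val g.2
  let φ : d.ker →* Matrix.SpecialLinearGroup (Fin n) F :=
    { toFun := fun g => ⟨_, hmem g⟩
      map_one' := Subtype.ext LinearMap.toMatrix'_id
      map_mul' := fun g g' => Subtype.ext (LinearMap.toMatrix'_comp _ _) }
  have hφ : Function.Injective φ := fun g g' hgg => by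
    have h1 : LinearMap.toMatrix' _ = LinearMap.toMatrix' _ := congrArg Subtype.val hgg
    exact Subtype.ext (Subtype.ext (LinearEquiv.toLinearMap_injective (LinearMap.toMatrix'.injective h1)))
  have hle : φ.range ≤ ((Cfsg.Geo.similarityGroup f).comap (Matrix.SpecialLinearGroup.toGL :
      Matrix.SpecialLinearGroup (Fin n) F →* GL (Fin n) F)) := by
    rintro _ ⟨g, rfl⟩
    refine ⟨1, fun u v => ?_⟩
    show f (Matrix.mulVec (LinearMap.toMatrix' _) u) (Matrix.mulVec (LinearMap.toMatrix' _) v) = _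
    rw [LinearMap.toMatrix'_mulVec, LinearMap.toMatrix'_mulVec, Units.val_one, one_mul]
    exact (g : Isom (bil hf)).2 u v
  haveI : Finite (Isom (bil hf)) := Finite.of_injective (fun g => fun v => (g : (Fin n → F) ≃ₗ[F] (Fin n → F)) v)
    fun g g' hgg => Subtype.ext (LinearEquiv.ext (congrFun hgg))
  have hidx : d.ker.index ∣ q - 1 := by
    rw [Subgroup.index_ker, hq, ← Fintype.card_units, ← Nat.card_eq_fintype_card]
    exact Subgroup.card_subgroup_dvd_card _
  have hK := Subgroup.index_mul_card d.ker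
  rw [card_isom (isSympForm_bil hf) (q := q) (by rw [Nat.card_eq_fintype_card]) (m := m)
    (by rw [finrank_fin_fun, hm])] at hK
  have h1 : r ∣ φ.range.index := h.trans (Subgroup.index_dvd_of_le hle)
  have h2 := Subgroup.index_mul_card φ.range
  rw [Nat.card_congr (MonoidHom.ofInjective hφ).toEquiv.symm] at h2
  have h3 := Lib.Linear.sub_one_mul_card_SL (F := F) n (by omega)
  rw [← h2, ← hq] at h3
  have h4 : ∏ i : Fin n, (q ^ n - q ^ (i : ℕ)) =
      q ^ (∑ i ∈ Finset.range n, i) * ∏ i ∈ Finset.range n, (q ^ (i + 1) - 1) := by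
    rw [Fin.prod_univ_eq_prod_range (fun i => q ^ n - q ^ i), ← Finset.prod_range_reflect (fun i => q ^ (i + 1) - 1),
      ← Finset.prod_pow_eq_pow_sum, ← Finset.prod_mul_distrib]
    refine Finset.prod_congr rfl fun i hi => ?_
    rw [Finset.mem_range] at hi
    rw [Nat.mul_sub_one, ← pow_add, show i + (n - 1 - i + 1) = n by omega]
  have h6 : ∏ i ∈ Finset.range n, (q ^ (i + 1) - 1) =
      (∏ i ∈ Finset.range m, (q ^ (2 * i + 1) - 1)) * ∏ i ∈ Finset.range m, (q ^ (2 * (i + 1)) - 1) := by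
    rw [hm]
    exact prod_split (fun j => q ^ j - 1) m
  rw [h4, h6] at h3
  have hq1 : 1 < q := Fintype.one_lt_card
  have hpos : 0 < ∏ i ∈ Finset.range m, (q ^ (2 * (i + 1)) - 1) :=
    Finset.prod_pos fun i _ => Nat.sub_pos_of_lt (Nat.one_lt_pow (by omega) hq1)
  have h5 : (q - 1) * φ.range.index * q ^ (m ^ 2) =
      d.ker.index * q ^ (∑ i ∈ Finset.range n, i) * ∏ i ∈ Finset.range m, (q ^ (2 * i + 1) - 1) :=
    Nat.eq_of_mul_eq_mul_left hpos (by linear_combination d.ker.index * h3 - (q - 1) * φ.range.index * hK)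
  have h7 : r ∣ d.ker.index * q ^ (∑ i ∈ Finset.range n, i) * ∏ i ∈ Finset.range m, (q ^ (2 * i + 1) - 1) :=
    h5 ▸ (h1.mul_left _).mul_right _
  rcases hr.out.dvd_mul.mp h7 with h8 | h8
  · rcases hr.out.dvd_mul.mp h8 with h9 | h9
    · exact absurd (h9.trans hidx) hr1
    · exact absurd (hr.out.dvd_of_dvd_pow h9) hrq
  · obtain ⟨i, hi, hd⟩ := (Prime.dvd_finsetProd_iff hr.out.prime _).mp h8
    rw [Finset.mem_range] at hi
    exact ⟨2 * i + 1, ⟨i, rfl⟩, by omega, hd⟩

/-- A single piece of odd dimension. -/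
theorem exists_split_odd {r : ℕ} [hr : Fact r.Prime] (hrF : (r : F) ≠ 0) {i : ℕ}
    (hi : i = orderOf (Fintype.card F : ZMod r)) (hodd : Odd i) (hi1 : 1 < i) (hin : i ≤ n) (he : Even n)
    (hf : Cfsg.Geo.IsSymplecticForm f) :
    ∃ x : Matrix.SpecialLinearGroup (Fin n) F,
      (∃ z : F, ((x ^ r : Matrix.SpecialLinearGroup (Fin n) F) : Matrix (Fin n) (Fin n) F) = z • (1 : Matrix (Fin n) (Fin n) F)) ∧
      (∀ z : F, (x : Matrix (Fin n) (Fin n) F) ≠ z • (1 : Matrix (Fin n) (Fin n) F)) ∧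
      ∀ P : Matrix.SpecialLinearGroup (Fin n) F, P⁻¹ * x * P ∉ ((Cfsg.Geo.similarityGroup f).comap
        (Matrix.SpecialLinearGroup.toGL : Matrix.SpecialLinearGroup (Fin n) F →* GL (Fin n) F)) := by
  subst hi
  set i := orderOf (Fintype.card F : ZMod r) with hi
  have hroot : ∀ z : F, z ^ r = 1 → z = 1 := by
    intro z hzr
    have hz : z ≠ 0 := fun h => by simp [h, hr.out.ne_zero] at hzr
    have h2 : orderOf z ∣ Fintype.card F - 1 :=
      orderOf_dvd_of_pow_eq_one (FiniteField.pow_card_sub_one_eq_one z hz)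
    rcases (Nat.dvd_prime hr.out).mp (orderOf_dvd_of_pow_eq_one hzr) with h3 | h3
    · exact orderOf_eq_one_iff.mp h3
    · exfalso
      rw [h3, ← ZMod.natCast_eq_zero_iff, Nat.cast_sub Fintype.card_pos, Nat.cast_one, sub_eq_zero] at h2
      have : i = 1 := by rw [hi, h2, orderOf_one]
      omega
  have hrank : finrank F (Fin n → F) = n := finrank_fin_fun F
  obtain ⟨g, hg, hge⟩ := Lib.Elusive.exists_split (V := Fin n → F) hrF (n - i) 1 (by rw [hrank, one_mul]; omega)
  obtain ⟨x, hx⟩ := Lib.Elusive.Linear.exists_sl g (hroot _ (Lib.Elusive.det_pow_eq_one hg))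
  refine ⟨x, ⟨1, by rw [Lib.Elusive.Linear.eq_smul_one_iff, Lib.Elusive.Linear.toLin_pow, hx, hg, one_smul]⟩,
    fun z hz => ?_, fun P hP => ?_⟩
  · rw [Lib.Elusive.Linear.eq_smul_one_iff, hx] at hz
    subst hz
    rw [_root_.smul_pow, one_pow] at hg
    have hz1 : z ^ r = 1 := by
      simpa using congrFun (LinearMap.congr_fun hg (fun _ => 1)) (⟨0, by omega⟩ : Fin n)
    have htop : End.eigenspace (z • (1 : Module.End F (Fin n → F))) 1 = ⊤ := by
      rw [eq_top_iff]
      intro v _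
      rw [End.mem_eigenspace_iff, hroot z hz1]
      simp
    rw [htop, finrank_top, hrank] at hge
    omega
  obtain ⟨B, hB, c, hc⟩ := exists_form hf x P hP
  rw [hx] at hc
  have hc1 : c = 1 := hroot c (scalar_root hB (by omega) hc hg)
  have hu : Lib.Elusive.IsUniform g 1 i :=
    Lib.Elusive.isUniform_split hrF one_ne_zero (by rw [one_pow, one_smul, hg])
  obtain ⟨Z, hZ, -, hdisj, hsup⟩ := Lib.Elusive.exists_compl hu.semisimple (Lib.Elusive.Inv.top g)
    (Lib.Elusive.Inv.of_le_eigenspace (le_refl (End.eigenspace g (1 : F)))) le_top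
  have hZd : finrank F Z = i := by
    have h1 := Lib.Elusive.finrank_sup_of_disjoint (F := F) hdisj
    rw [hsup, finrank_top, hrank, hge] at h1
    omega
  have hperp : ∀ p ∈ Z, ∀ v ∈ End.eigenspace g (1 : F), B p v = 0 := by
    intro p hp v hv
    have hinj : Function.Injective ((g - 1).restrict (p := Z) (q := Z) fun y hy => by
        rw [LinearMap.sub_apply, Module.End.one_apply]
        exact Z.sub_mem (hZ.mem hy) hy) := by
      rw [injective_iff_map_eq_zero]
      intro y hy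
      have hy' : (y : Fin n → F) ∈ End.eigenspace g (1 : F) ⊓ Z := ⟨End.mem_eigenspace_iff.mpr (by
        rw [one_smul]; exact eq_of_sub_eq_zero (congrArg Subtype.val hy)), y.2⟩
      rw [hdisj] at hy'
      exact Subtype.ext hy'
    obtain ⟨y, hy⟩ := LinearMap.injective_iff_surjective.mp hinj ⟨p, hp⟩
    have hy' : g (y : Fin n → F) - (y : Fin n → F) = p := congrArg Subtype.val hy
    have hgv : g v = v := by simpa using End.mem_eigenspace_iff.mp hv
    have h2 := hc (y : Fin n → F) v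
    rw [hgv, hc1, one_mul] at h2
    rw [← hy', map_sub, LinearMap.sub_apply, h2, sub_self]
  have hZsymp : IsSympForm (restr B Z) := ⟨fun z => hB.self _, fun z hz => by
    refine Subtype.ext (hB.nondeg _ fun y => ?_)
    obtain ⟨a, ha, b, hb, rfl⟩ := Submodule.mem_sup.mp (hsup.ge (Submodule.mem_top (x := y)))
    rw [map_add, hperp _ z.2 a ha, zero_add]
    exact hz ⟨b, hb⟩⟩
  have heven := even_finrank hZsymp
  rw [hZd] at heven
  exact Nat.not_even_iff_odd.mpr hodd heven

/-- Derangements of odd prime order of PSL_n(q) on the cosets of a symplectic-type subgroup. Here `T = PSL_n(F)` for a field `F` with `q` elements, `n ≥ 4` even, `f` is a nondegenerate alternating form on `F^n`, and `H` is the subgroup of matrices of determinant 1 preserving `f` up to a scalar — a maximal subgroup of type Sp_n(q); Ω is the set of `T`-conjugates of `H` (cosets of `H`), so an element of `T` of prime order `r` (a matrix `x` of determinant 1 with `x^r` scalar, `x` not scalar)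 fixes a point of Ω when some conjugate of `x` by a matrix of determinant 1 preserves `f` up to a scalar. For every odd prime `r` dividing the index of `H`, with `(n, r) ≠ (6, 3)`, there is an element of `T` of order `r` with no conjugate in `H`. (For `n = 6`, `r = 3` this can fail: when `(q − 1)_3 = 3` every element of order 3 is conjugate into `H`.) -/
theorem result {F : Type*} [Field F] [Fintype F] {p : ℕ} [Fact p.Prime] [CharP F p] {q : ℕ} (hq : Fintype.card F = q)
    (n : ℕ) (hn : 4 ≤ n) (he : Even n) (f : (Fin n → F) → (Fin n → F) → F) (hf : Cfsg.Geo.IsSymplecticForm f)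
    (r : ℕ) [Fact r.Prime] (hr2 : r ≠ 2) (hgap : ¬ (n = 6 ∧ r = 3)) (hΩ : r ∣ ((Cfsg.Geo.similarityGroup f).comap (Matrix.SpecialLinearGroup.toGL : Matrix.SpecialLinearGroup (Fin n) F →* GL (Fin n) F)).index) :
    ∃ x : Matrix.SpecialLinearGroup (Fin n) F,
      (∃ z : F, ((x ^ r : Matrix.SpecialLinearGroup (Fin n) F) : Matrix (Fin n) (Fin n) F) = z • (1 : Matrix (Fin n) (Fin n) F)) ∧
      (∀ z : F, (x : Matrix (Fin n) (Fin n) F) ≠ z • (1 : Matrix (Fin n) (Fin n) F)) ∧
      ∀ P : Matrix.SpecialLinearGroup (Fin n) F, P⁻¹ * x * P ∉ ((Cfsg.Geo.similarityGroup f).comap (Matrix.SpecialLinearGroup.toGL : Matrix.SpecialLinearGroup (Fin n) F →* GL (Fin n) F)) := by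
  classical
  subst hq
  by_cases hrp : r = p
  · subst hrp
    exact exists_unipotent hr2 hn he hf
  have hrF : (r : F) ≠ 0 := fun h0 =>
    hrp ((Nat.prime_dvd_prime_iff_eq Fact.out Fact.out).mp ((CharP.cast_eq_zero_iff F p r).mp h0)).symm
  by_cases hr1 : r ∣ Fintype.card F - 1
  · exact exists_diagonal hr2 hr1 hn he hgap hf
  have hrq : ¬ r ∣ Fintype.card F := fun hd => by
    obtain ⟨e, -, h⟩ := FiniteField.card F p
    rw [h] at hd
    exact hrp ((Nat.prime_dvd_prime_iff_eq Fact.out Fact.out).mp ((Fact.out : r.Prime).dvd_of_dvd_pow hd))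
  obtain ⟨m, hm⟩ := he.two_dvd
  obtain ⟨j, hj, hjn, hd⟩ := exists_odd_of_index hrq hr1 hm (by omega) hf hΩ
  rw [← ZMod.natCast_eq_zero_iff, Nat.cast_sub (Nat.one_le_pow _ _ Fintype.card_pos), Nat.cast_pow,
    Nat.cast_one, sub_eq_zero] at hd
  have hdvd := orderOf_dvd_of_pow_eq_one hd
  refine exists_split_odd hrF rfl (hj.of_dvd_nat hdvd) ?_ ((Nat.le_of_dvd hj.pos hdvd).trans hjn) he hf
  have h0 := Lib.Elusive.orderOf_card_pos (r := r) hrF
  by_contra h1
  have h2 : orderOf (Fintype.card F : ZMod r) = 1 := by omega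
  rw [orderOf_eq_one_iff] at h2
  refine hr1 ?_
  rw [← ZMod.natCast_eq_zero_iff, Nat.cast_sub Fintype.card_pos, h2, Nat.cast_one, sub_self]

end Cfsg.Agent.S5968
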