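import Cfsg.Statements.S5969
import Cfsg.Agent.Lib.ExtInvolution.Field
-- import your own Cfsg.Agent.* helpers here

set_option autoImplicit false
open scoped MatrixGroups
open Cfsg

namespace Cfsg.Agent.S5969

open Matrix Module Cfsg.Agent.Lib Cfsg.Agent.Lib.ExtInvolution

/-- Every element of `F` is a square in a quadratic field subalgebra. -/
theorem exists_sqrt {F : Type*} [Field F] [Fintype F] {n : ℕ}
    {K : Subalgebra F (Matrix (Fin n) (Fin n) F)} (hK : Cfsg.Geo.IsFieldSubalgebra 2 K) (hn : 0 < n)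
    {z : F} (hz : z ≠ 0) (hodd : Fintype.card F % 2 = 1) (hns : ∀ c : F, c * c ≠ z) :
    ∃ j ∈ K, (∀ c : F, j ≠ c • (1 : Matrix (Fin n) (Fin n) F)) ∧ j * j = z • 1 := by
  classical
  haveI : Nontrivial (Matrix (Fin n) (Fin n) F) := FieldSub.nontrivial_mat hn
  letI : Field K := IsField.toField (R := K) ⟨⟨0, 1, zero_ne_one⟩,
    fun a c => Subtype.ext (hK.comm a a.2 c c.2), fun {a} ha => by
      obtain ⟨y, hy, hay⟩ := hK.inv a a.2 (fun h => ha (Subtype.ext h))
      exact ⟨⟨y, hy⟩, Subtype.ext hay⟩⟩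
  haveI : Finite K := Module.finite_of_finite F
  letI : Fintype K := Fintype.ofFinite K
  have hcard : Fintype.card K = Fintype.card F ^ 2 := by
    rw [Module.card_eq_pow_finrank (K := F) (V := K), hK.finrank_eq]
  have hchar : ringChar K ≠ 2 := by
    intro h
    have h1 := FiniteField.even_card_of_char_two h
    rw [hcard, Nat.pow_mod, hodd] at h1
    omega
  have hsq : IsSquare (algebraMap F K z) := by
    rw [FiniteField.isSquare_iff hchar (by simpa using hz), hcard]
    obtain ⟨t, ht⟩ : ∃ t, Fintype.card F = 2 * t + 1 := ⟨Fintype.card F / 2, by omega⟩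
    have h2 : Fintype.card F ^ 2 / 2 = (Fintype.card F - 1) * (t + 1) := by
      rw [ht, show (2 * t + 1) ^ 2 = 1 + 2 * (2 * t * (t + 1)) by ring,
        Nat.add_mul_div_left _ _ two_pos, show 2 * t + 1 - 1 = 2 * t by omega]
      simp
    rw [h2, pow_mul, ← map_pow, FiniteField.pow_card_sub_one_eq_one z hz, map_one, one_pow]
  obtain ⟨j, hj⟩ := hsq
  have hjj : (j : Matrix (Fin n) (Fin n) F) * j = z • 1 := by
    have h := congrArg Subtype.val hj
    rw [MulMemClass.coe_mul] at h
    rw [← h, ← Algebra.algebraMap_eq_smul_one]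
    rfl
  refine ⟨j, j.2, fun c hc => hns c ?_, hjj⟩
  have h := congrArg (fun M : Matrix (Fin n) (Fin n) F => M ⟨0, hn⟩ ⟨0, hn⟩) hjj
  rw [hc] at h
  simpa using h

/-- In degree two the normaliser meets every class of involutions. -/
theorem two_case {F : Type*} [Field F] [Fintype F] {K : Subalgebra F (Matrix (Fin 2) (Fin 2) F)}
    (hK : Cfsg.Geo.IsFieldSubalgebra 2 K) (x : Matrix.SpecialLinearGroup (Fin 2) F) {z : F}
    (hz : (x : Matrix (Fin 2) (Fin 2) F) * (x : Matrix (Fin 2) (Fin 2) F) = z • 1)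
    (hns : ∀ c : F, (x : Matrix (Fin 2) (Fin 2) F) ≠ c • 1) :
    ∃ P : Matrix.SpecialLinearGroup (Fin 2) F,
      P⁻¹ * x * P ∈ (Cfsg.Geo.subalgebraNormalizer K).comap
        (Matrix.SpecialLinearGroup.toGL : Matrix.SpecialLinearGroup (Fin 2) F →* GL (Fin 2) F) := by
  classical
  set X := (x : Matrix (Fin 2) (Fin 2) F) with hX
  have hXd : X.det = 1 := x.2
  have htr : X.trace = 0 := by
    have h := ElusiveTwo.mul_self_eq X
    rw [hz, hXd] at h
    by_contra ht
    refine hns (X.trace⁻¹ * (z + 1)) ?_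
    have h' : X.trace • X = (z + 1) • (1 : Matrix (Fin 2) (Fin 2) F) := by
      rw [add_smul, h]; abel
    rw [mul_smul, ← h', inv_smul_smul₀ ht]
  obtain ⟨j, hj, hjs⟩ := exists_nonscalar_mem hK
  have heig : ∀ (v : Fin 2 → F) (c : F), v ≠ 0 → j *ᵥ v ≠ c • v := by
    intro v c hv h
    refine hjs c (sub_eq_zero.mp (FieldSub.mulVec_eq_zero hK
      (K.sub_mem hj (K.smul_mem K.one_mem c)) hv ?_))
    rw [Matrix.sub_mulVec, h, Matrix.smul_mulVec, Matrix.one_mulVec, sub_self]
  have h01 : j 0 1 ≠ 0 := fun h => heig ![0, 1] (j 1 1) (by simp) (by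
    ext i; fin_cases i <;> simp [Matrix.mulVec, dotProduct, Fin.sum_univ_two, h])
  have h10 : j 1 0 ≠ 0 := fun h => heig ![1, 0] (j 0 0) (by simp) (by
    ext i; fin_cases i <;> simp [Matrix.mulVec, dotProduct, Fin.sum_univ_two, h])
  set T : Matrix (Fin 2) (Fin 2) F := !![0, j 0 1; -(j 1 0), 0] with hT
  have hTj : T * j = (j.trace • 1 - j) * T := by
    ext a b
    fin_cases a <;> fin_cases b <;>
      simp [hT, Matrix.mul_apply, Fin.sum_univ_two, Matrix.trace_fin_two] <;> ring
  -- every determinant occurs in `K`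
  have hdet : ∀ u : F, ∃ c d : F, (c • (1 : Matrix (Fin 2) (Fin 2) F) + d • j).det = u := by
    intro u
    by_cases h2 : (2 : F) = 0
    · have hch : ringChar F = 2 := by
        refine CharP.ringChar_of_prime_eq_zero Nat.prime_two (by exact_mod_cast h2)
      obtain ⟨a, ha⟩ := FiniteField.isSquare_of_char_two hch u
      exact ⟨a, 0, by simp [Matrix.det_fin_two, ha, pow_two]⟩
    · set δ := j.trace ^ 2 / 4 - j.det with hδ
      have h4 : (4 : F) ≠ 0 := (show (4 : F) = 2 * 2 by norm_num) ▸ mul_ne_zero h2 h2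
      have hδ0 : δ ≠ 0 := by
        intro h0
        have hsq : (j - (j.trace / 2) • 1) * (j - (j.trace / 2) • 1) = 0 := by
          have e := ElusiveTwo.mul_self_eq j
          rw [Matrix.sub_mul, Matrix.mul_sub, Matrix.mul_sub, e]
          simp only [Matrix.smul_mul, Matrix.mul_smul, Matrix.one_mul, Matrix.mul_one, smul_smul]
          have hd : j.det = j.trace / 2 * (j.trace / 2) := by
            rw [eq_comm, ← sub_eq_zero, show j.trace / 2 * (j.trace / 2) - j.det = δ by
              rw [hδ]; field_simp; ring]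
            exact h0
          rw [hd]
          match_scalars <;> field_simp <;> ring
        refine hjs (j.trace / 2) ?_
        by_contra hne
        obtain ⟨y, -, hy⟩ := hK.inv _ (K.sub_mem hj (K.smul_mem K.one_mem _)) (sub_ne_zero.mpr hne)
        have h5 := congrArg (fun M => M * y) hsq
        simp only [Matrix.mul_assoc, hy, Matrix.mul_one, Matrix.zero_mul] at h5
        exact hne (sub_eq_zero.mp h5)
      obtain ⟨a, b, hab⟩ := exists_norm_eq hδ0 u
      refine ⟨a - j.trace * b / 2, b, ?_⟩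
      rw [ElusiveTwo.det_add_smul, ← hab, hδ]
      field_simp
      ring
  obtain ⟨c, d, hcd⟩ := hdet (j 0 1 * j 1 0)⁻¹
  set k := c • (1 : Matrix (Fin 2) (Fin 2) F) + d • j with hk
  have hkK : k ∈ K := K.add_mem (K.smul_mem K.one_mem c) (K.smul_mem hj d)
  set S := k * T with hS
  have hSdet : S.det = 1 := by
    rw [hS, Matrix.det_mul, hcd, hT, Matrix.det_fin_two]
    simp only [Matrix.of_apply, Matrix.cons_val', Matrix.cons_val_zero, Matrix.cons_val_one,
      Matrix.empty_val', Matrix.cons_val_fin_one]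
    field_simp
    ring
  have hjK : j.trace • 1 - j ∈ K := K.sub_mem (K.smul_mem K.one_mem _) hj
  have hSj : S * j = (j.trace • 1 - j) * S := by
    rw [hS, Matrix.mul_assoc, hTj, ← Matrix.mul_assoc, hK.comm k hkK _ hjK, Matrix.mul_assoc]
  have hStr : S.trace = 0 := by
    rw [hS, hk, hT, Matrix.trace_fin_two]
    simp [Matrix.mul_apply, Fin.sum_univ_two]
    ring
  have hjne : j ≠ j.trace • 1 - j := by
    intro h
    by_cases h2 : (2 : F) = 0
    · have ht : j.trace = 0 := by
        by_contra ht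
        have h' : j.trace • (1 : Matrix (Fin 2) (Fin 2) F) = (2 : F) • j := by
          rw [two_smul]
          nth_rewrite 2 [h]
          abel
        rw [h2, zero_smul] at h'
        have := congrFun (congrFun h' 0) 0
        simp at this
        exact ht this
      have hch : ringChar F = 2 := CharP.ringChar_of_prime_eq_zero Nat.prime_two (by exact_mod_cast h2)
      obtain ⟨r, hr⟩ := FiniteField.isSquare_of_char_two hch (-j.det)
      have e := ElusiveTwo.mul_self_eq j
      rw [ht, zero_smul, zero_sub, ← neg_smul, hr] at e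
      have hsq : (j - r • 1) * (j - r • 1) = 0 := by
        rw [Matrix.sub_mul, Matrix.mul_sub, Matrix.mul_sub, e]
        simp only [Matrix.smul_mul, Matrix.mul_smul, Matrix.one_mul, Matrix.mul_one, smul_smul]
        match_scalars
        · linear_combination (r * r) * h2
        · linear_combination (-r) * h2
      refine hjs r ?_
      by_contra hne
      obtain ⟨y, -, hy⟩ := hK.inv _ (K.sub_mem hj (K.smul_mem K.one_mem _)) (sub_ne_zero.mpr hne)
      have h5 := congrArg (fun M => M * y) hsq
      simp only [Matrix.mul_assoc, hy, Matrix.mul_one, Matrix.zero_mul] at h5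
      exact hne (sub_eq_zero.mp h5)
    · refine hjs (j.trace / 2) ?_
      have h' : (2 : F) • j = j.trace • (1 : Matrix (Fin 2) (Fin 2) F) := by
        rw [two_smul]
        nth_rewrite 2 [h]
        abel
      rw [show j.trace / 2 = (2 : F)⁻¹ * j.trace by ring, mul_smul, ← h', inv_smul_smul₀ h2]
  have hSns : ∀ e : F, S ≠ e • 1 := by
    intro e he
    have he0 : e ≠ 0 := fun h => by rw [he, h, zero_smul, Matrix.det_zero] at hSdet; exact zero_ne_one hSdet
    apply hjne
    have := hSj
    rw [he, Matrix.smul_mul, Matrix.one_mul, Matrix.mul_smul, Matrix.mul_one] at this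
    exact smul_right_injective _ he0 this
  -- conjugate `X` to `S`
  obtain ⟨G, hG, hXG⟩ : ∃ G : Matrix (Fin 2) (Fin 2) F, G.det = 1 ∧ X * G = G * S := by
    by_cases h2 : (2 : F) = 0
    · obtain ⟨v, hv⟩ := ElusiveTwo.exists_cyclic_vec hns
      obtain ⟨w, hw⟩ := ElusiveTwo.exists_cyclic_vec hSns
      set P := (Matrix.of ![v, X *ᵥ v])ᵀ with hP
      set Q := (Matrix.of ![w, S *ᵥ w])ᵀ with hQ
      have huQ : IsUnit Q.det := isUnit_iff_ne_zero.mpr hw
      have hXP := ElusiveTwo.mul_cols X v
      have hSQ := ElusiveTwo.mul_cols S w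
      rw [hXd, htr] at hXP
      rw [hSdet, hStr] at hSQ
      have hch : ringChar F = 2 := CharP.ringChar_of_prime_eq_zero Nat.prime_two (by exact_mod_cast h2)
      obtain ⟨r, hr⟩ := FiniteField.isSquare_of_char_two hch (Q.det / P.det)
      refine ⟨r • (P * Q⁻¹), ?_, ?_⟩
      · rw [Matrix.det_smul, Matrix.det_mul, Matrix.det_nonsing_inv, Ring.inverse_eq_inv',
          Fintype.card_fin, pow_two, ← hr]
        field_simp
      · rw [Matrix.mul_smul, Matrix.smul_mul]
        congr 1
        have hQS : Q⁻¹ * S = !![0, -1; 1, 0] * Q⁻¹ := by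
          calc Q⁻¹ * S = Q⁻¹ * (S * Q) * Q⁻¹ := by
                rw [Matrix.mul_assoc, Matrix.mul_nonsing_inv_cancel_right _ _ huQ]
            _ = Q⁻¹ * (Q * !![0, -1; 1, 0]) * Q⁻¹ := by rw [hSQ]
            _ = _ := by rw [Matrix.nonsing_inv_mul_cancel_left _ _ huQ]
        rw [← Matrix.mul_assoc, hXP, Matrix.mul_assoc, Matrix.mul_assoc, hQS]
    · refine ElusiveTwo.exists_conj_of_trace h2 hXd hSdet hns hSns (htr.trans hStr.symm) ?_
      rw [hStr]
      have h4 : (4 : F) ≠ 0 := (show (4 : F) = 2 * 2 by norm_num) ▸ mul_ne_zero h2 h2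
      simpa using h4.symm
  let Gs : Matrix.SpecialLinearGroup (Fin 2) F := ⟨G, hG⟩
  let Ss : Matrix.SpecialLinearGroup (Fin 2) F := ⟨S, hSdet⟩
  refine ⟨Gs, ?_⟩
  have hval : Gs⁻¹ * x * Gs = Ss := by
    rw [mul_assoc, inv_mul_eq_iff_eq_mul]
    exact Subtype.ext hXG
  rw [hval, Subgroup.mem_comap]
  have hU : ((Matrix.SpecialLinearGroup.toGL Ss : GL (Fin 2) F) : Matrix (Fin 2) (Fin 2) F) = S := rfl
  set g := Matrix.SpecialLinearGroup.toGL Ss
  have hconj : ∀ e f : F, (g : Matrix (Fin 2) (Fin 2) F) * (e • 1 + f • j) *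
      ((g⁻¹ : GL (Fin 2) F) : Matrix (Fin 2) (Fin 2) F) = e • 1 + f • (j.trace • 1 - j) := by
    intro e f
    rw [Matrix.mul_add, Matrix.mul_smul, Matrix.mul_smul, Matrix.mul_one, hU, hSj, ← hU,
      Matrix.add_mul, Matrix.smul_mul, Matrix.smul_mul, Units.mul_inv, Units.mul_inv_cancel_right]
  intro m
  refine ⟨fun hm => ?_, fun hm => ?_⟩
  · obtain ⟨e, f, rfl⟩ := eq_combo hK hj hjs hm
    rw [hconj]
    exact K.add_mem (K.smul_mem K.one_mem e) (K.smul_mem hjK f)
  · obtain ⟨e, f, hef⟩ := eq_combo hK hj hjs hm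
    have h := hconj (e + f * j.trace) (-f)
    have h' : (e + f * j.trace) • (1 : Matrix (Fin 2) (Fin 2) F) + (-f) • (j.trace • 1 - j) = e • 1 + f • j := by
      module
    rw [h', ← hef] at h
    have hu : IsUnit ((g⁻¹ : GL (Fin 2) F) : Matrix (Fin 2) (Fin 2) F) := Units.isUnit _
    rw [← g.isUnit.mul_left_cancel (hu.mul_right_cancel h)]
    exact K.add_mem (K.smul_mem K.one_mem _) (K.smul_mem hj _)

/-- Involutions of PSL_n(q) and extension-field subgroups of degree 2. Here `T = PSL_n(F)` for a field `F` with `q = p^f` elements (`n ≥ 2`, `(n, q) ≠ (2, 2), (2, 3)`), `k` is a prime dividing `n`, `K` is a subalgebra of the `n × n` matrices that is a field of degree `k` over `F` (an extension-field structure F_{q^k} on `F^n`), and `H` is the subgroup of matrices of determinant 1 normalizing `K` — a subgroup of type GL_{n/k}(q^k) (maximal except in some small cases; maximality is not assumed); Ω is the set of cosets of `H` in `T`, so an element of `T` of prime order `r` (a matrix `x` of determinant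 1 with `x^r` scalar, `x` not scalar) fixes a point of Ω when some conjugate of `x` by a matrix of determinant 1 normalizes `K`. Take `k = 2` and suppose the index of `H` is even. Then every involution of `T` is conjugate in `T` into `H` if and only if `n = 2`, or `q` is odd and `(q − 1)_2 ≤ (n)_2`. -/
theorem result {F : Type*} [Field F] [Fintype F] {p : ℕ} [Fact p.Prime] [CharP F p] {q : ℕ} (hq : Fintype.card F = q)
    (n : ℕ) (hn : 2 ≤ n) (hT : (n, q) ≠ (2, 2) ∧ (n, q) ≠ (2, 3))
    (k : ℕ) (hk : k.Prime) (hkn : k ∣ n) (K : Subalgebra F (Matrix (Fin n) (Fin n) F)) (hK : Cfsg.Geo.IsFieldSubalgebra k K) (hk2 : k = 2) (hΩ : 2 ∣ ((Cfsg.Geo.subalgebraNormalizer K).comap (Matrix.SpecialLinearGroup.toGL : Matrix.SpecialLinearGroup (Fin n) F →* GL (Fin n) F)).index) :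
    (∀ x : Matrix.SpecialLinearGroup (Fin n) F,
      (∃ z : F, ((x ^ 2 : Matrix.SpecialLinearGroup (Fin n) F) : Matrix (Fin n) (Fin n) F) = z • (1 : Matrix (Fin n) (Fin n) F)) →
      (∀ z : F, (x : Matrix (Fin n) (Fin n) F) ≠ z • (1 : Matrix (Fin n) (Fin n) F)) →
      ∃ P : Matrix.SpecialLinearGroup (Fin n) F, P⁻¹ * x * P ∈ ((Cfsg.Geo.subalgebraNormalizer K).comap (Matrix.SpecialLinearGroup.toGL : Matrix.SpecialLinearGroup (Fin n) F →* GL (Fin n) F))) ↔
    (n = 2 ∨ (Odd q ∧ padicValNat 2 (q - 1) ≤ padicValNat 2 n)) := by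
  subst hq
  subst hk2
  classical
  rcases eq_or_ne n 2 with rfl | hn2
  · refine iff_of_true ?_ (Or.inl rfl)
    intro x ⟨z, hz⟩ hns
    exact two_case hK x (by rw [← pow_two, ← Matrix.SpecialLinearGroup.coe_pow, hz]) hns
  obtain ⟨m, hm⟩ := hkn
  have hn4 : 4 ≤ n := by omega
  have hev : Even n := ⟨m, by omega⟩
  obtain ⟨f, hpp, hf⟩ := FiniteField.card F p
  have hq1 : 1 < Fintype.card F := Fintype.one_lt_card
  -- the witness against the criterion
  have witness : ∀ x : Matrix.SpecialLinearGroup (Fin n) F, ∀ (μ : F) (u : Fin n → F),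
      (∀ v, ∃ a : F, (x : Matrix (Fin n) (Fin n) F) *ᵥ v - μ • v = a • u) →
      (∀ z : F, (x : Matrix (Fin n) (Fin n) F) ≠ z • (1 : Matrix (Fin n) (Fin n) F)) →
      ∀ P : Matrix.SpecialLinearGroup (Fin n) F, P⁻¹ * x * P ∉
        (Cfsg.Geo.subalgebraNormalizer K).comap
          (Matrix.SpecialLinearGroup.toGL : Matrix.SpecialLinearGroup (Fin n) F →* GL (Fin n) F) := by
    intro x μ u hrk hns P hP
    set P' := ((P⁻¹ : Matrix.SpecialLinearGroup (Fin n) F) : Matrix (Fin n) (Fin n) F) with hP'
    have hPP : (P : Matrix (Fin n) (Fin n) F) * P' = 1 := by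
      rw [hP', ← Matrix.SpecialLinearGroup.coe_mul, mul_inv_cancel, Matrix.SpecialLinearGroup.coe_one]
    have hPP' : P' * (P : Matrix (Fin n) (Fin n) F) = 1 := mul_eq_one_comm.mp hPP
    have hval : ((Matrix.SpecialLinearGroup.toGL (P⁻¹ * x * P) : GL (Fin n) F) :
        Matrix (Fin n) (Fin n) F) = P' * (x : Matrix (Fin n) (Fin n) F) * (P : Matrix (Fin n) (Fin n) F) := by
      show ((P⁻¹ * x * P : Matrix.SpecialLinearGroup (Fin n) F) : Matrix (Fin n) (Fin n) F) = _
      rw [Matrix.SpecialLinearGroup.coe_mul, Matrix.SpecialLinearGroup.coe_mul]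
    have h1 := not_normalize_of_rank_one hK (by omega) _ hP (μ := μ) (u := P' *ᵥ u) (fun v => by
      obtain ⟨a, ha⟩ := hrk ((P : Matrix (Fin n) (Fin n) F) *ᵥ v)
      refine ⟨a, ?_⟩
      rw [hval, ← Matrix.mulVec_mulVec, ← Matrix.mulVec_mulVec, ← Matrix.mulVec_smul, ← ha,
        Matrix.mulVec_sub, Matrix.mulVec_smul P' μ, Matrix.mulVec_mulVec v P' (P : Matrix (Fin n) (Fin n) F),
        hPP', Matrix.one_mulVec])
    rw [hval] at h1
    apply hns μ
    calc (x : Matrix (Fin n) (Fin n) F) = (P : Matrix (Fin n) (Fin n) F) *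
          (P' * (x : Matrix (Fin n) (Fin n) F) * (P : Matrix (Fin n) (Fin n) F)) * P' := by
          rw [← Matrix.mul_assoc, ← Matrix.mul_assoc, hPP, Matrix.one_mul, Matrix.mul_assoc, hPP,
            Matrix.mul_one]
      _ = μ • 1 := by rw [h1]; simp [hPP]
  by_cases hodd : Fintype.card F % 2 = 0
  · -- transvection
    refine iff_of_false ?_ (by rintro (h | ⟨h, -⟩); exacts [hn2 h, by rw [Nat.odd_iff] at h; omega])
    intro hall
    have hch : ringChar F = 2 := by
      by_contra h
      exact (by simpa [hodd] using FiniteField.odd_card_of_char_ne_two h)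
    haveI : CharP F 2 := hch ▸ ringChar.charP F
    let a : Fin n := ⟨0, by omega⟩
    let b : Fin n := ⟨1, by omega⟩
    have hab : a ≠ b := by simp [a, b]
    let x : Matrix.SpecialLinearGroup (Fin n) F :=
      ⟨Matrix.transvection a b 1, Matrix.det_transvection_of_ne a b hab 1⟩
    have hns : ∀ z : F, (x : Matrix (Fin n) (Fin n) F) ≠ z • (1 : Matrix (Fin n) (Fin n) F) := by
      intro z hz
      have := congrFun (congrFun hz a) b
      simp [x, Matrix.transvection, Matrix.single, hab] at this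
    obtain ⟨P, hP⟩ := hall x ⟨1, by
      rw [Matrix.SpecialLinearGroup.coe_pow]
      show Matrix.transvection a b (1 : F) ^ 2 = _
      rw [pow_two, Matrix.transvection_mul_transvection_same _ _ hab,
        show (1 : F) + 1 = 0 from CharTwo.add_self_eq_zero 1, Matrix.transvection_zero, one_smul]⟩ hns
    refine witness x 1 (Pi.single a 1) (fun v => ⟨v b, ?_⟩) hns P hP
    show Matrix.transvection a b (1 : F) *ᵥ v - _ = _
    rw [Matrix.transvection, Matrix.add_mulVec, Matrix.one_mulVec, one_smul, add_sub_cancel_left,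
      Matrix.single_mulVec, one_mul]
    ext i
    by_cases hi : i = a
    · subst hi; simp
    · simp [hi]
  have hodd' : Fintype.card F % 2 = 1 := by omega
  have h2 : (2 : F) ≠ 0 := by
    intro h
    have hch : ringChar F = 2 := CharP.ringChar_of_prime_eq_zero Nat.prime_two (by exact_mod_cast h)
    have := FiniteField.even_card_of_char_two hch
    omega
  have hval_iff : (∃ c : F, c ^ n = -1) ↔ ¬ padicValNat 2 (Fintype.card F - 1) ≤ padicValNat 2 n := by
    constructor
    · rintro ⟨c, hc⟩ hle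
      have hc0 : c ≠ 0 := fun h => by
        rw [h, zero_pow (by omega : n ≠ 0)] at hc
        exact one_ne_zero (neg_eq_zero.mp hc.symm)
      have hd : 2 ^ padicValNat 2 (Fintype.card F - 1) ∣ n :=
        (pow_dvd_pow 2 hle).trans pow_padicValNat_dvd
      obtain ⟨t, ht⟩ := pow_padicValNat_dvd (p := 2) (n := Fintype.card F - 1)
      obtain ⟨s, hs⟩ := hd
      have hto : Odd t := by
        rcases Nat.even_or_odd t with ⟨r, hr⟩ | h
        · exfalso
          refine pow_succ_padicValNat_not_dvd (p := 2) (n := Fintype.card F - 1) (by omega) ⟨r, ?_⟩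
          calc Fintype.card F - 1 = 2 ^ padicValNat 2 (Fintype.card F - 1) * t := ht
            _ = _ := by rw [hr, pow_succ]; ring
        · exact h
      have h1 : (c ^ n) ^ t = 1 := by
        rw [hs, ← pow_mul, mul_right_comm, ← ht, pow_mul, FiniteField.pow_card_sub_one_eq_one c hc0,
          one_pow]
      rw [hc, hto.neg_one_pow] at h1
      exact h2 (by linear_combination -h1)
    · intro hlt
      rw [not_le] at hlt
      obtain ⟨g, hg⟩ := IsCyclic.exists_generator (α := Fˣ)
      have hord : orderOf g = Fintype.card F - 1 := by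
        rw [orderOf_eq_card_of_forall_mem_zpowers hg, Nat.card_eq_fintype_card, Fintype.card_units]
      set v := padicValNat 2 n
      have hdvd : 2 ^ (v + 1) ∣ Fintype.card F - 1 :=
        (pow_dvd_pow 2 hlt).trans pow_padicValNat_dvd
      set c := g ^ ((Fintype.card F - 1) / 2 ^ (v + 1))
      have hc : orderOf c = 2 ^ (v + 1) := by
        rw [orderOf_pow' (n := (Fintype.card F - 1) / 2 ^ (v + 1)) _
          (Nat.div_pos (Nat.le_of_dvd (by omega) hdvd) (by positivity)).ne', hord,
          Nat.gcd_eq_right (Nat.div_dvd_of_dvd hdvd), Nat.div_div_self hdvd (by omega)]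
      refine ⟨(c : F), ?_⟩
      obtain ⟨s, hs⟩ := pow_padicValNat_dvd (p := 2) (n := n)
      have hso : Odd s := by
        rcases Nat.even_or_odd s with ⟨r, hr⟩ | h
        · exfalso
          refine pow_succ_padicValNat_not_dvd (p := 2) (n := n) (by omega) ⟨r, ?_⟩
          calc n = 2 ^ padicValNat 2 n * s := hs
            _ = _ := by rw [hr, pow_succ]; ring
        · exact h
      have hw : ((c : F) ^ 2 ^ v) = -1 := by
        have h1 : ((c : F) ^ 2 ^ v) ^ 2 = 1 := by
          rw [← pow_mul, ← pow_succ, ← hc, ← Units.val_pow_eq_pow_val, pow_orderOf_eq_one,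
            Units.val_one]
        rcases sq_eq_one_iff.mp h1 with h | h
        · exfalso
          have h' : c ^ 2 ^ v = 1 := Units.ext (by rw [Units.val_pow_eq_pow_val, h, Units.val_one])
          have := orderOf_dvd_of_pow_eq_one h'
          rw [hc] at this
          exact (Nat.pow_dvd_pow_iff_le_right (by norm_num)).mp this |>.not_gt (Nat.lt_succ_self v)
        · exact h
      rw [hs, pow_mul, hw, hso.neg_one_pow]
  constructor
  · intro hall
    refine Or.inr ⟨Nat.odd_iff.mpr hodd', ?_⟩
    by_contra hlt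
    obtain ⟨c, hc⟩ := hval_iff.mpr hlt
    have hc0 : c ≠ 0 := fun h => by
      rw [h, zero_pow (by omega : n ≠ 0)] at hc
      exact one_ne_zero (neg_eq_zero.mp hc.symm)
    let a : Fin n := ⟨0, by omega⟩
    let b : Fin n := ⟨1, by omega⟩
    let d : Fin n → F := fun i => if i = a then -c else c
    have hdet : (Matrix.diagonal d).det = 1 := by
      rw [Matrix.det_diagonal, ← Finset.mul_prod_erase _ _ (Finset.mem_univ a)]
      have h1 : ∏ i ∈ Finset.univ.erase a, d i = c ^ (n - 1) := by
        rw [Finset.prod_congr rfl (fun i hi => if_neg (Finset.ne_of_mem_erase hi)), Finset.prod_const,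
          Finset.card_erase_of_mem (Finset.mem_univ a), Finset.card_univ, Fintype.card_fin]
      rw [h1, show d a = -c from if_pos rfl, neg_mul, ← pow_succ',
        show n - 1 + 1 = n by omega, hc, neg_neg]
    let x : Matrix.SpecialLinearGroup (Fin n) F := ⟨Matrix.diagonal d, hdet⟩
    have hns : ∀ z : F, (x : Matrix (Fin n) (Fin n) F) ≠ z • (1 : Matrix (Fin n) (Fin n) F) := by
      intro z hz
      change Matrix.diagonal d = z • (1 : Matrix (Fin n) (Fin n) F) at hz
      rw [Matrix.smul_one_eq_diagonal, Matrix.diagonal_eq_diagonal_iff] at hz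
      have h1 := (hz a).trans (hz b).symm
      simp [d, a, b] at h1
      exact hc0 ((mul_eq_zero.mp (show (2 : F) * c = 0 by linear_combination -h1)).resolve_left h2)
    obtain ⟨P, hP⟩ := hall x ⟨c ^ 2, by
      rw [Matrix.SpecialLinearGroup.coe_pow]
      show Matrix.diagonal d ^ 2 = _
      rw [Matrix.diagonal_pow, Matrix.smul_one_eq_diagonal, Matrix.diagonal_eq_diagonal_iff]
      intro i
      simp only [Pi.pow_apply, d]
      split_ifs <;> simp⟩ hns
    refine witness x c (Pi.single a 1) (fun v => ⟨(-c - c) * v a, ?_⟩) hns P hP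
    ext i
    show (Matrix.diagonal d *ᵥ v) i - c * v i = _
    rw [Matrix.mulVec_diagonal]
    rcases eq_or_ne i a with rfl | h
    · simp [d]; ring
    · simp [d, h]
  · rintro (h | ⟨-, hle⟩) x ⟨z, hz⟩ hns
    · exact absurd h hn2
    rw [Matrix.SpecialLinearGroup.coe_pow, pow_two] at hz
    set X := (x : Matrix (Fin n) (Fin n) F) with hX
    have hz0 : z ≠ 0 := by
      intro h
      have := congrArg Matrix.det hz
      rw [Matrix.det_mul, show X.det = 1 from x.2, h, zero_smul, show (0 : Matrix (Fin n) (Fin n) F).det = 0 from by haveI : Nonempty (Fin n) := ⟨⟨0, by omega⟩⟩; exact Matrix.det_zero, mul_one] at this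
      exact one_ne_zero this
    have hff : Matrix.toLin' X * Matrix.toLin' X = z • 1 := by
      rw [Module.End.mul_eq_comp, ← Matrix.toLin'_mul, hz, map_smul, Matrix.toLin'_one]
      rfl
    obtain ⟨lam, β, _, _, b, B, hP, hinfo⟩ := exists_pairForm hz0 hff
      (by rwa [Module.finrank_fin_fun]) (by rw [LinearMap.det_toLin']; exact x.2)
      (fun _ c hc => hval_iff.mp ⟨c, by rwa [Module.finrank_fin_fun] at hc⟩ hle)
    obtain ⟨j, hj, hjs, hjB⟩ : ∃ j ∈ K, (∀ c : F, j ≠ c • (1 : Matrix (Fin n) (Fin n) F)) ∧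
        ((∀ i, ∃ e : F, e * e = z ∧ B i = e • 1) ∨ j * j = z • 1) := by
      rcases hinfo with (h | h) | h
      · obtain ⟨j, hj, hjs, hjj⟩ := exists_sqrt hK (by omega) hz0 hodd' h
        exact ⟨j, hj, hjs, Or.inr hjj⟩
      · exact absurd h h2
      · obtain ⟨j, hj, hjs⟩ := exists_nonscalar_mem hK
        exact ⟨j, hj, hjs, Or.inl h⟩
    obtain ⟨P, hPm⟩ := exists_mem_of_pairForm hK (by omega) x.2 hP hz0 hj hjs hjB
    exact ⟨P, hPm x rfl⟩


end Cfsg.Agent.S5969
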