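import Cfsg.Statements.S5970
import Cfsg.Agent.Lib.SingerNorm.Order
-- import your own Cfsg.Agent.* helpers here

set_option autoImplicit false
open scoped MatrixGroups
open Cfsg

namespace Cfsg.Agent.S5970

open Matrix Polynomial Module Cfsg.Agent.Lib.SingerNorm Cfsg.Agent.Lib.Elusive


/-- Elements of order `n` of PSL_n(q), `n` prime, and the normalizer of a Singer cycle. Here `T = PSL_n(F)` for a field `F` with `q = p^f` elements (`n ≥ 2`, `(n, q) ≠ (2, 2), (2, 3)`), `k` is a prime dividing `n`, `K` is a subalgebra of the `n × n` matrices that is a field of degree `k` over `F` (an extension-field structure F_{q^k} on `F^n`), and `H` is the subgroup of matrices of determinant 1 normalizing `K` — a subgroup of type GL_{n/k}(q^k) (maximal except in some small cases; maximality is not assumed); Ω is the set of cosets of `H` in `T`, so an element of `T` of prime order `r` (a matrix `x` of determinant 1 with `x^r` scalar, `x` not scalar) fixes a point of Ω when some conjugate of `x` by a matrix of determinant 1 normalizes `K`. Take `k = n > 3` prime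 with `n ≠ p` (so `H` is the normalizer of a Singer cycle), and suppose `n` divides the index of `H`. Then every element of `T` of order `n` is conjugate in `T` into `H` if and only if the multiplicative order of `q` modulo `n` is `n − 1`. -/
theorem result {F : Type*} [Field F] [Fintype F] {p : ℕ} [Fact p.Prime] [CharP F p] {q : ℕ} (hq : Fintype.card F = q)
    (n : ℕ) (hn : 2 ≤ n) (hT : (n, q) ≠ (2, 2) ∧ (n, q) ≠ (2, 3))
    (k : ℕ) (hk : k.Prime) (hkn : k ∣ n) (K : Subalgebra F (Matrix (Fin n) (Fin n) F)) (hK : Cfsg.Geo.IsFieldSubalgebra k K) (hkn' : k = n) (hn3 : 3 < n) (hnp : n ≠ p) (hΩ : n ∣ ((Cfsg.Geo.subalgebraNormalizer K).comap (Matrix.SpecialLinearGroup.toGL : Matrix.SpecialLinearGroup (Fin n) F →* GL (Fin n) F)).index) :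
    (∀ x : Matrix.SpecialLinearGroup (Fin n) F,
      (∃ z : F, ((x ^ n : Matrix.SpecialLinearGroup (Fin n) F) : Matrix (Fin n) (Fin n) F) = z • (1 : Matrix (Fin n) (Fin n) F)) →
      (∀ z : F, (x : Matrix (Fin n) (Fin n) F) ≠ z • (1 : Matrix (Fin n) (Fin n) F)) →
      ∃ P : Matrix.SpecialLinearGroup (Fin n) F, P⁻¹ * x * P ∈ ((Cfsg.Geo.subalgebraNormalizer K).comap (Matrix.SpecialLinearGroup.toGL : Matrix.SpecialLinearGroup (Fin n) F →* GL (Fin n) F))) ↔
    orderOf (q : ZMod n) = n - 1 := by
  subst hkn'
  classical
  haveI : Fact k.Prime := ⟨hk⟩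
  have h2 : k ≠ 2 := by omega
  have hkF : (k : F) ≠ 0 := by
    rw [Ne, CharP.cast_eq_zero_iff F p]
    intro h
    exact hnp ((Nat.prime_dvd_prime_iff_eq Fact.out hk).mp h).symm
  subst hq
  set i := orderOf (Fintype.card F : ZMod k) with hi
  have hipos : 0 < i := orderOf_card_pos hkF
  have hidvd : i ∣ k - 1 := ZMod.orderOf_dvd_card_sub_one (by
    exact Cfsg.Agent.Lib.Elusive.card_cast_ne_zero hkF)
  have hroot : i ≠ 1 → ∀ z : F, z ≠ 0 → z ^ k = 1 → z = 1 := by
    intro h z hz hzr
    have h1 : orderOf z ∣ k := orderOf_dvd_of_pow_eq_one hzr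
    have h2 : orderOf z ∣ Fintype.card F - 1 :=
      orderOf_dvd_of_pow_eq_one (FiniteField.pow_card_sub_one_eq_one z hz)
    rcases (Nat.dvd_prime hk).mp h1 with h3 | h3
    · exact orderOf_eq_one_iff.mp h3
    · refine absurd ?_ h
      have : (k : ℕ) ∣ Fintype.card F - 1 := h3 ▸ h2
      rw [hi, orderOf_eq_one_iff]
      rw [← ZMod.natCast_eq_zero_iff, Nat.cast_sub Fintype.card_pos, Nat.cast_one, sub_eq_zero]
        at this
      exact this
  constructor
  · intro hall
    by_contra hne
    have hi2 : 2 * i ≤ k - 1 := by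
      obtain ⟨t, ht⟩ := hidvd
      have : 2 ≤ t := by
        rcases t with _ | _ | t
        · omega
        · simp at ht; omega
        · omega
      rw [ht]
      nlinarith
    by_cases hi1 : i = 1
    · -- split: a diagonal matrix
      have hdvd : k ∣ Fintype.card Fˣ := by
        rw [Fintype.card_units, ← ZMod.natCast_eq_zero_iff, Nat.cast_sub Fintype.card_pos,
          Nat.cast_one, sub_eq_zero, ← orderOf_eq_one_iff]
        exact hi1
      obtain ⟨ω, hω⟩ := exists_prime_orderOf_dvd_card k hdvd
      let a : Fin k := ⟨0, by omega⟩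
      let b : Fin k := ⟨1, by omega⟩
      let c : Fin k := ⟨2, by omega⟩
      let e : Fin k := ⟨3, by omega⟩
      let d : Fin k → F := fun j => if j = a then (ω : F) else if j = b then ((ω⁻¹ : Fˣ) : F) else 1
      have hdet : (Matrix.diagonal d).det = 1 := by
        rw [Matrix.det_diagonal, Fintype.prod_eq_mul a b (by simp [a, b]) (fun j hj => by
          simp [d, hj.1, hj.2])]
        simp [d, a, b]
      have hωk : (ω : F) ^ k = 1 := by
        rw [← Units.val_pow_eq_pow_val, ← hω, pow_orderOf_eq_one, Units.val_one]
      have hω1 : (ω : F) ≠ 1 := by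
        intro h
        rw [Units.val_eq_one] at h
        rw [h, orderOf_one] at hω
        omega
      have hns : ∀ z : F, (Matrix.diagonal d) ≠ z • (1 : Matrix (Fin k) (Fin k) F) := by
        intro z hz
        rw [Matrix.smul_one_eq_diagonal, Matrix.diagonal_eq_diagonal_iff] at hz
        have h1 := hz a
        have h3 := hz c
        simp [d, a, b, c] at h1 h3
        exact hω1 (h1.trans h3.symm)
      let xd : Matrix.SpecialLinearGroup (Fin k) F := ⟨Matrix.diagonal d, hdet⟩
      obtain ⟨P, hP⟩ := hall xd ⟨1, by
        rw [Matrix.SpecialLinearGroup.coe_pow]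
        show Matrix.diagonal d ^ k = _
        rw [Matrix.diagonal_pow, one_smul, ← Matrix.diagonal_one, Matrix.diagonal_eq_diagonal_iff]
        intro j
        simp only [Pi.pow_apply, d]
        split_ifs <;> simp [hωk]⟩ hns
      refine not_conj_mem hK hk xd (μ := 1) (v := Pi.single c 1)
        (w := Pi.single e 1) (by simp) ?_ ?_ ?_ hns P hP
      · simp [xd, d, Matrix.diagonal_mulVec_single, a, b, c]
      · simp [xd, d, Matrix.diagonal_mulVec_single, a, b, e]
      · intro t ht
        have := congrFun ht e
        simp [c, e] at this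
    · obtain ⟨g, hg, hge⟩ := exists_split (V := Fin k → F) hkF (k - i) 1
        (by rw [Module.finrank_fin_fun]; omega)
      have hdet : LinearMap.det g = 1 := hroot hi1 _
        (fun h0 => by simpa [h0, hk.ne_zero] using det_pow_eq_one (r := k) hg) (det_pow_eq_one hg)
      obtain ⟨x, hx⟩ := Linear.exists_sl g hdet
      obtain ⟨v, w, hv, hw, hv0, hvw⟩ := exists_indep_of_finrank
        (W := End.eigenspace g (1 : F)) (by rw [hge]; omega)
      rw [End.mem_eigenspace_iff, ← hx, Matrix.toLin'_apply] at hv hw
      have hns : ∀ z : F, (x : Matrix (Fin k) (Fin k) F) ≠ z • (1 : Matrix (Fin k) (Fin k) F) := by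
        intro z hz
        rw [Linear.eq_smul_one_iff, hx] at hz
        have hzv : z = 1 := by
          rw [Matrix.toLin'_apply _ v |>.symm, hx, hz] at hv
          have : (z - 1) • v = 0 := by
            simp only [LinearMap.smul_apply, Module.End.one_apply, one_smul] at hv
            rw [sub_smul, one_smul, hv, sub_self]
          exact sub_eq_zero.mp ((smul_eq_zero.mp this).resolve_right hv0)
        have htop : End.eigenspace g (1 : F) = ⊤ := by
          rw [eq_top_iff]
          intro u _
          rw [End.mem_eigenspace_iff, hz, hzv]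
          simp
        rw [htop, finrank_top, Module.finrank_fin_fun] at hge
        omega
      obtain ⟨P, hP⟩ := hall x ⟨1, by rw [Linear.eq_smul_one_iff, Linear.toLin_pow, hx, hg, one_smul]⟩
        hns
      exact not_conj_mem hK hk x hv0 hv hw hvw hns P hP
  · intro hord x ⟨z, hz⟩ hns
    have hzn : z ^ k = 1 := by
      have := congrArg Matrix.det hz
      rw [Matrix.SpecialLinearGroup.det_coe, Matrix.det_smul, Matrix.det_one, Fintype.card_fin,
        mul_one] at this
      exact this.symm
    have hz1 : z = 1 := hroot (by omega) z (fun h => by simp [h, hk.ne_zero] at hzn) hzn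
    refine exists_conj_mem hK hk h2 hkF x (minpoly_eq_of_primitive h2 hkF hord ?_ ?_)
    · rw [← Matrix.SpecialLinearGroup.coe_pow, hz, hz1, one_smul]
    · exact fun h => hns 1 (by rw [h, one_smul])

end Cfsg.Agent.S5970
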