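import Cfsg.Statements.S5971
import Cfsg.Agent.Lib.SingerNorm.Order
-- import your own Cfsg.Agent.* helpers here

set_option autoImplicit false
open scoped MatrixGroups
open Cfsg

namespace Cfsg.Agent.S5971

open Matrix Polynomial Module Cfsg.Agent.Lib.SingerNorm Cfsg.Agent.Lib.Elusive


/-- Elements of order 3 of PSL_3(q) and the normalizer of a Singer cycle. Here `T = PSL_n(F)` for a field `F` with `q = p^f` elements (`n ≥ 2`, `(n, q) ≠ (2, 2), (2, 3)`), `k` is a prime dividing `n`, `K` is a subalgebra of the `n × n` matrices that is a field of degree `k` over `F` (an extension-field structure F_{q^k} on `F^n`), and `H` is the subgroup of matrices of determinant 1 normalizing `K` — a subgroup of type GL_{n/k}(q^k) (maximal except in some small cases; maximality is not assumed); Ω is the set of cosets of `H` in `T`, so an element of `T` of prime order `r` (a matrix `x` of determinant 1 with `x^r` scalar, `x` not scalar) fixes a point of Ω when some conjugate of `x` by a matrix of determinant 1 normalizes `K`.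 Take `n = k = 3` and suppose 3 divides the index of `H`. Then every element of `T` of order 3 is conjugate in `T` into `H` if and only if `q ≡ 4, 7` or `8 (mod 9)`. -/
theorem result {F : Type*} [Field F] [Fintype F] {p : ℕ} [Fact p.Prime] [CharP F p] {q : ℕ} (hq : Fintype.card F = q)
    (n : ℕ) (hn : n = 3) (k : ℕ) (hk : k.Prime) (hkn : k ∣ n) (K : Subalgebra F (Matrix (Fin n) (Fin n) F)) (hK : Cfsg.Geo.IsFieldSubalgebra k K) (hk3 : k = 3) (hΩ : 3 ∣ ((Cfsg.Geo.subalgebraNormalizer K).comap (Matrix.SpecialLinearGroup.toGL : Matrix.SpecialLinearGroup (Fin n) F →* GL (Fin n) F)).index) :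
    (∀ x : Matrix.SpecialLinearGroup (Fin n) F,
      (∃ z : F, ((x ^ 3 : Matrix.SpecialLinearGroup (Fin n) F) : Matrix (Fin n) (Fin n) F) = z • (1 : Matrix (Fin n) (Fin n) F)) →
      (∀ z : F, (x : Matrix (Fin n) (Fin n) F) ≠ z • (1 : Matrix (Fin n) (Fin n) F)) →
      ∃ P : Matrix.SpecialLinearGroup (Fin n) F, P⁻¹ * x * P ∈ ((Cfsg.Geo.subalgebraNormalizer K).comap (Matrix.SpecialLinearGroup.toGL : Matrix.SpecialLinearGroup (Fin n) F →* GL (Fin n) F))) ↔
    (q % 9 = 4 ∨ q % 9 = 7 ∨ q % 9 = 8) := by
  subst hn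
  classical
  subst hk3
  subst hq
  haveI : Fact (Nat.Prime 3) := ⟨Nat.prime_three⟩
  have hp := (Fact.out : p.Prime)
  obtain ⟨f, -, hf⟩ := FiniteField.card F p
  have hq1 : 1 ≤ Fintype.card F := Fintype.card_pos
  by_cases h3 : Fintype.card F % 3 = 0
  · -- characteristic three: a transvection
    have hp3 : p = 3 := by
      have : 3 ∣ p ^ (f : ℕ) := hf ▸ Nat.dvd_of_mod_eq_zero h3
      exact ((Nat.prime_dvd_prime_iff_eq Nat.prime_three hp).mp
        (Nat.prime_three.dvd_of_dvd_pow this)).symm
    subst hp3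
    refine iff_of_false ?_ (by omega)
    intro hall
    let T : Matrix (Fin 3) (Fin 3) F := Matrix.transvection 0 1 1
    have hdet : T.det = 1 := Matrix.det_transvection_of_ne 0 1 (by decide) 1
    have hns : ∀ z : F, T ≠ z • (1 : Matrix (Fin 3) (Fin 3) F) := by
      intro z hz
      have := congrFun (congrFun hz 0) 1
      simp [T, Matrix.transvection, Matrix.single] at this
    have h3F : (3 : F) = 0 := by exact_mod_cast CharP.cast_eq_zero F 3
    let xT : Matrix.SpecialLinearGroup (Fin 3) F := ⟨T, hdet⟩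
    obtain ⟨P, hP⟩ := hall xT ⟨1, by
      rw [Matrix.SpecialLinearGroup.coe_pow]
      show T ^ 3 = _
      rw [pow_succ, pow_two, Matrix.transvection_mul_transvection_same _ _ (by decide),
        Matrix.transvection_mul_transvection_same _ _ (by decide),
        show (1 : F) + 1 + 1 = 0 by rw [← h3F]; norm_num, Matrix.transvection_zero, one_smul]⟩ hns
    refine not_conj_mem hK hk xT (μ := 1) (v := Pi.single 0 1) (w := Pi.single 2 1)
      (by simp) ?_ ?_ ?_ hns P hP
    · ext j; fin_cases j <;> simp [xT, T, Matrix.transvection, Matrix.single, Matrix.mulVec, dotProduct, Fin.sum_univ_three]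
    · ext j; fin_cases j <;> simp [xT, T, Matrix.transvection, Matrix.single, Matrix.mulVec, dotProduct, Fin.sum_univ_three]
    · intro t ht
      have := congrFun ht 2
      simp at this
  have hp3 : p ≠ 3 := by
    rintro rfl
    refine h3 (Nat.mod_eq_zero_of_dvd ?_)
    rw [hf]
    exact dvd_pow_self 3 f.pos.ne'
  have h3F : ((3 : ℕ) : F) ≠ 0 := by
    rw [Ne, CharP.cast_eq_zero_iff F p]
    intro h
    exact hp3 ((Nat.prime_dvd_prime_iff_eq hp Nat.prime_three).mp h)
  have hcyc : ∀ z : F, z ≠ 0 → ∀ m : ℕ, z ^ m = 1 → orderOf z ∣ Nat.gcd m (Fintype.card F - 1) :=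
    fun z hz m hm => Nat.dvd_gcd (orderOf_dvd_of_pow_eq_one hm)
      (orderOf_dvd_of_pow_eq_one (FiniteField.pow_card_sub_one_eq_one z hz))
  have hzdet : ∀ (x : Matrix.SpecialLinearGroup (Fin 3) F) (z : F),
      ((x ^ 3 : Matrix.SpecialLinearGroup (Fin 3) F) : Matrix (Fin 3) (Fin 3) F) =
        z • (1 : Matrix (Fin 3) (Fin 3) F) → z ^ 3 = 1 := by
    intro x z hz
    have := congrArg Matrix.det hz
    rw [Matrix.SpecialLinearGroup.det_coe, Matrix.det_smul, Matrix.det_one, Fintype.card_fin,
      mul_one] at this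
    exact this.symm
  by_cases h32 : Fintype.card F % 3 = 2
  · -- no non-trivial cube roots of unity
    have hord : orderOf (Fintype.card F : ZMod 3) = 3 - 1 := by
      rw [← ZMod.natCast_mod, h32]
      show orderOf (2 : ZMod 3) = 2
      haveI : Fact (Nat.Prime 2) := ⟨Nat.prime_two⟩
      exact orderOf_eq_prime (x := (2 : ZMod 3)) (by decide +revert) (by decide +revert)
    refine iff_of_true ?_ ?_
    · intro x ⟨z, hz⟩ hns
      have hzn := hzdet x z hz
      have hz0 : z ≠ 0 := fun h => by simp [h] at hzn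
      have hz1 : z = 1 := by
        have h1 := hcyc z hz0 3 hzn
        have h2 : Nat.gcd 3 (Fintype.card F - 1) = 1 := by
          refine (Nat.prime_three.coprime_iff_not_dvd.mpr ?_)
          omega
        rw [h2, Nat.dvd_one] at h1
        exact orderOf_eq_one_iff.mp h1
      refine exists_conj_mem hK Nat.prime_three (by decide) h3F x
        (minpoly_eq_of_primitive (by decide) h3F hord ?_ ?_)
      · rw [← Matrix.SpecialLinearGroup.coe_pow, hz, hz1, one_smul]
      · exact fun h => hns 1 (by rw [h, one_smul])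
    · obtain ⟨s, hsN, hs⟩ := exists_semilinear hK Nat.prime_three (by decide)
      set H := (Cfsg.Geo.subalgebraNormalizer K).comap
        (Matrix.SpecialLinearGroup.toGL : Matrix.SpecialLinearGroup (Fin 3) F →* GL (Fin 3) F)
      have hso : orderOf (⟨s, hsN⟩ : H) = 3 := by
        refine orderOf_eq_prime ?_ ?_
        · refine Subtype.ext (Subtype.ext ?_)
          have := minpoly.aeval F (s : Matrix (Fin 3) (Fin 3) F)
          rw [hs] at this
          simpa [sub_eq_zero] using this
        · intro h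
          have h1 : (s : Matrix (Fin 3) (Fin 3) F) = 1 := by
            have := congrArg (fun u : H => ((u : Matrix.SpecialLinearGroup (Fin 3) F) :
              Matrix (Fin 3) (Fin 3) F)) h
            simpa using this
          rw [h1, minpoly.one] at hs
          have := congrArg natDegree hs
          rw [show (1 : F[X]) = C 1 by simp, natDegree_X_pow_sub_C, natDegree_X_sub_C] at this
          omega
      have hH : 3 ∣ Nat.card H := by
        have := orderOf_dvd_natCard (⟨s, hsN⟩ : H)
        rwa [hso] at this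
      have h9 : 9 ∣ Nat.card (Matrix.SpecialLinearGroup (Fin 3) F) := by
        rw [← Subgroup.index_mul_card H]
        exact Nat.mul_dvd_mul hΩ hH
      have hGL : 9 ∣ Nat.card (GL (Fin 3) F) :=
        h9.trans (Subgroup.card_dvd_of_injective _ Matrix.SpecialLinearGroup.toGL_injective)
      rw [Matrix.card_GL_field, Fin.prod_univ_three] at hGL
      simp only [Fin.val_zero, Fin.val_one, Fin.val_two, pow_zero, pow_one] at hGL
      set q := Fintype.card F
      have hmod : q % 9 = 2 ∨ q % 9 = 5 ∨ q % 9 = 8 := by omega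
      rcases hmod with h | h | h
      · exfalso
        revert hGL
        rw [Nat.dvd_iff_mod_eq_zero, ← ZMod.val_natCast, ZMod.val_eq_zero]
        have hc : (q : ZMod 9) = 2 := by rw [← ZMod.natCast_mod, h]; rfl
        push_cast [Nat.cast_sub (Nat.one_le_pow 3 q hq1), Nat.cast_sub (Nat.le_self_pow three_ne_zero q),
          Nat.cast_sub (Nat.pow_le_pow_right hq1 (by norm_num : 2 ≤ 3))]
        rw [hc]
        decide
      · exfalso
        revert hGL
        rw [Nat.dvd_iff_mod_eq_zero, ← ZMod.val_natCast, ZMod.val_eq_zero]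
        have hc : (q : ZMod 9) = 5 := by rw [← ZMod.natCast_mod, h]; rfl
        push_cast [Nat.cast_sub (Nat.one_le_pow 3 q hq1), Nat.cast_sub (Nat.le_self_pow three_ne_zero q),
          Nat.cast_sub (Nat.pow_le_pow_right hq1 (by norm_num : 2 ≤ 3))]
        rw [hc]
        decide
      · omega
  have hdvd3 : 3 ∣ Fintype.card Fˣ := by rw [Fintype.card_units]; omega
  have hq2 : 1 < Fintype.card F := Fintype.one_lt_card
  by_cases h9 : Fintype.card F % 9 = 1
  · refine iff_of_false ?_ (by omega)
    intro hall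
    have h9d : 9 ∣ Fintype.card F - 1 := by omega
    obtain ⟨ζ, hζ⟩ := IsCyclic.exists_generator (α := Fˣ)
    set η := ζ ^ ((Fintype.card F - 1) / 9) with hη
    have hη9 : orderOf η = 9 := by
      have h1 : orderOf ζ = Fintype.card F - 1 := by
        rw [orderOf_eq_card_of_forall_mem_zpowers hζ, Nat.card_eq_fintype_card, Fintype.card_units]
      rw [hη, orderOf_pow' (n := (Fintype.card F - 1) / 9) _ (by omega), h1,
        Nat.gcd_eq_right (Nat.div_dvd_of_dvd h9d), Nat.div_div_self h9d (by omega)]
    let d : Fin 3 → F := ![((η⁻¹ : Fˣ) : F), ((η⁻¹ : Fˣ) : F), ((η ^ 2 : Fˣ) : F)]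
    have hdet : (Matrix.diagonal d).det = 1 := by
      rw [Matrix.det_diagonal, Fin.prod_univ_three]
      simp only [d, Matrix.cons_val_zero, Matrix.cons_val_one, Matrix.cons_val, ← Units.val_mul,
        Units.val_eq_one]
      group
    have hne : ((η⁻¹ : Fˣ) : F) ≠ ((η ^ 2 : Fˣ) : F) := by
      intro h
      have h1 : η ^ 3 = 1 := by
        rw [pow_succ, ← Units.ext h, inv_mul_cancel]
      have := orderOf_dvd_of_pow_eq_one h1
      rw [hη9] at this
      norm_num at this
    have hns : ∀ z : F, Matrix.diagonal d ≠ z • (1 : Matrix (Fin 3) (Fin 3) F) := by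
      intro z hz
      rw [Matrix.smul_one_eq_diagonal, Matrix.diagonal_eq_diagonal_iff] at hz
      exact hne ((hz 0).trans (hz 2).symm)
    let xd : Matrix.SpecialLinearGroup (Fin 3) F := ⟨Matrix.diagonal d, hdet⟩
    obtain ⟨P, hP⟩ := hall xd ⟨((η⁻¹ : Fˣ) : F) ^ 3, by
      rw [Matrix.SpecialLinearGroup.coe_pow]
      show Matrix.diagonal d ^ 3 = _
      rw [Matrix.diagonal_pow, Matrix.smul_one_eq_diagonal, Matrix.diagonal_eq_diagonal_iff]
      intro j
      fin_cases j
      · rfl
      · rfl
      · show ((η ^ 2 : Fˣ) : F) ^ 3 = ((η⁻¹ : Fˣ) : F) ^ 3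
        rw [← Units.val_pow_eq_pow_val, ← Units.val_pow_eq_pow_val, inv_pow, ← pow_mul]
        congr 1
        rw [eq_inv_iff_mul_eq_one, ← pow_add]
        show η ^ 9 = 1
        rw [← hη9, pow_orderOf_eq_one]⟩ hns
    refine not_conj_mem hK Nat.prime_three xd (μ := ((η⁻¹ : Fˣ) : F))
      (v := Pi.single 0 1) (w := Pi.single 1 1) (by simp) ?_ ?_ ?_ hns P hP
    · ext j; fin_cases j <;> simp [xd, d, Matrix.diagonal, Matrix.mulVec, dotProduct, Fin.sum_univ_three]
    · ext j; fin_cases j <;> simp [xd, d, Matrix.diagonal, Matrix.mulVec, dotProduct, Fin.sum_univ_three]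
    · intro t ht
      have := congrFun ht 1
      simp at this
  refine iff_of_true ?_ (by omega)
  intro x ⟨z, hz⟩ hns
  have hzn := hzdet x z hz
  have hz0 : z ≠ 0 := fun h => by simp [h] at hzn
  set f' := Matrix.toLin' (x : Matrix (Fin 3) (Fin 3) F) with hf'
  rw [Linear.eq_smul_one_iff, Linear.toLin_pow, ← hf'] at hz
  have hdet : LinearMap.det f' = 1 := by
    rw [hf', LinearMap.det_toLin']
    exact x.2
  have hcube : ∃ c : F, c ^ 3 = z := by
    by_contra hcon
    push Not at hcon
    obtain ⟨s, hs, hd⟩ := nonsplit_det hcon hz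
    rw [Module.finrank_fin_fun] at hs
    have hs1 : s = 1 := by omega
    subst hs1
    rw [hdet] at hd
    rw [show ((-1 : F)) ^ (3 + 1) = 1 by norm_num, one_mul, pow_one] at hd
    exact hcon 1 (by rw [one_pow]; exact hd)
  obtain ⟨c, hc⟩ := hcube
  have hc3 : c ^ 3 = 1 := by
    have h1 := hcyc c (fun h => hz0 (by rw [← hc, h]; simp)) 9
      (by rw [show 9 = 3 * 3 from rfl, pow_mul, hc, hzn])
    have ha := h1.trans (Nat.gcd_dvd_left _ _)
    have hb := h1.trans (Nat.gcd_dvd_right _ _)
    have h2 : orderOf c ∣ 3 := by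
      obtain ⟨j, hj, hje⟩ := (Nat.dvd_prime_pow Nat.prime_three).mp (show orderOf c ∣ 3 ^ 2 from ha)
      interval_cases j
      · simp [hje]
      · simp [hje]
      · rw [hje] at hb; omega
    exact orderOf_dvd_iff_pow_eq_one.mp h2
  have hz1 : z = 1 := hc ▸ hc3
  have hxM : (x : Matrix (Fin 3) (Fin 3) F) ^ 3 = 1 := by
    apply Matrix.toLin'.injective
    rw [Matrix.toLin'_pow, ← hf', hz, hz1, one_smul, Matrix.toLin'_one]
    rfl
  refine exists_conj_mem hK Nat.prime_three (by decide) h3F x ?_
  obtain ⟨ω, hω⟩ := exists_prime_orderOf_dvd_card 3 hdvd3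
  have hprim : IsPrimitiveRoot (ω : F) 3 :=
    (IsPrimitiveRoot.coe_units_iff).mpr (hω ▸ IsPrimitiveRoot.orderOf ω)
  set M := (x : Matrix (Fin 3) (Fin 3) F) with hM
  have hint : IsIntegral F M := Algebra.IsIntegral.isIntegral M
  refine (eq_of_monic_of_dvd_of_natDegree_le (minpoly.monic hint)
    (monic_X_pow_sub (by simp)) (minpoly.dvd F M (by simp [hxM])) ?_).symm
  rw [show (1 : F[X]) = C 1 by simp, natDegree_X_pow_sub_C]
  by_contra hlt
  rw [not_le] at hlt
  -- some cube root of unity is not an eigenvalue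
  have hsplit : (X ^ 3 - 1 : F[X]) = (X - C 1) * (X - C (ω : F)) * (X - C ((ω : F) ^ 2)) := by
    have h3' := hprim.geom_sum_eq_zero (by norm_num)
    simp only [Finset.sum_range_succ, Finset.sum_range_zero, pow_zero, pow_one, zero_add] at h3'
    have e1 : (ω : F) ^ 3 = 1 := hprim.pow_eq_one
    have e2 : C ((ω : F) ^ 3) = 1 := by rw [e1, C_1]
    have e3 : (1 : F[X]) + C (ω : F) + C ((ω : F) ^ 2) = 0 := by
      rw [← C_1, ← C_add, ← C_add, h3', C_0]
    simp only [C_pow] at e2 e3 ⊢
    rw [C_1]
    linear_combination X ^ 2 * e3 - X * (C (ω : F)) * e3 + e2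
  have key : ∀ α β γ : F, (X ^ 3 - 1 : F[X]) = (X - C α) * (X - C β) * (X - C γ) →
      α ≠ β → α ^ 3 = 1 → β ^ 3 = 1 → (minpoly F M).eval γ ≠ 0 → False := by
    intro α β γ heq hαβ hα hβ hγ
    have hcop : IsCoprime (X - C γ) (minpoly F M) :=
      (prime_X_sub_C γ).coprime_iff_not_dvd.mpr (fun h => hγ (dvd_iff_isRoot.mp h))
    have h1 : minpoly F M ∣ (X - C α) * (X - C β) :=
      hcop.symm.dvd_of_dvd_mul_right (heq ▸ minpoly.dvd F M (by simp [hxM]))
    obtain ⟨d, hd⟩ := h1
    have h2 : aeval (Matrix.toLinAlgEquiv' M) ((X - C α) * (X - C β)) = 0 := by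
      rw [Polynomial.aeval_algHom_apply, hd, map_mul, minpoly.aeval, zero_mul, map_zero]
    have hf'' : Matrix.toLinAlgEquiv' M = f' := rfl
    rw [hf'', map_mul, map_sub, map_sub, aeval_X, aeval_C, aeval_C,
      Algebra.algebraMap_eq_smul_one, Algebra.algebraMap_eq_smul_one] at h2
    have hdet2 := det_eq_of_two_eigen f' hαβ h2
    have hsum := Submodule.finrank_add_eq_of_isCompl (isCompl_eigenspace f' hαβ h2)
    rw [Module.finrank_fin_fun] at hsum
    rw [hdet] at hdet2
    have ha : finrank F (End.eigenspace f' α) ≠ 0 := by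
      intro h0
      refine hns β ?_
      rw [Linear.eq_smul_one_iff, ← hf']
      refine LinearMap.ext fun v => ?_
      have : End.eigenspace f' β = ⊤ := Submodule.eq_top_of_finrank_eq (by
        rw [Module.finrank_fin_fun]; omega)
      exact End.mem_eigenspace_iff.mp (this ▸ Submodule.mem_top)
    have hb : finrank F (End.eigenspace f' β) ≠ 0 := by
      intro h0
      refine hns α ?_
      rw [Linear.eq_smul_one_iff, ← hf']
      refine LinearMap.ext fun v => ?_
      have : End.eigenspace f' α = ⊤ := Submodule.eq_top_of_finrank_eq (by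
        rw [Module.finrank_fin_fun]; omega)
      exact End.mem_eigenspace_iff.mp (this ▸ Submodule.mem_top)
    have hα0 : α ≠ 0 := fun h => by simp [h] at hα
    have hβ0 : β ≠ 0 := fun h => by simp [h] at hβ
    apply hαβ
    rcases (show finrank F (End.eigenspace f' α) = 1 ∨ finrank F (End.eigenspace f' α) = 2 by omega)
      with e | e
    · rw [e, show finrank F (End.eigenspace f' β) = 2 by omega] at hdet2
      exact mul_right_cancel₀ (pow_ne_zero 2 hβ0) (by
        calc α * β ^ 2 = 1 := by rw [← pow_one α, ← hdet2]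
          _ = β * β ^ 2 := by rw [← pow_succ', hβ])
    · rw [e, show finrank F (End.eigenspace f' β) = 1 by omega] at hdet2
      exact mul_left_cancel₀ (pow_ne_zero 2 hα0) (by
        calc α ^ 2 * α = 1 := by rw [← pow_succ, hα]
          _ = α ^ 2 * β := by rw [hdet2, pow_one])
  have e1 : (ω : F) ≠ 1 := hprim.ne_one (by norm_num)
  have e2 : (ω : F) ^ 2 ≠ 1 := hprim.pow_ne_one_of_pos_of_lt two_ne_zero (by norm_num)
  have e3 : (ω : F) ^ 3 = 1 := hprim.pow_eq_one
  have e4 : ((ω : F) ^ 2) ^ 3 = 1 := by rw [← pow_mul, mul_comm, pow_mul, e3, one_pow]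
  have e5 : (ω : F) ≠ (ω : F) ^ 2 := fun h => e1 (by
    have h' : (ω : F) * 1 = (ω : F) * (ω : F) := by rw [mul_one, ← pow_two]; exact h
    exact (mul_left_cancel₀ (Units.ne_zero ω) h').symm)
  by_cases r1 : (minpoly F M).eval 1 = 0
  · by_cases r2 : (minpoly F M).eval (ω : F) = 0
    · by_cases r3 : (minpoly F M).eval ((ω : F) ^ 2) = 0
      · have hle : 3 ≤ (minpoly F M).natDegree := by
          refine le_trans ?_ (Polynomial.card_le_degree_of_subset_roots
            (Z := {1, (ω : F), (ω : F) ^ 2}) ?_)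
          · rw [Finset.card_insert_of_notMem (by simp [e1.symm, e2.symm]),
              Finset.card_insert_of_notMem (by simpa using e5), Finset.card_singleton]
          · intro r hr
            rw [Polynomial.mem_roots (minpoly.ne_zero hint), IsRoot.def]
            simp only [Finset.mem_val, Finset.mem_insert, Finset.mem_singleton] at hr
            rcases hr with rfl | rfl | rfl <;> assumption
        omega
      · exact key 1 (ω : F) _ hsplit e1.symm (one_pow 3) e3 r3
    · exact key 1 ((ω : F) ^ 2) (ω : F) (by rw [hsplit]; ring) e2.symm (one_pow 3) e4 r2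
  · exact key (ω : F) ((ω : F) ^ 2) 1 (by rw [hsplit]; ring) e5 e3 e4 r1

end Cfsg.Agent.S5971
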