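import Cfsg.Statements.S5972
import Cfsg.Agent.Lib.K41.Der.Final
import Cfsg.Agent.Lib.K41.Der.Count
-- import your own Cfsg.Agent.* helpers here

set_option autoImplicit false
open scoped MatrixGroups
open Cfsg

namespace Cfsg.Agent.S5972

open Cfsg.Agent.Lib Cfsg.Agent.Lib.K41.Der Cfsg.Agent.Lib.Forms Cfsg.Agent.Lib.Elusive


/-- Elements of prime order of Ω_n(q), n = 2d+1 ≥ 7, q odd, with no fixed totally singular `m`-space. Here `T = Ω_n(q)` is realised as the commutator subgroup of the isometry group of the quadratic form `x₀² + Σ xᵢyᵢ` over the field `F` with `q` elements (it has trivial centre, so its elements of prime order `r` are used directly); let `1 ≤ m ≤ d` and let `r` be a prime dividing the number of totally singular `m`-spaces. For `r ≠ p` let `i` be the multiplicative order of `q` modulo `r`, `c = i` for `i` even and `c = 2i` for `i` odd, and write `k = n mod c`, `ℓ = m mod i`, `n' = ⌊n/i⌋`, `m' = ⌊m/i⌋`, `t = (r−1)/i`. Then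 every element of `T` of order `r` fixes some totally singular `m`-space if and only if either (i) `r = 2` and (`m < (n−1)/2` or `q ≡ 1 (mod 4)`); or (ii) `r ≠ p` is odd, `i ≤ m`, `k > 2ℓ`, and (`i` is odd or `n' − 2m' ≥ t`). -/
theorem result {F : Type*} [Field F] [Fintype F] {p : ℕ} [Fact p.Prime] [CharP F p] {q : ℕ} (hq : Fintype.card F = q) (hqodd : Odd q)
    (d m : ℕ) (hd : 3 ≤ d) (hm : 1 ≤ m) (hmd : m ≤ d)
    (r : ℕ) [Fact r.Prime]
    (hrΩ : r ∣ Nat.card {W : Submodule F (Unit ⊕ (Fin d ⊕ Fin d) → F) // Module.finrank F ↥W = m ∧ (∀ w ∈ W, Cfsg.quadFormOdd d F w = 0)})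
    (i c : ℕ) (hi : i = orderOf (q : ZMod r)) (hc : c = if Even i then i else 2 * i) :
    (∀ x : GL (Unit ⊕ (Fin d ⊕ Fin d)) F, x ∈ Cfsg.Geo.omegaGL (Cfsg.quadFormOdd d F) → orderOf x = r →
      ∃ W : Submodule F (Unit ⊕ (Fin d ⊕ Fin d) → F), Module.finrank F ↥W = m ∧ (∀ w ∈ W, Cfsg.quadFormOdd d F w = 0) ∧
        W.map (Matrix.toLin' (x : Matrix (Unit ⊕ (Fin d ⊕ Fin d)) (Unit ⊕ (Fin d ⊕ Fin d)) F)) ≤ W) ↔
    ((r = 2 ∧ (m < d ∨ q % 4 = 1)) ∨
     (r ≠ p ∧ 2 < r ∧ i ≤ m ∧ 2 * (m % i) < (2 * d + 1) % c ∧ (Odd i ∨ (r - 1) / i + 2 * (m / i) ≤ (2 * d + 1) / i))) := by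
  subst hq
  have h2 : (2 : F) ≠ 0 := two_ne_zero_of_odd rfl hqodd
  have hcard : Fintype.card (Unit ⊕ (Fin d ⊕ Fin d)) = 2 * d + 1 := by
    simp only [Fintype.card_sum, Fintype.card_unit, Fintype.card_fin]; omega
  have hf : ∀ v, Cfsg.quadFormOdd d F v = OrthStd.qOddC d F v := OrthStd.quadFormOdd_eq d
  have hQ := qOddC_nondeg h2 d
  have hn := (Module.finrank_fintype_fun_eq_card (η := Unit ⊕ (Fin d ⊕ Fin d)) F).trans hcard
  have hpl : ¬ Plus (OrthStd.qOddC d F) := not_plus_of_odd hn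
  have hP : ∀ W : Submodule F (Unit ⊕ (Fin d ⊕ Fin d) → F),
      (Module.finrank F W = m ∧ (∀ w ∈ W, Cfsg.quadFormOdd d F w = 0)) ↔
      (Module.finrank F W = m ∧ Sing (OrthStd.qOddC d F) W) := fun W => by
    simp only [Sing, hf]
  simp only [← and_assoc] at hrΩ ⊢
  have hlt : r ≠ 2 → 2 < r := fun h => lt_of_le_of_ne (Fact.out : r.Prime).two_le (Ne.symm h)
  by_cases hr2 : r = 2
  · subst hr2
    rw [ts_two_order hf hQ (by omega) h2 hcard hmd hP]
    simp only [and_assoc]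
    exact ⟨fun h => Or.inl ⟨trivial, h⟩, fun h => h.elim And.right fun h => absurd h.2.1 (lt_irrefl 2)⟩
  have hrp : r ≠ p := by
    rintro rfl
    rw [card_congr_pred hP] at hrΩ
    exact not_dvd_card_sing hQ (by omega) hrΩ
  have hrF : (r : F) ≠ 0 := natCast_ne_zero_of_ne hrp
  rw [ts_order hf hQ (by omega) hr2 hrF hm (by omega) hP hrΩ, hcard, ← hi]
  simp only [and_assoc]
  simp only [CondTS, hr2, hlt hr2, hrp, false_and, false_or, ne_eq, not_false_iff, true_and,
    iff_false_intro hpl, and_false, false_iff]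
  rcases Nat.even_or_odd i with he | ho
  · have hno : ¬ Odd i := Nat.not_odd_iff_even.mpr he
    have hci : c = i := by rw [hc, if_pos he]
    simp only [he, hno, hci, false_and, false_or, true_and, or_false]
    obtain ⟨u, hu⟩ := he
    have hpar : ((2 * d + 1) % i) % 2 = 1 := by rw [Nat.mod_mod_of_dvd _ ⟨u, by omega⟩]; omega
    constructor
    · rintro ⟨h, h', h'' | ⟨h'', -⟩ | ⟨h'', -⟩⟩ <;> first | omega | exact ⟨h, h'', h'⟩
    · rintro ⟨h, h', h''⟩
      exact ⟨h, h'', Or.inl h'⟩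
  · have hne : ¬ Even i := Nat.not_even_iff_odd.mpr ho
    have hci : c = 2 * i := by rw [hc, if_neg hne]
    simp only [ho, hne, hci, false_and, or_false, true_and, true_or, and_true, not_false_iff, false_or]
    have hpar : ((2 * d + 1) % (2 * i)) % 2 = 1 := by rw [Nat.mod_mod_of_dvd _ ⟨i, rfl⟩]; omega
    constructor
    · rintro ⟨h, h' | h'⟩ <;> first | omega | exact ⟨h, h'⟩
    · rintro ⟨h, h'⟩
      exact ⟨h, Or.inl h'⟩

end Cfsg.Agent.S5972
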