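import Cfsg.Statements.S5973
import Cfsg.Agent.Lib.K41.Der.Final
import Cfsg.Agent.Lib.K41.Der.Count
-- import your own Cfsg.Agent.* helpers here

set_option autoImplicit false
open scoped MatrixGroups
open Cfsg

namespace Cfsg.Agent.S5973

open Cfsg.Agent.Lib Cfsg.Agent.Lib.K41.Der Cfsg.Agent.Lib.Forms Cfsg.Agent.Lib.Elusive


/-- Elements of prime order of PΩ⁺_n(q), n = 2d ≥ 8, with no fixed totally singular `m`-space, `m < n/2`. Here `T = PΩ⁺_n(q)` is realised through `Ω⁺_n(q)`, the commutator subgroup of the isometry group of the quadratic form `Σ xᵢyᵢ` over the field `F` with `q` elements; an element of `T` of prime order `r` is an element `x` of `Ω⁺_n(q)` with `x^r` scalar and `x` not scalar. Let `1 ≤ m < d` and let `r` be a prime dividing the number of totally singular `m`-spaces. For `r ≠ p` let `i` be the multiplicative order of `q` modulo `r`, `c = i` for `i` even and `c = 2i` for `i` odd, and write `k = n mod c`,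 `ℓ = m mod i`, `n' = ⌊n/i⌋`, `m' = ⌊m/i⌋`, `t = (r−1)/i`. Then every element of `T` of order `r` fixes some totally singular `m`-space if and only if one of: (i) `r = 2 ≠ p` and either `q ≡ 1 (mod 4)`, or `q ≡ 3 (mod 4)`, `m ≤ n/2 − 2` and (`m` even or `n ≡ 2 (mod 4)`); (ii) `r ≠ p` odd, `i` odd, `i ≤ m` and `k ≥ 2ℓ`; (iii) `r ≠ p` odd, `i` even, `i ≤ m`, `n' − 2m' ≥ t`, and one of: `i ≥ 2ℓ`, `k = 0`, `n/i` odd and `n' − 2m' > t`; or `k ≥ 2ℓ` and `n'` even; or `k > 2ℓ` and `n'` odd. -/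
theorem result {F : Type*} [Field F] [Fintype F] {p : ℕ} [Fact p.Prime] [CharP F p] {q : ℕ} (hq : Fintype.card F = q)
    (d m : ℕ) (hd : 4 ≤ d) (hm : 1 ≤ m) (hmd : m < d)
    (r : ℕ) [Fact r.Prime]
    (hrΩ : r ∣ Nat.card {W : Submodule F (Fin d ⊕ Fin d → F) // Module.finrank F ↥W = m ∧ (∀ w ∈ W, Cfsg.quadFormPlus d F w = 0)})
    (i c : ℕ) (hi : i = orderOf (q : ZMod r)) (hc : c = if Even i then i else 2 * i) :
    (∀ x : GL (Fin d ⊕ Fin d) F, x ∈ Cfsg.Geo.omegaGL (Cfsg.quadFormPlus d F) →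
      (∃ z : F, ((x ^ r : GL (Fin d ⊕ Fin d) F) : Matrix (Fin d ⊕ Fin d) (Fin d ⊕ Fin d) F) = z • (1 : Matrix (Fin d ⊕ Fin d) (Fin d ⊕ Fin d) F)) →
      (∀ z : F, (x : Matrix (Fin d ⊕ Fin d) (Fin d ⊕ Fin d) F) ≠ z • (1 : Matrix (Fin d ⊕ Fin d) (Fin d ⊕ Fin d) F)) →
      ∃ W : Submodule F (Fin d ⊕ Fin d → F), Module.finrank F ↥W = m ∧ (∀ w ∈ W, Cfsg.quadFormPlus d F w = 0) ∧
        W.map (Matrix.toLin' (x : Matrix (Fin d ⊕ Fin d) (Fin d ⊕ Fin d) F)) ≤ W) ↔
    ((r = 2 ∧ p ≠ 2 ∧ (q % 4 = 1 ∨ (q % 4 = 3 ∧ m + 2 ≤ d ∧ (Even m ∨ (2 * d) % 4 = 2)))) ∨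
     (r ≠ p ∧ 2 < r ∧ Odd i ∧ i ≤ m ∧ 2 * (m % i) ≤ (2 * d) % c) ∨
     (r ≠ p ∧ 2 < r ∧ Even i ∧ i ≤ m ∧ (r - 1) / i + 2 * (m / i) ≤ (2 * d) / i ∧
       ((2 * (m % i) ≤ i ∧ (2 * d) % c = 0 ∧ Odd ((2 * d) / i) ∧ (r - 1) / i + 2 * (m / i) < (2 * d) / i) ∨
        (2 * (m % i) ≤ (2 * d) % c ∧ Even ((2 * d) / i)) ∨
        (2 * (m % i) < (2 * d) % c ∧ Odd ((2 * d) / i))))) := by
  subst hq
  have hcard : Fintype.card (Fin d ⊕ Fin d) = 2 * d := by
    simp only [Fintype.card_sum, Fintype.card_fin]; omega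
  have hf : ∀ v, Cfsg.quadFormPlus d F v = qPlus (F := F) d v := qPlus_eq d
  have hQ := qPlus_nondeg (F := F) d
  have hn := (Module.finrank_fintype_fun_eq_card (η := Fin d ⊕ Fin d) F).trans hcard
  have hpl : Plus (qPlus (F := F) d) := plus_qPlus d
  have hP : ∀ W : Submodule F (Fin d ⊕ Fin d → F),
      (Module.finrank F W = m ∧ (∀ w ∈ W, Cfsg.quadFormPlus d F w = 0)) ↔
      (Module.finrank F W = m ∧ Sing (qPlus (F := F) d) W) := fun W => by
    simp only [Sing, hf]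
  simp only [← and_assoc] at hrΩ ⊢
  have hrp : r ≠ p := by
    rintro rfl
    rw [card_congr_pred hP] at hrΩ
    exact not_dvd_card_sing hQ (by omega) hrΩ
  have hrF : (r : F) ≠ 0 := natCast_ne_zero_of_ne hrp
  by_cases hr2 : r = 2
  · subst hr2
    have h2 : (2 : F) ≠ 0 := by exact_mod_cast hrF
    have hodd : Fintype.card F % 2 = 1 := Nat.odd_iff.mp
      ((Nat.card_eq_fintype_card (α := F)) ▸ odd_card_of_two_ne h2)
    rw [ts_two_scalar hf hQ (by omega) h2 hcard hmd hP]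
    simp only [hpl, true_implies, Quarters, not_true, false_and, or_false, true_and, lt_irrefl,
      and_false, Ne.symm hrp, ne_eq, not_false_iff, Nat.even_iff]
    omega
  have hlt : 2 < r := lt_of_le_of_ne (Fact.out : r.Prime).two_le (Ne.symm hr2)
  rw [ts_scalar hf hQ (by omega) hr2 hrF hm (by omega) hP hrΩ, hcard, ← hi]
  simp only [CondTS, hr2, hlt, hrp, false_and, false_or, ne_eq, not_false_iff, true_and,
    iff_true_intro hpl, not_true, and_false, or_false, true_iff]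
  rcases Nat.even_or_odd i with he | ho
  · have hno : ¬ Odd i := Nat.not_odd_iff_even.mpr he
    have hci : c = i := by rw [hc, if_pos he]
    simp only [he, hno, hci, false_and, false_or, true_and]
    simp only [Nat.even_iff, Nat.odd_iff]
    omega
  · have hne : ¬ Even i := Nat.not_even_iff_odd.mpr ho
    have hci : c = 2 * i := by rw [hc, if_neg hne]
    simp only [ho, hne, hci, false_and, or_false, true_and, and_true]
    omega

end Cfsg.Agent.S5973
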