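import Cfsg.Statements.S5974
import Cfsg.Agent.Lib.K41.Der.Final
import Cfsg.Agent.Lib.K41.Der.Char2
-- import your own Cfsg.Agent.* helpers here

set_option autoImplicit false
open scoped MatrixGroups
open Cfsg

namespace Cfsg.Agent.S5974

open Cfsg.Agent.Lib Cfsg.Agent.Lib.K41.Der Cfsg.Agent.Lib.Forms Cfsg.Agent.Lib.Elusive


/-- Elements of prime order of PΩ⁺_n(q), n = 2d ≥ 8, with no fixed nondegenerate hyperbolic `m`-space. Here `T = PΩ⁺_n(q)` is realised through `Ω⁺_n(q)`, the commutator subgroup of the isometry group of `Q = Σ xᵢyᵢ` over the field `F` with `q` elements; an element of `T` of prime order `r` is an element `x` of `Ω⁺_n(q)` with `x^r` scalar and `x` not scalar. A hyperbolic `m`-space is a subspace `W` of even dimension `m` on which the polar form of `Q` is nondegenerate and which contains a totally singular subspace of dimension `m/2`. Let `m` be even with `2 ≤ m < n/2`, and let `r` be a prime dividing the number of hyperbolic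 `m`-spaces, with `r = 2` or `r ≠ p`. For `r ≠ p` let `i` be the multiplicative order of `q` modulo `r`, `c = i` for `i` even and `c = 2i` for `i` odd, and write `k = n mod c`, `ℓ' = m mod c`. Then every element of `T` of order `r` fixes some hyperbolic `m`-space if and only if one of: (i) `r = 2` and (`n ≡ 2 (mod 4)`, or `m ≡ 0 (mod 4)`, or `q ≡ 1 (mod 4)`); (ii) `r ≠ p` odd, `i` odd, `c ≤ m` and `k ≥ ℓ'`; (iii) `r ≠ p` odd, `i` even, and either `k = 0` and (`n/i` odd, or `ℓ' = 0` and `m/i` even), or `i ≤ m` and (`k > ℓ' > 0`, or `k = ℓ' > 0` and `(n + m − 2k)/i` even, or `k > ℓ' = 0` and `m/i` even). -/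
theorem result {F : Type*} [Field F] [Fintype F] {p : ℕ} [Fact p.Prime] [CharP F p] {q : ℕ} (hq : Fintype.card F = q)
    (d m : ℕ) (hd : 4 ≤ d) (hm : 2 ≤ m) (hme : Even m) (hmd : m < d)
    (r : ℕ) [Fact r.Prime] (hr : r = 2 ∨ r ≠ p)
    (hrΩ : r ∣ Nat.card {W : Submodule F (Fin d ⊕ Fin d → F) // (Module.finrank F ↥W = m ∧ (∀ u ∈ W, u ≠ 0 → ∃ v ∈ W, QuadraticMap.polar (Cfsg.quadFormPlus d F) u v ≠ 0) ∧
          ∃ U : Submodule F (Fin d ⊕ Fin d → F), U ≤ W ∧ 2 * Module.finrank F ↥U = m ∧ ∀ u ∈ U, Cfsg.quadFormPlus d F u = 0)})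
    (i c : ℕ) (hi : i = orderOf (q : ZMod r)) (hc : c = if Even i then i else 2 * i) :
    (∀ x : GL (Fin d ⊕ Fin d) F, x ∈ Cfsg.Geo.omegaGL (Cfsg.quadFormPlus d F) →
      (∃ z : F, ((x ^ r : GL (Fin d ⊕ Fin d) F) : Matrix (Fin d ⊕ Fin d) (Fin d ⊕ Fin d) F) = z • (1 : Matrix (Fin d ⊕ Fin d) (Fin d ⊕ Fin d) F)) →
      (∀ z : F, (x : Matrix (Fin d ⊕ Fin d) (Fin d ⊕ Fin d) F) ≠ z • (1 : Matrix (Fin d ⊕ Fin d) (Fin d ⊕ Fin d) F)) →
      ∃ W : Submodule F (Fin d ⊕ Fin d → F), (Module.finrank F ↥W = m ∧ (∀ u ∈ W, u ≠ 0 → ∃ v ∈ W, QuadraticMap.polar (Cfsg.quadFormPlus d F) u v ≠ 0) ∧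
          ∃ U : Submodule F (Fin d ⊕ Fin d → F), U ≤ W ∧ 2 * Module.finrank F ↥U = m ∧ ∀ u ∈ U, Cfsg.quadFormPlus d F u = 0) ∧
        W.map (Matrix.toLin' (x : Matrix (Fin d ⊕ Fin d) (Fin d ⊕ Fin d) F)) ≤ W) ↔
    ((r = 2 ∧ ((2 * d) % 4 = 2 ∨ m % 4 = 0 ∨ q % 4 = 1)) ∨
     (r ≠ p ∧ 2 < r ∧ Odd i ∧ c ≤ m ∧ m % c ≤ (2 * d) % c) ∨
     (r ≠ p ∧ 2 < r ∧ Even i ∧
       (((2 * d) % c = 0 ∧ (Odd ((2 * d) / i) ∨ (m % c = 0 ∧ Even (m / i)))) ∨
        (i ≤ m ∧ ((m % c < (2 * d) % c ∧ 0 < m % c) ∨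
                  ((2 * d) % c = m % c ∧ 0 < m % c ∧ Even ((2 * d + m - 2 * ((2 * d) % c)) / i)) ∨
                  (0 < (2 * d) % c ∧ m % c = 0 ∧ Even (m / i))))))) := by
  subst hq
  have hcard : Fintype.card (Fin d ⊕ Fin d) = 2 * d := by
    simp only [Fintype.card_sum, Fintype.card_fin]; omega
  have hf : ∀ v, Cfsg.quadFormPlus d F v = qPlus (F := F) d v := qPlus_eq d
  have hQ := qPlus_nondeg (F := F) d
  have hn := (Module.finrank_fintype_fun_eq_card (η := Fin d ⊕ Fin d) F).trans hcard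
  have hpl : Plus (qPlus (F := F) d) := plus_qPlus d
  have hm2 := Nat.even_iff.mp hme
  have hP : ∀ W : Submodule F (Fin d ⊕ Fin d → F),
      (Module.finrank F W = m ∧ (∀ u ∈ W, u ≠ 0 → ∃ v ∈ W, QuadraticMap.polar (Cfsg.quadFormPlus d F) u v ≠ 0) ∧
        ∃ U : Submodule F (Fin d ⊕ Fin d → F), U ≤ W ∧ 2 * Module.finrank F ↥U = m ∧
          ∀ u ∈ U, Cfsg.quadFormPlus d F u = 0) ↔
      (Module.finrank F W = m ∧ NDeg (qPlus (F := F) d) W ∧ (Plus (res (qPlus (F := F) d) W) ↔ True)) := fun W => by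
    rw [iff_true, show Cfsg.quadFormPlus d F = ⇑(qPlus (F := F) d) from funext hf]
    refine and_congr_right fun hWd => and_congr ⟨fun h => nDeg_iff.mpr fun u hu huv => ?_, fun h u hu hu0 => ?_⟩ ?_
    · by_contra hu0
      obtain ⟨v, hv, hv0⟩ := h u hu hu0
      exact hv0 (huv v hv)
    · by_contra hc'
      push Not at hc'
      exact hu0 (nDeg_iff.mp h u hu hc')
    · rw [plus_res_iff]
      constructor
      · rintro ⟨U, hU, hUd, hUs⟩
        exact ⟨U, hU, hUs, hWd ▸ hUd⟩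
      · rintro ⟨U, hU, hUs, hUd⟩
        exact ⟨U, hU, hWd ▸ hUd, hUs⟩
  by_cases hr2 : r = 2
  · subst hr2
    by_cases hp2 : p = 2
    · subst hp2
      have h2 : (2 : F) = 0 := CharTwo.two_eq_zero
      have hqe : Fintype.card F % 2 = 0 := by
        obtain ⟨n, -, hcF⟩ := FiniteField.card F 2
        rw [hcF, ← Nat.even_iff]
        exact Nat.even_pow.mpr ⟨even_two, n.ne_zero⟩
      simp only [lt_irrefl, and_false, false_and, or_false, true_and]
      constructor
      · intro H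
        by_contra hc'
        have hde : d % 2 = 0 := by omega
        obtain ⟨N, hI, halt, hR⟩ := exists_twos hQ (j := d / 2) hn (Or.inl ⟨by omega, hpl⟩)
        obtain ⟨x, hx, hsc, hns, hxN⟩ := omega_of_inv2 hf (by omega) hI ⟨d / 2, by omega⟩ (fun h0 => by
          rw [h0, LinearMap.range_zero, finrank_bot] at hR
          omega)
        obtain ⟨W, hPW, hmap⟩ := H x hx hsc hns
        obtain ⟨hWd, hWn, -⟩ := (hP W).mp hPW
        have hWN : ∀ v ∈ W, N v ∈ W := fun v hv => by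
          have h1 : v + N v ∈ W := hxN v ▸ hmap ⟨v, hv, rfl⟩
          simpa using W.sub_mem h1 hv
        have := (hI.twos halt hn (by omega) hWN hWn).2 (by omega)
        omega
      · intro hcond x hx hsc hns
        obtain ⟨N, hI, hxN⟩ := inv2_of_omega hf hQ h2 (by omega) hx hsc
        obtain ⟨W, hW, hWn, hWd, hWP⟩ := hI.exists_class hn hme hm (by omega)
          (Or.inl ⟨hpl, by rw [Nat.odd_iff]; omega⟩) True (iff_of_true trivial hpl) fun h => absurd hpl h
        refine ⟨W, (hP W).mpr ⟨hWd, hWn, hWP⟩, ?_⟩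
        rintro _ ⟨v, hv, rfl⟩
        rw [hxN]
        exact W.add_mem hv (hW v hv)
    have hrF : ((2 : ℕ) : F) ≠ 0 := natCast_ne_zero_of_ne (p := p) (Ne.symm hp2)
    have h2 : (2 : F) ≠ 0 := by exact_mod_cast hrF
    have hodd : Fintype.card F % 2 = 1 := Nat.odd_iff.mp
      ((Nat.card_eq_fintype_card (α := F)) ▸ odd_card_of_two_ne h2)
    rw [nd_two_scalar hf hQ (by omega) h2 hcard hme hm (by omega) True hP]
    simp only [Quarters, TwoPar, iff_true_intro hpl, lt_irrefl, and_false, false_and, or_false, true_and,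
      not_true, iff_true, Nat.even_iff, Nat.odd_iff]
    omega
  have hrp : r ≠ p := hr.resolve_left hr2
  have hrF : (r : F) ≠ 0 := natCast_ne_zero_of_ne hrp
  rw [nd_scalar hf hQ (by omega) hr2 hrF hme hm (by omega) True hP hrΩ, hcard, ← hi]
  have hipos : 0 < i := hi ▸ orderOf_card_pos hrF
  have hcp : pdim i = c := by rw [hc, pdim]
  have hcpos : 0 < c := hcp ▸ pdim_pos hipos
  have h1 : 1 ≤ m / c ↔ c ≤ m := Nat.one_le_div_iff hcpos
  have hcm : m % c = 0 → c ≤ m := fun h => Nat.le_of_dvd (by omega) (Nat.dvd_of_mod_eq_zero h)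
  have hlt : 2 < r := lt_of_le_of_ne (Fact.out : r.Prime).two_le (Ne.symm hr2)
  have hsum : m % c = 2 * d % c → (2 * d + m - 2 * (2 * d % c)) / c = 2 * d / c + m / c := fun h => by
    have h3 := div_mod_eq (2 * d) c
    have h4 := div_mod_eq m c
    rw [show 2 * d + m - 2 * (2 * d % c) = (2 * d / c + m / c) * c by rw [Nat.add_mul]; omega,
      Nat.mul_div_cancel _ hcpos]
  simp only [CondND, hcp, h1, iff_true_intro hpl, hr2, hlt, hrp, false_and, false_or, ne_eq, not_false_iff, true_and,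
    iff_true, true_iff, iff_false, false_iff]
  rcases Nat.even_or_odd i with he | ho
  · have hci : c = i := by rw [hc, if_pos he]
    have hno : ¬ Odd i := Nat.not_odd_iff_even.mpr he
    simp only [he, hno, false_and, false_or, true_and, par_even he, hci] at *
    simp only [Nat.even_iff, Nat.odd_iff]
    omega
  · have hne : ¬ Even i := Nat.not_even_iff_odd.mpr ho
    simp only [ho, hne, par_odd ho, false_and, or_false, true_and, and_false, and_true, false_or, not_true,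
      not_false_iff, iff_true, iff_self] at *
    omega

end Cfsg.Agent.S5974
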