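import Cfsg.Statements.S5975
import Cfsg.Agent.Lib.Elusive.ExtFieldSymp

set_option autoImplicit false
open scoped MatrixGroups
open scoped Matrix
open Cfsg

namespace Cfsg.Agent.S5975

open Module Cfsg.Agent.Lib.Symplectic Cfsg.Agent.Lib.Elusive Cfsg.Agent.Lib.Elusive.SympPieces
  Cfsg.Agent.Lib.Elusive.ExtFieldSymp

variable {F : Type*} [Field F] [Fintype F] {d : ℕ}

local notation "V" => (Fin d ⊕ Fin d → F)
local notation "Mat" => Matrix (Fin d ⊕ Fin d) (Fin d ⊕ Fin d) F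
local notation "GLd" => GL (Fin d ⊕ Fin d) F

/-- The isometries of the form over the extension field limit the index. -/
theorem index_arith (hd : 0 < d) {k m : ℕ} (hm : d = k * m)
    {K : Subalgebra F (Matrix (Fin d ⊕ Fin d) (Fin d ⊕ Fin d) F)} (hK : Cfsg.Geo.IsFieldSubalgebra k K)
    (hsa : ∀ a ∈ K, ∀ u v, stdForm d F (a *ᵥ u) v = stdForm d F u (a *ᵥ v))
    (halt : ∀ a ∈ K, ∀ v, stdForm d F (a *ᵥ v) v = 0) {r : ℕ}
    (hΩ : r ∣ (Cfsg.Geo.subalgebraNormalizer K).relIndex (Cfsg.spGL d F)) :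
    r ∣ Fintype.card F ^ (d ^ 2) * ∏ i ∈ Finset.range d, (Fintype.card F ^ (2 * (i + 1)) - 1) ∧
      ∃ t, r ∣ t ∧ Fintype.card F ^ (d ^ 2) * ∏ i ∈ Finset.range d, (Fintype.card F ^ (2 * (i + 1)) - 1) =
        t * ((Fintype.card F ^ k) ^ (m ^ 2) *
          ∏ i ∈ Finset.range m, ((Fintype.card F ^ k) ^ (2 * (i + 1)) - 1)) := by
  classical
  refine ⟨card_spGL (F := F) (d := d) ▸ hΩ.trans (Subgroup.relIndex_dvd_card _ _), ?_⟩
  haveI : Nonempty (Fin d ⊕ Fin d) := ⟨Sum.inl ⟨0, hd⟩⟩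
  letI : Field K := Lib.K41.ExtForm.fieldOfSub hK
  letI hmod : Module K V := Lib.K41.ExtForm.subModule K
  haveI : @IsScalarTower F K V Algebra.toSMul hmod.toSMul inferInstance :=
    ⟨fun a c x => Matrix.smul_mulVec a (c : Mat) x⟩
  haveI : Finite K := Finite.of_injective (fun x : K => (x : Mat)) Subtype.val_injective
  haveI : FiniteDimensional F K := Module.Finite.of_finite
  haveI : FiniteDimensional K V := Module.Finite.of_finite
  have hsaK : ∀ (c : K) (x y : V), stdForm d F (c • x) y = stdForm d F x (c • y) := fun c x y =>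
    hsa c c.2 x y
  have htr : ∀ x y, Algebra.trace F K (Lib.K41.ExtForm.liftForm (K := K) (stdForm d F) x y) = stdForm d F x y :=
    Lib.K41.ExtForm.trace_liftForm_one _
  let BK : V →ₗ[K] V →ₗ[K] K := LinearMap.mk₂ K (Lib.K41.ExtForm.liftForm (stdForm d F))
    (Lib.K41.ExtForm.liftForm_add_left _) (Lib.K41.ExtForm.liftForm_smul_left _)
    (Lib.K41.ExtForm.liftForm_add_right _) (Lib.K41.ExtForm.liftForm_smul_right hsaK)
  have hBK : IsSympForm BK :=
    ⟨fun x => Lib.K41.ExtForm.trace_ext (F := F) fun a => by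
        show Algebra.trace F K (a * Lib.K41.ExtForm.liftForm (stdForm d F) x x) = _
        rw [Lib.K41.ExtForm.trace_liftForm, mul_zero, map_zero]
        exact halt a a.2 x,
      fun x hx => (isSympForm_stdForm d F).nondeg x fun y => by
        rw [← htr x y, show Lib.K41.ExtForm.liftForm (K := K) (stdForm d F) x y = 0 from hx y, map_zero]⟩
  have hKV : finrank K V = 2 * m := by
    have h := Module.finrank_mul_finrank F K V
    rw [show finrank F K = k from hK.finrank_eq, finrank_std, show 2 * d = k * (2 * m) by rw [hm]; ring] at h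
    have hkpos : 0 < k := Nat.pos_of_ne_zero fun h0 => by rw [h0, zero_mul] at hm; omega
    exact Nat.eq_of_mul_eq_mul_left hkpos h
  have hcardK : Nat.card K = Fintype.card F ^ k := by
    rw [Module.natCard_eq_pow_finrank (K := F), Nat.card_eq_fintype_card,
      show finrank F K = k from hK.finrank_eq]
  let res : Isom BK →* Isom (stdForm d F) :=
    { toFun := fun g => ⟨g.1.restrictScalars F, fun x y => by
        rw [← htr, ← htr x y]
        exact congrArg (Algebra.trace F K) (g.2 x y)⟩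
      map_one' := rfl
      map_mul' := fun _ _ => rfl }
  obtain ⟨t, ht, h⟩ := index_dvd hΩ ((S5980.toGL (F := F) (d := d)).comp res)
    ((injective_iff_map_eq_one _).mpr fun g hg => Subtype.ext (LinearEquiv.ext fun v => by
      have h1 := S5980.toGL_mulVec (res g) v
      rw [show S5980.toGL (res g) = 1 from hg, Units.val_one, Matrix.one_mulVec] at h1
      exact h1.symm))
    (fun g => Lib.K41.ExtForm.mem_normalizer_of_semi K _ fun c hc => ⟨c, hc, fun x => by
      show (S5980.toGL (res g) : Mat) *ᵥ _ = _ *ᵥ ((S5980.toGL (res g) : Mat) *ᵥ x)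
      rw [S5980.toGL_mulVec, S5980.toGL_mulVec]
      exact g.1.map_smul (⟨c, hc⟩ : K) x⟩)
    (fun g => S5980.toGL_mem (res g))
  refine ⟨t, ht, ?_⟩
  rw [← card_spGL, h, card_isom hBK hcardK hKV]

/-- Involutions normalise a quadratic field when the field has two planes to swap. -/
theorem fix_two (hd : d = 2) (h2 : (2 : F) ≠ 0)
    {K : Subalgebra F (Matrix (Fin d ⊕ Fin d) (Fin d ⊕ Fin d) F)} (hK : Cfsg.Geo.IsFieldSubalgebra 2 K)
    (hsa : ∀ a ∈ K, ∀ u v, stdForm d F (a *ᵥ u) v = stdForm d F u (a *ᵥ v))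
    (halt : ∀ a ∈ K, ∀ v, stdForm d F (a *ᵥ v) v = 0) {x : GLd} (hx : x ∈ Cfsg.spGL d F) {z : F}
    (hz : (x : Mat) * (x : Mat) = z • 1) :
    ∃ g ∈ Cfsg.spGL d F, g⁻¹ * x * g ∈ Cfsg.Geo.subalgebraNormalizer K := by
  classical
  obtain ⟨J, hJ, δ, hJJ, hδ, -, hKJ⟩ := exists_sqrt_gen (by omega) h2 hK
  have hS := isSympForm_stdForm d F
  set f := Matrix.toLin' (x : Mat) with hfdef
  have hiso := S5980.iso_of_mem hx
  have hff : ∀ v, f (f v) = z • v := fun v => by
    rw [hfdef, ← LinearMap.comp_apply, ← Matrix.toLin'_mul, hz, map_smul, Matrix.toLin'_one]; rfl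
  have hinj : Function.Injective f := (injective_iff_map_eq_zero f).mpr fun u hu => hS.nondeg u fun y => by
    rw [← hiso u y, hu, map_zero, LinearMap.zero_apply]
  have hndtop : Nondeg (stdForm d F) ⊤ := fun u _ hu => hS.nondeg u fun y => hu y trivial
  let e₀ : V := Pi.single (Sum.inl ⟨0, by omega⟩) 1
  obtain ⟨v₀, hv₀⟩ := hS.exists_eq_one (u := e₀) (by simp [e₀])
  have hz2 : z * z = 1 := by
    have h1 := hiso (f e₀) (f v₀)
    rw [hiso e₀ v₀, hff, hff] at h1
    simpa [map_smul, hv₀] using h1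
  obtain ⟨A, hplane⟩ : ∃ A : Matrix (Fin 2) (Fin 2) F, ∀ X : Submodule F V, Lib.Elusive.Inv f X →
      Nondeg (stdForm d F) X → X ≠ ⊥ → ∀ κ : F, κ ≠ 0 →
      ∃ u ∈ X, ∃ v ∈ X, ∃ ε : F, ε * ε = 1 ∧ stdForm d F u v = κ ∧ f u = (ε * A 0 0) • u + (ε * A 1 0) • v ∧
        f v = (ε * A 0 1) • u + (ε * A 1 1) • v := by
    rcases mul_self_eq_one_iff.mp hz2 with rfl | rfl
    · refine ⟨1, fun X hX hnd hne κ hκ => ?_⟩
      obtain ⟨u, hu, v, hv, ε, -, huv, hfu, hfv⟩ :=
        S5980.plane_one h2 hiso (fun v => by rw [hff, one_smul]) hX hnd hne hκ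
      refine ⟨u, hu, v, hv, ε, ?_, huv, by simp; exact hfu, by simp; exact hfv⟩
      have h1 := hff u
      rw [hfu, map_smul, hfu, smul_smul] at h1
      exact smul_left_injective F (fun h0 => hκ (by rw [← huv, h0, map_zero, LinearMap.zero_apply])) h1
    · refine ⟨!![0, -1; 1, 0], fun X hX hnd hne κ hκ => ?_⟩
      obtain ⟨u, hu, huκ⟩ :=
        S5980.plane_neg h2 hS hiso (fun v => by rw [hff, neg_one_smul]) hX hnd hne hκ
      exact ⟨u, hu, f u, hX.mem hu, 1, one_mul 1, huκ, by simp, by simp [hff]⟩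
  have hδ0 : δ ≠ 0 := fun h => hδ 0 (by rw [h, mul_zero])
  have hκ : ∀ j, (![1, δ] : Fin 2 → F) j ≠ 0 := fun j => by fin_cases j <;> simp [hδ0]
  obtain ⟨w, ε, -, hε, hwκ, hworth, hwf⟩ := exists_family (fun W => SympInv.inv_orth hinj hiso) A (fun ε => ε * ε = 1) hplane 2
    ![1, δ] hκ ⊤ (Inv.top f) hndtop (by rw [finrank_top, finrank_std, hd])
  -- a pair of vectors adapted to the field
  set s := stdForm d F e₀ v₀ with hs
  set t := stdForm d F (J *ᵥ e₀) v₀ with ht
  have hJm : ∀ v, J *ᵥ (J *ᵥ v) = δ • v := fun v => by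
    rw [Matrix.mulVec_mulVec, hJJ, Matrix.smul_mulVec, Matrix.one_mulVec]
  have hΔ : δ * s ^ 2 - t ^ 2 ≠ 0 := fun h => hδ (t / s) (by
    have hs0 : s ≠ 0 := by rw [hv₀]; exact one_ne_zero
    field_simp
    linear_combination h)
  let v : V := (δ * s / (δ * s ^ 2 - t ^ 2)) • v₀ + (-t / (δ * s ^ 2 - t ^ 2)) • (J *ᵥ v₀)
  have hev : stdForm d F e₀ v = 1 := by
    simp only [v, map_add, map_smul, smul_eq_mul, ← hsa J hJ, ← hs, ← ht]
    field_simp
    ring
  have hJev : stdForm d F (J *ᵥ e₀) v = 0 := by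
    simp only [v, map_add, map_smul, smul_eq_mul, ← hsa J hJ (J *ᵥ e₀), hJm, LinearMap.smul_apply, ← hs, ← ht]
    field_simp
    ring
  let w' : Fin 2 × Fin 2 → V := fun p => ![![e₀, v] p.1, J *ᵥ ![e₀, v] p.1] p.2
  have hwκ' : ∀ j, stdForm d F (w' (0, j)) (w' (1, j)) = ![1, δ] j := fun j => by
    fin_cases j
    · simpa [w'] using hev
    · simp [w', hsa J hJ, hJm, hev]
  have hworth' : ∀ p p', p.2 ≠ p'.2 → stdForm d F (w' p) (w' p') = 0 := by
    have h1 : stdForm d F e₀ (J *ᵥ e₀) = 0 := by rw [← hsa J hJ]; exact halt J hJ _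
    have h3 : stdForm d F v (J *ᵥ v) = 0 := by rw [← hsa J hJ]; exact halt J hJ _
    have h4 : stdForm d F e₀ (J *ᵥ v) = 0 := by rw [← hsa J hJ, hJev]
    have h5 : stdForm d F v (J *ᵥ e₀) = 0 := by rw [hS.swap, hJev, neg_zero]
    rintro ⟨i, j⟩ ⟨i', j'⟩ hne
    fin_cases j <;> fin_cases j' <;> first
      | exact absurd rfl hne
      | (fin_cases i <;> fin_cases i' <;> simp [w', h1, h3, h4, h5, hJev, hS.comm_eq_zero.mp h1,
          hS.comm_eq_zero.mp h3, hS.comm_eq_zero.mp h4, hS.comm_eq_zero.mp h5, hS.comm_eq_zero.mp hJev])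
  obtain ⟨g, hg, hgw⟩ := exists_isom hd hκ hwκ hworth hwκ' hworth'
  refine ⟨g, hg, mem_of_twist hJ hKJ _ (ε 0 * ε 1) fun u => ?_⟩
  set y := g⁻¹ * x * g
  have hy : ∀ p : Fin 2 × Fin 2, (y : Mat) *ᵥ w' p = ∑ i, (ε p.2 * A i p.1) • w' (i, p.2) :=
    conj_act hgw (C := fun p i => ε p.2 * A i p.1) hwf
  have hJ0 : ∀ i, J *ᵥ w' (i, 0) = w' (i, 1) := fun i => rfl
  have hJ1 : ∀ i, J *ᵥ w' (i, 1) = δ • w' (i, 0) := fun i => hJm _
  have key : Matrix.toLin' ((y : Mat) * J) = (ε 0 * ε 1) • Matrix.toLin' (J * (y : Mat)) := by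
    refine (familyBasis hd (family_li hκ hwκ' hworth')).ext fun ⟨i, j⟩ => ?_
    rw [familyBasis_apply, LinearMap.smul_apply, Matrix.toLin'_apply, Matrix.toLin'_apply,
      ← Matrix.mulVec_mulVec, ← Matrix.mulVec_mulVec, hy, Matrix.mulVec_sum, Finset.smul_sum]
    fin_cases j
    · simp only [Fin.zero_eta, hJ0, hy, Matrix.mulVec_smul, smul_smul]
      refine Finset.sum_congr rfl fun l _ => ?_
      congr 1
      linear_combination (-(ε 1 * A l i)) * hε 0
    · simp only [Fin.mk_one, hJ1, hy, Matrix.mulVec_smul, Finset.smul_sum, smul_smul]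
      refine Finset.sum_congr rfl fun l _ => ?_
      congr 1
      linear_combination (-(δ * ε 0 * A l i)) * hε 1
  have := LinearMap.congr_fun key u
  rwa [LinearMap.smul_apply, Matrix.toLin'_apply, Matrix.toLin'_apply, ← Matrix.mulVec_mulVec,
    ← Matrix.mulVec_mulVec] at this

theorem prod_split {q k : ℕ} (hk : 0 < k) {r : ℕ} (hr : r.Prime)
    (hdvd : ∀ j, r ∣ q ^ (2 * j) - 1 → k ∣ j) :
    ∀ m, ∃ C, ¬ r ∣ C ∧ ∏ i ∈ Finset.range (k * m), (q ^ (2 * (i + 1)) - 1) =
      C * ∏ i ∈ Finset.range m, ((q ^ k) ^ (2 * (i + 1)) - 1) := by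
  intro m
  induction m with
  | zero => exact ⟨1, hr.not_dvd_one, by simp⟩
  | succ m ih =>
    obtain ⟨C, hC, h⟩ := ih
    obtain ⟨k', rfl⟩ : ∃ k', k = k' + 1 := ⟨k - 1, by omega⟩
    refine ⟨C * ∏ i ∈ Finset.range k', (q ^ (2 * ((k' + 1) * m + i + 1)) - 1), fun hd => ?_, ?_⟩
    · rcases hr.dvd_mul.mp hd with h' | h'
      · exact hC h'
      obtain ⟨i, hi, hi'⟩ := (Prime.dvd_finsetProd_iff hr.prime _).mp h'
      rw [Finset.mem_range] at hi
      have h3 := hdvd _ hi'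
      rw [add_assoc, Nat.dvd_add_right (dvd_mul_right _ _)] at h3
      have := Nat.le_of_dvd (by omega) h3
      omega
    · rw [Nat.mul_succ, Finset.prod_range_add, h, Finset.prod_range_succ (n := k'), Finset.prod_range_succ (n := m),
        show (q ^ (k' + 1)) ^ (2 * (m + 1)) = q ^ (2 * ((k' + 1) * m + k' + 1)) by rw [← pow_mul]; ring_nf]
      ring

/-- Elements of prime order of PSp_n(q) and the field-extension subgroups of type Sp_{n/k}(q^k). Here `T = PSp_{2d}(F)` for a field `F` with `q` elements (`d ≥ 2`, `(d, q) ≠ (2, 2)`), realised through the matrices preserving the standard alternating form `f`; `k` is a prime and `K` is a subalgebra of the `2d × 2d` matrices that is a field of degree `k` over `F` whose elements are self-adjoint for `f` and satisfy `f(a v, v) = 0` (so `F^{2d}` becomes a vector space over `K ≅ F_{q^k}` on which `f` is the trace of a `K`-bilinear alternating form); `H` is the subgroup of `T` normalizing `K` — the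 symplectic maps that are `K`-linear or `K`-semilinear, a subgroup of type Sp_{2d/k}(q^k) (maximality is not assumed). Ω is the set of cosets of `H` in `T`, so an element of `T` of prime order `r` (`x ∈ T` with `x^r` scalar, `x` not scalar) fixes a point of Ω exactly when some `T`-conjugate of `x` normalizes `K`. Let `r` be a prime dividing the index of `H`. Then every element of `T` of order `r` fixes a point of Ω if and only if `r = 2`, `d = 2`, `k = 2` and `q` is odd. -/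
theorem result {F : Type*} [Field F] [Fintype F] {p : ℕ} [Fact p.Prime] [CharP F p] {q : ℕ} (hq : Fintype.card F = q)
    (d : ℕ) (hd : 2 ≤ d) (hT : (d, q) ≠ (2, 2)) (k : ℕ) (hk : k.Prime)
    (K : Subalgebra F (Matrix (Fin d ⊕ Fin d) (Fin d ⊕ Fin d) F)) (hK : Cfsg.Geo.IsFieldSubalgebra k K)
    (hKf : Cfsg.Geo.IsSelfAdjointFor (Cfsg.sympForm d F) K) (hKalt : ∀ a ∈ K, ∀ v : Fin d ⊕ Fin d → F, Cfsg.sympForm d F (a *ᵥ v) v = 0)
    (r : ℕ) [Fact r.Prime]
    (hΩ : r ∣ (Cfsg.Geo.subalgebraNormalizer K).relIndex (Cfsg.spGL d F)) :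
    (∀ x ∈ Cfsg.spGL d F, (∃ z : F, ((x ^ r : GL (Fin d ⊕ Fin d) F) : Matrix (Fin d ⊕ Fin d) (Fin d ⊕ Fin d) F) = z • (1 : Matrix (Fin d ⊕ Fin d) (Fin d ⊕ Fin d) F)) →
      (∀ z : F, (x : Matrix (Fin d ⊕ Fin d) (Fin d ⊕ Fin d) F) ≠ z • (1 : Matrix (Fin d ⊕ Fin d) (Fin d ⊕ Fin d) F)) →
      ∃ g ∈ Cfsg.spGL d F, g⁻¹ * x * g ∈ Cfsg.Geo.subalgebraNormalizer K) ↔
    (r = 2 ∧ d = 2 ∧ k = 2 ∧ Odd q) := by
  classical
  subst hq
  have hr : r.Prime := Fact.out
  have hp : p.Prime := Fact.out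
  have hS := isSympForm_stdForm d F
  have hsa : ∀ a ∈ K, ∀ u v, stdForm d F (a *ᵥ u) v = stdForm d F u (a *ᵥ v) := fun a ha u v => by
    rw [stdForm_eq_sympForm, stdForm_eq_sympForm]; exact hKf a ha u v
  have halt : ∀ a ∈ K, ∀ v, stdForm d F (a *ᵥ v) v = 0 := fun a ha v => by
    rw [stdForm_eq_sympForm]; exact hKalt a ha v
  have hk2 := hk.two_le
  have hndtop : Nondeg (stdForm d F) ⊤ := fun u _ hu => hS.nondeg u fun y => hu y trivial
  have hkd : 2 * k ∣ 2 * d := two_mul_dvd hK hsa halt _ ⊤ (finrank_top F _ |>.trans (finrank_std d F))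
    (fun _ _ _ _ => trivial) hndtop
  by_cases hrp : r = p
  · subst hrp
    refine iff_of_false (fun hall => ?_) fun h => ?_
    · obtain ⟨x, hx, hxr, hx1⟩ := exists_transvection (F := F) (d := d) r (by omega)
      obtain ⟨y, hyN, -, -, hy1⟩ := derange hall hx hxr hx1 (not_scalar x (by omega) (by omega))
      have := le_one_of_line hK (comm_of_rank hK hyN (by omega)) hy1
      omega
    · obtain ⟨f, -, hf⟩ := FiniteField.card F r
      have h4 := h.2.2.2
      rw [hf, h.1, Nat.odd_iff] at h4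
      have h3 := (Nat.even_pow.mpr ⟨even_two, f.ne_zero⟩ : Even (2 ^ (f : ℕ)))
      rw [Nat.even_iff] at h3
      omega
  have hrF : (r : F) ≠ 0 := fun h0 =>
    hrp ((Nat.prime_dvd_prime_iff_eq hp hr).mp ((CharP.cast_eq_zero_iff F p r).mp h0)).symm
  rcases eq_or_ne r 2 with rfl | hr2
  · have h2 : (2 : F) ≠ 0 := by exact_mod_cast hrF
    have hodd : Odd (Fintype.card F) :=
      Nat.odd_iff.mpr (FiniteField.odd_card_of_char_ne_two fun h0 => h2 (by
        exact_mod_cast (ringChar.spec F 2).mpr h0.dvd))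
    constructor
    · intro hall
      obtain ⟨x, hx, hxr, hx2⟩ := exists_diag h2 (show 0 < d by omega)
      rcases eq_or_ne d 2 with rfl | hd2
      · have := Nat.le_of_dvd (by norm_num) hkd
        exact ⟨rfl, rfl, by omega, hodd⟩
      exfalso
      obtain ⟨y, hyN, hyS, hyr, hy2⟩ := derange hall hx hxr hx2 (not_scalar x (by omega) (by omega))
      have hc := comm_of_rank hK hyN (by omega)
      have := Nat.le_of_dvd (by norm_num) (two_mul_dvd hK hsa halt _ _ hy2
        (fun a ha w hw => range_inv hc ha hw) (range_two h2 hyS hyr))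
      omega
    · rintro ⟨-, hd2, rfl, -⟩ x hx ⟨z, hz⟩ -
      rw [Units.val_pow_eq_pow_val, pow_two] at hz
      exact fix_two hd2 h2 hK hsa halt hx hz
  refine iff_of_false (fun hall => ?_) fun h => hr2 h.1
  set i := orderOf (Fintype.card F : ZMod r) with hidef
  set cc := pieceDim i with hccdef
  have hipos : 0 < i := orderOf_card_pos hrF
  have hcpos : 0 < cc := by rw [hccdef, pieceDim]; split <;> omega
  obtain ⟨-, x, hx, hxr, hxc⟩ := exists_piece_element (d := d) hr2 hrF (hΩ.trans (Subgroup.relIndex_dvd_card _ _))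
  obtain ⟨y, hyN, hyS, hyr, hyc⟩ := derange hall hx hxr hxc (piece_not_scalar hd hrF hxr hxc)
  rw [← hidef, ← hccdef] at hyc
  obtain ⟨-, hynd, -⟩ := range_odd hr2 hrF hyS hyr
  have hdvd : (∀ a ∈ K, (y : Matrix (Fin d ⊕ Fin d) (Fin d ⊕ Fin d) F) * a = a * (y : Matrix (Fin d ⊕ Fin d) (Fin d ⊕ Fin d) F)) →
      2 * k ∣ cc := fun hc => two_mul_dvd hK hsa halt _ _ hyc (fun a ha w hw => range_inv hc ha hw) hynd
  have hkd' : k ∣ d := Nat.dvd_of_mul_dvd_mul_left (by norm_num) hkd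
  have hrq : ¬ r ∣ Fintype.card F := fun h => by
    obtain ⟨f, -, hf⟩ := FiniteField.card F p
    exact hrp ((Nat.prime_dvd_prime_iff_eq hr hp).mp (hr.dvd_of_dvd_pow (hf ▸ h)))
  rcases eq_or_ne r k with rfl | hrk
  · have hi : i ∣ r - 1 := ZMod.orderOf_dvd_card_sub_one fun h0 => hrq ((ZMod.natCast_eq_zero_iff _ _).mp h0)
    have hle : cc ≤ r - 1 := by
      obtain ⟨s, hs⟩ := hr.odd_of_ne_two hr2
      refine Nat.le_of_dvd (by omega) ?_
      rw [show r - 1 = 2 * s by omega] at hi ⊢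
      exact two_mul_le hi
    have hle' := Nat.le_of_dvd (by omega) hkd'
    have := Nat.le_of_dvd hcpos (hdvd (comm_of_rank hK hyN (by omega)))
    omega
  have h2k := hdvd (comm_of_pow (by omega) hk hK hyN hr hrk hyr)
  obtain ⟨m, hm⟩ := hkd'
  obtain ⟨-, t, ht, heq⟩ := index_arith (by omega) hm hK hsa halt hΩ
  obtain ⟨C, hC, hsplit⟩ := prod_split (q := Fintype.card F) (by omega : 0 < k) hr (fun j hj => by
    rw [← ZMod.natCast_eq_zero_iff, Nat.cast_sub (Nat.one_le_pow _ _ Fintype.card_pos), Nat.cast_pow,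
      Nat.cast_one, sub_eq_zero] at hj
    exact Nat.dvd_of_mul_dvd_mul_left (by norm_num : 0 < 2)
      (h2k.trans (two_mul_le (orderOf_dvd_of_pow_eq_one hj)))) m
  rw [← hm] at hsplit
  rw [hsplit, ← mul_assoc, ← mul_assoc] at heq
  have hA : 0 < ∏ i ∈ Finset.range m, ((Fintype.card F ^ k) ^ (2 * (i + 1)) - 1) := Finset.prod_pos fun i _ =>
    Nat.sub_pos_of_lt (Nat.one_lt_pow (by omega) (Nat.one_lt_pow (by omega) Fintype.one_lt_card))
  have h3 := Nat.eq_of_mul_eq_mul_right hA heq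
  rcases hr.dvd_mul.mp (h3 ▸ ht.mul_right _) with h | h
  · exact hrq (hr.dvd_of_dvd_pow h)
  · exact hC h


end Cfsg.Agent.S5975
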