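import Cfsg.Statements.S5979
import Cfsg.Agent.Lib.Elusive.TensorRank
import Cfsg.Agent.Lib.Elusive.MonomialBasis

set_option autoImplicit false
open scoped MatrixGroups
open Cfsg

namespace Cfsg.Agent.S5979

open Module Matrix Cfsg.Agent.Lib.Elusive Cfsg.Agent.Lib.Elusive.TensorRank
open scoped Kronecker

variable {F : Type*} [Field F] {n a b : ℕ}

/-- The derangement criterion. -/
theorem derange {e : Fin n ≃ Fin a × Fin b} {P : GL (Fin n) F} {x g : GL (Fin n) F}
    (h : g⁻¹ * x * g ∈ Cfsg.Geo.tensorProductSubgroup a b e P) :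
    (∀ z : F, b ≤ finrank F (LinearMap.range (Matrix.toLin' (x : Matrix (Fin n) (Fin n) F) - z • 1))) ∨
      ∀ z : F, a ∣ finrank F (LinearMap.range (Matrix.toLin' (x : Matrix (Fin n) (Fin n) F) - z • 1)) := by
  obtain ⟨L, A, B, -, hL⟩ := exists_inFrame e P h
  by_cases hA : ∀ c : F, (A : Matrix (Fin a) (Fin a) F) ≠ c • 1
  · exact Or.inl fun z => by rw [hL.finrank_range]; exact le_finrank_range hA B.isUnit z
  · push Not at hA
    obtain ⟨c, hc⟩ := hA
    obtain ⟨L', hL'⟩ := hL.exists_copies hc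
    exact Or.inr fun z => by rw [finrank_range_copies hL' z]; exact dvd_mul_right a _

/-- An element of `SL` with given matrix. -/
noncomputable def mkGL (M : Matrix (Fin n) (Fin n) F) (h : M.det = 1) : GL (Fin n) F :=
  Matrix.GeneralLinearGroup.mkOfDetNeZero M (by rw [h]; exact one_ne_zero)

theorem mkGL_mem (M : Matrix (Fin n) (Fin n) F) (h : M.det = 1) :
    mkGL M h ∈ Cfsg.Geo.specialLinear (Fin n) F := Units.ext h

theorem coe_mkGL (M : Matrix (Fin n) (Fin n) F) (h : M.det = 1) :
    (mkGL M h : Matrix (Fin n) (Fin n) F) = M := rfl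

theorem det_eq_one {x : GL (Fin n) F} (hx : x ∈ Cfsg.Geo.specialLinear (Fin n) F) :
    (x : Matrix (Fin n) (Fin n) F).det = 1 := congrArg Units.val hx

/-- An element whose model is a Kronecker product is conjugate into the stabiliser. -/
theorem fix_of_model {e : Fin n ≃ Fin a × Fin b} {P : GL (Fin n) F} {x : GL (Fin n) F}
    {N : GL (Fin a × Fin b) F} (hN : N ∈ Cfsg.Geo.kroneckerSubgroup a b F)
    (G : (Fin a × Fin b → F) ≃ₗ[F] (Fin n → F))
    (hG : ∀ M, (x : Matrix (Fin n) (Fin n) F) *ᵥ G M = G ((N : Matrix (Fin a × Fin b) (Fin a × Fin b) F) *ᵥ M))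
    (hcomm : ∀ δ : Fˣ, ∃ C : GL (Fin a × Fin b) F, C * N = N * C ∧
      Matrix.GeneralLinearGroup.det C = δ) :
    ∃ g ∈ Cfsg.Geo.specialLinear (Fin n) F, g⁻¹ * x * g ∈ Cfsg.Geo.tensorProductSubgroup a b e P := by
  set φ := Cfsg.Geo.glReindex (F := F) e.symm
  let Ge := (LinearEquiv.funCongrLeft F F e.symm).trans G
  let G₀ : GL (Fin n) F := ⟨LinearMap.toMatrix' Ge.toLinearMap, LinearMap.toMatrix' Ge.symm.toLinearMap,
    by rw [← LinearMap.toMatrix'_comp]; simp,
    by rw [← LinearMap.toMatrix'_comp]; simp⟩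
  have hG₀ : ∀ v : Fin n → F, (G₀ : Matrix (Fin n) (Fin n) F) *ᵥ v = G (v ∘ e.symm) := fun v =>
    LinearMap.toMatrix'_mulVec _ v
  have hφ : ∀ (C : GL (Fin a × Fin b) F) (v : Fin n → F), ((φ C : GL (Fin n) F) : Matrix (Fin n) (Fin n) F) *ᵥ v =
      ((C : Matrix (Fin a × Fin b) (Fin a × Fin b) F) *ᵥ (v ∘ e.symm)) ∘ e := fun C v => by
    show ((Matrix.reindexAlgEquiv F F e.symm) (C : Matrix (Fin a × Fin b) (Fin a × Fin b) F)) *ᵥ v = _
    rw [Matrix.reindexAlgEquiv_apply, Matrix.reindex_apply, Equiv.symm_symm, Matrix.submatrix_mulVec_equiv]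
  have hx : x * G₀ = G₀ * φ N := Units.ext (Matrix.toLin'.injective (LinearMap.ext fun v => by
    rw [Matrix.toLin'_apply, Matrix.toLin'_apply, Units.val_mul, Units.val_mul, ← mulVec_mulVec, ← mulVec_mulVec,
      hG₀, hG₀, hG, hφ]
    simp [Function.comp_assoc]))
  obtain ⟨C, hC, hCd⟩ := hcomm (Matrix.GeneralLinearGroup.det (G₀ * P⁻¹))⁻¹
  have hdet : Matrix.GeneralLinearGroup.det (φ C) = Matrix.GeneralLinearGroup.det C :=
    Units.ext (Matrix.det_reindexAlgEquiv F F e.symm (C : Matrix (Fin a × Fin b) (Fin a × Fin b) F))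
  refine ⟨G₀ * φ C * P⁻¹, ?_, ?_⟩
  · show Matrix.GeneralLinearGroup.det _ = 1
    rw [mul_assoc, map_mul, map_mul, hdet, hCd, map_mul, mul_comm _ (Matrix.GeneralLinearGroup.det P⁻¹),
      ← mul_assoc, mul_inv_cancel]
  · refine ⟨φ N, ⟨N, hN, rfl⟩, ?_⟩
    show P * φ N * P⁻¹ = _
    rw [_root_.mul_inv_rev, _root_.mul_inv_rev, inv_inv]
    have h1 : x * G₀ * φ C = G₀ * φ C * φ N := by
      rw [hx, mul_assoc, ← map_mul, ← hC, map_mul, mul_assoc]
    calc P * φ N * P⁻¹ = P * (φ C)⁻¹ * G₀⁻¹ * (G₀ * φ C * φ N) * P⁻¹ := by group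
      _ = P * (φ C)⁻¹ * G₀⁻¹ * (x * G₀ * φ C) * P⁻¹ := by rw [h1]
      _ = _ := by group

/-- Block diagonal models. -/
theorem fix_of_blocks {e : Fin n ≃ Fin 2 × Fin b} {P : GL (Fin n) F} {x : GL (Fin n) F} (hb : 0 < b)
    (A : Matrix (Fin 2) (Fin 2) F) (ε : Fin b → F) (hA : A.det ≠ 0) (hε : ∀ j, ε j ≠ 0)
    (w : Basis (Fin 2 × Fin b) F (Fin n → F))
    (hw : ∀ p, (x : Matrix (Fin n) (Fin n) F) *ᵥ w p = ∑ i, (ε p.2 * A i p.1) • w (i, p.2))
    (hnorm : ∀ δ : F, δ ≠ 0 → ∃ C : Matrix (Fin 2) (Fin 2) F, C * A = A * C ∧ C.det = δ) :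
    ∃ g ∈ Cfsg.Geo.specialLinear (Fin n) F, g⁻¹ * x * g ∈ Cfsg.Geo.tensorProductSubgroup 2 b e P := by
  classical
  have hdε : (Matrix.diagonal ε).det ≠ 0 := by
    rw [Matrix.det_diagonal]
    exact Finset.prod_ne_zero_iff.mpr fun j _ => hε j
  have hblk : A ⊗ₖ Matrix.diagonal ε = Matrix.blockDiagonal fun j => ε j • A := by
    ext ⟨i, j⟩ ⟨i', j'⟩
    simp only [kroneckerMap_apply, Matrix.blockDiagonal_apply, Matrix.diagonal_apply, Matrix.smul_apply, smul_eq_mul]
    split
    · ring
    · rw [mul_zero]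
  let N : GL (Fin 2 × Fin b) F := Matrix.GeneralLinearGroup.mkOfDetNeZero (A ⊗ₖ Matrix.diagonal ε) (by
    rw [Matrix.det_kronecker]; exact mul_ne_zero (pow_ne_zero _ hA) (pow_ne_zero _ hdε))
  refine fix_of_model (N := N) ⟨Matrix.GeneralLinearGroup.mkOfDetNeZero A hA,
    Matrix.GeneralLinearGroup.mkOfDetNeZero _ hdε, rfl⟩ w.equivFun.symm (fun M => ?_) fun δ => ?_
  · rw [Basis.equivFun_symm_apply, Basis.equivFun_symm_apply, Matrix.mulVec_sum]
    show _ = ∑ p, ((A ⊗ₖ Matrix.diagonal ε) *ᵥ M) p • w p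
    simp only [Matrix.mulVec_smul, hw, Finset.smul_sum, smul_smul, mulVec, dotProduct, kroneckerMap_apply,
      Fintype.sum_prod_type, Matrix.diagonal_apply, mul_ite, mul_zero, ite_mul, zero_mul, Finset.sum_ite_eq,
      Finset.mem_univ, if_true, Finset.sum_smul]
    conv_rhs => rw [Finset.sum_comm]; enter [2, j]; rw [Finset.sum_comm]
    rw [Finset.sum_comm]
    exact Finset.sum_congr rfl fun j _ => Finset.sum_congr rfl fun i _ => Finset.sum_congr rfl fun i' _ => by
      congr 1; ring
  · obtain ⟨C, hC, hCd⟩ := hnorm δ δ.ne_zero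
    let T : Fin b → Matrix (Fin 2) (Fin 2) F := fun j => if j = ⟨0, hb⟩ then C else 1
    have hT : (Matrix.blockDiagonal T).det = (δ : F) := by
      rw [Matrix.det_blockDiagonal, Finset.prod_eq_single (⟨0, hb⟩ : Fin b) (fun j _ hj => by simp [T, hj])
        (fun h => absurd (Finset.mem_univ _) h)]
      simp [T, hCd]
    refine ⟨Matrix.GeneralLinearGroup.mkOfDetNeZero (Matrix.blockDiagonal T) (fun h => δ.ne_zero (hT.symm.trans h)), ?_, Units.ext hT⟩
    refine Units.ext ?_
    show Matrix.blockDiagonal T * (A ⊗ₖ Matrix.diagonal ε) = A ⊗ₖ Matrix.diagonal ε * Matrix.blockDiagonal T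
    rw [hblk, ← Matrix.blockDiagonal_mul, ← Matrix.blockDiagonal_mul]
    refine congrArg _ (funext fun j => ?_)
    simp only [T, Matrix.mul_smul, Matrix.smul_mul]
    split
    · rw [hC]
    · rw [mul_one, one_mul]

variable [Fintype F]

theorem exists_pow_neg_one {v m : ℕ} (hm : Odd m) (h : 2 ^ (v + 1) ∣ Fintype.card F - 1) :
    ∃ s : F, s ^ (2 ^ v * m) = -1 := by
  classical
  obtain ⟨g, hg⟩ := IsCyclic.exists_generator (α := Fˣ)
  have hcard : orderOf g = Fintype.card F - 1 := by
    rw [orderOf_eq_card_of_forall_mem_zpowers hg, Nat.card_eq_fintype_card, Fintype.card_units]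
  obtain ⟨k, hk⟩ := h
  have hk0 : k ≠ 0 := by
    rintro rfl
    have : 1 < Fintype.card F := Fintype.one_lt_card
    omega
  have hu : orderOf (g ^ k) = 2 ^ (v + 1) := by
    rw [orderOf_pow_of_dvd hk0 (by rw [hcard, hk]; exact dvd_mul_left k _), hcard, hk,
      Nat.mul_div_cancel _ (Nat.pos_of_ne_zero hk0)]
  refine ⟨(g ^ k : Fˣ), ?_⟩
  have h1 : (((g ^ k : Fˣ) : F)) ^ 2 ^ v = -1 := by
    have h2 : ((((g ^ k : Fˣ) : F)) ^ 2 ^ v) ^ 2 = 1 := by
      rw [← pow_mul, ← pow_succ, ← hu, ← Units.val_pow_eq_pow_val, pow_orderOf_eq_one, Units.val_one]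
    refine (sq_eq_one_iff.mp h2).resolve_left fun h3 => ?_
    have h4 := orderOf_dvd_of_pow_eq_one (show (g ^ k) ^ 2 ^ v = 1 from Units.ext (by simpa using h3))
    rw [hu, Nat.pow_dvd_pow_iff_le_right (by norm_num)] at h4
    omega
  rw [pow_mul, h1, hm.neg_one_pow]

theorem pow_ne_neg_one (h2 : (2 : F) ≠ 0) (hn : n ≠ 0)
    (hle : padicValNat 2 (Fintype.card F - 1) ≤ padicValNat 2 n) (s : F) : s ^ n ≠ -1 := by
  classical
  intro hs
  obtain ⟨v, m, hm, rfl⟩ := Nat.exists_eq_two_pow_mul_odd hn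
  have hs0 : s ≠ 0 := by
    rintro rfl
    rw [zero_pow hn] at hs
    exact one_ne_zero (neg_eq_zero.mp hs.symm)
  let u : Fˣ := Units.mk0 s hs0 ^ m
  have hu : (u : F) ^ 2 ^ v = -1 := by
    rw [Units.val_pow_eq_pow_val, Units.val_mk0, ← pow_mul, mul_comm, hs]
  have hord : orderOf u = 2 ^ (v + 1) := by
    refine orderOf_eq_prime_pow (fun h => ?_) (Units.ext ?_)
    · rw [← Units.val_pow_eq_pow_val, h, Units.val_one] at hu
      exact h2 (by linear_combination hu)
    · rw [Units.val_pow_eq_pow_val, pow_succ, pow_mul, hu, neg_one_sq, Units.val_one]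
  have hdvd : 2 ^ (v + 1) ∣ Fintype.card F - 1 := by
    rw [← hord, ← Fintype.card_units]
    exact orderOf_dvd_card
  have h1 : 1 < Fintype.card F := Fintype.one_lt_card
  have h3 := (padicValNat_dvd_iff_le (p := 2) (by omega)).mp hdvd
  have hpm : padicValNat 2 m = 0 := padicValNat.eq_zero_of_not_dvd fun hdiv => by
    obtain ⟨l, rfl⟩ := hm; omega
  rw [padicValNat.mul (by positivity) (Nat.ne_of_gt hm.pos), padicValNat.prime_pow, hpm] at hle
  omega

theorem exists_norm (h2 : (2 : F) ≠ 0) (z : F) (hz : z ≠ 0) (δ : F) :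
    ∃ α β : F, α ^ 2 - z * β ^ 2 = δ := by
  obtain ⟨α, β, h⟩ := FiniteField.exists_root_sum_quadratic (R := F)
    (f := Polynomial.X ^ 2 - Polynomial.C δ) (g := Polynomial.C (-z) * Polynomial.X ^ 2)
    (Polynomial.degree_X_pow_sub_C (by norm_num) δ)
    (Polynomial.degree_C_mul_X_pow 2 (neg_ne_zero.mpr hz))
    (FiniteField.odd_card_of_char_ne_two fun h0 => h2 (by
      have := CharP.cast_eq_zero F (ringChar F); rw [h0] at this; exact_mod_cast this))
  simp at h
  exact ⟨α, β, by linear_combination h⟩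

/-- Involutions modulo scalars fix a point when `a = 2`. -/
theorem fix_two {e : Fin n ≃ Fin 2 × Fin b} (P : GL (Fin n) F) (hb : 0 < b) (h2 : (2 : F) ≠ 0)
    (hle : padicValNat 2 (Fintype.card F - 1) ≤ padicValNat 2 n) {x : GL (Fin n) F}
    (hx : x ∈ Cfsg.Geo.specialLinear (Fin n) F) {z : F}
    (hz : (x : Matrix (Fin n) (Fin n) F) * (x : Matrix (Fin n) (Fin n) F) = z • 1) :
    ∃ g ∈ Cfsg.Geo.specialLinear (Fin n) F, g⁻¹ * x * g ∈ Cfsg.Geo.tensorProductSubgroup 2 b e P := by
  classical
  have hn : n = 2 * b := by simpa using Fintype.card_congr e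
  have hz0 : z ≠ 0 := by
    rintro rfl
    rw [zero_smul] at hz
    have := congrArg Matrix.det hz
    haveI hne' : Nonempty (Fin n) := ⟨⟨0, by omega⟩⟩
    rw [Matrix.det_mul, det_eq_one hx, one_mul, Matrix.det_zero] at this
    exact one_ne_zero this
  set f := Matrix.toLin' (x : Matrix (Fin n) (Fin n) F) with hfdef
  have hf : f * f = z • 1 := by
    rw [hfdef, Module.End.mul_eq_comp, ← Matrix.toLin'_mul, hz, map_smul, Matrix.toLin'_one]
    rfl
  have hdet : LinearMap.det f = 1 := by rw [hfdef, LinearMap.det_toLin', det_eq_one hx]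
  have hff : ∀ v, f (f v) = z • v := fun v => LinearMap.congr_fun hf v
  by_cases hsq : ∃ s : F, s * s = z
  · obtain ⟨s, rfl⟩ := hsq
    have hs : s ≠ 0 := fun h => hz0 (by simp [h])
    set U := End.eigenspace f s
    set M := End.eigenspace f (-s)
    have hUM : IsCompl U M := by
      constructor
      · rw [disjoint_iff, Submodule.eq_bot_iff]
        rintro v ⟨h1, h2'⟩
        have h3 : s • v = (-s) • v :=
          (End.mem_eigenspace_iff.mp h1).symm.trans (End.mem_eigenspace_iff.mp h2')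
        have h4 : ((2 : F) * s) • v = 0 := by
          rw [two_mul, add_smul]; rw [neg_smul] at h3
          exact add_eq_zero_iff_eq_neg.mpr h3
        exact (smul_eq_zero.mp h4).resolve_left (mul_ne_zero h2 hs)
      · rw [codisjoint_iff, eq_top_iff]
        intro v _
        have hp : f v + s • v ∈ U := End.mem_eigenspace_iff.mpr (by
          rw [map_add, map_smul, hff, smul_add, smul_smul, add_comm])
        have hm : f v - s • v ∈ M := End.mem_eigenspace_iff.mpr (by
          rw [map_sub, map_smul, hff, smul_sub, smul_smul, neg_mul, neg_smul, neg_smul]; abel)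
        have h5 : v = (2 * s)⁻¹ • ((f v + s • v) - (f v - s • v)) := by
          rw [show (f v + s • v) - (f v - s • v) = (2 * s) • v by rw [two_mul, add_smul]; abel,
            inv_smul_smul₀ (mul_ne_zero h2 hs)]
        rw [h5]
        exact Submodule.smul_mem _ _ (sub_mem (Submodule.mem_sup_left hp) (Submodule.mem_sup_right hm))
    let bs := ((Module.finBasis F U).prod (Module.finBasis F M)).map (Submodule.prodEquivOfIsCompl U M hUM)
    let c : Fin (finrank F U) ⊕ Fin (finrank F M) → F := Sum.elim (fun _ => s) (fun _ => -s)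
    have hbs : ∀ j, f (bs j) = c j • bs j := by
      rintro (j | j)
      · simpa [bs, c] using End.mem_eigenspace_iff.mp ((Module.finBasis F U) j).2
      · simpa [bs, c] using End.mem_eigenspace_iff.mp ((Module.finBasis F M) j).2
    have hsum : finrank F U + finrank F M = n := by
      rw [Submodule.finrank_add_eq_of_isCompl hUM, Module.finrank_fin_fun]
    have heven : Even (finrank F M) := by
      by_contra hodd
      rw [Nat.not_even_iff_odd] at hodd
      refine pow_ne_neg_one h2 (show n ≠ 0 by omega) hle s ?_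
      rw [← LinearMap.det_toMatrix bs, show LinearMap.toMatrix bs bs f = Matrix.diagonal c from
        Matrix.ext fun i j => by
          rw [LinearMap.toMatrix_apply, hbs, map_smul, Finsupp.smul_apply, Basis.repr_self,
            Finsupp.single_apply, Matrix.diagonal_apply]
          by_cases hij : i = j <;> simp [hij, eq_comm],
        Matrix.det_diagonal, Fintype.prod_sum_type] at hdet
      simp only [c, Sum.elim_inl, Sum.elim_inr, Finset.prod_const, Finset.card_univ, Fintype.card_fin,
        hodd.neg_pow] at hdet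
      rw [← hsum, pow_add]
      linear_combination -hdet
    obtain ⟨m, hm⟩ := heven.two_dvd
    obtain ⟨l, hl⟩ : ∃ l, finrank F U = 2 * l := ⟨b - m, by omega⟩
    let ψ : Fin 2 × Fin (l + m) ≃ Fin (finrank F U) ⊕ Fin (finrank F M) :=
      ((Equiv.prodCongr (Equiv.refl _) finSumFinEquiv.symm).trans (Equiv.prodSumDistrib _ _ _)).trans
        (Equiv.sumCongr (finProdFinEquiv.trans (finCongr hl.symm)) (finProdFinEquiv.trans (finCongr hm.symm)))
    obtain rfl : b = l + m := by omega
    let ε : Fin (l + m) → F := fun j => Sum.elim (fun _ => s) (fun _ => -s) (finSumFinEquiv.symm j)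
    have hcε : ∀ p, c (ψ p) = ε p.2 := fun p => by
      simp only [ψ, c, ε, Equiv.trans_apply, Equiv.prodCongr_apply, Prod.map_snd, Equiv.sumCongr_apply]
      rcases h' : finSumFinEquiv.symm p.2 with t | t <;>
        simp [Prod.map, h', Equiv.prodSumDistrib]
    refine fix_of_blocks hb 1 ε (by rw [Matrix.det_one]; exact one_ne_zero) (fun j => ?_) (bs.reindex ψ.symm)
      (fun p => ?_) fun δ _ => ⟨Matrix.diagonal ![δ, 1], by rw [mul_one, one_mul], by simp [Matrix.det_diagonal, Fin.prod_univ_two]⟩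
    · simp only [ε]
      rcases finSumFinEquiv.symm j with t | t <;> simp [hs]
    · rw [← Matrix.toLin'_apply, Basis.reindex_apply, Equiv.symm_symm]
      show f _ = _
      rw [hbs, hcε, Finset.sum_eq_single p.1 (fun i _ hi => by simp [hi]) (fun h => absurd (Finset.mem_univ _) h)]
      simp
  · obtain ⟨ι, bs, π, hπ, hbs⟩ := MonomialBasis.exists_of_sq hz0 hf
    choose c hc0 hc using hbs
    haveI : Fintype ι := FiniteDimensional.fintypeBasisIndex bs
    have hππ : ∀ i, π (π i) = i := fun i => Equiv.ext_iff.mp hπ i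
    have hfree : ∀ i, π i ≠ i := fun i hi => by
      have h1 := hff (bs i)
      rw [hc, hi, map_smul, hc, hi, smul_smul] at h1
      exact hsq ⟨c i, smul_left_injective F (bs.ne_zero i) h1⟩
    have hιn : Fintype.card ι = n := by
      rw [← Module.finrank_eq_card_basis bs, Module.finrank_fin_fun]
    let ρ : Equiv.Perm (Fin 2 × Fin b) := Equiv.prodCongr (Equiv.swap 0 1) (Equiv.refl _)
    obtain ⟨e', he'⟩ := MonomialBasis.isConj_of_card_fixed π ρ hπ
      (Equiv.ext fun p => Prod.ext (by simp [ρ]) (by simp [ρ])) (by simp [hιn, hn]) (by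
        rw [Nat.card_eq_zero.mpr (Or.inl ⟨fun i => hfree i.1 i.2⟩), Nat.card_eq_zero.mpr (Or.inl ⟨fun i => ?_⟩)]
        obtain ⟨⟨i, j⟩, hi⟩ := i
        have h1 := congrArg Prod.fst hi
        simp [ρ] at h1
        fin_cases i <;> simp at h1)
    let u : Fin 2 × Fin b → Fˣ := fun p => if p.1 = 0 then 1 else Units.mk0 (c (e'.symm (0, p.2))) (hc0 _)
    let w := (bs.reindex e').unitsSMul u
    have hw0 : ∀ j, f (w (0, j)) = w (1, j) := fun j => by
      simp only [w, u, Basis.unitsSMul_apply, Basis.reindex_apply, if_true, one_ne_zero, if_false,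
        Units.smul_def, Units.val_mk0, Units.val_one, one_smul, hc]
      congr 2
      rw [Equiv.eq_symm_apply, ← he', Equiv.apply_symm_apply]
      simp [ρ]
    have hw1 : ∀ j, f (w (1, j)) = z • w (0, j) := fun j => by rw [← hw0, hff]
    refine fix_of_blocks hb !![0, z; 1, 0] (fun _ => 1) (by simp [Matrix.det_fin_two, hz0]) (fun _ => one_ne_zero) w
      (fun p => ?_) fun δ _ => ?_
    · rw [← Matrix.toLin'_apply, Fin.sum_univ_two]
      show f _ = _
      obtain ⟨i, j⟩ := p
      fin_cases i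
      · simp [hw0]
      · simp [hw1]
    · obtain ⟨α, β, h⟩ := exists_norm h2 z hz0 δ
      refine ⟨!![α, z * β; β, α], ?_, by rw [Matrix.det_fin_two]; simp; linear_combination h⟩
      ext i j
      fin_cases i <;> fin_cases j <;> simp [Matrix.mul_apply, Fin.sum_univ_two] <;> ring

theorem finrank_range_diag (w : Fin n → F) (z : F) :
    finrank F (LinearMap.range (Matrix.toLin' (Matrix.diagonal w) - z • 1)) = Nat.card {i // w i ≠ z} := by
  classical
  have h1 : Matrix.toLin' (Matrix.diagonal w) - z • 1 = Matrix.toLin' (Matrix.diagonal fun i => w i - z) := by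
    rw [← Matrix.diagonal_sub, map_sub, show (Matrix.diagonal fun _ : Fin n => z) = z • 1 by
      rw [Matrix.smul_one_eq_diagonal], map_smul, Matrix.toLin'_one]
    rfl
  rw [h1]
  show (Matrix.diagonal fun i => w i - z).rank = _
  rw [Matrix.rank_diagonal, Nat.card_eq_fintype_card]
  exact Fintype.card_congr (Equiv.subtypeEquivRight fun i => by rw [sub_ne_zero])

/-- Elements of prime order of PSL_n(q) and the stabilizers of tensor decompositions with factors of different dimensions. Here `T = PSL_n(F)` for a field `F` with `q` elements and `n = a·b` with `2 ≤ a < b`; a tensor decomposition `F^n ≅ F^a ⊗ F^b` is given by a bijection `e` of index sets and a change of basis `P`, and `H` is the subgroup of matrices of determinant 1 in its stabilizer (the conjugate by `P` of the group of Kronecker products `g₁ ⊗ g₂`) — a subgroup of type GL_a(q) ⊗ GL_b(q) (maximality is not assumed); Ω is the set of cosets of `H` in `T`, so an element of `T` of prime order `r` (a matrix `x` of determinant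 1 with `x^r` scalar, `x` not scalar) fixes a point of Ω exactly when some conjugate of `x` by a matrix of determinant 1 lies in `H`. Let `r` be a prime dividing the index of `H`. Then every element of `T` of order `r` fixes a point of Ω if and only if `r = 2`, `a = 2`, `q` is odd and `(q − 1)_2 ≤ (n)_2` (2-parts). -/
theorem result {F : Type*} [Field F] [Fintype F] {p : ℕ} [Fact p.Prime] [CharP F p] {q : ℕ} (hq : Fintype.card F = q)
    (n a b : ℕ) (hab : n = a * b) (ha : 2 ≤ a) (hlt : a < b) (e : Fin n ≃ Fin a × Fin b) (P : GL (Fin n) F)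
    (r : ℕ) [Fact r.Prime]
    (hΩ : r ∣ (Cfsg.Geo.tensorProductSubgroup a b e P).relIndex (Cfsg.Geo.specialLinear (Fin n) F)) :
    (∀ x ∈ Cfsg.Geo.specialLinear (Fin n) F, (∃ z : F, ((x ^ r : GL (Fin n) F) : Matrix (Fin n) (Fin n) F) = z • (1 : Matrix (Fin n) (Fin n) F)) →
      (∀ z : F, (x : Matrix (Fin n) (Fin n) F) ≠ z • (1 : Matrix (Fin n) (Fin n) F)) →
      ∃ g ∈ Cfsg.Geo.specialLinear (Fin n) F, g⁻¹ * x * g ∈ Cfsg.Geo.tensorProductSubgroup a b e P) ↔
    (r = 2 ∧ a = 2 ∧ Odd q ∧ padicValNat 2 (q - 1) ≤ padicValNat 2 n) := by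
  classical
  subst hq
  have hr : r.Prime := Fact.out
  have hp : p.Prime := Fact.out
  have hn6 : 6 ≤ n := by have := Nat.mul_le_mul ha hlt; omega
  have han : a ∣ n := hab ▸ dvd_mul_right a b
  let i0 : Fin n := ⟨0, by omega⟩
  let i1 : Fin n := ⟨1, by omega⟩
  have hne : i0 ≠ i1 := by simp [i0, i1]
  -- a diagonal derangement
  have hdiag : ∀ w : Fin n → F, (∏ i, w i) = 1 → (∃ t : F, ∀ i, w i ^ r = t) →
      (∃ i j, w i ≠ w j) → (∃ z, Nat.card {i // w i ≠ z} < b) → (∃ z, ¬ a ∣ Nat.card {i // w i ≠ z}) →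
      ¬ ∀ x ∈ Cfsg.Geo.specialLinear (Fin n) F, (∃ z : F, ((x ^ r : GL (Fin n) F) : Matrix (Fin n) (Fin n) F) = z • (1 : Matrix (Fin n) (Fin n) F)) →
      (∀ z : F, (x : Matrix (Fin n) (Fin n) F) ≠ z • (1 : Matrix (Fin n) (Fin n) F)) →
      ∃ g ∈ Cfsg.Geo.specialLinear (Fin n) F, g⁻¹ * x * g ∈ Cfsg.Geo.tensorProductSubgroup a b e P := by
    rintro w hdet ⟨t, ht⟩ ⟨i, j, hij⟩ ⟨z₁, hz₁⟩ ⟨z₂, hz₂⟩ hall
    have hd : (Matrix.diagonal w).det = 1 := by rw [Matrix.det_diagonal, hdet]
    obtain ⟨g, -, hg⟩ := hall _ (mkGL_mem _ hd) ⟨t, by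
        rw [Units.val_pow_eq_pow_val, coe_mkGL, Matrix.diagonal_pow, Matrix.smul_one_eq_diagonal]
        exact congrArg _ (funext ht)⟩ fun z hz => hij (by
        rw [coe_mkGL, Matrix.smul_one_eq_diagonal, Matrix.diagonal_eq_diagonal_iff] at hz
        rw [hz i, hz j])
    rcases derange hg with h | h
    · have := h z₁
      rw [coe_mkGL, finrank_range_diag] at this
      omega
    · have := h z₂
      rw [coe_mkGL, finrank_range_diag] at this
      exact hz₂ this
  have hcard : ∀ (w : Fin n → F) (z : F) (S : Finset (Fin n)), (∀ i, w i ≠ z ↔ i ∈ S) →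
      Nat.card {i // w i ≠ z} = S.card := fun w z S h => by
    rw [Nat.card_congr (Equiv.subtypeEquivRight h), Nat.card_eq_fintype_card, Fintype.card_coe]
  by_cases hrp : r = p
  · subst hrp
    refine iff_of_false (fun hall => ?_) ?_
    · let M := Matrix.transvection i0 i1 (1 : F)
      have hM : M.det = 1 := Matrix.det_transvection_of_ne _ _ hne _
      haveI : Nonempty (Fin n) := ⟨i0⟩
      have hNsq : Matrix.single i0 i1 (1 : F) * Matrix.single i0 i1 1 = 0 :=
        Matrix.single_mul_single_of_ne (c := (1 : F)) i0 i1 i0 hne.symm 1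
      obtain ⟨g, -, hg⟩ := hall _ (mkGL_mem M hM) ⟨1, by
          rw [one_smul, Units.val_pow_eq_pow_val, coe_mkGL]
          show (1 + Matrix.single i0 i1 (1 : F)) ^ r = 1
          rw [add_pow_char_of_commute r (Commute.one_left _), one_pow, add_eq_left,
            pow_eq_zero_of_le hr.two_le (by rw [pow_two, hNsq])]⟩ fun z hz => by
        have h1 := congrFun (congrFun hz i0) i1
        simp [coe_mkGL, M, Matrix.transvection, hne] at h1
      have hrank : finrank F (LinearMap.range (Matrix.toLin' M - (1 : F) • 1)) = 1 := by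
        rw [one_smul, show Matrix.toLin' M - 1 = Matrix.toLin' (Matrix.single i0 i1 (1 : F)) from by
          rw [show M = 1 + Matrix.single i0 i1 (1 : F) from rfl, map_add, Matrix.toLin'_one]; exact add_sub_cancel_left _ _]
        refine le_antisymm ?_ ?_
        · refine (Submodule.finrank_mono (show LinearMap.range (Matrix.toLin' (Matrix.single i0 i1 (1 : F))) ≤
            Submodule.span F {Pi.single i0 1} from ?_)).trans (finrank_span_singleton (by simp)).le
          rintro _ ⟨v, rfl⟩
          refine Submodule.mem_span_singleton.mpr ⟨v i1, funext fun i => ?_⟩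
          by_cases h : i = i0 <;> simp [Matrix.toLin'_apply, Matrix.single_mulVec, Pi.single_apply, Function.update, h]
        · refine Submodule.one_le_finrank_iff.mpr fun h0 => ?_
          rw [LinearMap.range_eq_bot] at h0
          have := congrFun (LinearMap.congr_fun h0 (Pi.single i1 1)) i0
          simp [Matrix.toLin'_apply, Matrix.single_mulVec] at this
      rcases derange hg with h | h
      · have := h 1; rw [coe_mkGL, hrank] at this; omega
      · have := h 1; rw [coe_mkGL, hrank, Nat.dvd_one] at this; omega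
    · rintro ⟨rfl, -, ho, -⟩
      haveI : CharP F 2 := by assumption
      have := FiniteField.even_card_iff_char_two.mp (ringChar.eq F 2)
      rw [Nat.odd_iff] at ho
      omega
  have hrF : (r : F) ≠ 0 := fun h0 =>
    hrp ((Nat.prime_dvd_prime_iff_eq hp hr).mp ((CharP.cast_eq_zero_iff F p r).mp h0)).symm
  rcases eq_or_ne r 2 with rfl | hr2
  · haveI := ringChar.charP F
    have h2 : (2 : F) ≠ 0 := by exact_mod_cast hrF
    have hoddq : Odd (Fintype.card F) := Nat.odd_iff.mpr (FiniteField.odd_card_of_char_ne_two fun h0 => h2 (by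
      have := CharP.cast_eq_zero F (ringChar F); rw [h0] at this; exact_mod_cast this))
    have hneg : (-1 : F) ≠ 1 := fun h => h2 (by linear_combination -h)
    constructor
    · intro hall
      refine ⟨rfl, ?_⟩
      by_contra hcon
      by_cases ha2 : a = 2
      · subst ha2
        have hlt' : padicValNat 2 n < padicValNat 2 (Fintype.card F - 1) := by
          by_contra h; exact hcon ⟨rfl, hoddq, not_lt.mp h⟩
        obtain ⟨v, m, hm, hvm⟩ := Nat.exists_eq_two_pow_mul_odd (show n ≠ 0 by omega)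
        have hv : v = padicValNat 2 n := by
          rw [hvm, padicValNat.mul (by positivity) (Nat.ne_of_gt hm.pos), padicValNat.prime_pow,
            padicValNat.eq_zero_of_not_dvd (fun hdiv => by obtain ⟨l, rfl⟩ := hm; omega), add_zero]
        obtain ⟨s, hs⟩ := exists_pow_neg_one (F := F) (v := v) hm ((pow_dvd_pow 2 (by omega)).trans pow_padicValNat_dvd)
        rw [← hvm] at hs
        have hs0 : s ≠ 0 := by
          rintro rfl
          rw [zero_pow (by omega)] at hs
          exact one_ne_zero (neg_eq_zero.mp hs.symm)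
        have hsne : -s ≠ s := fun h => hs0 ((mul_eq_zero.mp (show (2 : F) * s = 0 by linear_combination -h)).resolve_left h2)
        let w : Fin n → F := fun i => if i = i0 then -s else s
        have hk := hcard w s {i0} fun i => by by_cases h : i = i0 <;> simp [w, h, hsne]
        rw [Finset.card_singleton] at hk
        refine hdiag w ?_ ⟨s ^ 2, fun i => by by_cases h : i = i0 <;> simp [w, h]⟩
          ⟨i0, i1, by simp [w, hne.symm, hsne]⟩ ⟨s, by omega⟩ ⟨s, by omega⟩ hall
        have hwe : ∀ i, w i = s * (if i = i0 then -1 else 1) := fun i => by by_cases h : i = i0 <;> simp [w, h]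
        rw [Finset.prod_congr rfl fun i _ => hwe i, Finset.prod_mul_distrib, Finset.prod_const,
          Finset.card_univ, Fintype.card_fin, Finset.prod_ite_eq', if_pos (Finset.mem_univ _), hs]
        norm_num
      · let w : Fin n → F := fun i => if i ∈ ({i0, i1} : Finset (Fin n)) then -1 else 1
        have hk := hcard w 1 {i0, i1} fun i => by by_cases h : i ∈ ({i0, i1} : Finset (Fin n)) <;> simp [w, h, hneg] <;> simp at h <;> tauto
        rw [Finset.card_pair hne] at hk
        refine hdiag w ?_ ⟨1, fun i => by by_cases h : i ∈ ({i0, i1} : Finset (Fin n)) <;> simp [w, h]⟩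
          ⟨i0, ⟨2, by omega⟩, by simp [w, i0, i1, hneg]⟩ ⟨1, by omega⟩
          ⟨1, fun h => by have := Nat.le_of_dvd (by omega) h; omega⟩ hall
        simp only [w]
        rw [Finset.prod_ite_mem, Finset.univ_inter, Finset.prod_pair hne]
        norm_num
    · rintro ⟨-, rfl, -, hle⟩ x hx ⟨z, hz⟩ -
      rw [Units.val_pow_eq_pow_val, pow_two] at hz
      exact fix_two P (by omega) h2 hle hx hz
  refine iff_of_false (fun hall => ?_) (fun h => hr2 h.1)
  by_cases hdvd : r ∣ Fintype.card F - 1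
  · obtain ⟨ζ, hζ⟩ := exists_prime_orderOf_dvd_card (G := Fˣ) r (by rwa [Fintype.card_units])
    have hζ1 : (ζ : F) ≠ 1 := fun h => by rw [Units.val_eq_one.mp h, orderOf_one] at hζ; exact hr.ne_one hζ.symm
    have hζ2 : ((ζ⁻¹ : Fˣ) : F) ≠ ζ := fun h => by
      have h1 : ζ ^ 2 = 1 := by rw [pow_two]; nth_rewrite 1 [← Units.ext h]; exact inv_mul_cancel ζ
      have h3 := Nat.le_of_dvd (by norm_num) (hζ ▸ orderOf_dvd_of_pow_eq_one h1)
      have := hr.two_le
      omega
    have hζi : ((ζ⁻¹ : Fˣ) : F) ≠ 1 := fun h => hζ1 (by rw [← inv_inv ζ, Units.val_eq_one.mp h, inv_one, Units.val_one])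
    let w : Fin n → F := fun i => if i = i0 then (ζ : F) else if i = i1 then ((ζ⁻¹ : Fˣ) : F) else 1
    have hk1 := hcard w 1 {i0, i1} fun i => by
      by_cases h : i = i0
      · simp [w, h, hζ1]
      · by_cases h' : i = i1
        · simp only [w, if_neg h, if_pos h']; exact iff_of_true hζi (by simp [h'])
        · simp [w, h, h']
    have hk2 := hcard w (ζ : F) ({i0}ᶜ : Finset (Fin n)) fun i => by
      by_cases h : i = i0
      · simp [w, h]
      · by_cases h' : i = i1
        · simp only [w, if_neg h, if_pos h']; exact iff_of_true hζ2 (by simp [h', hne.symm])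
        · simp [w, h, h', Ne.symm hζ1]
    rw [Finset.card_pair hne] at hk1
    rw [Finset.card_compl, Fintype.card_fin, Finset.card_singleton] at hk2
    refine hdiag w ?_ ⟨1, fun i => ?_⟩ ⟨i0, i1, by simp only [w, if_neg hne.symm, if_pos]; exact hζ2.symm⟩ ⟨1, by omega⟩
      ⟨(ζ : F), fun h => ?_⟩ hall
    · rw [Fintype.prod_eq_mul i0 i1 hne (fun i hi => by simp [w, hi.1, hi.2])]
      simp [w, hne.symm]
    · have h1 : ζ ^ r = 1 := hζ ▸ pow_orderOf_eq_one ζ
      by_cases h : i = i0
      · simp [w, h, ← Units.val_pow_eq_pow_val, h1]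
      · by_cases h' : i = i1
        · simp [w, h', hne.symm, ← Units.val_pow_eq_pow_val, h1]
        · simp [w, h, h']
    · rw [hk2] at h
      obtain ⟨k, hk⟩ := h
      obtain ⟨l, hl⟩ := han
      have h5 : a ∣ 1 := by
        have h6 := Nat.dvd_sub (Dvd.intro l rfl : a ∣ a * l) (Dvd.intro k rfl : a ∣ a * k)
        rwa [← hl, ← hk, show n - (n - 1) = 1 by omega] at h6
      have := Nat.dvd_one.mp h5
      omega
  have hcop : (Nat.card Fˣ).Coprime r := by
    rw [Nat.card_eq_fintype_card, Fintype.card_units]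
    exact (hr.coprime_iff_not_dvd.mpr hdvd).symm
  have hroot : ∀ c : F, c ≠ 0 → ∃ t : F, t ≠ 0 ∧ t ^ r = c := fun c hc => by
    obtain ⟨t, ht⟩ := (powCoprime hcop).surjective (Units.mk0 c hc)
    exact ⟨(t : F), t.ne_zero, by
      have := congrArg Units.val ht
      simpa [powCoprime] using this⟩
  have huniq : ∀ c : F, c ^ r = 1 → c = 1 := fun c hc => by
    have hc0 : c ≠ 0 := by rintro rfl; simp [hr.ne_zero] at hc
    exact congrArg Units.val ((powCoprime hcop).injective (a₁ := Units.mk0 c hc0) (a₂ := 1)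
      (Units.ext (by simpa [powCoprime] using hc)))
  set i := orderOf (Fintype.card F : ZMod r) with hidef
  have hipos : 0 < i := orderOf_card_pos hrF
  -- some element of order `r`
  obtain ⟨⟨x, hx⟩, hxo⟩ := exists_prime_orderOf_dvd_card' (G := Cfsg.Geo.specialLinear (Fin n) F) r
    (hΩ.trans (Subgroup.relIndex_dvd_card _ _))
  have hxr : x ^ r = 1 := by
    have := pow_orderOf_eq_one (⟨x, hx⟩ : Cfsg.Geo.specialLinear (Fin n) F)
    rw [hxo] at this
    exact congrArg Subtype.val this
  have hin : i ≤ n := by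
    obtain ⟨k, hk, hk0⟩ := le_rank_root hrF (g := Matrix.toLin' (x : Matrix (Fin n) (Fin n) F)) (by
      rw [← Matrix.toLin'_pow, ← Units.val_pow_eq_pow_val, hxr, Units.val_one, Matrix.toLin'_one]; rfl)
    have h1 := Submodule.finrank_le (LinearMap.range (Matrix.toLin' (x : Matrix (Fin n) (Fin n) F) - (1 : F) • 1))
    rw [Module.finrank_fin_fun, hk] at h1
    have hne1 : Matrix.toLin' (x : Matrix (Fin n) (Fin n) F) ≠ 1 := fun h => by
      have h2 : x = 1 := Units.ext (Matrix.toLin'.injective (h.trans (Matrix.toLin'_one).symm))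
      subst h2
      rw [show (⟨1, hx⟩ : Cfsg.Geo.specialLinear (Fin n) F) = 1 from rfl, orderOf_one] at hxo
      exact hr.ne_one hxo.symm
    exact (Nat.le_mul_of_pos_left i (Nat.pos_of_ne_zero (hk0 hne1))).trans h1
  -- one piece
  obtain ⟨y, hy, hye⟩ := exists_split (V := Fin n → F) hrF (n - i) 1 (by rw [Module.finrank_fin_fun]; omega)
  have hyd : (LinearMap.toMatrix' y).det = 1 := by
    rw [LinearMap.det_toMatrix']; exact huniq _ (det_pow_eq_one hy)
  have hyr : finrank F (LinearMap.range (y - (1 : F) • 1)) = i := by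
    have h2 := LinearMap.finrank_range_add_finrank_ker (y - (1 : F) • 1)
    rw [End.eigenspace_def] at hye
    rw [Module.finrank_fin_fun] at h2
    omega
  obtain ⟨g, -, hg⟩ := hall _ (mkGL_mem _ hyd) ⟨1, by
      rw [one_smul, Units.val_pow_eq_pow_val, coe_mkGL, ← Matrix.toLin'.injective.eq_iff, Matrix.toLin'_pow,
        Matrix.toLin'_toMatrix', hy, Matrix.toLin'_one]
      rfl⟩ fun z hz => by
    have h1 : y = z • 1 := by
      rw [← Matrix.toLin'_toMatrix' y, ← coe_mkGL _ hyd, hz, map_smul, Matrix.toLin'_one]; rfl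
    have hz1 : z ^ r = 1 := by
      have h3 := congrFun (LinearMap.congr_fun hy (Pi.single i0 1)) i0
      rw [h1, _root_.smul_pow, one_pow] at h3
      simpa using h3
    rw [h1, huniq z hz1, sub_self, LinearMap.range_zero, finrank_bot] at hyr
    omega
  obtain ⟨L, A, B, -, hL⟩ := exists_inFrame e P hg
  rw [coe_mkGL, Matrix.toLin'_toMatrix'] at hL
  by_cases hA : ∃ c : F, (A : Matrix (Fin a) (Fin a) F) = c • 1
  · obtain ⟨c, hc⟩ := hA
    obtain ⟨L', hL'⟩ := hL.exists_copies hc
    have h1 := finrank_range_copies hL' (1 : F)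
    obtain ⟨k, hk, -⟩ := le_rank_root hrF (pow_eq_one_copies hL' (by omega) hy)
    rw [hyr, hk, ← hidef, ← mul_assoc] at h1
    have h2 : a * k = 1 := Nat.eq_of_mul_eq_mul_right hipos (by rw [← h1, one_mul])
    have := Nat.eq_one_of_mul_eq_one_right h2
    omega
  · push Not at hA
    have hib : b ≤ i := by
      rw [← hyr, hL.finrank_range]
      exact le_finrank_range hA B.isUnit 1
    obtain ⟨c, hc⟩ := (hL.pow r).scalar_of_scalar (B.isUnit.pow r) (by omega) (z := 1) (by rw [hy, one_smul])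
    have hc0 : c ≠ 0 := by
      rintro rfl
      rw [zero_smul] at hc
      have := congrArg Matrix.det hc
      haveI hne' : Nonempty (Fin a) := ⟨⟨0, by omega⟩⟩
      rw [Matrix.det_pow, Matrix.det_zero] at this
      exact (Matrix.GeneralLinearGroup.det A).ne_zero (eq_zero_of_pow_eq_zero this)
    obtain ⟨t, ht0, ht⟩ := hroot c hc0
    let g' : Module.End F (Fin a → F) := t⁻¹ • Matrix.toLin' (A : Matrix (Fin a) (Fin a) F)
    have hg' : g' ^ r = 1 := by
      rw [_root_.smul_pow, ← Matrix.toLin'_pow, hc, map_smul, Matrix.toLin'_one, smul_smul, ← ht, ← mul_pow,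
        inv_mul_cancel₀ ht0, one_pow, one_smul]
      rfl
    obtain ⟨k, hk, hk0⟩ := le_rank_root hrF hg'
    have hk' : k ≠ 0 := hk0 fun h => hA t (Matrix.toLin'.injective (by
      rw [map_smul, Matrix.toLin'_one, ← Module.End.one_eq_id, ← h, smul_smul, mul_inv_cancel₀ ht0, one_smul]))
    have h3 := Submodule.finrank_le (LinearMap.range (g' - (1 : F) • 1))
    rw [hk, ← hidef, Module.finrank_fin_fun] at h3
    have := Nat.le_mul_of_pos_left i (Nat.pos_of_ne_zero hk')
    omega

end Cfsg.Agent.S5979
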