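import Cfsg.Statements.S5982
import Cfsg.Agent.Lib.ElusiveUnit.Split
import Cfsg.Agent.Lib.ElusiveUnit.Fix

set_option autoImplicit false
open scoped MatrixGroups
open Cfsg

namespace Cfsg.Agent.S5982

/-- Elements of prime order of PSL_n(q), q = q₀², and the subgroups of unitary type. Here `T = PSL_n(F)` for a field `F` with `q = q₀²` elements (`n ≥ 3`), `f` is a non-degenerate unitary form on `F^n` for the involutory automorphism `x ↦ x^{q₀}`, and `H` is the subgroup of matrices of determinant 1 that preserve `f` up to a scalar — a subgroup of type GU_n(q₀) (maximality is not assumed); Ω is the set of cosets of `H` in `T`, so an element of `T` of prime order `r` (a matrix `x` of determinant 1 with `x^r` scalar, `x` not scalar) fixes a point of Ω exactly when some conjugate of `x` by a matrix of determinant 1 preserves `f` up to a scalar. Let `r` be a prime dividing the index of `H`, with `r = 2` or `r` different from the characteristic `p`, and with `(n, r)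 ≠ (6, 3)`. Then every element of `T` of order `r` fixes a point of Ω if and only if either `r = 2` and (`p = 2` or `(n)_2 ≤ (q − 1)_2`), or `r ∈ {3, 5}`, `n = r` and `(q₀ − 1)_r = r`. (Odd `r = p` and the case `(n, r) = (6, 3)` are not covered by this statement.) -/
theorem result {F : Type*} [Field F] [Fintype F] {p : ℕ} [Fact p.Prime] [CharP F p] {q : ℕ} (hq : Fintype.card F = q)
    (q₀ : ℕ) (hq₀ : q = q₀ ^ 2) (n : ℕ) (hn : 3 ≤ n) (f : (Fin n → F) → (Fin n → F) → F) (hf : Cfsg.Geo.IsUnitaryFormPow q₀ f)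
    (r : ℕ) [Fact r.Prime] (hr : r = 2 ∨ r ≠ p) (hgap : ¬ (n = 6 ∧ r = 3))
    (hΩ : r ∣ (Cfsg.Geo.similarityGroup f).relIndex (Cfsg.Geo.specialLinear (Fin n) F)) :
    (∀ x ∈ Cfsg.Geo.specialLinear (Fin n) F, (∃ z : F, ((x ^ r : GL (Fin n) F) : Matrix (Fin n) (Fin n) F) = z • (1 : Matrix (Fin n) (Fin n) F)) →
      (∀ z : F, (x : Matrix (Fin n) (Fin n) F) ≠ z • (1 : Matrix (Fin n) (Fin n) F)) →
      ∃ g ∈ Cfsg.Geo.specialLinear (Fin n) F, g⁻¹ * x * g ∈ Cfsg.Geo.similarityGroup f) ↔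
    ((r = 2 ∧ (p = 2 ∨ padicValNat 2 n ≤ padicValNat 2 (q - 1))) ∨ ((r = 3 ∨ r = 5) ∧ n = r ∧ padicValNat r (q₀ - 1) = 1)) := by
  classical
  subst hq
  have hrF : r ≠ 2 → (r : F) ≠ 0 := fun h2 h0 => (hr.resolve_left h2)
    ((Nat.prime_dvd_prime_iff_eq Fact.out Fact.out).mp ((CharP.cast_eq_zero_iff F p r).mp h0)).symm
  have hp2 : p ≠ 2 → (2 : F) ≠ 0 := fun hp h0 => hp ((Nat.prime_dvd_prime_iff_eq Fact.out Nat.prime_two).mp
    ((CharP.cast_eq_zero_iff F p 2).mp (by exact_mod_cast h0)))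
  constructor
  · intro h
    by_contra hne
    obtain ⟨x, hx, hz, hns, hno⟩ : ∃ x, Lib.ElusiveUnit.IsMover f r x := by
      by_cases h2 : r = 2
      · subst h2
        refine Lib.ElusiveUnit.exists_mover_two hq₀ hf (by omega)
          (hp2 fun hp => hne (Or.inl ⟨rfl, Or.inl hp⟩)) ?_
        exact not_le.mp fun hle => hne (Or.inl ⟨rfl, Or.inr hle⟩)
      · exact Lib.ElusiveUnit.exists_mover hq₀ hf hn h2 (hrF h2) hgap (fun h => hne (Or.inr h)) hΩ
    obtain ⟨g, hg, hgm⟩ := h x hx hz hns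
    exact hno g hg hgm
  · rintro (⟨rfl, hc⟩ | ⟨h35, hnr, hv⟩) x hx ⟨z, hz⟩ _
    · by_cases hp : p = 2
      · subst hp
        exact Lib.ElusiveUnit.fix_two_even hq₀ hf (by omega) x hx hz
      · exact Lib.ElusiveUnit.fix_two_odd hq₀ hf (hp2 hp) (by omega) (hc.resolve_left hp) x hx hz
    · exact Lib.ElusiveUnit.fix_exc hq₀ hf h35 hnr (hrF (by omega)) hv x hx hz

end Cfsg.Agent.S5982
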