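import Cfsg.Statements.S5983
import Cfsg.Agent.Lib.Elusive.FormClass

set_option autoImplicit false
open scoped MatrixGroups
open Cfsg

namespace Cfsg.Agent.S5983

open Module Cfsg.Agent.Lib.Symplectic Cfsg.Agent.Lib.Elusive Cfsg.Agent.Lib.Elusive.SympPieces
  Cfsg.Agent.Lib.Elusive.FormClass

variable {F : Type*} [Field F] {d : ℕ}

theorem qform {Q : (Fin d ⊕ Fin d → F) → F} (hQ : Cfsg.Geo.IsNondegenerateQuadraticForm Q)
    (hQf : ∀ u v, QuadraticMap.polar Q u v = Cfsg.sympForm d F u v) : QForm (stdForm d F) Q :=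
  ⟨hQ.smul, fun x y => by rw [stdForm_eq_sympForm, ← hQf, QuadraticMap.polar]; ring⟩

theorem iso_of_mem {x : GL (Fin d ⊕ Fin d) F} (hx : x ∈ Cfsg.spGL d F) (u v : Fin d ⊕ Fin d → F) :
    stdForm d F (Matrix.toLin' (x : Matrix (Fin d ⊕ Fin d) (Fin d ⊕ Fin d) F) u)
      (Matrix.toLin' (x : Matrix (Fin d ⊕ Fin d) (Fin d ⊕ Fin d) F) v) = stdForm d F u v := by
  rw [stdForm_eq_sympForm, stdForm_eq_sympForm]
  exact hx u v

/-- The linear equivalence of a matrix. -/
noncomputable def glEquiv (x : GL (Fin d ⊕ Fin d) F) : (Fin d ⊕ Fin d → F) ≃ₗ[F] (Fin d ⊕ Fin d → F) :=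
  LinearEquiv.ofLinearMap (Matrix.toLin' (x : Matrix (Fin d ⊕ Fin d) (Fin d ⊕ Fin d) F))
    (Matrix.toLin' ((x⁻¹ : GL (Fin d ⊕ Fin d) F) : Matrix (Fin d ⊕ Fin d) (Fin d ⊕ Fin d) F))
    (by rw [← Matrix.toLin'_mul, ← Units.val_mul, mul_inv_cancel, Units.val_one, Matrix.toLin'_one])
    (by rw [← Matrix.toLin'_mul, ← Units.val_mul, inv_mul_cancel, Units.val_one, Matrix.toLin'_one])

/-- The matrix of an isometry. -/
noncomputable def toGL (g : Isom (stdForm d F)) : GL (Fin d ⊕ Fin d) F :=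
  Units.map (Matrix.symplecticGroup (Fin d) F).subtype (toUnits ((spEquiv d F).symm g))

theorem toGL_mulVec (g : Isom (stdForm d F)) (v : Fin d ⊕ Fin d → F) :
    (toGL g : Matrix (Fin d ⊕ Fin d) (Fin d ⊕ Fin d) F).mulVec v = g • v :=
  spEquiv_symm_mulVec g v

theorem toGL_mem (g : Isom (stdForm d F)) : toGL g ∈ Cfsg.spGL d F := fun u v => by
  show Cfsg.sympForm d F ((toGL g : Matrix _ _ F).mulVec u) ((toGL g : Matrix _ _ F).mulVec v) = _
  rw [toGL_mulVec, toGL_mulVec, ← stdForm_eq_sympForm, ← stdForm_eq_sympForm]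
  exact g.2 u v

/-- A symplectic similarity of `Q` is an isometry of `Q`. -/
theorem mem_iff (hd : 0 < d) {Q : (Fin d ⊕ Fin d → F) → F} (h : QForm (stdForm d F) Q)
    {x : GL (Fin d ⊕ Fin d) F} (hx : x ∈ Cfsg.spGL d F) :
    x ∈ Cfsg.Geo.quadSimilarityGroup Q ↔
      ∀ v, Q ((x : Matrix (Fin d ⊕ Fin d) (Fin d ⊕ Fin d) F).mulVec v) = Q v := by
  refine ⟨fun ⟨c, hc⟩ => ?_, fun h' => ⟨1, fun v => by rw [h', Units.val_one, one_mul]⟩⟩
  obtain ⟨w, hw⟩ := (isSympForm_stdForm d F).exists_eq_one (u := Pi.single (Sum.inl ⟨0, hd⟩) 1) (by simp)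
  set u : Fin d ⊕ Fin d → F := Pi.single (Sum.inl ⟨0, hd⟩) 1
  have h1 := h.add ((x : Matrix (Fin d ⊕ Fin d) (Fin d ⊕ Fin d) F).mulVec u)
    ((x : Matrix (Fin d ⊕ Fin d) (Fin d ⊕ Fin d) F).mulVec w)
  have h3 := iso_of_mem hx u w
  rw [Matrix.toLin'_apply, Matrix.toLin'_apply] at h3
  rw [← Matrix.mulVec_add, hc, hc, hc, h.add, h3, hw] at h1
  have hc1 : (c : F) = 1 := by linear_combination h1
  intro v
  rw [hc, hc1, one_mul]

variable [Fintype F] [CharP F 2] {Q : (Fin d ⊕ Fin d → F) → F}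

theorem gauss_mulVec (g : GL (Fin d ⊕ Fin d) F) (P : (Fin d ⊕ Fin d → F) → F) :
    gauss (fun v => P ((g : Matrix (Fin d ⊕ Fin d) (Fin d ⊕ Fin d) F).mulVec v)) = gauss P :=
  gauss_comp (glEquiv g) P

theorem qform_comp (h : QForm (stdForm d F) Q) {g : GL (Fin d ⊕ Fin d) F} (hg : g ∈ Cfsg.spGL d F) :
    QForm (stdForm d F) fun v => Q ((g : Matrix (Fin d ⊕ Fin d) (Fin d ⊕ Fin d) F).mulVec v) :=
  h.comp (g := Matrix.toLin' (g : Matrix (Fin d ⊕ Fin d) (Fin d ⊕ Fin d) F)) (iso_of_mem hg)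

/-- Fixing a point means fixing a form with the same Gauss sum. -/
theorem fix_iff (hd : 0 < d) (h : QForm (stdForm d F) Q) {x : GL (Fin d ⊕ Fin d) F}
    (hx : x ∈ Cfsg.spGL d F) :
    (∃ g ∈ Cfsg.spGL d F, g⁻¹ * x * g ∈ Cfsg.Geo.quadSimilarityGroup Q) ↔
      ∃ Q', QForm (stdForm d F) Q' ∧
        (∀ v, Q' (Matrix.toLin' (x : Matrix (Fin d ⊕ Fin d) (Fin d ⊕ Fin d) F) v) = Q' v) ∧
        gauss Q' = gauss Q := by
  constructor
  · rintro ⟨g, hg, hmem⟩
    refine ⟨fun v => Q (((g⁻¹ : GL (Fin d ⊕ Fin d) F) : Matrix (Fin d ⊕ Fin d) (Fin d ⊕ Fin d) F).mulVec v),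
      qform_comp h (inv_mem hg), fun v => ?_, gauss_mulVec _ _⟩
    have h1 := (mem_iff hd h (mul_mem (mul_mem (inv_mem hg) hx) hg)).mp hmem
      (((g⁻¹ : GL (Fin d ⊕ Fin d) F) : Matrix (Fin d ⊕ Fin d) (Fin d ⊕ Fin d) F).mulVec v)
    rw [Matrix.mulVec_mulVec, ← Units.val_mul, mul_inv_cancel_right, Units.val_mul,
      ← Matrix.mulVec_mulVec] at h1
    rw [Matrix.toLin'_apply]
    exact h1
  · rintro ⟨Q', hQ', hinv, hgauss⟩
    obtain ⟨g, hg⟩ := exists_isom (isSympForm_stdForm d F) h hQ' hgauss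
    have hG := toGL_mem g
    refine ⟨(toGL g)⁻¹, inv_mem hG, (mem_iff hd h (mul_mem (mul_mem (inv_mem (inv_mem hG)) hx) (inv_mem hG))).mpr fun v => ?_⟩
    rw [inv_inv, Units.val_mul, Units.val_mul, ← Matrix.mulVec_mulVec, ← Matrix.mulVec_mulVec, toGL_mulVec]
    refine (hg _).trans ?_
    rw [← Matrix.toLin'_apply, hinv, ← hg]
    show Q (g • _) = _
    rw [← toGL_mulVec, Matrix.mulVec_mulVec, ← Units.val_mul, mul_inv_cancel, Units.val_one,
      Matrix.one_mulVec]

/-- The index is the number of vectors with trivial character. -/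
theorem relIndex_eq (hd : 0 < d) (h : QForm (stdForm d F) Q) :
    (Cfsg.Geo.quadSimilarityGroup Q).relIndex (Cfsg.spGL d F) =
      Nat.card {v // chi (Q v) = 1} := by
  let B := stdForm d F
  have hB := isSympForm_stdForm d F
  let X := {P : (Fin d ⊕ Fin d → F) → F // QForm B P ∧ gauss P = gauss Q}
  letI : MulAction (Cfsg.spGL d F) X :=
    { smul := fun g P => ⟨fun v => P.1 (((g⁻¹ : Cfsg.spGL d F) : GL (Fin d ⊕ Fin d) F).1.mulVec v),
        qform_comp P.2.1 (g⁻¹).2, (gauss_mulVec _ _).trans P.2.2⟩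
      one_smul := fun P => Subtype.ext (funext fun v => by
        show P.1 _ = P.1 v
        rw [inv_one, OneMemClass.coe_one, Units.val_one, Matrix.one_mulVec])
      mul_smul := fun g g' P => Subtype.ext (funext fun v => by
        show P.1 _ = P.1 _
        rw [mul_inv_rev, Subgroup.coe_mul, Units.val_mul, ← Matrix.mulVec_mulVec]) }
  haveI : MulAction.IsPretransitive (Cfsg.spGL d F) X := ⟨fun P P' => by
    obtain ⟨g, hg⟩ := exists_isom hB P.2.1 P'.2.1 (P'.2.2.trans P.2.2.symm)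
    refine ⟨⟨toGL g, toGL_mem g⟩⁻¹, Subtype.ext (funext fun v => ?_)⟩
    show P.1 _ = P'.1 v
    rw [inv_inv, toGL_mulVec]
    exact hg v⟩
  let x₀ : X := ⟨Q, h, rfl⟩
  have hstab : MulAction.stabilizer (Cfsg.spGL d F) x₀ =
      (Cfsg.Geo.quadSimilarityGroup Q).subgroupOf (Cfsg.spGL d F) := by
    ext g
    rw [MulAction.mem_stabilizer_iff, Subgroup.mem_subgroupOf, ← inv_mem_iff, ← InvMemClass.coe_inv,
      mem_iff hd h (g⁻¹).2]
    exact ⟨fun h' v => congrFun (congrArg Subtype.val h') v, fun h' => Subtype.ext (funext h')⟩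
  let φ : {v // chi (Q v) = 1} → X := fun v =>
    ⟨shift B Q v.1, h.shift v.1, by rw [gauss_shift hB h, v.2, one_mul]⟩
  have hφ : Function.Bijective φ := by
    refine ⟨fun v w hvw => Subtype.ext (shift_injective hB Q (congrArg Subtype.val hvw)), ?_⟩
    rintro ⟨P, hP, hg⟩
    obtain ⟨v, rfl⟩ := exists_shift hB h hP
    refine ⟨⟨v, ?_⟩, rfl⟩
    rw [gauss_shift hB h] at hg
    exact (mul_eq_right₀ (gauss_ne_zero hB h)).mp hg
  rw [Nat.card_eq_of_bijective φ hφ, Subgroup.relIndex, ← hstab,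
    MulAction.index_stabilizer_of_transitive]

/-- A derangement involution. -/
theorem exists_involution (h2 : (2 : F) = 0) {l : ℕ} (hl : 0 < l) :
    ∃ f : Module.End F (Fin (l + l) ⊕ Fin (l + l) → F),
      (∀ u v, stdForm (l + l) F (f u) (f v) = stdForm (l + l) F u v) ∧ (∀ v, f (f v) = v) ∧
      (∀ z : F, f ≠ z • 1) ∧ (∀ v, stdForm (l + l) F v (f v) = 0) ∧
      (∀ v, (f - 1) v = 0 → v ∈ LinearMap.range (f - 1)) ∧ ∀ v, (f - 1) ((f - 1) v) = 0 := by
    let τ : Fin (l + l) → Fin (l + l) := fun i => finSumFinEquiv (finSumFinEquiv.symm i).swap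
    have hττ : ∀ i, τ (τ i) = i := fun i => by simp [τ]
    let ρ : Fin (l + l) ⊕ Fin (l + l) → Fin (l + l) ⊕ Fin (l + l) := Sum.map τ τ
    have hρρ : ∀ s, ρ (ρ s) = s := by rintro (i | i) <;> simp [ρ, hττ]
    let f : Module.End F (Fin (l + l) ⊕ Fin (l + l) → F) := LinearMap.funLeft F F ρ
    have hf : ∀ v s, f v s = v (ρ s) := fun v s => rfl
    have hff : ∀ v, f (f v) = v := fun v => funext fun s => by rw [hf, hf, hρρ]
    let τe : Fin (l + l) ≃ Fin (l + l) := ⟨τ, τ, hττ, hττ⟩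
    have hiso : ∀ u v, stdForm (l + l) F (f u) (f v) = stdForm (l + l) F u v := fun u v => by
      rw [stdForm_apply, stdForm_apply]
      exact Fintype.sum_equiv τe _ _ fun i => rfl
    have halt : ∀ v, stdForm (l + l) F v (f v) = 0 := fun v => by
      rw [stdForm_apply, Finset.sum_sub_distrib, sub_eq_zero]
      refine Fintype.sum_equiv τe _ _ fun i => ?_
      show _ = _
      simp only [hf, ρ, Sum.map_inl, Sum.map_inr, τe, Equiv.coe_fn_mk, hττ]
      ring
    have hkk : ∀ v, (f - 1) ((f - 1) v) = 0 := fun v => funext fun s => by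
      simp only [LinearMap.sub_apply, Module.End.one_apply, map_sub, hff, Pi.sub_apply, Pi.zero_apply]
      linear_combination (v s - f v s) * h2
    have hker : ∀ v, (f - 1) v = 0 → v ∈ LinearMap.range (f - 1) := fun v hv => by
      let u : Fin (l + l) ⊕ Fin (l + l) → F := fun s =>
        if (Sum.elim (fun i => (finSumFinEquiv.symm i).isLeft) (fun i => (finSumFinEquiv.symm i).isLeft) s) then v s else 0
      refine ⟨u, funext fun s => ?_⟩
      have hv' : v (ρ s) = v s := by
        have := congrFun hv s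
        simpa [hf, sub_eq_zero] using this
      simp only [LinearMap.sub_apply, Module.End.one_apply, Pi.sub_apply, hf]
      rcases s with i | i <;>
      · rcases h0 : finSumFinEquiv.symm i with a | a <;>
          simp only [u, ρ, τ, Sum.map_inl, Sum.map_inr, Sum.elim_inl, Sum.elim_inr, h0, Sum.swap_inl,
            Sum.swap_inr, Equiv.symm_apply_apply, Sum.isLeft_inl, Sum.isLeft_inr, if_true,
            Bool.false_eq_true, if_false] at hv' ⊢
        · linear_combination (-v _) * h2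
        · rw [hv']; ring
    refine ⟨f, hiso, hff, fun z h1 => ?_, halt, hker, hkk⟩
    let i₀ : Fin (l + l) := finSumFinEquiv (Sum.inl ⟨0, hl⟩)
    have h3 := congrFun (LinearMap.congr_fun h1 (Pi.single (Sum.inl i₀) 1)) (Sum.inl (τ i₀))
    have hne : τ i₀ ≠ i₀ := fun he => by
      have := congrArg finSumFinEquiv.symm he
      simp only [τ, i₀, Equiv.symm_apply_apply, Sum.swap_inl] at this
      exact absurd this Sum.inr_ne_inl
    simp [hf, ρ, hττ, hne] at h3

/-- Elements of prime order of PSp_n(q), q even, and the subgroups of orthogonal type. Here `T = Sp_{2d}(F)` for a field `F` of characteristic 2 with `q` elements (`d ≥ 2`, `(d, q) ≠ (2, 2)`), realised as the invertible matrices preserving the standard alternating form; `Q` is a non-degenerate quadratic form on `F^{2d}` whose polar form is that alternating form, and `H` is the subgroup of `T` preserving `Q` up to a scalar (equivalently preserving `Q`) — a subgroup of type O^±_{2d}(q) (maximality is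 not assumed); `Q` is of plus type when `F^{2d}` contains a `d`-dimensional subspace on which `Q` vanishes, of minus type otherwise. Ω is the set of cosets of `H` in `T`, so an element of `T` of prime order `r` (`x ∈ T` with `x^r` scalar, `x` not scalar) fixes a point of Ω exactly when some `T`-conjugate of `x` preserves `Q`. Let `r` be a prime dividing the index of `H`. Then every element of `T` of order `r` fixes a point of Ω if and only if `r = 2` and either `Q` is of plus type or `d` is odd. -/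
theorem result {F : Type*} [Field F] [Fintype F] {p : ℕ} [Fact p.Prime] [CharP F p] {q : ℕ} (hq : Fintype.card F = q)
    (hp : p = 2) (d : ℕ) (hd : 2 ≤ d) (hT : (d, q) ≠ (2, 2)) (Q : (Fin d ⊕ Fin d → F) → F) (hQ : Cfsg.Geo.IsNondegenerateQuadraticForm Q)
    (hQf : ∀ u v, QuadraticMap.polar Q u v = Cfsg.sympForm d F u v)
    (r : ℕ) [Fact r.Prime]
    (hΩ : r ∣ (Cfsg.Geo.quadSimilarityGroup Q).relIndex (Cfsg.spGL d F)) :
    (∀ x ∈ Cfsg.spGL d F, (∃ z : F, ((x ^ r : GL (Fin d ⊕ Fin d) F) : Matrix (Fin d ⊕ Fin d) (Fin d ⊕ Fin d) F) = z • (1 : Matrix (Fin d ⊕ Fin d) (Fin d ⊕ Fin d) F)) →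
      (∀ z : F, (x : Matrix (Fin d ⊕ Fin d) (Fin d ⊕ Fin d) F) ≠ z • (1 : Matrix (Fin d ⊕ Fin d) (Fin d ⊕ Fin d) F)) →
      ∃ g ∈ Cfsg.spGL d F, g⁻¹ * x * g ∈ Cfsg.Geo.quadSimilarityGroup Q) ↔
    (r = 2 ∧ (Cfsg.Geo.IsPlusTypeOn Q ⊤ ∨ Odd d)) := by
  classical
  subst hp
  have h := qform hQ hQf
  have hS := isSympForm_stdForm d F
  have h2 : (2 : F) = 0 := CharTwo.two_eq_zero
  obtain ⟨u, w, huw⟩ : ∃ u w, stdForm d F u w = 1 :=
    ⟨_, hS.exists_eq_one (u := Pi.single (Sum.inl ⟨0, by omega⟩) 1) (by simp)⟩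
  have hfix := fun (x : GL (Fin d ⊕ Fin d) F) (hx : x ∈ Cfsg.spGL d F) => fix_iff (by omega) h hx
  rcases eq_or_ne r 2 with rfl | hr2
  · constructor
    · intro hall
      refine ⟨rfl, ?_⟩
      by_contra hcon
      push Not at hcon
      obtain ⟨hplus, hodd⟩ := hcon
      obtain ⟨l, rfl⟩ : ∃ l, d = l + l := Nat.not_odd_iff_even.mp hodd
      obtain ⟨f, hiso, hff, hns, halt, hker, hkk⟩ := exists_involution (F := F) h2 (l := l) (by omega)
      let g : Isom (stdForm (l + l) F) := ⟨LinearEquiv.ofLinearMap f f (LinearMap.ext hff) (LinearMap.ext hff), hiso⟩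
      have hx : Matrix.toLin' (toGL g : Matrix (Fin (l + l) ⊕ Fin (l + l)) (Fin (l + l) ⊕ Fin (l + l)) F) = f :=
        LinearMap.ext fun v => (Matrix.toLin'_apply _ _).trans (toGL_mulVec g v)
      obtain ⟨Q', hQ', hinv, hgauss⟩ := (hfix _ (toGL_mem g)).mp (hall _ (toGL_mem g) ⟨1, by
          rw [one_smul]
          refine Matrix.toLin'.injective ?_
          rw [Units.val_pow_eq_pow_val, Matrix.toLin'_pow, hx, Matrix.toLin'_one, pow_two]
          exact LinearMap.ext hff⟩ fun z hz => hns z (by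
          rw [← hx, hz, map_smul, Matrix.toLin'_one]; rfl))
      rw [hx] at hinv
      obtain ⟨K, hK, hKd⟩ := exists_singular_of_invariant hS hQ' hinv halt hker hkk
      obtain ⟨a, ha⟩ := exists_isom hS h hQ' hgauss
      refine hplus ⟨K.map (a : _ ≃ₗ[F] _).toLinearMap, le_top, ?_, ?_⟩
      · rintro _ ⟨k, hk, rfl⟩
        exact (ha k).trans (hK k hk)
      · rw [LinearEquiv.finrank_map_eq, finrank_top, hKd]
    · rintro ⟨-, hcond⟩ x hx ⟨z, hz⟩ -
      set f := Matrix.toLin' (x : Matrix (Fin d ⊕ Fin d) (Fin d ⊕ Fin d) F)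
      have hiso := iso_of_mem hx
      have hz' : ∀ v, f (f v) = z • v := fun v => by
        have h1 := congrArg (fun M => Matrix.toLin' M v) hz
        simpa [pow_two, Matrix.toLin'_mul, f] using h1
      have hz1 : z = 1 := by
        have h1 := hiso (f u) (f w)
        rw [hiso u w, hz', hz'] at h1
        simp only [map_smul, LinearMap.smul_apply, smul_eq_mul, huw, mul_one] at h1
        have h3 : (z + 1) * (z + 1) = 0 := by
          linear_combination h1 + (z + 1) * h2
        exact CharTwo.add_eq_zero.mp (mul_self_eq_zero.mp h3)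
      refine (hfix x hx).mpr (exists_invariant hS h hiso (fun v => by rw [hz', hz1, one_smul])
        (finrank_std d F) (hcond.imp_left ?_))
      rintro ⟨K, -, hK, hKd⟩
      rw [finrank_top] at hKd
      exact gauss_of_singular hS h hK hKd
  · refine iff_of_false (fun hall => ?_) (fun h' => hr2 h'.1)
    have hr : r.Prime := Fact.out
    have hrF : (r : F) ≠ 0 := fun h0 =>
      hr2 ((Nat.prime_dvd_prime_iff_eq Nat.prime_two hr).mp ((CharP.cast_eq_zero_iff F 2 r).mp h0)).symm
    rw [relIndex_eq (by omega) h] at hΩ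
    -- the order of `q` divides `2 d`
    have hcardV : Fintype.card (Fin d ⊕ Fin d → F) = Fintype.card F ^ (2 * d) := by
      simp [Fintype.card_pi, two_mul]
    have hpc : pieceDim (orderOf (Fintype.card F : ZMod r)) ∣ 2 * d := by
      have h1 : (r : ℤ) ∣ (Fintype.card (Fin d ⊕ Fin d → F) : ℤ) * ((Fintype.card (Fin d ⊕ Fin d → F) : ℤ) - 1) := by
        have h3 := two_mul_count Q
        have h4 := gauss_sq hS h
        have h5 : (Fintype.card (Fin d ⊕ Fin d → F) : ℤ) * ((Fintype.card (Fin d ⊕ Fin d → F) : ℤ) - 1) =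
            (Nat.card {v : Fin d ⊕ Fin d → F // chi (Q v) = 1} : ℤ) *
              (4 * ((Fintype.card (Fin d ⊕ Fin d → F) : ℤ) - Nat.card {v : Fin d ⊕ Fin d → F // chi (Q v) = 1})) := by
          linear_combination h4 +
            (2 * (Nat.card {v : Fin d ⊕ Fin d → F // chi (Q v) = 1} : ℤ) - Fintype.card (Fin d ⊕ Fin d → F) + gauss Q) * h3
        rw [h5]
        exact dvd_mul_of_dvd_left (Int.natCast_dvd_natCast.mpr hΩ) _
      rw [← ZMod.intCast_zmod_eq_zero_iff_dvd, hcardV] at h1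
      push_cast at h1
      rcases mul_eq_zero.mp h1 with h3 | h3
      · exact absurd (pow_eq_zero_iff (by omega) |>.mp h3) (card_cast_ne_zero hrF)
      · have h4 := orderOf_dvd_of_pow_eq_one (sub_eq_zero.mp h3)
        unfold pieceDim
        split
        next => exact h4
        next he =>
          exact Nat.mul_dvd_mul_left 2
            ((Nat.odd_iff.mpr (by rw [Nat.even_iff] at he; omega)).coprime_two_right.dvd_of_dvd_mul_left h4)
    obtain ⟨s, hs⟩ := hpc
    obtain ⟨x, hx, hxe⟩ := exists_element hr2 hrF d 0 s (by rw [mul_zero, zero_add, mul_comm, ← hs])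
    set f := Matrix.toLin' (x : Matrix (Fin d ⊕ Fin d) (Fin d ⊕ Fin d) F)
    have hfree : ∀ v, f v = v → v = 0 := fun v hv =>
      (Submodule.mem_bot F).mp ((Submodule.finrank_eq_zero.mp hxe).le
        (End.mem_eigenspace_iff.mpr (by rw [hv, one_smul])))
    let g := spEquiv d F x
    have hg : Matrix.toLin' (toGL g : Matrix (Fin d ⊕ Fin d) (Fin d ⊕ Fin d) F) = f :=
      LinearMap.ext fun v => (Matrix.toLin'_apply _ _).trans (toGL_mulVec g v)
    obtain ⟨Q', hQ', hinv, hgauss⟩ := (hfix _ (toGL_mem g)).mp (hall _ (toGL_mem g) ⟨1, by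
        rw [one_smul]
        refine Matrix.toLin'.injective ?_
        rw [Units.val_pow_eq_pow_val, Matrix.toLin'_pow, hg, Matrix.toLin'_one, hx.pow]
        rfl⟩ fun z hz => by
      have h1 : f = z • 1 := by rw [← hg, hz, map_smul, Matrix.toLin'_one]; rfl
      have h3 := hx.iso u w
      have h4 : ∀ v, f v = z • v := fun v => by rw [h1]; rfl
      rw [h4, h4] at h3
      simp only [map_smul, LinearMap.smul_apply, smul_eq_mul, huw, mul_one] at h3
      have h5 : (z + 1) * (z + 1) = 0 := by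
        linear_combination h3 + (z + 1) * h2
      have hz1 : z = 1 := CharTwo.add_eq_zero.mp (mul_self_eq_zero.mp h5)
      have h6 := hfree u (by rw [h4, hz1, one_smul])
      rw [h6, map_zero, LinearMap.zero_apply] at huw
      exact zero_ne_one huw)
    rw [hg] at hinv
    have h7 := count_modEq hQ' hx.pow hfree hinv
    have h8 : Nat.card {v : Fin d ⊕ Fin d → F // chi (Q' v) = 1} = Nat.card {v : Fin d ⊕ Fin d → F // chi (Q v) = 1} := by
      have ha := two_mul_count Q'
      have hb := two_mul_count Q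
      rw [hgauss] at ha
      omega
    rw [h8] at h7
    exact hr.one_lt.ne' (Nat.dvd_one.mp ((Nat.modEq_zero_iff_dvd).mp ((h7.symm).trans (Nat.modEq_zero_iff_dvd.mpr hΩ))))

end Cfsg.Agent.S5983
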