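import Cfsg.Statements.S5984
import Cfsg.Agent.Lib.ElusiveUnit.PolarPairMovers

set_option autoImplicit false
open scoped MatrixGroups
open Cfsg

namespace Cfsg.Agent.S5984

/-- Elements of prime order of PSU_n(q) and the stabilizers of pairs of complementary totally singular subspaces. Here `T = PSU_n(q)` is realised through `SU_n(q)`, the matrices of determinant 1 over the field `F` with `q²` elements preserving the hermitian form `Σ uᵢ vᵢ^q`, with `n ≥ 4` even; `D` is a pair of complementary subspaces of dimension `n/2` on each of which the form vanishes identically, and `H` is the subgroup of `SU_n(q)` fixing or interchanging the two members — a subgroup of type GL_{n/2}(q²).2 (maximality is not assumed). Ω is the set of cosets of `H`, so an element of `T` of prime order `r` (`x ∈ SU_n(q)` with `x^r` scalar, `x` not scalar) fixes a point of Ω exactly when some `SU_n(q)`-conjugate of `x` lies in `H`. Let `r` be a prime dividing the index of `H`. Then every element of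 `T` of order `r` fixes a point of Ω if and only if `r = 2`, `q` is odd and `(q + 1)_2 ≤ (n)_2` (2-parts). -/
theorem result {F : Type*} [Field F] [Fintype F] {p : ℕ} [Fact p.Prime] [CharP F p] {q : ℕ} (hq : Fintype.card F = q ^ 2)
    (n : ℕ) (hn : 4 ≤ n) (he : Even n) (D : Fin 2 → Submodule F (Fin n → F)) (hD : Cfsg.Geo.IsMDecomposition (n / 2) D)
    (hDs : ∀ i, Cfsg.Geo.IsTotallySingularFor (Cfsg.hermForm n F q) (D i))
    (r : ℕ) [Fact r.Prime]
    (hΩ : r ∣ (Cfsg.Geo.decompositionStabilizer D).relIndex (Cfsg.GU n F q ⊓ Cfsg.Geo.specialLinear (Fin n) F)) :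
    (∀ x ∈ Cfsg.GU n F q ⊓ Cfsg.Geo.specialLinear (Fin n) F, (∃ z : F, ((x ^ r : GL (Fin n) F) : Matrix (Fin n) (Fin n) F) = z • (1 : Matrix (Fin n) (Fin n) F)) →
      (∀ z : F, (x : Matrix (Fin n) (Fin n) F) ≠ z • (1 : Matrix (Fin n) (Fin n) F)) →
      ∃ g ∈ Cfsg.GU n F q ⊓ Cfsg.Geo.specialLinear (Fin n) F, g⁻¹ * x * g ∈ Cfsg.Geo.decompositionStabilizer D) ↔
    (r = 2 ∧ Odd q ∧ padicValNat 2 (q + 1) ≤ padicValNat 2 n) := by
  classical
  obtain ⟨m, hm⟩ : ∃ m, n = 2 * m := ⟨n / 2, by obtain ⟨k, hk⟩ := he; omega⟩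
  have hdiv : n / 2 = m := by omega
  rw [hdiv] at hD
  have hP := Lib.ElusiveUnit.PolarPair.isPair_of_decomp (q := q) hD hDs
  have hm2 : 2 ≤ m := by omega
  have hcast : ∀ k : ℕ, k.Prime → ((k : F) = 0 ↔ k = p) := fun k hk =>
    (CharP.cast_eq_zero_iff F p k).trans
      ⟨fun h => ((Nat.prime_dvd_prime_iff_eq Fact.out hk).mp h).symm, fun h => h ▸ dvd_rfl⟩
  have hodd : Odd q ↔ (2 : F) ≠ 0 := by
    obtain ⟨p', k, hp', hc, hk, hqk⟩ := Lib.Unitary.q_eq_primePow hq
    obtain rfl : p' = p := CharP.eq F hc ‹CharP F p›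
    rw [show (2 : F) = ((2 : ℕ) : F) by norm_num, Ne, hcast 2 Nat.prime_two, hqk,
      Nat.odd_pow_iff (by omega)]
    refine ⟨fun h h2 => by rw [← h2] at h; exact absurd h (by decide), fun h => ?_⟩
    exact hp'.odd_of_ne_two (Ne.symm h)
  constructor
  · intro h
    by_contra hne
    obtain ⟨x, hx, hz, hns, hno⟩ : ∃ x, Lib.ElusiveUnit.PolarPair.IsMover q r D x := by
      by_cases hr : (r : F) = 0
      · exact Lib.ElusiveUnit.PolarPair.exists_mover_tv hq hm hm2 hP hr
      by_cases h2 : r = 2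
      · subst h2
        have h2F : (2 : F) ≠ 0 := by exact_mod_cast hr
        exact Lib.ElusiveUnit.PolarPair.exists_mover_two hq hm hm2 hP h2F
          (not_le.mp fun hle => hne ⟨rfl, hodd.mpr h2F, hle⟩)
      · obtain h0 | ⟨j, hj, hjn, hdvd⟩ :=
          Lib.ElusiveUnit.PolarPair.arith_of_index hq hm (by omega) hP hΩ
        · exact absurd h0 hr
        · exact Lib.ElusiveUnit.PolarPair.exists_mover_gen hq hm hm2 hP h2 hr hj hjn hdvd
    obtain ⟨g, hg, hgm⟩ := h x hx hz hns
    exact hno g hg hgm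
  · rintro ⟨rfl, hq2, hv⟩ x hx ⟨z, hz⟩ _
    exact Lib.ElusiveUnit.PolarPair.fix_two hq hm (by omega) (hodd.mp hq2) hv hP hx.1
      (congrArg Units.val (MonoidHom.mem_ker.mp hx.2)) hz

end Cfsg.Agent.S5984
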