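import Cfsg.Statements.S5985
import Cfsg.Agent.Lib.Elusive19.OrthModels
-- import your own Cfsg.Agent.* helpers here

set_option autoImplicit false
open scoped MatrixGroups
open Cfsg

namespace Cfsg.Agent.S5985

/-- Elements of prime order of Ω⁺_n(q), q even, with no fixed nonsingular 1-space. Here `T = PΩ⁺_n(F)`, `n = 2d ≥ 8`, realised through `Ω⁺_n(q)`, the commutator subgroup of the isometry group of `Q = Σ xᵢyᵢ` over the field `F` with `q` elements; an element of `T` of prime order `r` is an element `x` of `Ω⁺_n(q)` with `x^r` scalar and `x` not scalar; `q` is even (so the centre is trivial). Let Ω be the set of 1-dimensional subspaces spanned by a vector `v` with `Q(v) ≠ 0`, and let `r` be a prime dividing their number. Then every element of `T` of order `r` fixes some nonsingular 1-space if and only if `r = 2` and `n ≡ 2 (mod 4)` (that is, `d` is odd). -/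
theorem result {F : Type*} [Field F] [Fintype F] {p : ℕ} [Fact p.Prime] [CharP F p] {q : ℕ} (hq : Fintype.card F = q)
    (hp : p = 2) (d : ℕ) (hd : 4 ≤ d) (r : ℕ) [Fact r.Prime]
    (hrΩ : r ∣ Nat.card {W : Submodule F (Fin d ⊕ Fin d → F) // Module.finrank F ↥W = 1 ∧ ∃ v ∈ W, Cfsg.quadFormPlus d F v ≠ 0}) :
    (∀ x : GL (Fin d ⊕ Fin d) F, x ∈ Cfsg.Geo.omegaGL (Cfsg.quadFormPlus d F) →
      (∃ z : F, ((x ^ r : GL (Fin d ⊕ Fin d) F) : Matrix (Fin d ⊕ Fin d) (Fin d ⊕ Fin d) F) = z • (1 : Matrix (Fin d ⊕ Fin d) (Fin d ⊕ Fin d) F)) →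
      (∀ z : F, (x : Matrix (Fin d ⊕ Fin d) (Fin d ⊕ Fin d) F) ≠ z • (1 : Matrix (Fin d ⊕ Fin d) (Fin d ⊕ Fin d) F)) →
      ∃ W : Submodule F (Fin d ⊕ Fin d → F), (Module.finrank F ↥W = 1 ∧ ∃ v ∈ W, Cfsg.quadFormPlus d F v ≠ 0) ∧ W.map (Matrix.toLin' (x : Matrix (Fin d ⊕ Fin d) (Fin d ⊕ Fin d) F)) ≤ W) ↔ (r = 2 ∧ Odd d) := by
  subst hp
  have : Nonempty (Fin d ⊕ Fin d) := ⟨Sum.inl ⟨0, by omega⟩⟩
  have hf : ∀ v, Cfsg.quadFormPlus d F v = Cfsg.Agent.Lib.Forms.qPlus d v :=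
    Cfsg.Agent.Lib.Forms.qPlus_eq d
  have hQ := Cfsg.Agent.Lib.Forms.qPlus_nondeg (F := F) d
  have hdim : Module.finrank F (Fin d ⊕ Fin d → F) = 2 * d := by
    rw [Module.finrank_fintype_fun_eq_card, Fintype.card_sum, Fintype.card_fin]; ring
  constructor
  · intro h
    by_contra hc
    refine Cfsg.Agent.Lib.Elusive19.not_all_fix hf hQ ?_ h
    by_cases hr2 : r = 2
    · subst hr2
      exact Cfsg.Agent.Lib.Elusive19.plus_mover_two
        (Nat.not_odd_iff_even.1 fun ho => hc ⟨rfl, ho⟩) hd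
    · rw [Cfsg.Agent.Lib.Elusive19.card_nonsing_lines hf,
        Cfsg.Agent.Lib.Forms.levelCard_qPlus d one_ne_zero] at hrΩ
      rcases (Fact.out : r.Prime).dvd_mul.1 hrΩ with h1 | h1
      · exact Cfsg.Agent.Lib.Elusive19.plus_mover_odd hd hr2 h1
      · exact absurd h1 (Cfsg.Agent.Lib.Elusive19.coprime_card hr2 _)
  · rintro ⟨rfl, hodd⟩ x hx hz -
    exact Cfsg.Agent.Lib.Elusive19.all_fix_two hf hQ
      (fun g hg => Cfsg.Agent.Lib.Elusive19.exists_fixed_odd hQ hodd hdim g hg) x hx hz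

end Cfsg.Agent.S5985
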