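import Cfsg.Statements.S5986
import Cfsg.Agent.Lib.Elusive19.OrthModels
import Cfsg.Agent.Lib.OrthField.EvenModels
-- import your own Cfsg.Agent.* helpers here

set_option autoImplicit false
open scoped MatrixGroups
open Cfsg

namespace Cfsg.Agent.S5986

/-- Elements of prime order of Ω⁻_n(q), q even, with no fixed nonsingular 1-space. Here `T = PΩ⁻_n(F)`, `n = 2d ≥ 8`, realised through `Ω⁻_n(q)`, the commutator subgroup of the isometry group of `Q = Σ_{i<d−1} xᵢyᵢ + z₁² + a z₁z₂ + b z₂²` with `z₁² + a z₁z₂ + b z₂²` anisotropic, over the field `F` with `q` elements; an element of `T` of prime order `r` is an element `x` of `Ω⁻_n(q)` with `x^r` scalar and `x` not scalar; `q` is even (so the centre is trivial). Let Ω be the set of 1-dimensional subspaces spanned by a vector `v` with `Q(v) ≠ 0`, and let `r` be a prime dividing their number. Then every element of `T` of order `r` fixes some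 nonsingular 1-space if and only if `r = 2`. -/
theorem result {F : Type*} [Field F] [Fintype F] {p : ℕ} [Fact p.Prime] [CharP F p] {q : ℕ} (hq : Fintype.card F = q)
    (hp : p = 2) (d : ℕ) (hd : 4 ≤ d) (a b : F) (hab : ∀ x y : F, x ^ 2 + a * x * y + b * y ^ 2 = 0 → x = 0 ∧ y = 0) (r : ℕ) [Fact r.Prime]
    (hrΩ : r ∣ Nat.card {W : Submodule F ((Fin (d - 1) ⊕ Fin (d - 1)) ⊕ Fin 2 → F) // Module.finrank F ↥W = 1 ∧ ∃ v ∈ W, Cfsg.quadFormMinus (d - 1) F a b v ≠ 0}) :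
    (∀ x : GL ((Fin (d - 1) ⊕ Fin (d - 1)) ⊕ Fin 2) F, x ∈ Cfsg.Geo.omegaGL (Cfsg.quadFormMinus (d - 1) F a b) →
      (∃ z : F, ((x ^ r : GL ((Fin (d - 1) ⊕ Fin (d - 1)) ⊕ Fin 2) F) : Matrix ((Fin (d - 1) ⊕ Fin (d - 1)) ⊕ Fin 2) ((Fin (d - 1) ⊕ Fin (d - 1)) ⊕ Fin 2) F) = z • (1 : Matrix ((Fin (d - 1) ⊕ Fin (d - 1)) ⊕ Fin 2) ((Fin (d - 1) ⊕ Fin (d - 1)) ⊕ Fin 2) F)) →
      (∀ z : F, (x : Matrix ((Fin (d - 1) ⊕ Fin (d - 1)) ⊕ Fin 2) ((Fin (d - 1) ⊕ Fin (d - 1)) ⊕ Fin 2) F) ≠ z • (1 : Matrix ((Fin (d - 1) ⊕ Fin (d - 1)) ⊕ Fin 2) ((Fin (d - 1) ⊕ Fin (d - 1)) ⊕ Fin 2) F)) →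
      ∃ W : Submodule F ((Fin (d - 1) ⊕ Fin (d - 1)) ⊕ Fin 2 → F), (Module.finrank F ↥W = 1 ∧ ∃ v ∈ W, Cfsg.quadFormMinus (d - 1) F a b v ≠ 0) ∧ W.map (Matrix.toLin' (x : Matrix ((Fin (d - 1) ⊕ Fin (d - 1)) ⊕ Fin 2) ((Fin (d - 1) ⊕ Fin (d - 1)) ⊕ Fin 2) F)) ≤ W) ↔ r = 2 := by
  subst hp
  have hf : ∀ v, Cfsg.quadFormMinus (d - 1) F a b v =
      Cfsg.Agent.Lib.Forms.qMinus (d - 1) a b v :=
    fun v => (Cfsg.Agent.Lib.Forms.qMinus_apply (d - 1) a b v).symm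
  have hQ := Cfsg.Agent.Lib.Forms.qMinus_nondeg (F := F) (d - 1) hab
  have he := Cfsg.Agent.Lib.Forms.qMinus_equiv (F := F) (d - 1) a b
  constructor
  · intro h
    by_contra hr2
    refine Cfsg.Agent.Lib.Elusive19.not_all_fix hf hQ ?_ h
    rw [Cfsg.Agent.Lib.Elusive19.card_nonsing_lines hf,
      Cfsg.Agent.Lib.Forms.levelCard_qMinus (d - 1) hab one_ne_zero,
      show d - 1 + 1 = d by omega] at hrΩ
    rcases (Fact.out : r.Prime).dvd_mul.1 hrΩ with h1 | h1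
    · obtain ⟨a', b', hab', hM⟩ := Cfsg.Agent.Lib.Elusive19.minus_mover_odd (d := d) (by omega) hr2 h1
      obtain ⟨e, he'⟩ := Cfsg.Agent.Lib.OrthField.exists_bin_equiv hab' hab
      let iso : (Cfsg.Agent.Lib.Forms.qBin a' b').IsometryEquiv (Cfsg.Agent.Lib.Forms.qBin a b) :=
        { e with map_app' := he' }
      exact hM.congr (((QuadraticMap.Equivalent.refl _).prod ⟨iso⟩).trans he.symm)
    · exact absurd h1 (Cfsg.Agent.Lib.Elusive19.coprime_card hr2 _)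
  · rintro rfl x hx hz -
    refine Cfsg.Agent.Lib.Elusive19.all_fix_two hf hQ (fun g hg => ?_) x hx hz
    refine Cfsg.Agent.Lib.Elusive19.exists_fixed_minus hab he ?_ g hg
    rw [Module.finrank_fintype_fun_eq_card]
    simp only [Fintype.card_sum, Fintype.card_fin]
    omega

end Cfsg.Agent.S5986
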