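import Cfsg.Statements.S5988
import Cfsg.Agent.Lib.K41.Der.Final
import Cfsg.Agent.Lib.K41.Der.Char2
import Cfsg.Agent.Lib.K41.Der.Unip
-- import your own Cfsg.Agent.* helpers here

set_option autoImplicit false
open scoped MatrixGroups
open Cfsg

namespace Cfsg.Agent.S5988

open Cfsg.Agent.Lib Cfsg.Agent.Lib.K41.Der Cfsg.Agent.Lib.Forms Cfsg.Agent.Lib.Elusive


/-- Elements of prime order of PΩ⁺_n(q) with no fixed elliptic `m`-space. Here `T = PΩ⁺_n(F)`, `n = 2d ≥ 8`, realised through `Ω⁺_n(q)`, the commutator subgroup of the isometry group of `Q = Σ xᵢyᵢ` over the field `F` with `q` elements; an element of `T` of prime order `r` is an element `x` of `Ω⁺_n(q)` with `x^r` scalar and `x` not scalar; a nondegenerate `m`-space (even `m`) is a subspace on which the polar form of `Q` is nondegenerate; it is hyperbolic if it contains an `m/2`-dimensional subspace on which `Q` vanishes, elliptic otherwise. Let `m` be even with `2 ≤ m < n/2` and let `r` be a prime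 dividing the number of elliptic `m`-spaces; for `r ≠ p` let `i` be the multiplicative order of `q` modulo `r`, `c = i` for `i` even and `c = 2i` for `i` odd, and write `k = n mod c`, `ℓ = m mod i`, `ℓ' = m mod c`, `n' = ⌊n/i⌋`, `m' = ⌊m/i⌋`, `t = (r−1)/i`. Then every element of `T` of order `r` fixes some elliptic `m`-space if and only if one of: (i) `r = 2 ≠ p` and either `n ≡ 0 (mod 4)`, `q ≡ 3 (mod 4)` and `m ≡ 2 (mod 4)`, or `n ≡ 2 (mod 4)` and `q ≢ 1 (mod 8)`; (ii) `r ≠ p` odd, `i` odd, `c ≤ m` and `k > ℓ' > 0`; (iii) `r ≠ p` odd, `i` even, and either `k = 0` and (`n/i` odd, or `ℓ' = 0` and `m/i` odd), or `i ≤ m` and (`k > ℓ' > 0`, or `k = ℓ' > 0` and `(n + m − 2k)/i` odd, or `k > ℓ' = 0` and `m/i` odd). (For `r = p` there is always an element of order `p` fixing no elliptic `m`-space.) -/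
theorem result {F : Type*} [Field F] [Fintype F] {p : ℕ} [Fact p.Prime] [CharP F p] {q : ℕ} (hq : Fintype.card F = q)
    (d m : ℕ) (hd : 4 ≤ d) (hm : 2 ≤ m) (hme : Even m) (hmd : m < d)
    (r : ℕ) [Fact r.Prime]
    (hrΩ : r ∣ Nat.card {W : Submodule F (Fin d ⊕ Fin d → F) // Module.finrank F ↥W = m ∧ Cfsg.Geo.IsNondegenerateOn (QuadraticMap.polar (Cfsg.quadFormPlus d F)) W ∧ ¬ Cfsg.Geo.IsPlusTypeOn (Cfsg.quadFormPlus d F) W})
    (i c : ℕ) (hi : i = orderOf (q : ZMod r)) (hc : c = if Even i then i else 2 * i) :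
    (∀ x : GL (Fin d ⊕ Fin d) F, x ∈ Cfsg.Geo.omegaGL (Cfsg.quadFormPlus d F) →
      (∃ z : F, ((x ^ r : GL (Fin d ⊕ Fin d) F) : Matrix (Fin d ⊕ Fin d) (Fin d ⊕ Fin d) F) = z • (1 : Matrix (Fin d ⊕ Fin d) (Fin d ⊕ Fin d) F)) →
      (∀ z : F, (x : Matrix (Fin d ⊕ Fin d) (Fin d ⊕ Fin d) F) ≠ z • (1 : Matrix (Fin d ⊕ Fin d) (Fin d ⊕ Fin d) F)) →
      ∃ W : Submodule F (Fin d ⊕ Fin d → F), (Module.finrank F ↥W = m ∧ Cfsg.Geo.IsNondegenerateOn (QuadraticMap.polar (Cfsg.quadFormPlus d F)) W ∧ ¬ Cfsg.Geo.IsPlusTypeOn (Cfsg.quadFormPlus d F) W) ∧ W.map (Matrix.toLin' (x : Matrix (Fin d ⊕ Fin d) (Fin d ⊕ Fin d) F)) ≤ W) ↔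
    ((r = 2 ∧ p ≠ 2 ∧ ((Even d ∧ q % 4 = 3 ∧ m % 4 = 2) ∨ (Odd d ∧ q % 8 ≠ 1))) ∨
     (r ≠ p ∧ 2 < r ∧ Odd i ∧ c ≤ m ∧ 0 < m % c ∧ m % c < (2 * d) % c) ∨
     (r ≠ p ∧ 2 < r ∧ Even i ∧
       (((2 * d) % c = 0 ∧ (Odd ((2 * d) / i) ∨ (m % c = 0 ∧ Odd (m / i)))) ∨
        (i ≤ m ∧ ((0 < m % c ∧ m % c < (2 * d) % c) ∨
                  (0 < m % c ∧ m % c = (2 * d) % c ∧ Odd ((2 * d + m - 2 * ((2 * d) % c)) / i)) ∨
                  (m % c = 0 ∧ 0 < (2 * d) % c ∧ Odd (m / i))))))) := by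
  subst hq
  have hcard : Fintype.card (Fin d ⊕ Fin d) = 2 * d := by
    simp only [Fintype.card_sum, Fintype.card_fin]; omega
  have hf : ∀ v, Cfsg.quadFormPlus d F v = qPlus (F := F) d v := qPlus_eq d
  have hQ := qPlus_nondeg (F := F) d
  have hn := (Module.finrank_fintype_fun_eq_card (η := Fin d ⊕ Fin d) F).trans hcard
  have hpl : Plus (qPlus (F := F) d) := plus_qPlus d
  have hm2 := Nat.even_iff.mp hme
  have hP : ∀ W : Submodule F (Fin d ⊕ Fin d → F),
      (Module.finrank F W = m ∧ Cfsg.Geo.IsNondegenerateOn (QuadraticMap.polar (Cfsg.quadFormPlus d F)) W ∧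
        ¬ Cfsg.Geo.IsPlusTypeOn (Cfsg.quadFormPlus d F) W) ↔
      (Module.finrank F W = m ∧ NDeg (qPlus (F := F) d) W ∧ (Plus (res (qPlus (F := F) d) W) ↔ False)) :=
    fun W => by rw [nDeg_iff_on hf, plus_iff_on hf, iff_false]
  by_cases hrp : r = p
  · subst hrp
    refine iff_of_false (fun H => ?_) (by rintro (⟨h, h', -⟩ | ⟨h, -⟩ | ⟨h, -⟩) <;> first | exact h' h | exact h rfl)
    have hsplit : ∀ W : Submodule F (Fin d ⊕ Fin d → F), NDeg (qPlus (F := F) d) W → Even (Module.finrank F W) →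
        Plus (res (qPlus (F := F) d) (perp (qPlus (F := F) d) W)) → Plus (res (qPlus (F := F) d) W) :=
      fun W hW hWe hP' => ((plus_split hQ hW hWe (hn ▸ even_two_mul d)).mp hpl).mpr hP'
    by_cases hr2 : r = 2
    · subst hr2
      have h2 : (2 : F) = 0 := CharTwo.two_eq_zero
      obtain ⟨N, hI, halt, hR⟩ := exists_twos hQ (j := d / 2) hn (by
        rcases Nat.even_or_odd d with h | h
        · exact Or.inl ⟨by have := Nat.even_iff.mp h; omega, hpl⟩
        · exact Or.inr (by have := Nat.odd_iff.mp h; omega))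
      obtain ⟨x, hx, hsc, hns, hxN⟩ := omega_of_inv2 hf (by omega) hI ⟨d / 2, by omega⟩ (fun h0 => by
        rw [h0, LinearMap.range_zero, finrank_bot] at hR
        omega)
      obtain ⟨W, hPW, hmap⟩ := H x hx hsc hns
      obtain ⟨hWd, hWn, hWP⟩ := (hP W).mp hPW
      have hWN : ∀ v ∈ W, N v ∈ W := fun v hv => by
        have h1 : v + N v ∈ W := hxN v ▸ hmap ⟨v, hv, rfl⟩
        simpa using W.sub_mem h1 hv
      obtain ⟨hPn, -, hPd⟩ := split_top hQ hWn
      obtain ⟨t1, t2⟩ := hI.twos halt hn (by omega) hWN hWn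
      by_cases h4 : m % 4 = 0
      · exact hWP.mp (t1 (by omega))
      · have hdo : d % 2 = 1 := by
          by_contra hde
          have := t2 (by omega)
          omega
        exact hWP.mp (hsplit W hWn (hWd ▸ hme)
          ((hI.twos halt hn (by omega) (hI.inv_perp hWN) hPn).1 (by omega)))
    have hr3 : 3 ≤ r := by have := (Fact.out : r.Prime).two_le; omega
    have h2 : (2 : F) ≠ 0 := Ring.two_ne_zero (by rwa [ringChar.eq F r])
    rcases Nat.even_or_odd d with hde | hdo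
    · obtain ⟨x, hx, -, hsc, hns, hW⟩ := exists_derange hr2 hf hQ (by omega)
        (μ := Multiset.replicate d 2) (fun b hb => by rw [Multiset.eq_of_mem_replicate hb]; omega)
        ⟨2, Multiset.mem_replicate.mpr ⟨by omega, rfl⟩, le_rfl⟩ (realises_twos h2 hQ hde hn hpl)
      obtain ⟨W, hPW, hmap⟩ := H x hx hsc hns
      obtain ⟨hWd, hWn, hWP⟩ := (hP W).mp hPW
      obtain ⟨⟨ν, hν, hνs, hνp, hνP⟩, -⟩ := hW W hmap hWn
      exact hWP.mp (hνP fun b hb => Multiset.eq_of_mem_replicate (Multiset.mem_of_le hν hb))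
    · have hd1 := Nat.odd_iff.mp hdo
      obtain ⟨x, hx, -, hsc, hns, hW⟩ := exists_derange hr2 hf hQ (by omega)
        (μ := 1 ::ₘ 1 ::ₘ Multiset.replicate (2 * (d / 2)) 2) (fun b hb => by
          rcases Multiset.mem_cons.mp hb with rfl | hb
          · omega
          rcases Multiset.mem_cons.mp hb with rfl | hb
          · omega
          rw [Multiset.eq_of_mem_replicate hb]; omega)
        ⟨2, Multiset.mem_cons_of_mem (Multiset.mem_cons_of_mem (Multiset.mem_replicate.mpr ⟨by omega, rfl⟩)), le_rfl⟩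
        (Elusive19.OrthUnipotent.realise h2 hQ (fun b hb => by
          rcases Multiset.mem_cons.mp hb with rfl | hb
          · exact one_pos
          rcases Multiset.mem_cons.mp hb with rfl | hb
          · exact one_pos
          rw [Multiset.eq_of_mem_replicate hb]; omega)
          (((Elusive19.OrthUnipotent.evenPaired_replicate (d / 2)).cons odd_one).cons odd_one)
          (by simp [hn]; omega) ⟨1, Multiset.mem_cons_self _ _, odd_one⟩)
      obtain ⟨W, hPW, hmap⟩ := H x hx hsc hns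
      obtain ⟨hWd, hWn, hWP⟩ := (hP W).mp hPW
      obtain ⟨⟨ν, hν, hνs, hνp, hνP⟩, ν', hν', hνs', hνp', hνP'⟩ := hW W hmap hWn
      obtain ⟨-, -, hPd⟩ := split_top hQ hWn
      by_cases h4 : m % 4 = 0
      · obtain ⟨u, ⟨-, h⟩ | h | h⟩ := sub_two_pair odd_one hν hνp
        · exact hWP.mp (hνP h)
        · omega
        · omega
      · obtain ⟨u, ⟨-, h⟩ | h | h⟩ := sub_two_pair odd_one hν' hνp'
        · exact hWP.mp (hsplit W hWn (hWd ▸ hme) (hνP' h))
        · omega
        · omega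
  by_cases hr2 : r = 2
  · subst hr2
    have hrF : ((2 : ℕ) : F) ≠ 0 := natCast_ne_zero_of_ne (p := p) hrp
    have h2 : (2 : F) ≠ 0 := by exact_mod_cast hrF
    have hodd : Fintype.card F % 2 = 1 := Nat.odd_iff.mp
      ((Nat.card_eq_fintype_card (α := F)) ▸ odd_card_of_two_ne h2)
    rw [nd_two_scalar hf hQ (by omega) h2 hcard hme hm (by omega) False hP]
    simp only [Quarters, TwoPar, iff_true_intro hpl, lt_irrefl, and_false, false_and, or_false, true_and,
      not_true, iff_false, ne_eq, Ne.symm hrp, not_false_iff, Nat.even_iff, Nat.odd_iff]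
    omega
  have hrF : (r : F) ≠ 0 := natCast_ne_zero_of_ne hrp
  rw [nd_scalar hf hQ (by omega) hr2 hrF hme hm (by omega) False hP hrΩ, hcard, ← hi]
  have hipos : 0 < i := hi ▸ orderOf_card_pos hrF
  have hcp : pdim i = c := by rw [hc, pdim]
  have hcpos : 0 < c := hcp ▸ pdim_pos hipos
  have h1 : 1 ≤ m / c ↔ c ≤ m := Nat.one_le_div_iff hcpos
  have hcm : m % c = 0 → c ≤ m := fun h => Nat.le_of_dvd (by omega) (Nat.dvd_of_mod_eq_zero h)
  have hlt : 2 < r := lt_of_le_of_ne (Fact.out : r.Prime).two_le (Ne.symm hr2)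
  have hsum : m % c = 2 * d % c → (2 * d + m - 2 * (2 * d % c)) / c = 2 * d / c + m / c := fun h => by
    have h3 := div_mod_eq (2 * d) c
    have h4 := div_mod_eq m c
    rw [show 2 * d + m - 2 * (2 * d % c) = (2 * d / c + m / c) * c by rw [Nat.add_mul]; omega,
      Nat.mul_div_cancel _ hcpos]
  simp only [CondND, hcp, h1, iff_true_intro hpl, hr2, hlt, hrp, false_and, false_or, ne_eq, not_false_iff, true_and,
    iff_true, true_iff, iff_false, false_iff]
  rcases Nat.even_or_odd i with he | ho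
  · have hci : c = i := by rw [hc, if_pos he]
    have hno : ¬ Odd i := Nat.not_odd_iff_even.mpr he
    simp only [he, hno, false_and, false_or, true_and, par_even he, hci] at *
    simp only [Nat.even_iff, Nat.odd_iff]
    omega
  · have hne : ¬ Even i := Nat.not_even_iff_odd.mpr ho
    simp only [ho, hne, par_odd ho, false_and, or_false, true_and, and_false, and_true, false_or, not_true,
      not_false_iff, iff_true, iff_self, true_iff, iff_false] at *
    omega

end Cfsg.Agent.S5988
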