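import Cfsg.Statements.S5989
import Cfsg.Agent.Lib.K41.Der.Final
import Cfsg.Agent.Lib.K41.Der.Unip
-- import your own Cfsg.Agent.* helpers here

set_option autoImplicit false
open scoped MatrixGroups
open Cfsg

namespace Cfsg.Agent.S5989

open Cfsg.Agent.Lib Cfsg.Agent.Lib.K41.Der Cfsg.Agent.Lib.Forms Cfsg.Agent.Lib.Elusive


/-- Elements of prime order of PΩ⁺_n(q), q odd, with no fixed nondegenerate `m`-space of odd dimension. Here `T = PΩ⁺_n(F)`, `n = 2d ≥ 8`, realised through `Ω⁺_n(q)`, the commutator subgroup of the isometry group of `Q = Σ xᵢyᵢ` over the field `F` with `q` elements; an element of `T` of prime order `r` is an element `x` of `Ω⁺_n(q)` with `x^r` scalar and `x` not scalar; `q` and `m` are odd, `1 ≤ m < n/2`. The nondegenerate `m`-spaces (subspaces on which the polar form is nondegenerate) fall into two isometry classes, each an orbit of `T`, and the two actions are equivalent; fix one such space `W₀` and let Ω be the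 set of nondegenerate `m`-spaces isometric to `W₀` (some linear isomorphism preserves `Q`). Let `r` be a prime dividing the size of Ω; for `r ≠ p` let `i` be the multiplicative order of `q` modulo `r`, `c = i` for `i` even and `c = 2i` for `i` odd, and write `k = n mod c`, `ℓ = m mod i`, `ℓ' = m mod c`, `n' = ⌊n/i⌋`, `m' = ⌊m/i⌋`, `t = (r−1)/i`. Then every element of `T` of order `r` fixes a member of Ω if and only if one of: (i) `r = 2`, `n ≡ 2 (mod 4)` and `q ≢ 1 (mod 8)`; (ii) `r ≠ p` odd, `i` odd, `c ≤ m` and `k > ℓ' > 0`; (iii) `r ≠ p` odd, `i` even, and either `k = 0` and `n/i` odd, or `i ≤ m` and `k > ℓ' > 0`. (For `r = p` there is always an element of order `p` fixing no member of Ω.) -/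
theorem result {F : Type*} [Field F] [Fintype F] {p : ℕ} [Fact p.Prime] [CharP F p] {q : ℕ} (hq : Fintype.card F = q)
    (hodd : Odd q) (d m : ℕ) (hd : 4 ≤ d) (hm : Odd m) (hmd : m < d)
    (W₀ : Submodule F (Fin d ⊕ Fin d → F)) (hW₀ : Module.finrank F ↥W₀ = m ∧ Cfsg.Geo.IsNondegenerateOn (QuadraticMap.polar (Cfsg.quadFormPlus d F)) W₀)
    (r : ℕ) [Fact r.Prime]
    (hrΩ : r ∣ Nat.card {W : Submodule F (Fin d ⊕ Fin d → F) // Module.finrank F ↥W = m ∧ Cfsg.Geo.IsNondegenerateOn (QuadraticMap.polar (Cfsg.quadFormPlus d F)) W ∧ Cfsg.Geo.AreIsometricFor (Cfsg.quadFormPlus d F) W W₀})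
    (i c : ℕ) (hi : i = orderOf (q : ZMod r)) (hc : c = if Even i then i else 2 * i) :
    (∀ x : GL (Fin d ⊕ Fin d) F, x ∈ Cfsg.Geo.omegaGL (Cfsg.quadFormPlus d F) →
      (∃ z : F, ((x ^ r : GL (Fin d ⊕ Fin d) F) : Matrix (Fin d ⊕ Fin d) (Fin d ⊕ Fin d) F) = z • (1 : Matrix (Fin d ⊕ Fin d) (Fin d ⊕ Fin d) F)) →
      (∀ z : F, (x : Matrix (Fin d ⊕ Fin d) (Fin d ⊕ Fin d) F) ≠ z • (1 : Matrix (Fin d ⊕ Fin d) (Fin d ⊕ Fin d) F)) →
      ∃ W : Submodule F (Fin d ⊕ Fin d → F), (Module.finrank F ↥W = m ∧ Cfsg.Geo.IsNondegenerateOn (QuadraticMap.polar (Cfsg.quadFormPlus d F)) W ∧ Cfsg.Geo.AreIsometricFor (Cfsg.quadFormPlus d F) W W₀) ∧ W.map (Matrix.toLin' (x : Matrix (Fin d ⊕ Fin d) (Fin d ⊕ Fin d) F)) ≤ W) ↔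
    ((r = 2 ∧ Odd d ∧ q % 8 ≠ 1) ∨
     (r ≠ p ∧ 2 < r ∧ Odd i ∧ c ≤ m ∧ 0 < m % c ∧ m % c < (2 * d) % c) ∨
     (r ≠ p ∧ 2 < r ∧ Even i ∧ (((2 * d) % c = 0 ∧ Odd ((2 * d) / i)) ∨ (i ≤ m ∧ 0 < m % c ∧ m % c < (2 * d) % c)))) := by
  subst hq
  have h2 : (2 : F) ≠ 0 := two_ne_zero_of_odd rfl hodd
  have hcard : Fintype.card (Fin d ⊕ Fin d) = 2 * d := by
    simp only [Fintype.card_sum, Fintype.card_fin]; omega
  have hf : ∀ v, Cfsg.quadFormPlus d F v = qPlus (F := F) d v := qPlus_eq d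
  have hQ := qPlus_nondeg (F := F) d
  have hn := (Module.finrank_fintype_fun_eq_card (η := Fin d ⊕ Fin d) F).trans hcard
  have hpl : Plus (qPlus (F := F) d) := plus_qPlus d
  have hW₀n : NDeg (qPlus (F := F) d) W₀ := (nDeg_iff_on hf W₀).mp hW₀.2
  have hP : ∀ W : Submodule F (Fin d ⊕ Fin d → F),
      (Module.finrank F W = m ∧ Cfsg.Geo.IsNondegenerateOn (QuadraticMap.polar (Cfsg.quadFormPlus d F)) W ∧
        Cfsg.Geo.AreIsometricFor (Cfsg.quadFormPlus d F) W W₀) ↔
      (Module.finrank F W = m ∧ NDeg (qPlus (F := F) d) W ∧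
        (res (qPlus (F := F) d) W).Equivalent (res (qPlus (F := F) d) W₀)) :=
    fun W => by rw [nDeg_iff_on hf, equiv_iff_on hf]
  have hm1 := Nat.odd_iff.mp hm
  by_cases hr2 : r = 2
  · subst hr2
    rw [odd_two_scalar hf hQ (by omega) h2 hcard hm hW₀n hW₀.1 hP]
    simp only [Quarters, iff_true_intro hpl, lt_irrefl, and_false, false_and, or_false, true_and,
      not_true, Nat.even_iff, Nat.odd_iff]
    omega
  by_cases hrp : r = p
  · subst hrp
    refine iff_of_false (fun H => ?_) (by rintro (⟨h, -⟩ | ⟨h, -⟩ | ⟨h, -⟩) <;> first | exact hr2 h | exact h rfl)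
    rcases Nat.even_or_odd d with hde | hdo
    · obtain ⟨x, hx, -, hsc, hns, hW⟩ := exists_derange hr2 hf hQ (by omega)
        (μ := Multiset.replicate d 2) (fun b hb => by
          rw [Multiset.eq_of_mem_replicate hb]
          exact (Fact.out : r.Prime).two_le)
        ⟨2, Multiset.mem_replicate.mpr ⟨by omega, rfl⟩, le_rfl⟩ (realises_twos h2 hQ hde hn hpl)
      obtain ⟨W, hPW, hmap⟩ := H x hx hsc hns
      obtain ⟨hWd, hWn, -⟩ := (hP W).mp hPW
      obtain ⟨⟨ν, hν, hνs, hνp, -⟩, -⟩ := hW W hmap hWn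
      obtain ⟨u, hu, -⟩ := Elusive19.OrthUnipotent.even_sum_replicate_two hν hνp
      omega
    · have hd1 := Nat.odd_iff.mp hdo
      obtain ⟨x, hx, hsc, hns, hW⟩ := derange_odd_dim hr2 hf hQ hdo (by omega) hcard hm
      obtain ⟨W, hPW, hmap⟩ := H x hx hsc hns
      obtain ⟨hWd, hWn, -⟩ := (hP W).mp hPW
      exact hW W hmap hWn hWd
  have hrF : (r : F) ≠ 0 := natCast_ne_zero_of_ne hrp
  rw [odd_scalar hf hQ (by omega) hr2 hrF hm (by omega) (by rw [hcard]; exact even_two_mul d) hW₀n hW₀.1 hP hrΩ,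
    hcard, ← hi]
  have hipos : 0 < i := hi ▸ orderOf_card_pos hrF
  have hcp : pdim i = c := by rw [hc, pdim]
  have hcev : c % 2 = 0 := hcp ▸ Nat.even_iff.mp (even_pdim i)
  have hN : 2 * d % c % 2 = 0 := by
    rw [Nat.mod_mod_of_dvd _ (Nat.dvd_of_mod_eq_zero hcev)]; omega
  have hl : m % c % 2 = 1 := by
    rw [Nat.mod_mod_of_dvd _ (Nat.dvd_of_mod_eq_zero hcev)]; exact hm1
  have h1 : 1 ≤ m / c ↔ c ≤ m := Nat.one_le_div_iff (by rw [← hcp]; exact pdim_pos hipos)
  have hlt : 2 < r := lt_of_le_of_ne (Fact.out : r.Prime).two_le (Ne.symm hr2)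
  simp only [CondOdd, hcp, h1, iff_true_intro hpl, hr2, hlt, hrp, false_and, false_or, ne_eq,
    not_false_iff, true_and, true_iff]
  rcases Nat.even_or_odd i with he | ho
  · have hci : c = i := by rw [hc, if_pos he]
    have hno : ¬ Odd i := Nat.not_odd_iff_even.mpr he
    simp only [he, hno, false_and, false_or, true_and, par_even he, hci] at *
    simp only [Nat.even_iff, Nat.odd_iff]
    omega
  · have hne : ¬ Even i := Nat.not_even_iff_odd.mpr ho
    simp only [ho, hne, par_odd ho, false_and, or_false, true_and, and_false, false_or, not_true] at *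
    omega

end Cfsg.Agent.S5989
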