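import Cfsg.Statements.S5990
import Cfsg.Agent.Lib.K41.Der.Final
import Cfsg.Agent.Lib.K41.Der.Char2
-- import your own Cfsg.Agent.* helpers here

set_option autoImplicit false
open scoped MatrixGroups
open Cfsg

namespace Cfsg.Agent.S5990

open Cfsg.Agent.Lib Cfsg.Agent.Lib.K41.Der Cfsg.Agent.Lib.Forms Cfsg.Agent.Lib.Elusive


/-- Elements of prime order of PΩ⁻_n(q) with no fixed elliptic `m`-space. Here `T = PΩ⁻_n(F)`, `n = 2d ≥ 8`, realised through `Ω⁻_n(q)`, the commutator subgroup of the isometry group of `Q = Σ_{i<d−1} xᵢyᵢ + z₁² + a z₁z₂ + b z₂²` with `z₁² + a z₁z₂ + b z₂²` anisotropic, over the field `F` with `q` elements; an element of `T` of prime order `r` is an element `x` of `Ω⁻_n(q)` with `x^r` scalar and `x` not scalar; a nondegenerate `m`-space (even `m`) is a subspace on which the polar form of `Q` is nondegenerate; it is hyperbolic if it contains an `m/2`-dimensional subspace on which `Q` vanishes,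 elliptic otherwise. Let `m` be even with `2 ≤ m ≤ n − 2` (no restriction `m < n/2`: fixing an elliptic `m`-space is the same as fixing its hyperbolic orthogonal complement) and let `r` be a prime dividing the number of elliptic `m`-spaces, with `r = 2` or `r ≠ p`; for `r ≠ p` let `i` be the multiplicative order of `q` modulo `r`, `c = i` for `i` even and `c = 2i` for `i` odd, and write `k = n mod c`, `ℓ = m mod i`, `ℓ' = m mod c`, `n' = ⌊n/i⌋`, `m' = ⌊m/i⌋`, `t = (r−1)/i`. Then every element of `T` of order `r` fixes some elliptic `m`-space if and only if one of: (i) `r = p = 2` and (`n ≡ 0 (mod 4)` or `m ≡ 2 (mod 4)`); (ii) `r = 2 ≠ p` and (`n ≡ 0 (mod 4)`, or `q ≢ 7 (mod 8)`, or `m ≡ 2 (mod 4)`); (iii) `r ≠ p` odd, `i` odd, and `k = 0` or (`c ≤ m` and `k ≥ ℓ' > 0`); (iv) `r ≠ p` odd, `i` even, and either `k = 0` and (`n/i` even, or `ℓ' = 0` and `m/i` odd), or `k > 0`, `i ≤ m` and (`k > ℓ' > 0`, or `ℓ' = 0` and `m/i`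 odd, or `k = ℓ'` and `(n + m − 2k)/i` even). (Odd `r = p` is not covered by this statement.) -/
theorem result {F : Type*} [Field F] [Fintype F] {p : ℕ} [Fact p.Prime] [CharP F p] {q : ℕ} (hq : Fintype.card F = q)
    (d m : ℕ) (hd : 4 ≤ d) (hm : 2 ≤ m) (hme : Even m) (hmn : m + 2 ≤ 2 * d) (a b : F) (hab : ∀ x y : F, x ^ 2 + a * x * y + b * y ^ 2 = 0 → x = 0 ∧ y = 0)
    (r : ℕ) [Fact r.Prime] (hr : r = 2 ∨ r ≠ p)
    (hrΩ : r ∣ Nat.card {W : Submodule F ((Fin (d - 1) ⊕ Fin (d - 1)) ⊕ Fin 2 → F) // Module.finrank F ↥W = m ∧ Cfsg.Geo.IsNondegenerateOn (QuadraticMap.polar (Cfsg.quadFormMinus (d - 1) F a b)) W ∧ ¬ Cfsg.Geo.IsPlusTypeOn (Cfsg.quadFormMinus (d - 1) F a b) W})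
    (i c : ℕ) (hi : i = orderOf (q : ZMod r)) (hc : c = if Even i then i else 2 * i) :
    (∀ x : GL ((Fin (d - 1) ⊕ Fin (d - 1)) ⊕ Fin 2) F, x ∈ Cfsg.Geo.omegaGL (Cfsg.quadFormMinus (d - 1) F a b) →
      (∃ z : F, ((x ^ r : GL ((Fin (d - 1) ⊕ Fin (d - 1)) ⊕ Fin 2) F) : Matrix ((Fin (d - 1) ⊕ Fin (d - 1)) ⊕ Fin 2) ((Fin (d - 1) ⊕ Fin (d - 1)) ⊕ Fin 2) F) = z • (1 : Matrix ((Fin (d - 1) ⊕ Fin (d - 1)) ⊕ Fin 2) ((Fin (d - 1) ⊕ Fin (d - 1)) ⊕ Fin 2) F)) →
      (∀ z : F, (x : Matrix ((Fin (d - 1) ⊕ Fin (d - 1)) ⊕ Fin 2) ((Fin (d - 1) ⊕ Fin (d - 1)) ⊕ Fin 2) F) ≠ z • (1 : Matrix ((Fin (d - 1) ⊕ Fin (d - 1)) ⊕ Fin 2) ((Fin (d - 1) ⊕ Fin (d - 1)) ⊕ Fin 2) F)) →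
      ∃ W : Submodule F ((Fin (d - 1) ⊕ Fin (d - 1)) ⊕ Fin 2 → F), (Module.finrank F ↥W = m ∧ Cfsg.Geo.IsNondegenerateOn (QuadraticMap.polar (Cfsg.quadFormMinus (d - 1) F a b)) W ∧ ¬ Cfsg.Geo.IsPlusTypeOn (Cfsg.quadFormMinus (d - 1) F a b) W) ∧ W.map (Matrix.toLin' (x : Matrix ((Fin (d - 1) ⊕ Fin (d - 1)) ⊕ Fin 2) ((Fin (d - 1) ⊕ Fin (d - 1)) ⊕ Fin 2) F)) ≤ W) ↔
    ((r = 2 ∧ p = 2 ∧ (Even d ∨ m % 4 = 2)) ∨
     (r = 2 ∧ p ≠ 2 ∧ (Even d ∨ q % 8 ≠ 7 ∨ m % 4 = 2)) ∨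
     (r ≠ p ∧ 2 < r ∧ Odd i ∧ ((2 * d) % c = 0 ∨ (c ≤ m ∧ 0 < m % c ∧ m % c ≤ (2 * d) % c))) ∨
     (r ≠ p ∧ 2 < r ∧ Even i ∧
       (((2 * d) % c = 0 ∧ (Even ((2 * d) / i) ∨ (m % c = 0 ∧ Odd (m / i)))) ∨
        (0 < (2 * d) % c ∧ i ≤ m ∧ ((0 < m % c ∧ m % c < (2 * d) % c) ∨ (m % c = 0 ∧ Odd (m / i)) ∨
                                    (m % c = (2 * d) % c ∧ Even ((2 * d + m - 2 * ((2 * d) % c)) / i))))))) := by
  subst hq
  have hcard : Fintype.card ((Fin (d - 1) ⊕ Fin (d - 1)) ⊕ Fin 2) = 2 * d := by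
    simp only [Fintype.card_sum, Fintype.card_fin]; omega
  have hf : ∀ v, Cfsg.quadFormMinus (d - 1) F a b v = qMinus (d - 1) a b v := fun v => (qMinus_apply _ a b v).symm
  have hQ := qMinus_nondeg (d - 1) hab
  have hn := (Module.finrank_fintype_fun_eq_card (η := (Fin (d - 1) ⊕ Fin (d - 1)) ⊕ Fin 2) F).trans hcard
  have hpl : ¬ Plus (qMinus (d - 1) a b) := plus_qMinus (d - 1) hab
  have hm2 := Nat.even_iff.mp hme
  have hP : ∀ W : Submodule F ((Fin (d - 1) ⊕ Fin (d - 1)) ⊕ Fin 2 → F),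
      (Module.finrank F W = m ∧ Cfsg.Geo.IsNondegenerateOn (QuadraticMap.polar (Cfsg.quadFormMinus (d - 1) F a b)) W ∧
        ¬ Cfsg.Geo.IsPlusTypeOn (Cfsg.quadFormMinus (d - 1) F a b) W) ↔
      (Module.finrank F W = m ∧ NDeg (qMinus (d - 1) a b) W ∧ (Plus (res (qMinus (d - 1) a b) W) ↔ False)) :=
    fun W => by rw [nDeg_iff_on hf, plus_iff_on hf, iff_false]
  by_cases hr2 : r = 2
  · subst hr2
    by_cases hp2 : p = 2
    · subst hp2
      have h2 : (2 : F) = 0 := CharTwo.two_eq_zero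
      simp only [lt_irrefl, and_false, false_and, or_false, true_and, ne_eq, not_true]
      constructor
      · intro H
        by_contra hc'
        rw [Nat.even_iff] at hc'
        obtain ⟨N, hI, halt, hR⟩ := exists_twos hQ (j := d / 2) hn (Or.inr (by omega))
        obtain ⟨x, hx, hsc, hns, hxN⟩ := omega_of_inv2 hf (by omega) hI ⟨d / 2, by omega⟩ (fun h0 => by
          rw [h0, LinearMap.range_zero, finrank_bot] at hR
          omega)
        obtain ⟨W, hPW, hmap⟩ := H x hx hsc hns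
        obtain ⟨hWd, hWn, hWP⟩ := (hP W).mp hPW
        have hWN : ∀ v ∈ W, N v ∈ W := fun v hv => by
          have h1 : v + N v ∈ W := hxN v ▸ hmap ⟨v, hv, rfl⟩
          simpa using W.sub_mem h1 hv
        exact hWP.mp ((hI.twos halt hn (by omega) hWN hWn).1 (by omega))
      · intro hcond x hx hsc hns
        obtain ⟨N, hI, hxN⟩ := inv2_of_omega hf hQ h2 (by omega) hx hsc
        obtain ⟨W, hW, hWn, hWd, hWP⟩ := hI.exists_class hn hme hm hmn
          (Or.inr hpl) False (iff_of_false id hpl) fun _ => hcond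
        refine ⟨W, (hP W).mpr ⟨hWd, hWn, hWP⟩, ?_⟩
        rintro _ ⟨v, hv, rfl⟩
        rw [hxN]
        exact W.add_mem hv (hW v hv)
    have hrF : ((2 : ℕ) : F) ≠ 0 := natCast_ne_zero_of_ne (p := p) (Ne.symm hp2)
    have h2 : (2 : F) ≠ 0 := by exact_mod_cast hrF
    have hodd : Fintype.card F % 2 = 1 := Nat.odd_iff.mp
      ((Nat.card_eq_fintype_card (α := F)) ▸ odd_card_of_two_ne h2)
    rw [nd_two_scalar hf hQ (by omega) h2 hcard hme hm (by omega) False hP]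
    simp only [Quarters, TwoPar, iff_false_intro hpl, lt_irrefl, and_false, false_and, or_false, false_or,
      true_and, not_false_iff, iff_false, ne_eq, hp2, Nat.even_iff, Nat.odd_iff]
    omega
  have hrp : r ≠ p := hr.resolve_left hr2
  have hrF : (r : F) ≠ 0 := natCast_ne_zero_of_ne hrp
  rw [nd_scalar hf hQ (by omega) hr2 hrF hme hm (by omega) False hP hrΩ, hcard, ← hi]
  have hipos : 0 < i := hi ▸ orderOf_card_pos hrF
  have hcp : pdim i = c := by rw [hc, pdim]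
  have hcpos : 0 < c := hcp ▸ pdim_pos hipos
  have h1 : 1 ≤ m / c ↔ c ≤ m := Nat.one_le_div_iff hcpos
  have hcm : m % c = 0 → c ≤ m := fun h => Nat.le_of_dvd (by omega) (Nat.dvd_of_mod_eq_zero h)
  have hlt : 2 < r := lt_of_le_of_ne (Fact.out : r.Prime).two_le (Ne.symm hr2)
  have hsum : m % c = 2 * d % c → (2 * d + m - 2 * (2 * d % c)) / c = 2 * d / c + m / c := fun h => by
    have h3 := div_mod_eq (2 * d) c
    have h4 := div_mod_eq m c
    rw [show 2 * d + m - 2 * (2 * d % c) = (2 * d / c + m / c) * c by rw [Nat.add_mul]; omega,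
      Nat.mul_div_cancel _ hcpos]
  simp only [CondND, hcp, h1, iff_false_intro hpl, hr2, hlt, hrp, false_and, false_or, ne_eq, not_false_iff, true_and,
    iff_true, true_iff, iff_false, false_iff]
  rcases Nat.even_or_odd i with he | ho
  · have hci : c = i := by rw [hc, if_pos he]
    have hno : ¬ Odd i := Nat.not_odd_iff_even.mpr he
    simp only [he, hno, false_and, false_or, true_and, par_even he, hci] at *
    simp only [Nat.even_iff, Nat.odd_iff]
    omega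
  · have hne : ¬ Even i := Nat.not_even_iff_odd.mpr ho
    simp only [ho, hne, par_odd ho, false_and, or_false, true_and, and_false, and_true, false_or, not_true,
      not_false_iff, iff_true, iff_self] at *
    omega

end Cfsg.Agent.S5990
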