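import Cfsg.Statements.S5991
import Cfsg.Agent.Lib.K41.Der.Final
import Cfsg.Agent.Lib.K41.Der.Special
-- import your own Cfsg.Agent.* helpers here

set_option autoImplicit false
open scoped MatrixGroups
open Cfsg

namespace Cfsg.Agent.S5991

open Cfsg.Agent.Lib Cfsg.Agent.Lib.K41.Der Cfsg.Agent.Lib.Forms Cfsg.Agent.Lib.Elusive


/-- Elements of prime order of PΩ⁻_n(q), q odd, with no fixed nondegenerate `m`-space of odd dimension. Here `T = PΩ⁻_n(F)`, `n = 2d ≥ 8`, realised through `Ω⁻_n(q)`, the commutator subgroup of the isometry group of `Q = Σ_{i<d−1} xᵢyᵢ + z₁² + a z₁z₂ + b z₂²` with `z₁² + a z₁z₂ + b z₂²` anisotropic, over the field `F` with `q` elements; an element of `T` of prime order `r` is an element `x` of `Ω⁻_n(q)` with `x^r` scalar and `x` not scalar; `q` and `m` are odd, `1 ≤ m < n/2`. The nondegenerate `m`-spaces fall into two isometry classes, each an orbit of `T`, with equivalent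 actions; fix one such space `W₀` and let Ω be the set of nondegenerate `m`-spaces isometric to `W₀`. Let `r` be a prime dividing the size of Ω; for `r ≠ p` let `i` be the multiplicative order of `q` modulo `r`, `c = i` for `i` even and `c = 2i` for `i` odd, and write `k = n mod c`, `ℓ = m mod i`, `ℓ' = m mod c`, `n' = ⌊n/i⌋`, `m' = ⌊m/i⌋`, `t = (r−1)/i`. Then every element of `T` of order `r` fixes a member of Ω if and only if one of: (i) `r = 2` and (`n ≡ 0 (mod 4)` or `q ≢ 7 (mod 8)`); (ii) `r ≠ p` odd, `i` odd, and `k = 0` or (`c ≤ m` and `k > ℓ' > 0`); (iii) `r ≠ p` odd, `i` even, and either `k = 0` and `n/i` even, or `k > 0`, `i ≤ m` and `k > ℓ' > 0`. (For `r = p` there is always an element of order `p` fixing no member of Ω.) -/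
theorem result {F : Type*} [Field F] [Fintype F] {p : ℕ} [Fact p.Prime] [CharP F p] {q : ℕ} (hq : Fintype.card F = q)
    (hodd : Odd q) (d m : ℕ) (hd : 4 ≤ d) (hm : Odd m) (hmd : m < d) (a b : F) (hab : ∀ x y : F, x ^ 2 + a * x * y + b * y ^ 2 = 0 → x = 0 ∧ y = 0)
    (W₀ : Submodule F ((Fin (d - 1) ⊕ Fin (d - 1)) ⊕ Fin 2 → F)) (hW₀ : Module.finrank F ↥W₀ = m ∧ Cfsg.Geo.IsNondegenerateOn (QuadraticMap.polar (Cfsg.quadFormMinus (d - 1) F a b)) W₀)
    (r : ℕ) [Fact r.Prime]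
    (hrΩ : r ∣ Nat.card {W : Submodule F ((Fin (d - 1) ⊕ Fin (d - 1)) ⊕ Fin 2 → F) // Module.finrank F ↥W = m ∧ Cfsg.Geo.IsNondegenerateOn (QuadraticMap.polar (Cfsg.quadFormMinus (d - 1) F a b)) W ∧ Cfsg.Geo.AreIsometricFor (Cfsg.quadFormMinus (d - 1) F a b) W W₀})
    (i c : ℕ) (hi : i = orderOf (q : ZMod r)) (hc : c = if Even i then i else 2 * i) :
    (∀ x : GL ((Fin (d - 1) ⊕ Fin (d - 1)) ⊕ Fin 2) F, x ∈ Cfsg.Geo.omegaGL (Cfsg.quadFormMinus (d - 1) F a b) →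
      (∃ z : F, ((x ^ r : GL ((Fin (d - 1) ⊕ Fin (d - 1)) ⊕ Fin 2) F) : Matrix ((Fin (d - 1) ⊕ Fin (d - 1)) ⊕ Fin 2) ((Fin (d - 1) ⊕ Fin (d - 1)) ⊕ Fin 2) F) = z • (1 : Matrix ((Fin (d - 1) ⊕ Fin (d - 1)) ⊕ Fin 2) ((Fin (d - 1) ⊕ Fin (d - 1)) ⊕ Fin 2) F)) →
      (∀ z : F, (x : Matrix ((Fin (d - 1) ⊕ Fin (d - 1)) ⊕ Fin 2) ((Fin (d - 1) ⊕ Fin (d - 1)) ⊕ Fin 2) F) ≠ z • (1 : Matrix ((Fin (d - 1) ⊕ Fin (d - 1)) ⊕ Fin 2) ((Fin (d - 1) ⊕ Fin (d - 1)) ⊕ Fin 2) F)) →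
      ∃ W : Submodule F ((Fin (d - 1) ⊕ Fin (d - 1)) ⊕ Fin 2 → F), (Module.finrank F ↥W = m ∧ Cfsg.Geo.IsNondegenerateOn (QuadraticMap.polar (Cfsg.quadFormMinus (d - 1) F a b)) W ∧ Cfsg.Geo.AreIsometricFor (Cfsg.quadFormMinus (d - 1) F a b) W W₀) ∧ W.map (Matrix.toLin' (x : Matrix ((Fin (d - 1) ⊕ Fin (d - 1)) ⊕ Fin 2) ((Fin (d - 1) ⊕ Fin (d - 1)) ⊕ Fin 2) F)) ≤ W) ↔
    ((r = 2 ∧ (Even d ∨ q % 8 ≠ 7)) ∨
     (r ≠ p ∧ 2 < r ∧ Odd i ∧ ((2 * d) % c = 0 ∨ (c ≤ m ∧ 0 < m % c ∧ m % c < (2 * d) % c))) ∨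
     (r ≠ p ∧ 2 < r ∧ Even i ∧ (((2 * d) % c = 0 ∧ Even ((2 * d) / i)) ∨ (0 < (2 * d) % c ∧ i ≤ m ∧ 0 < m % c ∧ m % c < (2 * d) % c)))) := by
  subst hq
  have h2 : (2 : F) ≠ 0 := two_ne_zero_of_odd rfl hodd
  have hcard : Fintype.card ((Fin (d - 1) ⊕ Fin (d - 1)) ⊕ Fin 2) = 2 * d := by
    simp only [Fintype.card_sum, Fintype.card_fin]; omega
  have hf : ∀ v, Cfsg.quadFormMinus (d - 1) F a b v = qMinus (d - 1) a b v := fun v => (qMinus_apply _ a b v).symm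
  have hQ := qMinus_nondeg (d - 1) hab
  have hn := (Module.finrank_fintype_fun_eq_card (η := (Fin (d - 1) ⊕ Fin (d - 1)) ⊕ Fin 2) F).trans hcard
  have hpl : ¬ Plus (qMinus (d - 1) a b) := plus_qMinus (d - 1) hab
  have hW₀n : NDeg (qMinus (d - 1) a b) W₀ := (nDeg_iff_on hf W₀).mp hW₀.2
  have hP : ∀ W : Submodule F ((Fin (d - 1) ⊕ Fin (d - 1)) ⊕ Fin 2 → F),
      (Module.finrank F W = m ∧ Cfsg.Geo.IsNondegenerateOn (QuadraticMap.polar (Cfsg.quadFormMinus (d - 1) F a b)) W ∧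
        Cfsg.Geo.AreIsometricFor (Cfsg.quadFormMinus (d - 1) F a b) W W₀) ↔
      (Module.finrank F W = m ∧ NDeg (qMinus (d - 1) a b) W ∧
        (res (qMinus (d - 1) a b) W).Equivalent (res (qMinus (d - 1) a b) W₀)) :=
    fun W => by rw [nDeg_iff_on hf, equiv_iff_on hf]
  have hm1 := Nat.odd_iff.mp hm
  by_cases hr2 : r = 2
  · subst hr2
    rw [odd_two_scalar hf hQ (by omega) h2 hcard hm hW₀n hW₀.1 hP]
    simp only [Quarters, iff_false_intro hpl, lt_irrefl, and_false, false_and, or_false, false_or, true_and,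
      not_false_iff, Nat.even_iff, Nat.odd_iff]
    omega
  by_cases hrp : r = p
  · subst hrp
    refine iff_of_false (fun H => ?_) (by rintro (⟨h, -⟩ | ⟨h, -⟩ | ⟨h, -⟩) <;> first | exact hr2 h | exact h rfl)
    rcases Nat.even_or_odd d with hde | hdo
    · have hde1 := Nat.even_iff.mp hde
      obtain ⟨X₀, hX₀, hX₀d, hX₀W⟩ : ∃ X₀ : Submodule F ((Fin (d - 1) ⊕ Fin (d - 1)) ⊕ Fin 2 → F),
          NDeg (qMinus (d - 1) a b) X₀ ∧ Module.finrank F X₀ % 4 = 1 ∧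
          ((m % 4 = 1 ∧ X₀ = W₀) ∨ (m % 4 = 3 ∧ X₀ = perp (qMinus (d - 1) a b) W₀)) := by
        by_cases h4 : m % 4 = 1
        · exact ⟨W₀, hW₀n, by rw [hW₀.1]; exact h4, Or.inl ⟨h4, rfl⟩⟩
        · obtain ⟨h, -, hdim⟩ := split_top hQ hW₀n
          rw [hn, hW₀.1] at hdim
          exact ⟨_, h, by omega, Or.inr ⟨by omega, rfl⟩⟩
      rcases classify _ hX₀ with ⟨k, hk, -⟩ | ⟨k, c₀, hc₀, -, hk, hX₀e⟩ | ⟨k, _, _, -, hk, -⟩
      · omega
      swap
      · omega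
      obtain ⟨ν, hν⟩ := exists_nonsq (F := F) h2
      have hν0 : ν ≠ 0 := fun h0 => hν (h0 ▸ ⟨0, by rw [mul_zero]⟩)
      obtain ⟨N, hiso, hN3, hN0, hX⟩ := exists_three_one h2 hQ hde (by omega) hn (mul_ne_zero hc₀ hν0)
      have hr3 : 3 ≤ r := by have := (Fact.out : r.Prime).two_le; omega
      obtain ⟨x, hx, -, hsc, hns, hxN⟩ := unip_omega hr2 hf hQ (by omega) hiso (pow_eq_zero_of_le hr3
        (LinearMap.ext fun v => by rw [pow_succ, pow_succ, pow_one]; exact hN3 v)) hN0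
      obtain ⟨W, hPW, hmap⟩ := H x hx hsc hns
      obtain ⟨hWd, hWn, hWe⟩ := (hP W).mp hPW
      have hWN : ∀ v ∈ W, N v ∈ W := fun v hv => by
        have h1 : v + N v ∈ W := hxN v ▸ hmap ⟨v, hv, rfl⟩
        simpa using W.sub_mem h1 hv
      obtain ⟨X, hXN, hXn, hXe⟩ : ∃ X, (∀ v ∈ X, N v ∈ X) ∧ NDeg (qMinus (d - 1) a b) X ∧
          (res (qMinus (d - 1) a b) X).Equivalent (res (qMinus (d - 1) a b) X₀) := by
        rcases hX₀W with ⟨-, rfl⟩ | ⟨-, rfl⟩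
        · exact ⟨W, hWN, hWn, hWe⟩
        · exact ⟨_, perp_inv hQ hiso hWN, (split_top hQ hWn).1, perp_equiv hQ hWe⟩
      have hXd : Module.finrank F X = Module.finrank F X₀ :=
        hXe.elim fun e => e.toLinearEquiv.finrank_eq
      have h1 := hX X hXN hXn (by omega)
      rw [show Module.finrank F X / 2 = k by omega] at h1
      exact not_equiv_scale h2 hc₀ hν (h1.symm.trans (hXe.trans hX₀e))
    · have hd1 := Nat.odd_iff.mp hdo
      obtain ⟨x, hx, hsc, hns, hW⟩ := derange_odd_dim hr2 hf hQ hdo (by omega) hcard hm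
      obtain ⟨W, hPW, hmap⟩ := H x hx hsc hns
      obtain ⟨hWd, hWn, -⟩ := (hP W).mp hPW
      exact hW W hmap hWn hWd
  have hrF : (r : F) ≠ 0 := natCast_ne_zero_of_ne hrp
  rw [odd_scalar hf hQ (by omega) hr2 hrF hm (by omega) (by rw [hcard]; exact even_two_mul d) hW₀n hW₀.1 hP hrΩ,
    hcard, ← hi]
  have hipos : 0 < i := hi ▸ orderOf_card_pos hrF
  have hcp : pdim i = c := by rw [hc, pdim]
  have hcev : c % 2 = 0 := hcp ▸ Nat.even_iff.mp (even_pdim i)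
  have hN : 2 * d % c % 2 = 0 := by
    rw [Nat.mod_mod_of_dvd _ (Nat.dvd_of_mod_eq_zero hcev)]; omega
  have hl : m % c % 2 = 1 := by
    rw [Nat.mod_mod_of_dvd _ (Nat.dvd_of_mod_eq_zero hcev)]; exact hm1
  have h1 : 1 ≤ m / c ↔ c ≤ m := Nat.one_le_div_iff (by rw [← hcp]; exact pdim_pos hipos)
  have hlt : 2 < r := lt_of_le_of_ne (Fact.out : r.Prime).two_le (Ne.symm hr2)
  simp only [CondOdd, hcp, h1, iff_false_intro hpl, hr2, hlt, hrp, false_and, false_or, ne_eq,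
    not_false_iff, true_and, false_iff, Classical.not_not]
  rcases Nat.even_or_odd i with he | ho
  · have hci : c = i := by rw [hc, if_pos he]
    have hno : ¬ Odd i := Nat.not_odd_iff_even.mpr he
    simp only [he, hno, false_and, false_or, true_and, par_even he, hci] at *
    simp only [Nat.even_iff, Nat.odd_iff]
    omega
  · have hne : ¬ Even i := Nat.not_even_iff_odd.mpr ho
    simp only [ho, hne, par_odd ho, false_and, or_false, true_and, and_false, and_true, false_or] at *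
    omega


end Cfsg.Agent.S5991
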