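import Cfsg.Statements.S5992
import Cfsg.Agent.Lib.K41.Der.Final
-- import your own Cfsg.Agent.* helpers here

set_option autoImplicit false
open scoped MatrixGroups
open Cfsg

namespace Cfsg.Agent.S5992

open Cfsg.Agent.Lib Cfsg.Agent.Lib.K41.Der Cfsg.Agent.Lib.Forms Cfsg.Agent.Lib.Elusive


/-- Elements of prime order r ≠ p of Ω_n(q), nq odd, with no fixed hyperbolic `m`-space. Here `T = Ω_n(F)`, `n = 2d+1 ≥ 7`, `q` odd, realised as the commutator subgroup of the isometry group of `Q = x₀² + Σ xᵢyᵢ` over the field `F` with `q` elements (trivial centre, so its elements of prime order `r` are used directly); a nondegenerate `m`-space (even `m`) is a subspace on which the polar form of `Q` is nondegenerate; it is hyperbolic if it contains an `m/2`-dimensional subspace on which `Q` vanishes, elliptic otherwise. Let `m` be even with `2 ≤ m ≤ n − 1` (no restriction `m < n/2`) and let `r ≠ p` be a prime dividing the number of hyperbolic `m`-spaces;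 for `r ≠ p` let `i` be the multiplicative order of `q` modulo `r`, `c = i` for `i` even and `c = 2i` for `i` odd, and write `k = n mod c`, `ℓ' = m mod c`. Then every element of `T` of order `r` fixes some hyperbolic `m`-space if and only if `r = 2`, or `r` is odd and one of: (i) `i` odd, `c ≤ m` and either `k > ℓ' > 0` or `ℓ' = 0`; (ii) `i` even, `i ≤ m`, `k > ℓ'`, and `m/i` even whenever `ℓ' = 0`. (`r = p` is not covered by this statement.) -/
theorem result {F : Type*} [Field F] [Fintype F] {p : ℕ} [Fact p.Prime] [CharP F p] {q : ℕ} (hq : Fintype.card F = q) (hqodd : Odd q)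
    (d m : ℕ) (hd : 3 ≤ d) (hm : 2 ≤ m) (hme : Even m) (hmn : m ≤ 2 * d)
    (r : ℕ) [Fact r.Prime] (hrp : r ≠ p)
    (hrΩ : r ∣ Nat.card {W : Submodule F (Unit ⊕ (Fin d ⊕ Fin d) → F) // Module.finrank F ↥W = m ∧ Cfsg.Geo.IsNondegenerateOn (QuadraticMap.polar (Cfsg.quadFormOdd d F)) W ∧ Cfsg.Geo.IsPlusTypeOn (Cfsg.quadFormOdd d F) W})
    (i c : ℕ) (hi : i = orderOf (q : ZMod r)) (hc : c = if Even i then i else 2 * i) :
    (∀ x : GL (Unit ⊕ (Fin d ⊕ Fin d)) F, x ∈ Cfsg.Geo.omegaGL (Cfsg.quadFormOdd d F) → orderOf x = r →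
      ∃ W : Submodule F (Unit ⊕ (Fin d ⊕ Fin d) → F), (Module.finrank F ↥W = m ∧ Cfsg.Geo.IsNondegenerateOn (QuadraticMap.polar (Cfsg.quadFormOdd d F)) W ∧ Cfsg.Geo.IsPlusTypeOn (Cfsg.quadFormOdd d F) W) ∧ W.map (Matrix.toLin' (x : Matrix (Unit ⊕ (Fin d ⊕ Fin d)) (Unit ⊕ (Fin d ⊕ Fin d)) F)) ≤ W) ↔
    (r = 2 ∨
     (2 < r ∧ Odd i ∧ c ≤ m ∧ (m % c = 0 ∨ (0 < m % c ∧ m % c < (2 * d + 1) % c))) ∨
     (2 < r ∧ Even i ∧ i ≤ m ∧ m % c < (2 * d + 1) % c ∧ (0 < m % c ∨ Even (m / i)))) := by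
  subst hq
  have h2 : (2 : F) ≠ 0 := two_ne_zero_of_odd rfl hqodd
  have hcard : Fintype.card (Unit ⊕ (Fin d ⊕ Fin d)) = 2 * d + 1 := by
    simp only [Fintype.card_sum, Fintype.card_unit, Fintype.card_fin]; omega
  have hf : ∀ v, Cfsg.quadFormOdd d F v = OrthStd.qOddC d F v := OrthStd.quadFormOdd_eq d
  have hQ := qOddC_nondeg h2 d
  have hpl : ¬ Plus (OrthStd.qOddC d F) :=
    not_plus_of_odd ((Module.finrank_fintype_fun_eq_card F).trans hcard)
  have hP : ∀ W : Submodule F (Unit ⊕ (Fin d ⊕ Fin d) → F),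
      (Module.finrank F W = m ∧ Cfsg.Geo.IsNondegenerateOn (QuadraticMap.polar (Cfsg.quadFormOdd d F)) W ∧
        Cfsg.Geo.IsPlusTypeOn (Cfsg.quadFormOdd d F) W) ↔
      (Module.finrank F W = m ∧ NDeg (OrthStd.qOddC d F) W ∧ (Plus (res (OrthStd.qOddC d F) W) ↔ True)) :=
    fun W => by rw [nDeg_iff_on hf, plus_iff_on hf, iff_true]
  by_cases hr2 : r = 2
  · subst hr2
    exact iff_of_true (nd_two_order hf hQ (by omega) h2 (hcard ▸ odd_two_mul_add_one d) hme hm (by omega) True hP)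
      (Or.inl rfl)
  have hrF : (r : F) ≠ 0 := natCast_ne_zero_of_ne hrp
  rw [nd_order hf hQ (by omega) hr2 hrF hme hm (by omega) True hP hrΩ, hcard, ← hi]
  have hipos : 0 < i := hi ▸ orderOf_card_pos hrF
  have hcp : pdim i = c := by rw [hc, pdim]
  have hcev : Even c := hcp ▸ even_pdim i
  have hN : 0 < (2 * d + 1) % c := Nat.pos_of_ne_zero fun h =>
    Nat.not_even_iff_odd.mpr (odd_two_mul_add_one d) (even_iff_two_dvd.mpr (hcev.two_dvd.trans (Nat.dvd_of_mod_eq_zero h)))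
  have hne : m % c ≠ (2 * d + 1) % c := fun h => by
    have h3 := (Nat.even_iff.mp hcev)
    have h4 := Nat.mod_mod_of_dvd (2 * d + 1) hcev.two_dvd
    have h5 := Nat.mod_mod_of_dvd m hcev.two_dvd
    rw [h] at h5
    have h6 := Nat.even_iff.mp hme
    omega
  have h1 : 1 ≤ m / c ↔ c ≤ m := Nat.one_le_div_iff (by rw [← hcp]; exact pdim_pos hipos)
  have hcm : m % c = 0 → c ≤ m := fun h => Nat.le_of_dvd (by omega) (Nat.dvd_of_mod_eq_zero h)
  have hlt : 2 < r := lt_of_le_of_ne (Fact.out : r.Prime).two_le (Ne.symm hr2)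
  simp only [CondND, hcp, h1, iff_true]
  rcases Nat.even_or_odd i with he | ho
  · have hci : c = i := by rw [hc, if_pos he]
    have hno : ¬ Odd i := Nat.not_odd_iff_even.mpr he
    simp only [hr2, hlt, he, hno, false_or, true_and, false_and, par_even he, hci] at *
    constructor
    · rintro (⟨h, -⟩ | ⟨h, h'⟩ | ⟨h, -, h', h'' | ⟨h'', -⟩⟩)
      · omega
      · exact ⟨hcm h, by omega, Or.inr h'⟩
      · exact ⟨h', h'', Or.inl h⟩
      · exact absurd h'' hne
    · rintro ⟨h, h', h'' | h''⟩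
      · exact Or.inr (Or.inr ⟨h'', hN, h, Or.inl h'⟩)
      · rcases Nat.eq_zero_or_pos (m % i) with h0 | h0
        · exact Or.inr (Or.inl ⟨h0, h''⟩)
        · exact Or.inr (Or.inr ⟨h0, hN, h, Or.inl h'⟩)
  · have hne' : ¬ Even i := Nat.not_even_iff_odd.mpr ho
    simp only [hr2, hlt, ho, hne', false_or, or_false, true_and, false_and, par_odd ho, and_true] at *
    constructor
    · rintro (⟨h, -⟩ | h | ⟨h, -, h', h'' | ⟨h'', -⟩⟩)
      · omega
      · exact ⟨hcm h, Or.inl h⟩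
      · exact ⟨h', Or.inr ⟨h, h''⟩⟩
      · exact absurd h'' hne
    · rintro ⟨h, h' | ⟨h', h''⟩⟩
      · exact Or.inr (Or.inl h')
      · exact Or.inr (Or.inr ⟨h', hN, h, Or.inl h''⟩)

end Cfsg.Agent.S5992
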