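import Cfsg.Statements.S5993
import Cfsg.Agent.Lib.K41.Der.Final
import Cfsg.Agent.Lib.K41.Der.Unip
-- import your own Cfsg.Agent.* helpers here

set_option autoImplicit false
open scoped MatrixGroups
open Cfsg

namespace Cfsg.Agent.S5993

open Cfsg.Agent.Lib Cfsg.Agent.Lib.K41.Der Cfsg.Agent.Lib.Forms Cfsg.Agent.Lib.Elusive


/-- Elements of prime order of Ω_n(q), nq odd, with no fixed elliptic `m`-space. Here `T = Ω_n(F)`, `n = 2d+1 ≥ 7`, `q` odd, realised as the commutator subgroup of the isometry group of `Q = x₀² + Σ xᵢyᵢ` over the field `F` with `q` elements (trivial centre, so its elements of prime order `r` are used directly); a nondegenerate `m`-space (even `m`) is a subspace on which the polar form of `Q` is nondegenerate; it is hyperbolic if it contains an `m/2`-dimensional subspace on which `Q` vanishes, elliptic otherwise. Let `m` be even with `2 ≤ m ≤ n − 1` (no restriction `m < n/2`) and let `r` be a prime dividing the number of elliptic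 `m`-spaces; for `r ≠ p` let `i` be the multiplicative order of `q` modulo `r`, `c = i` for `i` even and `c = 2i` for `i` odd, and write `k = n mod c`, `ℓ' = m mod c`. Then every element of `T` of order `r` fixes some elliptic `m`-space if and only if `r = 2`, or `r ≠ p` is odd and one of: (i) `i` odd, `c ≤ m` and `k > ℓ' > 0`; (ii) `i` even, `i ≤ m`, `k > ℓ'`, and `m/i` odd whenever `ℓ' = 0`. (For `r = p` there is always an element of order `p` fixing no elliptic `m`-space.) -/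
theorem result {F : Type*} [Field F] [Fintype F] {p : ℕ} [Fact p.Prime] [CharP F p] {q : ℕ} (hq : Fintype.card F = q) (hqodd : Odd q)
    (d m : ℕ) (hd : 3 ≤ d) (hm : 2 ≤ m) (hme : Even m) (hmn : m ≤ 2 * d)
    (r : ℕ) [Fact r.Prime]
    (hrΩ : r ∣ Nat.card {W : Submodule F (Unit ⊕ (Fin d ⊕ Fin d) → F) // Module.finrank F ↥W = m ∧ Cfsg.Geo.IsNondegenerateOn (QuadraticMap.polar (Cfsg.quadFormOdd d F)) W ∧ ¬ Cfsg.Geo.IsPlusTypeOn (Cfsg.quadFormOdd d F) W})
    (i c : ℕ) (hi : i = orderOf (q : ZMod r)) (hc : c = if Even i then i else 2 * i) :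
    (∀ x : GL (Unit ⊕ (Fin d ⊕ Fin d)) F, x ∈ Cfsg.Geo.omegaGL (Cfsg.quadFormOdd d F) → orderOf x = r →
      ∃ W : Submodule F (Unit ⊕ (Fin d ⊕ Fin d) → F), (Module.finrank F ↥W = m ∧ Cfsg.Geo.IsNondegenerateOn (QuadraticMap.polar (Cfsg.quadFormOdd d F)) W ∧ ¬ Cfsg.Geo.IsPlusTypeOn (Cfsg.quadFormOdd d F) W) ∧ W.map (Matrix.toLin' (x : Matrix (Unit ⊕ (Fin d ⊕ Fin d)) (Unit ⊕ (Fin d ⊕ Fin d)) F)) ≤ W) ↔
    (r = 2 ∨
     (r ≠ p ∧ 2 < r ∧ Odd i ∧ c ≤ m ∧ 0 < m % c ∧ m % c < (2 * d + 1) % c) ∨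
     (r ≠ p ∧ 2 < r ∧ Even i ∧ i ≤ m ∧ m % c < (2 * d + 1) % c ∧ (0 < m % c ∨ Odd (m / i)))) := by
  subst hq
  have h2 : (2 : F) ≠ 0 := two_ne_zero_of_odd rfl hqodd
  have hcard : Fintype.card (Unit ⊕ (Fin d ⊕ Fin d)) = 2 * d + 1 := by
    simp only [Fintype.card_sum, Fintype.card_unit, Fintype.card_fin]; omega
  have hf : ∀ v, Cfsg.quadFormOdd d F v = OrthStd.qOddC d F v := OrthStd.quadFormOdd_eq d
  have hQ := qOddC_nondeg h2 d
  have hn := (Module.finrank_fintype_fun_eq_card (η := Unit ⊕ (Fin d ⊕ Fin d)) F).trans hcard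
  have hpl : ¬ Plus (OrthStd.qOddC d F) := not_plus_of_odd hn
  have hP : ∀ W : Submodule F (Unit ⊕ (Fin d ⊕ Fin d) → F),
      (Module.finrank F W = m ∧ Cfsg.Geo.IsNondegenerateOn (QuadraticMap.polar (Cfsg.quadFormOdd d F)) W ∧
        ¬ Cfsg.Geo.IsPlusTypeOn (Cfsg.quadFormOdd d F) W) ↔
      (Module.finrank F W = m ∧ NDeg (OrthStd.qOddC d F) W ∧ (Plus (res (OrthStd.qOddC d F) W) ↔ False)) :=
    fun W => by rw [nDeg_iff_on hf, plus_iff_on hf, iff_false]
  by_cases hr2 : r = 2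
  · subst hr2
    exact iff_of_true (nd_two_order hf hQ (by omega) h2 (hcard ▸ odd_two_mul_add_one d) hme hm (by omega) False hP)
      (Or.inl rfl)
  by_cases hrp : r = p
  · subst hrp
    refine iff_of_false (fun H => ?_) (by rintro (h | ⟨h, -⟩ | ⟨h, -⟩) <;> first | exact hr2 h | exact h rfl)
    have hr3 : 3 ≤ r := by have := (Fact.out : r.Prime).two_le; omega
    obtain ⟨a, j, ha, hj, hsum, ha3⟩ : ∃ a j : ℕ, Odd a ∧ Even j ∧ a + 2 * j = 2 * d + 1 ∧ a ≤ 3 := by
      rcases Nat.even_or_odd d with h | h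
      · exact ⟨1, d, odd_one, h, by omega, by omega⟩
      · exact ⟨3, d - 1, by decide, Nat.Odd.sub_odd h odd_one, by omega, le_rfl⟩
    obtain ⟨j, rfl⟩ := hj.two_dvd
    obtain ⟨x, hx, hord, -, -, hW⟩ := exists_derange hr2 hf hQ (by omega)
      (μ := a ::ₘ Multiset.replicate (2 * j) 2) (fun b hb => by
        rcases Multiset.mem_cons.mp hb with rfl | hb
        · omega
        · rw [Multiset.eq_of_mem_replicate hb]; omega)
      ⟨2, Multiset.mem_cons_of_mem (Multiset.mem_replicate.mpr ⟨by omega, rfl⟩), le_rfl⟩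
      (Elusive19.OrthUnipotent.realise h2 hQ (fun b hb => by
        rcases Multiset.mem_cons.mp hb with rfl | hb
        · exact ha.pos
        · rw [Multiset.eq_of_mem_replicate hb]; omega)
        ((Elusive19.OrthUnipotent.evenPaired_replicate j).cons ha)
        (by rw [Multiset.sum_cons, Multiset.sum_replicate, smul_eq_mul]; omega)
        ⟨a, Multiset.mem_cons_self _ _, ha⟩)
    obtain ⟨W, hPW, hmap⟩ := H x hx hord
    obtain ⟨hWd, hWn, hWP⟩ := (hP W).mp hPW
    obtain ⟨⟨ν, hν, hνs, hνp, hνP⟩, -⟩ := hW W hmap hWn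
    obtain ⟨u, ⟨-, htwo⟩ | hsum'⟩ := sub_two_one ha hν hνp
    · exact hWP.mp (hνP htwo)
    · rw [hνs, hWd] at hsum'
      have h1 := Nat.odd_iff.mp ha
      have h3 := Nat.even_iff.mp hme
      omega
  have hrF : (r : F) ≠ 0 := natCast_ne_zero_of_ne hrp
  rw [nd_order hf hQ (by omega) hr2 hrF hme hm (by omega) False hP hrΩ, hcard, ← hi]
  have hipos : 0 < i := hi ▸ orderOf_card_pos hrF
  have hcp : pdim i = c := by rw [hc, pdim]
  have hcev : c % 2 = 0 := hcp ▸ Nat.even_iff.mp (even_pdim i)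
  have hN : (2 * d + 1) % c % 2 = 1 := by
    rw [Nat.mod_mod_of_dvd _ (Nat.dvd_of_mod_eq_zero hcev)]; omega
  have hl : m % c % 2 = 0 := by
    rw [Nat.mod_mod_of_dvd _ (Nat.dvd_of_mod_eq_zero hcev)]; exact Nat.even_iff.mp hme
  have h1 : 1 ≤ m / c ↔ c ≤ m := Nat.one_le_div_iff (by rw [← hcp]; exact pdim_pos hipos)
  have hcm : m % c = 0 → c ≤ m := fun h => Nat.le_of_dvd (by omega) (Nat.dvd_of_mod_eq_zero h)
  have hlt : 2 < r := lt_of_le_of_ne (Fact.out : r.Prime).two_le (Ne.symm hr2)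
  simp only [CondND, hcp, h1, iff_false_intro hpl, hr2, hlt, hrp, false_or, ne_eq, not_false_iff, true_and,
    false_iff, iff_false]
  rcases Nat.even_or_odd i with he | ho
  · have hci : c = i := by rw [hc, if_pos he]
    have hno : ¬ Odd i := Nat.not_odd_iff_even.mpr he
    simp only [he, hno, false_and, false_or, true_and, par_even he, Nat.not_even_iff_odd, hci] at *
    simp only [Nat.even_iff, Nat.odd_iff]
    omega
  · have hne : ¬ Even i := Nat.not_even_iff_odd.mpr ho
    simp only [ho, hne, par_odd ho, false_and, or_false, true_and, and_false, false_or, not_true,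
      iff_false, false_iff, not_false_iff] at *
    omega

end Cfsg.Agent.S5993
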