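import Cfsg.Statements.S5994
import Cfsg.Agent.Lib.Elusive19.OrthUnipotent
-- import your own Cfsg.Agent.* helpers here

set_option autoImplicit false
open scoped MatrixGroups
open Cfsg

namespace Cfsg.Agent.S5994

open Cfsg.Agent.Lib.Elusive19.OrthUnipotent

/-- A necessary condition for every element of order p of PΩ⁻_n(q), q odd, to fix an elliptic `m`-space. Here `T = PΩ⁻_n(F)`, `n = 2d ≥ 8`, realised through `Ω⁻_n(q)`, the commutator subgroup of the isometry group of `Q = Σ_{i<d−1} xᵢyᵢ + z₁² + a z₁z₂ + b z₂²` with `z₁² + a z₁z₂ + b z₂²` anisotropic, over the field `F` with `q` elements; an element of `T` of prime order `r` is an element `x` of `Ω⁻_n(q)` with `x^r` scalar and `x` not scalar; `q` is odd; a nondegenerate `m`-space (even `m`) is a subspace on which the polar form of `Q` is nondegenerate; it is hyperbolic if it contains an `m/2`-dimensional subspace on which `Q` vanishes, elliptic otherwise. Let `m` be even with `2 ≤ m ≤ n −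 2` and suppose `p` divides the number of elliptic `m`-spaces. If every element of `T` of order `p` fixes some elliptic `m`-space, then `n ≡ m (mod 4)` and every partition of `n` into parts of size at most `p` in which every even part has even multiplicity contains (as a sub-multiset) a partition of `m` in which every even part has even multiplicity. -/
theorem result {F : Type*} [Field F] [Fintype F] {p : ℕ} [Fact p.Prime] [CharP F p] {q : ℕ} (hq : Fintype.card F = q) (hqodd : Odd q)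
    (d m : ℕ) (hd : 4 ≤ d) (hm : 2 ≤ m) (hme : Even m) (hmn : m + 2 ≤ 2 * d) (a b : F) (hab : ∀ x y : F, x ^ 2 + a * x * y + b * y ^ 2 = 0 → x = 0 ∧ y = 0)
    (hpΩ : p ∣ Nat.card {W : Submodule F ((Fin (d - 1) ⊕ Fin (d - 1)) ⊕ Fin 2 → F) // Module.finrank F ↥W = m ∧ Cfsg.Geo.IsNondegenerateOn (QuadraticMap.polar (Cfsg.quadFormMinus (d - 1) F a b)) W ∧ ¬ Cfsg.Geo.IsPlusTypeOn (Cfsg.quadFormMinus (d - 1) F a b) W}) :
    (∀ x : GL ((Fin (d - 1) ⊕ Fin (d - 1)) ⊕ Fin 2) F, x ∈ Cfsg.Geo.omegaGL (Cfsg.quadFormMinus (d - 1) F a b) →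
      (∃ z : F, ((x ^ p : GL ((Fin (d - 1) ⊕ Fin (d - 1)) ⊕ Fin 2) F) : Matrix ((Fin (d - 1) ⊕ Fin (d - 1)) ⊕ Fin 2) ((Fin (d - 1) ⊕ Fin (d - 1)) ⊕ Fin 2) F) = z • (1 : Matrix ((Fin (d - 1) ⊕ Fin (d - 1)) ⊕ Fin 2) ((Fin (d - 1) ⊕ Fin (d - 1)) ⊕ Fin 2) F)) →
      (∀ z : F, (x : Matrix ((Fin (d - 1) ⊕ Fin (d - 1)) ⊕ Fin 2) ((Fin (d - 1) ⊕ Fin (d - 1)) ⊕ Fin 2) F) ≠ z • (1 : Matrix ((Fin (d - 1) ⊕ Fin (d - 1)) ⊕ Fin 2) ((Fin (d - 1) ⊕ Fin (d - 1)) ⊕ Fin 2) F)) →
      ∃ W : Submodule F ((Fin (d - 1) ⊕ Fin (d - 1)) ⊕ Fin 2 → F), (Module.finrank F ↥W = m ∧ Cfsg.Geo.IsNondegenerateOn (QuadraticMap.polar (Cfsg.quadFormMinus (d - 1) F a b)) W ∧ ¬ Cfsg.Geo.IsPlusTypeOn (Cfsg.quadFormMinus (d - 1) F a b) W) ∧ W.map (Matrix.toLin' (x : Matrix ((Fin (d - 1) ⊕ Fin (d - 1)) ⊕ Fin 2) ((Fin (d - 1) ⊕ Fin (d - 1)) ⊕ Fin 2) F)) ≤ W) →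
    ((2 * d) % 4 = m % 4 ∧ (∀ μ : Multiset ℕ, (∀ e ∈ μ, 0 < e ∧ e ≤ p) → (∀ e : ℕ, Even e → Even (μ.count e)) → μ.sum = 2 * d →
        ∃ ν : Multiset ℕ, ν ≤ μ ∧ ν.sum = m ∧ ∀ e : ℕ, Even e → Even (ν.count e))) := by
  intro h
  have hpodd : p ≠ 2 := Cfsg.Agent.Lib.Elusive19.OrthUnipotent.char_ne_two hq hqodd
  have h3 : 3 ≤ p := by have := (Fact.out : p.Prime).two_le; omega
  have key := fun (μ : Multiset ℕ) hμ hpar (hsum : μ.sum = 2 * d) hex hne => fixed_partition (p := p) (μ := μ)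
    (Qf := Cfsg.Agent.Lib.Forms.qMinus (d - 1) a b) (f := Cfsg.quadFormMinus (d - 1) F a b) hpodd
    (fun v => (Cfsg.Agent.Lib.Forms.qMinus_apply (d - 1) a b v).symm)
    (Cfsg.Agent.Lib.Forms.qMinus_nondeg (d - 1) hab)
    (by simp) hμ hpar (hsum.trans (show 2 * d = _ by simp; omega)) hex hne
    (fun x hx hxp hns => h x hx ⟨1, by rw [hxp, one_smul]; rfl⟩ hns) (fun W hW => hW.2.1)
  constructor
  · by_contra hne
    obtain ⟨e, he⟩ := hme
    rcases Nat.even_or_odd d with ⟨j, hj⟩ | ⟨j, hj⟩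
    · obtain ⟨W, hW, ν, hν, hνs, hνp, -⟩ := key (3 ::ₘ 1 ::ₘ Multiset.replicate (2 * (j - 1)) 2)
        (fun a ha => by
          simp only [Multiset.mem_cons, Multiset.mem_replicate] at ha
          omega)
        (((evenPaired_replicate _).cons odd_one).cons (by decide))
        (by simp; omega) ⟨1, by simp, odd_one⟩ ⟨3, by simp, by norm_num⟩
      rw [hW.1] at hνs
      rcases split_two_odd (by decide) odd_one (by norm_num) (fun x hx => by
          rw [(Multiset.mem_replicate.1 hx).2]; exact even_two) hν ⟨e, by omega⟩ with hle | ⟨u, hu, rfl⟩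
      · obtain ⟨i, hi, -⟩ := even_sum_replicate_two hle hνp
        omega
      · obtain ⟨i, hi, -⟩ := even_sum_replicate_two hu ((hνp.of_cons (by decide)).of_cons odd_one)
        simp only [Multiset.sum_cons] at hνs
        omega
    · obtain ⟨W, hW, ν, hν, hνs, hνp, hplus⟩ := key (1 ::ₘ 1 ::ₘ Multiset.replicate (2 * j) 2)
        (fun a ha => by
          simp only [Multiset.mem_cons, Multiset.mem_replicate] at ha
          omega)
        (((evenPaired_replicate _).cons odd_one).cons odd_one)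
        (by simp; omega) ⟨1, by simp, odd_one⟩ ⟨2, Multiset.mem_cons_of_mem (by simp [Multiset.mem_replicate]; omega), by norm_num⟩
      rw [hW.1] at hνs
      by_cases h1 : 1 ∈ ν
      · obtain ⟨t, rfl⟩ := Multiset.exists_cons_of_mem h1
        rw [Multiset.cons_le_cons_iff] at hν
        by_cases h2 : 1 ∈ t
        · obtain ⟨u, rfl⟩ := Multiset.exists_cons_of_mem h2
          obtain ⟨i, hi, -⟩ := even_sum_replicate_two ((Multiset.cons_le_cons_iff _).1 hν)
            ((hνp.of_cons odd_one).of_cons odd_one)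
          simp only [Multiset.sum_cons] at hνs
          omega
        · obtain ⟨i, hi, -⟩ := even_sum_replicate_two ((Multiset.le_cons_of_notMem h2).1 hν)
            (hνp.of_cons odd_one)
          simp only [Multiset.sum_cons] at hνs
          omega
      · obtain ⟨i, hi, htwo⟩ := even_sum_replicate_two
          ((Multiset.le_cons_of_notMem h1).1 ((Multiset.le_cons_of_notMem h1).1 hν)) hνp
        exact hW.2.2 (hplus htwo)
  · intro μ hμ hpar hsum
    refine all_partitions ((Fact.out : p.Prime).odd_of_ne_two hpodd) hme (by omega) (by omega)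
      (fun μ hμ hpar hsum hex hne => ?_) μ hμ hpar hsum
    obtain ⟨W, hW, ν, hν, hνs, hνp, -⟩ := key μ hμ hpar hsum hex hne
    exact ⟨ν, hν, hνs.trans hW.1, hνp⟩


end Cfsg.Agent.S5994
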