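import Cfsg.Statements.S5995
import Cfsg.Agent.Lib.Elusive19.OrthUnipotent
-- import your own Cfsg.Agent.* helpers here

set_option autoImplicit false
open scoped MatrixGroups
open Cfsg

namespace Cfsg.Agent.S5995

open Cfsg.Agent.Lib.Elusive19.OrthUnipotent

open QuadraticMap Cfsg.Agent.Lib.Forms in
theorem exists_form {F : Type*} [Field F] [Finite F] (h2 : (2 : F) ≠ 0) (d : ℕ) :
    ∃ Q : QuadraticForm F (Unit ⊕ (Fin d ⊕ Fin d) → F),
      Nondeg Q ∧ ∀ v, Cfsg.quadFormOdd d F v = Q v := by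
  let L : (Unit ⊕ (Fin d ⊕ Fin d) → F) ≃ₗ[F] F × (Fin d ⊕ Fin d → F) :=
    LinearEquiv.sumArrowLequivProdArrow Unit _ F F ≪≫ₗ
      (LinearEquiv.funUnique Unit F F).prodCongr (LinearEquiv.refl F _)
  refine ⟨((qOne 1).prod (qPlus d)).comp L.toLinearMap,
    (prod_nondeg (qOne_nondeg one_ne_zero h2) (qPlus_nondeg d)).of_equiv
      { L.symm with map_app' := fun x => ?_ }, fun v => ?_⟩
  · show ((qOne 1).prod (qPlus d)) (L (L.symm x)) = _
    rw [L.apply_symm_apply]
  · show _ = qOne 1 (v (Sum.inl ())) + qPlus d (fun i => v (Sum.inr i))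
    rw [qOne_apply, qPlus_apply, Cfsg.quadFormOdd, one_mul, pow_two]

/-- A necessary condition for every element of order p of Ω_n(q), nq odd, to fix a hyperbolic `m`-space. Here `T = Ω_n(F)`, `n = 2d+1 ≥ 7`, `q` odd, realised as the commutator subgroup of the isometry group of `Q = x₀² + Σ xᵢyᵢ` over the field `F` with `q` elements (trivial centre, so its elements of prime order `r` are used directly); a nondegenerate `m`-space (even `m`) is a subspace on which the polar form of `Q` is nondegenerate; it is hyperbolic if it contains an `m/2`-dimensional subspace on which `Q` vanishes, elliptic otherwise. Let `m` be even with `2 ≤ m ≤ n − 1` and suppose `p` divides the number of hyperbolic `m`-spaces. If every element of `T` of order `p` fixes some hyperbolic `m`-space, then `m ≡ 0 (mod 4)` and every partition of `n` into parts of size at most `p` in which every even part has even multiplicity contains (as a sub-multiset) a partition of `m` in which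 every even part has even multiplicity. -/
theorem result {F : Type*} [Field F] [Fintype F] {p : ℕ} [Fact p.Prime] [CharP F p] {q : ℕ} (hq : Fintype.card F = q) (hqodd : Odd q)
    (d m : ℕ) (hd : 3 ≤ d) (hm : 2 ≤ m) (hme : Even m) (hmn : m ≤ 2 * d)
    (hpΩ : p ∣ Nat.card {W : Submodule F (Unit ⊕ (Fin d ⊕ Fin d) → F) // Module.finrank F ↥W = m ∧ Cfsg.Geo.IsNondegenerateOn (QuadraticMap.polar (Cfsg.quadFormOdd d F)) W ∧ Cfsg.Geo.IsPlusTypeOn (Cfsg.quadFormOdd d F) W}) :
    (∀ x : GL (Unit ⊕ (Fin d ⊕ Fin d)) F, x ∈ Cfsg.Geo.omegaGL (Cfsg.quadFormOdd d F) → orderOf x = p →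
      ∃ W : Submodule F (Unit ⊕ (Fin d ⊕ Fin d) → F), (Module.finrank F ↥W = m ∧ Cfsg.Geo.IsNondegenerateOn (QuadraticMap.polar (Cfsg.quadFormOdd d F)) W ∧ Cfsg.Geo.IsPlusTypeOn (Cfsg.quadFormOdd d F) W) ∧ W.map (Matrix.toLin' (x : Matrix (Unit ⊕ (Fin d ⊕ Fin d)) (Unit ⊕ (Fin d ⊕ Fin d)) F)) ≤ W) →
    (m % 4 = 0 ∧ (∀ μ : Multiset ℕ, (∀ e ∈ μ, 0 < e ∧ e ≤ p) → (∀ e : ℕ, Even e → Even (μ.count e)) → μ.sum = 2 * d + 1 →
        ∃ ν : Multiset ℕ, ν ≤ μ ∧ ν.sum = m ∧ ∀ e : ℕ, Even e → Even (ν.count e))) := by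
  intro h
  have hpodd : p ≠ 2 := Cfsg.Agent.Lib.Elusive19.OrthUnipotent.char_ne_two hq hqodd
  have h3 : 3 ≤ p := by have := (Fact.out : p.Prime).two_le; omega
  obtain ⟨Qf, hQ, hf⟩ := exists_form (F := F) (Ring.two_ne_zero (by rwa [ringChar.eq F p])) d
  have key := fun (μ : Multiset ℕ) hμ hpar (hsum : μ.sum = 2 * d + 1) hex hne => fixed_partition (p := p) (μ := μ)
    (Qf := Qf) (f := Cfsg.quadFormOdd d F) hpodd hf hQ
    (by simp; omega) hμ hpar (hsum.trans (show 2 * d + 1 = _ by simp; omega)) hex hne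
    (fun x hx hxp hns => h x hx (orderOf_eq_prime hxp fun h1 => hns 1 (by rw [h1, one_smul]; rfl)))
    (fun W hW => hW.2.1)
  constructor
  · by_contra hne
    obtain ⟨e, he⟩ := hme
    obtain ⟨o, j, ho, hodd, hj⟩ : ∃ o j : ℕ, (o = 1 ∨ o = 3) ∧ Odd o ∧ 2 * d + 1 = o + 4 * j := by
      rcases Nat.even_or_odd d with ⟨j, hj⟩ | ⟨j, hj⟩
      · exact ⟨1, j, Or.inl rfl, odd_one, by omega⟩
      · exact ⟨3, j, Or.inr rfl, by decide, by omega⟩
    obtain ⟨W, hW, ν, hν, hνs, hνp, -⟩ := key (o ::ₘ Multiset.replicate (2 * j) 2)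
      (fun a ha => by
        simp only [Multiset.mem_cons, Multiset.mem_replicate] at ha
        omega)
      ((evenPaired_replicate _).cons hodd)
      (by simp; omega) ⟨o, by simp, hodd⟩ ⟨2, Multiset.mem_cons_of_mem (by simp [Multiset.mem_replicate]; omega), by norm_num⟩
    rw [hW.1] at hνs
    by_cases h1 : o ∈ ν
    · obtain ⟨t, rfl⟩ := Multiset.exists_cons_of_mem h1
      obtain ⟨i, hi, -⟩ := even_sum_replicate_two ((Multiset.cons_le_cons_iff _).1 hν) (hνp.of_cons hodd)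
      simp only [Multiset.sum_cons] at hνs
      omega
    · obtain ⟨i, hi, -⟩ := even_sum_replicate_two ((Multiset.le_cons_of_notMem h1).1 hν) hνp
      omega
  · intro μ hμ hpar hsum
    refine all_partitions ((Fact.out : p.Prime).odd_of_ne_two hpodd) hme (by omega) (by omega)
      (fun μ hμ hpar hsum hex hne => ?_) μ hμ hpar hsum
    obtain ⟨W, hW, ν, hν, hνs, hνp, -⟩ := key μ hμ hpar hsum hex hne
    exact ⟨ν, hν, hνs.trans hW.1, hνp⟩


end Cfsg.Agent.S5995
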