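import Cfsg.Statements.S5997
import Cfsg.Agent.Lib.ElusiveTwo.Basic
-- import your own Cfsg.Agent.* helpers here

set_option autoImplicit false
open scoped MatrixGroups
open Cfsg

namespace Cfsg.Agent.S5997

open Matrix Lib.ElusiveTwo

/-- The map of `Q₈` determined by the images of the two standard generators. -/
def q8Map (u v : QuaternionGroup 2) : QuaternionGroup 2 → QuaternionGroup 2
  | .a i => u ^ i.val
  | .xa i => v * u ^ i.val

set_option maxHeartbeats 2000000 in
theorem q8Map_iterate : ∀ u v : QuaternionGroup 2,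
    u * u = QuaternionGroup.a 2 → v * v = QuaternionGroup.a 2 →
    u * v * u = v →
    u ≠ v → u ≠ v * (QuaternionGroup.a 2) →
    ∀ x, (q8Map u v)^[12] x = x := by decide +kernel

/-- The twelfth power of every automorphism of `Q₈` is trivial. -/
theorem aut_q8 (ψ : QuaternionGroup 2 ≃* QuaternionGroup 2) (x : QuaternionGroup 2) :
    ψ^[12] x = x := by
  set u := ψ (.a 1)
  set v := ψ (.xa 0)
  have hψ : ∀ y, ψ y = q8Map u v y := by
    rintro (i | i)
    · show ψ (.a i) = u ^ i.val
      rw [← map_pow, QuaternionGroup.a_one_pow, ZMod.natCast_rightInverse i]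
    · show ψ (.xa i) = v * u ^ i.val
      rw [← map_pow, ← map_mul, QuaternionGroup.a_one_pow, ZMod.natCast_rightInverse i,
        QuaternionGroup.xa_mul_a, zero_add]
  have h2 : ψ (.a 2) = .a 2 := by
    have key : ∀ z : QuaternionGroup 2, z * z = 1 → z ≠ 1 → z = .a 2 := by decide +kernel
    refine key _ ?_ ?_
    · rw [← map_mul]; exact map_one ψ
    · intro h
      exact absurd ((map_eq_one_iff ψ ψ.injective).mp h) (by decide)
  have hne : ∀ {p q : QuaternionGroup 2}, p ≠ q → ψ p ≠ ψ q := fun h e => h (ψ.injective e)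
  have := q8Map_iterate u v (by rw [← map_mul, ← h2]; rfl) (by rw [← map_mul, ← h2]; rfl)
    (by rw [← map_mul, ← map_mul]; congr 1)
    (hne (by decide)) (by rw [← h2, ← map_mul]; exact hne (by decide)) x
  rwa [show (ψ : QuaternionGroup 2 → QuaternionGroup 2) = q8Map u v from funext hψ]

variable {F : Type*} [Field F]

/-- The matrices of two generators of a quaternion subgroup of `GL₂`, in odd characteristic. -/
theorem exists_generators (h2 : (2 : F) ≠ 0) (R : Subgroup (GL (Fin 2) F))
    (e : ↥R ≃* QuaternionGroup 2) :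
    let A := fun q => ((e.symm q : GL (Fin 2) F) : Matrix (Fin 2) (Fin 2) F)
    A (.a 1) * A (.a 1) = -1 ∧ A (.xa 0) * A (.xa 0) = -1 ∧
      A (.xa 0) * A (.a 1) = -(A (.a 1) * A (.xa 0)) ∧ (∀ c : F, A (.a 1) ≠ c • 1) := by
  intro A
  have hmul : ∀ p q, A (p * q) = A p * A q := fun p q => by simp [A]
  have hinj : Function.Injective A := fun p q h =>
    e.symm.injective (Subtype.ext (Units.ext h))
  have hone : A 1 = 1 := by simp [A]
  have hns : ∀ p q : QuaternionGroup 2, p * q ≠ q * p → ∀ c : F, A p ≠ c • 1 := by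
    intro p q hpq c hc
    apply hpq
    apply hinj
    rw [hmul, hmul, hc]
    simp
  have hI := hns (.a 1) (.xa 0) (by decide)
  have hz : A (.a 2) = -1 := by
    by_contra hne
    have hz1 : A (.a 2) ≠ 1 := fun h => absurd (hinj (h.trans hone.symm)) (by decide)
    have hsq : A (.a 2) * A (.a 2) = 1 := by
      rw [← hmul, show (QuaternionGroup.a 2 * .a 2 : QuaternionGroup 2) = 1 by decide, hone]
    by_cases hsc : ∃ c : F, A (.a 2) = c • 1
    · obtain ⟨c, hc⟩ := hsc
      rw [hc] at hsq hz1 hne
      have hc2 : c * c = 1 := by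
        have := congrFun (congrFun hsq 0) 0
        simpa using this
      rcases mul_self_eq_one_iff.mp hc2 with rfl | rfl
      · exact hz1 (one_smul _ _)
      · exact hne (by simp)
    · push Not at hsc
      obtain ⟨a, b, hab⟩ := eq_add_smul_of_commute hsc (A := A (.a 1))
        (by rw [← hmul, ← hmul]; congr 1)
      obtain ⟨c, d, hcd⟩ := eq_add_smul_of_commute hsc (A := A (.xa 0))
        (by rw [← hmul, ← hmul]; congr 1)
      have : A (.a 1 * .xa 0) = A (.xa 0 * .a 1) := by
        rw [hmul, hmul, hab, hcd]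
        simp [Matrix.mul_add, Matrix.add_mul, smul_smul, mul_comm]
        abel
      exact absurd (hinj this) (by decide)
  refine ⟨by rw [← hmul, ← hz]; congr 1, by rw [← hmul, ← hz]; congr 1, ?_, hI⟩
  rw [← hmul, ← hmul, show -(A (.a 1 * .xa 0)) = A (.a 2) * A (.a 1 * .xa 0) by rw [hz, neg_one_mul],
    ← hmul]
  congr 1


/-- Elements of prime order of PSL_2(p) and the normalizer of a quaternion subgroup. Here `T = PSL_2(F)` for the field `F` with `p` elements, `p ≥ 5` prime; `R` is a subgroup of GL_2(F) isomorphic to the quaternion group of order 8 (an absolutely irreducible 2-group of symplectic type), and `H` is the subgroup of matrices of determinant 1 normalizing `R` — a subgroup of type 2^{1+2}.O₂⁻(2), isomorphic modulo scalars to A₄ or S₄ (maximality is not assumed). Ω is the set of cosets of `H` in `T`, so an element of `T` of prime order `r` (a matrix `x` of determinant 1 with `x^r` scalar, `x` not scalar) fixes a point of Ω exactly when some conjugate of `x` by a matrix of determinant 1 normalizes `R`.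 Let `r` be a prime dividing the index of `H`. Then every element of `T` of order `r` fixes a point of Ω if and only if `r = 2` or `r = 3`. -/
theorem result {F : Type*} [Field F] [Fintype F] {p : ℕ} [Fact p.Prime] [CharP F p] (hF : Fintype.card F = p) (hp : 5 ≤ p)
    (R : Subgroup (GL (Fin 2) F)) (hR : Nonempty (↥R ≃* QuaternionGroup 2))
    (r : ℕ) [Fact r.Prime]
    (hΩ : r ∣ (Cfsg.Geo.subgroupNormalizer R).relIndex (Cfsg.Geo.specialLinear (Fin 2) F)) :
    (∀ x ∈ Cfsg.Geo.specialLinear (Fin 2) F, (∃ z : F, ((x ^ r : GL (Fin 2) F) : Matrix (Fin 2) (Fin 2) F) = z • (1 : Matrix (Fin 2) (Fin 2) F)) →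
      (∀ z : F, (x : Matrix (Fin 2) (Fin 2) F) ≠ z • (1 : Matrix (Fin 2) (Fin 2) F)) →
      ∃ g ∈ Cfsg.Geo.specialLinear (Fin 2) F, g⁻¹ * x * g ∈ Cfsg.Geo.subgroupNormalizer R) ↔ (r = 2 ∨ r = 3) := by
  classical
  obtain ⟨e⟩ := hR
  have hsmall : ∀ m : ℕ, 0 < m → m < p → (m : F) ≠ 0 := fun m h0 hm h =>
    absurd (Nat.le_of_dvd h0 ((CharP.cast_eq_zero_iff F p m).mp h)) (by omega)
  have h2 : (2 : F) ≠ 0 := by simpa using hsmall 2 (by omega) (by omega)
  have h3 : (3 : F) ≠ 0 := by simpa using hsmall 3 (by omega) (by omega)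
  obtain ⟨hI2, hJ2, hJI, hIn⟩ := exists_generators h2 R e
  set Ig : GL (Fin 2) F := (e.symm (.a 1) : GL (Fin 2) F) with hIg
  set Jg : GL (Fin 2) F := (e.symm (.xa 0) : GL (Fin 2) F) with hJg
  set I : Matrix (Fin 2) (Fin 2) F := (Ig : Matrix (Fin 2) (Fin 2) F) with hIdef
  set J : Matrix (Fin 2) (Fin 2) F := (Jg : Matrix (Fin 2) (Fin 2) F) with hJdef
  replace hI2 : I * I = -1 := hI2
  replace hJ2 : J * J = -1 := hJ2
  replace hJI : J * I = -(I * J) := hJI
  replace hIn : ∀ c : F, I ≠ c • 1 := hIn
  have hIR : Ig ∈ R := (e.symm _).2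
  have hJR : Jg ∈ R := (e.symm _).2
  have hgen : ∀ z ∈ R, ∃ i k : ℕ, z = Jg ^ i * Ig ^ k := by
    intro z hz
    rcases hq : e ⟨z, hz⟩ with i | i
    · refine ⟨0, i.val, ?_⟩
      have := congrArg e.symm hq
      rw [e.symm_apply_apply, ← ZMod.natCast_rightInverse i, ← QuaternionGroup.a_one_pow, map_pow]
        at this
      simpa using congrArg Subtype.val this
    · refine ⟨1, i.val, ?_⟩
      have := congrArg e.symm hq
      rw [e.symm_apply_apply, ← zero_add i, ← QuaternionGroup.xa_mul_a,
        ← ZMod.natCast_rightInverse i, ← QuaternionGroup.a_one_pow, map_mul, map_pow] at this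
      simpa using congrArg Subtype.val this
  -- `R` spans the matrix algebra: only scalars commute with it
  have hcomm : ∀ Y : Matrix (Fin 2) (Fin 2) F, Y * I = I * Y → Y * J = J * Y →
      ∃ c : F, Y = c • 1 := by
    intro Y h1 h2'
    obtain ⟨a, b, hab⟩ := eq_add_smul_of_commute hIn h1
    refine ⟨a, ?_⟩
    rw [hab] at h2'
    simp only [Matrix.add_mul, Matrix.mul_add, Matrix.smul_mul, Matrix.mul_smul, Matrix.one_mul,
      Matrix.mul_one, hJI, smul_neg] at h2'
    have h4 : (2 * b) • (I * J) = 0 := by
      rw [mul_smul, two_smul]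
      linear_combination (norm := abel) h2'
    rcases smul_eq_zero.mp h4 with h5 | h5
    · rw [hab, (mul_eq_zero.mp h5).resolve_left h2, zero_smul, add_zero]
    · exfalso
      have h6 : ((Ig * Jg : GL (Fin 2) F) : Matrix (Fin 2) (Fin 2) F) = 0 := h5
      exact Units.ne_zero _ h6
  have trI : I.trace = 0 := by
    have h1 : (J * I * J).trace = I.trace := by
      rw [hJI, neg_mul, Matrix.mul_assoc, hJ2, mul_neg, mul_one, neg_neg]
    rw [Matrix.trace_mul_comm, ← Matrix.mul_assoc, hJ2, neg_mul, one_mul, Matrix.trace_neg] at h1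
    exact (mul_eq_zero.mp (show 2 * I.trace = 0 by linear_combination -h1)).resolve_left h2
  have detI : I.det = 1 := by
    have h1 := mul_self_eq I
    rw [hI2, trI, zero_smul, zero_sub, neg_inj] at h1
    simpa using (congrFun (congrFun h1 0) 0).symm
  have hmemN : ∀ g : GL (Fin 2) F, g * Ig * g⁻¹ ∈ R → g * Jg * g⁻¹ ∈ R →
      g ∈ Cfsg.Geo.subgroupNormalizer R := by
    intro g hgI hgJ
    refine Subgroup.mem_normalizer_iff.mpr ?_
    have hle : R.map (MulAut.conj g).toMonoidHom ≤ R := by
      rintro _ ⟨z, hz, rfl⟩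
      obtain ⟨i, k, rfl⟩ := hgen z hz
      rw [MulEquiv.coe_toMonoidHom, map_mul, map_pow, map_pow]
      exact R.mul_mem (R.pow_mem hgJ i) (R.pow_mem hgI k)
    have heq := Subgroup.eq_of_le_of_card_ge hle
      (Subgroup.card_map_of_injective (MulAut.conj g).injective).ge
    intro z
    constructor
    · intro hz; exact hle ⟨z, hz, rfl⟩
    · intro hz
      rw [← heq] at hz
      obtain ⟨w, hw, hwz⟩ := hz
      obtain rfl : w = z := (MulAut.conj g).injective hwz
      exact hw
  have hSL : ∀ g : GL (Fin 2) F, g ∈ Cfsg.Geo.specialLinear (Fin 2) F ↔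
      (g : Matrix (Fin 2) (Fin 2) F).det = 1 := fun g => by
    simp [Cfsg.Geo.specialLinear, MonoidHom.mem_ker, Units.ext_iff]
  have hRnonscalar : ∀ x : GL (Fin 2) F, (∀ z : F, (x : Matrix (Fin 2) (Fin 2) F) ≠ z • 1) →
      (x : Matrix (Fin 2) (Fin 2) F).det = 1 →
      ∀ N : GL (Fin 2) F, N ∈ Cfsg.Geo.subgroupNormalizer R →
      (N : Matrix (Fin 2) (Fin 2) F).det = 1 → (∀ c : F, (N : Matrix (Fin 2) (Fin 2) F) ≠ c • 1) →
      (x : Matrix (Fin 2) (Fin 2) F).trace = (N : Matrix (Fin 2) (Fin 2) F).trace →
      (N : Matrix (Fin 2) (Fin 2) F).trace ^ 2 ≠ 4 →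
      ∃ g ∈ Cfsg.Geo.specialLinear (Fin 2) F, g⁻¹ * x * g ∈ Cfsg.Geo.subgroupNormalizer R := by
    intro x hxn hxd N hN hNd hNn ht h4
    obtain ⟨G, hG, hGe⟩ := exists_conj_of_trace h2 hxd hNd hxn hNn ht h4
    let g : GL (Fin 2) F := Matrix.GeneralLinearGroup.mkOfDetNeZero G (by rw [hG]; exact one_ne_zero)
    refine ⟨g, (hSL g).mpr hG, ?_⟩
    have : x * g = g * N := Units.ext hGe
    rwa [mul_assoc, this, inv_mul_cancel_left]
  constructor
  · intro hall
    by_contra hr
    push Not at hr
    have hr5 : 5 ≤ r := by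
      rcases Nat.lt_or_ge r 5 with h | h
      · exfalso
        have := (Fact.out : r.Prime).two_le
        interval_cases r
        · exact hr.1 rfl
        · exact hr.2 rfl
        · exact absurd (Fact.out : (4 : ℕ).Prime) (by norm_num)
      · exact h
    have hdvd : r ∣ Nat.card (Cfsg.Geo.specialLinear (Fin 2) F) := by
      rw [← Subgroup.index_mul_card ((Cfsg.Geo.subgroupNormalizer R).subgroupOf
        (Cfsg.Geo.specialLinear (Fin 2) F))]
      exact dvd_mul_of_dvd_left hΩ _
    obtain ⟨x, hx⟩ := exists_prime_orderOf_dvd_card' r hdvd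
    have hx' : orderOf (x : GL (Fin 2) F) = r := by rw [Subgroup.orderOf_coe, hx]
    have hscal : ∀ y : GL (Fin 2) F, (y : Matrix (Fin 2) (Fin 2) F).det = 1 →
        ∀ c : F, (y : Matrix (Fin 2) (Fin 2) F) = c • 1 → y ^ 2 = 1 := by
      intro y hy c hc
      rw [hc, Matrix.det_smul, Matrix.det_one, mul_one, Fintype.card_fin] at hy
      refine Units.ext ?_
      rw [Units.val_pow_eq_pow_val, hc, smul_pow, one_pow, hy, one_smul, Units.val_one]
    obtain ⟨g, hg, hgx⟩ := hall x x.2 ⟨1, by
        rw [← hx', pow_orderOf_eq_one, Units.val_one, one_smul]⟩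
      (fun z hz => by
        have := orderOf_dvd_of_pow_eq_one (hscal x ((hSL _).mp x.2) z hz)
        rw [hx'] at this
        have := Nat.le_of_dvd (by norm_num) this
        omega)
    set y := g⁻¹ * (x : GL (Fin 2) F) * g with hy
    have hyord : orderOf y = r := by
      rw [hy, show g⁻¹ * (x : GL (Fin 2) F) * g = MulAut.conj g⁻¹ x by simp, MulEquiv.orderOf_eq, hx']
    have hydet : (y : Matrix (Fin 2) (Fin 2) F).det = 1 :=
      (hSL y).mp (mul_mem (mul_mem (inv_mem hg) x.2) hg)
    have hyN : ∀ z, z ∈ R ↔ y * z * y⁻¹ ∈ R := Subgroup.mem_normalizer_iff.mp hgx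
    let φ : ↥R ≃* ↥R :=
      (MulEquiv.subgroupMap (MulAut.conj y) R).trans (MulEquiv.subgroupCongr (by
        ext z
        constructor
        · rintro ⟨w, hw, rfl⟩; exact (hyN w).mp hw
        · intro hz
          exact ⟨y⁻¹ * z * y, (hyN _).mpr (by simpa [mul_assoc] using hz), by simp [mul_assoc]⟩))
    have hiter : ∀ (k : ℕ) (z : ↥R),
        (((e.symm.trans φ).trans e)^[k] (e z)) = e (φ^[k] z) := by
      intro k
      induction k with
      | zero => intro z; rfl
      | succ k ih => intro z; rw [Function.iterate_succ_apply', ih, Function.iterate_succ_apply']; simp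
    have hpow : ∀ (k : ℕ) (z : ↥R), ((φ^[k] z : ↥R) : GL (Fin 2) F) = y ^ k * z * (y ^ k)⁻¹ := by
      intro k
      induction k with
      | zero => intro z; simp
      | succ k ih =>
        intro z
        rw [Function.iterate_succ_apply', pow_succ']
        show y * (φ^[k] z : ↥R) * y⁻¹ = _
        rw [ih]
        group
    have hfix : ∀ z ∈ R, y ^ 12 * z = z * y ^ 12 := by
      intro z hz
      have h12 := aut_q8 ((e.symm.trans φ).trans e) (e ⟨z, hz⟩)
      rw [hiter] at h12
      have := hpow 12 ⟨z, hz⟩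
      rw [e.injective h12] at this
      exact (eq_mul_inv_iff_mul_eq.mp this).symm
    obtain ⟨c, hc⟩ := hcomm ((y ^ 12 : GL (Fin 2) F) : Matrix (Fin 2) (Fin 2) F)
      (congrArg Units.val (hfix Ig hIR)) (congrArg Units.val (hfix Jg hJR))
    have h24 : y ^ 24 = 1 := by
      rw [show 24 = 12 * 2 from rfl, pow_mul]
      refine hscal _ ?_ c hc
      rw [Units.val_pow_eq_pow_val, Matrix.det_pow, hydet, one_pow]
    have := orderOf_dvd_of_pow_eq_one h24
    rw [hyord] at this
    have hle := Nat.le_of_dvd (by norm_num) this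
    have hprime : r.Prime := Fact.out
    interval_cases r <;> first | (norm_num at this; done) | (norm_num at hprime)
  · intro hr x hx ⟨z, hz⟩ hxn
    have hxd := (hSL x).mp hx
    set X := (x : Matrix (Fin 2) (Fin 2) F) with hXdef
    set t := X.trace with ht
    have hCH : X * X = t • X - 1 := by
      rw [ht]
      have := mul_self_eq X
      rwa [hxd, one_smul] at this
    have hz' : X ^ r = z • 1 := by rw [← hz, Units.val_pow_eq_pow_val]
    rcases hr with rfl | rfl
    · refine hRnonscalar x hxn hxd Ig ?_ detI hIn ?_ ?_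
      · exact Subgroup.le_normalizer hIR
      · rw [trI]
        by_contra hne
        have h1 : t • X = (z + 1) • (1 : Matrix (Fin 2) (Fin 2) F) := by
          rw [sq, hCH] at hz'
          rw [add_smul, ← hz', one_smul, sub_add_cancel]
        exact hxn (t⁻¹ * (z + 1)) (by rw [mul_smul, ← h1, inv_smul_smul₀ hne])
      · rw [trI]
        intro h
        have h22 : (4 : F) = 2 * 2 := by norm_num
        rw [h22, zero_pow two_ne_zero] at h
        exact mul_ne_zero h2 h2 h.symm
    · have h1 : (t ^ 2 - 1) • X = (z + t) • (1 : Matrix (Fin 2) (Fin 2) F) := by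
        rw [pow_succ, sq, hCH, Matrix.sub_mul, Matrix.smul_mul, hCH, Matrix.one_mul, smul_sub,
          smul_smul] at hz'
        rw [sub_smul, sq, one_smul, add_smul, ← hz']
        abel
      have ht1 : t ^ 2 = 1 := by
        by_contra hne
        have hne' : t ^ 2 - 1 ≠ 0 := sub_ne_zero.mpr hne
        exact hxn ((t ^ 2 - 1)⁻¹ * (z + t)) (by rw [mul_smul, ← h1, inv_smul_smul₀ hne'])
      -- an element of trace `t = ±1` normalising `R`
      set G : Matrix (Fin 2) (Fin 2) F := (t / 2) • (1 + I + J + I * J) with hG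
      have hJIJ : J * (I * J) = I := by
        rw [← Matrix.mul_assoc, hJI, neg_mul, Matrix.mul_assoc, hJ2, mul_neg, mul_one, neg_neg]
      have hGI : G * I = J * G := by
        simp only [hG, Matrix.smul_mul, Matrix.mul_smul]
        congr 1
        simp only [Matrix.add_mul, Matrix.mul_add, Matrix.one_mul, Matrix.mul_one, hI2, hJ2, hJI,
          hJIJ, Matrix.mul_assoc, mul_neg]
        rw [← Matrix.mul_assoc I I J, hI2, neg_one_mul, neg_neg]
        abel
      have hGJ : G * J = (I * J) * G := by
        simp only [hG, Matrix.smul_mul, Matrix.mul_smul]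
        congr 1
        simp only [Matrix.add_mul, Matrix.mul_add, Matrix.one_mul, Matrix.mul_one, hJ2,
          Matrix.mul_assoc, mul_neg, hJI, hJIJ]
        rw [← Matrix.mul_assoc I I J, hI2, neg_one_mul, neg_neg]
        abel
      have trJ : J.trace = 0 := by
        have h1 : (I * J * I).trace = J.trace := by
          rw [Matrix.mul_assoc, hJI, mul_neg, ← Matrix.mul_assoc, hI2, neg_one_mul, neg_neg]
        rw [Matrix.trace_mul_comm, ← Matrix.mul_assoc, hI2, neg_mul, one_mul, Matrix.trace_neg] at h1
        exact (mul_eq_zero.mp (show 2 * J.trace = 0 by linear_combination -h1)).resolve_left h2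
      have trK : (I * J).trace = 0 := by
        have h1 : (J * I).trace = (I * J).trace := Matrix.trace_mul_comm J I
        rw [hJI, Matrix.trace_neg] at h1
        exact (mul_eq_zero.mp (show 2 * (I * J).trace = 0 by linear_combination -h1)).resolve_left h2
      have trG : G.trace = t := by
        simp [hG, trI, trJ, trK, Matrix.trace_add]
        field_simp
      have detG : G.det = 1 := by
        have hIK : I * (I * J) = -J := by rw [← Matrix.mul_assoc, hI2, neg_one_mul]
        have hKI : I * J * I = J := by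
          rw [Matrix.mul_assoc, hJI, mul_neg, hIK, neg_neg]
        have hKJ : I * J * J = -I := by rw [Matrix.mul_assoc, hJ2, mul_neg, mul_one]
        have hK2 : I * J * (I * J) = -1 := by rw [← Matrix.mul_assoc, hKI, hJ2]
        have hS : (1 + I + J + I * J) * (1 + I + J + I * J) =
            (2 : F) • (1 + I + J + I * J) - (4 : F) • 1 := by
          simp only [Matrix.add_mul, Matrix.mul_add, Matrix.one_mul, Matrix.mul_one, hI2, hJ2, hJI,
            hKI, hKJ, hK2, hIK, hJIJ]
          rw [show (2 : F) = 1 + 1 by norm_num, show (4 : F) = 1 + 1 + 1 + 1 by norm_num]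
          simp only [add_smul, one_smul]
          abel
        have h5 := mul_self_eq G
        rw [trG] at h5
        have h6 : G * G = t • G - 1 := by
          rw [hG, Matrix.smul_mul, Matrix.mul_smul, smul_smul, hS, smul_sub, smul_smul, smul_smul,
            smul_smul]
          have e1 : t / 2 * (t / 2) * 2 = t * (t / 2) := by field_simp
          have e2 : t / 2 * (t / 2) * 4 = 1 := by
            have h40 : (4 : F) ≠ 0 := (show (4 : F) = 2 * 2 by norm_num) ▸ mul_ne_zero h2 h2
            field_simp
            linear_combination 4 * ht1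
          rw [e1, e2, one_smul]
        rw [h6, sub_right_inj] at h5
        simpa using (congrFun (congrFun h5 0) 0).symm
      let Gg : GL (Fin 2) F := Matrix.GeneralLinearGroup.mkOfDetNeZero G (by rw [detG]; exact one_ne_zero)
      have hGN : Gg ∈ Cfsg.Geo.subgroupNormalizer R := by
        refine hmemN Gg ?_ ?_
        · have : Gg * Ig = Jg * Gg := Units.ext hGI
          rwa [this, mul_inv_cancel_right]
        · have : Gg * Jg = Ig * Jg * Gg := Units.ext hGJ
          rw [this, mul_inv_cancel_right]
          exact R.mul_mem hIR hJR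
      refine hRnonscalar x hxn hxd Gg hGN detG ?_ trG.symm ?_
      · intro c hc
        have hc' : G = c • (1 : Matrix (Fin 2) (Fin 2) F) := hc
        have h5 := trG
        have h6 := detG
        rw [hc', Matrix.det_smul, Matrix.det_one, mul_one, Fintype.card_fin] at h6
        rw [hc', Matrix.trace_smul, Matrix.trace_one, Fintype.card_fin, smul_eq_mul] at h5
        push_cast at h5
        exact h3 (by linear_combination -4 * h6 + ht1 + (2 * c + t) * h5)
      · show G.trace ^ 2 ≠ 4
        rw [trG, ht1]
        intro h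
        exact h3 (by linear_combination -h)

end Cfsg.Agent.S5997
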