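import Cfsg.Statements.S5998
import Cfsg.Agent.Lib.Elusive19.Heisenberg3Norm
-- import your own Cfsg.Agent.* helpers here

set_option autoImplicit false
open scoped MatrixGroups
open Cfsg

namespace Cfsg.Agent.S5998

open Lib.Elusive19.Heisenberg3

theorem exists_root {F : Type*} [Field F] [Fintype F] {p : ℕ} (hF : Fintype.card F = p) (n : ℕ)
    (h : p % n = 1) : ∃ η : F, η ^ n = 1 ∧ orderOf η = n := by
  classical
  obtain ⟨g, hg⟩ := IsCyclic.exists_generator (α := Fˣ)
  have ho : orderOf g = p - 1 := by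
    rw [orderOf_eq_card_of_forall_mem_zpowers hg, Nat.card_eq_fintype_card, Fintype.card_units, hF]
  have hp2 : 2 ≤ p := hF ▸ Fintype.one_lt_card
  obtain ⟨k, hk⟩ : n ∣ p - 1 := by
    have := Nat.div_add_mod p n
    exact ⟨p / n, by omega⟩
  have hk0 : k ≠ 0 := by rintro rfl; omega
  have hn : orderOf (g ^ k) = n := by
    rw [orderOf_pow_of_dvd hk0 (by rw [ho, hk]; exact dvd_mul_left k n), ho, hk,
      Nat.mul_div_cancel _ (Nat.pos_of_ne_zero hk0)]
  refine ⟨((g ^ k : Fˣ) : F), ?_, by rw [orderOf_units, hn]⟩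
  rw [← Units.val_pow_eq_pow_val, ← hn, pow_orderOf_eq_one, Units.val_one]

theorem fun_root {F : Type*} [Field F] {ω : F} (h : ω ^ 3 = 1) (ho : orderOf ω = 3) :
    ω ^ 3 = 1 ∧ ω ≠ 1 :=
  ⟨h, fun h1 => by rw [h1, orderOf_one] at ho; omega⟩

theorem exists_cube {F : Type*} [Field F] {η z : F} (h9 : η ^ 9 = 1) (ho : orderOf η = 9)
    (hz : z ^ 3 = 1) : ∃ t : F, t ^ 3 = z := by
  have h1 : orderOf (η ^ 3) = 3 := by
    rw [orderOf_pow_of_dvd (by norm_num) (by rw [ho]; norm_num), ho]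
  obtain ⟨i, -, hi⟩ := (h1 ▸ IsPrimitiveRoot.orderOf (η ^ 3)).eq_pow_of_pow_eq_one hz
  exact ⟨η ^ i, by rw [← pow_mul, mul_comm, pow_mul, hi]⟩

theorem not_dvd_card {F : Type*} [Field F] [Fintype F] {p : ℕ} (hF : Fintype.card F = p)
    (hp7 : 7 ≤ p) (hp3 : p % 3 = 1) (h9 : p % 9 ≠ 1) [Fact p.Prime] :
    ¬ 3 * 27 ∣ Nat.card (Cfsg.Geo.specialLinear (Fin 3) F) := by
  classical
  intro h
  obtain ⟨a, rfl⟩ : ∃ a, p = 3 * a + 1 := ⟨p / 3, by omega⟩
  have ha : a % 3 ≠ 0 := fun h0 => h9 (by omega)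
  have hsurj : Function.Surjective (Matrix.GeneralLinearGroup.det : GL (Fin 3) F →* Fˣ) := fun u =>
    ⟨Matrix.GeneralLinearGroup.mkOfDetNeZero (Matrix.diagonal ![(u : F), 1, 1])
      (by simp [Matrix.det_diagonal, Fin.prod_univ_three]), Units.ext (by
      simp [Matrix.GeneralLinearGroup.mkOfDetNeZero, Matrix.det_diagonal, Fin.prod_univ_three])⟩
  have hc := Subgroup.card_mul_index (Cfsg.Geo.specialLinear (Fin 3) F)
  have hi : (Cfsg.Geo.specialLinear (Fin 3) F).index = 3 * a := by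
    rw [Cfsg.Geo.specialLinear, Subgroup.index_ker, MonoidHom.range_eq_top.2 hsurj,
      Subgroup.card_top, Nat.card_eq_fintype_card, Fintype.card_units, hF]
    omega
  rw [hi, Matrix.card_GL_field, Fin.prod_univ_three, hF] at hc
  set q := 3 * a + 1 with hq
  have hq1 : q ^ 3 - q ^ (0 : ℕ) = 3 * a * (3 * (3 * a ^ 2 + 3 * a + 1)) := by
    rw [pow_zero]; apply Nat.sub_eq_of_eq_add; rw [hq]; ring
  have hq2 : q ^ 3 - q ^ (1 : ℕ) = 3 * a * (q * (3 * a + 2)) := by
    rw [pow_one]; apply Nat.sub_eq_of_eq_add; rw [hq]; ring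
  have hq3 : q ^ 3 - q ^ (2 : ℕ) = 3 * a * q ^ 2 := by
    apply Nat.sub_eq_of_eq_add; rw [hq]; ring
  simp only [Fin.val_zero, Fin.val_one, Fin.val_two] at hc
  rw [hq1, hq2, hq3] at hc
  have hcard : Nat.card (Cfsg.Geo.specialLinear (Fin 3) F) =
      27 * (a * a * (3 * a ^ 2 + 3 * a + 1) * (3 * a + 2) * q ^ 3) := by
    refine Nat.eq_of_mul_eq_mul_right (show 0 < 3 * a by omega) ?_
    rw [hc]; ring
  rw [hcard, mul_comm 3 27] at h
  have h3 := Nat.dvd_of_mul_dvd_mul_left (by norm_num) h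
  have hpr : Nat.Prime 3 := Nat.prime_three
  rcases hpr.dvd_mul.1 h3 with h4 | h4
  · rcases hpr.dvd_mul.1 h4 with h5 | h5
    · rcases hpr.dvd_mul.1 h5 with h6 | h6
      · rcases hpr.dvd_mul.1 h6 with h7 | h7 <;> omega
      · omega
    · omega
  · have := hpr.dvd_of_dvd_pow h4; omega

theorem exists_perm {F : Type*} [Field F] (h2 : (2 : F) ≠ 0) (k : Fin 3 → ℕ)
    (hprod : ∏ i, (-1 : F) ^ k i = 1) (hne : ¬ ∀ i, (-1 : F) ^ k i = (-1 : F) ^ k 0) :
    ∃ σ : Equiv.Perm (Fin 3), ∀ i, ![(1 : F), -1, -1] (σ i) = (-1 : F) ^ k i := by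
  have h11 : (-1 : F) ≠ 1 := fun h => h2 (by linear_combination -h)
  rw [Fin.prod_univ_three] at hprod
  rcases neg_one_pow_eq_or F (k 0) with h0 | h0 <;>
    rcases neg_one_pow_eq_or F (k 1) with h1 | h1 <;>
    rcases neg_one_pow_eq_or F (k 2) with h3 | h3
  all_goals first
    | (exfalso; rw [h0, h1, h3] at hprod; simp only [one_mul, mul_one, mul_neg, neg_mul, neg_neg] at hprod; exact h11 hprod)
    | (exfalso; apply hne; intro i; fin_cases i <;> simp [h0, h1, h3]; done)
    | (refine ⟨1, fun i => ?_⟩; fin_cases i <;> simp [h0, h1, h3]; done)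
    | (refine ⟨Equiv.swap 0 1, fun i => ?_⟩; fin_cases i <;> simp [h0, h1, h3, Equiv.swap_apply_def]; done)
    | (refine ⟨Equiv.swap 0 2, fun i => ?_⟩; fin_cases i <;> simp [h0, h1, h3, Equiv.swap_apply_def]; done)

/-- Elements of prime order of PSL_3(p), p ≡ 1 (mod 3), and the normalizer of an extraspecial subgroup of order 27. Here `T = PSL_3(F)` for the field `F` with `p` elements, `p` a prime with `p ≡ 1 (mod 3)`; `R` is a non-abelian subgroup of GL_3(F) of order 27 and exponent 3 (an extraspecial group 3^{1+2}, acting absolutely irreducibly), and `H` is the subgroup of matrices of determinant 1 normalizing `R` — a subgroup of type 3^{1+2}.Sp₂(3) (maximality is not assumed). Ω is the set of cosets of `H` in `T`, so an element of `T` of prime order `r` (a matrix `x` of determinant 1 with `x^r` scalar, `x` not scalar) fixes a point of Ω exactly when some conjugate of `x` by a matrix of determinant 1 normalizes `R`. Let `r` be a prime dividing the index of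 `H`. Then every element of `T` of order `r` fixes a point of Ω if and only if `r = 2`, or `r = 3` and `p ≡ 1 (mod 9)`. -/
theorem result {F : Type*} [Field F] [Fintype F] {p : ℕ} [Fact p.Prime] [CharP F p] (hF : Fintype.card F = p) (hp3 : p % 3 = 1)
    (R : Subgroup (GL (Fin 3) F)) (hR : Nat.card R = 27) (hRe : Monoid.exponent R = 3) (hRna : ¬ IsMulCommutative R)
    (r : ℕ) [Fact r.Prime]
    (hΩ : r ∣ (Cfsg.Geo.subgroupNormalizer R).relIndex (Cfsg.Geo.specialLinear (Fin 3) F)) :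
    (∀ x ∈ Cfsg.Geo.specialLinear (Fin 3) F, (∃ z : F, ((x ^ r : GL (Fin 3) F) : Matrix (Fin 3) (Fin 3) F) = z • (1 : Matrix (Fin 3) (Fin 3) F)) →
      (∀ z : F, (x : Matrix (Fin 3) (Fin 3) F) ≠ z • (1 : Matrix (Fin 3) (Fin 3) F)) →
      ∃ g ∈ Cfsg.Geo.specialLinear (Fin 3) F, g⁻¹ * x * g ∈ Cfsg.Geo.subgroupNormalizer R) ↔ (r = 2 ∨ (r = 3 ∧ p % 9 = 1)) := by
  classical
  set N := Cfsg.Geo.subgroupNormalizer R with hN
  set SL := Cfsg.Geo.specialLinear (Fin 3) F with hSL
  have hp : p.Prime := Fact.out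
  have hp7 : 7 ≤ p := by
    rcases (show p = 1 ∨ p = 4 ∨ 7 ≤ p by omega) with h | h | h
    · exact absurd (h ▸ hp) Nat.not_prime_one
    · exact absurd (h ▸ hp) (by norm_num)
    · exact h
  have h3 : (3 : F) ≠ 0 := fun h => by
    have := Nat.le_of_dvd (by norm_num) ((CharP.cast_eq_zero_iff F p 3).1 (by exact_mod_cast h))
    omega
  have h2 : (2 : F) ≠ 0 := fun h => by
    have := Nat.le_of_dvd (by norm_num) ((CharP.cast_eq_zero_iff F p 2).1 (by exact_mod_cast h))
    omega
  obtain ⟨ω, hω3, hω⟩ := exists_root hF 3 (by omega)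
  obtain ⟨C⟩ := exists_coords h3 (fun_root hω3 hω).1 (fun_root hω3 hω).2 R hR hRe hRna
  have hRN : R ≤ N := Subgroup.le_normalizer
  have hRS : R ≤ SL := C.le_specialLinear
  have hidx : N.relIndex SL * 27 ∣ Nat.card SL := by
    have h1 := Subgroup.card_mul_index ((N ⊓ SL).subgroupOf SL)
    rw [Nat.card_congr (Subgroup.subgroupOfEquivOfLe inf_le_right).toEquiv] at h1
    have h2 : 27 ∣ Nat.card ↥(N ⊓ SL) := hR ▸ Subgroup.card_dvd_of_le (le_inf hRN hRS)
    have h3 : ((N ⊓ SL).subgroupOf SL).index = N.relIndex SL := by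
      show (N ⊓ SL).relIndex SL = _
      rw [Subgroup.inf_relIndex_right]
    rw [← h3, ← h1, mul_comm]
    exact Nat.mul_dvd_mul_right h2 _
  have hdvd : r ∣ Nat.card SL := hΩ.trans (dvd_of_mul_right_dvd hidx)
  -- the common shape of the positive cases
  have hdet : ∀ (x : GL (Fin 3) F), x ∈ SL → ∀ z : F, ∀ m : ℕ,
      ((x ^ m : GL (Fin 3) F) : Matrix (Fin 3) (Fin 3) F) = z • 1 → z ^ 3 = 1 := by
    intro x hx z m h
    have h1 : Matrix.GeneralLinearGroup.det (x ^ m) = 1 := MonoidHom.mem_ker.1 (pow_mem hx m)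
    have h2 := congrArg Units.val h1
    rw [Matrix.GeneralLinearGroup.val_det_apply, h, Matrix.det_smul, Matrix.det_one, mul_one,
      Fintype.card_fin, Units.val_one] at h2
    exact h2
  constructor
  · intro h
    by_contra hc
    by_cases hr3 : r = 3
    · subst hr3
      have h9 : p % 9 ≠ 1 := fun h9 => hc (Or.inr ⟨rfl, h9⟩)
      exact not_dvd_card hF hp7 hp3 h9 (dvd_trans (Nat.mul_dvd_mul_right hΩ 27) hidx)
    · have hr2 : r ≠ 2 := fun h => hc (Or.inl h)
      have hr : r.Prime := Fact.out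
      have hr5 : 5 ≤ r := by
        rcases (show r = 4 ∨ 5 ≤ r by have := hr.two_le; omega) with h4 | h5
        · exact absurd (h4 ▸ hr) (by norm_num)
        · exact h5
      obtain ⟨y, hy⟩ := exists_prime_orderOf_dvd_card' (G := SL) r hdvd
      have hyr : (y : GL (Fin 3) F) ^ r = 1 := by
        rw [← Subgroup.coe_pow, ← hy, pow_orderOf_eq_one]; rfl
      have hns : ∀ z : F, ((y : GL (Fin 3) F) : Matrix (Fin 3) (Fin 3) F) ≠ z • 1 := by
        intro z hz
        have hz3 : z ^ 3 = 1 := hdet _ y.2 z 1 (by rw [pow_one]; exact hz)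
        have hy3 : y ^ 3 = 1 := by
          apply Subtype.ext
          apply Units.ext
          rw [Subgroup.coe_pow, Units.val_pow_eq_pow_val, hz, smul_pow, one_pow, hz3, one_smul]
          rfl
        have := orderOf_dvd_of_pow_eq_one hy3
        rw [hy] at this
        have := Nat.le_of_dvd (by norm_num) this
        omega
      obtain ⟨g, -, hg⟩ := h y y.2 ⟨1, by rw [hyr, one_smul]; rfl⟩ hns
      have hgr : (g⁻¹ * (y : GL (Fin 3) F) * g) ^ r = 1 := by
        calc (g⁻¹ * (y : GL (Fin 3) F) * g) ^ r = (g⁻¹ * y * g⁻¹⁻¹) ^ r := by rw [inv_inv]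
          _ = 1 := by rw [conj_pow, hyr, mul_one, mul_inv_cancel]
      obtain ⟨z, hz⟩ := C.eq_scalar_of_mem hR hr5 hg hgr
      refine hns z ?_
      rw [show (y : GL (Fin 3) F) = g * (g⁻¹ * y * g) * g⁻¹ by group, Units.val_mul, Units.val_mul,
        hz, mul_smul_comm, mul_one, smul_mul_assoc, Units.mul_inv]
  · intro hcase x hx hz hns
    obtain ⟨z, hz⟩ := hz
    have hz3 : z ^ 3 = 1 := hdet x hx z r hz
    have hz0 : z ≠ 0 := fun h => by simp [h] at hz3
    rcases hcase with rfl | ⟨rfl, h9⟩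
    · set s := z ^ 2 with hs
      have hs0 : s ≠ 0 := pow_ne_zero 2 hz0
      have hss : s * s = z := by rw [hs]; linear_combination z * hz3
      set X : Matrix (Fin 3) (Fin 3) F := s⁻¹ • (x : Matrix (Fin 3) (Fin 3) F) with hX
      have hXX : X * X = 1 := by
        rw [hX, smul_mul_smul_comm, ← pow_two (x : Matrix (Fin 3) (Fin 3) F),
          ← Units.val_pow_eq_pow_val, hz, smul_smul, ← mul_inv, hss, inv_mul_cancel₀ hz0, one_smul]
      have hXd : X.det = 1 := by
        have hx1 : Matrix.GeneralLinearGroup.det x = 1 := MonoidHom.mem_ker.1 hx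
        have hx2 := congrArg Units.val hx1
        rw [Matrix.GeneralLinearGroup.val_det_apply, Units.val_one] at hx2
        rw [hX, Matrix.det_smul, hx2, mul_one, Fintype.card_fin, inv_pow, hs, ← pow_mul,
          show 2 * 3 = 3 * 2 by rfl, pow_mul, hz3, one_pow, inv_one]
      obtain ⟨V, k, hV⟩ := exists_diag X (-1) (span_eig2 h2 (Matrix.toLin' X) fun v => by
        rw [← LinearMap.comp_apply, ← Matrix.toLin'_mul, hXX, Matrix.toLin'_one]; rfl)
      obtain ⟨σ, hσ⟩ := exists_perm h2 k (by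
        have h1 := congrArg Matrix.det hV
        rw [Matrix.det_mul, Matrix.det_mul, hXd, one_mul, Matrix.det_diagonal] at h1
        exact mul_left_cancel₀ (Matrix.isUnits_det_units V).ne_zero (h1.symm.trans (mul_one _).symm))
        (fun hall => hns (s * (-1) ^ k 0) (by
          have hd : (Matrix.diagonal fun i => (-1 : F) ^ k i) = (-1 : F) ^ k 0 • 1 := by
            rw [Matrix.smul_one_eq_diagonal]
            exact congrArg Matrix.diagonal (funext fun i => hall i)
          rw [hd, mul_smul_comm, mul_one] at hV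
          have hX1 : X = (-1 : F) ^ k 0 • 1 := by
            have := congrArg (· * ((V⁻¹ : GL (Fin 3) F) : Matrix (Fin 3) (Fin 3) F)) hV
            simpa [mul_assoc] using this
          rw [mul_smul, ← hX1, hX, smul_smul, mul_inv_cancel₀ hs0, one_smul]))
      obtain ⟨y, W, hyN, hy⟩ := C.involution_mem h2 hs0 σ
      have hxV : (x : Matrix (Fin 3) (Fin 3) F) * (V : Matrix (Fin 3) (Fin 3) F) =
          (V : Matrix (Fin 3) (Fin 3) F) * Matrix.diagonal (fun i => s * ![1, -1, -1] (σ i)) := by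
        rw [show (x : Matrix (Fin 3) (Fin 3) F) = s • X by
          rw [hX, smul_smul, mul_inv_cancel₀ hs0, one_smul], smul_mul_assoc, hV, ← mul_smul_comm,
          ← Matrix.diagonal_smul]
        congr 2
        funext i
        simp [hσ]
      obtain ⟨g, hg, hgx⟩ := exists_sl_conj (x := x) (V := V) hxV hy
      exact ⟨g, hg, hgx ▸ hyN⟩
    · obtain ⟨η, hη9, hη⟩ := exists_root hF 9 (by omega)
      obtain ⟨t, ht3⟩ := exists_cube hη9 hη hz3
      have ht0 : t ≠ 0 := fun h => hz0 (by rw [← ht3, h, zero_pow (by norm_num)])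
      set X : Matrix (Fin 3) (Fin 3) F := t⁻¹ • (x : Matrix (Fin 3) (Fin 3) F) with hX
      have hXXX : X * X * X = 1 := by
        rw [hX, smul_mul_smul_comm, smul_mul_smul_comm, ← pow_two (x : Matrix (Fin 3) (Fin 3) F),
          ← pow_succ, ← Units.val_pow_eq_pow_val, hz, smul_smul, ← ht3]
        field_simp
        simp
      obtain ⟨V, k, hV⟩ := exists_diag X C.ω (span_eig3 h3 C.hω3 C.hω (Matrix.toLin' X) fun v => by
        rw [← LinearMap.comp_apply, ← LinearMap.comp_apply, ← Matrix.toLin'_mul, ← Matrix.toLin'_mul,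
          hXXX, Matrix.toLin'_one]; rfl)
      obtain ⟨y, hyN, hy⟩ := C.diag_mem ht0 k
      have hxV : (x : Matrix (Fin 3) (Fin 3) F) * (V : Matrix (Fin 3) (Fin 3) F) =
          (V : Matrix (Fin 3) (Fin 3) F) * Matrix.diagonal (fun i => t * C.ω ^ k i) := by
        rw [show (x : Matrix (Fin 3) (Fin 3) F) = t • X by
          rw [hX, smul_smul, mul_inv_cancel₀ ht0, one_smul], smul_mul_assoc, hV, ← mul_smul_comm,
          ← Matrix.diagonal_smul]
        rfl
      obtain ⟨g, hg, hgx⟩ := exists_sl_conj (x := x) (V := V) hxV hy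
      exact ⟨g, hg, hgx ▸ hyN⟩

end Cfsg.Agent.S5998
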