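import Cfsg.Statements.S5999
import Cfsg.Agent.Lib.Elusive19.Heisenberg3Norm
import Cfsg.Agent.Lib.Elusive19.UnitaryEigen
-- import your own Cfsg.Agent.* helpers here

set_option autoImplicit false
open scoped MatrixGroups
open Cfsg

namespace Cfsg.Agent.S5999

open Matrix Lib.Elusive19.Heisenberg3 Lib.Elusive19.UnitaryEigen Lib.Unitary

local notation "M3" => Matrix (Fin 3) (Fin 3) _

theorem exists_root {F : Type*} [Field F] [Fintype F] {Q : ℕ} (hF : Fintype.card F = Q) (n : ℕ)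
    (h : Q % n = 1) : ∃ η : F, η ^ n = 1 ∧ orderOf η = n := by
  classical
  obtain ⟨g, hg⟩ := IsCyclic.exists_generator (α := Fˣ)
  have ho : orderOf g = Q - 1 := by
    rw [orderOf_eq_card_of_forall_mem_zpowers hg, Nat.card_eq_fintype_card, Fintype.card_units, hF]
  have hp2 : 2 ≤ Q := hF ▸ Fintype.one_lt_card
  obtain ⟨k, hk⟩ : n ∣ Q - 1 := by
    have := Nat.div_add_mod Q n
    exact ⟨Q / n, by omega⟩
  have hk0 : k ≠ 0 := by rintro rfl; omega
  have hn : orderOf (g ^ k) = n := by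
    rw [orderOf_pow_of_dvd hk0 (by rw [ho, hk]; exact dvd_mul_left k n), ho, hk,
      Nat.mul_div_cancel _ (Nat.pos_of_ne_zero hk0)]
  refine ⟨((g ^ k : Fˣ) : F), ?_, by rw [orderOf_units, hn]⟩
  rw [← Units.val_pow_eq_pow_val, ← hn, pow_orderOf_eq_one, Units.val_one]

theorem exists_cube {F : Type*} [Field F] {η z : F} (h9 : η ^ 9 = 1) (ho : orderOf η = 9)
    (hz : z ^ 3 = 1) : ∃ t : F, t ^ 3 = z ∧ t ^ 9 = 1 := by
  have h1 : orderOf (η ^ 3) = 3 := by
    rw [orderOf_pow_of_dvd (by norm_num) (by rw [ho]; norm_num), ho]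
  obtain ⟨i, -, hi⟩ := (h1 ▸ IsPrimitiveRoot.orderOf (η ^ 3)).eq_pow_of_pow_eq_one hz
  exact ⟨η ^ i, by rw [← pow_mul, mul_comm, pow_mul, hi],
    by rw [← pow_mul, mul_comm, pow_mul, h9, one_pow]⟩

theorem norm_one_of_pow {F : Type*} [Field F] {q n : ℕ} {t : F} (ht : t ^ n = 1) (h : n ∣ q + 1) :
    t * t ^ q = 1 := by
  obtain ⟨c, hc⟩ := h
  rw [← pow_succ', hc, pow_mul, ht, one_pow]

theorem not_dvd_card {F : Type*} [Field F] [Fintype F] {p : ℕ} (hF : Fintype.card F = p ^ 2)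
    (hp3 : p % 3 = 2) (h9 : p % 9 ≠ 8) [Fact p.Prime] :
    ¬ 3 * 27 ∣ Nat.card ↥(Cfsg.GU 3 F p ⊓ Cfsg.Geo.specialLinear (Fin 3) F) := by
  classical
  intro h
  let e : Cfsg.SU 3 F p ≃ ↥(Cfsg.GU 3 F p ⊓ Cfsg.Geo.specialLinear (Fin 3) F) :=
    { toFun := fun A => ⟨(A.1 : Matrix.SpecialLinearGroup (Fin 3) F), A.2,
        MonoidHom.mem_ker.2 (Units.ext A.1.2)⟩
      invFun := fun A => ⟨⟨A.1.1, by
        have := congrArg Units.val (MonoidHom.mem_ker.1 A.2.2)
        simpa using this⟩, A.2.1⟩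
      left_inv := fun A => rfl
      right_inv := fun A => Subtype.ext (Units.ext rfl) }
  rw [← Nat.card_congr e] at h
  obtain ⟨a, rfl⟩ : ∃ a, p = 3 * a + 2 := ⟨p / 3, by omega⟩
  have ha : a % 3 ≠ 2 := fun h0 => h9 (by omega)
  have hc := card_SU (n := 3) hF (by norm_num)
  rw [card_GU hF, Finset.prod_range_succ, Finset.prod_range_succ, Finset.prod_range_succ,
    Finset.prod_range_zero] at hc
  simp only [show Even 0 from Even.zero, show ¬ Even 1 from Nat.not_even_one, show Even 2 from even_two,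
    if_true, if_false] at hc
  set q := 3 * a + 2 with hq
  have hq2 : q ^ (1 + 1) - 1 = 3 * ((a + 1) * (3 * a + 1)) := by
    apply Nat.sub_eq_of_eq_add; rw [hq]; ring
  rw [hq2] at hc
  have hcard : Nat.card (Cfsg.SU 3 F q) =
      27 * (q ^ 3 * (a + 1) * (a + 1) * (3 * a + 1) * (3 * a ^ 2 + 3 * a + 1)) := by
    refine Nat.eq_of_mul_eq_mul_left (show 0 < q + 1 by omega) ?_
    rw [hc, hq]; norm_num; ring
  rw [hcard, mul_comm 3 27] at h
  have h3 := Nat.dvd_of_mul_dvd_mul_left (by norm_num) h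
  have hpr : Nat.Prime 3 := Nat.prime_three
  rcases hpr.dvd_mul.1 h3 with h4 | h4
  · rcases hpr.dvd_mul.1 h4 with h5 | h5
    · rcases hpr.dvd_mul.1 h5 with h6 | h6
      · rcases hpr.dvd_mul.1 h6 with h7 | h7
        · have := hpr.dvd_of_dvd_pow h7; omega
        · omega
      · omega
    · omega
  · omega

theorem exists_perm {F : Type*} [Field F] (h2 : (2 : F) ≠ 0) (u : Fin 3 → F)
    (hu : ∀ i, u i = 1 ∨ u i = -1) (hprod : ∏ i, u i = 1) (hne : ¬ ∀ i, u i = u 0) :
    ∃ σ : Equiv.Perm (Fin 3), ∀ i, ![(1 : F), -1, -1] (σ i) = u i := by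
  have h11 : (-1 : F) ≠ 1 := fun h => h2 (by linear_combination -h)
  rw [Fin.prod_univ_three] at hprod
  rcases hu 0 with h0 | h0 <;> rcases hu 1 with h1 | h1 <;> rcases hu 2 with h3 | h3
  all_goals first
    | (exfalso; rw [h0, h1, h3] at hprod; simp only [one_mul, mul_one, mul_neg, neg_mul, neg_neg] at hprod; exact h11 hprod)
    | (exfalso; apply hne; intro i; fin_cases i <;> simp [h0, h1, h3]; done)
    | (refine ⟨1, fun i => ?_⟩; fin_cases i <;> simp [h0, h1, h3]; done)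
    | (refine ⟨Equiv.swap 0 1, fun i => ?_⟩; fin_cases i <;> simp [h0, h1, h3, Equiv.swap_apply_def]; done)
    | (refine ⟨Equiv.swap 0 2, fun i => ?_⟩; fin_cases i <;> simp [h0, h1, h3, Equiv.swap_apply_def]; done)

variable {F : Type*} [Field F] [Fintype F] {p : ℕ} {R : Subgroup (GL (Fin 3) F)}

/-- The coordinates can be taken unitary. -/
theorem exists_unitary_coords (hF : Fintype.card F = p ^ 2) (hp3 : p % 3 = 2)
    (hRU : R ≤ Cfsg.GU 3 F p) (C : Coords R) :
    ∃ C' : Coords R, C'.P ∈ Cfsg.GU 3 F p := by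
  classical
  let b : Fin 3 → Fin 3 → F := fun i => (C.P : Matrix (Fin 3) (Fin 3) F) *ᵥ Pi.single i 1
  have hAP : (C.A : Matrix (Fin 3) (Fin 3) F) * (C.P : Matrix (Fin 3) (Fin 3) F) =
      (C.P : Matrix (Fin 3) (Fin 3) F) * dA C.ω := by
    rw [← C.cA, ← Units.val_mul, ← Units.val_mul,
      show C.P * (C.P⁻¹ * C.A * C.P) = C.A * C.P by group]
  have hBP : (C.B : Matrix (Fin 3) (Fin 3) F) * (C.P : Matrix (Fin 3) (Fin 3) F) =
      (C.P : Matrix (Fin 3) (Fin 3) F) * dB := by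
    rw [← C.cB, ← Units.val_mul, ← Units.val_mul,
      show C.P * (C.P⁻¹ * C.B * C.P) = C.B * C.P by group]
  have hA : ∀ i, (C.A : Matrix (Fin 3) (Fin 3) F) *ᵥ b i = ![1, C.ω, C.ω ^ 2] i • b i := fun i => by
    show _ *ᵥ (_ *ᵥ _) = _
    rw [Matrix.mulVec_mulVec, hAP, ← Matrix.mulVec_mulVec, dA, Matrix.diagonal_mulVec_single, mul_one,
      show (Pi.single i (![1, C.ω, C.ω ^ 2] i) : Fin 3 → F) = ![1, C.ω, C.ω ^ 2] i • Pi.single i 1 by
        simp [← Pi.single_smul], Matrix.mulVec_smul]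
  have hB : ∀ i, (C.B : Matrix (Fin 3) (Fin 3) F) *ᵥ b i = b (i + 1) := fun i => by
    show _ *ᵥ (_ *ᵥ _) = _
    rw [Matrix.mulVec_mulVec, hBP, ← Matrix.mulVec_mulVec]
    congr 1
    fin_cases i <;> ext j <;> fin_cases j <;> simp [dB, Matrix.mulVec, dotProduct, Fin.sum_univ_three]
  have hUA := mem_GU_iff.1 (hRU C.hA)
  have hUB := mem_GU_iff.1 (hRU C.hB)
  have hωn : ∀ i j : Fin 3, i ≠ j → ![1, C.ω, C.ω ^ 2] i * ![1, C.ω, C.ω ^ 2] j ^ p ≠ 1 := by
    intro i j hij h1
    have hi : ∀ i : Fin 3, ![1, C.ω, C.ω ^ 2] i = C.ω ^ (i : ℕ) := fun i => by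
      fin_cases i <;> simp
    rw [hi, hi, ← pow_mul, ← pow_add] at h1
    have ho : orderOf C.ω = 3 := by
      have : Fact (Nat.Prime 3) := ⟨Nat.prime_three⟩
      exact orderOf_eq_prime C.hω3 C.hω
    have h4 := ho ▸ orderOf_dvd_of_pow_eq_one h1
    fin_cases i <;> fin_cases j <;> simp at hij h4 <;> omega
  have horth : ∀ i j, i ≠ j → hermForm 3 F p (b i) (b j) = 0 := fun i j hij => by
    by_contra h0
    have h1 := hUA (b i) (b j)
    rw [hA, hA, herm_smul_left, herm_smul_right, ← mul_assoc] at h1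
    exact hωn i j hij (mul_right_cancel₀ h0 (h1.trans (one_mul _).symm))
  have hdiag : ∀ i, hermForm 3 F p (b i) (b i) = hermForm 3 F p (b 0) (b 0) := by
    have h1 := hUB (b 0) (b 0)
    have h2 := hUB (b 1) (b 1)
    rw [hB] at h1 h2
    intro i
    fin_cases i
    · rfl
    · exact h1
    · exact h2.trans h1
  have hc0 : hermForm 3 F p (b 0) (b 0) ≠ 0 := fun h0 => by
    have hz : b 0 = 0 := by
      refine herm_nondeg_left hF fun w => ?_
      have hPs : w = ∑ i, (((C.P⁻¹ : GL (Fin 3) F) : Matrix (Fin 3) (Fin 3) F) *ᵥ w) i • b i := by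
        conv_lhs => rw [← Matrix.one_mulVec w, ← Units.mul_inv C.P, ← Matrix.mulVec_mulVec,
          pi_eq_sum_univ' (((C.P⁻¹ : GL (Fin 3) F) : Matrix (Fin 3) (Fin 3) F) *ᵥ w), Matrix.mulVec_sum]
        exact Finset.sum_congr rfl fun i _ => Matrix.mulVec_smul _ _ _
      rw [hPs, herm_sum_right _ hF]
      refine Finset.sum_eq_zero fun i _ => ?_
      rw [herm_smul_right]
      by_cases hi : 0 = i
      · rw [← hi, h0, mul_zero]
      · rw [horth 0 i hi, mul_zero]
    have h1 := congrArg (fun v => ((C.P⁻¹ : GL (Fin 3) F) : Matrix (Fin 3) (Fin 3) F) *ᵥ v) hz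
    simp only [b, Matrix.mulVec_mulVec, Units.inv_mul, Matrix.one_mulVec, Matrix.mulVec_zero] at h1
    simpa using congrFun h1 0
  obtain ⟨x, hx⟩ := norm_surj hF (y := (hermForm 3 F p (b 0) (b 0))⁻¹) (by
    rw [inv_pow, herm_self_fixed _ hF])
  have hx0 : x ≠ 0 := fun h => by
    rw [h, zero_mul] at hx; exact inv_ne_zero hc0 hx.symm
  let S := Coords.scalarG x hx0
  have hS : ∀ M : GL (Fin 3) F, S * M = M * S := fun M => Units.ext (by
    simp [S, Coords.scalarG_val])
  have hconj : ∀ M : GL (Fin 3) F, (C.P * S)⁻¹ * M * (C.P * S) = C.P⁻¹ * M * C.P := fun M => by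
    calc (C.P * S)⁻¹ * M * (C.P * S) = S⁻¹ * ((C.P⁻¹ * M * C.P) * S) := by group
      _ = C.P⁻¹ * M * C.P := by rw [← hS, inv_mul_cancel_left]
  refine ⟨{ C with P := C.P * S, cA := by rw [hconj]; exact C.cA, cB := by rw [hconj]; exact C.cB }, ?_⟩
  show C.P * S ∈ Cfsg.GU 3 F p
  have hPS : ((C.P * S : GL (Fin 3) F) : Matrix (Fin 3) (Fin 3) F) = (Matrix.of fun i => x • b i)ᵀ := by
    ext i j
    simp [b, S, Coords.scalarG_val, mul_comm]
  rw [mem_GU_iff, hPS]
  refine preserving_of_orthonormal hF fun i j => ?_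
  rw [herm_smul_left, herm_smul_right, ← mul_assoc, hx]
  by_cases hij : i = j
  · rw [if_pos hij, ← hij, hdiag i, inv_mul_cancel₀ hc0]
  · rw [if_neg hij, horth i j hij, mul_zero]

/-- An involution of the normaliser with a unitary eigenbasis. -/
theorem involution_unitary (hF : Fintype.card F = p ^ 2) (h2 : (2 : F) ≠ 0) (C : Coords R)
    (hP : C.P ∈ Cfsg.GU 3 F p) {s : F} (hs : s ≠ 0) (σ : Equiv.Perm (Fin 3)) :
    ∃ (y W : GL (Fin 3) F), y ∈ Cfsg.Geo.subgroupNormalizer R ∧ W ∈ Cfsg.GU 3 F p ∧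
      (y : Matrix (Fin 3) (Fin 3) F) * (W : Matrix (Fin 3) (Fin 3) F) =
        (W : Matrix (Fin 3) (Fin 3) F) * Matrix.diagonal fun i => s * ![1, -1, -1] (σ i) := by
  classical
  let S : Matrix (Fin 3) (Fin 3) F := !![-1, 0, 0; 0, 0, -1; 0, -1, 0]
  let Y : GL (Fin 3) F := Matrix.GeneralLinearGroup.mkOfDetNeZero (s • S)
    (by simp [S, Matrix.det_smul, Matrix.det_fin_three, hs])
  have hY : (Y : Matrix (Fin 3) (Fin 3) F) = s • S := rfl
  have hfix2 : (2 : F) ^ p = 2 := by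
    have h := add_pow_q hF (1 : F) 1
    rwa [one_pow, one_add_one_eq_two] at h
  obtain ⟨a, ha⟩ := norm_surj hF (y := (2 : F)⁻¹) (by rw [inv_pow, hfix2])
  let cols : Fin 3 → Fin 3 → F := ![![0, a, -a], ![1, 0, 0], ![0, a, a]]
  have horth : Orthonormal' p fun i => cols (σ i) := by
    intro i j
    have hij : (i = j) = (σ i = σ j) := propext σ.injective.eq_iff.symm
    simp only [hij]
    generalize σ i = c
    generalize σ j = d
    have hsum : a * a ^ p + a * a ^ p = 1 := by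
      rw [ha, ← two_mul, mul_inv_cancel₀ h2]
    have hneg : (-a) ^ p = -(a ^ p) := neg_pow_q hF a
    have h0 : (0 : F) ^ p = 0 := zero_pow_q hF
    fin_cases c <;> fin_cases d <;>
      simp [cols, hermForm, Fin.sum_univ_three, hneg, h0, hsum]
  obtain ⟨W, hW⟩ := exists_GU_cols hF horth
  refine ⟨C.P * Y * C.P⁻¹, C.P * W.1, C.conj_mem_normalizer ?_ ?_, mul_mem hP W.2, ?_⟩
  · have : Y * C.A0 * Y⁻¹ = C.A0 ^ 2 := by
      rw [mul_inv_eq_iff_eq_mul]
      apply Units.ext
      simp only [Units.val_mul, Units.val_pow_eq_pow_val, hY]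
      show _ * ((C.P⁻¹ * C.A * C.P : GL (Fin 3) F) : Matrix (Fin 3) (Fin 3) F) =
        ((C.P⁻¹ * C.A * C.P : GL (Fin 3) F) : Matrix (Fin 3) (Fin 3) F) ^ 2 * _
      rw [C.cA, smul_mul_assoc, mul_smul_comm]
      congr 1
      ext i j
      fin_cases i <;> fin_cases j <;>
        simp [S, dA, Matrix.diagonal_pow, Matrix.mul_diagonal, Matrix.diagonal_mul, -Matrix.cons_mul]
      linear_combination -C.ω * C.hω3
    rw [this]; exact pow_mem C.A0_mem 2
  · have : Y * C.B0 * Y⁻¹ = C.B0 ^ 2 := by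
      rw [mul_inv_eq_iff_eq_mul]
      apply Units.ext
      simp only [Units.val_mul, Units.val_pow_eq_pow_val, hY]
      show _ * ((C.P⁻¹ * C.B * C.P : GL (Fin 3) F) : Matrix (Fin 3) (Fin 3) F) =
        ((C.P⁻¹ * C.B * C.P : GL (Fin 3) F) : Matrix (Fin 3) (Fin 3) F) ^ 2 * _
      rw [C.cB, smul_mul_assoc, mul_smul_comm]
      congr 1
      ext i j
      fin_cases i <;> fin_cases j <;>
        simp [S, dB, pow_two, Matrix.mul_apply, Fin.sum_univ_three]
    rw [this]; exact pow_mem C.B0_mem 2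
  · rw [← Units.val_mul, show C.P * Y * C.P⁻¹ * (C.P * W.1) = C.P * (Y * W.1) by group, Units.val_mul,
      Units.val_mul, Units.val_mul, mul_assoc]
    congr 1
    rw [hY]
    refine Matrix.ext_of_mulVec_single fun i => ?_
    rw [← Matrix.mulVec_mulVec, ← Matrix.mulVec_mulVec, hW, Matrix.diagonal_mulVec_single, mul_one,
      show (Pi.single i (s * ![1, -1, -1] (σ i)) : Fin 3 → F) =
        (s * ![1, -1, -1] (σ i)) • Pi.single i 1 by simp [← Pi.single_smul],
      Matrix.mulVec_smul, hW]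
    generalize σ i = c
    funext k
    fin_cases c <;> fin_cases k <;>
      simp [S, cols, Matrix.mulVec, dotProduct, Fin.sum_univ_three]


/-- Elements of prime order of PSU_3(p), p ≡ 2 (mod 3), and the normalizer of an extraspecial subgroup of order 27. Here `T = PSU_3(p)` for a prime `p ≥ 5` with `p ≡ 2 (mod 3)`, realised through `SU_3(p)`, the matrices of determinant 1 over the field `F` with `p²` elements preserving the hermitian form `Σ uᵢvᵢ^p`; `R` is a non-abelian subgroup of order 27 and exponent 3 of the full unitary group of that form (an extraspecial group 3^{1+2}, acting absolutely irreducibly), and `H` is the subgroup of `SU_3(p)` normalizing `R` — a subgroup of type 3^{1+2}.Sp₂(3) (maximality is not assumed). Ω is the set of cosets of `H`, so an element of `T` of prime order `r` (`x ∈ SU_3(p)` with `x^r` scalar, `x` not scalar) fixes a point of Ω exactly when some `SU_3(p)`-conjugate of `x` normalizes `R`. Let `r` be a prime dividing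 the index of `H`. Then every element of `T` of order `r` fixes a point of Ω if and only if `r = 2`, or `r = 3` and `p ≡ 8 (mod 9)`. -/
theorem result {F : Type*} [Field F] [Fintype F] {p : ℕ} [Fact p.Prime] [CharP F p] (hF : Fintype.card F = p ^ 2) (hp : 5 ≤ p) (hp3 : p % 3 = 2)
    (R : Subgroup (GL (Fin 3) F)) (hRU : R ≤ Cfsg.GU 3 F p) (hR : Nat.card R = 27) (hRe : Monoid.exponent R = 3) (hRna : ¬ IsMulCommutative R)
    (r : ℕ) [Fact r.Prime]
    (hΩ : r ∣ (Cfsg.Geo.subgroupNormalizer R).relIndex (Cfsg.GU 3 F p ⊓ Cfsg.Geo.specialLinear (Fin 3) F)) :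
    (∀ x ∈ Cfsg.GU 3 F p ⊓ Cfsg.Geo.specialLinear (Fin 3) F, (∃ z : F, ((x ^ r : GL (Fin 3) F) : Matrix (Fin 3) (Fin 3) F) = z • (1 : Matrix (Fin 3) (Fin 3) F)) →
      (∀ z : F, (x : Matrix (Fin 3) (Fin 3) F) ≠ z • (1 : Matrix (Fin 3) (Fin 3) F)) →
      ∃ g ∈ Cfsg.GU 3 F p ⊓ Cfsg.Geo.specialLinear (Fin 3) F, g⁻¹ * x * g ∈ Cfsg.Geo.subgroupNormalizer R) ↔ (r = 2 ∨ (r = 3 ∧ p % 9 = 8)) := by
  classical
  set N := Cfsg.Geo.subgroupNormalizer R with hN
  set T := Cfsg.GU 3 F p ⊓ Cfsg.Geo.specialLinear (Fin 3) F with hT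
  have h3 : (3 : F) ≠ 0 := fun h => by
    have := Nat.le_of_dvd (by norm_num) ((CharP.cast_eq_zero_iff F p 3).1 (by exact_mod_cast h))
    omega
  have h2 : (2 : F) ≠ 0 := fun h => by
    have := Nat.le_of_dvd (by norm_num) ((CharP.cast_eq_zero_iff F p 2).1 (by exact_mod_cast h))
    omega
  have hd3 : 3 ∣ p + 1 := by omega
  obtain ⟨ω, hω3, hω⟩ := exists_root hF 3 (by rw [Nat.pow_mod, hp3])
  have hω1 : ω ≠ 1 := fun h => by rw [h, orderOf_one] at hω; omega
  obtain ⟨C₀⟩ := exists_coords h3 hω3 hω1 R hR hRe hRna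
  obtain ⟨C, hP⟩ := exists_unitary_coords hF hp3 hRU C₀
  have hRN : R ≤ N := Subgroup.le_normalizer
  have hRS : R ≤ T := le_inf hRU C.le_specialLinear
  have hidx : N.relIndex T * 27 ∣ Nat.card T := by
    have h1 := Subgroup.card_mul_index ((N ⊓ T).subgroupOf T)
    rw [Nat.card_congr (Subgroup.subgroupOfEquivOfLe inf_le_right).toEquiv] at h1
    have h2 : 27 ∣ Nat.card ↥(N ⊓ T) := hR ▸ Subgroup.card_dvd_of_le (le_inf hRN hRS)
    have h3 : ((N ⊓ T).subgroupOf T).index = N.relIndex T := by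
      show (N ⊓ T).relIndex T = _
      rw [Subgroup.inf_relIndex_right]
    rw [← h3, ← h1, mul_comm]
    exact Nat.mul_dvd_mul_right h2 _
  have hdvd : r ∣ Nat.card T := hΩ.trans (dvd_of_mul_right_dvd hidx)
  have hdet : ∀ (x : GL (Fin 3) F), x ∈ T → ∀ z : F, ∀ m : ℕ,
      ((x ^ m : GL (Fin 3) F) : Matrix (Fin 3) (Fin 3) F) = z • 1 → z ^ 3 = 1 := by
    intro x hx z m h
    have h1 : Matrix.GeneralLinearGroup.det (x ^ m) = 1 := MonoidHom.mem_ker.1 (pow_mem hx.2 m)
    have h2 := congrArg Units.val h1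
    rw [Matrix.GeneralLinearGroup.val_det_apply, h, Matrix.det_smul, Matrix.det_one, mul_one,
      Fintype.card_fin, Units.val_one] at h2
    exact h2
  constructor
  · intro h
    by_contra hc
    by_cases hr3 : r = 3
    · subst hr3
      have h9 : p % 9 ≠ 8 := fun h9 => hc (Or.inr ⟨rfl, h9⟩)
      exact not_dvd_card hF hp3 h9 (dvd_trans (Nat.mul_dvd_mul_right hΩ 27) hidx)
    · have hr2 : r ≠ 2 := fun h => hc (Or.inl h)
      have hr : r.Prime := Fact.out
      have hr5 : 5 ≤ r := by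
        rcases (show r = 4 ∨ 5 ≤ r by have := hr.two_le; omega) with h4 | h5
        · exact absurd (h4 ▸ hr) (by norm_num)
        · exact h5
      obtain ⟨y, hy⟩ := exists_prime_orderOf_dvd_card' (G := T) r hdvd
      have hyr : (y : GL (Fin 3) F) ^ r = 1 := by
        rw [← Subgroup.coe_pow, ← hy, pow_orderOf_eq_one]; rfl
      have hns : ∀ z : F, ((y : GL (Fin 3) F) : Matrix (Fin 3) (Fin 3) F) ≠ z • 1 := by
        intro z hz
        have hz3 : z ^ 3 = 1 := hdet _ y.2 z 1 (by rw [pow_one]; exact hz)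
        have hy3 : y ^ 3 = 1 := by
          apply Subtype.ext
          apply Units.ext
          rw [Subgroup.coe_pow, Units.val_pow_eq_pow_val, hz, smul_pow, one_pow, hz3, one_smul]
          rfl
        have := orderOf_dvd_of_pow_eq_one hy3
        rw [hy] at this
        have := Nat.le_of_dvd (by norm_num) this
        omega
      obtain ⟨g, -, hg⟩ := h y y.2 ⟨1, by rw [hyr, one_smul]; rfl⟩ hns
      have hgr : (g⁻¹ * (y : GL (Fin 3) F) * g) ^ r = 1 := by
        calc (g⁻¹ * (y : GL (Fin 3) F) * g) ^ r = (g⁻¹ * y * g⁻¹⁻¹) ^ r := by rw [inv_inv]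
          _ = 1 := by rw [conj_pow, hyr, mul_one, mul_inv_cancel]
      obtain ⟨z, hz⟩ := C.eq_scalar_of_mem hR hr5 hg hgr
      refine hns z ?_
      rw [show (y : GL (Fin 3) F) = g * (g⁻¹ * y * g) * g⁻¹ by group, Units.val_mul, Units.val_mul,
        hz, mul_smul_comm, mul_one, smul_mul_assoc, Units.mul_inv]
  · intro hcase x hx hz hns
    obtain ⟨z, hz⟩ := hz
    have hz3 : z ^ 3 = 1 := hdet x hx z r hz
    have hz0 : z ≠ 0 := fun h => by simp [h] at hz3
    have hxd : (x : Matrix (Fin 3) (Fin 3) F).det = 1 :=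
      congrArg Units.val (MonoidHom.mem_ker.1 hx.2)
    rcases hcase with rfl | ⟨rfl, h9⟩
    · set s := z ^ 2 with hs
      have hs0 : s ≠ 0 := pow_ne_zero 2 hz0
      have hss : s * s = z := by rw [hs]; linear_combination z * hz3
      have hs3 : s ^ 3 = 1 := by rw [hs]; linear_combination (z ^ 3 + 1) * hz3
      have hs1 : s * s ^ p = 1 := norm_one_of_pow hs3 hd3
      have hxx : ∀ v, (x : Matrix (Fin 3) (Fin 3) F) *ᵥ ((x : Matrix (Fin 3) (Fin 3) F) *ᵥ v) =
          (s * s) • v := fun v => by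
        rw [Matrix.mulVec_mulVec, ← Units.val_mul, ← pow_two, hz, hss, Matrix.smul_mulVec,
          Matrix.one_mulVec]
      obtain ⟨V, hV, u, hu, hxV⟩ := exists_unitary_diag hF (mem_GU_iff.1 hx.1)
        (S := {s, -s}) (fun μ hμ => by
          rcases hμ with rfl | hμ
          · exact hs1
          · rw [Set.mem_singleton_iff.1 hμ, neg_pow_q hF, neg_mul_neg, hs1]) (fun v _ => by
        have hv : v = (2 : F)⁻¹ • ((v + s⁻¹ • ((x : Matrix (Fin 3) (Fin 3) F) *ᵥ v)) +
            (v - s⁻¹ • ((x : Matrix (Fin 3) (Fin 3) F) *ᵥ v))) := by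
          rw [add_add_sub_cancel, ← two_smul F v, smul_smul, inv_mul_cancel₀ h2, one_smul]
        rw [hv]
        refine Submodule.smul_mem _ _ (Submodule.add_mem _ (Submodule.subset_span ⟨s, Or.inl rfl, ?_⟩)
          (Submodule.subset_span ⟨-s, Or.inr rfl, ?_⟩))
        · rw [Matrix.mulVec_add, Matrix.mulVec_smul, hxx, smul_smul, smul_add, smul_smul,
            inv_mul_cancel_left₀ hs0, mul_inv_cancel₀ hs0, one_smul, add_comm]
        · rw [Matrix.mulVec_sub, Matrix.mulVec_smul, hxx, smul_smul, smul_sub, smul_smul,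
            inv_mul_cancel_left₀ hs0, neg_mul, mul_inv_cancel₀ hs0, neg_smul, neg_smul, one_smul]
          abel)
      obtain ⟨σ, hσ⟩ := exists_perm h2 (fun i => s⁻¹ * u i) (fun i => by
          rcases hu i with h | h
          · left; rw [h, inv_mul_cancel₀ hs0]
          · right; rw [Set.mem_singleton_iff.1 h, mul_neg, inv_mul_cancel₀ hs0]) (by
          have h1 := congrArg Matrix.det hxV
          rw [Matrix.det_mul, Matrix.det_mul, hxd, one_mul, Matrix.det_diagonal] at h1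
          rw [Finset.prod_mul_distrib, Finset.prod_const, Finset.card_univ, Fintype.card_fin, inv_pow,
            hs3, inv_one, one_mul]
          exact (mul_left_cancel₀ (Matrix.isUnits_det_units V).ne_zero
            (h1.symm.trans (mul_one _).symm)))
        (fun hall => hns (u 0) (by
          have hd : Matrix.diagonal u = u 0 • 1 := by
            rw [Matrix.smul_one_eq_diagonal]
            exact congrArg Matrix.diagonal (funext fun i =>
              mul_left_cancel₀ (inv_ne_zero hs0) (hall i))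
          rw [hd, mul_smul_comm, mul_one] at hxV
          have := congrArg (· * ((V⁻¹ : GL (Fin 3) F) : Matrix (Fin 3) (Fin 3) F)) hxV
          simpa [mul_assoc] using this))
      obtain ⟨y, W, hyN, hW, hy⟩ := involution_unitary hF h2 C hP hs0 σ
      have hu' : u = fun i => s * ![(1 : F), -1, -1] (σ i) := funext fun i => by
        rw [hσ, mul_inv_cancel_left₀ hs0]
      rw [hu'] at hxV
      obtain ⟨g, hgU, hgd, hgx⟩ := exists_su_conj hF (by norm_num) hV hW hxV hy
      exact ⟨g, ⟨hgU, MonoidHom.mem_ker.2 hgd⟩, hgx ▸ hyN⟩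
    · obtain ⟨η, hη9, hη⟩ := exists_root hF 9 (by rw [Nat.pow_mod, h9])
      obtain ⟨t, ht3, ht9⟩ := exists_cube hη9 hη hz3
      have ht0 : t ≠ 0 := fun h => hz0 (by rw [← ht3, h, zero_pow (by norm_num)])
      have ht1 : t * t ^ p = 1 := norm_one_of_pow ht9 (by omega)
      have hωn : ∀ k : ℕ, C.ω ^ k * (C.ω ^ k) ^ p = 1 := fun k =>
        norm_one_of_pow (by rw [← pow_mul, mul_comm, pow_mul, C.hω3, one_pow]) hd3
      obtain ⟨V, hV, u, hu, hxV⟩ := exists_unitary_diag hF (mem_GU_iff.1 hx.1)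
        (S := Set.range fun k : ℕ => t * C.ω ^ k) (fun μ ⟨k, hk⟩ => by
          rw [← hk, mul_pow]; linear_combination (C.ω ^ k * (C.ω ^ k) ^ p) * ht1 + hωn k) (by
        have hs := span_eig3 h3 C.hω3 C.hω
          (t⁻¹ • Matrix.toLin' (x : Matrix (Fin 3) (Fin 3) F)) fun v => by
            simp only [LinearMap.smul_apply, Matrix.toLin'_apply, Matrix.mulVec_smul, smul_smul,
              Matrix.mulVec_mulVec]
            rw [← Units.val_mul, ← Units.val_mul, show x * (x * x) = x ^ 3 by rw [pow_succ, pow_two, mul_assoc], hz, Matrix.smul_mulVec,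
              Matrix.one_mulVec, smul_smul, ← ht3,
              show t⁻¹ * (t⁻¹ * t⁻¹) * t ^ 3 = (1 : F) by field_simp, one_smul]
        refine hs.trans (Submodule.span_mono ?_)
        rintro v ⟨k, hk⟩
        refine ⟨t * C.ω ^ k, ⟨k, rfl⟩, ?_⟩
        rw [LinearMap.smul_apply, Matrix.toLin'_apply] at hk
        rw [mul_smul, ← hk, smul_smul, mul_inv_cancel₀ ht0, one_smul])
      choose k hk using hu
      obtain ⟨y, hyN, hy⟩ := C.diag_mem ht0 k
      rw [show u = fun i => t * C.ω ^ k i from funext fun i => (hk i).symm] at hxV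
      obtain ⟨g, hgU, hgd, hgx⟩ := exists_su_conj hF (by norm_num) hV hP hxV hy
      exact ⟨g, ⟨hgU, MonoidHom.mem_ker.2 hgd⟩, hgx ▸ hyN⟩


end Cfsg.Agent.S5999
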