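import Cfsg.Statements.S6000
import Cfsg.Agent.Lib.Elusive19.Pauli4.Invol
import Cfsg.Agent.Lib.Elusive19.Pauli4.Three
import Mathlib.LinearAlgebra.Matrix.Charpoly.Eigs

set_option autoImplicit false
open scoped MatrixGroups
open Cfsg

namespace Cfsg.Agent.S6000

open Matrix Lib.Elusive19.Pauli4

local notation "M4" => Matrix (Fin 4) (Fin 4)

theorem mem_SL {F : Type*} [Field F] {x : GL (Fin 4) F} :
    x ∈ Cfsg.Geo.specialLinear (Fin 4) F ↔ (x : M4 F).det = 1 := by
  rw [Cfsg.Geo.specialLinear, MonoidHom.mem_ker, Units.ext_iff, Matrix.GeneralLinearGroup.val_det_apply,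
    Units.val_one]

/-- The square root of the square of an element of determinant one is in the field. -/
theorem exists_sqrt {F : Type*} [Field F] (h2 : (2 : F) ≠ 0) {i : F} (hi : i * i = -1)
    {X : M4 F} {z : F} (hX : X * X = z • 1) (hdet : X.det = 1) (hz : z ^ 4 = 1) :
    ∃ a : F, a * a = z := by
  rcases mul_self_eq_one_iff.mp (show (z * z) * (z * z) = 1 by linear_combination hz) with h | h
  · rcases mul_self_eq_one_iff.mp h with rfl | rfl
    · exact ⟨1, one_mul 1⟩
    · exact ⟨i, hi⟩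
  let K := AlgebraicClosure F
  let φ := algebraMap F K
  obtain ⟨a, ha⟩ := IsAlgClosed.exists_eq_mul_self (φ z)
  have hz0 : z ≠ 0 := fun h0 => by simp [h0] at hz
  have ha0 : a ≠ 0 := fun h0 => hz0 (φ.injective (by rw [ha, h0, mul_zero, map_zero]))
  have h2K : (2 : K) ≠ 0 := fun h0 => h2 (φ.injective (by rw [map_ofNat, map_zero]; exact h0))
  have hXK : X.map φ * X.map φ = (a * a) • (1 : M4 K) := by
    rw [← Matrix.map_mul, hX, ← ha, Matrix.map_smul' _ _ _ (map_mul φ), Matrix.map_one _ (map_zero _) (map_one _)]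
  obtain ⟨P, u, hu, hd, hdet', htr⟩ := exists_split (Fintype.card_fin 4) h2K ha0 hXK
  obtain ⟨-, -, hle, -, -⟩ := involution_data (Fintype.card_fin 4) h2K hu hd
  have hd1 : (X.map φ).det = 1 := by
    rw [← RingHom.mapMatrix_apply, ← RingHom.map_det, hdet, map_one]
  have ha4 : a ^ 4 = -1 := by
    rw [show a ^ 4 = (a * a) * (a * a) by ring, ← ha, ← map_mul, h, map_neg, map_one]
  rw [hd1, ha4] at hdet'
  have htr' : φ X.trace = a * (4 - 2 * (negCount u : K)) := by
    rw [← htr]; simp [Matrix.trace, map_sum]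
  have h11 : (1 : K) ≠ -1 := fun h0 => h2K (by linear_combination h0)
  have hk : negCount u = 1 ∨ negCount u = 3 := by
    have hne : ¬ Even (negCount u) := fun he => h11 (by rw [he.neg_one_pow, mul_one] at hdet'; exact hdet')
    have := Nat.odd_iff.mp (Nat.not_even_iff_odd.mp hne)
    omega
  have key : ∀ e : F, e * e = 1 → φ X.trace = φ e * 2 * a → ∃ a : F, a * a = z := by
    intro e he heq
    refine ⟨X.trace / (e * 2), φ.injective ?_⟩
    have he0 : φ e ≠ 0 := fun h0 => by
      have := congrArg φ he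
      rw [map_mul, h0, mul_zero, map_one] at this
      exact zero_ne_one this
    rw [map_mul, map_div₀, map_mul, map_ofNat, heq, ha,
      mul_div_cancel_left₀ _ (mul_ne_zero he0 h2K)]
  rcases hk with hk | hk <;> rw [hk] at htr'
  · exact key 1 (one_mul 1) (by rw [htr', map_one]; norm_num; ring)
  · exact key (-1) (by norm_num) (by rw [htr', map_neg, map_one]; norm_num; ring)


/-- Elements of prime order of PSL_4(p), p ≡ 1 (mod 4), and the normalizer of a 2-group of symplectic type of order 2⁶. Here `T = PSL_4(F)` for the field `F` with `p` elements, `p` a prime with `p ≡ 1 (mod 4)`; `R` is an absolutely irreducible subgroup of GL_4(F) of order 2⁶ that is a 2-group of symplectic type of exponent 4 with centre of order 4 (the central product of the scalars of order 4 with an extraspecial group 2^{1+4}), and `H` is the subgroup of matrices of determinant 1 normalizing `R` — a subgroup of type 2⁴.Sp₄(2) (maximality is not assumed). Ω is the set of cosets of `H` in `T`, so an element of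 `T` of prime order `r` (a matrix `x` of determinant 1 with `x^r` scalar, `x` not scalar) fixes a point of Ω exactly when some conjugate of `x` by a matrix of determinant 1 normalizes `R`. Let `r` be a prime dividing the index of `H`. Then every element of `T` of order `r` fixes a point of Ω if and only if `r = 2`, or `r = 3` and `p ≡ 2 (mod 3)`, or `r = 5` and `p ≡ ±2 (mod 5)` (`p` has multiplicative order 4 modulo 5). -/
theorem result {F : Type*} [Field F] [Fintype F] {p : ℕ} [Fact p.Prime] [CharP F p] (hF : Fintype.card F = p) (hp4 : p % 4 = 1)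
    (R : Subgroup (GL (Fin 4) F)) (hR : Cfsg.Geo.IsLinearSymplecticTypeData 2 R) (hR6 : Nat.card R = 2 ^ 6)
    (r : ℕ) [Fact r.Prime]
    (hΩ : r ∣ (Cfsg.Geo.subgroupNormalizer R).relIndex (Cfsg.Geo.specialLinear (Fin 4) F)) :
    (∀ x ∈ Cfsg.Geo.specialLinear (Fin 4) F, (∃ z : F, ((x ^ r : GL (Fin 4) F) : Matrix (Fin 4) (Fin 4) F) = z • (1 : Matrix (Fin 4) (Fin 4) F)) →
      (∀ z : F, (x : Matrix (Fin 4) (Fin 4) F) ≠ z • (1 : Matrix (Fin 4) (Fin 4) F)) →
      ∃ g ∈ Cfsg.Geo.specialLinear (Fin 4) F, g⁻¹ * x * g ∈ Cfsg.Geo.subgroupNormalizer R) ↔ (r = 2 ∨ (r = 3 ∧ p % 3 = 2) ∨ (r = 5 ∧ orderOf (p : ZMod 5) = 4)) := by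
  classical
  have hp := (Fact.out : p.Prime)
  have hp2 : p ≠ 2 := by omega
  have hp3 : p ≠ 3 := by omega
  have h2 : (2 : F) ≠ 0 := two_ne_zero_of hp2
  have h3 : (3 : F) ≠ 0 := three_ne_zero_of hp3
  have hodd : Fintype.card F % 2 = 1 := by rw [hF]; omega
  have hι : Fintype.card (Fin 4) = 4 := Fintype.card_fin 4
  obtain ⟨hst, habs, q, e, -, -, hcases⟩ := hR
  have hRZ : Nat.card (Subgroup.center R) = 4 := by
    rcases hcases with ⟨h, -⟩ | ⟨-, -, h, -⟩ | ⟨-, -, h, -⟩
    · exact absurd h (by decide)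
    · exact h
    · simp at h
  obtain ⟨Q⟩ := exists_quad_of_i hst habs hRZ (by omega)
  obtain ⟨u, i, hu, hui, hi⟩ := exists_i hst habs hRZ
  let D : Frame R := ⟨Q, hι, h2, gen_word hst habs (Or.inr hRZ) Q hι h2⟩
  have hRN : R ≤ Cfsg.Geo.subgroupNormalizer R := Subgroup.le_normalizer
  have hscal : ∀ x ∈ Cfsg.Geo.specialLinear (Fin 4) F, ∀ c : F, (x : M4 F) = c • 1 → c ^ 4 = 1 :=
    fun x hx c h => pow_four_of_det hι h (mem_SL.mp hx)
  constructor
  · intro hall
    by_cases hr2 : r = 2
    · exact Or.inl hr2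
    by_cases hr3 : r = 3
    · subst hr3
      by_cases hp32 : p % 3 = 2
      · exact Or.inr (Or.inl ⟨rfl, hp32⟩)
      exfalso
      have hp31 : p % 3 = 1 := by
        have : p % 3 ≠ 0 := fun h => hp3
          ((Nat.prime_dvd_prime_iff_eq (by norm_num) hp).mp (Nat.dvd_of_mod_eq_zero h)).symm
        omega
      haveI : Fact (Nat.Prime 3) := ⟨Nat.prime_three⟩
      obtain ⟨w, hw⟩ := exists_prime_orderOf_dvd_card' (G := Fˣ) 3 (by
        rw [Nat.card_eq_fintype_card, Fintype.card_units, hF]; omega)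
      have hw3 : (w : F) ^ 3 = 1 := by
        rw [← Units.val_pow_eq_pow_val, ← hw, pow_orderOf_eq_one, Units.val_one]
      have hw1 : (w : F) ≠ 1 := fun h => by
        rw [show w = 1 from Units.ext h, orderOf_one] at hw; omega
      obtain ⟨x, -, hxd, hx3, hns, h9⟩ := exists_reflection hw3 hw1
      have hz : ((x ^ 3 : GL (Fin 4) F) : M4 F) = (1 : F) • 1 := by rw [hx3, Units.val_one, one_smul]
      obtain ⟨g, -, hg⟩ := hall x (mem_SL.mpr hxd) ⟨1, hz⟩ hns
      exact D.not_conj_three hz hns h9 hg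
    by_cases hr5 : r = 5
    · subst hr5
      by_cases hp5 : p % 5 = 2 ∨ p % 5 = 3
      · exact Or.inr (Or.inr ⟨rfl, (orderOf_five_iff p).mpr hp5⟩)
      exfalso
      obtain ⟨t, ht, -⟩ := exists_golden (F := F) hp2 hp5
      have hd : (emb (0 : Fin 4) 1 (!![0, -1; 1, t] : Matrix (Fin 2) (Fin 2) F)).det = 1 := by rw [det_emb]; simp
      let x : GL (Fin 4) F := Matrix.GeneralLinearGroup.mkOfDetNeZero _ (by rw [hd]; exact one_ne_zero)
      have hx : (x : M4 F) = emb 0 1 (!![0, -1; 1, t] : Matrix (Fin 2) (Fin 2) F) := rfl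
      have hz : ((x ^ 5 : GL (Fin 4) F) : M4 F) = (1 : F) • 1 := by
        rw [Units.val_pow_eq_pow_val, hx, emb_pow (by decide),
          pow_five_of_sq (t := t) (sq_of_det_one (by simp) (by simp)) ht, emb_one (by decide), one_smul]
      have hns : ∀ c : F, (x : M4 F) ≠ c • 1 := fun c => by
        rw [hx]
        exact emb_ne_scalar (by decide) (l := (2 : Fin 4)) (by decide) (by decide)
          (fun h => by have := congrFun₂ h 0 1; simp at this) c
      obtain ⟨g, -, hg⟩ := hall x (mem_SL.mpr hd) ⟨1, hz⟩ hns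
      exact D.not_conj_five hz hns (five_le_emb (by decide) hι hx) hg
    exfalso
    have hr := (Fact.out : r.Prime)
    have hr7 : 7 ≤ r := by
      have := hr.two_le
      by_contra hlt
      interval_cases r <;> first | omega | (revert hr; norm_num)
    obtain ⟨x, hxG, hz, hns⟩ := exists_large hscal hr hr2 (hΩ.trans (Subgroup.relIndex_dvd_card _ _))
    obtain ⟨g, -, hg⟩ := hall x hxG ⟨1, hz⟩ hns
    exact D.not_conj_large hr hr7 hz hns hg
  · rintro (rfl | ⟨rfl, hp32⟩ | ⟨rfl, hord⟩) x hxG ⟨z, hz⟩ hns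
    · have hd := mem_SL.mp hxG
      have hz4 := pow_scalar_of_det hι hz hd
      rw [Units.val_pow_eq_pow_val, pow_two] at hz
      obtain ⟨a, rfl⟩ := exists_sqrt h2 hi hz hd hz4
      have ha : a ≠ 0 := fun h => by simp [h] at hz4
      obtain ⟨P, v, hv, hJ, -, -⟩ := exists_split hι h2 ha hz
      have hJns := nonscalar_smul ha hns
      -- targets
      have key : ∀ (s : F), s ≠ 0 → ∀ v' : Fin 4 → F, (∀ j, v' j = 1 ∨ v' j = -1) →
          ((s⁻¹ • (x : M4 F)) * (P : M4 F) = (P : M4 F) * Matrix.diagonal v') →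
          (negCount v' = 1 ∨ negCount v' = 2) →
          ∃ g ∈ Cfsg.Geo.specialLinear (Fin 4) F, g⁻¹ * x * g ∈ Cfsg.Geo.subgroupNormalizer R := by
        intro s hs v' hv' hJ' hk
        have hT : ∃ y ∈ Cfsg.Geo.subgroupNormalizer R, (y : M4 F) * y = 1 ∧ (∀ c : F, (y : M4 F) ≠ c • 1) ∧
            (y : M4 F).trace = 4 - 2 * (negCount v' : F) := by
          rcases hk with hk | hk <;> rw [hk]
          · obtain ⟨y, hy, -, hy2, htr, hyn⟩ := D.exists_two hu hui hi
            exact ⟨y, hy, hy2, hyn, by rw [htr]; norm_num⟩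
          · refine ⟨Q.a1, hRN Q.a1_mem, Q.a1_sq, fun c => ?_, ?_⟩
            · rw [Q.gens_eq.1]; exact word_nonscalar D (by decide) c
            · rw [Q.gens_eq.1, Q.trace_Wm h2 (by decide)]; norm_num
        obtain ⟨y, hy, hy2, hyn, htr⟩ := hT
        obtain ⟨Qy, w, hw, hyd⟩ := exists_diag h2 hy2
        have hcount := count_of_trace (p := p) hp2 hι hw hyd hyn hk htr
        let x' : GL (Fin 4) F := Matrix.GeneralLinearGroup.mkOfDetNeZero (s⁻¹ • (x : M4 F))
          (by rw [Matrix.det_smul, hd, mul_one]; exact pow_ne_zero _ (inv_ne_zero hs))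
        obtain ⟨g, hg, hgx⟩ := conj_of_involution (x := x') (y := y) hv' hw hcount.symm hJ' hyd
        refine ⟨g, mem_SL.mpr hg, mem_normalizer_smul (c := s) hy ?_⟩
        rw [← hgx, Units.val_mul, Units.val_mul, Units.val_mul, Units.val_mul,
          show (x' : M4 F) = s⁻¹ • (x : M4 F) from rfl, mul_smul_comm, smul_mul_assoc, smul_smul,
          mul_inv_cancel₀ hs, one_smul]
      rcases count_mid hι h2 hv hJ hJns with hk | hk | hk
      · exact key a ha v hv hJ (Or.inl hk)
      · exact key a ha v hv hJ (Or.inr hk)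
      · refine key (-a) (neg_ne_zero.mpr ha) (fun j => -v j) (fun j => ?_) ?_ (Or.inl ?_)
        · rcases hv j with h | h <;> simp [h]
        · rw [inv_neg, neg_smul, neg_mul, hJ, ← Matrix.diagonal_neg, mul_neg]
        · rw [negCount_neg hι h2 hv, hk]
    · have hno : ∀ c : F, c * c + c + 1 ≠ 0 := by
        intro c hc
        have hc1 : c ≠ 1 := fun h => h3 (by rw [h] at hc; linear_combination hc)
        have hc0 : c ≠ 0 := fun h => by simp [h] at hc
        haveI : Fact (Nat.Prime 3) := ⟨Nat.prime_three⟩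
        have ho : orderOf (Units.mk0 c hc0) = 3 := orderOf_eq_prime
          (Units.ext (by
            rw [Units.val_pow_eq_pow_val, Units.val_mk0, Units.val_one]
            linear_combination (c - 1) * hc))
          (fun h => hc1 (congrArg Units.val h))
        have hd := orderOf_dvd_card (x := Units.mk0 c hc0)
        rw [ho, Fintype.card_units, hF] at hd
        omega
      obtain ⟨h4, h41, hred⟩ := reduce_four (R := R) (Or.inl rfl) hz
        (pow_scalar_of_det hι hz (mem_SL.mp hxG)) hns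
      suffices h : ∃ y ∈ Cfsg.Geo.subgroupNormalizer R, ∃ g : GL (Fin 4) F, (g : M4 F).det = 1 ∧
          g⁻¹ * x ^ 4 * g = y by
        obtain ⟨y, hy, g, hg, hgy⟩ := h
        exact ⟨g, mem_SL.mpr hg, hred g (hgy ▸ hy)⟩
      rcases normal_three hno h4 h41 with ⟨-, P, hP⟩ | ⟨-, P, hP⟩
      · rcases normal_three hno D.hg_pow (D.hg_ne_one h3) with ⟨-, P', hP'⟩ | ⟨h1, -⟩
        · exact ⟨D.hg, D.hg_mem, conj_three h2 h3 hodd (Or.inl rfl) hP hP'⟩
        · rw [D.trace_hg] at h1
          exact absurd (show (3 : F) = 0 by linear_combination -h1) h3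
      · obtain ⟨y, hy, -, -, -, hy3, htr⟩ := D.exists_three hu hui hi
        have hy1 : y ≠ 1 := fun h => h3 (by
          rw [h, Units.val_one, Matrix.trace_one, hι] at htr
          norm_num at htr
          linear_combination htr)
        rcases normal_three hno hy3 hy1 with ⟨-, P', hP'⟩ | ⟨-, P', hP'⟩
        · rw [trace_of_normal hP', trace_MA] at htr
          exact absurd (show (3 : F) = 0 by linear_combination -htr) h3
        · exact ⟨y, hy, conj_three h2 h3 hodd (Or.inr rfl) hP hP'⟩
    · have hp5 := (orderOf_five_iff p).mp hord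
      have hnd : ¬ 5 ∣ Fintype.card F - 1 := by
        rw [hF]; simpa using five_not_dvd hp5 (Or.inl rfl)
      obtain ⟨y, hy, hy5, hy1, hyd⟩ := exists_five_exact Q hι h2 D.gen hnd
      exact five_conj (Five.five_ne_zero_of (p := p) hp5)
        (fun c _ h5 hdet => Five.eq_one_of_prime_field hF hι hp5 h5 hdet) hy (mem_SL.mpr hyd) hy5 hy1 hxG hz
        (pow_scalar_of_det hι hz (mem_SL.mp hxG)) hns

end Cfsg.Agent.S6000
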