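import Cfsg.Statements.S6001
import Cfsg.Agent.Lib.Elusive19.Pauli4.Invol
import Cfsg.Agent.Lib.Elusive19.Pauli4.Three
import Cfsg.Agent.Lib.Elusive19.Pauli4.Unit
import Cfsg.Agent.Lib.Elusive19.UnitaryEigen

set_option autoImplicit false
open scoped MatrixGroups
open Cfsg

namespace Cfsg.Agent.S6001

open Matrix Lib.Elusive19.Pauli4 Lib.Elusive19.UnitaryEigen Lib.Unitary

local notation "M4" => Matrix (Fin 4) (Fin 4)

theorem mem_G {F : Type*} [Field F] {p : ℕ} {x : GL (Fin 4) F} :
    x ∈ Cfsg.GU 4 F p ⊓ Cfsg.Geo.specialLinear (Fin 4) F ↔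
      x ∈ Cfsg.GU 4 F p ∧ (x : M4 F).det = 1 := by
  rw [Subgroup.mem_inf, Cfsg.Geo.specialLinear, MonoidHom.mem_ker, Units.ext_iff,
    Matrix.GeneralLinearGroup.val_det_apply, Units.val_one]

theorem scalar_norm {F : Type*} [Field F] [Fintype F] {p : ℕ} (hF : Fintype.card F = p ^ 2) {x : GL (Fin 4) F}
    {c : F} (hx : x ∈ Cfsg.GU 4 F p) (h : (x : M4 F) = c • 1) : c * c ^ p = 1 := by
  have h' := mem_GU_iff.mp hx (Pi.single 0 1) (Pi.single 0 1)
  rw [h, Matrix.smul_mulVec, Matrix.one_mulVec, herm_smul_left, herm_smul_right, herm_std hF,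
    if_pos rfl, mul_one] at h'
  exact h'

/-- An anti-isometry whose square is one does not have three equal eigenvalues. -/
theorem no_anti {F : Type*} [Field F] [Fintype F] {p : ℕ} (hF : Fintype.card F = p ^ 2) (h2 : (2 : F) ≠ 0)
    {J : M4 F} (hJ : ∀ u v, hermForm 4 F p (J *ᵥ u) (J *ᵥ v) = -hermForm 4 F p u v) {P : GL (Fin 4) F}
    {u : Fin 4 → F} (hu : ∀ i, u i = 1 ∨ u i = -1) (hd : J * (P : M4 F) = (P : M4 F) * Matrix.diagonal u)
    {m : Fin 4} (hm : ∀ i j, i ≠ m → j ≠ m → u i = u j) : False := by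
  classical
  let b : Fin 4 → Fin 4 → F := fun i => (P : M4 F) *ᵥ Pi.single i 1
  have hb : ∀ i, J *ᵥ b i = u i • b i := fun i => by
    show J *ᵥ (_ *ᵥ _) = _
    rw [Matrix.mulVec_mulVec, hd, ← Matrix.mulVec_mulVec, Matrix.diagonal_mulVec_single, mul_one,
      show Pi.single i (u i) = u i • (Pi.single i (1 : F) : Fin 4 → F) by simp [← Pi.single_smul],
      Matrix.mulVec_smul]
  have horth : ∀ i j, i ≠ m → j ≠ m → hermForm 4 F p (b i) (b j) = 0 := by
    intro i j hi hj
    have h := hJ (b i) (b j)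
    rw [hb, hb, herm_smul_left, herm_smul_right, hm i j hi hj, ← mul_assoc] at h
    have e : u j * u j ^ p = 1 := by
      rcases hu j with h' | h' <;> rw [h']
      · simp
      · rw [neg_pow_q hF, one_pow]; ring
    rw [e, one_mul] at h
    exact (mul_eq_zero.mp (show (2 : F) * hermForm 4 F p (b i) (b j) = 0 by linear_combination h)).resolve_left h2
  have hperp : ∀ w, (∀ l, hermForm 4 F p w (b l) = 0) → w = 0 := by
    intro w hw
    refine herm_nondeg_left hF fun v => ?_
    have e : v = ∑ l, (((P⁻¹ : GL (Fin 4) F) : M4 F) *ᵥ v) l • b l := by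
      have hs : ∀ w : Fin 4 → F, (P : M4 F) *ᵥ w = ∑ l, w l • b l := fun w => by
        funext a; simp [b, Matrix.mulVec, dotProduct, mul_comm]
      rw [← hs, Matrix.mulVec_mulVec, Units.mul_inv, Matrix.one_mulVec]
    rw [e, herm_sum_right _ hF]
    exact Finset.sum_eq_zero fun l _ => by rw [herm_smul_right, hw, mul_zero]
  have hli : LinearIndependent F b := by
    refine Fintype.linearIndependent_iff.mpr fun g hg i => ?_
    have h : (P : M4 F) *ᵥ g = ∑ l, g l • b l := by
      funext a; simp [b, Matrix.mulVec, dotProduct, mul_comm]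
    rw [hg] at h
    have h' := congrArg (fun t => ((P⁻¹ : GL (Fin 4) F) : M4 F) *ᵥ t) h
    simp only [Matrix.mulVec_mulVec, Units.inv_mul, Matrix.one_mulVec, Matrix.mulVec_zero] at h'
    exact congrFun h' i
  obtain ⟨i, j, hi, hj, hij⟩ : ∃ i j : Fin 4, i ≠ m ∧ j ≠ m ∧ i ≠ j :=
    (by decide : ∀ m : Fin 4, ∃ i j : Fin 4, i ≠ m ∧ j ≠ m ∧ i ≠ j) m
  have hw : hermForm 4 F p (b j) (b m) • b i - hermForm 4 F p (b i) (b m) • b j = 0 := hperp _ fun l => by
    rw [herm_sub_left, herm_smul_left, herm_smul_left]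
    by_cases hl : l = m
    · subst hl; ring
    · rw [horth i l hi hl, horth j l hj hl]; ring
  obtain ⟨-, h0⟩ := LinearIndependent.pair_iff.mp
    (show LinearIndependent F ![b i, b j] from by
      have := hli.comp ![i, j] (by intro a c h; fin_cases a <;> fin_cases c <;> simp_all)
      convert this using 1
      funext a; fin_cases a <;> rfl)
    (hermForm 4 F p (b j) (b m)) (-hermForm 4 F p (b i) (b m))
    (by rw [neg_smul, ← sub_eq_add_neg]; exact hw)
  exact hli.ne_zero i (hperp _ fun l => by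
    by_cases hl : l = m
    · subst hl; exact neg_eq_zero.mp h0
    · exact horth i l hi hl)

theorem exists_unitary_involution {F : Type*} [Field F] [Fintype F] {p : ℕ} (hF : Fintype.card F = p ^ 2)
    (h2 : (2 : F) ≠ 0) {J : M4 F} (hJ : ∀ u v, hermForm 4 F p (J *ᵥ u) (J *ᵥ v) = hermForm 4 F p u v)
    (hJ2 : J * J = 1) : ∃ V : GL (Fin 4) F, V ∈ Cfsg.GU 4 F p ∧ ∃ u : Fin 4 → F,
      (∀ i, u i = 1 ∨ u i = -1) ∧ J * (V : M4 F) = (V : M4 F) * Matrix.diagonal u := by
  obtain ⟨V, hV, u, hu, hd⟩ := exists_unitary_diag hF hJ (S := {1, -1}) (by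
      rintro μ (rfl | rfl)
      · simp
      · rw [neg_pow_q hF, one_pow]; ring) (by
      intro v _
      have e : v = (2 : F)⁻¹ • (v + J *ᵥ v) + (2 : F)⁻¹ • (v - J *ᵥ v) := by
        rw [← smul_add, add_add_sub_cancel, ← two_smul F v, smul_smul, inv_mul_cancel₀ h2, one_smul]
      rw [e]
      refine Submodule.add_mem _ (Submodule.smul_mem _ _ (Submodule.subset_span ⟨1, Or.inl rfl, ?_⟩))
        (Submodule.smul_mem _ _ (Submodule.subset_span ⟨-1, Or.inr rfl, ?_⟩))
      · rw [Matrix.mulVec_add, Matrix.mulVec_mulVec, hJ2, Matrix.one_mulVec, one_smul, add_comm]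
      · rw [Matrix.mulVec_sub, Matrix.mulVec_mulVec, hJ2, Matrix.one_mulVec, neg_one_smul, neg_sub])
  exact ⟨V, hV, u, hu, hd⟩

theorem permGL_mem {F : Type*} [Field F] {p : ℕ} {S : GL (Fin 4) F} {σ : Equiv.Perm (Fin 4)}
    (hS : (S : M4 F) = σ.permMatrix F) : S ∈ Cfsg.GU 4 F p := by
  rw [mem_GU_iff]
  intro u v
  rw [hS, Matrix.permMatrix_mulVec, Matrix.permMatrix_mulVec]
  exact Equiv.sum_comp σ (fun i => u i * v i ^ p)


/-- Elements of prime order of PSU_4(p), p ≡ 3 (mod 4), and the normalizer of a 2-group of symplectic type of order 2⁶. Here `T = PSU_4(p)` for a prime `p ≡ 3 (mod 4)`, realised through `SU_4(p)`, the matrices of determinant 1 over the field `F` with `p²` elements preserving the hermitian form `f = Σ uᵢvᵢ^p`; `R` is an absolutely irreducible subgroup of the full unitary group of `f` of order 2⁶ that is a 2-group of symplectic type of exponent 4 with centre of order 4, and `H` is the subgroup of `SU_4(p)` normalizing `R` — a subgroup of type 2⁴.Sp₄(2) (maximality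 is not assumed). Ω is the set of cosets of `H`, so an element of `T` of prime order `r` (`x ∈ SU_4(p)` with `x^r` scalar, `x` not scalar) fixes a point of Ω exactly when some `SU_4(p)`-conjugate of `x` normalizes `R`. Let `r` be a prime dividing the index of `H`. Then every element of `T` of order `r` fixes a point of Ω if and only if `r = 2`, or `r = 3` and `p ≡ 1 (mod 3)`, or `r = 5` and `p ≡ ±2 (mod 5)` (`p` has multiplicative order 4 modulo 5). -/
theorem result {F : Type*} [Field F] [Fintype F] {p : ℕ} [Fact p.Prime] [CharP F p] (hF : Fintype.card F = p ^ 2) (hp4 : p % 4 = 3)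
    (R : Subgroup (GL (Fin 4) F)) (hRs : Cfsg.Geo.IsSymplecticTypeGroup 2 R) (hRi : Cfsg.Geo.ActsAbsolutelyIrreducibly (Cfsg.Geo.matrixSet R))
    (hRU : R ≤ Cfsg.GU 4 F p) (hR6 : Nat.card R = 2 ^ 6) (hRZ : Nat.card (Subgroup.center R) = 4)
    (r : ℕ) [Fact r.Prime]
    (hΩ : r ∣ (Cfsg.Geo.subgroupNormalizer R).relIndex (Cfsg.GU 4 F p ⊓ Cfsg.Geo.specialLinear (Fin 4) F)) :
    (∀ x ∈ Cfsg.GU 4 F p ⊓ Cfsg.Geo.specialLinear (Fin 4) F, (∃ z : F, ((x ^ r : GL (Fin 4) F) : Matrix (Fin 4) (Fin 4) F) = z • (1 : Matrix (Fin 4) (Fin 4) F)) →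
      (∀ z : F, (x : Matrix (Fin 4) (Fin 4) F) ≠ z • (1 : Matrix (Fin 4) (Fin 4) F)) →
      ∃ g ∈ Cfsg.GU 4 F p ⊓ Cfsg.Geo.specialLinear (Fin 4) F, g⁻¹ * x * g ∈ Cfsg.Geo.subgroupNormalizer R) ↔ (r = 2 ∨ (r = 3 ∧ p % 3 = 1) ∨ (r = 5 ∧ orderOf (p : ZMod 5) = 4)) := by
  classical
  have hp := (Fact.out : p.Prime)
  have hp2 : p ≠ 2 := by omega
  have h2 : (2 : F) ≠ 0 := two_ne_zero_of hp2
  have hι : Fintype.card (Fin 4) = 4 := Fintype.card_fin 4
  obtain ⟨Q⟩ := exists_quad_of_i hRs hRi hRZ (by omega)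
  obtain ⟨u, i, hu, hui, hi⟩ := exists_i hRs hRi hRZ
  let D : Frame R := ⟨Q, hι, h2, gen_word hRs hRi (Or.inr hRZ) Q hι h2⟩
  have hRN : R ≤ Cfsg.Geo.subgroupNormalizer R := Subgroup.le_normalizer
  set G := Cfsg.GU 4 F p ⊓ Cfsg.Geo.specialLinear (Fin 4) F with hG
  have hscal : ∀ x ∈ G, ∀ c : F, (x : M4 F) = c • 1 → c ^ 4 = 1 :=
    fun x hx c h => pow_four_of_det hι h (mem_G.mp hx).2
  have hsq : p ^ 2 = 16 * (p / 4) ^ 2 + 24 * (p / 4) + 9 := by
    have e : p = 4 * (p / 4) + 3 := by omega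
    nlinarith [e]
  constructor
  · intro hall
    by_cases hr2 : r = 2
    · exact Or.inl hr2
    by_cases hr3 : r = 3
    · subst hr3
      by_cases hp31 : p % 3 = 1
      · exact Or.inr (Or.inl ⟨rfl, hp31⟩)
      exfalso
      by_cases hp3 : p = 3
      · -- a transvection
        have h3 : (3 : F) = 0 := by
          have := CharP.cast_eq_zero F p
          rw [hp3] at this; exact_mod_cast this
        obtain ⟨β, hβ⟩ := norm_surj hF (y := (-1 : F)) (by rw [neg_pow_q hF, one_pow])
        obtain ⟨s, hs, hs'⟩ := exists_trace_zero_ne_zero hF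
        let w : Fin 4 → F := ![1, β, 0, 0]
        let wc : Fin 4 → F := fun m => w m ^ p
        have hww : hermForm 4 F p w w = 0 := by
          simp [Cfsg.hermForm, w, Fin.sum_univ_four, zero_pow_q hF, hβ]
        set M : M4 F := 1 + Matrix.vecMulVec (s • w) wc with hMdef
        have hMv : ∀ v, M *ᵥ v = v + (s * hermForm 4 F p v w) • w := by
          intro v
          rw [hMdef, Matrix.add_mulVec, Matrix.one_mulVec, Matrix.vecMulVec_mulVec]
          congr 1
          funext a
          simp [wc, dotProduct, Cfsg.hermForm, mul_comm, Finset.mul_sum]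
          ring_nf
        have hM3 : M ^ 3 = 1 := by
          refine Matrix.ext_of_mulVec_single fun a => ?_
          rw [pow_succ', pow_two, ← Matrix.mulVec_mulVec, ← Matrix.mulVec_mulVec, Matrix.one_mulVec]
          simp only [hMv, herm_add_left, herm_smul_left, hww, mul_zero, add_zero]
          generalize hermForm 4 F p (Pi.single a 1) w = t
          have e : (3 : F) • ((s * t) • w) = 0 := by rw [h3, zero_smul]
          linear_combination (norm := module) e
        have hd1 : M.det = 1 := by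
          have h := congrArg Matrix.det hM3
          rw [Matrix.det_pow, Matrix.det_one] at h
          exact sub_eq_zero.mp (eq_zero_of_pow_eq_zero (n := 3) (by linear_combination h + (M.det - M.det ^ 2) * h3))
        let x : GL (Fin 4) F := Matrix.GeneralLinearGroup.mkOfDetNeZero M (by rw [hd1]; exact one_ne_zero)
        have hx : (x : M4 F) = M := rfl
        have hxU : x ∈ Cfsg.GU 4 F p := by
          rw [mem_GU_iff]
          intro a b
          have hst : s ^ p = -s := by linear_combination hs'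
          simp only [hx, hMv, herm_add_left, herm_add_right _ _ _ hF, herm_smul_left, herm_smul_right, hww,
            mul_pow, hst, mul_zero, add_zero]
          rw [herm_conj b w hF]
          ring
        have hz : ((x ^ 3 : GL (Fin 4) F) : M4 F) = (1 : F) • 1 := by
          rw [Units.val_pow_eq_pow_val, hx, hM3, one_smul]
        have hns : ∀ c : F, (x : M4 F) ≠ c • 1 := by
          intro c h
          have h' := congrArg (fun T => (T *ᵥ (Pi.single 1 1 : Fin 4 → F)) 0) h
          simp only [hx, hMv, single_herm, Matrix.smul_mulVec, Matrix.one_mulVec] at h'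
          simp [w] at h'
          rcases h' with h' | h'
          · exact hs h'
          · simp [h'] at hβ
        have h9 : 9 ≤ Module.finrank F (Act.commutant x) :=
          nine_le_commutant hι (c := 1) (u := s • w) (w := wc) (by rw [one_smul]; rfl) (fun h => by
            have := congrFun h 0
            simp [w] at this
            exact hs this)
        obtain ⟨g, -, hg⟩ := hall x (mem_G.mpr ⟨hxU, hd1⟩) ⟨1, hz⟩ hns
        exact D.not_conj_three hz hns h9 hg
      have hp32 : p % 3 = 2 := by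
        have : p % 3 ≠ 0 := fun h => hp3
          ((Nat.prime_dvd_prime_iff_eq (by norm_num) hp).mp (Nat.dvd_of_mod_eq_zero h)).symm
        omega
      haveI : Fact (Nat.Prime 3) := ⟨Nat.prime_three⟩
      obtain ⟨w, hw⟩ := exists_prime_orderOf_dvd_card' (G := Fˣ) 3 (by
        rw [Nat.card_eq_fintype_card, Fintype.card_units, hF]
        have : p ^ 2 % 3 = 1 := by rw [Nat.pow_mod, hp32]
        omega)
      have hw3 : (w : F) ^ 3 = 1 := by
        rw [← Units.val_pow_eq_pow_val, ← hw, pow_orderOf_eq_one, Units.val_one]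
      have hw1 : (w : F) ≠ 1 := fun h => by
        rw [show w = 1 from Units.ext h, orderOf_one] at hw; omega
      obtain ⟨x, hx, hxd, hx3, hns, h9⟩ := exists_reflection hw3 hw1
      have hwn : (w : F) * (w : F) ^ p = 1 := by
        obtain ⟨k, hk⟩ : 3 ∣ p + 1 := by omega
        rw [← pow_succ', hk, pow_mul, hw3, one_pow]
      have hxU : x ∈ Cfsg.GU 4 F p := diagonal_mem_GU (fun j => by fin_cases j <;> simp [hwn]) x hx
      have hz : ((x ^ 3 : GL (Fin 4) F) : M4 F) = (1 : F) • 1 := by rw [hx3, Units.val_one, one_smul]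
      obtain ⟨g, -, hg⟩ := hall x (mem_G.mpr ⟨hxU, hxd⟩) ⟨1, hz⟩ hns
      exact D.not_conj_three hz hns h9 hg
    by_cases hr5 : r = 5
    · subst hr5
      by_cases hp5 : p % 5 = 2 ∨ p % 5 = 3
      · exact Or.inr (Or.inr ⟨rfl, (orderOf_five_iff p).mpr hp5⟩)
      exfalso
      obtain ⟨t, ht, htp⟩ := exists_golden (F := F) hp2 hp5
      obtain ⟨s, hs, hs'⟩ := exists_trace_zero_ne_zero hF
      set a : F := t / 2 + s with ha
      have hap : a ^ p = t / 2 - s := by
        rw [ha, add_pow_q hF, div_pow, htp, show (2 : F) ^ p = 2 from map_ofNat (Cfsg.Agent.Lib.Unitary.conj hF) 2]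
        linear_combination hs'
      obtain ⟨b, hb⟩ := norm_surj hF (y := 1 - a * a ^ p) (by
        rw [sub_pow_q hF, one_pow, mul_pow, pow_q_q hF, mul_comm (a ^ p)])
      set C : Matrix (Fin 2) (Fin 2) F := !![a, b; -b ^ p, a ^ p] with hC
      have hCd : C 0 0 * C 1 1 - C 0 1 * C 1 0 = 1 := by
        simp [hC]; linear_combination hb
      have hd : (emb (0 : Fin 4) 1 C).det = 1 := by rw [det_emb]; exact hCd
      let x : GL (Fin 4) F := Matrix.GeneralLinearGroup.mkOfDetNeZero _ (by rw [hd]; exact one_ne_zero)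
      have hx : (x : M4 F) = emb 0 1 C := rfl
      have hxU : x ∈ Cfsg.GU 4 F p := by
        rw [mem_GU_iff]
        intro v w
        simp only [Cfsg.hermForm, hx, emb_mulVec (show (0 : Fin 4) ≠ 1 by decide), Fin.sum_univ_four]
        simp [hC, add_pow_q hF, sub_pow_q hF, neg_pow_q hF, mul_pow, pow_q_q hF]
        linear_combination (v 0 * w 0 ^ p + v 1 * w 1 ^ p) * hb
      have hz : ((x ^ 5 : GL (Fin 4) F) : M4 F) = (1 : F) • 1 := by
        rw [Units.val_pow_eq_pow_val, hx, emb_pow (by decide),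
          pow_five_of_sq (t := t) (sq_of_det_one (by simp [hC]; rw [hap, ha]; field_simp; ring) hCd) ht,
          emb_one (by decide), one_smul]
      have hns : ∀ c : F, (x : M4 F) ≠ c • 1 := fun c => by
        rw [hx]
        refine emb_ne_scalar (by decide) (l := (2 : Fin 4)) (by decide) (by decide) (fun h => ?_) c
        have h1 := congrFun₂ h 0 0
        have h2' := congrFun₂ h 1 1
        simp [hC] at h1 h2'
        rw [hap] at h2'
        rw [ha] at h1
        exact hs ((mul_eq_zero.mp (show (2 : F) * s = 0 by linear_combination h1 - h2')).resolve_left h2)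
      obtain ⟨g, -, hg⟩ := hall x (mem_G.mpr ⟨hxU, hd⟩) ⟨1, hz⟩ hns
      exact D.not_conj_five hz hns (five_le_emb (by decide) hι hx) hg
    exfalso
    have hr := (Fact.out : r.Prime)
    have hr7 : 7 ≤ r := by
      have := hr.two_le
      by_contra hlt
      interval_cases r <;> first | omega | (revert hr; norm_num)
    obtain ⟨x, hxG, hz, hns⟩ := exists_large hscal hr hr2 (hΩ.trans (Subgroup.relIndex_dvd_card _ _))
    obtain ⟨g, -, hg⟩ := hall x hxG ⟨1, hz⟩ hns
    exact D.not_conj_large hr hr7 hz hns hg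
  · rintro (rfl | ⟨rfl, hp31⟩ | ⟨rfl, hord⟩) x hxG ⟨z, hz⟩ hns
    · obtain ⟨hxU, hd⟩ := mem_G.mp hxG
      have hz4 := pow_scalar_of_det hι hz hd
      have hzn := scalar_norm hF ((Cfsg.GU 4 F p).pow_mem hxU 2) hz
      rw [Units.val_pow_eq_pow_val, pow_two] at hz
      obtain ⟨a, rfl⟩ : IsSquare z := by
        rw [FiniteField.isSquare_iff (by rw [ringChar.eq F p]; exact hp2) (fun h => by simp [h] at hz4)]
        obtain ⟨k, hk⟩ : 4 ∣ Fintype.card F / 2 := by rw [hF]; omega
        rw [hk, pow_mul, hz4, one_pow]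
      have ha : a ≠ 0 := fun h => by simp [h] at hz4
      obtain ⟨P, v, hv, hJ, hdet, -⟩ := exists_split hι h2 ha hz
      have hJns := nonscalar_smul ha hns
      have hJv : ∀ e w, hermForm 4 F p ((a⁻¹ • (x : M4 F)) *ᵥ e) ((a⁻¹ • (x : M4 F)) *ᵥ w) =
          (a * a ^ p)⁻¹ * hermForm 4 F p e w := fun e w => by
        rw [Matrix.smul_mulVec, Matrix.smul_mulVec, herm_smul_left, herm_smul_right,
          mem_GU_iff.mp hxU, inv_pow, mul_inv]
        ring
      have hN : a * a ^ p = 1 := by
        have hN2 : (a * a ^ p) * (a * a ^ p) = 1 := by rw [mul_pow] at hzn; linear_combination hzn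
        refine (mul_self_eq_one_iff.mp hN2).resolve_right fun hneg => ?_
        obtain ⟨k, hk⟩ : 4 ∣ p + 1 := by omega
        have h11 : (1 : F) ≠ -1 := fun h0 => h2 (by linear_combination h0)
        have hodd : negCount v % 2 = 1 := by
          rw [hd] at hdet
          rcases Nat.even_or_odd (negCount v) with he | ho
          · exfalso
            rw [he.neg_one_pow, mul_one] at hdet
            refine h11 ?_
            rw [← hneg, ← pow_succ', hk, pow_mul, ← hdet, one_pow]
          · exact Nat.odd_iff.mp ho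
        have hanti : ∀ e w, hermForm 4 F p ((a⁻¹ • (x : M4 F)) *ᵥ e) ((a⁻¹ • (x : M4 F)) *ᵥ w) =
            -hermForm 4 F p e w := fun e w => by rw [hJv, hneg]; simp
        have hsingle : ∀ c : F, (c = 1 ∨ c = -1) → Nat.card {j // v j = c} = 1 →
            ∃ m, ∀ i j, i ≠ m → j ≠ m → v i = v j := by
          intro c hc h
          obtain ⟨⟨m, hm⟩, hall'⟩ := Nat.card_eq_one_iff_exists.mp h
          refine ⟨m, fun i j hi hj => ?_⟩
          have hni : v i ≠ c := fun h => hi (congrArg Subtype.val (hall' ⟨i, h⟩))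
          have hnj : v j ≠ c := fun h => hj (congrArg Subtype.val (hall' ⟨j, h⟩))
          rcases hv i with h1 | h1 <;> rcases hv j with h3 | h3 <;> rcases hc with rfl | rfl <;>
            first | exact h1.trans h3.symm | exact absurd h1 hni | exact absurd h3 hnj
        obtain ⟨m, hm⟩ : ∃ m, ∀ i j, i ≠ m → j ≠ m → v i = v j := by
          rcases count_mid hι h2 hv hJ hJns with h | h | h
          · exact hsingle (-1) (Or.inr rfl) h
          · omega
          · refine hsingle 1 (Or.inl rfl) ?_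
            have h' := negCount_neg hι h2 hv
            rw [h, negCount] at h'
            simp only [neg_inj] at h'
            exact h'
        exact no_anti hF h2 hanti hv hJ hm
      have hJU : ∀ e w, hermForm 4 F p ((a⁻¹ • (x : M4 F)) *ᵥ e) ((a⁻¹ • (x : M4 F)) *ᵥ w) =
          hermForm 4 F p e w := fun e w => by rw [hJv, hN, inv_one, one_mul]
      obtain ⟨V, hV, v, hv, hJ⟩ := exists_unitary_involution hF h2 hJU (by
        rw [smul_mul_assoc, mul_smul_comm, hz, smul_smul, smul_smul]
        field_simp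
        simp)
      have key : ∀ s : F, s ≠ 0 → ∀ v' : Fin 4 → F, (∀ j, v' j = 1 ∨ v' j = -1) →
          ((s⁻¹ • (x : M4 F)) * (V : M4 F) = (V : M4 F) * Matrix.diagonal v') →
          (negCount v' = 1 ∨ negCount v' = 2) →
          ∃ g ∈ G, g⁻¹ * x * g ∈ Cfsg.Geo.subgroupNormalizer R := by
        intro s hs v' hv' hJ' hk
        obtain ⟨y, hy, hyU, hy2, hyn, htr⟩ : ∃ y ∈ Cfsg.Geo.subgroupNormalizer R, y ∈ Cfsg.GU 4 F p ∧
            (y : M4 F) * y = 1 ∧ (∀ c : F, (y : M4 F) ≠ c • 1) ∧
            (y : M4 F).trace = 4 - 2 * (negCount v' : F) := by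
          rcases hk with hk | hk <;> rw [hk]
          · obtain ⟨y, hy, hyv, hy2, htr, hyn⟩ := D.exists_two hu hui hi
            have hua : ((u * Q.a2 : GL (Fin 4) F) : M4 F) = i • (Q.a2 : M4 F) := by
              rw [Units.val_mul, hui, smul_mul_assoc, one_mul]
            refine ⟨y, hy, jInv_mem_GU hF h2 (hRU Q.a1_mem) (b := u * Q.a2)
              (hRU (R.mul_mem hu Q.a2_mem)) Q.a1_sq
              (by rw [hua]; simp [smul_smul, hi, Q.a2_sq]) (by rw [hua]; exact Q.c_aa.smul_right i)
              (by rw [hua]; exact hyv), hy2, hyn, by rw [htr]; norm_num⟩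
          · refine ⟨Q.a1, hRN Q.a1_mem, hRU Q.a1_mem, Q.a1_sq, fun c => ?_, ?_⟩
            · rw [Q.gens_eq.1]; exact word_nonscalar D (by decide) c
            · rw [Q.gens_eq.1, Q.trace_Wm h2 (by decide)]; norm_num
        obtain ⟨W, hW, w, hw, hyd⟩ := exists_unitary_involution hF h2 (mem_GU_iff.mp hyU) hy2
        have hcount := count_of_trace (p := p) hp2 hι hw hyd hyn hk htr
        obtain ⟨σ, hσ⟩ := perm_of_count hv' hw hcount.symm
        obtain ⟨S, hS⟩ := exists_permGL (F := F) σ
        let x' : GL (Fin 4) F := Matrix.GeneralLinearGroup.mkOfDetNeZero (s⁻¹ • (x : M4 F))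
          (by rw [Matrix.det_smul, hd, mul_one]; exact pow_ne_zero _ (inv_ne_zero hs))
        have hxV := diag_perm (x := (x' : M4 F)) hJ' hS
        rw [funext hσ] at hxV
        obtain ⟨g, hgU, hgd, hgx⟩ := exists_su_conj hF (by norm_num) (x := x') (y := y)
          ((Cfsg.GU 4 F p).mul_mem hV ((Cfsg.GU 4 F p).inv_mem (permGL_mem hS))) hW hxV hyd
        refine ⟨g, ⟨hgU, MonoidHom.mem_ker.mpr hgd⟩, mem_normalizer_smul (c := s) hy ?_⟩
        rw [← hgx, Units.val_mul, Units.val_mul, Units.val_mul, Units.val_mul,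
          show (x' : M4 F) = s⁻¹ • (x : M4 F) from rfl, mul_smul_comm, smul_mul_assoc, smul_smul,
          mul_inv_cancel₀ hs, one_smul]
      rcases count_mid hι h2 hv hJ hJns with hk | hk | hk
      · exact key a ha v hv hJ (Or.inl hk)
      · exact key a ha v hv hJ (Or.inr hk)
      · refine key (-a) (neg_ne_zero.mpr ha) (fun j => -v j) (fun j => ?_) ?_ (Or.inl ?_)
        · rcases hv j with h | h <;> simp [h]
        · rw [inv_neg, neg_smul, neg_mul, hJ, ← Matrix.diagonal_neg, mul_neg]
        · rw [negCount_neg hι h2 hv, hk]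
    · have h3 : (3 : F) ≠ 0 := three_ne_zero_of (p := p) (by omega)
      haveI : Fact (Nat.Prime 3) := ⟨Nat.prime_three⟩
      obtain ⟨w, hw⟩ := exists_prime_orderOf_dvd_card' (G := Fˣ) 3 (by
        rw [Nat.card_eq_fintype_card, Fintype.card_units, hF]
        have : p ^ 2 % 3 = 1 := by rw [Nat.pow_mod, hp31]
        omega)
      have hw3 : (w : F) ^ 3 = 1 := by
        rw [← Units.val_pow_eq_pow_val, ← hw, pow_orderOf_eq_one, Units.val_one]
      have hw1 : (w : F) ≠ 1 := fun h => by
        rw [show w = 1 from Units.ext h, orderOf_one] at hw; omega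
      have hω : (w : F) * (w : F) + (w : F) + 1 = 0 :=
        mul_left_cancel₀ (sub_ne_zero.mpr hw1) (by linear_combination hw3)
      have hωp : (w : F) ^ p = (w : F) := by
        obtain ⟨k, hk⟩ : ∃ k, p = 3 * k + 1 := ⟨p / 3, by omega⟩
        rw [hk, pow_succ, pow_mul, hw3, one_pow, one_mul]
      obtain ⟨hxU, hd⟩ := mem_G.mp hxG
      obtain ⟨h4, h41, hred⟩ := reduce_four (R := R) (Or.inl rfl) hz (pow_scalar_of_det hι hz hd) hns
      suffices h : ∃ y ∈ Cfsg.Geo.subgroupNormalizer R, ∃ g ∈ Cfsg.GU 4 F p, (g : M4 F).det = 1 ∧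
          g⁻¹ * x ^ 4 * g = y by
        obtain ⟨y, hy, g, hgU, hg, hgy⟩ := h
        exact ⟨g, mem_G.mpr ⟨hgU, hg⟩, hred g (hgy ▸ hy)⟩
      have hgU : D.hg ∈ Cfsg.GU 4 F p :=
        hQ_mem_GU hF h2 (hRU Q.a2_mem) (hRU Q.b2_mem) Q.a2_sq Q.b2_sq Q.anti2 rfl
      rcases three_frames hF hω hωp h3 ((Cfsg.GU 4 F p).pow_mem hxU 4) h4 h41 with
        ⟨b, hb, hbg, -⟩ | ⟨b, hb, hbg, -⟩
      · rcases three_frames hF hω hωp h3 hgU D.hg_pow (D.hg_ne_one h3) with
          ⟨c, hc, hcg, -⟩ | ⟨-, -, -, h1⟩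
        · exact ⟨D.hg, D.hg_mem, conj_of_frames hF (by decide) (by decide) hb hc hbg hcg⟩
        · rw [D.trace_hg] at h1
          exact absurd (show (3 : F) = 0 by linear_combination -h1) h3
      · obtain ⟨y, hy, g', hg', hyg, hy3, htr⟩ := D.exists_three hu hui hi
        have huA : ((u * Q.a1 : GL (Fin 4) F) : M4 F) = i • (Q.a1 : M4 F) := by
          rw [Units.val_mul, hui, smul_mul_assoc, one_mul]
        have huB : ((u * Q.b1 : GL (Fin 4) F) : M4 F) = i • (Q.b1 : M4 F) := by
          rw [Units.val_mul, hui, smul_mul_assoc, one_mul]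
        have hyU : y ∈ Cfsg.GU 4 F p := by
          rw [hyg]
          refine (Cfsg.GU 4 F p).mul_mem hgU (hQ_mem_GU hF h2 (a := u * Q.a1) (b := u * Q.b1)
            (hRU (R.mul_mem hu Q.a1_mem)) (hRU (R.mul_mem hu Q.b1_mem)) ?_ ?_ ?_ ?_)
          · rw [huA]; simp [smul_smul, hi, Q.a1_sq]
          · rw [huB]; simp [smul_smul, hi, Q.b1_sq]
          · rw [huA, huB]; simp [smul_smul, hi, Q.anti1]
          · rw [huA, huB]; exact hg'
        have hy1 : y ≠ 1 := fun h => h3 (by
          rw [h, Units.val_one, Matrix.trace_one, hι] at htr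
          norm_num at htr
          linear_combination htr)
        rcases three_frames hF hω hωp h3 hyU hy3 hy1 with ⟨-, -, -, h1⟩ | ⟨c, hc, hcg, -⟩
        · rw [htr] at h1
          exact absurd (show (3 : F) = 0 by linear_combination h1) h3
        · exact ⟨y, hy, conj_of_frames hF (by decide) (by decide) hb hc hbg hcg⟩
    · have hp5 := (orderOf_five_iff p).mp hord
      have hnd : ¬ 5 ∣ Fintype.card F - 1 := by rw [hF]; exact five_not_dvd hp5 (Or.inr rfl)
      obtain ⟨y, hy, hy5, hy1, hyd⟩ := exists_five_exact Q hι h2 D.gen hnd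
      have hyU : y ∈ Cfsg.GU 4 F p := (mem_GU_iff_ctr hF).mpr (by
        have h := preserves_form hRi (ctr hF) (ctr_mul hF) (ctr_one hF) (J := (1 : M4 F)) (Ji := 1)
          (one_mul 1) (one_mul 1)
          (fun s hs => by rw [mul_one]; exact (mem_GU_iff_ctr hF).mp (hRU hs)) hy hy5 (fifth_root hnd).1
        rwa [mul_one] at h)
      exact five_conj (Five.five_ne_zero_of (p := p) hp5)
        (fun c hc h5 hdet => Five.eq_one_of_unitary hF hp5 h5 (mem_G.mp hc).1 hdet) hy
        (mem_G.mpr ⟨hyU, hyd⟩) hy5 hy1 hxG hz (pow_scalar_of_det hι hz (mem_G.mp hxG).2) hns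

end Cfsg.Agent.S6001
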