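import Cfsg.Statements.S6002
import Cfsg.Agent.Lib.Elusive19.Pauli4.Common
import Cfsg.Agent.Lib.Elusive19.Pauli4.Symp

set_option autoImplicit false
open scoped MatrixGroups
open Cfsg

namespace Cfsg.Agent.S6002

open Matrix Lib.Elusive19.Pauli4

local notation "I4" => Fin 2 ⊕ Fin 2

theorem scalar_sq {F : Type*} [Field F] {x : GL I4 F} {c : F} (hx : x ∈ Cfsg.spGL 2 F)
    (h : (x : Matrix I4 I4 F) = c • 1) : c * c = 1 := by
  have h' := hx (Pi.single (Sum.inl 0) 1) (Pi.single (Sum.inr 0) 1)
  change Cfsg.sympForm 2 F ((x : Matrix I4 I4 F) *ᵥ _) ((x : Matrix I4 I4 F) *ᵥ _) = _ at h'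
  rw [h, Matrix.smul_mulVec, Matrix.smul_mulVec, Matrix.one_mulVec, Matrix.one_mulVec, sp_smul_left,
    sp_smul_right, sp_single] at h'
  simp [Matrix.J] at h'
  linear_combination h'

/-- A two by two matrix of determinant one on a hyperbolic pair. -/
theorem exists_emb {F : Type*} [Field F] (C : Matrix (Fin 2) (Fin 2) F)
    (hd : C 0 0 * C 1 1 - C 0 1 * C 1 0 = 1) : ∃ x : GL I4 F, x ∈ Cfsg.spGL 2 F ∧
      (x : Matrix I4 I4 F) = emb (Sum.inl 0) (Sum.inr 0) C := by
  have hM : (emb (Sum.inl 0) (Sum.inr 0) C : Matrix I4 I4 F)ᵀ * Matrix.J (Fin 2) F *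
      emb (Sum.inl 0) (Sum.inr 0) C = Matrix.J (Fin 2) F := by
    ext (i | i) (j | j) <;> fin_cases i <;> fin_cases j <;>
      simp [Matrix.mul_apply, Fintype.sum_sum_type, Fin.sum_univ_two, emb, Matrix.J] <;>
      first
        | ring1
        | linear_combination hd
        | linear_combination -hd
  have hdet : (emb (Sum.inl 0) (Sum.inr 0) C : Matrix I4 I4 F).det ≠ 0 := fun h0 => by
    have := congrArg Matrix.det hM
    rw [Matrix.det_mul, h0, mul_zero] at this
    exact (Matrix.isUnit_det_J (Fin 2) F).ne_zero this.symm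
  exact ⟨Matrix.GeneralLinearGroup.mkOfDetNeZero _ hdet, mem_spGL_of_mat hM, rfl⟩

theorem no_singular_line : ∀ w u : E,
    ¬ (w ≠ 0 ∧ u ≠ 0 ∧ u ≠ w ∧ qf w = 0 ∧ qf u = 0 ∧ qf (w + u) = 0) := by
  unfold qf cs
  decide +kernel

theorem orbit_sum : ∀ w u v : E, w + u + v = 0 → v = w + u := by decide


/-- Elements of prime order of PSp_4(p), p odd, and the normalizer of an extraspecial 2-group of order 2⁵ of minus type. Here `T = PSp_4(F)` for the field `F` with `p` elements, `p` an odd prime, realised through the matrices preserving the standard alternating form `f`; `R` is an absolutely irreducible subgroup of `T` (it preserves `f`) that is a 2-group of symplectic type of exponent 4, order 2⁵ and centre of order 2, of minus type (no elementary abelian subgroup of order 2³), and `H` is the subgroup of `T` normalizing `R` — a subgroup of type 2^{1+4}.O₄⁻(2) (maximality is not assumed). Ω is the set of cosets of `H` in `T`, so an element of `T` of prime order `r` (`x ∈ T` with `x^r` scalar, `x` not scalar) fixes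 a point of Ω exactly when some `T`-conjugate of `x` normalizes `R`. Let `r` be a prime dividing the index of `H`. Then every element of `T` of order `r` fixes a point of Ω if and only if `r = 2`, or `r = 5` and `p` has multiplicative order 4 modulo 5. -/
theorem result {F : Type*} [Field F] [Fintype F] {p : ℕ} [Fact p.Prime] [CharP F p] (hF : Fintype.card F = p) (hodd : Odd p)
    (R : Subgroup (GL (Fin 2 ⊕ Fin 2) F)) (hRs : Cfsg.Geo.IsSymplecticTypeGroup 2 R) (hRi : Cfsg.Geo.ActsAbsolutelyIrreducibly (Cfsg.Geo.matrixSet R))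
    (hRf : R ≤ Cfsg.spGL 2 F) (hR5 : Nat.card R = 2 ^ 5) (hRZ : Nat.card (Subgroup.center R) = 2) (hRm : Cfsg.Geo.IsOfMinusType 2 R)
    (r : ℕ) [Fact r.Prime]
    (hΩ : r ∣ (Cfsg.Geo.subgroupNormalizer R).relIndex (Cfsg.spGL 2 F)) :
    (∀ x ∈ Cfsg.spGL 2 F, (∃ z : F, ((x ^ r : GL (Fin 2 ⊕ Fin 2) F) : Matrix (Fin 2 ⊕ Fin 2) (Fin 2 ⊕ Fin 2) F) = z • (1 : Matrix (Fin 2 ⊕ Fin 2) (Fin 2 ⊕ Fin 2) F)) →
      (∀ z : F, (x : Matrix (Fin 2 ⊕ Fin 2) (Fin 2 ⊕ Fin 2) F) ≠ z • (1 : Matrix (Fin 2 ⊕ Fin 2) (Fin 2 ⊕ Fin 2) F)) →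
      ∃ g ∈ Cfsg.spGL 2 F, g⁻¹ * x * g ∈ Cfsg.Geo.subgroupNormalizer R) ↔ (r = 2 ∨ (r = 5 ∧ orderOf (p : ZMod 5) = 4)) := by
  classical
  have hp := (Fact.out : p.Prime)
  have hp2 : p ≠ 2 := fun h => by subst h; exact absurd hodd (by decide)
  have h2 : (2 : F) ≠ 0 := two_ne_zero_of hp2
  have hcard : Fintype.card F % 2 = 1 := by rw [hF]; exact Nat.odd_iff.mp hodd
  have hι : Fintype.card I4 = 4 := by simp
  obtain ⟨Q⟩ := exists_quad_of_minus hRs hRi hRZ (by omega) hRm h2
  let D : Frame R := ⟨Q, hι, h2, gen_word hRs hRi (Or.inl hRZ) Q hι h2⟩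
  have hRN : R ≤ Cfsg.Geo.subgroupNormalizer R := Subgroup.le_normalizer
  have hscal : ∀ x ∈ Cfsg.spGL 2 F, ∀ c : F, (x : Matrix I4 I4 F) = c • 1 → c ^ 4 = 1 := fun x hx c h => by
    rw [show c ^ 4 = (c * c) * (c * c) by ring, scalar_sq hx h, one_mul]
  have hnotR : r ≠ 2 → r ≠ 3 → r ≠ 5 → 7 ≤ r := by
    intro h h' h''
    have hr := (Fact.out : r.Prime)
    have := hr.two_le
    by_contra hlt
    interval_cases r <;> first | omega | (revert hr; norm_num)
  constructor
  · intro hall
    by_cases hr2 : r = 2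
    · exact Or.inl hr2
    by_cases hr3 : r = 3
    · exfalso
      subst hr3
      by_cases hp3 : p = 3
      · -- a transvection
        obtain ⟨x, hxG, hx⟩ := exists_emb (!![1, 1; 0, 1] : Matrix (Fin 2) (Fin 2) F) (by simp)
        have h3 : (3 : F) = 0 := by
          have := CharP.cast_eq_zero F p
          rw [hp3] at this; exact_mod_cast this
        have hz : ((x ^ 3 : GL I4 F) : Matrix I4 I4 F) = (1 : F) • 1 := by
          rw [Units.val_pow_eq_pow_val, hx, emb_pow (by simp), one_smul, ← emb_one (F := F)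
            (j := (Sum.inl 0 : I4)) (k := Sum.inr 0) (by simp)]
          congr 1
          ext a b
          fin_cases a <;> fin_cases b <;> simp [pow_succ, Matrix.mul_apply, Fin.sum_univ_two]
          linear_combination h3
        have hns : ∀ c : F, (x : Matrix I4 I4 F) ≠ c • 1 := fun c => by
          rw [hx]
          exact emb_ne_scalar (by simp) (l := Sum.inl 1) (by simp) (by simp)
            (fun h => by have := congrFun₂ h 0 1; simp at this) c
        have h9 : 9 ≤ Module.finrank F (Act.commutant x) := by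
          refine nine_le_commutant hι (c := 1) (u := Pi.single (Sum.inl 0) 1)
            (w := Pi.single (Sum.inr 0) 1) ?_ (by simp)
          rw [hx, one_smul]
          ext (a | a) (b | b) <;> fin_cases a <;> fin_cases b <;>
            simp [emb, Matrix.vecMulVec_apply, Matrix.one_apply]
        obtain ⟨g, -, hg⟩ := hall x hxG ⟨1, hz⟩ hns
        exact D.not_conj_three hz hns h9 hg
      · obtain ⟨x, hxG, hx⟩ := exists_emb (!![0, -1; 1, -1] : Matrix (Fin 2) (Fin 2) F) (by simp)
        have hC : (!![0, -1; 1, -1] : Matrix (Fin 2) (Fin 2) F) *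
            !![0, -1; 1, -1] = (-1 : F) • !![0, -1; 1, -1] - 1 :=
          sq_of_det_one (by simp) (by simp)
        have hx3 : x ^ 3 = 1 := Units.ext (by
          rw [Units.val_pow_eq_pow_val, hx, emb_pow (by simp), pow_three_of_sq hC, emb_one (by simp),
            Units.val_one])
        have hns : ∀ c : F, (x : Matrix I4 I4 F) ≠ c • 1 := fun c => by
          rw [hx]
          exact emb_ne_scalar (by simp) (l := Sum.inl 1) (by simp) (by simp)
            (fun h => by have := congrFun₂ h 0 1; simp at this) c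
        have hz : ((x ^ 3 : GL I4 F) : Matrix I4 I4 F) = (1 : F) • 1 := by
          rw [hx3, Units.val_one, one_smul]
        obtain ⟨g, -, hg⟩ := hall x hxG ⟨1, hz⟩ hns
        set y := g⁻¹ * x * g with hy
        obtain ⟨A⟩ := Q.exists_act hι h2 D.gen hg
        have hy3 : y ^ 3 = 1 := Units.ext (by rw [conj_pow_scalar g x 3 hz, one_smul, Units.val_one])
        have ht : ∀ w, A.t w * A.t w = 1 := by
          intro w
          set m := y * Q.W w * y⁻¹ * (Q.W (A.σ w))⁻¹
          have hm : m ∈ R := R.mul_mem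
            ((Subgroup.mem_normalizer_iff.mp hg _).mp (Q.W_mem w)) (R.inv_mem (Q.W_mem _))
          have hmv : (m : Matrix I4 I4 F) = A.t w • 1 := by
            simp only [m, Units.val_mul]
            rw [show (y : Matrix I4 I4 F) * (Q.W w : Matrix I4 I4 F) =
              A.t w • ((Q.W (A.σ w) : Matrix I4 I4 F) * (y : Matrix I4 I4 F)) from A.eq w]
            rw [smul_mul_assoc, smul_mul_assoc, Units.mul_inv_cancel_right, Units.mul_inv]
          have hc := mem_center_of hRs hRi (x := ⟨m, hm⟩) hmv
          have h1 := congrArg (fun t : Subgroup.center R => (((t : R) : GL I4 F) : Matrix I4 I4 F))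
            (pow_card_eq_one' (x := (⟨_, hc⟩ : Subgroup.center R)))
          rw [hRZ] at h1
          simp [pow_two, hmv, smul_smul] at h1
          exact smul_left_injective F (one_ne_zero (α := Matrix I4 I4 F)) (by simpa using h1)
        have hq : ∀ w, qf (A.σ w) = qf w := by
          intro w
          have h1 : (y : Matrix I4 I4 F) * (Q.Wm w * Q.Wm w) =
              (A.t w * A.t w) • (Q.Wm (A.σ w) * Q.Wm (A.σ w) * (y : Matrix I4 I4 F)) := by
            rw [← mul_assoc, A.eq, smul_mul_assoc, mul_assoc, A.eq, mul_smul_comm, smul_smul, ← mul_assoc]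
          rw [show Q.Wm w * Q.Wm w = _ from Q.W_sq w, show Q.Wm (A.σ w) * Q.Wm (A.σ w) = _ from Q.W_sq _,
            ht, one_smul, mul_smul_comm, mul_one, smul_mul_assoc, one_mul] at h1
          exact (sgn_injective h2 (smul_left_injective F y.ne_zero h1)).symm
        have hns' := conj_nonscalar g x hns
        have hz' : ((y ^ 3 : GL I4 F) : Matrix I4 I4 F) = (1 : F) • 1 := conj_pow_scalar g x 3 hz
        have hfix1 : Nat.card {w : E // A.σ w = w} ≠ 1 := by
          intro hf
          haveI : Subsingleton {w : E // A.σ w = w} := Finite.card_le_one_iff_subsingleton.mp hf.le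
          have huniq : ∀ w, A.σ w = w → w = 0 := fun w hw =>
            congrArg Subtype.val (Subsingleton.elim (⟨w, hw⟩ : {w : E // A.σ w = w}) ⟨0, A.σ_zero⟩)
          have h3 := A.σ_pow_eq_one hι h2 hz'
          let w : E := (1, 0, 0, 0)
          have hw : w ≠ 0 := by decide
          have h3' : A.σ (A.σ (A.σ w)) = w := by
            have h' := Equiv.Perm.ext_iff.mp h3 w
            simpa [pow_succ'] using h'
          have hs : w + A.σ w + A.σ (A.σ w) = 0 := huniq _ (by rw [A.add, A.add, h3']; abel)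
          refine no_singular_line w (A.σ w) ⟨hw, fun h => hw (A.σ.injective (h.trans A.σ_zero.symm)),
            fun h => hw (huniq w h), by decide, by rw [hq]; decide, ?_⟩
          rw [← orbit_sum _ _ _ hs, hq, hq]; decide
        have hfix := (((A.commutant_bound hι h2 Nat.prime_three (Or.inl rfl) hz' hns').1 rfl).2).resolve_left hfix1
        have htr := A.trace_mul_trace hι h2
        have hsum : ∑ w ∈ Finset.univ.filter (fun w => A.σ w = w), A.t w = 4 := by
          rw [Finset.sum_congr rfl (g := fun _ => (1 : F)) fun w hw => ?_]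
          · rw [Finset.sum_const, ← Fintype.card_subtype, ← Nat.card_eq_fintype_card, hfix]
            simp
          · have hσ := (Finset.mem_filter.mp hw).2
            have h1 := A.eq w
            rw [hσ] at h1
            set Y : Matrix I4 I4 F := (y : Matrix I4 I4 F) with hY
            have hY3 : Y * (Y * Y) = 1 := by
              have := congrArg Units.val hy3
              simpa [pow_succ', hY] using this
            have h2' : Y * (Y * (Y * Q.Wm w)) = (A.t w * A.t w * A.t w) • (Q.Wm w * (Y * (Y * Y))) := by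
              have hh : ∀ M, Y * (Q.Wm w * M) = A.t w • (Q.Wm w * (Y * M)) := fun M => by
                rw [← mul_assoc, h1, smul_mul_assoc, mul_assoc]
              simp only [h1, mul_smul_comm, hh, smul_smul]
            rw [hY3, mul_one, show Y * (Y * (Y * Q.Wm w)) = Y * (Y * Y) * Q.Wm w by simp only [mul_assoc],
              hY3, one_mul, ht, one_mul] at h2'
            exact (smul_left_injective F (Q.W w).ne_zero ((one_smul F (Q.Wm w)).trans h2')).symm
        have htx : (y : Matrix I4 I4 F).trace * ((y⁻¹ : GL I4 F) : Matrix I4 I4 F).trace = 1 := by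
          have e1 : (y : Matrix I4 I4 F).trace = 1 := by
            rw [hy, Units.val_mul, Units.val_mul, Matrix.trace_mul_cycle, Units.mul_inv, one_mul, hx,
              trace_emb (by simp) hι]
            simp; norm_num
          have e2 : ((y⁻¹ : GL I4 F) : Matrix I4 I4 F).trace = 1 := by
            rw [show y⁻¹ = g⁻¹ * x⁻¹ * g by rw [hy]; group, Units.val_mul, Units.val_mul,
              Matrix.trace_mul_cycle, Units.mul_inv, one_mul,
              show x⁻¹ = x ^ 2 from inv_eq_of_mul_eq_one_right (by rw [← pow_succ']; exact hx3),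
              Units.val_pow_eq_pow_val, hx, emb_pow (by simp), trace_emb (by simp) hι]
            simp [pow_two, Matrix.mul_apply, Fin.sum_univ_two]
            norm_num
          rw [e1, e2, one_mul]
        rw [htr, hsum] at htx
        exact three_ne_zero_of (F := F) hp3 (by linear_combination htx)
    by_cases hr5 : r = 5
    · subst hr5
      by_cases hp5 : p % 5 = 2 ∨ p % 5 = 3
      · exact Or.inr ⟨rfl, (orderOf_five_iff p).mpr hp5⟩
      exfalso
      obtain ⟨t, ht, -⟩ := exists_golden (F := F) hp2 hp5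
      obtain ⟨x, hxG, hx⟩ := exists_emb (!![0, -1; 1, t] : Matrix (Fin 2) (Fin 2) F) (by simp)
      have hz : ((x ^ 5 : GL I4 F) : Matrix I4 I4 F) = (1 : F) • 1 := by
        rw [Units.val_pow_eq_pow_val, hx, emb_pow (by simp),
          pow_five_of_sq (t := t) (sq_of_det_one (by simp) (by simp)) ht, emb_one (by simp), one_smul]
      have hns : ∀ c : F, (x : Matrix I4 I4 F) ≠ c • 1 := fun c => by
        rw [hx]
        exact emb_ne_scalar (by simp) (l := Sum.inl 1) (by simp) (by simp)
          (fun h => by have := congrFun₂ h 0 1; simp at this) c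
      obtain ⟨g, -, hg⟩ := hall x hxG ⟨1, hz⟩ hns
      exact D.not_conj_five hz hns (five_le_emb (by simp) hι hx) hg
    exfalso
    obtain ⟨x, hxG, hz, hns⟩ := exists_large hscal (Fact.out : r.Prime) hr2
      (hΩ.trans (Subgroup.relIndex_dvd_card _ _))
    obtain ⟨g, -, hg⟩ := hall x hxG ⟨1, hz⟩ hns
    exact D.not_conj_large Fact.out (hnotR hr2 hr3 hr5) hz hns hg
  · rintro (rfl | ⟨rfl, hord⟩) x hxG ⟨z, hz⟩ hns
    · have hz2 : z * z = 1 := scalar_sq ((Cfsg.spGL 2 F).pow_mem hxG 2) hz
      rw [Units.val_pow_eq_pow_val, pow_two] at hz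
      have hgen := Q.gens_eq
      rcases mul_self_eq_one_iff.mp hz2 with rfl | rfl
      · obtain ⟨g, hg, hgx⟩ := conj_sp h2 hcard hxG (hRf Q.a1_mem) (Or.inl rfl) hz
          (by rw [Q.a1_sq, one_smul]) hns (fun c hc => by
            rw [hgen.1, ← Q.Wm_zero] at hc
            exact absurd (Q.word_inj hι h2 one_ne_zero ((one_smul F _).trans hc)).1 (by decide))
        exact ⟨g, hg, hgx ▸ hRN Q.a1_mem⟩
      · obtain ⟨g, hg, hgx⟩ := conj_sp h2 hcard hxG (hRf Q.a2_mem) (Or.inr rfl) hz
          (by rw [Q.a2_sq, neg_one_smul]) hns (fun c hc => by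
            rw [hgen.2.2.1, ← Q.Wm_zero] at hc
            exact absurd (Q.word_inj hι h2 one_ne_zero ((one_smul F _).trans hc)).1 (by decide))
        exact ⟨g, hg, hgx ▸ hRN Q.a2_mem⟩
    · have hp5 := (orderOf_five_iff p).mp hord
      have hnd : ¬ 5 ∣ Fintype.card F - 1 := by
        rw [hF]; simpa using five_not_dvd hp5 (Or.inl rfl)
      obtain ⟨y, hy, hy5, hy1, -⟩ := exists_five_exact Q hι h2 D.gen hnd
      have hyG : y ∈ Cfsg.spGL 2 F := mem_spGL_of_mat
        (preserves_form hRi Matrix.transpose Matrix.transpose_mul Matrix.transpose_one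
          (J := Matrix.J (Fin 2) F) (Ji := -Matrix.J (Fin 2) F)
          (by rw [neg_mul, Matrix.J_squared, neg_neg]) (by rw [mul_neg, Matrix.J_squared, neg_neg])
          (fun s hs => mat_of_mem_spGL (hRf hs)) hy hy5 (fifth_root hnd).1)
      exact five_conj (Five.five_ne_zero_of (p := p) hp5)
        (fun c _ h5 hdet => Five.eq_one_of_prime_field hF hι hp5 h5 hdet) hy hyG hy5 hy1 hxG hz
        (hscal _ ((Cfsg.spGL 2 F).pow_mem hxG 5) z hz) hns

end Cfsg.Agent.S6002
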